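import Cfsg.Agent.Lib.Helper28.CeDefs
import Cfsg.Agent.Lib.Helper28.CePData

set_option autoImplicit false
set_option linter.all false
set_option maxRecDepth 1000000
set_option Elab.async false

/-! Kernel-evaluated checks for the centraliser of an involution of the Held group. -/

namespace Cfsg.Agent.Lib.Helper28.CeChk

open Cfsg.Agent.Lib.Helper28 Cfsg.Agent.Lib.Helper28.CeGen Cfsg.Agent.Lib.Helper28.CeData
open Cfsg.Agent.Lib.Helper28.HeMultGen Cfsg.Agent.Lib.Helper28.SpAlphaChk
open Cfsg.Agent.Lib.Helper28.CeMat Cfsg.Agent.Lib.Helper28.CeDefs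

theorem gw_letters : allList (allLetters (fun l => Nat.blt l 14)) CeData.gwL = true := by decide +kernel

theorem rel_lt : allList (allLetters (fun l => Nat.blt l 8)) CePData.rels = true := by decide +kernel

theorem rel_letters :
    allList (fun w => allLetters (fun l => Nat.blt l 14) (substL CeData.gwL w)) CePData.rels = true := by
  decide +kernel

theorem rel_fix : allList (fun w => fix4 (substL CeData.gwL w)) CePData.rels = true := by decide +kernel

/-- commutators of the four generators with the involution `e` -/
def commW : List (List Nat) := [[0, 8, 1, 9], [2, 8, 3, 9], [4, 8, 5, 9], [6, 8, 7, 9]]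

theorem comm_letters :
    allList (fun w => allLetters (fun l => Nat.blt l 14) (substL (CeData.gwL ++ [[8]]) w)) commW = true := by
  decide +kernel

theorem comm_fix : allList (fun w => fix4 (substL (CeData.gwL ++ [[8]]) w)) commW = true := by decide +kernel

theorem e_moves : Nat.beq (walkT HeData.cert 5 [8]) 5 = false := by decide +kernel

theorem rel_mat : allList (fun w => Nat.beq (vwalk 1 w) 1 && Nat.beq (vwalk 2 w) 2 &&
    Nat.beq (vwalk 4 w) 4 && Nat.beq (vwalk 8 w) 8 && Nat.beq (vwalk 16 w) 16) CePData.rels = true := by
  decide +kernel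

end Cfsg.Agent.Lib.Helper28.CeChk
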