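import Cfsg.Agent.Lib.Helper28.TCDefs

set_option autoImplicit false

namespace Cfsg.Agent.Lib.Helper28

section Sound

variable {G : Type*} [Group G] {X : Type*} [MulAction G X]

/-- right action derived from the left action -/
def ract (x : X) (g : G) : X := g⁻¹ • x

theorem ract_one (x : X) : ract x (1 : G) = x := by simp [ract]

theorem ract_mul (x : X) (g h : G) : ract x (g * h) = ract (ract x g) h := by
  simp [ract, mul_smul]

theorem ract_inv_cancel (x : X) (g : G) : ract (ract x g) g⁻¹ = x := by
  simp [ract]

theorem ract_cancel_inv (x : X) (g : G) : ract (ract x g⁻¹) g = x := by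
  simp [ract]

def letG (gam : Nat → G) (l : Nat) : G :=
  cond (Nat.beq (l % 2) 0) (gam (l / 2)) (gam (l / 2))⁻¹

def evw (gam : Nat → G) : List Nat → G
  | [] => 1
  | l :: w => letG gam l * evw gam w

theorem flipL_even (l : Nat) (h : l % 2 = 0) : flipL l = l + 1 := by
  simp [flipL, h]

theorem beq_one_zero : Nat.beq 1 0 = false := rfl

theorem flipL_odd (l : Nat) (h : l % 2 = 1) : flipL l = l - 1 := by
  simp [flipL, h, beq_one_zero]

theorem letG_flipL (gam : Nat → G) (l : Nat) : letG gam (flipL l) = (letG gam l)⁻¹ := by
  rcases Nat.mod_two_eq_zero_or_one l with h | h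
  · have h1 : (l + 1) % 2 = 1 := by omega
    have h2 : (l + 1) / 2 = l / 2 := by omega
    simp [letG, flipL_even l h, h, h1, h2, beq_one_zero]
  · have h1 : (l - 1) % 2 = 0 := by omega
    have h2 : (l - 1) / 2 = l / 2 := by omega
    simp [letG, flipL_odd l h, h, h1, h2, beq_one_zero]

theorem evw_append (gam : Nat → G) (a b : List Nat) :
    evw gam (a ++ b) = evw gam a * evw gam b := by
  induction a with
  | nil => simp [evw]
  | cons l w ih => simp [evw, ih, mul_assoc]

theorem evw_invw (gam : Nat → G) (w : List Nat) : evw gam (invw w) = (evw gam w)⁻¹ := by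
  induction w with
  | nil => simp [evw, invw]
  | cons l w ih => simp [evw, invw, evw_append, ih, letG_flipL]

theorem evw_pieceB (gam : Nat → G) (lbl : Nat) :
    evw gam (pieceB lbl) = (evw gam (pieceF lbl))⁻¹ := by
  by_cases h : lbl = 0
  · simp [pieceB, pieceF, h, evw]
  · have : Nat.beq lbl 0 = false := by
      cases lbl with
      | zero => exact absurd rfl h
      | succ n => rfl
    simp [pieceB, pieceF, this, evw, letG_flipL]

theorem eqList_eq : ∀ (a b : List Nat), eqList a b = true → a = b
  | [], [], _ => rfl
  | [], _ :: _, h => by simp [eqList] at h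
  | _ :: _, [], h => by simp [eqList] at h
  | a :: as, b :: bs, h => by
    simp only [eqList] at h
    by_cases hab : Nat.beq a b = true
    · rw [hab] at h
      simp only [cond_true] at h
      have h1 : a = b := Nat.eq_of_beq_eq_true hab
      have h2 := eqList_eq as bs h
      rw [h1, h2]
    · have : Nat.beq a b = false := Bool.eq_false_iff.mpr hab
      rw [this] at h
      simp at h

variable (C : Cert) (gam : Nat → G) (x0 : X)

def cvalAux : Nat → Nat → X
  | 0, _ => x0
  | fuel + 1, v =>
    if v = 0 then x0 else
      if C.D v % BB < v then ract (cvalAux fuel (C.D v % BB)) (letG gam (C.D v / BB)) else x0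

def cval (v : Nat) : X := cvalAux C gam x0 v v

theorem cvalAux_stable : ∀ (v fuel : Nat), v ≤ fuel → cvalAux C gam x0 fuel v = cvalAux C gam x0 v v := by
  intro v
  induction v using Nat.strong_induction_on with
  | _ v ih =>
    intro fuel hf
    cases v with
    | zero =>
      cases fuel with
      | zero => rfl
      | succ f => simp [cvalAux]
    | succ v =>
      cases fuel with
      | zero => omega
      | succ f =>
        simp only [cvalAux]
        by_cases hp : C.D (v + 1) % BB < v + 1
        · simp only [hp, if_true]
          have h1 := ih (C.D (v + 1) % BB) hp f (by omega)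
          have h2 := ih (C.D (v + 1) % BB) hp v (by omega)
          rw [h1, h2]
        · simp [hp]

theorem cval_zero : cval C gam x0 0 = x0 := rfl

theorem cval_def (v : Nat) (hv : v ≠ 0) (hp : C.D v % BB < v) :
    cval C gam x0 v = ract (cval C gam x0 (C.D v % BB)) (letG gam (C.D v / BB)) := by
  cases v with
  | zero => exact absurd rfl hv
  | succ v =>
    unfold cval
    simp only [cvalAux]
    simp only [hp, if_true]
    rw [cvalAux_stable C gam x0 (C.D (v + 1) % BB) v (by omega)]
    simp

def factHolds (f : Nat) : Prop :=
  ract (cval C gam x0 (fU f)) (evw gam (pieceF (fL f))) = cval C gam x0 (fV f)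

theorem factHolds_back (f : Nat) (h : factHolds C gam x0 f) :
    ract (cval C gam x0 (fV f)) (evw gam (pieceB (fL f))) = cval C gam x0 (fU f) := by
  unfold factHolds at h
  rw [evw_pieceB, ← h, ract_inv_cancel]

theorem walk_sound (lim : Nat) (hlim : ∀ i, i < lim → factHolds C gam x0 (C.F i)) :
    ∀ (steps : List Nat) (cur e : Nat) (W : List Nat),
      walk C.F lim cur steps = some (e, W) →
      cval C gam x0 e = ract (cval C gam x0 cur) (evw gam W) := by
  intro steps
  induction steps with
  | nil =>
    intro cur e W h
    simp only [walk, Option.some.injEq, Prod.mk.injEq] at h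
    obtain ⟨rfl, rfl⟩ := h
    simp [evw, ract_one]
  | cons s rest ih =>
    intro cur e W h
    simp only [walk] at h
    by_cases hl : Nat.blt (s / 2) lim = true
    · rw [hl] at h
      simp only [cond_true] at h
      have hlt : s / 2 < lim := by
        simpa [Nat.blt] using hl
      have hf := hlim (s / 2) hlt
      by_cases hd : Nat.beq (s % 2) 0 = true
      · rw [hd] at h
        simp only [cond_true] at h
        by_cases hu : Nat.beq (fU (C.F (s / 2))) cur = true
        · rw [hu] at h
          simp only [cond_true] at h
          have hu' : fU (C.F (s / 2)) = cur := Nat.eq_of_beq_eq_true hu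
          cases hw : walk C.F lim (fV (C.F (s / 2))) rest with
          | none => rw [hw] at h; simp at h
          | some r =>
            obtain ⟨e', W'⟩ := r
            rw [hw] at h
            simp only [Option.some.injEq, Prod.mk.injEq] at h
            obtain ⟨rfl, rfl⟩ := h
            have := ih _ _ _ hw
            rw [this, evw_append, ract_mul, ← hu']
            congr 1
            exact hf.symm
        · have : Nat.beq (fU (C.F (s / 2))) cur = false := Bool.eq_false_iff.mpr hu
          rw [this] at h
          simp at h
      · have hd' : Nat.beq (s % 2) 0 = false := Bool.eq_false_iff.mpr hd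
        rw [hd'] at h
        simp only [cond_false] at h
        by_cases hu : Nat.beq (fV (C.F (s / 2))) cur = true
        · rw [hu] at h
          simp only [cond_true] at h
          have hu' : fV (C.F (s / 2)) = cur := Nat.eq_of_beq_eq_true hu
          cases hw : walk C.F lim (fU (C.F (s / 2))) rest with
          | none => rw [hw] at h; simp at h
          | some r =>
            obtain ⟨e', W'⟩ := r
            rw [hw] at h
            simp only [Option.some.injEq, Prod.mk.injEq] at h
            obtain ⟨rfl, rfl⟩ := h
            have := ih _ _ _ hw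
            rw [this, evw_append, ract_mul, ← hu']
            congr 1
            exact (factHolds_back C gam x0 _ hf).symm
        · have : Nat.beq (fV (C.F (s / 2))) cur = false := Bool.eq_false_iff.mpr hu
          rw [this] at h
          simp at h
    · have : Nat.blt (s / 2) lim = false := Bool.eq_false_iff.mpr hl
      rw [this] at h
      simp at h

theorem checkDef_sound (f : Nat) (h : checkDef C f = true) : factHolds C gam x0 f := by
  simp only [checkDef, Bool.and_eq_true] at h
  obtain ⟨h1, h2, h3⟩ := h
  have h1' : fU f < fV f := by simpa [Nat.blt] using h1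
  have h2' : C.D (fV f) % BB = fU f := Nat.eq_of_beq_eq_true h2
  have h3' : C.D (fV f) / BB + 1 = fL f := Nat.eq_of_beq_eq_true h3
  have hv : fV f ≠ 0 := by omega
  have hp : C.D (fV f) % BB < fV f := by omega
  unfold factHolds
  rw [cval_def C gam x0 (fV f) hv hp, h2', ← h3']
  have hb : Nat.beq (C.D (fV f) / BB + 1) 0 = false := rfl
  simp [pieceF, evw, hb]

theorem getD_mem_or (l : List (List Nat)) (idx : Nat) : l.getD idx [] ∈ l ∨ l.getD idx [] = [] := by
  by_cases h : idx < l.length
  · left
    rw [List.getD_eq_getElem _ _ h]
    exact List.getElem_mem h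
  · right
    exact List.getD_eq_default _ _ (by omega)

theorem eqLL_eq : ∀ (a b : List (List Nat)), eqLL a b = true → a = b
  | [], [], _ => rfl
  | [], _ :: _, h => by simp [eqLL] at h
  | _ :: _, [], h => by simp [eqLL] at h
  | a :: as, b :: bs, h => by
    simp only [eqLL] at h
    by_cases hab : eqList a b = true
    · rw [hab] at h
      simp only [cond_true] at h
      rw [eqList_eq a b hab, eqLL_eq as bs h]
    · have : eqList a b = false := Bool.eq_false_iff.mpr hab
      rw [this] at h
      simp at h

theorem getD2_mem_or (l : List (List (List Nat))) (a b : Nat) :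
    (l.getD a []).getD b [] ∈ l.flatten ∨ (l.getD a []).getD b [] = [] := by
  by_cases h : a < l.length
  · rw [List.getD_eq_getElem _ _ h]
    rcases getD_mem_or l[a] b with h2 | h2
    · left
      exact List.mem_flatten.mpr ⟨l[a], List.getElem_mem h, h2⟩
    · right; exact h2
  · right
    have h1 : l.getD a [] = [] := List.getD_eq_default _ _ (by omega)
    rw [h1]
    rfl

theorem relWord_fix (kind idx start : Nat) (hr2 : checkRels2 C = true)
    (hrels : ∀ w ∈ C.rels, ∀ x : X, ract x (evw gam w) = x)
    (hsubs : ∀ w ∈ C.subs, ract x0 (evw gam w) = x0)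
    (hk : cond (Nat.beq kind 2) (Nat.beq start 0) true = true) :
    ract (cval C gam x0 start) (evw gam (relWord C kind idx)) = cval C gam x0 start := by
  unfold relWord
  by_cases h1 : Nat.beq kind 1 = true
  · rw [h1]
    simp only [cond_true]
    rcases getD2_mem_or C.rels2 (idx / 8) (idx % 8) with h | h
    · rw [eqLL_eq _ _ hr2] at h
      exact hrels _ h _
    · rw [h]; simp [evw, ract_one]
  · have h1' : Nat.beq kind 1 = false := Bool.eq_false_iff.mpr h1
    rw [h1']
    simp only [cond_false]
    by_cases h2 : Nat.beq kind 2 = true
    · rw [h2] at hk ⊢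
      simp only [cond_true] at hk ⊢
      have hs : start = 0 := Nat.eq_of_beq_eq_true hk
      rw [hs, cval_zero]
      rcases getD_mem_or C.subs idx with h | h
      · exact hsubs _ h
      · rw [h]; simp [evw, ract_one]
    · have h2' : Nat.beq kind 2 = false := Bool.eq_false_iff.mpr h2
      rw [h2']
      simp only [cond_false]
      simp [evw, letG_flipL, ract_one]

theorem checkCyc_sound (i f kind dir idx start : Nat) (pre post : List Nat) (hr2 : checkRels2 C = true)
    (hlim : ∀ i', i' < i → factHolds C gam x0 (C.F i'))
    (hrels : ∀ w ∈ C.rels, ∀ x : X, ract x (evw gam w) = x)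
    (hsubs : ∀ w ∈ C.subs, ract x0 (evw gam w) = x0)
    (h : checkCyc C i f kind dir idx start pre post = true) : factHolds C gam x0 f := by
  unfold checkCyc at h
  cases hw1 : walk C.F i start pre with
  | none => rw [hw1] at h; simp at h
  | some r1 =>
    obtain ⟨P, A⟩ := r1
    cases hw2 : walk C.F i start post with
    | none => rw [hw1, hw2] at h; simp at h
    | some r2 =>
      obtain ⟨Q, Dw⟩ := r2
      rw [hw1, hw2] at h
      simp only [Bool.and_eq_true] at h
      obtain ⟨hmain, hk⟩ := h
      have hP := walk_sound C gam x0 i hlim pre start P A hw1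
      have hQ := walk_sound C gam x0 i hlim post start Q Dw hw2
      have hR := relWord_fix C gam x0 kind idx start hr2 hrels hsubs hk
      by_cases hd : Nat.beq dir 0 = true
      · rw [hd] at hmain
        simp only [cond_true, Bool.and_eq_true] at hmain
        obtain ⟨hU, hV, hE⟩ := hmain
        have hU' : fU f = P := Nat.eq_of_beq_eq_true hU
        have hV' : fV f = Q := Nat.eq_of_beq_eq_true hV
        have hE' := eqList_eq _ _ hE
        rw [← hE', evw_append, evw_append, evw_invw, ract_mul, ract_mul, ← hP] at hR
        unfold factHolds
        rw [hU', hV', hQ, ← hR, ract_cancel_inv]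
      · have hd' : Nat.beq dir 0 = false := Bool.eq_false_iff.mpr hd
        rw [hd'] at hmain
        simp only [cond_false, Bool.and_eq_true] at hmain
        obtain ⟨hU, hV, hE⟩ := hmain
        have hU' : fU f = Q := Nat.eq_of_beq_eq_true hU
        have hV' : fV f = P := Nat.eq_of_beq_eq_true hV
        have hE' := eqList_eq _ _ hE
        rw [← hE', evw_append, evw_append, evw_invw, ract_mul, ract_mul, ← hP, evw_pieceB] at hR
        unfold factHolds
        rw [hU', hV', hQ, ← hR, ract_cancel_inv, ract_cancel_inv]

theorem checkFact_sound (i : Nat) (hr2 : checkRels2 C = true)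
    (hlim : ∀ i', i' < i → factHolds C gam x0 (C.F i'))
    (hrels : ∀ w ∈ C.rels, ∀ x : X, ract x (evw gam w) = x)
    (hsubs : ∀ w ∈ C.subs, ract x0 (evw gam w) = x0)
    (h : checkFact C i = true) : factHolds C gam x0 (C.F i) := by
  unfold checkFact at h
  simp only at h
  by_cases hk : Nat.beq (C.J i % 4) 0 = true
  · rw [hk] at h
    simp only [cond_true] at h
    exact checkDef_sound C gam x0 _ h
  · have hk' : Nat.beq (C.J i % 4) 0 = false := Bool.eq_false_iff.mpr hk
    rw [hk'] at h
    simp only [cond_false] at h
    exact checkCyc_sound C gam x0 _ _ _ _ _ _ _ _ hr2 hlim hrels hsubs h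

theorem all_facts (hr2 : checkRels2 C = true)
    (hrels : ∀ w ∈ C.rels, ∀ x : X, ract x (evw gam w) = x)
    (hsubs : ∀ w ∈ C.subs, ract x0 (evw gam w) = x0)
    (hall : ∀ i, i < C.nF → checkFact C i = true) :
    ∀ i, i < C.nF → factHolds C gam x0 (C.F i) := by
  intro i
  induction i using Nat.strong_induction_on with
  | _ i ih =>
    intro hi
    exact checkFact_sound C gam x0 i hr2 (fun i' hi' => ih i' hi' (by omega)) hrels hsubs (hall i hi)

theorem allRange_sound (f : Nat → Bool) (lo : Nat) :
    ∀ (len : Nat), allRange f lo len = true → ∀ i, lo ≤ i → i < lo + len → f i = true := by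
  intro len
  induction len with
  | zero => intro _ i h1 h2; omega
  | succ n ih =>
    intro h i h1 h2
    simp only [allRange] at h
    by_cases hf : f (lo + n) = true
    · rw [hf] at h
      simp only [cond_true] at h
      by_cases hi : i = lo + n
      · rw [hi]; exact hf
      · exact ih h i h1 (by omega)
    · have : f (lo + n) = false := Bool.eq_false_iff.mpr hf
      rw [this] at h
      simp at h

end Sound

end Cfsg.Agent.Lib.Helper28
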