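import Cfsg.Agent.Lib.Helper28.CeData
import Cfsg.Agent.Lib.Helper28.TCSound

set_option autoImplicit false
set_option linter.all false
set_option maxRecDepth 1000000

/-! Four explicit matrices of determinant one over the field with two elements and the action of
words in them on row vectors, computed through a table. -/

namespace Cfsg.Agent.Lib.Helper28.CeMat

open Cfsg.Agent.Lib.Helper28 Cfsg.Agent.Lib.Helper28.CeData
open Matrix

abbrev M5 : Type := Matrix (Fin 5) (Fin 5) (ZMod 2)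

abbrev SL5 : Type := Matrix.SpecialLinearGroup (Fin 5) (ZMod 2)

/-- field element coded by a number -/
def ofN (n : ℕ) : ZMod 2 := if n % 2 = 0 then 0 else 1

/-- row vector coded by a number (binary digits) -/
def dec (n : ℕ) : Fin 5 → ZMod 2 := fun j => ofN (n / 2 ^ j.val)

/-- the matrix with the given coded rows -/
def mkM (r : List ℕ) : M5 := Matrix.of fun i j => ofN (r.getD i.val 0 / 2 ^ j.val)

/-- the four generator matrices -/
def Bmat (i : ℕ) : M5 := mkM (rowsL.getD i [])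

theorem Bmat_sq : ∀ i : Fin 4, Bmat i.val * Bmat i.val = 1 := by decide +kernel

theorem zmod2_sq : ∀ d : ZMod 2, d * d = 1 → d = 1 := by decide

theorem Bmat_det (i : Fin 4) : (Bmat i.val).det = 1 := by
  apply zmod2_sq
  rw [← Matrix.det_mul, Bmat_sq i, Matrix.det_one]

theorem letters_ok : ∀ i : Fin 4, ∀ n : Fin 32,
    dec n.val ᵥ* Bmat i.val = dec (vT5 (n.val * 8 + 2 * i.val)) := by
  decide +kernel

theorem range_ok : ∀ i : Fin 256, vT5 i.val < 32 := by decide +kernel

theorem inv_ok : ∀ i : Fin 4, ∀ n : Fin 32,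
    vT5 (vT5 (n.val * 8 + (2 * i.val + 1)) * 8 + 2 * i.val) = n.val := by decide +kernel

theorem dec_inj : ∀ a b : Fin 32, dec a.val = dec b.val → a = b := by decide +kernel

/-- the four generators as elements of the special linear group -/
def B (x : Fin 4) : SL5 := ⟨Bmat x.val, Bmat_det x⟩

/-- walking in the vector table -/
noncomputable def vwalk : ℕ → List ℕ → ℕ
  | p, [] => p
  | p, l :: w => vwalk (vT5 (p * 8 + l)) w

theorem vT_lt (n l : ℕ) (hn : n < 32) (hl : l < 8) : vT5 (n * 8 + l) < 32 := by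
  have h : n * 8 + l < 256 := by omega
  exact range_ok ⟨n * 8 + l, h⟩

theorem vwalk_lt (w : List ℕ) (hw : ∀ l ∈ w, l < 8) : ∀ n, n < 32 → vwalk n w < 32 := by
  induction w with
  | nil => intro n hn; exact hn
  | cons l w ih =>
    intro n hn
    exact ih (fun l' hl' => hw l' (by simp [hl'])) _ (vT_lt n l hn (hw l (by simp)))

theorem act_mul (A C : SL5) (v : Fin 5 → ZMod 2) :
    v ᵥ* (↑(A * C) : M5) = (v ᵥ* (↑A : M5)) ᵥ* (↑C : M5) := by
  rw [Matrix.vecMul_vecMul, Matrix.SpecialLinearGroup.coe_mul]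

theorem act_one (v : Fin 5 → ZMod 2) : v ᵥ* (↑(1 : SL5) : M5) = v := by
  rw [Matrix.SpecialLinearGroup.coe_one]
  exact Matrix.vecMul_one v

theorem act_inv (A : SL5) (v v' : Fin 5 → ZMod 2) (h : v' ᵥ* (↑A : M5) = v) :
    v ᵥ* (↑(A⁻¹) : M5) = v' := by
  rw [← h, ← act_mul, mul_inv_cancel, act_one]

theorem act_letter (g : ℕ → SL5) (hg : ∀ i, g i = B (Fin.ofNat 4 i)) (l n : ℕ) (hl : l < 8)
    (hn : n < 32) : dec n ᵥ* (↑(letG g l) : M5) = dec (vT5 (n * 8 + l)) := by
  have hi : l / 2 < 4 := by omega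
  have hB : (↑(g (l / 2)) : M5) = Bmat (l / 2) := by
    rw [hg]
    show Bmat ((Fin.ofNat 4 (l / 2)).val) = _
    congr 1
    exact Nat.mod_eq_of_lt hi
  rcases Nat.mod_two_eq_zero_or_one l with h | h
  · have e : letG g l = g (l / 2) := by simp [letG, h]
    rw [e, hB]
    have := letters_ok ⟨l / 2, hi⟩ ⟨n, hn⟩
    have e2 : 2 * (l / 2) = l := by omega
    simp only [e2] at this
    exact this
  · have e : letG g l = (g (l / 2))⁻¹ := by simp [letG, h, beq_one_zero]
    rw [e]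
    apply act_inv
    rw [hB]
    have hm : vT5 (n * 8 + l) < 32 := vT_lt n l hn hl
    have := letters_ok ⟨l / 2, hi⟩ ⟨vT5 (n * 8 + l), hm⟩
    have e2 : 2 * (l / 2) + 1 = l := by omega
    have hinv := inv_ok ⟨l / 2, hi⟩ ⟨n, hn⟩
    simp only [e2] at hinv
    simp only [hinv] at this
    exact this

theorem act_word (g : ℕ → SL5) (hg : ∀ i, g i = B (Fin.ofNat 4 i)) (w : List ℕ)
    (hw : ∀ l ∈ w, l < 8) : ∀ n, n < 32 →
    dec n ᵥ* (↑(evw g w) : M5) = dec (vwalk n w) := by
  induction w with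
  | nil =>
    intro n hn
    exact act_one _
  | cons l w ih =>
    intro n hn
    have hl : l < 8 := hw l (by simp)
    show dec n ᵥ* (↑(letG g l * evw g w) : M5) = dec (vwalk (vT5 (n * 8 + l)) w)
    rw [act_mul, act_letter g hg l n hl hn]
    exact ih (fun l' hl' => hw l' (by simp [hl'])) _ (vT_lt n l hn hl)

theorem dec_single : ∀ s : Fin 5, dec (2 ^ s.val) = Pi.single s 1 := by decide +kernel

/-- a word whose walks fix the five basis vectors evaluates to the identity -/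
theorem word_one (g : ℕ → SL5) (hg : ∀ i, g i = B (Fin.ofNat 4 i)) (w : List ℕ)
    (hw : ∀ l ∈ w, l < 8) (h : ∀ s : Fin 5, vwalk (2 ^ s.val) w = 2 ^ s.val) : evw g w = 1 := by
  apply Subtype.ext
  show (↑(evw g w) : M5) = 1
  ext s t
  have h1 := act_word g hg w hw (2 ^ s.val) (by revert s; decide)
  rw [h s, dec_single, Matrix.single_one_vecMul] at h1
  have h2 : (↑(evw g w) : M5) s t = (Pi.single s 1 : Fin 5 → ZMod 2) t := congrFun h1 t
  rw [h2, Matrix.one_apply, Pi.single_apply]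
  by_cases hst : s = t
  · simp [hst]
  · have hts : ¬ t = s := fun h => hst h.symm
    simp [hst, hts]

/-- the code of the matrix of a word -/
noncomputable def codeM (w : List ℕ) : ℕ :=
  vwalk 1 w + 32 * (vwalk 2 w + 32 * (vwalk 4 w + 32 * (vwalk 8 w + 32 * vwalk 16 w)))

theorem vwalk_eq_of_evw_eq (g : ℕ → SL5) (hg : ∀ i, g i = B (Fin.ofNat 4 i)) (w1 w2 : List ℕ)
    (h1 : ∀ l ∈ w1, l < 8) (h2 : ∀ l ∈ w2, l < 8) (h : evw g w1 = evw g w2) (n : ℕ) (hn : n < 32) :
    vwalk n w1 = vwalk n w2 := by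
  have e1 := act_word g hg w1 h1 n hn
  have e2 := act_word g hg w2 h2 n hn
  rw [h] at e1
  have e3 : dec (vwalk n w1) = dec (vwalk n w2) := e1.symm.trans e2
  have := dec_inj ⟨vwalk n w1, vwalk_lt w1 h1 n hn⟩ ⟨vwalk n w2, vwalk_lt w2 h2 n hn⟩ e3
  exact congrArg Fin.val this

theorem codeM_eq_of_evw_eq (g : ℕ → SL5) (hg : ∀ i, g i = B (Fin.ofNat 4 i)) (w1 w2 : List ℕ)
    (h1 : ∀ l ∈ w1, l < 8) (h2 : ∀ l ∈ w2, l < 8) (h : evw g w1 = evw g w2) :
    codeM w1 = codeM w2 := by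
  unfold codeM
  rw [vwalk_eq_of_evw_eq g hg w1 w2 h1 h2 h 1 (by omega),
    vwalk_eq_of_evw_eq g hg w1 w2 h1 h2 h 2 (by omega),
    vwalk_eq_of_evw_eq g hg w1 w2 h1 h2 h 4 (by omega),
    vwalk_eq_of_evw_eq g hg w1 w2 h1 h2 h 8 (by omega),
    vwalk_eq_of_evw_eq g hg w1 w2 h1 h2 h 16 (by omega)]

/-- the generators commute with the transvection -/
theorem Bmat_comm : ∀ i : Fin 4, Bmat i.val * Matrix.transvection 0 1 1 =
    Matrix.transvection 0 1 1 * Bmat i.val := by decide +kernel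

end Cfsg.Agent.Lib.Helper28.CeMat
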