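import Cfsg.Agent.Lib.Helper28.PGen
import Cfsg.Agent.Lib.Helper89.SafePres

set_option autoImplicit false
set_option linter.all false

/-! Generic tools for bounding the order of a group given by power relators and conjugation relators
on four generators, through a chain of three coset enumerations
(`⟨t0, t1⟩` over the trivial subgroup, `⟨t0, t1, t2⟩` over `⟨t0, t1⟩`, everything over `⟨t0, t1, t2⟩`). -/

namespace Cfsg.Agent.Lib.Helper28.HeMultGen

open Cfsg.Agent.Lib.Helper28 Cfsg.Agent.Lib.Helper28.PGen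
open Cfsg.Agent.Lib.Helper89.CosetCert Cfsg.Agent.Lib.Helper89.SafePres

/-- the four generators -/
abbrev Gen : Type := Fin 4

def genOf : ℕ → Gen := fun i => Fin.ofNat 4 i

def idx : Gen → ℕ := fun x => x.val

theorem hidx : ∀ x : Gen, idx x < 4 ∧ genOf (idx x) = x := by decide

theorem hgi : ∀ i, i < 4 → idx (genOf i) = i := by
  intro i hi
  interval_cases i <;> rfl

/-- the two notions of evaluation of a word agree -/
theorem ev_eq_evw {L : Type*} [Group L] (t : ℕ → L) (w : List ℕ) : ev t w = evw t w := by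
  induction w with
  | nil => rfl
  | cons l w ih =>
    rw [ev_cons, ih]
    show _ = letG t l * _
    congr 1
    unfold lv letG
    rcases Nat.mod_two_eq_zero_or_one l with h | h
    · simp [h]
    · simp [h, beq_one_zero]

section Chain

variable (Ca Cb Cc : Cert)

/-- images in `PG Rb` of the generators of the first presentation -/
noncomputable def fA (R : List (List Nat)) (m : ℕ) : Gen → PG genOf R :=
  fun x => if x.val < m then PresentedGroup.of x else 1

theorem fA_genOf (R : List (List Nat)) (m : ℕ) (hm : m ≤ 4) (i : ℕ) (hi : i < m) :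
    fA R m (genOf i) = PresentedGroup.of (genOf i) := by
  unfold fA
  have : (genOf i).val = i := by
    show i % 4 = i
    exact Nat.mod_eq_of_lt (by omega)
  rw [if_pos (by rw [this]; exact hi)]

theorem evw_single_one {K : Type*} [Group K] (g : ℕ → K) (l : ℕ) (hl : l % 2 = 0) (h : g (l / 2) = 1) :
    evw g [l] = 1 := by
  simp [evw, letG, hl, h]

/-- relators of a sub-presentation hold in the bigger presented group when the extra generators
are sent to `1` -/
theorem sub_rels (R R' : List (List Nat)) (m : ℕ) (hm : m ≤ 4)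
    (key : ∀ w ∈ R', (∃ j, m ≤ j ∧ j < 4 ∧ w = [2 * j]) ∨ (w ∈ R ∧ ∀ l ∈ w, l / 2 < m)) :
    ∀ w ∈ R', evw (fun i => fA R m (genOf i)) w = 1 := by
  intro w hw
  rcases key w hw with ⟨j, hj1, hj2, rfl⟩ | ⟨hr, hl⟩
  · apply evw_single_one
    · omega
    · show fA R m (genOf (2 * j / 2)) = 1
      have e : 2 * j / 2 = j := by omega
      rw [e]
      unfold fA
      have : (genOf j).val = j := by
        show j % 4 = j
        exact Nat.mod_eq_of_lt hj2
      rw [if_neg (by rw [this]; omega)]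
  · rw [evw_congr' _ (fun i => (PresentedGroup.of (genOf i) : PG genOf R)) w]
    · exact rel_one genOf R w hr
    · intro l hlw
      exact fA_genOf R m hm _ (hl l hlw)

/-- the image of the subgroup generated by the first `m` generators -/
noncomputable abbrev KK (R : List (List Nat)) (S : Set (FreeGroup Gen)) : Subgroup (PG genOf R) :=
  (Subgroup.closure S).map (PresentedGroup.mk (wordsSet genOf R))

theorem KK_le (R : List (List Nat)) (S : Set (FreeGroup Gen)) (m : ℕ)
    (hS : ∀ s ∈ S, ∃ x : Gen, x.val < m ∧ s = FreeGroup.of x) :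
    KK R S ≤ Subgroup.closure (Set.range (fA R m)) := by
  show (Subgroup.closure S).map (PresentedGroup.mk (wordsSet genOf R)) ≤ _
  rw [MonoidHom.map_closure]
  apply Subgroup.closure_mono
  rintro _ ⟨s, hs, rfl⟩
  obtain ⟨x, hx, rfl⟩ := hS s hs
  exact ⟨x, by unfold fA; rw [if_pos hx]; rfl⟩

/-- generators of the subgroup `⟨t0, t1⟩` -/
abbrev S2 : Set (FreeGroup Gen) := {FreeGroup.of 0, FreeGroup.of 1}

/-- generators of the subgroup `⟨t0, t1, t2⟩` -/
abbrev S3 : Set (FreeGroup Gen) := {FreeGroup.of 0, FreeGroup.of 1, FreeGroup.of 2}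

theorem hsub1_2 : ∀ s ∈ S2, ∃ w ∈ [[0], [2]], s = wordF genOf w := by
  intro s hs
  simp only [S2, Set.mem_insert_iff, Set.mem_singleton_iff] at hs
  rcases hs with rfl | rfl
  · exact ⟨[0], by decide, rfl⟩
  · exact ⟨[2], by decide, rfl⟩

theorem hsub2_2 : ∀ w ∈ [[0], [2]], wordF genOf w ∈ S2 := by
  intro w hw
  simp only [List.mem_cons, List.not_mem_nil, or_false] at hw
  rcases hw with rfl | rfl
  · exact Or.inl rfl
  · exact Or.inr rfl

theorem hsub1_3 : ∀ s ∈ S3, ∃ w ∈ [[0], [2], [4]], s = wordF genOf w := by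
  intro s hs
  simp only [S3, Set.mem_insert_iff, Set.mem_singleton_iff] at hs
  rcases hs with rfl | rfl | rfl
  · exact ⟨[0], by decide, rfl⟩
  · exact ⟨[2], by decide, rfl⟩
  · exact ⟨[4], by decide, rfl⟩

theorem hsub2_3 : ∀ w ∈ [[0], [2], [4]], wordF genOf w ∈ S3 := by
  intro w hw
  simp only [List.mem_cons, List.not_mem_nil, or_false] at hw
  rcases hw with rfl | rfl | rfl
  · exact Or.inl rfl
  · exact Or.inr (Or.inl rfl)
  · exact Or.inr (Or.inr rfl)

theorem S2_gen : ∀ s ∈ S2, ∃ x : Gen, x.val < 2 ∧ s = FreeGroup.of x := by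
  intro s hs
  simp only [S2, Set.mem_insert_iff, Set.mem_singleton_iff] at hs
  rcases hs with rfl | rfl
  · exact ⟨0, by decide, rfl⟩
  · exact ⟨1, by decide, rfl⟩

theorem S3_gen : ∀ s ∈ S3, ∃ x : Gen, x.val < 3 ∧ s = FreeGroup.of x := by
  intro s hs
  simp only [S3, Set.mem_insert_iff, Set.mem_singleton_iff] at hs
  rcases hs with rfl | rfl | rfl
  · exact ⟨0, by decide, rfl⟩
  · exact ⟨1, by decide, rfl⟩
  · exact ⟨2, by decide, rfl⟩

/-- the chain of three enumerations bounds the order of the group presented by the relators of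
the last certificate -/
theorem chain_bound (hka : Ca.k = 4) (hkb : Cb.k = 4) (hkc : Cc.k = 4)
    (hsa : Ca.subs = []) (hsb : Cb.subs = [[0], [2]]) (hsc : Cc.subs = [[0], [2], [4]])
    (ha2 : checkRels2 Ca = true) (haf : ∀ i, i < Ca.nF → checkFact Ca i = true)
    (hap : ∀ p, p < Ca.n → checkPoint Ca p = true) (hag : checkGlobal Ca = true)
    (hb2 : checkRels2 Cb = true) (hbf : ∀ i, i < Cb.nF → checkFact Cb i = true)
    (hbp : ∀ p, p < Cb.n → checkPoint Cb p = true) (hbg : checkGlobal Cb = true)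
    (hc2 : checkRels2 Cc = true) (hcf : ∀ i, i < Cc.nF → checkFact Cc i = true)
    (hcp : ∀ p, p < Cc.n → checkPoint Cc p = true) (hcg : checkGlobal Cc = true)
    (keyA' : ∀ w ∈ Ca.rels, w = [4] ∨ w = [6] ∨ (w ∈ Cb.rels ∧ ∀ l ∈ w, l / 2 < 2))
    (keyB' : ∀ w ∈ Cb.rels, w = [6] ∨ (w ∈ Cc.rels ∧ ∀ l ∈ w, l / 2 < 3)) :
    Finite (PG genOf Cc.rels) ∧ Nat.card (PG genOf Cc.rels) ≤ Cc.n * (Cb.n * Ca.n) := by
  have keyA : ∀ w ∈ Ca.rels, (∃ j, 2 ≤ j ∧ j < 4 ∧ w = [2 * j]) ∨
      (w ∈ Cb.rels ∧ ∀ l ∈ w, l / 2 < 2) := by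
    intro w hw
    rcases keyA' w hw with rfl | rfl | h
    · exact Or.inl ⟨2, by omega, by omega, rfl⟩
    · exact Or.inl ⟨3, by omega, by omega, rfl⟩
    · exact Or.inr h
  have keyB : ∀ w ∈ Cb.rels, (∃ j, 3 ≤ j ∧ j < 4 ∧ w = [2 * j]) ∨
      (w ∈ Cc.rels ∧ ∀ l ∈ w, l / 2 < 3) := by
    intro w hw
    rcases keyB' w hw with rfl | h
    · exact Or.inl ⟨3, by omega, by omega, rfl⟩
    · exact Or.inr h
  have hidxa : ∀ a : Gen, idx a < Ca.k ∧ genOf (idx a) = a := by rw [hka]; exact hidx
  have hidxb : ∀ a : Gen, idx a < Cb.k ∧ genOf (idx a) = a := by rw [hkb]; exact hidx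
  have hidxc : ∀ a : Gen, idx a < Cc.k ∧ genOf (idx a) = a := by rw [hkc]; exact hidx
  have hgia : ∀ i, i < Ca.k → idx (genOf i) = i := by rw [hka]; exact hgi
  have hgib : ∀ i, i < Cb.k → idx (genOf i) = i := by rw [hkb]; exact hgi
  have hgic : ∀ i, i < Cc.k → idx (genOf i) = i := by rw [hkc]; exact hgi
  -- first stage
  obtain ⟨hfa, hca⟩ := card_of_trivial genOf idx Ca.rels Ca hidxa hgia rfl hsa ha2 haf hap hag
  -- second stage
  obtain ⟨φb, hSb⟩ := setup_of genOf idx Cb.rels S2 Cb hidxb hgib rfl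
    (by rw [hsb]; exact hsub1_2) (by rw [hsb]; exact hsub2_2) hb2 hbf hbp hbg
  have hKb := card_le_of_lift genOf Ca.rels (fA Cb.rels 2) (sub_rels Cb.rels Ca.rels 2 (by omega) keyA)
    (KK Cb.rels S2) (KK_le Cb.rels S2 2 S2_gen)
  rw [hca] at hKb
  haveI := hKb.1
  obtain ⟨hfb, hcb⟩ := card_of_setup' hSb
  have hcb' : Nat.card (PG genOf Cb.rels) ≤ Cb.n * Ca.n := by
    rw [hcb]
    exact Nat.mul_le_mul_left _ hKb.2
  -- third stage
  obtain ⟨φc, hSc⟩ := setup_of genOf idx Cc.rels S3 Cc hidxc hgic rfl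
    (by rw [hsc]; exact hsub1_3) (by rw [hsc]; exact hsub2_3) hc2 hcf hcp hcg
  have hKc := card_le_of_lift genOf Cb.rels (fA Cc.rels 3) (sub_rels Cc.rels Cb.rels 3 (by omega) keyB)
    (KK Cc.rels S3) (KK_le Cc.rels S3 3 S3_gen)
  haveI := hKc.1
  obtain ⟨hfc, hcc⟩ := card_of_setup' hSc
  refine ⟨hfc, ?_⟩
  rw [hcc]
  exact Nat.mul_le_mul_left _ (le_trans hKc.2 hcb')

end Chain

/-- the bound needed by the criterion for conjugation presentations -/
theorem hbound_of (R : List (List Nat)) [Finite (PG genOf R)] (N : ℕ)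
    (hN : Nat.card (PG genOf R) ≤ N) (ord : ℕ → ℕ) (srels : List SRel)
    (hR : R = (List.range 4).map (fun i => powWord (ord i) i) ++ srels.map SRel.word)
    (hlet : ∀ w ∈ R, ∀ l ∈ w, l / 2 < 4)
    {L : Type*} [Group L] (t : ℕ → L) (ht : ∀ i, t i ^ ord i = 1)
    (hs : ∀ r ∈ srels, ev t r.word = 1) :
    Nat.card (Subgroup.closure {y | ∃ i < 4, y = t i}) ≤ N := by
  have hval : ∀ w ∈ R, evw (fun i => (fun x : Gen => t x.val) (genOf i)) w = 1 := by
    intro w hw
    rw [evw_congr' _ t w]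
    · rw [← ev_eq_evw]
      rw [hR, List.mem_append, List.mem_map, List.mem_map] at hw
      rcases hw with ⟨i, _, rfl⟩ | ⟨r, hr, rfl⟩
      · rw [ev_powWord]; exact ht i
      · exact hs r hr
    · intro l hl
      show t ((genOf (l / 2)).val) = t (l / 2)
      congr 1
      show l / 2 % 4 = l / 2
      exact Nat.mod_eq_of_lt (hlet w hw l hl)
  have hle : Subgroup.closure {y | ∃ i < 4, y = t i} ≤
      Subgroup.closure (Set.range (fun x : Gen => t x.val)) := by
    apply Subgroup.closure_mono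
    rintro y ⟨i, hi, rfl⟩
    exact ⟨⟨i, hi⟩, rfl⟩
  exact le_trans (card_le_of_lift genOf R (fun x : Gen => t x.val) hval _ hle).2 hN

/-- substitution of the words of the list `L` for the letters of a word -/
def substL (L : List (List Nat)) : List Nat → List Nat
  | [] => []
  | l :: w => cond (Nat.beq (l % 2) 0) (L.getD (l / 2) []) (invw (L.getD (l / 2) [])) ++ substL L w

theorem evw_substL {K : Type*} [Group K] (gam : ℕ → K) (L : List (List Nat)) (w : List ℕ) :
    evw gam (substL L w) = evw (fun i => evw gam (L.getD i [])) w := by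
  induction w with
  | nil => rfl
  | cons l w ih =>
    rw [substL, evw_append, ih]
    show _ = letG _ l * _
    congr 1
    unfold letG
    rcases Nat.mod_two_eq_zero_or_one l with h | h
    · simp [h]
    · simp [h, evw_invw, beq_one_zero]

/-- words in the first `m` generators lie in the subgroup they generate -/
theorem evw_mem_closure {L : Type*} [Group L] (t : ℕ → L) (m : ℕ) (w : List ℕ)
    (hw : ∀ l ∈ w, l < 2 * m) : evw t w ∈ Subgroup.closure {y | ∃ i < m, y = t i} := by
  rw [← ev_eq_evw]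
  exact ev_mem_of_letters t (Subgroup.closure {y | ∃ i < m, y = t i}) m
    (fun i hi => Subgroup.subset_closure (show t i ∈ {y | ∃ i < m, y = t i} from ⟨i, hi, rfl⟩)) w hw

end Cfsg.Agent.Lib.Helper28.HeMultGen
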