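import Cfsg.Agent.Lib.Helper28.HeData
import Cfsg.Agent.Lib.Helper28.TCSound

set_option autoImplicit false
set_option maxRecDepth 1000000
set_option linter.all false
set_option Elab.async false

namespace Cfsg.Agent.Lib.Helper28.HeData

open Cfsg.Agent.Lib.Helper28

theorem chkF_2000 : allRange (checkFact cert) 2000 2000 = true := by decide +kernel
theorem chkF_8000 : allRange (checkFact cert) 8000 2000 = true := by decide +kernel
theorem chkF_14000 : allRange (checkFact cert) 14000 2000 = true := by decide +kernel
theorem chkF_20000 : allRange (checkFact cert) 20000 2000 = true := by decide +kernel
theorem chkF_26000 : allRange (checkFact cert) 26000 2000 = true := by decide +kernel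
theorem chkP_100 : allRange (fun p => checkPoint cert p && checkOrb cert p) 100 100 = true := by decide +kernel
theorem chkP_400 : allRange (fun p => checkPoint cert p && checkOrb cert p) 400 100 = true := by decide +kernel
theorem chkP_700 : allRange (fun p => checkPoint cert p && checkOrb cert p) 700 100 = true := by decide +kernel
theorem chkP_1000 : allRange (fun p => checkPoint cert p && checkOrb cert p) 1000 100 = true := by decide +kernel
theorem chkP_1300 : allRange (fun p => checkPoint cert p && checkOrb cert p) 1300 100 = true := by decide +kernel
theorem chkP_1600 : allRange (fun p => checkPoint cert p && checkOrb cert p) 1600 100 = true := by decide +kernel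
theorem chkP_1900 : allRange (fun p => checkPoint cert p && checkOrb cert p) 1900 100 = true := by decide +kernel

end Cfsg.Agent.Lib.Helper28.HeData
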