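import Cfsg.Agent.Lib.Helper28.SpQData
import Cfsg.Agent.Lib.Helper28.HeChk

set_option autoImplicit false
set_option linter.all false
set_option maxRecDepth 1000000
set_option Elab.async false

namespace Cfsg.Agent.Lib.Helper28.SpAlphaChk

open Cfsg.Agent.Lib.Helper28

/-- words in the generators of the Held group for the six generators `c, d, e, f, h, u` -/
def gwL : List (List Nat) := [[4], [6], [8], [10], [2, 4, 6, 8, 2, 4, 6, 8, 2, 4, 6, 8, 2, 4, 6, 8, 2, 4, 6, 8, 2, 4, 6, 8, 2, 4, 6, 8, 10, 6, 8, 4, 6, 10, 9, 7, 5, 3, 9, 7, 5, 3, 9, 7, 5, 3, 9, 7, 5, 3, 9, 7, 5, 3, 9, 7, 5, 3, 9, 7, 5, 3, 10, 6, 4, 6, 10, 9, 7, 5, 3, 9, 7, 5, 3, 9, 7, 5, 3, 9, 7, 5, 3, 9, 7, 5, 3, 9, 7, 5, 3, 9, 7, 5, 3], [2, 4, 6, 8, 2, 4, 6, 8, 2, 4, 6, 8, 2, 4, 6, 8, 2, 4, 6, 8, 2, 4, 6, 8, 2, 4, 6, 8]]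

def gw (i : Nat) : List Nat := gwL.getD (i % 6) []

/-- substitution of the words `gw` in a word in the six generators -/
def subst : List Nat → List Nat
  | [] => []
  | l :: w => cond (Nat.beq (l % 2) 0) (gw (l / 2)) (invw (gw (l / 2))) ++ subst w

noncomputable def fix4 (v : List Nat) : Bool :=
  Nat.beq (walkT HeData.cert 0 v) 0 && Nat.beq (walkT HeData.cert 1 v) 1 &&
    Nat.beq (walkT HeData.cert 28 v) 28 && Nat.beq (walkT HeData.cert 5 v) 5

theorem gw_letters : allList (allLetters (fun l => Nat.blt l 14)) gwL = true := by decide +kernel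

theorem gw_fix0 : allList (fun w => Nat.beq (walkT HeData.cert 0 w) 0) gwL = true := by decide +kernel

theorem rel_letters : allList (fun w => allLetters (fun l => Nat.blt l 14) (subst w)) SpQData.rels = true := by
  decide +kernel

theorem rel_fix : allList (fun w => fix4 (subst w)) SpQData.rels = true := by decide +kernel

theorem c_moves : Nat.beq (walkT HeData.cert 1 [4]) 1 = false := by decide +kernel

end Cfsg.Agent.Lib.Helper28.SpAlphaChk
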