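import Cfsg.Agent.Lib.Helper28.CeData
import Cfsg.Agent.Lib.Helper28.CeMat
import Cfsg.Agent.Lib.Helper28.HeMultGen
import Cfsg.Agent.Lib.Helper28.SpAlphaChk

set_option autoImplicit false
set_option linter.all false
set_option maxRecDepth 1000000

/-! Codes of the elements of the three lists. -/

namespace Cfsg.Agent.Lib.Helper28.CeDefs

open Cfsg.Agent.Lib.Helper28 Cfsg.Agent.Lib.Helper28.CeGen Cfsg.Agent.Lib.Helper28.CeData
open Cfsg.Agent.Lib.Helper28.HeMultGen Cfsg.Agent.Lib.Helper28.CeMat

/-- the code of the images of the four base points under a word -/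
noncomputable def codeHe (v : List Nat) : Nat :=
  ((walkT HeData.cert 0 v * 4096 + walkT HeData.cert 1 v) * 4096 + walkT HeData.cert 28 v) * 4096 +
    walkT HeData.cert 5 v

/-- codes of the first list: elements of the centraliser -/
noncomputable def cA (i : Nat) : Nat := codeHe (substL CeData.gwL (wA i))

/-- codes of the second list: matrices -/
noncomputable def cB (i : Nat) : Nat := codeM (wB i)

/-- the conjugate of the involution `e` by the `i`-th word of the third list -/
noncomputable def cwC (i : Nat) : List Nat := invw (wC i) ++ (8 :: wC i)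

noncomputable def cC (i : Nat) : Nat := codeHe (cwC i)

end Cfsg.Agent.Lib.Helper28.CeDefs
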