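import Cfsg.Agent.Lib.Helper28.TCSound

set_option autoImplicit false
set_option linter.all false

/-! Generic tools: lower bounds for the size of a set from a list of elements with strictly
increasing codes; words packed in natural numbers; the size of a centraliser from the size of the
conjugacy class. -/

namespace Cfsg.Agent.Lib.Helper28.CeGen

open Cfsg.Agent.Lib.Helper28

/-- codes increasing at consecutive indices are strictly increasing -/
theorem lt_of_consecutive (c : ℕ → ℕ) (N : ℕ) (hinc : ∀ i, i + 1 < N → c i < c (i + 1)) :
    ∀ j, j < N → ∀ i, i < j → c i < c j := by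
  intro j
  induction j with
  | zero => intro _ i hi; omega
  | succ j ih =>
    intro hj i hi
    have h1 := hinc j hj
    rcases Nat.lt_or_ge i j with h | h
    · exact lt_trans (ih (by omega) i h) h1
    · have : i = j := by omega
      rw [this]; exact h1

/-- a list of elements of a finite set with strictly increasing codes bounds its size from below -/
theorem card_ge_of_codes {K : Type*} (S : Set K) (hS : S.Finite) (e : ℕ → K) (c : ℕ → ℕ) (N : ℕ)
    (hmem : ∀ i, i < N → e i ∈ S) (hc : ∀ i j, i < N → j < N → e i = e j → c i = c j)
    (hinc : ∀ i, i + 1 < N → c i < c (i + 1)) : N ≤ Nat.card S := by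
  have hlt := lt_of_consecutive c N hinc
  haveI : Finite S := hS
  let f : Fin N → S := fun i => ⟨e i.val, hmem i.val i.isLt⟩
  have hf : Function.Injective f := by
    intro i j hij
    have h1 : e i.val = e j.val := congrArg Subtype.val hij
    have h2 := hc i.val j.val i.isLt j.isLt h1
    apply Fin.ext
    rcases Nat.lt_trichotomy i.val j.val with h | h | h
    · have := hlt j.val j.isLt i.val h; omega
    · exact h
    · have := hlt i.val i.isLt j.val h; omega
  have := Nat.card_le_card_of_injective f hf
  simpa using this

/-- decoding of a word: `n` letters of `bits` bits each, each digit `d` giving the letter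
`2 * (d % md)` -/
def unpackGo (bits md : Nat) : Nat → Nat → List Nat
  | 0, _ => []
  | n + 1, y => (2 * (Nat.land y (2 ^ bits - 1) % md)) :: unpackGo bits md n (Nat.shiftRight y bits)

/-- decoding of a word whose length is stored in the lowest `lenBits` bits -/
def unpack (lenBits bits md : Nat) (x : Nat) : List Nat :=
  unpackGo bits md (Nat.land x (2 ^ lenBits - 1)) (Nat.shiftRight x lenBits)

theorem unpackGo_lt (bits md : Nat) (hmd : 0 < md) : ∀ n y, ∀ l ∈ unpackGo bits md n y, l < 2 * md := by
  intro n
  induction n with
  | zero => intro y l hl; simp [unpackGo] at hl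
  | succ n ih =>
    intro y l hl
    simp only [unpackGo, List.mem_cons] at hl
    rcases hl with rfl | hl
    · have := Nat.mod_lt (Nat.land y (2 ^ bits - 1)) hmd
      omega
    · exact ih _ l hl

theorem unpack_lt (lenBits bits md : Nat) (hmd : 0 < md) (x : Nat) :
    ∀ l ∈ unpack lenBits bits md x, l < 2 * md :=
  unpackGo_lt bits md hmd _ _

/-- the `i`-th field of width `w` of a packed table -/
def field (T w i : Nat) : Nat := Nat.land (Nat.shiftRight T (w * i)) (2 ^ w - 1)

/-- consecutive codes are increasing (a check meant for kernel evaluation) -/
def incCheck (c : Nat → Nat) (N : Nat) : Bool :=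
  allRange (fun i => Nat.blt (c i) (c (i + 1))) 0 (N - 1)

theorem incCheck_sound (c : Nat → Nat) (N : Nat) (h : incCheck c N = true) :
    ∀ i, i + 1 < N → c i < c (i + 1) := by
  intro i hi
  have := allRange_sound _ 0 (N - 1) h i (by omega) (by omega)
  simpa [Nat.blt] using this

section Cent

variable {G : Type*} [Group G] [Finite G]

/-- the order of a centraliser times the size of the conjugacy class is the order of the group -/
theorem card_class_mul_card_centralizer (z : G) :
    Nat.card {y : G | IsConj y z} * Nat.card (Subgroup.centralizer ({z} : Set G)) = Nat.card G := by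
  rw [Subgroup.nat_card_centralizer_nat_card_stabilizer]
  have e := MulAction.orbitProdStabilizerEquivGroup (ConjAct G) z
  have h := Nat.card_congr e
  rw [Nat.card_prod] at h
  have hset : {y : G | IsConj y z} = MulAction.orbit (ConjAct G) z := by
    ext y
    rw [ConjAct.mem_orbit_conjAct]
    rfl
  rw [hset, h]
  rfl

/-- a lower bound for the class gives an upper bound for the centraliser -/
theorem card_centralizer_mul_le (z : G) (N : ℕ) (hN : N ≤ Nat.card {y : G | IsConj y z}) :
    N * Nat.card (Subgroup.centralizer ({z} : Set G)) ≤ Nat.card G := by
  rw [← card_class_mul_card_centralizer z]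
  exact Nat.mul_le_mul_right _ hN

end Cent

end Cfsg.Agent.Lib.Helper28.CeGen
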