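import Cfsg.Agent.Lib.Helper28.CeIncA0
import Cfsg.Agent.Lib.Helper28.CeIncA1
import Cfsg.Agent.Lib.Helper28.TCSound

set_option autoImplicit false
set_option linter.all false
set_option maxRecDepth 1000000

namespace Cfsg.Agent.Lib.Helper28.CeInc

open Cfsg.Agent.Lib.Helper28 Cfsg.Agent.Lib.Helper28.CeDefs

theorem incA_all : ∀ i, i + 1 < 21504 → cA i < cA (i + 1) := by
  intro i hi
  have hb : Nat.blt (cA i) (cA (i + 1)) = true := by
    rcases Nat.lt_or_ge i 10750 with h2 | h2
    · skip
      rcases Nat.lt_or_ge i 5250 with h3 | h3
      · skip
        rcases Nat.lt_or_ge i 2500 with h4 | h4
        · skip
          rcases Nat.lt_or_ge i 1250 with h5 | h5
          · skip
            rcases Nat.lt_or_ge i 500 with h6 | h6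
            · skip
              rcases Nat.lt_or_ge i 250 with h7 | h7
              · skip
                exact allRange_sound _ 0 250 incA_0 i (by omega) (by omega)
              · skip
                exact allRange_sound _ 250 250 incA_250 i (by omega) (by omega)
            · skip
              rcases Nat.lt_or_ge i 750 with h7 | h7
              · skip
                exact allRange_sound _ 500 250 incA_500 i (by omega) (by omega)
              · skip
                rcases Nat.lt_or_ge i 1000 with h8 | h8
                · skip
                  exact allRange_sound _ 750 250 incA_750 i (by omega) (by omega)
                · skip
                  exact allRange_sound _ 1000 250 incA_1000 i (by omega) (by omega)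
          · skip
            rcases Nat.lt_or_ge i 1750 with h6 | h6
            · skip
              rcases Nat.lt_or_ge i 1500 with h7 | h7
              · skip
                exact allRange_sound _ 1250 250 incA_1250 i (by omega) (by omega)
              · skip
                exact allRange_sound _ 1500 250 incA_1500 i (by omega) (by omega)
            · skip
              rcases Nat.lt_or_ge i 2000 with h7 | h7
              · skip
                exact allRange_sound _ 1750 250 incA_1750 i (by omega) (by omega)
              · skip
                rcases Nat.lt_or_ge i 2250 with h8 | h8
                · skip
                  exact allRange_sound _ 2000 250 incA_2000 i (by omega) (by omega)
                · skip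
                  exact allRange_sound _ 2250 250 incA_2250 i (by omega) (by omega)
        · skip
          rcases Nat.lt_or_ge i 3750 with h5 | h5
          · skip
            rcases Nat.lt_or_ge i 3000 with h6 | h6
            · skip
              rcases Nat.lt_or_ge i 2750 with h7 | h7
              · skip
                exact allRange_sound _ 2500 250 incA_2500 i (by omega) (by omega)
              · skip
                exact allRange_sound _ 2750 250 incA_2750 i (by omega) (by omega)
            · skip
              rcases Nat.lt_or_ge i 3250 with h7 | h7
              · skip
                exact allRange_sound _ 3000 250 incA_3000 i (by omega) (by omega)
              · skip
                rcases Nat.lt_or_ge i 3500 with h8 | h8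
                · skip
                  exact allRange_sound _ 3250 250 incA_3250 i (by omega) (by omega)
                · skip
                  exact allRange_sound _ 3500 250 incA_3500 i (by omega) (by omega)
          · skip
            rcases Nat.lt_or_ge i 4500 with h6 | h6
            · skip
              rcases Nat.lt_or_ge i 4000 with h7 | h7
              · skip
                exact allRange_sound _ 3750 250 incA_3750 i (by omega) (by omega)
              · skip
                rcases Nat.lt_or_ge i 4250 with h8 | h8
                · skip
                  exact allRange_sound _ 4000 250 incA_4000 i (by omega) (by omega)
                · skip
                  exact allRange_sound _ 4250 250 incA_4250 i (by omega) (by omega)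
            · skip
              rcases Nat.lt_or_ge i 4750 with h7 | h7
              · skip
                exact allRange_sound _ 4500 250 incA_4500 i (by omega) (by omega)
              · skip
                rcases Nat.lt_or_ge i 5000 with h8 | h8
                · skip
                  exact allRange_sound _ 4750 250 incA_4750 i (by omega) (by omega)
                · skip
                  exact allRange_sound _ 5000 250 incA_5000 i (by omega) (by omega)
      · skip
        rcases Nat.lt_or_ge i 8000 with h4 | h4
        · skip
          rcases Nat.lt_or_ge i 6500 with h5 | h5
          · skip
            rcases Nat.lt_or_ge i 5750 with h6 | h6
            · skip
              rcases Nat.lt_or_ge i 5500 with h7 | h7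
              · skip
                exact allRange_sound _ 5250 250 incA_5250 i (by omega) (by omega)
              · skip
                exact allRange_sound _ 5500 250 incA_5500 i (by omega) (by omega)
            · skip
              rcases Nat.lt_or_ge i 6000 with h7 | h7
              · skip
                exact allRange_sound _ 5750 250 incA_5750 i (by omega) (by omega)
              · skip
                rcases Nat.lt_or_ge i 6250 with h8 | h8
                · skip
                  exact allRange_sound _ 6000 250 incA_6000 i (by omega) (by omega)
                · skip
                  exact allRange_sound _ 6250 250 incA_6250 i (by omega) (by omega)
          · skip
            rcases Nat.lt_or_ge i 7250 with h6 | h6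
            · skip
              rcases Nat.lt_or_ge i 6750 with h7 | h7
              · skip
                exact allRange_sound _ 6500 250 incA_6500 i (by omega) (by omega)
              · skip
                rcases Nat.lt_or_ge i 7000 with h8 | h8
                · skip
                  exact allRange_sound _ 6750 250 incA_6750 i (by omega) (by omega)
                · skip
                  exact allRange_sound _ 7000 250 incA_7000 i (by omega) (by omega)
            · skip
              rcases Nat.lt_or_ge i 7500 with h7 | h7
              · skip
                exact allRange_sound _ 7250 250 incA_7250 i (by omega) (by omega)
              · skip
                rcases Nat.lt_or_ge i 7750 with h8 | h8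
                · skip
                  exact allRange_sound _ 7500 250 incA_7500 i (by omega) (by omega)
                · skip
                  exact allRange_sound _ 7750 250 incA_7750 i (by omega) (by omega)
        · skip
          rcases Nat.lt_or_ge i 9250 with h5 | h5
          · skip
            rcases Nat.lt_or_ge i 8500 with h6 | h6
            · skip
              rcases Nat.lt_or_ge i 8250 with h7 | h7
              · skip
                exact allRange_sound _ 8000 250 incA_8000 i (by omega) (by omega)
              · skip
                exact allRange_sound _ 8250 250 incA_8250 i (by omega) (by omega)
            · skip
              rcases Nat.lt_or_ge i 8750 with h7 | h7
              · skip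
                exact allRange_sound _ 8500 250 incA_8500 i (by omega) (by omega)
              · skip
                rcases Nat.lt_or_ge i 9000 with h8 | h8
                · skip
                  exact allRange_sound _ 8750 250 incA_8750 i (by omega) (by omega)
                · skip
                  exact allRange_sound _ 9000 250 incA_9000 i (by omega) (by omega)
          · skip
            rcases Nat.lt_or_ge i 10000 with h6 | h6
            · skip
              rcases Nat.lt_or_ge i 9500 with h7 | h7
              · skip
                exact allRange_sound _ 9250 250 incA_9250 i (by omega) (by omega)
              · skip
                rcases Nat.lt_or_ge i 9750 with h8 | h8
                · skip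
                  exact allRange_sound _ 9500 250 incA_9500 i (by omega) (by omega)
                · skip
                  exact allRange_sound _ 9750 250 incA_9750 i (by omega) (by omega)
            · skip
              rcases Nat.lt_or_ge i 10250 with h7 | h7
              · skip
                exact allRange_sound _ 10000 250 incA_10000 i (by omega) (by omega)
              · skip
                rcases Nat.lt_or_ge i 10500 with h8 | h8
                · skip
                  exact allRange_sound _ 10250 250 incA_10250 i (by omega) (by omega)
                · skip
                  exact allRange_sound _ 10500 250 incA_10500 i (by omega) (by omega)
    · skip
      rcases Nat.lt_or_ge i 16250 with h3 | h3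
      · skip
        rcases Nat.lt_or_ge i 13500 with h4 | h4
        · skip
          rcases Nat.lt_or_ge i 12000 with h5 | h5
          · skip
            rcases Nat.lt_or_ge i 11250 with h6 | h6
            · skip
              rcases Nat.lt_or_ge i 11000 with h7 | h7
              · skip
                exact allRange_sound _ 10750 250 incA_10750 i (by omega) (by omega)
              · skip
                exact allRange_sound _ 11000 250 incA_11000 i (by omega) (by omega)
            · skip
              rcases Nat.lt_or_ge i 11500 with h7 | h7
              · skip
                exact allRange_sound _ 11250 250 incA_11250 i (by omega) (by omega)
              · skip
                rcases Nat.lt_or_ge i 11750 with h8 | h8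
                · skip
                  exact allRange_sound _ 11500 250 incA_11500 i (by omega) (by omega)
                · skip
                  exact allRange_sound _ 11750 250 incA_11750 i (by omega) (by omega)
          · skip
            rcases Nat.lt_or_ge i 12750 with h6 | h6
            · skip
              rcases Nat.lt_or_ge i 12250 with h7 | h7
              · skip
                exact allRange_sound _ 12000 250 incA_12000 i (by omega) (by omega)
              · skip
                rcases Nat.lt_or_ge i 12500 with h8 | h8
                · skip
                  exact allRange_sound _ 12250 250 incA_12250 i (by omega) (by omega)
                · skip
                  exact allRange_sound _ 12500 250 incA_12500 i (by omega) (by omega)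
            · skip
              rcases Nat.lt_or_ge i 13000 with h7 | h7
              · skip
                exact allRange_sound _ 12750 250 incA_12750 i (by omega) (by omega)
              · skip
                rcases Nat.lt_or_ge i 13250 with h8 | h8
                · skip
                  exact allRange_sound _ 13000 250 incA_13000 i (by omega) (by omega)
                · skip
                  exact allRange_sound _ 13250 250 incA_13250 i (by omega) (by omega)
        · skip
          rcases Nat.lt_or_ge i 14750 with h5 | h5
          · skip
            rcases Nat.lt_or_ge i 14000 with h6 | h6
            · skip
              rcases Nat.lt_or_ge i 13750 with h7 | h7
              · skip
                exact allRange_sound _ 13500 250 incA_13500 i (by omega) (by omega)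
              · skip
                exact allRange_sound _ 13750 250 incA_13750 i (by omega) (by omega)
            · skip
              rcases Nat.lt_or_ge i 14250 with h7 | h7
              · skip
                exact allRange_sound _ 14000 250 incA_14000 i (by omega) (by omega)
              · skip
                rcases Nat.lt_or_ge i 14500 with h8 | h8
                · skip
                  exact allRange_sound _ 14250 250 incA_14250 i (by omega) (by omega)
                · skip
                  exact allRange_sound _ 14500 250 incA_14500 i (by omega) (by omega)
          · skip
            rcases Nat.lt_or_ge i 15500 with h6 | h6
            · skip
              rcases Nat.lt_or_ge i 15000 with h7 | h7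
              · skip
                exact allRange_sound _ 14750 250 incA_14750 i (by omega) (by omega)
              · skip
                rcases Nat.lt_or_ge i 15250 with h8 | h8
                · skip
                  exact allRange_sound _ 15000 250 incA_15000 i (by omega) (by omega)
                · skip
                  exact allRange_sound _ 15250 250 incA_15250 i (by omega) (by omega)
            · skip
              rcases Nat.lt_or_ge i 15750 with h7 | h7
              · skip
                exact allRange_sound _ 15500 250 incA_15500 i (by omega) (by omega)
              · skip
                rcases Nat.lt_or_ge i 16000 with h8 | h8
                · skip
                  exact allRange_sound _ 15750 250 incA_15750 i (by omega) (by omega)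
                · skip
                  exact allRange_sound _ 16000 250 incA_16000 i (by omega) (by omega)
      · skip
        rcases Nat.lt_or_ge i 19000 with h4 | h4
        · skip
          rcases Nat.lt_or_ge i 17500 with h5 | h5
          · skip
            rcases Nat.lt_or_ge i 16750 with h6 | h6
            · skip
              rcases Nat.lt_or_ge i 16500 with h7 | h7
              · skip
                exact allRange_sound _ 16250 250 incA_16250 i (by omega) (by omega)
              · skip
                exact allRange_sound _ 16500 250 incA_16500 i (by omega) (by omega)
            · skip
              rcases Nat.lt_or_ge i 17000 with h7 | h7
              · skip
                exact allRange_sound _ 16750 250 incA_16750 i (by omega) (by omega)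
              · skip
                rcases Nat.lt_or_ge i 17250 with h8 | h8
                · skip
                  exact allRange_sound _ 17000 250 incA_17000 i (by omega) (by omega)
                · skip
                  exact allRange_sound _ 17250 250 incA_17250 i (by omega) (by omega)
          · skip
            rcases Nat.lt_or_ge i 18250 with h6 | h6
            · skip
              rcases Nat.lt_or_ge i 17750 with h7 | h7
              · skip
                exact allRange_sound _ 17500 250 incA_17500 i (by omega) (by omega)
              · skip
                rcases Nat.lt_or_ge i 18000 with h8 | h8
                · skip
                  exact allRange_sound _ 17750 250 incA_17750 i (by omega) (by omega)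
                · skip
                  exact allRange_sound _ 18000 250 incA_18000 i (by omega) (by omega)
            · skip
              rcases Nat.lt_or_ge i 18500 with h7 | h7
              · skip
                exact allRange_sound _ 18250 250 incA_18250 i (by omega) (by omega)
              · skip
                rcases Nat.lt_or_ge i 18750 with h8 | h8
                · skip
                  exact allRange_sound _ 18500 250 incA_18500 i (by omega) (by omega)
                · skip
                  exact allRange_sound _ 18750 250 incA_18750 i (by omega) (by omega)
        · skip
          rcases Nat.lt_or_ge i 20250 with h5 | h5
          · skip
            rcases Nat.lt_or_ge i 19500 with h6 | h6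
            · skip
              rcases Nat.lt_or_ge i 19250 with h7 | h7
              · skip
                exact allRange_sound _ 19000 250 incA_19000 i (by omega) (by omega)
              · skip
                exact allRange_sound _ 19250 250 incA_19250 i (by omega) (by omega)
            · skip
              rcases Nat.lt_or_ge i 19750 with h7 | h7
              · skip
                exact allRange_sound _ 19500 250 incA_19500 i (by omega) (by omega)
              · skip
                rcases Nat.lt_or_ge i 20000 with h8 | h8
                · skip
                  exact allRange_sound _ 19750 250 incA_19750 i (by omega) (by omega)
                · skip
                  exact allRange_sound _ 20000 250 incA_20000 i (by omega) (by omega)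
          · skip
            rcases Nat.lt_or_ge i 21000 with h6 | h6
            · skip
              rcases Nat.lt_or_ge i 20500 with h7 | h7
              · skip
                exact allRange_sound _ 20250 250 incA_20250 i (by omega) (by omega)
              · skip
                rcases Nat.lt_or_ge i 20750 with h8 | h8
                · skip
                  exact allRange_sound _ 20500 250 incA_20500 i (by omega) (by omega)
                · skip
                  exact allRange_sound _ 20750 250 incA_20750 i (by omega) (by omega)
            · skip
              rcases Nat.lt_or_ge i 21250 with h7 | h7
              · skip
                exact allRange_sound _ 21000 250 incA_21000 i (by omega) (by omega)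
              · skip
                rcases Nat.lt_or_ge i 21500 with h8 | h8
                · skip
                  exact allRange_sound _ 21250 250 incA_21250 i (by omega) (by omega)
                · skip
                  exact allRange_sound _ 21500 3 incA_21500 i (by omega) (by omega)
  simpa [Nat.blt] using hb

end Cfsg.Agent.Lib.Helper28.CeInc
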