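import Cfsg.Agent.Lib.Helper28.CeDefs

set_option autoImplicit false
set_option linter.all false
set_option maxRecDepth 1000000
set_option Elab.async false

namespace Cfsg.Agent.Lib.Helper28.CeInc

open Cfsg.Agent.Lib.Helper28 Cfsg.Agent.Lib.Helper28.CeDefs

theorem incA_0 : allRange (fun i => Nat.blt (cA i) (cA (i + 1))) 0 250 = true := by decide +kernel

theorem incA_250 : allRange (fun i => Nat.blt (cA i) (cA (i + 1))) 250 250 = true := by decide +kernel

theorem incA_500 : allRange (fun i => Nat.blt (cA i) (cA (i + 1))) 500 250 = true := by decide +kernel

theorem incA_750 : allRange (fun i => Nat.blt (cA i) (cA (i + 1))) 750 250 = true := by decide +kernel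

theorem incA_1000 : allRange (fun i => Nat.blt (cA i) (cA (i + 1))) 1000 250 = true := by decide +kernel

theorem incA_1250 : allRange (fun i => Nat.blt (cA i) (cA (i + 1))) 1250 250 = true := by decide +kernel

theorem incA_1500 : allRange (fun i => Nat.blt (cA i) (cA (i + 1))) 1500 250 = true := by decide +kernel

theorem incA_1750 : allRange (fun i => Nat.blt (cA i) (cA (i + 1))) 1750 250 = true := by decide +kernel

theorem incA_2000 : allRange (fun i => Nat.blt (cA i) (cA (i + 1))) 2000 250 = true := by decide +kernel

theorem incA_2250 : allRange (fun i => Nat.blt (cA i) (cA (i + 1))) 2250 250 = true := by decide +kernel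

theorem incA_2500 : allRange (fun i => Nat.blt (cA i) (cA (i + 1))) 2500 250 = true := by decide +kernel

theorem incA_2750 : allRange (fun i => Nat.blt (cA i) (cA (i + 1))) 2750 250 = true := by decide +kernel

theorem incA_3000 : allRange (fun i => Nat.blt (cA i) (cA (i + 1))) 3000 250 = true := by decide +kernel

theorem incA_3250 : allRange (fun i => Nat.blt (cA i) (cA (i + 1))) 3250 250 = true := by decide +kernel

theorem incA_3500 : allRange (fun i => Nat.blt (cA i) (cA (i + 1))) 3500 250 = true := by decide +kernel

theorem incA_3750 : allRange (fun i => Nat.blt (cA i) (cA (i + 1))) 3750 250 = true := by decide +kernel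

theorem incA_4000 : allRange (fun i => Nat.blt (cA i) (cA (i + 1))) 4000 250 = true := by decide +kernel

theorem incA_4250 : allRange (fun i => Nat.blt (cA i) (cA (i + 1))) 4250 250 = true := by decide +kernel

theorem incA_4500 : allRange (fun i => Nat.blt (cA i) (cA (i + 1))) 4500 250 = true := by decide +kernel

theorem incA_4750 : allRange (fun i => Nat.blt (cA i) (cA (i + 1))) 4750 250 = true := by decide +kernel

theorem incA_5000 : allRange (fun i => Nat.blt (cA i) (cA (i + 1))) 5000 250 = true := by decide +kernel

theorem incA_5250 : allRange (fun i => Nat.blt (cA i) (cA (i + 1))) 5250 250 = true := by decide +kernel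

theorem incA_5500 : allRange (fun i => Nat.blt (cA i) (cA (i + 1))) 5500 250 = true := by decide +kernel

theorem incA_5750 : allRange (fun i => Nat.blt (cA i) (cA (i + 1))) 5750 250 = true := by decide +kernel

theorem incA_6000 : allRange (fun i => Nat.blt (cA i) (cA (i + 1))) 6000 250 = true := by decide +kernel

theorem incA_6250 : allRange (fun i => Nat.blt (cA i) (cA (i + 1))) 6250 250 = true := by decide +kernel

theorem incA_6500 : allRange (fun i => Nat.blt (cA i) (cA (i + 1))) 6500 250 = true := by decide +kernel

theorem incA_6750 : allRange (fun i => Nat.blt (cA i) (cA (i + 1))) 6750 250 = true := by decide +kernel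

theorem incA_7000 : allRange (fun i => Nat.blt (cA i) (cA (i + 1))) 7000 250 = true := by decide +kernel

theorem incA_7250 : allRange (fun i => Nat.blt (cA i) (cA (i + 1))) 7250 250 = true := by decide +kernel

theorem incA_7500 : allRange (fun i => Nat.blt (cA i) (cA (i + 1))) 7500 250 = true := by decide +kernel

theorem incA_7750 : allRange (fun i => Nat.blt (cA i) (cA (i + 1))) 7750 250 = true := by decide +kernel

theorem incA_8000 : allRange (fun i => Nat.blt (cA i) (cA (i + 1))) 8000 250 = true := by decide +kernel

theorem incA_8250 : allRange (fun i => Nat.blt (cA i) (cA (i + 1))) 8250 250 = true := by decide +kernel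

theorem incA_8500 : allRange (fun i => Nat.blt (cA i) (cA (i + 1))) 8500 250 = true := by decide +kernel

theorem incA_8750 : allRange (fun i => Nat.blt (cA i) (cA (i + 1))) 8750 250 = true := by decide +kernel

theorem incA_9000 : allRange (fun i => Nat.blt (cA i) (cA (i + 1))) 9000 250 = true := by decide +kernel

theorem incA_9250 : allRange (fun i => Nat.blt (cA i) (cA (i + 1))) 9250 250 = true := by decide +kernel

theorem incA_9500 : allRange (fun i => Nat.blt (cA i) (cA (i + 1))) 9500 250 = true := by decide +kernel

theorem incA_9750 : allRange (fun i => Nat.blt (cA i) (cA (i + 1))) 9750 250 = true := by decide +kernel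

theorem incA_10000 : allRange (fun i => Nat.blt (cA i) (cA (i + 1))) 10000 250 = true := by decide +kernel

theorem incA_10250 : allRange (fun i => Nat.blt (cA i) (cA (i + 1))) 10250 250 = true := by decide +kernel

theorem incA_10500 : allRange (fun i => Nat.blt (cA i) (cA (i + 1))) 10500 250 = true := by decide +kernel

theorem incA_10750 : allRange (fun i => Nat.blt (cA i) (cA (i + 1))) 10750 250 = true := by decide +kernel

end Cfsg.Agent.Lib.Helper28.CeInc
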