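import Cfsg.Agent.Lib.Helper28.CeIncB0
import Cfsg.Agent.Lib.Helper28.TCSound

set_option autoImplicit false
set_option linter.all false
set_option maxRecDepth 1000000

namespace Cfsg.Agent.Lib.Helper28.CeInc

open Cfsg.Agent.Lib.Helper28 Cfsg.Agent.Lib.Helper28.CeDefs

theorem incB_all : ∀ i, i + 1 < 21504 → cB i < cB (i + 1) := by
  intro i hi
  have hb : Nat.blt (cB i) (cB (i + 1)) = true := by
    rcases Nat.lt_or_ge i 10000 with h2 | h2
    · skip
      rcases Nat.lt_or_ge i 4000 with h3 | h3
      · skip
        rcases Nat.lt_or_ge i 2000 with h4 | h4
        · skip
          exact allRange_sound _ 0 2000 incB_0 i (by omega) (by omega)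
        · skip
          exact allRange_sound _ 2000 2000 incB_2000 i (by omega) (by omega)
      · skip
        rcases Nat.lt_or_ge i 6000 with h4 | h4
        · skip
          exact allRange_sound _ 4000 2000 incB_4000 i (by omega) (by omega)
        · skip
          rcases Nat.lt_or_ge i 8000 with h5 | h5
          · skip
            exact allRange_sound _ 6000 2000 incB_6000 i (by omega) (by omega)
          · skip
            exact allRange_sound _ 8000 2000 incB_8000 i (by omega) (by omega)
    · skip
      rcases Nat.lt_or_ge i 16000 with h3 | h3
      · skip
        rcases Nat.lt_or_ge i 12000 with h4 | h4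
        · skip
          exact allRange_sound _ 10000 2000 incB_10000 i (by omega) (by omega)
        · skip
          rcases Nat.lt_or_ge i 14000 with h5 | h5
          · skip
            exact allRange_sound _ 12000 2000 incB_12000 i (by omega) (by omega)
          · skip
            exact allRange_sound _ 14000 2000 incB_14000 i (by omega) (by omega)
      · skip
        rcases Nat.lt_or_ge i 18000 with h4 | h4
        · skip
          exact allRange_sound _ 16000 2000 incB_16000 i (by omega) (by omega)
        · skip
          rcases Nat.lt_or_ge i 20000 with h5 | h5
          · skip
            exact allRange_sound _ 18000 2000 incB_18000 i (by omega) (by omega)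
          · skip
            exact allRange_sound _ 20000 1503 incB_20000 i (by omega) (by omega)
  simpa [Nat.blt] using hb

end Cfsg.Agent.Lib.Helper28.CeInc
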