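import Cfsg.Agent.Lib.Helper28.CeDefs

set_option autoImplicit false
set_option linter.all false
set_option maxRecDepth 1000000
set_option Elab.async false

namespace Cfsg.Agent.Lib.Helper28.CeInc

open Cfsg.Agent.Lib.Helper28 Cfsg.Agent.Lib.Helper28.CeDefs

theorem incB_0 : allRange (fun i => Nat.blt (cB i) (cB (i + 1))) 0 2000 = true := by decide +kernel

theorem incB_2000 : allRange (fun i => Nat.blt (cB i) (cB (i + 1))) 2000 2000 = true := by decide +kernel

theorem incB_4000 : allRange (fun i => Nat.blt (cB i) (cB (i + 1))) 4000 2000 = true := by decide +kernel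

theorem incB_6000 : allRange (fun i => Nat.blt (cB i) (cB (i + 1))) 6000 2000 = true := by decide +kernel

theorem incB_8000 : allRange (fun i => Nat.blt (cB i) (cB (i + 1))) 8000 2000 = true := by decide +kernel

theorem incB_10000 : allRange (fun i => Nat.blt (cB i) (cB (i + 1))) 10000 2000 = true := by decide +kernel

theorem incB_12000 : allRange (fun i => Nat.blt (cB i) (cB (i + 1))) 12000 2000 = true := by decide +kernel

theorem incB_14000 : allRange (fun i => Nat.blt (cB i) (cB (i + 1))) 14000 2000 = true := by decide +kernel

theorem incB_16000 : allRange (fun i => Nat.blt (cB i) (cB (i + 1))) 16000 2000 = true := by decide +kernel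

theorem incB_18000 : allRange (fun i => Nat.blt (cB i) (cB (i + 1))) 18000 2000 = true := by decide +kernel

theorem incB_20000 : allRange (fun i => Nat.blt (cB i) (cB (i + 1))) 20000 1503 = true := by decide +kernel

end Cfsg.Agent.Lib.Helper28.CeInc
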