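import Cfsg.Agent.Lib.Helper28.CeDefs

set_option autoImplicit false
set_option linter.all false
set_option maxRecDepth 1000000
set_option Elab.async false

namespace Cfsg.Agent.Lib.Helper28.CeInc

open Cfsg.Agent.Lib.Helper28 Cfsg.Agent.Lib.Helper28.CeDefs

theorem incC_11750 : allRange (fun i => Nat.blt (cC i) (cC (i + 1))) 11750 250 = true := by decide +kernel

theorem incC_12000 : allRange (fun i => Nat.blt (cC i) (cC (i + 1))) 12000 250 = true := by decide +kernel

theorem incC_12250 : allRange (fun i => Nat.blt (cC i) (cC (i + 1))) 12250 250 = true := by decide +kernel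

theorem incC_12500 : allRange (fun i => Nat.blt (cC i) (cC (i + 1))) 12500 250 = true := by decide +kernel

theorem incC_12750 : allRange (fun i => Nat.blt (cC i) (cC (i + 1))) 12750 250 = true := by decide +kernel

theorem incC_13000 : allRange (fun i => Nat.blt (cC i) (cC (i + 1))) 13000 250 = true := by decide +kernel

theorem incC_13250 : allRange (fun i => Nat.blt (cC i) (cC (i + 1))) 13250 250 = true := by decide +kernel

theorem incC_13500 : allRange (fun i => Nat.blt (cC i) (cC (i + 1))) 13500 250 = true := by decide +kernel

theorem incC_13750 : allRange (fun i => Nat.blt (cC i) (cC (i + 1))) 13750 250 = true := by decide +kernel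

theorem incC_14000 : allRange (fun i => Nat.blt (cC i) (cC (i + 1))) 14000 250 = true := by decide +kernel

theorem incC_14250 : allRange (fun i => Nat.blt (cC i) (cC (i + 1))) 14250 250 = true := by decide +kernel

theorem incC_14500 : allRange (fun i => Nat.blt (cC i) (cC (i + 1))) 14500 250 = true := by decide +kernel

theorem incC_14750 : allRange (fun i => Nat.blt (cC i) (cC (i + 1))) 14750 250 = true := by decide +kernel

theorem incC_15000 : allRange (fun i => Nat.blt (cC i) (cC (i + 1))) 15000 250 = true := by decide +kernel

theorem incC_15250 : allRange (fun i => Nat.blt (cC i) (cC (i + 1))) 15250 250 = true := by decide +kernel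

theorem incC_15500 : allRange (fun i => Nat.blt (cC i) (cC (i + 1))) 15500 250 = true := by decide +kernel

theorem incC_15750 : allRange (fun i => Nat.blt (cC i) (cC (i + 1))) 15750 250 = true := by decide +kernel

theorem incC_16000 : allRange (fun i => Nat.blt (cC i) (cC (i + 1))) 16000 250 = true := by decide +kernel

theorem incC_16250 : allRange (fun i => Nat.blt (cC i) (cC (i + 1))) 16250 250 = true := by decide +kernel

theorem incC_16500 : allRange (fun i => Nat.blt (cC i) (cC (i + 1))) 16500 250 = true := by decide +kernel

theorem incC_16750 : allRange (fun i => Nat.blt (cC i) (cC (i + 1))) 16750 250 = true := by decide +kernel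

theorem incC_17000 : allRange (fun i => Nat.blt (cC i) (cC (i + 1))) 17000 250 = true := by decide +kernel

theorem incC_17250 : allRange (fun i => Nat.blt (cC i) (cC (i + 1))) 17250 250 = true := by decide +kernel

theorem incC_17500 : allRange (fun i => Nat.blt (cC i) (cC (i + 1))) 17500 250 = true := by decide +kernel

theorem incC_17750 : allRange (fun i => Nat.blt (cC i) (cC (i + 1))) 17750 250 = true := by decide +kernel

theorem incC_18000 : allRange (fun i => Nat.blt (cC i) (cC (i + 1))) 18000 250 = true := by decide +kernel

theorem incC_18250 : allRange (fun i => Nat.blt (cC i) (cC (i + 1))) 18250 250 = true := by decide +kernel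

theorem incC_18500 : allRange (fun i => Nat.blt (cC i) (cC (i + 1))) 18500 250 = true := by decide +kernel

theorem incC_18750 : allRange (fun i => Nat.blt (cC i) (cC (i + 1))) 18750 250 = true := by decide +kernel

theorem incC_19000 : allRange (fun i => Nat.blt (cC i) (cC (i + 1))) 19000 250 = true := by decide +kernel

theorem incC_19250 : allRange (fun i => Nat.blt (cC i) (cC (i + 1))) 19250 250 = true := by decide +kernel

theorem incC_19500 : allRange (fun i => Nat.blt (cC i) (cC (i + 1))) 19500 250 = true := by decide +kernel

theorem incC_19750 : allRange (fun i => Nat.blt (cC i) (cC (i + 1))) 19750 250 = true := by decide +kernel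

theorem incC_20000 : allRange (fun i => Nat.blt (cC i) (cC (i + 1))) 20000 250 = true := by decide +kernel

theorem incC_20250 : allRange (fun i => Nat.blt (cC i) (cC (i + 1))) 20250 250 = true := by decide +kernel

theorem incC_20500 : allRange (fun i => Nat.blt (cC i) (cC (i + 1))) 20500 250 = true := by decide +kernel

theorem incC_20750 : allRange (fun i => Nat.blt (cC i) (cC (i + 1))) 20750 250 = true := by decide +kernel

theorem incC_21000 : allRange (fun i => Nat.blt (cC i) (cC (i + 1))) 21000 250 = true := by decide +kernel

theorem incC_21250 : allRange (fun i => Nat.blt (cC i) (cC (i + 1))) 21250 250 = true := by decide +kernel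

theorem incC_21500 : allRange (fun i => Nat.blt (cC i) (cC (i + 1))) 21500 250 = true := by decide +kernel

theorem incC_21750 : allRange (fun i => Nat.blt (cC i) (cC (i + 1))) 21750 250 = true := by decide +kernel

theorem incC_22000 : allRange (fun i => Nat.blt (cC i) (cC (i + 1))) 22000 250 = true := by decide +kernel

theorem incC_22250 : allRange (fun i => Nat.blt (cC i) (cC (i + 1))) 22250 250 = true := by decide +kernel

theorem incC_22500 : allRange (fun i => Nat.blt (cC i) (cC (i + 1))) 22500 250 = true := by decide +kernel

theorem incC_22750 : allRange (fun i => Nat.blt (cC i) (cC (i + 1))) 22750 250 = true := by decide +kernel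

theorem incC_23000 : allRange (fun i => Nat.blt (cC i) (cC (i + 1))) 23000 250 = true := by decide +kernel

theorem incC_23250 : allRange (fun i => Nat.blt (cC i) (cC (i + 1))) 23250 250 = true := by decide +kernel

end Cfsg.Agent.Lib.Helper28.CeInc
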