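import Cfsg.Agent.Lib.Helper28.CeDefs

set_option autoImplicit false
set_option linter.all false
set_option maxRecDepth 1000000
set_option Elab.async false

namespace Cfsg.Agent.Lib.Helper28.CeInc

open Cfsg.Agent.Lib.Helper28 Cfsg.Agent.Lib.Helper28.CeDefs

theorem incC_23500 : allRange (fun i => Nat.blt (cC i) (cC (i + 1))) 23500 250 = true := by decide +kernel

theorem incC_23750 : allRange (fun i => Nat.blt (cC i) (cC (i + 1))) 23750 250 = true := by decide +kernel

theorem incC_24000 : allRange (fun i => Nat.blt (cC i) (cC (i + 1))) 24000 250 = true := by decide +kernel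

theorem incC_24250 : allRange (fun i => Nat.blt (cC i) (cC (i + 1))) 24250 250 = true := by decide +kernel

theorem incC_24500 : allRange (fun i => Nat.blt (cC i) (cC (i + 1))) 24500 250 = true := by decide +kernel

theorem incC_24750 : allRange (fun i => Nat.blt (cC i) (cC (i + 1))) 24750 250 = true := by decide +kernel

theorem incC_25000 : allRange (fun i => Nat.blt (cC i) (cC (i + 1))) 25000 250 = true := by decide +kernel

theorem incC_25250 : allRange (fun i => Nat.blt (cC i) (cC (i + 1))) 25250 250 = true := by decide +kernel

theorem incC_25500 : allRange (fun i => Nat.blt (cC i) (cC (i + 1))) 25500 250 = true := by decide +kernel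

theorem incC_25750 : allRange (fun i => Nat.blt (cC i) (cC (i + 1))) 25750 250 = true := by decide +kernel

theorem incC_26000 : allRange (fun i => Nat.blt (cC i) (cC (i + 1))) 26000 250 = true := by decide +kernel

theorem incC_26250 : allRange (fun i => Nat.blt (cC i) (cC (i + 1))) 26250 250 = true := by decide +kernel

theorem incC_26500 : allRange (fun i => Nat.blt (cC i) (cC (i + 1))) 26500 250 = true := by decide +kernel

theorem incC_26750 : allRange (fun i => Nat.blt (cC i) (cC (i + 1))) 26750 250 = true := by decide +kernel

theorem incC_27000 : allRange (fun i => Nat.blt (cC i) (cC (i + 1))) 27000 250 = true := by decide +kernel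

theorem incC_27250 : allRange (fun i => Nat.blt (cC i) (cC (i + 1))) 27250 250 = true := by decide +kernel

theorem incC_27500 : allRange (fun i => Nat.blt (cC i) (cC (i + 1))) 27500 250 = true := by decide +kernel

theorem incC_27750 : allRange (fun i => Nat.blt (cC i) (cC (i + 1))) 27750 250 = true := by decide +kernel

theorem incC_28000 : allRange (fun i => Nat.blt (cC i) (cC (i + 1))) 28000 250 = true := by decide +kernel

theorem incC_28250 : allRange (fun i => Nat.blt (cC i) (cC (i + 1))) 28250 250 = true := by decide +kernel

theorem incC_28500 : allRange (fun i => Nat.blt (cC i) (cC (i + 1))) 28500 250 = true := by decide +kernel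

theorem incC_28750 : allRange (fun i => Nat.blt (cC i) (cC (i + 1))) 28750 250 = true := by decide +kernel

theorem incC_29000 : allRange (fun i => Nat.blt (cC i) (cC (i + 1))) 29000 250 = true := by decide +kernel

theorem incC_29250 : allRange (fun i => Nat.blt (cC i) (cC (i + 1))) 29250 250 = true := by decide +kernel

theorem incC_29500 : allRange (fun i => Nat.blt (cC i) (cC (i + 1))) 29500 250 = true := by decide +kernel

theorem incC_29750 : allRange (fun i => Nat.blt (cC i) (cC (i + 1))) 29750 250 = true := by decide +kernel

theorem incC_30000 : allRange (fun i => Nat.blt (cC i) (cC (i + 1))) 30000 250 = true := by decide +kernel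

theorem incC_30250 : allRange (fun i => Nat.blt (cC i) (cC (i + 1))) 30250 250 = true := by decide +kernel

theorem incC_30500 : allRange (fun i => Nat.blt (cC i) (cC (i + 1))) 30500 250 = true := by decide +kernel

theorem incC_30750 : allRange (fun i => Nat.blt (cC i) (cC (i + 1))) 30750 250 = true := by decide +kernel

theorem incC_31000 : allRange (fun i => Nat.blt (cC i) (cC (i + 1))) 31000 250 = true := by decide +kernel

theorem incC_31250 : allRange (fun i => Nat.blt (cC i) (cC (i + 1))) 31250 250 = true := by decide +kernel

theorem incC_31500 : allRange (fun i => Nat.blt (cC i) (cC (i + 1))) 31500 250 = true := by decide +kernel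

theorem incC_31750 : allRange (fun i => Nat.blt (cC i) (cC (i + 1))) 31750 250 = true := by decide +kernel

theorem incC_32000 : allRange (fun i => Nat.blt (cC i) (cC (i + 1))) 32000 250 = true := by decide +kernel

theorem incC_32250 : allRange (fun i => Nat.blt (cC i) (cC (i + 1))) 32250 250 = true := by decide +kernel

theorem incC_32500 : allRange (fun i => Nat.blt (cC i) (cC (i + 1))) 32500 250 = true := by decide +kernel

theorem incC_32750 : allRange (fun i => Nat.blt (cC i) (cC (i + 1))) 32750 250 = true := by decide +kernel

theorem incC_33000 : allRange (fun i => Nat.blt (cC i) (cC (i + 1))) 33000 250 = true := by decide +kernel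

theorem incC_33250 : allRange (fun i => Nat.blt (cC i) (cC (i + 1))) 33250 250 = true := by decide +kernel

theorem incC_33500 : allRange (fun i => Nat.blt (cC i) (cC (i + 1))) 33500 250 = true := by decide +kernel

theorem incC_33750 : allRange (fun i => Nat.blt (cC i) (cC (i + 1))) 33750 250 = true := by decide +kernel

theorem incC_34000 : allRange (fun i => Nat.blt (cC i) (cC (i + 1))) 34000 250 = true := by decide +kernel

theorem incC_34250 : allRange (fun i => Nat.blt (cC i) (cC (i + 1))) 34250 250 = true := by decide +kernel

theorem incC_34500 : allRange (fun i => Nat.blt (cC i) (cC (i + 1))) 34500 250 = true := by decide +kernel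

theorem incC_34750 : allRange (fun i => Nat.blt (cC i) (cC (i + 1))) 34750 250 = true := by decide +kernel

theorem incC_35000 : allRange (fun i => Nat.blt (cC i) (cC (i + 1))) 35000 250 = true := by decide +kernel

end Cfsg.Agent.Lib.Helper28.CeInc
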