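import Cfsg.Agent.Lib.Helper28.CeDefs

set_option autoImplicit false
set_option linter.all false
set_option maxRecDepth 1000000
set_option Elab.async false

namespace Cfsg.Agent.Lib.Helper28.CeInc

open Cfsg.Agent.Lib.Helper28 Cfsg.Agent.Lib.Helper28.CeDefs

theorem incC_35250 : allRange (fun i => Nat.blt (cC i) (cC (i + 1))) 35250 250 = true := by decide +kernel

theorem incC_35500 : allRange (fun i => Nat.blt (cC i) (cC (i + 1))) 35500 250 = true := by decide +kernel

theorem incC_35750 : allRange (fun i => Nat.blt (cC i) (cC (i + 1))) 35750 250 = true := by decide +kernel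

theorem incC_36000 : allRange (fun i => Nat.blt (cC i) (cC (i + 1))) 36000 250 = true := by decide +kernel

theorem incC_36250 : allRange (fun i => Nat.blt (cC i) (cC (i + 1))) 36250 250 = true := by decide +kernel

theorem incC_36500 : allRange (fun i => Nat.blt (cC i) (cC (i + 1))) 36500 250 = true := by decide +kernel

theorem incC_36750 : allRange (fun i => Nat.blt (cC i) (cC (i + 1))) 36750 250 = true := by decide +kernel

theorem incC_37000 : allRange (fun i => Nat.blt (cC i) (cC (i + 1))) 37000 250 = true := by decide +kernel

theorem incC_37250 : allRange (fun i => Nat.blt (cC i) (cC (i + 1))) 37250 250 = true := by decide +kernel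

theorem incC_37500 : allRange (fun i => Nat.blt (cC i) (cC (i + 1))) 37500 250 = true := by decide +kernel

theorem incC_37750 : allRange (fun i => Nat.blt (cC i) (cC (i + 1))) 37750 250 = true := by decide +kernel

theorem incC_38000 : allRange (fun i => Nat.blt (cC i) (cC (i + 1))) 38000 250 = true := by decide +kernel

theorem incC_38250 : allRange (fun i => Nat.blt (cC i) (cC (i + 1))) 38250 250 = true := by decide +kernel

theorem incC_38500 : allRange (fun i => Nat.blt (cC i) (cC (i + 1))) 38500 250 = true := by decide +kernel

theorem incC_38750 : allRange (fun i => Nat.blt (cC i) (cC (i + 1))) 38750 250 = true := by decide +kernel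

theorem incC_39000 : allRange (fun i => Nat.blt (cC i) (cC (i + 1))) 39000 250 = true := by decide +kernel

theorem incC_39250 : allRange (fun i => Nat.blt (cC i) (cC (i + 1))) 39250 250 = true := by decide +kernel

theorem incC_39500 : allRange (fun i => Nat.blt (cC i) (cC (i + 1))) 39500 250 = true := by decide +kernel

theorem incC_39750 : allRange (fun i => Nat.blt (cC i) (cC (i + 1))) 39750 250 = true := by decide +kernel

theorem incC_40000 : allRange (fun i => Nat.blt (cC i) (cC (i + 1))) 40000 250 = true := by decide +kernel

theorem incC_40250 : allRange (fun i => Nat.blt (cC i) (cC (i + 1))) 40250 250 = true := by decide +kernel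

theorem incC_40500 : allRange (fun i => Nat.blt (cC i) (cC (i + 1))) 40500 250 = true := by decide +kernel

theorem incC_40750 : allRange (fun i => Nat.blt (cC i) (cC (i + 1))) 40750 250 = true := by decide +kernel

theorem incC_41000 : allRange (fun i => Nat.blt (cC i) (cC (i + 1))) 41000 250 = true := by decide +kernel

theorem incC_41250 : allRange (fun i => Nat.blt (cC i) (cC (i + 1))) 41250 250 = true := by decide +kernel

theorem incC_41500 : allRange (fun i => Nat.blt (cC i) (cC (i + 1))) 41500 250 = true := by decide +kernel

theorem incC_41750 : allRange (fun i => Nat.blt (cC i) (cC (i + 1))) 41750 250 = true := by decide +kernel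

theorem incC_42000 : allRange (fun i => Nat.blt (cC i) (cC (i + 1))) 42000 250 = true := by decide +kernel

theorem incC_42250 : allRange (fun i => Nat.blt (cC i) (cC (i + 1))) 42250 250 = true := by decide +kernel

theorem incC_42500 : allRange (fun i => Nat.blt (cC i) (cC (i + 1))) 42500 250 = true := by decide +kernel

theorem incC_42750 : allRange (fun i => Nat.blt (cC i) (cC (i + 1))) 42750 250 = true := by decide +kernel

theorem incC_43000 : allRange (fun i => Nat.blt (cC i) (cC (i + 1))) 43000 250 = true := by decide +kernel

theorem incC_43250 : allRange (fun i => Nat.blt (cC i) (cC (i + 1))) 43250 250 = true := by decide +kernel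

theorem incC_43500 : allRange (fun i => Nat.blt (cC i) (cC (i + 1))) 43500 250 = true := by decide +kernel

theorem incC_43750 : allRange (fun i => Nat.blt (cC i) (cC (i + 1))) 43750 250 = true := by decide +kernel

theorem incC_44000 : allRange (fun i => Nat.blt (cC i) (cC (i + 1))) 44000 250 = true := by decide +kernel

theorem incC_44250 : allRange (fun i => Nat.blt (cC i) (cC (i + 1))) 44250 250 = true := by decide +kernel

theorem incC_44500 : allRange (fun i => Nat.blt (cC i) (cC (i + 1))) 44500 250 = true := by decide +kernel

theorem incC_44750 : allRange (fun i => Nat.blt (cC i) (cC (i + 1))) 44750 250 = true := by decide +kernel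

theorem incC_45000 : allRange (fun i => Nat.blt (cC i) (cC (i + 1))) 45000 250 = true := by decide +kernel

theorem incC_45250 : allRange (fun i => Nat.blt (cC i) (cC (i + 1))) 45250 250 = true := by decide +kernel

theorem incC_45500 : allRange (fun i => Nat.blt (cC i) (cC (i + 1))) 45500 250 = true := by decide +kernel

theorem incC_45750 : allRange (fun i => Nat.blt (cC i) (cC (i + 1))) 45750 250 = true := by decide +kernel

theorem incC_46000 : allRange (fun i => Nat.blt (cC i) (cC (i + 1))) 46000 250 = true := by decide +kernel

theorem incC_46250 : allRange (fun i => Nat.blt (cC i) (cC (i + 1))) 46250 250 = true := by decide +kernel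

theorem incC_46500 : allRange (fun i => Nat.blt (cC i) (cC (i + 1))) 46500 250 = true := by decide +kernel

theorem incC_46750 : allRange (fun i => Nat.blt (cC i) (cC (i + 1))) 46750 250 = true := by decide +kernel

end Cfsg.Agent.Lib.Helper28.CeInc
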