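import Cfsg.Agent.Lib.Helper28.CeDefs

set_option autoImplicit false
set_option linter.all false
set_option maxRecDepth 1000000
set_option Elab.async false

namespace Cfsg.Agent.Lib.Helper28.CeInc

open Cfsg.Agent.Lib.Helper28 Cfsg.Agent.Lib.Helper28.CeDefs

theorem incC_47000 : allRange (fun i => Nat.blt (cC i) (cC (i + 1))) 47000 250 = true := by decide +kernel

theorem incC_47250 : allRange (fun i => Nat.blt (cC i) (cC (i + 1))) 47250 250 = true := by decide +kernel

theorem incC_47500 : allRange (fun i => Nat.blt (cC i) (cC (i + 1))) 47500 250 = true := by decide +kernel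

theorem incC_47750 : allRange (fun i => Nat.blt (cC i) (cC (i + 1))) 47750 250 = true := by decide +kernel

theorem incC_48000 : allRange (fun i => Nat.blt (cC i) (cC (i + 1))) 48000 250 = true := by decide +kernel

theorem incC_48250 : allRange (fun i => Nat.blt (cC i) (cC (i + 1))) 48250 250 = true := by decide +kernel

theorem incC_48500 : allRange (fun i => Nat.blt (cC i) (cC (i + 1))) 48500 250 = true := by decide +kernel

theorem incC_48750 : allRange (fun i => Nat.blt (cC i) (cC (i + 1))) 48750 250 = true := by decide +kernel

theorem incC_49000 : allRange (fun i => Nat.blt (cC i) (cC (i + 1))) 49000 250 = true := by decide +kernel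

theorem incC_49250 : allRange (fun i => Nat.blt (cC i) (cC (i + 1))) 49250 250 = true := by decide +kernel

theorem incC_49500 : allRange (fun i => Nat.blt (cC i) (cC (i + 1))) 49500 250 = true := by decide +kernel

theorem incC_49750 : allRange (fun i => Nat.blt (cC i) (cC (i + 1))) 49750 250 = true := by decide +kernel

theorem incC_50000 : allRange (fun i => Nat.blt (cC i) (cC (i + 1))) 50000 250 = true := by decide +kernel

theorem incC_50250 : allRange (fun i => Nat.blt (cC i) (cC (i + 1))) 50250 250 = true := by decide +kernel

theorem incC_50500 : allRange (fun i => Nat.blt (cC i) (cC (i + 1))) 50500 250 = true := by decide +kernel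

theorem incC_50750 : allRange (fun i => Nat.blt (cC i) (cC (i + 1))) 50750 250 = true := by decide +kernel

theorem incC_51000 : allRange (fun i => Nat.blt (cC i) (cC (i + 1))) 51000 250 = true := by decide +kernel

theorem incC_51250 : allRange (fun i => Nat.blt (cC i) (cC (i + 1))) 51250 250 = true := by decide +kernel

theorem incC_51500 : allRange (fun i => Nat.blt (cC i) (cC (i + 1))) 51500 250 = true := by decide +kernel

theorem incC_51750 : allRange (fun i => Nat.blt (cC i) (cC (i + 1))) 51750 250 = true := by decide +kernel

theorem incC_52000 : allRange (fun i => Nat.blt (cC i) (cC (i + 1))) 52000 250 = true := by decide +kernel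

theorem incC_52250 : allRange (fun i => Nat.blt (cC i) (cC (i + 1))) 52250 250 = true := by decide +kernel

theorem incC_52500 : allRange (fun i => Nat.blt (cC i) (cC (i + 1))) 52500 250 = true := by decide +kernel

theorem incC_52750 : allRange (fun i => Nat.blt (cC i) (cC (i + 1))) 52750 250 = true := by decide +kernel

theorem incC_53000 : allRange (fun i => Nat.blt (cC i) (cC (i + 1))) 53000 250 = true := by decide +kernel

theorem incC_53250 : allRange (fun i => Nat.blt (cC i) (cC (i + 1))) 53250 250 = true := by decide +kernel

theorem incC_53500 : allRange (fun i => Nat.blt (cC i) (cC (i + 1))) 53500 250 = true := by decide +kernel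

theorem incC_53750 : allRange (fun i => Nat.blt (cC i) (cC (i + 1))) 53750 250 = true := by decide +kernel

theorem incC_54000 : allRange (fun i => Nat.blt (cC i) (cC (i + 1))) 54000 250 = true := by decide +kernel

theorem incC_54250 : allRange (fun i => Nat.blt (cC i) (cC (i + 1))) 54250 250 = true := by decide +kernel

theorem incC_54500 : allRange (fun i => Nat.blt (cC i) (cC (i + 1))) 54500 250 = true := by decide +kernel

theorem incC_54750 : allRange (fun i => Nat.blt (cC i) (cC (i + 1))) 54750 250 = true := by decide +kernel

theorem incC_55000 : allRange (fun i => Nat.blt (cC i) (cC (i + 1))) 55000 250 = true := by decide +kernel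

theorem incC_55250 : allRange (fun i => Nat.blt (cC i) (cC (i + 1))) 55250 250 = true := by decide +kernel

theorem incC_55500 : allRange (fun i => Nat.blt (cC i) (cC (i + 1))) 55500 250 = true := by decide +kernel

theorem incC_55750 : allRange (fun i => Nat.blt (cC i) (cC (i + 1))) 55750 250 = true := by decide +kernel

theorem incC_56000 : allRange (fun i => Nat.blt (cC i) (cC (i + 1))) 56000 250 = true := by decide +kernel

theorem incC_56250 : allRange (fun i => Nat.blt (cC i) (cC (i + 1))) 56250 250 = true := by decide +kernel

theorem incC_56500 : allRange (fun i => Nat.blt (cC i) (cC (i + 1))) 56500 250 = true := by decide +kernel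

theorem incC_56750 : allRange (fun i => Nat.blt (cC i) (cC (i + 1))) 56750 250 = true := by decide +kernel

theorem incC_57000 : allRange (fun i => Nat.blt (cC i) (cC (i + 1))) 57000 250 = true := by decide +kernel

theorem incC_57250 : allRange (fun i => Nat.blt (cC i) (cC (i + 1))) 57250 250 = true := by decide +kernel

theorem incC_57500 : allRange (fun i => Nat.blt (cC i) (cC (i + 1))) 57500 250 = true := by decide +kernel

theorem incC_57750 : allRange (fun i => Nat.blt (cC i) (cC (i + 1))) 57750 250 = true := by decide +kernel

theorem incC_58000 : allRange (fun i => Nat.blt (cC i) (cC (i + 1))) 58000 250 = true := by decide +kernel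

theorem incC_58250 : allRange (fun i => Nat.blt (cC i) (cC (i + 1))) 58250 250 = true := by decide +kernel

theorem incC_58500 : allRange (fun i => Nat.blt (cC i) (cC (i + 1))) 58500 250 = true := by decide +kernel

end Cfsg.Agent.Lib.Helper28.CeInc
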