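import Cfsg.Agent.Lib.Helper28.CeDefs

set_option autoImplicit false
set_option linter.all false
set_option maxRecDepth 1000000
set_option Elab.async false

namespace Cfsg.Agent.Lib.Helper28.CeInc

open Cfsg.Agent.Lib.Helper28 Cfsg.Agent.Lib.Helper28.CeDefs

theorem incC_58750 : allRange (fun i => Nat.blt (cC i) (cC (i + 1))) 58750 250 = true := by decide +kernel

theorem incC_59000 : allRange (fun i => Nat.blt (cC i) (cC (i + 1))) 59000 250 = true := by decide +kernel

theorem incC_59250 : allRange (fun i => Nat.blt (cC i) (cC (i + 1))) 59250 250 = true := by decide +kernel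

theorem incC_59500 : allRange (fun i => Nat.blt (cC i) (cC (i + 1))) 59500 250 = true := by decide +kernel

theorem incC_59750 : allRange (fun i => Nat.blt (cC i) (cC (i + 1))) 59750 250 = true := by decide +kernel

theorem incC_60000 : allRange (fun i => Nat.blt (cC i) (cC (i + 1))) 60000 250 = true := by decide +kernel

theorem incC_60250 : allRange (fun i => Nat.blt (cC i) (cC (i + 1))) 60250 250 = true := by decide +kernel

theorem incC_60500 : allRange (fun i => Nat.blt (cC i) (cC (i + 1))) 60500 250 = true := by decide +kernel

theorem incC_60750 : allRange (fun i => Nat.blt (cC i) (cC (i + 1))) 60750 250 = true := by decide +kernel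

theorem incC_61000 : allRange (fun i => Nat.blt (cC i) (cC (i + 1))) 61000 250 = true := by decide +kernel

theorem incC_61250 : allRange (fun i => Nat.blt (cC i) (cC (i + 1))) 61250 250 = true := by decide +kernel

theorem incC_61500 : allRange (fun i => Nat.blt (cC i) (cC (i + 1))) 61500 250 = true := by decide +kernel

theorem incC_61750 : allRange (fun i => Nat.blt (cC i) (cC (i + 1))) 61750 250 = true := by decide +kernel

theorem incC_62000 : allRange (fun i => Nat.blt (cC i) (cC (i + 1))) 62000 250 = true := by decide +kernel

theorem incC_62250 : allRange (fun i => Nat.blt (cC i) (cC (i + 1))) 62250 250 = true := by decide +kernel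

theorem incC_62500 : allRange (fun i => Nat.blt (cC i) (cC (i + 1))) 62500 250 = true := by decide +kernel

theorem incC_62750 : allRange (fun i => Nat.blt (cC i) (cC (i + 1))) 62750 250 = true := by decide +kernel

theorem incC_63000 : allRange (fun i => Nat.blt (cC i) (cC (i + 1))) 63000 250 = true := by decide +kernel

theorem incC_63250 : allRange (fun i => Nat.blt (cC i) (cC (i + 1))) 63250 250 = true := by decide +kernel

theorem incC_63500 : allRange (fun i => Nat.blt (cC i) (cC (i + 1))) 63500 250 = true := by decide +kernel

theorem incC_63750 : allRange (fun i => Nat.blt (cC i) (cC (i + 1))) 63750 250 = true := by decide +kernel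

theorem incC_64000 : allRange (fun i => Nat.blt (cC i) (cC (i + 1))) 64000 250 = true := by decide +kernel

theorem incC_64250 : allRange (fun i => Nat.blt (cC i) (cC (i + 1))) 64250 250 = true := by decide +kernel

theorem incC_64500 : allRange (fun i => Nat.blt (cC i) (cC (i + 1))) 64500 250 = true := by decide +kernel

theorem incC_64750 : allRange (fun i => Nat.blt (cC i) (cC (i + 1))) 64750 250 = true := by decide +kernel

theorem incC_65000 : allRange (fun i => Nat.blt (cC i) (cC (i + 1))) 65000 250 = true := by decide +kernel

theorem incC_65250 : allRange (fun i => Nat.blt (cC i) (cC (i + 1))) 65250 250 = true := by decide +kernel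

theorem incC_65500 : allRange (fun i => Nat.blt (cC i) (cC (i + 1))) 65500 250 = true := by decide +kernel

theorem incC_65750 : allRange (fun i => Nat.blt (cC i) (cC (i + 1))) 65750 250 = true := by decide +kernel

theorem incC_66000 : allRange (fun i => Nat.blt (cC i) (cC (i + 1))) 66000 250 = true := by decide +kernel

theorem incC_66250 : allRange (fun i => Nat.blt (cC i) (cC (i + 1))) 66250 250 = true := by decide +kernel

theorem incC_66500 : allRange (fun i => Nat.blt (cC i) (cC (i + 1))) 66500 250 = true := by decide +kernel

theorem incC_66750 : allRange (fun i => Nat.blt (cC i) (cC (i + 1))) 66750 250 = true := by decide +kernel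

theorem incC_67000 : allRange (fun i => Nat.blt (cC i) (cC (i + 1))) 67000 250 = true := by decide +kernel

theorem incC_67250 : allRange (fun i => Nat.blt (cC i) (cC (i + 1))) 67250 250 = true := by decide +kernel

theorem incC_67500 : allRange (fun i => Nat.blt (cC i) (cC (i + 1))) 67500 250 = true := by decide +kernel

theorem incC_67750 : allRange (fun i => Nat.blt (cC i) (cC (i + 1))) 67750 250 = true := by decide +kernel

theorem incC_68000 : allRange (fun i => Nat.blt (cC i) (cC (i + 1))) 68000 250 = true := by decide +kernel

theorem incC_68250 : allRange (fun i => Nat.blt (cC i) (cC (i + 1))) 68250 250 = true := by decide +kernel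

theorem incC_68500 : allRange (fun i => Nat.blt (cC i) (cC (i + 1))) 68500 250 = true := by decide +kernel

theorem incC_68750 : allRange (fun i => Nat.blt (cC i) (cC (i + 1))) 68750 250 = true := by decide +kernel

theorem incC_69000 : allRange (fun i => Nat.blt (cC i) (cC (i + 1))) 69000 250 = true := by decide +kernel

theorem incC_69250 : allRange (fun i => Nat.blt (cC i) (cC (i + 1))) 69250 250 = true := by decide +kernel

theorem incC_69500 : allRange (fun i => Nat.blt (cC i) (cC (i + 1))) 69500 250 = true := by decide +kernel

theorem incC_69750 : allRange (fun i => Nat.blt (cC i) (cC (i + 1))) 69750 250 = true := by decide +kernel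

theorem incC_70000 : allRange (fun i => Nat.blt (cC i) (cC (i + 1))) 70000 250 = true := by decide +kernel

theorem incC_70250 : allRange (fun i => Nat.blt (cC i) (cC (i + 1))) 70250 250 = true := by decide +kernel

end Cfsg.Agent.Lib.Helper28.CeInc
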