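import Cfsg.Agent.Lib.Helper28.CeDefs

set_option autoImplicit false
set_option linter.all false
set_option maxRecDepth 1000000
set_option Elab.async false

namespace Cfsg.Agent.Lib.Helper28.CeInc

open Cfsg.Agent.Lib.Helper28 Cfsg.Agent.Lib.Helper28.CeDefs

theorem incC_70500 : allRange (fun i => Nat.blt (cC i) (cC (i + 1))) 70500 250 = true := by decide +kernel

theorem incC_70750 : allRange (fun i => Nat.blt (cC i) (cC (i + 1))) 70750 250 = true := by decide +kernel

theorem incC_71000 : allRange (fun i => Nat.blt (cC i) (cC (i + 1))) 71000 250 = true := by decide +kernel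

theorem incC_71250 : allRange (fun i => Nat.blt (cC i) (cC (i + 1))) 71250 250 = true := by decide +kernel

theorem incC_71500 : allRange (fun i => Nat.blt (cC i) (cC (i + 1))) 71500 250 = true := by decide +kernel

theorem incC_71750 : allRange (fun i => Nat.blt (cC i) (cC (i + 1))) 71750 250 = true := by decide +kernel

theorem incC_72000 : allRange (fun i => Nat.blt (cC i) (cC (i + 1))) 72000 250 = true := by decide +kernel

theorem incC_72250 : allRange (fun i => Nat.blt (cC i) (cC (i + 1))) 72250 250 = true := by decide +kernel

theorem incC_72500 : allRange (fun i => Nat.blt (cC i) (cC (i + 1))) 72500 250 = true := by decide +kernel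

theorem incC_72750 : allRange (fun i => Nat.blt (cC i) (cC (i + 1))) 72750 250 = true := by decide +kernel

theorem incC_73000 : allRange (fun i => Nat.blt (cC i) (cC (i + 1))) 73000 250 = true := by decide +kernel

theorem incC_73250 : allRange (fun i => Nat.blt (cC i) (cC (i + 1))) 73250 250 = true := by decide +kernel

theorem incC_73500 : allRange (fun i => Nat.blt (cC i) (cC (i + 1))) 73500 250 = true := by decide +kernel

theorem incC_73750 : allRange (fun i => Nat.blt (cC i) (cC (i + 1))) 73750 250 = true := by decide +kernel

theorem incC_74000 : allRange (fun i => Nat.blt (cC i) (cC (i + 1))) 74000 250 = true := by decide +kernel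

theorem incC_74250 : allRange (fun i => Nat.blt (cC i) (cC (i + 1))) 74250 250 = true := by decide +kernel

theorem incC_74500 : allRange (fun i => Nat.blt (cC i) (cC (i + 1))) 74500 250 = true := by decide +kernel

theorem incC_74750 : allRange (fun i => Nat.blt (cC i) (cC (i + 1))) 74750 250 = true := by decide +kernel

theorem incC_75000 : allRange (fun i => Nat.blt (cC i) (cC (i + 1))) 75000 250 = true := by decide +kernel

theorem incC_75250 : allRange (fun i => Nat.blt (cC i) (cC (i + 1))) 75250 250 = true := by decide +kernel

theorem incC_75500 : allRange (fun i => Nat.blt (cC i) (cC (i + 1))) 75500 250 = true := by decide +kernel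

theorem incC_75750 : allRange (fun i => Nat.blt (cC i) (cC (i + 1))) 75750 250 = true := by decide +kernel

theorem incC_76000 : allRange (fun i => Nat.blt (cC i) (cC (i + 1))) 76000 250 = true := by decide +kernel

theorem incC_76250 : allRange (fun i => Nat.blt (cC i) (cC (i + 1))) 76250 250 = true := by decide +kernel

theorem incC_76500 : allRange (fun i => Nat.blt (cC i) (cC (i + 1))) 76500 250 = true := by decide +kernel

theorem incC_76750 : allRange (fun i => Nat.blt (cC i) (cC (i + 1))) 76750 250 = true := by decide +kernel

theorem incC_77000 : allRange (fun i => Nat.blt (cC i) (cC (i + 1))) 77000 250 = true := by decide +kernel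

theorem incC_77250 : allRange (fun i => Nat.blt (cC i) (cC (i + 1))) 77250 250 = true := by decide +kernel

theorem incC_77500 : allRange (fun i => Nat.blt (cC i) (cC (i + 1))) 77500 250 = true := by decide +kernel

theorem incC_77750 : allRange (fun i => Nat.blt (cC i) (cC (i + 1))) 77750 250 = true := by decide +kernel

theorem incC_78000 : allRange (fun i => Nat.blt (cC i) (cC (i + 1))) 78000 250 = true := by decide +kernel

theorem incC_78250 : allRange (fun i => Nat.blt (cC i) (cC (i + 1))) 78250 250 = true := by decide +kernel

theorem incC_78500 : allRange (fun i => Nat.blt (cC i) (cC (i + 1))) 78500 250 = true := by decide +kernel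

theorem incC_78750 : allRange (fun i => Nat.blt (cC i) (cC (i + 1))) 78750 250 = true := by decide +kernel

theorem incC_79000 : allRange (fun i => Nat.blt (cC i) (cC (i + 1))) 79000 250 = true := by decide +kernel

theorem incC_79250 : allRange (fun i => Nat.blt (cC i) (cC (i + 1))) 79250 250 = true := by decide +kernel

theorem incC_79500 : allRange (fun i => Nat.blt (cC i) (cC (i + 1))) 79500 250 = true := by decide +kernel

theorem incC_79750 : allRange (fun i => Nat.blt (cC i) (cC (i + 1))) 79750 250 = true := by decide +kernel

theorem incC_80000 : allRange (fun i => Nat.blt (cC i) (cC (i + 1))) 80000 250 = true := by decide +kernel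

theorem incC_80250 : allRange (fun i => Nat.blt (cC i) (cC (i + 1))) 80250 250 = true := by decide +kernel

theorem incC_80500 : allRange (fun i => Nat.blt (cC i) (cC (i + 1))) 80500 250 = true := by decide +kernel

theorem incC_80750 : allRange (fun i => Nat.blt (cC i) (cC (i + 1))) 80750 250 = true := by decide +kernel

theorem incC_81000 : allRange (fun i => Nat.blt (cC i) (cC (i + 1))) 81000 250 = true := by decide +kernel

theorem incC_81250 : allRange (fun i => Nat.blt (cC i) (cC (i + 1))) 81250 250 = true := by decide +kernel

theorem incC_81500 : allRange (fun i => Nat.blt (cC i) (cC (i + 1))) 81500 250 = true := by decide +kernel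

theorem incC_81750 : allRange (fun i => Nat.blt (cC i) (cC (i + 1))) 81750 250 = true := by decide +kernel

theorem incC_82000 : allRange (fun i => Nat.blt (cC i) (cC (i + 1))) 82000 250 = true := by decide +kernel

end Cfsg.Agent.Lib.Helper28.CeInc
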