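import Cfsg.Agent.Lib.Helper28.CeDefs

set_option autoImplicit false
set_option linter.all false
set_option maxRecDepth 1000000
set_option Elab.async false

namespace Cfsg.Agent.Lib.Helper28.CeInc

open Cfsg.Agent.Lib.Helper28 Cfsg.Agent.Lib.Helper28.CeDefs

theorem incC_82250 : allRange (fun i => Nat.blt (cC i) (cC (i + 1))) 82250 250 = true := by decide +kernel

theorem incC_82500 : allRange (fun i => Nat.blt (cC i) (cC (i + 1))) 82500 250 = true := by decide +kernel

theorem incC_82750 : allRange (fun i => Nat.blt (cC i) (cC (i + 1))) 82750 250 = true := by decide +kernel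

theorem incC_83000 : allRange (fun i => Nat.blt (cC i) (cC (i + 1))) 83000 250 = true := by decide +kernel

theorem incC_83250 : allRange (fun i => Nat.blt (cC i) (cC (i + 1))) 83250 250 = true := by decide +kernel

theorem incC_83500 : allRange (fun i => Nat.blt (cC i) (cC (i + 1))) 83500 250 = true := by decide +kernel

theorem incC_83750 : allRange (fun i => Nat.blt (cC i) (cC (i + 1))) 83750 250 = true := by decide +kernel

theorem incC_84000 : allRange (fun i => Nat.blt (cC i) (cC (i + 1))) 84000 250 = true := by decide +kernel

theorem incC_84250 : allRange (fun i => Nat.blt (cC i) (cC (i + 1))) 84250 250 = true := by decide +kernel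

theorem incC_84500 : allRange (fun i => Nat.blt (cC i) (cC (i + 1))) 84500 250 = true := by decide +kernel

theorem incC_84750 : allRange (fun i => Nat.blt (cC i) (cC (i + 1))) 84750 250 = true := by decide +kernel

theorem incC_85000 : allRange (fun i => Nat.blt (cC i) (cC (i + 1))) 85000 250 = true := by decide +kernel

theorem incC_85250 : allRange (fun i => Nat.blt (cC i) (cC (i + 1))) 85250 250 = true := by decide +kernel

theorem incC_85500 : allRange (fun i => Nat.blt (cC i) (cC (i + 1))) 85500 250 = true := by decide +kernel

theorem incC_85750 : allRange (fun i => Nat.blt (cC i) (cC (i + 1))) 85750 250 = true := by decide +kernel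

theorem incC_86000 : allRange (fun i => Nat.blt (cC i) (cC (i + 1))) 86000 250 = true := by decide +kernel

theorem incC_86250 : allRange (fun i => Nat.blt (cC i) (cC (i + 1))) 86250 250 = true := by decide +kernel

theorem incC_86500 : allRange (fun i => Nat.blt (cC i) (cC (i + 1))) 86500 250 = true := by decide +kernel

theorem incC_86750 : allRange (fun i => Nat.blt (cC i) (cC (i + 1))) 86750 250 = true := by decide +kernel

theorem incC_87000 : allRange (fun i => Nat.blt (cC i) (cC (i + 1))) 87000 250 = true := by decide +kernel

theorem incC_87250 : allRange (fun i => Nat.blt (cC i) (cC (i + 1))) 87250 250 = true := by decide +kernel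

theorem incC_87500 : allRange (fun i => Nat.blt (cC i) (cC (i + 1))) 87500 250 = true := by decide +kernel

theorem incC_87750 : allRange (fun i => Nat.blt (cC i) (cC (i + 1))) 87750 250 = true := by decide +kernel

theorem incC_88000 : allRange (fun i => Nat.blt (cC i) (cC (i + 1))) 88000 250 = true := by decide +kernel

theorem incC_88250 : allRange (fun i => Nat.blt (cC i) (cC (i + 1))) 88250 250 = true := by decide +kernel

theorem incC_88500 : allRange (fun i => Nat.blt (cC i) (cC (i + 1))) 88500 250 = true := by decide +kernel

theorem incC_88750 : allRange (fun i => Nat.blt (cC i) (cC (i + 1))) 88750 250 = true := by decide +kernel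

theorem incC_89000 : allRange (fun i => Nat.blt (cC i) (cC (i + 1))) 89000 250 = true := by decide +kernel

theorem incC_89250 : allRange (fun i => Nat.blt (cC i) (cC (i + 1))) 89250 250 = true := by decide +kernel

theorem incC_89500 : allRange (fun i => Nat.blt (cC i) (cC (i + 1))) 89500 250 = true := by decide +kernel

theorem incC_89750 : allRange (fun i => Nat.blt (cC i) (cC (i + 1))) 89750 250 = true := by decide +kernel

theorem incC_90000 : allRange (fun i => Nat.blt (cC i) (cC (i + 1))) 90000 250 = true := by decide +kernel

theorem incC_90250 : allRange (fun i => Nat.blt (cC i) (cC (i + 1))) 90250 250 = true := by decide +kernel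

theorem incC_90500 : allRange (fun i => Nat.blt (cC i) (cC (i + 1))) 90500 250 = true := by decide +kernel

theorem incC_90750 : allRange (fun i => Nat.blt (cC i) (cC (i + 1))) 90750 250 = true := by decide +kernel

theorem incC_91000 : allRange (fun i => Nat.blt (cC i) (cC (i + 1))) 91000 250 = true := by decide +kernel

theorem incC_91250 : allRange (fun i => Nat.blt (cC i) (cC (i + 1))) 91250 250 = true := by decide +kernel

theorem incC_91500 : allRange (fun i => Nat.blt (cC i) (cC (i + 1))) 91500 250 = true := by decide +kernel

theorem incC_91750 : allRange (fun i => Nat.blt (cC i) (cC (i + 1))) 91750 250 = true := by decide +kernel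

theorem incC_92000 : allRange (fun i => Nat.blt (cC i) (cC (i + 1))) 92000 250 = true := by decide +kernel

theorem incC_92250 : allRange (fun i => Nat.blt (cC i) (cC (i + 1))) 92250 250 = true := by decide +kernel

theorem incC_92500 : allRange (fun i => Nat.blt (cC i) (cC (i + 1))) 92500 250 = true := by decide +kernel

theorem incC_92750 : allRange (fun i => Nat.blt (cC i) (cC (i + 1))) 92750 250 = true := by decide +kernel

theorem incC_93000 : allRange (fun i => Nat.blt (cC i) (cC (i + 1))) 93000 250 = true := by decide +kernel

theorem incC_93250 : allRange (fun i => Nat.blt (cC i) (cC (i + 1))) 93250 250 = true := by decide +kernel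

theorem incC_93500 : allRange (fun i => Nat.blt (cC i) (cC (i + 1))) 93500 250 = true := by decide +kernel

theorem incC_93750 : allRange (fun i => Nat.blt (cC i) (cC (i + 1))) 93750 249 = true := by decide +kernel

end Cfsg.Agent.Lib.Helper28.CeInc
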