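import Cfsg.Agent.Lib.Helper28.CeIncC0
import Cfsg.Agent.Lib.Helper28.CeIncC1
import Cfsg.Agent.Lib.Helper28.CeIncC2
import Cfsg.Agent.Lib.Helper28.CeIncC3
import Cfsg.Agent.Lib.Helper28.CeIncC4
import Cfsg.Agent.Lib.Helper28.CeIncC5
import Cfsg.Agent.Lib.Helper28.CeIncC6
import Cfsg.Agent.Lib.Helper28.CeIncC7
import Cfsg.Agent.Lib.Helper28.TCSound

set_option autoImplicit false
set_option linter.all false
set_option maxRecDepth 1000000

namespace Cfsg.Agent.Lib.Helper28.CeInc

open Cfsg.Agent.Lib.Helper28 Cfsg.Agent.Lib.Helper28.CeDefs

theorem incC_all : ∀ i, i + 1 < 94000 → cC i < cC (i + 1) := by
  intro i hi
  have hb : Nat.blt (cC i) (cC (i + 1)) = true := by
    rcases Nat.lt_or_ge i 47000 with h2 | h2
    · skip
      rcases Nat.lt_or_ge i 23500 with h3 | h3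
      · skip
        rcases Nat.lt_or_ge i 11750 with h4 | h4
        · skip
          rcases Nat.lt_or_ge i 5750 with h5 | h5
          · skip
            rcases Nat.lt_or_ge i 2750 with h6 | h6
            · skip
              rcases Nat.lt_or_ge i 1250 with h7 | h7
              · skip
                rcases Nat.lt_or_ge i 500 with h8 | h8
                · skip
                  rcases Nat.lt_or_ge i 250 with h9 | h9
                  · skip
                    exact allRange_sound _ 0 250 incC_0 i (by omega) (by omega)
                  · skip
                    exact allRange_sound _ 250 250 incC_250 i (by omega) (by omega)
                · skip
                  rcases Nat.lt_or_ge i 750 with h9 | h9
                  · skip
                    exact allRange_sound _ 500 250 incC_500 i (by omega) (by omega)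
                  · skip
                    rcases Nat.lt_or_ge i 1000 with h10 | h10
                    · skip
                      exact allRange_sound _ 750 250 incC_750 i (by omega) (by omega)
                    · skip
                      exact allRange_sound _ 1000 250 incC_1000 i (by omega) (by omega)
              · skip
                rcases Nat.lt_or_ge i 2000 with h8 | h8
                · skip
                  rcases Nat.lt_or_ge i 1500 with h9 | h9
                  · skip
                    exact allRange_sound _ 1250 250 incC_1250 i (by omega) (by omega)
                  · skip
                    rcases Nat.lt_or_ge i 1750 with h10 | h10
                    · skip
                      exact allRange_sound _ 1500 250 incC_1500 i (by omega) (by omega)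
                    · skip
                      exact allRange_sound _ 1750 250 incC_1750 i (by omega) (by omega)
                · skip
                  rcases Nat.lt_or_ge i 2250 with h9 | h9
                  · skip
                    exact allRange_sound _ 2000 250 incC_2000 i (by omega) (by omega)
                  · skip
                    rcases Nat.lt_or_ge i 2500 with h10 | h10
                    · skip
                      exact allRange_sound _ 2250 250 incC_2250 i (by omega) (by omega)
                    · skip
                      exact allRange_sound _ 2500 250 incC_2500 i (by omega) (by omega)
            · skip
              rcases Nat.lt_or_ge i 4250 with h7 | h7
              · skip
                rcases Nat.lt_or_ge i 3500 with h8 | h8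
                · skip
                  rcases Nat.lt_or_ge i 3000 with h9 | h9
                  · skip
                    exact allRange_sound _ 2750 250 incC_2750 i (by omega) (by omega)
                  · skip
                    rcases Nat.lt_or_ge i 3250 with h10 | h10
                    · skip
                      exact allRange_sound _ 3000 250 incC_3000 i (by omega) (by omega)
                    · skip
                      exact allRange_sound _ 3250 250 incC_3250 i (by omega) (by omega)
                · skip
                  rcases Nat.lt_or_ge i 3750 with h9 | h9
                  · skip
                    exact allRange_sound _ 3500 250 incC_3500 i (by omega) (by omega)
                  · skip
                    rcases Nat.lt_or_ge i 4000 with h10 | h10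
                    · skip
                      exact allRange_sound _ 3750 250 incC_3750 i (by omega) (by omega)
                    · skip
                      exact allRange_sound _ 4000 250 incC_4000 i (by omega) (by omega)
              · skip
                rcases Nat.lt_or_ge i 5000 with h8 | h8
                · skip
                  rcases Nat.lt_or_ge i 4500 with h9 | h9
                  · skip
                    exact allRange_sound _ 4250 250 incC_4250 i (by omega) (by omega)
                  · skip
                    rcases Nat.lt_or_ge i 4750 with h10 | h10
                    · skip
                      exact allRange_sound _ 4500 250 incC_4500 i (by omega) (by omega)
                    · skip
                      exact allRange_sound _ 4750 250 incC_4750 i (by omega) (by omega)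
                · skip
                  rcases Nat.lt_or_ge i 5250 with h9 | h9
                  · skip
                    exact allRange_sound _ 5000 250 incC_5000 i (by omega) (by omega)
                  · skip
                    rcases Nat.lt_or_ge i 5500 with h10 | h10
                    · skip
                      exact allRange_sound _ 5250 250 incC_5250 i (by omega) (by omega)
                    · skip
                      exact allRange_sound _ 5500 250 incC_5500 i (by omega) (by omega)
          · skip
            rcases Nat.lt_or_ge i 8750 with h6 | h6
            · skip
              rcases Nat.lt_or_ge i 7250 with h7 | h7
              · skip
                rcases Nat.lt_or_ge i 6500 with h8 | h8
                · skip
                  rcases Nat.lt_or_ge i 6000 with h9 | h9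
                  · skip
                    exact allRange_sound _ 5750 250 incC_5750 i (by omega) (by omega)
                  · skip
                    rcases Nat.lt_or_ge i 6250 with h10 | h10
                    · skip
                      exact allRange_sound _ 6000 250 incC_6000 i (by omega) (by omega)
                    · skip
                      exact allRange_sound _ 6250 250 incC_6250 i (by omega) (by omega)
                · skip
                  rcases Nat.lt_or_ge i 6750 with h9 | h9
                  · skip
                    exact allRange_sound _ 6500 250 incC_6500 i (by omega) (by omega)
                  · skip
                    rcases Nat.lt_or_ge i 7000 with h10 | h10
                    · skip
                      exact allRange_sound _ 6750 250 incC_6750 i (by omega) (by omega)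
                    · skip
                      exact allRange_sound _ 7000 250 incC_7000 i (by omega) (by omega)
              · skip
                rcases Nat.lt_or_ge i 8000 with h8 | h8
                · skip
                  rcases Nat.lt_or_ge i 7500 with h9 | h9
                  · skip
                    exact allRange_sound _ 7250 250 incC_7250 i (by omega) (by omega)
                  · skip
                    rcases Nat.lt_or_ge i 7750 with h10 | h10
                    · skip
                      exact allRange_sound _ 7500 250 incC_7500 i (by omega) (by omega)
                    · skip
                      exact allRange_sound _ 7750 250 incC_7750 i (by omega) (by omega)
                · skip
                  rcases Nat.lt_or_ge i 8250 with h9 | h9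
                  · skip
                    exact allRange_sound _ 8000 250 incC_8000 i (by omega) (by omega)
                  · skip
                    rcases Nat.lt_or_ge i 8500 with h10 | h10
                    · skip
                      exact allRange_sound _ 8250 250 incC_8250 i (by omega) (by omega)
                    · skip
                      exact allRange_sound _ 8500 250 incC_8500 i (by omega) (by omega)
            · skip
              rcases Nat.lt_or_ge i 10250 with h7 | h7
              · skip
                rcases Nat.lt_or_ge i 9500 with h8 | h8
                · skip
                  rcases Nat.lt_or_ge i 9000 with h9 | h9
                  · skip
                    exact allRange_sound _ 8750 250 incC_8750 i (by omega) (by omega)
                  · skip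
                    rcases Nat.lt_or_ge i 9250 with h10 | h10
                    · skip
                      exact allRange_sound _ 9000 250 incC_9000 i (by omega) (by omega)
                    · skip
                      exact allRange_sound _ 9250 250 incC_9250 i (by omega) (by omega)
                · skip
                  rcases Nat.lt_or_ge i 9750 with h9 | h9
                  · skip
                    exact allRange_sound _ 9500 250 incC_9500 i (by omega) (by omega)
                  · skip
                    rcases Nat.lt_or_ge i 10000 with h10 | h10
                    · skip
                      exact allRange_sound _ 9750 250 incC_9750 i (by omega) (by omega)
                    · skip
                      exact allRange_sound _ 10000 250 incC_10000 i (by omega) (by omega)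
              · skip
                rcases Nat.lt_or_ge i 11000 with h8 | h8
                · skip
                  rcases Nat.lt_or_ge i 10500 with h9 | h9
                  · skip
                    exact allRange_sound _ 10250 250 incC_10250 i (by omega) (by omega)
                  · skip
                    rcases Nat.lt_or_ge i 10750 with h10 | h10
                    · skip
                      exact allRange_sound _ 10500 250 incC_10500 i (by omega) (by omega)
                    · skip
                      exact allRange_sound _ 10750 250 incC_10750 i (by omega) (by omega)
                · skip
                  rcases Nat.lt_or_ge i 11250 with h9 | h9
                  · skip
                    exact allRange_sound _ 11000 250 incC_11000 i (by omega) (by omega)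
                  · skip
                    rcases Nat.lt_or_ge i 11500 with h10 | h10
                    · skip
                      exact allRange_sound _ 11250 250 incC_11250 i (by omega) (by omega)
                    · skip
                      exact allRange_sound _ 11500 250 incC_11500 i (by omega) (by omega)
        · skip
          rcases Nat.lt_or_ge i 17500 with h5 | h5
          · skip
            rcases Nat.lt_or_ge i 14500 with h6 | h6
            · skip
              rcases Nat.lt_or_ge i 13000 with h7 | h7
              · skip
                rcases Nat.lt_or_ge i 12250 with h8 | h8
                · skip
                  rcases Nat.lt_or_ge i 12000 with h9 | h9
                  · skip
                    exact allRange_sound _ 11750 250 incC_11750 i (by omega) (by omega)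
                  · skip
                    exact allRange_sound _ 12000 250 incC_12000 i (by omega) (by omega)
                · skip
                  rcases Nat.lt_or_ge i 12500 with h9 | h9
                  · skip
                    exact allRange_sound _ 12250 250 incC_12250 i (by omega) (by omega)
                  · skip
                    rcases Nat.lt_or_ge i 12750 with h10 | h10
                    · skip
                      exact allRange_sound _ 12500 250 incC_12500 i (by omega) (by omega)
                    · skip
                      exact allRange_sound _ 12750 250 incC_12750 i (by omega) (by omega)
              · skip
                rcases Nat.lt_or_ge i 13750 with h8 | h8
                · skip
                  rcases Nat.lt_or_ge i 13250 with h9 | h9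
                  · skip
                    exact allRange_sound _ 13000 250 incC_13000 i (by omega) (by omega)
                  · skip
                    rcases Nat.lt_or_ge i 13500 with h10 | h10
                    · skip
                      exact allRange_sound _ 13250 250 incC_13250 i (by omega) (by omega)
                    · skip
                      exact allRange_sound _ 13500 250 incC_13500 i (by omega) (by omega)
                · skip
                  rcases Nat.lt_or_ge i 14000 with h9 | h9
                  · skip
                    exact allRange_sound _ 13750 250 incC_13750 i (by omega) (by omega)
                  · skip
                    rcases Nat.lt_or_ge i 14250 with h10 | h10
                    · skip
                      exact allRange_sound _ 14000 250 incC_14000 i (by omega) (by omega)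
                    · skip
                      exact allRange_sound _ 14250 250 incC_14250 i (by omega) (by omega)
            · skip
              rcases Nat.lt_or_ge i 16000 with h7 | h7
              · skip
                rcases Nat.lt_or_ge i 15250 with h8 | h8
                · skip
                  rcases Nat.lt_or_ge i 14750 with h9 | h9
                  · skip
                    exact allRange_sound _ 14500 250 incC_14500 i (by omega) (by omega)
                  · skip
                    rcases Nat.lt_or_ge i 15000 with h10 | h10
                    · skip
                      exact allRange_sound _ 14750 250 incC_14750 i (by omega) (by omega)
                    · skip
                      exact allRange_sound _ 15000 250 incC_15000 i (by omega) (by omega)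
                · skip
                  rcases Nat.lt_or_ge i 15500 with h9 | h9
                  · skip
                    exact allRange_sound _ 15250 250 incC_15250 i (by omega) (by omega)
                  · skip
                    rcases Nat.lt_or_ge i 15750 with h10 | h10
                    · skip
                      exact allRange_sound _ 15500 250 incC_15500 i (by omega) (by omega)
                    · skip
                      exact allRange_sound _ 15750 250 incC_15750 i (by omega) (by omega)
              · skip
                rcases Nat.lt_or_ge i 16750 with h8 | h8
                · skip
                  rcases Nat.lt_or_ge i 16250 with h9 | h9
                  · skip
                    exact allRange_sound _ 16000 250 incC_16000 i (by omega) (by omega)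
                  · skip
                    rcases Nat.lt_or_ge i 16500 with h10 | h10
                    · skip
                      exact allRange_sound _ 16250 250 incC_16250 i (by omega) (by omega)
                    · skip
                      exact allRange_sound _ 16500 250 incC_16500 i (by omega) (by omega)
                · skip
                  rcases Nat.lt_or_ge i 17000 with h9 | h9
                  · skip
                    exact allRange_sound _ 16750 250 incC_16750 i (by omega) (by omega)
                  · skip
                    rcases Nat.lt_or_ge i 17250 with h10 | h10
                    · skip
                      exact allRange_sound _ 17000 250 incC_17000 i (by omega) (by omega)
                    · skip
                      exact allRange_sound _ 17250 250 incC_17250 i (by omega) (by omega)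
          · skip
            rcases Nat.lt_or_ge i 20500 with h6 | h6
            · skip
              rcases Nat.lt_or_ge i 19000 with h7 | h7
              · skip
                rcases Nat.lt_or_ge i 18250 with h8 | h8
                · skip
                  rcases Nat.lt_or_ge i 17750 with h9 | h9
                  · skip
                    exact allRange_sound _ 17500 250 incC_17500 i (by omega) (by omega)
                  · skip
                    rcases Nat.lt_or_ge i 18000 with h10 | h10
                    · skip
                      exact allRange_sound _ 17750 250 incC_17750 i (by omega) (by omega)
                    · skip
                      exact allRange_sound _ 18000 250 incC_18000 i (by omega) (by omega)
                · skip
                  rcases Nat.lt_or_ge i 18500 with h9 | h9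
                  · skip
                    exact allRange_sound _ 18250 250 incC_18250 i (by omega) (by omega)
                  · skip
                    rcases Nat.lt_or_ge i 18750 with h10 | h10
                    · skip
                      exact allRange_sound _ 18500 250 incC_18500 i (by omega) (by omega)
                    · skip
                      exact allRange_sound _ 18750 250 incC_18750 i (by omega) (by omega)
              · skip
                rcases Nat.lt_or_ge i 19750 with h8 | h8
                · skip
                  rcases Nat.lt_or_ge i 19250 with h9 | h9
                  · skip
                    exact allRange_sound _ 19000 250 incC_19000 i (by omega) (by omega)
                  · skip
                    rcases Nat.lt_or_ge i 19500 with h10 | h10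
                    · skip
                      exact allRange_sound _ 19250 250 incC_19250 i (by omega) (by omega)
                    · skip
                      exact allRange_sound _ 19500 250 incC_19500 i (by omega) (by omega)
                · skip
                  rcases Nat.lt_or_ge i 20000 with h9 | h9
                  · skip
                    exact allRange_sound _ 19750 250 incC_19750 i (by omega) (by omega)
                  · skip
                    rcases Nat.lt_or_ge i 20250 with h10 | h10
                    · skip
                      exact allRange_sound _ 20000 250 incC_20000 i (by omega) (by omega)
                    · skip
                      exact allRange_sound _ 20250 250 incC_20250 i (by omega) (by omega)
            · skip
              rcases Nat.lt_or_ge i 22000 with h7 | h7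
              · skip
                rcases Nat.lt_or_ge i 21250 with h8 | h8
                · skip
                  rcases Nat.lt_or_ge i 20750 with h9 | h9
                  · skip
                    exact allRange_sound _ 20500 250 incC_20500 i (by omega) (by omega)
                  · skip
                    rcases Nat.lt_or_ge i 21000 with h10 | h10
                    · skip
                      exact allRange_sound _ 20750 250 incC_20750 i (by omega) (by omega)
                    · skip
                      exact allRange_sound _ 21000 250 incC_21000 i (by omega) (by omega)
                · skip
                  rcases Nat.lt_or_ge i 21500 with h9 | h9
                  · skip
                    exact allRange_sound _ 21250 250 incC_21250 i (by omega) (by omega)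
                  · skip
                    rcases Nat.lt_or_ge i 21750 with h10 | h10
                    · skip
                      exact allRange_sound _ 21500 250 incC_21500 i (by omega) (by omega)
                    · skip
                      exact allRange_sound _ 21750 250 incC_21750 i (by omega) (by omega)
              · skip
                rcases Nat.lt_or_ge i 22750 with h8 | h8
                · skip
                  rcases Nat.lt_or_ge i 22250 with h9 | h9
                  · skip
                    exact allRange_sound _ 22000 250 incC_22000 i (by omega) (by omega)
                  · skip
                    rcases Nat.lt_or_ge i 22500 with h10 | h10
                    · skip
                      exact allRange_sound _ 22250 250 incC_22250 i (by omega) (by omega)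
                    · skip
                      exact allRange_sound _ 22500 250 incC_22500 i (by omega) (by omega)
                · skip
                  rcases Nat.lt_or_ge i 23000 with h9 | h9
                  · skip
                    exact allRange_sound _ 22750 250 incC_22750 i (by omega) (by omega)
                  · skip
                    rcases Nat.lt_or_ge i 23250 with h10 | h10
                    · skip
                      exact allRange_sound _ 23000 250 incC_23000 i (by omega) (by omega)
                    · skip
                      exact allRange_sound _ 23250 250 incC_23250 i (by omega) (by omega)
      · skip
        rcases Nat.lt_or_ge i 35250 with h4 | h4
        · skip
          rcases Nat.lt_or_ge i 29250 with h5 | h5
          · skip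
            rcases Nat.lt_or_ge i 26250 with h6 | h6
            · skip
              rcases Nat.lt_or_ge i 24750 with h7 | h7
              · skip
                rcases Nat.lt_or_ge i 24000 with h8 | h8
                · skip
                  rcases Nat.lt_or_ge i 23750 with h9 | h9
                  · skip
                    exact allRange_sound _ 23500 250 incC_23500 i (by omega) (by omega)
                  · skip
                    exact allRange_sound _ 23750 250 incC_23750 i (by omega) (by omega)
                · skip
                  rcases Nat.lt_or_ge i 24250 with h9 | h9
                  · skip
                    exact allRange_sound _ 24000 250 incC_24000 i (by omega) (by omega)
                  · skip
                    rcases Nat.lt_or_ge i 24500 with h10 | h10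
                    · skip
                      exact allRange_sound _ 24250 250 incC_24250 i (by omega) (by omega)
                    · skip
                      exact allRange_sound _ 24500 250 incC_24500 i (by omega) (by omega)
              · skip
                rcases Nat.lt_or_ge i 25500 with h8 | h8
                · skip
                  rcases Nat.lt_or_ge i 25000 with h9 | h9
                  · skip
                    exact allRange_sound _ 24750 250 incC_24750 i (by omega) (by omega)
                  · skip
                    rcases Nat.lt_or_ge i 25250 with h10 | h10
                    · skip
                      exact allRange_sound _ 25000 250 incC_25000 i (by omega) (by omega)
                    · skip
                      exact allRange_sound _ 25250 250 incC_25250 i (by omega) (by omega)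
                · skip
                  rcases Nat.lt_or_ge i 25750 with h9 | h9
                  · skip
                    exact allRange_sound _ 25500 250 incC_25500 i (by omega) (by omega)
                  · skip
                    rcases Nat.lt_or_ge i 26000 with h10 | h10
                    · skip
                      exact allRange_sound _ 25750 250 incC_25750 i (by omega) (by omega)
                    · skip
                      exact allRange_sound _ 26000 250 incC_26000 i (by omega) (by omega)
            · skip
              rcases Nat.lt_or_ge i 27750 with h7 | h7
              · skip
                rcases Nat.lt_or_ge i 27000 with h8 | h8
                · skip
                  rcases Nat.lt_or_ge i 26500 with h9 | h9
                  · skip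
                    exact allRange_sound _ 26250 250 incC_26250 i (by omega) (by omega)
                  · skip
                    rcases Nat.lt_or_ge i 26750 with h10 | h10
                    · skip
                      exact allRange_sound _ 26500 250 incC_26500 i (by omega) (by omega)
                    · skip
                      exact allRange_sound _ 26750 250 incC_26750 i (by omega) (by omega)
                · skip
                  rcases Nat.lt_or_ge i 27250 with h9 | h9
                  · skip
                    exact allRange_sound _ 27000 250 incC_27000 i (by omega) (by omega)
                  · skip
                    rcases Nat.lt_or_ge i 27500 with h10 | h10
                    · skip
                      exact allRange_sound _ 27250 250 incC_27250 i (by omega) (by omega)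
                    · skip
                      exact allRange_sound _ 27500 250 incC_27500 i (by omega) (by omega)
              · skip
                rcases Nat.lt_or_ge i 28500 with h8 | h8
                · skip
                  rcases Nat.lt_or_ge i 28000 with h9 | h9
                  · skip
                    exact allRange_sound _ 27750 250 incC_27750 i (by omega) (by omega)
                  · skip
                    rcases Nat.lt_or_ge i 28250 with h10 | h10
                    · skip
                      exact allRange_sound _ 28000 250 incC_28000 i (by omega) (by omega)
                    · skip
                      exact allRange_sound _ 28250 250 incC_28250 i (by omega) (by omega)
                · skip
                  rcases Nat.lt_or_ge i 28750 with h9 | h9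
                  · skip
                    exact allRange_sound _ 28500 250 incC_28500 i (by omega) (by omega)
                  · skip
                    rcases Nat.lt_or_ge i 29000 with h10 | h10
                    · skip
                      exact allRange_sound _ 28750 250 incC_28750 i (by omega) (by omega)
                    · skip
                      exact allRange_sound _ 29000 250 incC_29000 i (by omega) (by omega)
          · skip
            rcases Nat.lt_or_ge i 32250 with h6 | h6
            · skip
              rcases Nat.lt_or_ge i 30750 with h7 | h7
              · skip
                rcases Nat.lt_or_ge i 30000 with h8 | h8
                · skip
                  rcases Nat.lt_or_ge i 29500 with h9 | h9
                  · skip
                    exact allRange_sound _ 29250 250 incC_29250 i (by omega) (by omega)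
                  · skip
                    rcases Nat.lt_or_ge i 29750 with h10 | h10
                    · skip
                      exact allRange_sound _ 29500 250 incC_29500 i (by omega) (by omega)
                    · skip
                      exact allRange_sound _ 29750 250 incC_29750 i (by omega) (by omega)
                · skip
                  rcases Nat.lt_or_ge i 30250 with h9 | h9
                  · skip
                    exact allRange_sound _ 30000 250 incC_30000 i (by omega) (by omega)
                  · skip
                    rcases Nat.lt_or_ge i 30500 with h10 | h10
                    · skip
                      exact allRange_sound _ 30250 250 incC_30250 i (by omega) (by omega)
                    · skip
                      exact allRange_sound _ 30500 250 incC_30500 i (by omega) (by omega)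
              · skip
                rcases Nat.lt_or_ge i 31500 with h8 | h8
                · skip
                  rcases Nat.lt_or_ge i 31000 with h9 | h9
                  · skip
                    exact allRange_sound _ 30750 250 incC_30750 i (by omega) (by omega)
                  · skip
                    rcases Nat.lt_or_ge i 31250 with h10 | h10
                    · skip
                      exact allRange_sound _ 31000 250 incC_31000 i (by omega) (by omega)
                    · skip
                      exact allRange_sound _ 31250 250 incC_31250 i (by omega) (by omega)
                · skip
                  rcases Nat.lt_or_ge i 31750 with h9 | h9
                  · skip
                    exact allRange_sound _ 31500 250 incC_31500 i (by omega) (by omega)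
                  · skip
                    rcases Nat.lt_or_ge i 32000 with h10 | h10
                    · skip
                      exact allRange_sound _ 31750 250 incC_31750 i (by omega) (by omega)
                    · skip
                      exact allRange_sound _ 32000 250 incC_32000 i (by omega) (by omega)
            · skip
              rcases Nat.lt_or_ge i 33750 with h7 | h7
              · skip
                rcases Nat.lt_or_ge i 33000 with h8 | h8
                · skip
                  rcases Nat.lt_or_ge i 32500 with h9 | h9
                  · skip
                    exact allRange_sound _ 32250 250 incC_32250 i (by omega) (by omega)
                  · skip
                    rcases Nat.lt_or_ge i 32750 with h10 | h10
                    · skip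
                      exact allRange_sound _ 32500 250 incC_32500 i (by omega) (by omega)
                    · skip
                      exact allRange_sound _ 32750 250 incC_32750 i (by omega) (by omega)
                · skip
                  rcases Nat.lt_or_ge i 33250 with h9 | h9
                  · skip
                    exact allRange_sound _ 33000 250 incC_33000 i (by omega) (by omega)
                  · skip
                    rcases Nat.lt_or_ge i 33500 with h10 | h10
                    · skip
                      exact allRange_sound _ 33250 250 incC_33250 i (by omega) (by omega)
                    · skip
                      exact allRange_sound _ 33500 250 incC_33500 i (by omega) (by omega)
              · skip
                rcases Nat.lt_or_ge i 34500 with h8 | h8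
                · skip
                  rcases Nat.lt_or_ge i 34000 with h9 | h9
                  · skip
                    exact allRange_sound _ 33750 250 incC_33750 i (by omega) (by omega)
                  · skip
                    rcases Nat.lt_or_ge i 34250 with h10 | h10
                    · skip
                      exact allRange_sound _ 34000 250 incC_34000 i (by omega) (by omega)
                    · skip
                      exact allRange_sound _ 34250 250 incC_34250 i (by omega) (by omega)
                · skip
                  rcases Nat.lt_or_ge i 34750 with h9 | h9
                  · skip
                    exact allRange_sound _ 34500 250 incC_34500 i (by omega) (by omega)
                  · skip
                    rcases Nat.lt_or_ge i 35000 with h10 | h10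
                    · skip
                      exact allRange_sound _ 34750 250 incC_34750 i (by omega) (by omega)
                    · skip
                      exact allRange_sound _ 35000 250 incC_35000 i (by omega) (by omega)
        · skip
          rcases Nat.lt_or_ge i 41000 with h5 | h5
          · skip
            rcases Nat.lt_or_ge i 38000 with h6 | h6
            · skip
              rcases Nat.lt_or_ge i 36500 with h7 | h7
              · skip
                rcases Nat.lt_or_ge i 35750 with h8 | h8
                · skip
                  rcases Nat.lt_or_ge i 35500 with h9 | h9
                  · skip
                    exact allRange_sound _ 35250 250 incC_35250 i (by omega) (by omega)
                  · skip
                    exact allRange_sound _ 35500 250 incC_35500 i (by omega) (by omega)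
                · skip
                  rcases Nat.lt_or_ge i 36000 with h9 | h9
                  · skip
                    exact allRange_sound _ 35750 250 incC_35750 i (by omega) (by omega)
                  · skip
                    rcases Nat.lt_or_ge i 36250 with h10 | h10
                    · skip
                      exact allRange_sound _ 36000 250 incC_36000 i (by omega) (by omega)
                    · skip
                      exact allRange_sound _ 36250 250 incC_36250 i (by omega) (by omega)
              · skip
                rcases Nat.lt_or_ge i 37250 with h8 | h8
                · skip
                  rcases Nat.lt_or_ge i 36750 with h9 | h9
                  · skip
                    exact allRange_sound _ 36500 250 incC_36500 i (by omega) (by omega)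
                  · skip
                    rcases Nat.lt_or_ge i 37000 with h10 | h10
                    · skip
                      exact allRange_sound _ 36750 250 incC_36750 i (by omega) (by omega)
                    · skip
                      exact allRange_sound _ 37000 250 incC_37000 i (by omega) (by omega)
                · skip
                  rcases Nat.lt_or_ge i 37500 with h9 | h9
                  · skip
                    exact allRange_sound _ 37250 250 incC_37250 i (by omega) (by omega)
                  · skip
                    rcases Nat.lt_or_ge i 37750 with h10 | h10
                    · skip
                      exact allRange_sound _ 37500 250 incC_37500 i (by omega) (by omega)
                    · skip
                      exact allRange_sound _ 37750 250 incC_37750 i (by omega) (by omega)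
            · skip
              rcases Nat.lt_or_ge i 39500 with h7 | h7
              · skip
                rcases Nat.lt_or_ge i 38750 with h8 | h8
                · skip
                  rcases Nat.lt_or_ge i 38250 with h9 | h9
                  · skip
                    exact allRange_sound _ 38000 250 incC_38000 i (by omega) (by omega)
                  · skip
                    rcases Nat.lt_or_ge i 38500 with h10 | h10
                    · skip
                      exact allRange_sound _ 38250 250 incC_38250 i (by omega) (by omega)
                    · skip
                      exact allRange_sound _ 38500 250 incC_38500 i (by omega) (by omega)
                · skip
                  rcases Nat.lt_or_ge i 39000 with h9 | h9
                  · skip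
                    exact allRange_sound _ 38750 250 incC_38750 i (by omega) (by omega)
                  · skip
                    rcases Nat.lt_or_ge i 39250 with h10 | h10
                    · skip
                      exact allRange_sound _ 39000 250 incC_39000 i (by omega) (by omega)
                    · skip
                      exact allRange_sound _ 39250 250 incC_39250 i (by omega) (by omega)
              · skip
                rcases Nat.lt_or_ge i 40250 with h8 | h8
                · skip
                  rcases Nat.lt_or_ge i 39750 with h9 | h9
                  · skip
                    exact allRange_sound _ 39500 250 incC_39500 i (by omega) (by omega)
                  · skip
                    rcases Nat.lt_or_ge i 40000 with h10 | h10
                    · skip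
                      exact allRange_sound _ 39750 250 incC_39750 i (by omega) (by omega)
                    · skip
                      exact allRange_sound _ 40000 250 incC_40000 i (by omega) (by omega)
                · skip
                  rcases Nat.lt_or_ge i 40500 with h9 | h9
                  · skip
                    exact allRange_sound _ 40250 250 incC_40250 i (by omega) (by omega)
                  · skip
                    rcases Nat.lt_or_ge i 40750 with h10 | h10
                    · skip
                      exact allRange_sound _ 40500 250 incC_40500 i (by omega) (by omega)
                    · skip
                      exact allRange_sound _ 40750 250 incC_40750 i (by omega) (by omega)
          · skip
            rcases Nat.lt_or_ge i 44000 with h6 | h6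
            · skip
              rcases Nat.lt_or_ge i 42500 with h7 | h7
              · skip
                rcases Nat.lt_or_ge i 41750 with h8 | h8
                · skip
                  rcases Nat.lt_or_ge i 41250 with h9 | h9
                  · skip
                    exact allRange_sound _ 41000 250 incC_41000 i (by omega) (by omega)
                  · skip
                    rcases Nat.lt_or_ge i 41500 with h10 | h10
                    · skip
                      exact allRange_sound _ 41250 250 incC_41250 i (by omega) (by omega)
                    · skip
                      exact allRange_sound _ 41500 250 incC_41500 i (by omega) (by omega)
                · skip
                  rcases Nat.lt_or_ge i 42000 with h9 | h9
                  · skip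
                    exact allRange_sound _ 41750 250 incC_41750 i (by omega) (by omega)
                  · skip
                    rcases Nat.lt_or_ge i 42250 with h10 | h10
                    · skip
                      exact allRange_sound _ 42000 250 incC_42000 i (by omega) (by omega)
                    · skip
                      exact allRange_sound _ 42250 250 incC_42250 i (by omega) (by omega)
              · skip
                rcases Nat.lt_or_ge i 43250 with h8 | h8
                · skip
                  rcases Nat.lt_or_ge i 42750 with h9 | h9
                  · skip
                    exact allRange_sound _ 42500 250 incC_42500 i (by omega) (by omega)
                  · skip
                    rcases Nat.lt_or_ge i 43000 with h10 | h10
                    · skip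
                      exact allRange_sound _ 42750 250 incC_42750 i (by omega) (by omega)
                    · skip
                      exact allRange_sound _ 43000 250 incC_43000 i (by omega) (by omega)
                · skip
                  rcases Nat.lt_or_ge i 43500 with h9 | h9
                  · skip
                    exact allRange_sound _ 43250 250 incC_43250 i (by omega) (by omega)
                  · skip
                    rcases Nat.lt_or_ge i 43750 with h10 | h10
                    · skip
                      exact allRange_sound _ 43500 250 incC_43500 i (by omega) (by omega)
                    · skip
                      exact allRange_sound _ 43750 250 incC_43750 i (by omega) (by omega)
            · skip
              rcases Nat.lt_or_ge i 45500 with h7 | h7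
              · skip
                rcases Nat.lt_or_ge i 44750 with h8 | h8
                · skip
                  rcases Nat.lt_or_ge i 44250 with h9 | h9
                  · skip
                    exact allRange_sound _ 44000 250 incC_44000 i (by omega) (by omega)
                  · skip
                    rcases Nat.lt_or_ge i 44500 with h10 | h10
                    · skip
                      exact allRange_sound _ 44250 250 incC_44250 i (by omega) (by omega)
                    · skip
                      exact allRange_sound _ 44500 250 incC_44500 i (by omega) (by omega)
                · skip
                  rcases Nat.lt_or_ge i 45000 with h9 | h9
                  · skip
                    exact allRange_sound _ 44750 250 incC_44750 i (by omega) (by omega)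
                  · skip
                    rcases Nat.lt_or_ge i 45250 with h10 | h10
                    · skip
                      exact allRange_sound _ 45000 250 incC_45000 i (by omega) (by omega)
                    · skip
                      exact allRange_sound _ 45250 250 incC_45250 i (by omega) (by omega)
              · skip
                rcases Nat.lt_or_ge i 46250 with h8 | h8
                · skip
                  rcases Nat.lt_or_ge i 45750 with h9 | h9
                  · skip
                    exact allRange_sound _ 45500 250 incC_45500 i (by omega) (by omega)
                  · skip
                    rcases Nat.lt_or_ge i 46000 with h10 | h10
                    · skip
                      exact allRange_sound _ 45750 250 incC_45750 i (by omega) (by omega)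
                    · skip
                      exact allRange_sound _ 46000 250 incC_46000 i (by omega) (by omega)
                · skip
                  rcases Nat.lt_or_ge i 46500 with h9 | h9
                  · skip
                    exact allRange_sound _ 46250 250 incC_46250 i (by omega) (by omega)
                  · skip
                    rcases Nat.lt_or_ge i 46750 with h10 | h10
                    · skip
                      exact allRange_sound _ 46500 250 incC_46500 i (by omega) (by omega)
                    · skip
                      exact allRange_sound _ 46750 250 incC_46750 i (by omega) (by omega)
    · skip
      rcases Nat.lt_or_ge i 70500 with h3 | h3
      · skip
        rcases Nat.lt_or_ge i 58750 with h4 | h4
        · skip
          rcases Nat.lt_or_ge i 52750 with h5 | h5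
          · skip
            rcases Nat.lt_or_ge i 49750 with h6 | h6
            · skip
              rcases Nat.lt_or_ge i 48250 with h7 | h7
              · skip
                rcases Nat.lt_or_ge i 47500 with h8 | h8
                · skip
                  rcases Nat.lt_or_ge i 47250 with h9 | h9
                  · skip
                    exact allRange_sound _ 47000 250 incC_47000 i (by omega) (by omega)
                  · skip
                    exact allRange_sound _ 47250 250 incC_47250 i (by omega) (by omega)
                · skip
                  rcases Nat.lt_or_ge i 47750 with h9 | h9
                  · skip
                    exact allRange_sound _ 47500 250 incC_47500 i (by omega) (by omega)
                  · skip
                    rcases Nat.lt_or_ge i 48000 with h10 | h10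
                    · skip
                      exact allRange_sound _ 47750 250 incC_47750 i (by omega) (by omega)
                    · skip
                      exact allRange_sound _ 48000 250 incC_48000 i (by omega) (by omega)
              · skip
                rcases Nat.lt_or_ge i 49000 with h8 | h8
                · skip
                  rcases Nat.lt_or_ge i 48500 with h9 | h9
                  · skip
                    exact allRange_sound _ 48250 250 incC_48250 i (by omega) (by omega)
                  · skip
                    rcases Nat.lt_or_ge i 48750 with h10 | h10
                    · skip
                      exact allRange_sound _ 48500 250 incC_48500 i (by omega) (by omega)
                    · skip
                      exact allRange_sound _ 48750 250 incC_48750 i (by omega) (by omega)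
                · skip
                  rcases Nat.lt_or_ge i 49250 with h9 | h9
                  · skip
                    exact allRange_sound _ 49000 250 incC_49000 i (by omega) (by omega)
                  · skip
                    rcases Nat.lt_or_ge i 49500 with h10 | h10
                    · skip
                      exact allRange_sound _ 49250 250 incC_49250 i (by omega) (by omega)
                    · skip
                      exact allRange_sound _ 49500 250 incC_49500 i (by omega) (by omega)
            · skip
              rcases Nat.lt_or_ge i 51250 with h7 | h7
              · skip
                rcases Nat.lt_or_ge i 50500 with h8 | h8
                · skip
                  rcases Nat.lt_or_ge i 50000 with h9 | h9
                  · skip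
                    exact allRange_sound _ 49750 250 incC_49750 i (by omega) (by omega)
                  · skip
                    rcases Nat.lt_or_ge i 50250 with h10 | h10
                    · skip
                      exact allRange_sound _ 50000 250 incC_50000 i (by omega) (by omega)
                    · skip
                      exact allRange_sound _ 50250 250 incC_50250 i (by omega) (by omega)
                · skip
                  rcases Nat.lt_or_ge i 50750 with h9 | h9
                  · skip
                    exact allRange_sound _ 50500 250 incC_50500 i (by omega) (by omega)
                  · skip
                    rcases Nat.lt_or_ge i 51000 with h10 | h10
                    · skip
                      exact allRange_sound _ 50750 250 incC_50750 i (by omega) (by omega)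
                    · skip
                      exact allRange_sound _ 51000 250 incC_51000 i (by omega) (by omega)
              · skip
                rcases Nat.lt_or_ge i 52000 with h8 | h8
                · skip
                  rcases Nat.lt_or_ge i 51500 with h9 | h9
                  · skip
                    exact allRange_sound _ 51250 250 incC_51250 i (by omega) (by omega)
                  · skip
                    rcases Nat.lt_or_ge i 51750 with h10 | h10
                    · skip
                      exact allRange_sound _ 51500 250 incC_51500 i (by omega) (by omega)
                    · skip
                      exact allRange_sound _ 51750 250 incC_51750 i (by omega) (by omega)
                · skip
                  rcases Nat.lt_or_ge i 52250 with h9 | h9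
                  · skip
                    exact allRange_sound _ 52000 250 incC_52000 i (by omega) (by omega)
                  · skip
                    rcases Nat.lt_or_ge i 52500 with h10 | h10
                    · skip
                      exact allRange_sound _ 52250 250 incC_52250 i (by omega) (by omega)
                    · skip
                      exact allRange_sound _ 52500 250 incC_52500 i (by omega) (by omega)
          · skip
            rcases Nat.lt_or_ge i 55750 with h6 | h6
            · skip
              rcases Nat.lt_or_ge i 54250 with h7 | h7
              · skip
                rcases Nat.lt_or_ge i 53500 with h8 | h8
                · skip
                  rcases Nat.lt_or_ge i 53000 with h9 | h9
                  · skip
                    exact allRange_sound _ 52750 250 incC_52750 i (by omega) (by omega)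
                  · skip
                    rcases Nat.lt_or_ge i 53250 with h10 | h10
                    · skip
                      exact allRange_sound _ 53000 250 incC_53000 i (by omega) (by omega)
                    · skip
                      exact allRange_sound _ 53250 250 incC_53250 i (by omega) (by omega)
                · skip
                  rcases Nat.lt_or_ge i 53750 with h9 | h9
                  · skip
                    exact allRange_sound _ 53500 250 incC_53500 i (by omega) (by omega)
                  · skip
                    rcases Nat.lt_or_ge i 54000 with h10 | h10
                    · skip
                      exact allRange_sound _ 53750 250 incC_53750 i (by omega) (by omega)
                    · skip
                      exact allRange_sound _ 54000 250 incC_54000 i (by omega) (by omega)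
              · skip
                rcases Nat.lt_or_ge i 55000 with h8 | h8
                · skip
                  rcases Nat.lt_or_ge i 54500 with h9 | h9
                  · skip
                    exact allRange_sound _ 54250 250 incC_54250 i (by omega) (by omega)
                  · skip
                    rcases Nat.lt_or_ge i 54750 with h10 | h10
                    · skip
                      exact allRange_sound _ 54500 250 incC_54500 i (by omega) (by omega)
                    · skip
                      exact allRange_sound _ 54750 250 incC_54750 i (by omega) (by omega)
                · skip
                  rcases Nat.lt_or_ge i 55250 with h9 | h9
                  · skip
                    exact allRange_sound _ 55000 250 incC_55000 i (by omega) (by omega)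
                  · skip
                    rcases Nat.lt_or_ge i 55500 with h10 | h10
                    · skip
                      exact allRange_sound _ 55250 250 incC_55250 i (by omega) (by omega)
                    · skip
                      exact allRange_sound _ 55500 250 incC_55500 i (by omega) (by omega)
            · skip
              rcases Nat.lt_or_ge i 57250 with h7 | h7
              · skip
                rcases Nat.lt_or_ge i 56500 with h8 | h8
                · skip
                  rcases Nat.lt_or_ge i 56000 with h9 | h9
                  · skip
                    exact allRange_sound _ 55750 250 incC_55750 i (by omega) (by omega)
                  · skip
                    rcases Nat.lt_or_ge i 56250 with h10 | h10
                    · skip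
                      exact allRange_sound _ 56000 250 incC_56000 i (by omega) (by omega)
                    · skip
                      exact allRange_sound _ 56250 250 incC_56250 i (by omega) (by omega)
                · skip
                  rcases Nat.lt_or_ge i 56750 with h9 | h9
                  · skip
                    exact allRange_sound _ 56500 250 incC_56500 i (by omega) (by omega)
                  · skip
                    rcases Nat.lt_or_ge i 57000 with h10 | h10
                    · skip
                      exact allRange_sound _ 56750 250 incC_56750 i (by omega) (by omega)
                    · skip
                      exact allRange_sound _ 57000 250 incC_57000 i (by omega) (by omega)
              · skip
                rcases Nat.lt_or_ge i 58000 with h8 | h8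
                · skip
                  rcases Nat.lt_or_ge i 57500 with h9 | h9
                  · skip
                    exact allRange_sound _ 57250 250 incC_57250 i (by omega) (by omega)
                  · skip
                    rcases Nat.lt_or_ge i 57750 with h10 | h10
                    · skip
                      exact allRange_sound _ 57500 250 incC_57500 i (by omega) (by omega)
                    · skip
                      exact allRange_sound _ 57750 250 incC_57750 i (by omega) (by omega)
                · skip
                  rcases Nat.lt_or_ge i 58250 with h9 | h9
                  · skip
                    exact allRange_sound _ 58000 250 incC_58000 i (by omega) (by omega)
                  · skip
                    rcases Nat.lt_or_ge i 58500 with h10 | h10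
                    · skip
                      exact allRange_sound _ 58250 250 incC_58250 i (by omega) (by omega)
                    · skip
                      exact allRange_sound _ 58500 250 incC_58500 i (by omega) (by omega)
        · skip
          rcases Nat.lt_or_ge i 64500 with h5 | h5
          · skip
            rcases Nat.lt_or_ge i 61500 with h6 | h6
            · skip
              rcases Nat.lt_or_ge i 60000 with h7 | h7
              · skip
                rcases Nat.lt_or_ge i 59250 with h8 | h8
                · skip
                  rcases Nat.lt_or_ge i 59000 with h9 | h9
                  · skip
                    exact allRange_sound _ 58750 250 incC_58750 i (by omega) (by omega)
                  · skip
                    exact allRange_sound _ 59000 250 incC_59000 i (by omega) (by omega)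
                · skip
                  rcases Nat.lt_or_ge i 59500 with h9 | h9
                  · skip
                    exact allRange_sound _ 59250 250 incC_59250 i (by omega) (by omega)
                  · skip
                    rcases Nat.lt_or_ge i 59750 with h10 | h10
                    · skip
                      exact allRange_sound _ 59500 250 incC_59500 i (by omega) (by omega)
                    · skip
                      exact allRange_sound _ 59750 250 incC_59750 i (by omega) (by omega)
              · skip
                rcases Nat.lt_or_ge i 60750 with h8 | h8
                · skip
                  rcases Nat.lt_or_ge i 60250 with h9 | h9
                  · skip
                    exact allRange_sound _ 60000 250 incC_60000 i (by omega) (by omega)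
                  · skip
                    rcases Nat.lt_or_ge i 60500 with h10 | h10
                    · skip
                      exact allRange_sound _ 60250 250 incC_60250 i (by omega) (by omega)
                    · skip
                      exact allRange_sound _ 60500 250 incC_60500 i (by omega) (by omega)
                · skip
                  rcases Nat.lt_or_ge i 61000 with h9 | h9
                  · skip
                    exact allRange_sound _ 60750 250 incC_60750 i (by omega) (by omega)
                  · skip
                    rcases Nat.lt_or_ge i 61250 with h10 | h10
                    · skip
                      exact allRange_sound _ 61000 250 incC_61000 i (by omega) (by omega)
                    · skip
                      exact allRange_sound _ 61250 250 incC_61250 i (by omega) (by omega)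
            · skip
              rcases Nat.lt_or_ge i 63000 with h7 | h7
              · skip
                rcases Nat.lt_or_ge i 62250 with h8 | h8
                · skip
                  rcases Nat.lt_or_ge i 61750 with h9 | h9
                  · skip
                    exact allRange_sound _ 61500 250 incC_61500 i (by omega) (by omega)
                  · skip
                    rcases Nat.lt_or_ge i 62000 with h10 | h10
                    · skip
                      exact allRange_sound _ 61750 250 incC_61750 i (by omega) (by omega)
                    · skip
                      exact allRange_sound _ 62000 250 incC_62000 i (by omega) (by omega)
                · skip
                  rcases Nat.lt_or_ge i 62500 with h9 | h9
                  · skip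
                    exact allRange_sound _ 62250 250 incC_62250 i (by omega) (by omega)
                  · skip
                    rcases Nat.lt_or_ge i 62750 with h10 | h10
                    · skip
                      exact allRange_sound _ 62500 250 incC_62500 i (by omega) (by omega)
                    · skip
                      exact allRange_sound _ 62750 250 incC_62750 i (by omega) (by omega)
              · skip
                rcases Nat.lt_or_ge i 63750 with h8 | h8
                · skip
                  rcases Nat.lt_or_ge i 63250 with h9 | h9
                  · skip
                    exact allRange_sound _ 63000 250 incC_63000 i (by omega) (by omega)
                  · skip
                    rcases Nat.lt_or_ge i 63500 with h10 | h10
                    · skip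
                      exact allRange_sound _ 63250 250 incC_63250 i (by omega) (by omega)
                    · skip
                      exact allRange_sound _ 63500 250 incC_63500 i (by omega) (by omega)
                · skip
                  rcases Nat.lt_or_ge i 64000 with h9 | h9
                  · skip
                    exact allRange_sound _ 63750 250 incC_63750 i (by omega) (by omega)
                  · skip
                    rcases Nat.lt_or_ge i 64250 with h10 | h10
                    · skip
                      exact allRange_sound _ 64000 250 incC_64000 i (by omega) (by omega)
                    · skip
                      exact allRange_sound _ 64250 250 incC_64250 i (by omega) (by omega)
          · skip
            rcases Nat.lt_or_ge i 67500 with h6 | h6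
            · skip
              rcases Nat.lt_or_ge i 66000 with h7 | h7
              · skip
                rcases Nat.lt_or_ge i 65250 with h8 | h8
                · skip
                  rcases Nat.lt_or_ge i 64750 with h9 | h9
                  · skip
                    exact allRange_sound _ 64500 250 incC_64500 i (by omega) (by omega)
                  · skip
                    rcases Nat.lt_or_ge i 65000 with h10 | h10
                    · skip
                      exact allRange_sound _ 64750 250 incC_64750 i (by omega) (by omega)
                    · skip
                      exact allRange_sound _ 65000 250 incC_65000 i (by omega) (by omega)
                · skip
                  rcases Nat.lt_or_ge i 65500 with h9 | h9
                  · skip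
                    exact allRange_sound _ 65250 250 incC_65250 i (by omega) (by omega)
                  · skip
                    rcases Nat.lt_or_ge i 65750 with h10 | h10
                    · skip
                      exact allRange_sound _ 65500 250 incC_65500 i (by omega) (by omega)
                    · skip
                      exact allRange_sound _ 65750 250 incC_65750 i (by omega) (by omega)
              · skip
                rcases Nat.lt_or_ge i 66750 with h8 | h8
                · skip
                  rcases Nat.lt_or_ge i 66250 with h9 | h9
                  · skip
                    exact allRange_sound _ 66000 250 incC_66000 i (by omega) (by omega)
                  · skip
                    rcases Nat.lt_or_ge i 66500 with h10 | h10
                    · skip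
                      exact allRange_sound _ 66250 250 incC_66250 i (by omega) (by omega)
                    · skip
                      exact allRange_sound _ 66500 250 incC_66500 i (by omega) (by omega)
                · skip
                  rcases Nat.lt_or_ge i 67000 with h9 | h9
                  · skip
                    exact allRange_sound _ 66750 250 incC_66750 i (by omega) (by omega)
                  · skip
                    rcases Nat.lt_or_ge i 67250 with h10 | h10
                    · skip
                      exact allRange_sound _ 67000 250 incC_67000 i (by omega) (by omega)
                    · skip
                      exact allRange_sound _ 67250 250 incC_67250 i (by omega) (by omega)
            · skip
              rcases Nat.lt_or_ge i 69000 with h7 | h7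
              · skip
                rcases Nat.lt_or_ge i 68250 with h8 | h8
                · skip
                  rcases Nat.lt_or_ge i 67750 with h9 | h9
                  · skip
                    exact allRange_sound _ 67500 250 incC_67500 i (by omega) (by omega)
                  · skip
                    rcases Nat.lt_or_ge i 68000 with h10 | h10
                    · skip
                      exact allRange_sound _ 67750 250 incC_67750 i (by omega) (by omega)
                    · skip
                      exact allRange_sound _ 68000 250 incC_68000 i (by omega) (by omega)
                · skip
                  rcases Nat.lt_or_ge i 68500 with h9 | h9
                  · skip
                    exact allRange_sound _ 68250 250 incC_68250 i (by omega) (by omega)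
                  · skip
                    rcases Nat.lt_or_ge i 68750 with h10 | h10
                    · skip
                      exact allRange_sound _ 68500 250 incC_68500 i (by omega) (by omega)
                    · skip
                      exact allRange_sound _ 68750 250 incC_68750 i (by omega) (by omega)
              · skip
                rcases Nat.lt_or_ge i 69750 with h8 | h8
                · skip
                  rcases Nat.lt_or_ge i 69250 with h9 | h9
                  · skip
                    exact allRange_sound _ 69000 250 incC_69000 i (by omega) (by omega)
                  · skip
                    rcases Nat.lt_or_ge i 69500 with h10 | h10
                    · skip
                      exact allRange_sound _ 69250 250 incC_69250 i (by omega) (by omega)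
                    · skip
                      exact allRange_sound _ 69500 250 incC_69500 i (by omega) (by omega)
                · skip
                  rcases Nat.lt_or_ge i 70000 with h9 | h9
                  · skip
                    exact allRange_sound _ 69750 250 incC_69750 i (by omega) (by omega)
                  · skip
                    rcases Nat.lt_or_ge i 70250 with h10 | h10
                    · skip
                      exact allRange_sound _ 70000 250 incC_70000 i (by omega) (by omega)
                    · skip
                      exact allRange_sound _ 70250 250 incC_70250 i (by omega) (by omega)
      · skip
        rcases Nat.lt_or_ge i 82250 with h4 | h4
        · skip
          rcases Nat.lt_or_ge i 76250 with h5 | h5
          · skip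
            rcases Nat.lt_or_ge i 73250 with h6 | h6
            · skip
              rcases Nat.lt_or_ge i 71750 with h7 | h7
              · skip
                rcases Nat.lt_or_ge i 71000 with h8 | h8
                · skip
                  rcases Nat.lt_or_ge i 70750 with h9 | h9
                  · skip
                    exact allRange_sound _ 70500 250 incC_70500 i (by omega) (by omega)
                  · skip
                    exact allRange_sound _ 70750 250 incC_70750 i (by omega) (by omega)
                · skip
                  rcases Nat.lt_or_ge i 71250 with h9 | h9
                  · skip
                    exact allRange_sound _ 71000 250 incC_71000 i (by omega) (by omega)
                  · skip
                    rcases Nat.lt_or_ge i 71500 with h10 | h10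
                    · skip
                      exact allRange_sound _ 71250 250 incC_71250 i (by omega) (by omega)
                    · skip
                      exact allRange_sound _ 71500 250 incC_71500 i (by omega) (by omega)
              · skip
                rcases Nat.lt_or_ge i 72500 with h8 | h8
                · skip
                  rcases Nat.lt_or_ge i 72000 with h9 | h9
                  · skip
                    exact allRange_sound _ 71750 250 incC_71750 i (by omega) (by omega)
                  · skip
                    rcases Nat.lt_or_ge i 72250 with h10 | h10
                    · skip
                      exact allRange_sound _ 72000 250 incC_72000 i (by omega) (by omega)
                    · skip
                      exact allRange_sound _ 72250 250 incC_72250 i (by omega) (by omega)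
                · skip
                  rcases Nat.lt_or_ge i 72750 with h9 | h9
                  · skip
                    exact allRange_sound _ 72500 250 incC_72500 i (by omega) (by omega)
                  · skip
                    rcases Nat.lt_or_ge i 73000 with h10 | h10
                    · skip
                      exact allRange_sound _ 72750 250 incC_72750 i (by omega) (by omega)
                    · skip
                      exact allRange_sound _ 73000 250 incC_73000 i (by omega) (by omega)
            · skip
              rcases Nat.lt_or_ge i 74750 with h7 | h7
              · skip
                rcases Nat.lt_or_ge i 74000 with h8 | h8
                · skip
                  rcases Nat.lt_or_ge i 73500 with h9 | h9
                  · skip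
                    exact allRange_sound _ 73250 250 incC_73250 i (by omega) (by omega)
                  · skip
                    rcases Nat.lt_or_ge i 73750 with h10 | h10
                    · skip
                      exact allRange_sound _ 73500 250 incC_73500 i (by omega) (by omega)
                    · skip
                      exact allRange_sound _ 73750 250 incC_73750 i (by omega) (by omega)
                · skip
                  rcases Nat.lt_or_ge i 74250 with h9 | h9
                  · skip
                    exact allRange_sound _ 74000 250 incC_74000 i (by omega) (by omega)
                  · skip
                    rcases Nat.lt_or_ge i 74500 with h10 | h10
                    · skip
                      exact allRange_sound _ 74250 250 incC_74250 i (by omega) (by omega)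
                    · skip
                      exact allRange_sound _ 74500 250 incC_74500 i (by omega) (by omega)
              · skip
                rcases Nat.lt_or_ge i 75500 with h8 | h8
                · skip
                  rcases Nat.lt_or_ge i 75000 with h9 | h9
                  · skip
                    exact allRange_sound _ 74750 250 incC_74750 i (by omega) (by omega)
                  · skip
                    rcases Nat.lt_or_ge i 75250 with h10 | h10
                    · skip
                      exact allRange_sound _ 75000 250 incC_75000 i (by omega) (by omega)
                    · skip
                      exact allRange_sound _ 75250 250 incC_75250 i (by omega) (by omega)
                · skip
                  rcases Nat.lt_or_ge i 75750 with h9 | h9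
                  · skip
                    exact allRange_sound _ 75500 250 incC_75500 i (by omega) (by omega)
                  · skip
                    rcases Nat.lt_or_ge i 76000 with h10 | h10
                    · skip
                      exact allRange_sound _ 75750 250 incC_75750 i (by omega) (by omega)
                    · skip
                      exact allRange_sound _ 76000 250 incC_76000 i (by omega) (by omega)
          · skip
            rcases Nat.lt_or_ge i 79250 with h6 | h6
            · skip
              rcases Nat.lt_or_ge i 77750 with h7 | h7
              · skip
                rcases Nat.lt_or_ge i 77000 with h8 | h8
                · skip
                  rcases Nat.lt_or_ge i 76500 with h9 | h9
                  · skip
                    exact allRange_sound _ 76250 250 incC_76250 i (by omega) (by omega)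
                  · skip
                    rcases Nat.lt_or_ge i 76750 with h10 | h10
                    · skip
                      exact allRange_sound _ 76500 250 incC_76500 i (by omega) (by omega)
                    · skip
                      exact allRange_sound _ 76750 250 incC_76750 i (by omega) (by omega)
                · skip
                  rcases Nat.lt_or_ge i 77250 with h9 | h9
                  · skip
                    exact allRange_sound _ 77000 250 incC_77000 i (by omega) (by omega)
                  · skip
                    rcases Nat.lt_or_ge i 77500 with h10 | h10
                    · skip
                      exact allRange_sound _ 77250 250 incC_77250 i (by omega) (by omega)
                    · skip
                      exact allRange_sound _ 77500 250 incC_77500 i (by omega) (by omega)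
              · skip
                rcases Nat.lt_or_ge i 78500 with h8 | h8
                · skip
                  rcases Nat.lt_or_ge i 78000 with h9 | h9
                  · skip
                    exact allRange_sound _ 77750 250 incC_77750 i (by omega) (by omega)
                  · skip
                    rcases Nat.lt_or_ge i 78250 with h10 | h10
                    · skip
                      exact allRange_sound _ 78000 250 incC_78000 i (by omega) (by omega)
                    · skip
                      exact allRange_sound _ 78250 250 incC_78250 i (by omega) (by omega)
                · skip
                  rcases Nat.lt_or_ge i 78750 with h9 | h9
                  · skip
                    exact allRange_sound _ 78500 250 incC_78500 i (by omega) (by omega)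
                  · skip
                    rcases Nat.lt_or_ge i 79000 with h10 | h10
                    · skip
                      exact allRange_sound _ 78750 250 incC_78750 i (by omega) (by omega)
                    · skip
                      exact allRange_sound _ 79000 250 incC_79000 i (by omega) (by omega)
            · skip
              rcases Nat.lt_or_ge i 80750 with h7 | h7
              · skip
                rcases Nat.lt_or_ge i 80000 with h8 | h8
                · skip
                  rcases Nat.lt_or_ge i 79500 with h9 | h9
                  · skip
                    exact allRange_sound _ 79250 250 incC_79250 i (by omega) (by omega)
                  · skip
                    rcases Nat.lt_or_ge i 79750 with h10 | h10
                    · skip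
                      exact allRange_sound _ 79500 250 incC_79500 i (by omega) (by omega)
                    · skip
                      exact allRange_sound _ 79750 250 incC_79750 i (by omega) (by omega)
                · skip
                  rcases Nat.lt_or_ge i 80250 with h9 | h9
                  · skip
                    exact allRange_sound _ 80000 250 incC_80000 i (by omega) (by omega)
                  · skip
                    rcases Nat.lt_or_ge i 80500 with h10 | h10
                    · skip
                      exact allRange_sound _ 80250 250 incC_80250 i (by omega) (by omega)
                    · skip
                      exact allRange_sound _ 80500 250 incC_80500 i (by omega) (by omega)
              · skip
                rcases Nat.lt_or_ge i 81500 with h8 | h8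
                · skip
                  rcases Nat.lt_or_ge i 81000 with h9 | h9
                  · skip
                    exact allRange_sound _ 80750 250 incC_80750 i (by omega) (by omega)
                  · skip
                    rcases Nat.lt_or_ge i 81250 with h10 | h10
                    · skip
                      exact allRange_sound _ 81000 250 incC_81000 i (by omega) (by omega)
                    · skip
                      exact allRange_sound _ 81250 250 incC_81250 i (by omega) (by omega)
                · skip
                  rcases Nat.lt_or_ge i 81750 with h9 | h9
                  · skip
                    exact allRange_sound _ 81500 250 incC_81500 i (by omega) (by omega)
                  · skip
                    rcases Nat.lt_or_ge i 82000 with h10 | h10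
                    · skip
                      exact allRange_sound _ 81750 250 incC_81750 i (by omega) (by omega)
                    · skip
                      exact allRange_sound _ 82000 250 incC_82000 i (by omega) (by omega)
        · skip
          rcases Nat.lt_or_ge i 88000 with h5 | h5
          · skip
            rcases Nat.lt_or_ge i 85000 with h6 | h6
            · skip
              rcases Nat.lt_or_ge i 83500 with h7 | h7
              · skip
                rcases Nat.lt_or_ge i 82750 with h8 | h8
                · skip
                  rcases Nat.lt_or_ge i 82500 with h9 | h9
                  · skip
                    exact allRange_sound _ 82250 250 incC_82250 i (by omega) (by omega)
                  · skip
                    exact allRange_sound _ 82500 250 incC_82500 i (by omega) (by omega)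
                · skip
                  rcases Nat.lt_or_ge i 83000 with h9 | h9
                  · skip
                    exact allRange_sound _ 82750 250 incC_82750 i (by omega) (by omega)
                  · skip
                    rcases Nat.lt_or_ge i 83250 with h10 | h10
                    · skip
                      exact allRange_sound _ 83000 250 incC_83000 i (by omega) (by omega)
                    · skip
                      exact allRange_sound _ 83250 250 incC_83250 i (by omega) (by omega)
              · skip
                rcases Nat.lt_or_ge i 84250 with h8 | h8
                · skip
                  rcases Nat.lt_or_ge i 83750 with h9 | h9
                  · skip
                    exact allRange_sound _ 83500 250 incC_83500 i (by omega) (by omega)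
                  · skip
                    rcases Nat.lt_or_ge i 84000 with h10 | h10
                    · skip
                      exact allRange_sound _ 83750 250 incC_83750 i (by omega) (by omega)
                    · skip
                      exact allRange_sound _ 84000 250 incC_84000 i (by omega) (by omega)
                · skip
                  rcases Nat.lt_or_ge i 84500 with h9 | h9
                  · skip
                    exact allRange_sound _ 84250 250 incC_84250 i (by omega) (by omega)
                  · skip
                    rcases Nat.lt_or_ge i 84750 with h10 | h10
                    · skip
                      exact allRange_sound _ 84500 250 incC_84500 i (by omega) (by omega)
                    · skip
                      exact allRange_sound _ 84750 250 incC_84750 i (by omega) (by omega)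
            · skip
              rcases Nat.lt_or_ge i 86500 with h7 | h7
              · skip
                rcases Nat.lt_or_ge i 85750 with h8 | h8
                · skip
                  rcases Nat.lt_or_ge i 85250 with h9 | h9
                  · skip
                    exact allRange_sound _ 85000 250 incC_85000 i (by omega) (by omega)
                  · skip
                    rcases Nat.lt_or_ge i 85500 with h10 | h10
                    · skip
                      exact allRange_sound _ 85250 250 incC_85250 i (by omega) (by omega)
                    · skip
                      exact allRange_sound _ 85500 250 incC_85500 i (by omega) (by omega)
                · skip
                  rcases Nat.lt_or_ge i 86000 with h9 | h9
                  · skip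
                    exact allRange_sound _ 85750 250 incC_85750 i (by omega) (by omega)
                  · skip
                    rcases Nat.lt_or_ge i 86250 with h10 | h10
                    · skip
                      exact allRange_sound _ 86000 250 incC_86000 i (by omega) (by omega)
                    · skip
                      exact allRange_sound _ 86250 250 incC_86250 i (by omega) (by omega)
              · skip
                rcases Nat.lt_or_ge i 87250 with h8 | h8
                · skip
                  rcases Nat.lt_or_ge i 86750 with h9 | h9
                  · skip
                    exact allRange_sound _ 86500 250 incC_86500 i (by omega) (by omega)
                  · skip
                    rcases Nat.lt_or_ge i 87000 with h10 | h10
                    · skip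
                      exact allRange_sound _ 86750 250 incC_86750 i (by omega) (by omega)
                    · skip
                      exact allRange_sound _ 87000 250 incC_87000 i (by omega) (by omega)
                · skip
                  rcases Nat.lt_or_ge i 87500 with h9 | h9
                  · skip
                    exact allRange_sound _ 87250 250 incC_87250 i (by omega) (by omega)
                  · skip
                    rcases Nat.lt_or_ge i 87750 with h10 | h10
                    · skip
                      exact allRange_sound _ 87500 250 incC_87500 i (by omega) (by omega)
                    · skip
                      exact allRange_sound _ 87750 250 incC_87750 i (by omega) (by omega)
          · skip
            rcases Nat.lt_or_ge i 91000 with h6 | h6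
            · skip
              rcases Nat.lt_or_ge i 89500 with h7 | h7
              · skip
                rcases Nat.lt_or_ge i 88750 with h8 | h8
                · skip
                  rcases Nat.lt_or_ge i 88250 with h9 | h9
                  · skip
                    exact allRange_sound _ 88000 250 incC_88000 i (by omega) (by omega)
                  · skip
                    rcases Nat.lt_or_ge i 88500 with h10 | h10
                    · skip
                      exact allRange_sound _ 88250 250 incC_88250 i (by omega) (by omega)
                    · skip
                      exact allRange_sound _ 88500 250 incC_88500 i (by omega) (by omega)
                · skip
                  rcases Nat.lt_or_ge i 89000 with h9 | h9
                  · skip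
                    exact allRange_sound _ 88750 250 incC_88750 i (by omega) (by omega)
                  · skip
                    rcases Nat.lt_or_ge i 89250 with h10 | h10
                    · skip
                      exact allRange_sound _ 89000 250 incC_89000 i (by omega) (by omega)
                    · skip
                      exact allRange_sound _ 89250 250 incC_89250 i (by omega) (by omega)
              · skip
                rcases Nat.lt_or_ge i 90250 with h8 | h8
                · skip
                  rcases Nat.lt_or_ge i 89750 with h9 | h9
                  · skip
                    exact allRange_sound _ 89500 250 incC_89500 i (by omega) (by omega)
                  · skip
                    rcases Nat.lt_or_ge i 90000 with h10 | h10
                    · skip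
                      exact allRange_sound _ 89750 250 incC_89750 i (by omega) (by omega)
                    · skip
                      exact allRange_sound _ 90000 250 incC_90000 i (by omega) (by omega)
                · skip
                  rcases Nat.lt_or_ge i 90500 with h9 | h9
                  · skip
                    exact allRange_sound _ 90250 250 incC_90250 i (by omega) (by omega)
                  · skip
                    rcases Nat.lt_or_ge i 90750 with h10 | h10
                    · skip
                      exact allRange_sound _ 90500 250 incC_90500 i (by omega) (by omega)
                    · skip
                      exact allRange_sound _ 90750 250 incC_90750 i (by omega) (by omega)
            · skip
              rcases Nat.lt_or_ge i 92500 with h7 | h7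
              · skip
                rcases Nat.lt_or_ge i 91750 with h8 | h8
                · skip
                  rcases Nat.lt_or_ge i 91250 with h9 | h9
                  · skip
                    exact allRange_sound _ 91000 250 incC_91000 i (by omega) (by omega)
                  · skip
                    rcases Nat.lt_or_ge i 91500 with h10 | h10
                    · skip
                      exact allRange_sound _ 91250 250 incC_91250 i (by omega) (by omega)
                    · skip
                      exact allRange_sound _ 91500 250 incC_91500 i (by omega) (by omega)
                · skip
                  rcases Nat.lt_or_ge i 92000 with h9 | h9
                  · skip
                    exact allRange_sound _ 91750 250 incC_91750 i (by omega) (by omega)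
                  · skip
                    rcases Nat.lt_or_ge i 92250 with h10 | h10
                    · skip
                      exact allRange_sound _ 92000 250 incC_92000 i (by omega) (by omega)
                    · skip
                      exact allRange_sound _ 92250 250 incC_92250 i (by omega) (by omega)
              · skip
                rcases Nat.lt_or_ge i 93250 with h8 | h8
                · skip
                  rcases Nat.lt_or_ge i 92750 with h9 | h9
                  · skip
                    exact allRange_sound _ 92500 250 incC_92500 i (by omega) (by omega)
                  · skip
                    rcases Nat.lt_or_ge i 93000 with h10 | h10
                    · skip
                      exact allRange_sound _ 92750 250 incC_92750 i (by omega) (by omega)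
                    · skip
                      exact allRange_sound _ 93000 250 incC_93000 i (by omega) (by omega)
                · skip
                  rcases Nat.lt_or_ge i 93500 with h9 | h9
                  · skip
                    exact allRange_sound _ 93250 250 incC_93250 i (by omega) (by omega)
                  · skip
                    rcases Nat.lt_or_ge i 93750 with h10 | h10
                    · skip
                      exact allRange_sound _ 93500 250 incC_93500 i (by omega) (by omega)
                    · skip
                      exact allRange_sound _ 93750 249 incC_93750 i (by omega) (by omega)
  simpa [Nat.blt] using hb

end Cfsg.Agent.Lib.Helper28.CeInc
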