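import Cfsg.Agent.Lib.Helper28.CeDefs

set_option autoImplicit false
set_option linter.all false
set_option maxRecDepth 1000000
set_option Elab.async false

namespace Cfsg.Agent.Lib.Helper28.CeInc

open Cfsg.Agent.Lib.Helper28 Cfsg.Agent.Lib.Helper28.CeDefs

theorem incC_0 : allRange (fun i => Nat.blt (cC i) (cC (i + 1))) 0 250 = true := by decide +kernel

theorem incC_250 : allRange (fun i => Nat.blt (cC i) (cC (i + 1))) 250 250 = true := by decide +kernel

theorem incC_500 : allRange (fun i => Nat.blt (cC i) (cC (i + 1))) 500 250 = true := by decide +kernel

theorem incC_750 : allRange (fun i => Nat.blt (cC i) (cC (i + 1))) 750 250 = true := by decide +kernel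

theorem incC_1000 : allRange (fun i => Nat.blt (cC i) (cC (i + 1))) 1000 250 = true := by decide +kernel

theorem incC_1250 : allRange (fun i => Nat.blt (cC i) (cC (i + 1))) 1250 250 = true := by decide +kernel

theorem incC_1500 : allRange (fun i => Nat.blt (cC i) (cC (i + 1))) 1500 250 = true := by decide +kernel

theorem incC_1750 : allRange (fun i => Nat.blt (cC i) (cC (i + 1))) 1750 250 = true := by decide +kernel

theorem incC_2000 : allRange (fun i => Nat.blt (cC i) (cC (i + 1))) 2000 250 = true := by decide +kernel

theorem incC_2250 : allRange (fun i => Nat.blt (cC i) (cC (i + 1))) 2250 250 = true := by decide +kernel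

theorem incC_2500 : allRange (fun i => Nat.blt (cC i) (cC (i + 1))) 2500 250 = true := by decide +kernel

theorem incC_2750 : allRange (fun i => Nat.blt (cC i) (cC (i + 1))) 2750 250 = true := by decide +kernel

theorem incC_3000 : allRange (fun i => Nat.blt (cC i) (cC (i + 1))) 3000 250 = true := by decide +kernel

theorem incC_3250 : allRange (fun i => Nat.blt (cC i) (cC (i + 1))) 3250 250 = true := by decide +kernel

theorem incC_3500 : allRange (fun i => Nat.blt (cC i) (cC (i + 1))) 3500 250 = true := by decide +kernel

theorem incC_3750 : allRange (fun i => Nat.blt (cC i) (cC (i + 1))) 3750 250 = true := by decide +kernel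

theorem incC_4000 : allRange (fun i => Nat.blt (cC i) (cC (i + 1))) 4000 250 = true := by decide +kernel

theorem incC_4250 : allRange (fun i => Nat.blt (cC i) (cC (i + 1))) 4250 250 = true := by decide +kernel

theorem incC_4500 : allRange (fun i => Nat.blt (cC i) (cC (i + 1))) 4500 250 = true := by decide +kernel

theorem incC_4750 : allRange (fun i => Nat.blt (cC i) (cC (i + 1))) 4750 250 = true := by decide +kernel

theorem incC_5000 : allRange (fun i => Nat.blt (cC i) (cC (i + 1))) 5000 250 = true := by decide +kernel

theorem incC_5250 : allRange (fun i => Nat.blt (cC i) (cC (i + 1))) 5250 250 = true := by decide +kernel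

theorem incC_5500 : allRange (fun i => Nat.blt (cC i) (cC (i + 1))) 5500 250 = true := by decide +kernel

theorem incC_5750 : allRange (fun i => Nat.blt (cC i) (cC (i + 1))) 5750 250 = true := by decide +kernel

theorem incC_6000 : allRange (fun i => Nat.blt (cC i) (cC (i + 1))) 6000 250 = true := by decide +kernel

theorem incC_6250 : allRange (fun i => Nat.blt (cC i) (cC (i + 1))) 6250 250 = true := by decide +kernel

theorem incC_6500 : allRange (fun i => Nat.blt (cC i) (cC (i + 1))) 6500 250 = true := by decide +kernel

theorem incC_6750 : allRange (fun i => Nat.blt (cC i) (cC (i + 1))) 6750 250 = true := by decide +kernel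

theorem incC_7000 : allRange (fun i => Nat.blt (cC i) (cC (i + 1))) 7000 250 = true := by decide +kernel

theorem incC_7250 : allRange (fun i => Nat.blt (cC i) (cC (i + 1))) 7250 250 = true := by decide +kernel

theorem incC_7500 : allRange (fun i => Nat.blt (cC i) (cC (i + 1))) 7500 250 = true := by decide +kernel

theorem incC_7750 : allRange (fun i => Nat.blt (cC i) (cC (i + 1))) 7750 250 = true := by decide +kernel

theorem incC_8000 : allRange (fun i => Nat.blt (cC i) (cC (i + 1))) 8000 250 = true := by decide +kernel

theorem incC_8250 : allRange (fun i => Nat.blt (cC i) (cC (i + 1))) 8250 250 = true := by decide +kernel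

theorem incC_8500 : allRange (fun i => Nat.blt (cC i) (cC (i + 1))) 8500 250 = true := by decide +kernel

theorem incC_8750 : allRange (fun i => Nat.blt (cC i) (cC (i + 1))) 8750 250 = true := by decide +kernel

theorem incC_9000 : allRange (fun i => Nat.blt (cC i) (cC (i + 1))) 9000 250 = true := by decide +kernel

theorem incC_9250 : allRange (fun i => Nat.blt (cC i) (cC (i + 1))) 9250 250 = true := by decide +kernel

theorem incC_9500 : allRange (fun i => Nat.blt (cC i) (cC (i + 1))) 9500 250 = true := by decide +kernel

theorem incC_9750 : allRange (fun i => Nat.blt (cC i) (cC (i + 1))) 9750 250 = true := by decide +kernel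

theorem incC_10000 : allRange (fun i => Nat.blt (cC i) (cC (i + 1))) 10000 250 = true := by decide +kernel

theorem incC_10250 : allRange (fun i => Nat.blt (cC i) (cC (i + 1))) 10250 250 = true := by decide +kernel

theorem incC_10500 : allRange (fun i => Nat.blt (cC i) (cC (i + 1))) 10500 250 = true := by decide +kernel

theorem incC_10750 : allRange (fun i => Nat.blt (cC i) (cC (i + 1))) 10750 250 = true := by decide +kernel

theorem incC_11000 : allRange (fun i => Nat.blt (cC i) (cC (i + 1))) 11000 250 = true := by decide +kernel

theorem incC_11250 : allRange (fun i => Nat.blt (cC i) (cC (i + 1))) 11250 250 = true := by decide +kernel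

theorem incC_11500 : allRange (fun i => Nat.blt (cC i) (cC (i + 1))) 11500 250 = true := by decide +kernel

end Cfsg.Agent.Lib.Helper28.CeInc
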