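import Cfsg.Agent.Lib.Helper28.TCFast

/-!
Kernel-friendly mirror of the fact checker `checkFact` of `TCDefs` (raw `Nat` operations, raw literals,
primitive recursors), proved equal to the original.
-/

set_option autoImplicit false

namespace Cfsg.Agent.Lib.Helper28

def SSF : Nat := nat_lit 4194304
theorem SSF_eq : SSF = SS := rfl

/-- `Option` eliminator through the primitive recursor -/
@[reducible] def oElim {α β : Type} (o : Option α) (n : β) (s : α → β) : β :=
  @Option.rec α (fun _ => β) n s o

theorem oElim_none {α β : Type} (n : β) (s : α → β) : oElim (none : Option α) n s = n := rfl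
theorem oElim_some {α β : Type} (a : α) (n : β) (s : α → β) : oElim (some a) n s = s a := rfl

def appF (a b : List Nat) : List Nat :=
  @List.rec Nat (fun _ => List Nat) b (fun x _ ih => x :: ih) a

theorem appF_eq (a b : List Nat) : appF a b = a ++ b := by
  induction a with
  | nil => rfl
  | cons x xs ih =>
    show x :: appF xs b = (x :: xs) ++ b
    rw [ih]; rfl

def eqListF (a : List Nat) : List Nat → Bool :=
  @List.rec Nat (fun _ => List Nat → Bool)
    (fun b => @List.rec Nat (fun _ => Bool) true (fun _ _ _ => false) b)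
    (fun x _ ih b => @List.rec Nat (fun _ => Bool) false (fun y ys _ => bIf (Nat.beq x y) (ih ys) false) b) a

theorem eqListF_eq (a : List Nat) : ∀ b, eqListF a b = eqList a b := by
  induction a with
  | nil => intro b; cases b <;> rfl
  | cons x xs ih =>
    intro b
    cases b with
    | nil => rfl
    | cons y ys =>
      show bIf (Nat.beq x y) (eqListF xs ys) false = cond (Nat.beq x y) (eqList xs ys) false
      rw [bIf_eq_cond, ih]

/-- `invw w ++ acc`, computed with an accumulator -/
def invwAcc (w : List Nat) : List Nat → List Nat :=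
  @List.rec Nat (fun _ => List Nat → List Nat) (fun acc => acc) (fun l _ ih acc => ih (flipLF l :: acc)) w

theorem invwAcc_eq (w : List Nat) : ∀ acc, invwAcc w acc = invw w ++ acc := by
  induction w with
  | nil => intro acc; rfl
  | cons l w ih =>
    intro acc
    show invwAcc w (flipLF l :: acc) = (invw w ++ [flipL l]) ++ acc
    rw [ih, flipLF_eq, List.append_assoc]
    rfl

/-- `pieceF lbl ++ W` -/
def consPieceF (lbl : Nat) (W : List Nat) : List Nat :=
  bIf (Nat.beq lbl (nat_lit 0)) W (Nat.sub lbl (nat_lit 1) :: W)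

theorem consPieceF_eq (lbl : Nat) (W : List Nat) : consPieceF lbl W = pieceF lbl ++ W := by
  unfold consPieceF pieceF
  rw [bIf_eq_cond]
  cases Nat.beq lbl 0 <;> rfl

/-- `pieceB lbl ++ W` -/
def consPieceB (lbl : Nat) (W : List Nat) : List Nat :=
  bIf (Nat.beq lbl (nat_lit 0)) W (flipLF (Nat.sub lbl (nat_lit 1)) :: W)

theorem consPieceB_eq (lbl : Nat) (W : List Nat) : consPieceB lbl W = pieceB lbl ++ W := by
  unfold consPieceB pieceB
  rw [bIf_eq_cond, flipLF_eq]
  cases Nat.beq lbl 0 <;> rfl

def digitsF (n : Nat) : Nat → List Nat :=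
  @Nat.rec (fun _ => Nat → List Nat) (fun _ => []) (fun _ ih x => Nat.mod x SSF :: ih (Nat.div x SSF)) n

theorem digitsF_eq (n : Nat) : ∀ x, digitsF n x = digits n x := by
  induction n with
  | zero => intro x; rfl
  | succ m ih =>
    intro x
    show Nat.mod x SSF :: digitsF m (Nat.div x SSF) = (x % SS) :: digits m (x / SS)
    rw [ih]; rfl

def takeF (n : Nat) : List Nat → List Nat :=
  @Nat.rec (fun _ => List Nat → List Nat) (fun _ => [])
    (fun _ ih l => @List.rec Nat (fun _ => List Nat) [] (fun a as _ => a :: ih as) l) n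

theorem takeF_eq (n : Nat) : ∀ l, takeF n l = l.take n := by
  induction n with
  | zero => intro l; simp [takeF]
  | succ m ih =>
    intro l
    cases l with
    | nil => rfl
    | cons a as =>
      show a :: takeF m as = (a :: as).take (m + 1)
      rw [ih]; rfl

def dropF (n : Nat) : List Nat → List Nat :=
  @Nat.rec (fun _ => List Nat → List Nat) (fun l => l)
    (fun _ ih l => @List.rec Nat (fun _ => List Nat) [] (fun _ as _ => ih as) l) n

theorem dropF_eq (n : Nat) : ∀ l, dropF n l = l.drop n := by
  induction n with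
  | zero => intro l; rfl
  | succ m ih =>
    intro l
    cases l with
    | nil => rfl
    | cons a as =>
      show dropF m as = (a :: as).drop (m + 1)
      rw [ih]; rfl

def getDF {α : Type} (l : List α) (d : α) : Nat → α :=
  @List.rec α (fun _ => Nat → α) (fun _ => d)
    (fun a _ ih n => @Nat.rec (fun _ => α) a (fun m _ => ih m) n) l

theorem getDF_eq {α : Type} (l : List α) (d : α) : ∀ n, getDF l d n = l.getD n d := by
  induction l with
  | nil => intro n; simp [getDF]
  | cons a as ih =>
    intro n
    cases n with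
    | zero => rfl
    | succ m =>
      show getDF as d m = (a :: as).getD (m + 1) d
      rw [ih]; simp

def walkF (F : Nat → Nat) (lim : Nat) (steps : List Nat) : Nat → Option (Nat × List Nat) :=
  @List.rec Nat (fun _ => Nat → Option (Nat × List Nat))
    (fun cur => some (cur, []))
    (fun s _ ih cur =>
      bIf (bltF (Nat.div s (nat_lit 2)) lim)
        (bIf (Nat.beq (Nat.mod s (nat_lit 2)) (nat_lit 0))
          (bIf (Nat.beq (fUF (F (Nat.div s (nat_lit 2)))) cur)
            (oElim (ih (fVF (F (Nat.div s (nat_lit 2))))) none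
              (fun r => some (r.1, consPieceF (fLF (F (Nat.div s (nat_lit 2)))) r.2)))
            none)
          (bIf (Nat.beq (fVF (F (Nat.div s (nat_lit 2)))) cur)
            (oElim (ih (fUF (F (Nat.div s (nat_lit 2))))) none
              (fun r => some (r.1, consPieceB (fLF (F (Nat.div s (nat_lit 2)))) r.2)))
            none))
        none) steps

theorem walkF_eq (F : Nat → Nat) (lim : Nat) (steps : List Nat) :
    ∀ cur, walkF F lim steps cur = walk F lim cur steps := by
  induction steps with
  | nil => intro cur; rfl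
  | cons s rest ih =>
    intro cur
    show bIf (bltF (Nat.div s 2) lim)
        (bIf (Nat.beq (Nat.mod s 2) 0)
          (bIf (Nat.beq (fUF (F (Nat.div s 2))) cur)
            (oElim (walkF F lim rest (fVF (F (Nat.div s 2)))) none
              (fun r => some (r.1, consPieceF (fLF (F (Nat.div s 2))) r.2)))
            none)
          (bIf (Nat.beq (fVF (F (Nat.div s 2))) cur)
            (oElim (walkF F lim rest (fUF (F (Nat.div s 2)))) none
              (fun r => some (r.1, consPieceB (fLF (F (Nat.div s 2))) r.2)))
            none))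
        none = walk F lim cur (s :: rest)
    rw [walk]
    simp only [bIf_eq_cond, ih, bltF_eq, fUF_eq, fVF_eq, fLF_eq]
    show cond (Nat.blt (s / 2) lim) _ none = cond (Nat.blt (s / 2) lim) _ none
    congr 1
    show cond (Nat.beq (s % 2) 0) _ _ = cond (Nat.beq (s % 2) 0) _ _
    congr 1
    · congr 1
      cases walk F lim (fV (F (s / 2))) rest with
      | none => rfl
      | some r =>
        obtain ⟨e, W⟩ := r
        show some (e, consPieceF (fL (F (s / 2))) W) = some (e, pieceF (fL (F (s / 2))) ++ W)
        rw [consPieceF_eq]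
    · congr 1
      cases walk F lim (fU (F (s / 2))) rest with
      | none => rfl
      | some r =>
        obtain ⟨e, W⟩ := r
        show some (e, consPieceB (fL (F (s / 2))) W) = some (e, pieceB (fL (F (s / 2))) ++ W)
        rw [consPieceB_eq]

def relWordF (C : Cert) (kind idx : Nat) : List Nat :=
  bIf (Nat.beq kind (nat_lit 1))
    (getDF (getDF C.rels2 [] (Nat.div idx (nat_lit 8))) [] (Nat.mod idx (nat_lit 8)))
    (bIf (Nat.beq kind (nat_lit 2)) (getDF C.subs [] idx) [idx, flipLF idx])

theorem relWordF_eq (C : Cert) (kind idx : Nat) : relWordF C kind idx = relWord C kind idx := by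
  unfold relWordF relWord
  simp only [bIf_eq_cond, getDF_eq, flipLF_eq]
  rfl

def checkDefF (C : Cert) (f : Nat) : Bool :=
  bIf (bltF (fUF f) (fVF f))
    (bIf (Nat.beq (Nat.mod (C.D (fVF f)) BBF) (fUF f))
      (Nat.beq (Nat.add (Nat.div (C.D (fVF f)) BBF) (nat_lit 1)) (fLF f)) false) false

theorem checkDefF_eq (C : Cert) (f : Nat) : checkDefF C f = checkDef C f := by
  unfold checkDefF checkDef
  simp only [bIf_and, bltF_eq, fUF_eq, fVF_eq, fLF_eq]
  rfl

def checkCycF (C : Cert) (i f kind dir idx start : Nat) (pre post : List Nat) : Bool :=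
  oElim (walkF C.F i pre start) false (fun r1 =>
    oElim (walkF C.F i post start) false (fun r2 =>
      bIf
        (bIf (Nat.beq dir (nat_lit 0))
          (bIf (Nat.beq (fUF f) r1.1) (bIf (Nat.beq (fVF f) r2.1)
            (eqListF (appF r1.2 (consPieceF (fLF f) (invwAcc r2.2 []))) (relWordF C kind idx)) false) false)
          (bIf (Nat.beq (fUF f) r2.1) (bIf (Nat.beq (fVF f) r1.1)
            (eqListF (appF r1.2 (consPieceB (fLF f) (invwAcc r2.2 []))) (relWordF C kind idx)) false) false))
        (bIf (Nat.beq kind (nat_lit 2)) (Nat.beq start (nat_lit 0)) true)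
        false))

theorem checkCycF_eq (C : Cert) (i f kind dir idx start : Nat) (pre post : List Nat) :
    checkCycF C i f kind dir idx start pre post = checkCyc C i f kind dir idx start pre post := by
  unfold checkCycF checkCyc
  rw [walkF_eq, walkF_eq]
  cases walk C.F i start pre with
  | none => rfl
  | some r1 =>
    obtain ⟨P, A⟩ := r1
    cases walk C.F i start post with
    | none => rfl
    | some r2 =>
      obtain ⟨Q, Dw⟩ := r2
      show bIf
        (bIf (Nat.beq dir 0)
          (bIf (Nat.beq (fUF f) P) (bIf (Nat.beq (fVF f) Q)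
            (eqListF (appF A (consPieceF (fLF f) (invwAcc Dw []))) (relWordF C kind idx)) false) false)
          (bIf (Nat.beq (fUF f) Q) (bIf (Nat.beq (fVF f) P)
            (eqListF (appF A (consPieceB (fLF f) (invwAcc Dw []))) (relWordF C kind idx)) false) false))
        (bIf (Nat.beq kind 2) (Nat.beq start 0) true)
        false = _
      simp only [bIf_and]
      simp only [bIf_eq_cond, eqListF_eq, appF_eq, consPieceF_eq, consPieceB_eq,
        invwAcc_eq, List.append_nil, relWordF_eq, fUF_eq, fVF_eq, fLF_eq]

def checkFactF (C : Cert) (i : Nat) : Bool :=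
  bIf (Nat.beq (Nat.mod (C.J i) (nat_lit 4)) (nat_lit 0))
    (checkDefF C (C.F i))
    (checkCycF C i (C.F i) (Nat.mod (C.J i) (nat_lit 4))
      (Nat.mod (Nat.div (C.J i) (nat_lit 4)) (nat_lit 2))
      (Nat.mod (Nat.div (Nat.div (C.J i) (nat_lit 4)) (nat_lit 2)) (nat_lit 4096))
      (Nat.mod (Nat.div (Nat.div (Nat.div (C.J i) (nat_lit 4)) (nat_lit 2)) (nat_lit 4096)) BBF)
      (takeF
        (Nat.mod (Nat.div (Nat.div (Nat.div (Nat.div (C.J i) (nat_lit 4)) (nat_lit 2)) (nat_lit 4096)) BBF) (nat_lit 1024))
        (digitsF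
          (Nat.add
            (Nat.mod (Nat.div (Nat.div (Nat.div (Nat.div (C.J i) (nat_lit 4)) (nat_lit 2)) (nat_lit 4096)) BBF) (nat_lit 1024))
            (Nat.mod (Nat.div (Nat.div (Nat.div (Nat.div (Nat.div (C.J i) (nat_lit 4)) (nat_lit 2)) (nat_lit 4096)) BBF) (nat_lit 1024)) (nat_lit 1024)))
          (Nat.div (Nat.div (Nat.div (Nat.div (Nat.div (Nat.div (C.J i) (nat_lit 4)) (nat_lit 2)) (nat_lit 4096)) BBF) (nat_lit 1024)) (nat_lit 1024))))
      (dropF
        (Nat.mod (Nat.div (Nat.div (Nat.div (Nat.div (C.J i) (nat_lit 4)) (nat_lit 2)) (nat_lit 4096)) BBF) (nat_lit 1024))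
        (digitsF
          (Nat.add
            (Nat.mod (Nat.div (Nat.div (Nat.div (Nat.div (C.J i) (nat_lit 4)) (nat_lit 2)) (nat_lit 4096)) BBF) (nat_lit 1024))
            (Nat.mod (Nat.div (Nat.div (Nat.div (Nat.div (Nat.div (C.J i) (nat_lit 4)) (nat_lit 2)) (nat_lit 4096)) BBF) (nat_lit 1024)) (nat_lit 1024)))
          (Nat.div (Nat.div (Nat.div (Nat.div (Nat.div (Nat.div (C.J i) (nat_lit 4)) (nat_lit 2)) (nat_lit 4096)) BBF) (nat_lit 1024)) (nat_lit 1024)))))

theorem checkFactF_eq (C : Cert) (i : Nat) : checkFactF C i = checkFact C i := by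
  unfold checkFactF checkFact
  simp only [bIf_eq_cond, checkDefF_eq, checkCycF_eq, takeF_eq, dropF_eq, digitsF_eq]
  rfl

end Cfsg.Agent.Lib.Helper28
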