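import Cfsg.Agent.Lib.Helper28.CePData
import Cfsg.Agent.Lib.Helper28.TCFastF

set_option autoImplicit false
set_option maxRecDepth 1000000
set_option linter.all false
set_option Elab.async false

namespace Cfsg.Agent.Lib.Helper28.CePData

open Cfsg.Agent.Lib.Helper28

theorem chkF_66000 : allRangeF (checkFactF cert) (nat_lit 66000) (nat_lit 1000) = true := by decide +kernel
theorem chkF_67000 : allRangeF (checkFactF cert) (nat_lit 67000) (nat_lit 1000) = true := by decide +kernel
theorem chkF_68000 : allRangeF (checkFactF cert) (nat_lit 68000) (nat_lit 1000) = true := by decide +kernel
theorem chkF_69000 : allRangeF (checkFactF cert) (nat_lit 69000) (nat_lit 1000) = true := by decide +kernel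
theorem chkF_70000 : allRangeF (checkFactF cert) (nat_lit 70000) (nat_lit 1000) = true := by decide +kernel
theorem chkF_71000 : allRangeF (checkFactF cert) (nat_lit 71000) (nat_lit 1000) = true := by decide +kernel
theorem chkF_72000 : allRangeF (checkFactF cert) (nat_lit 72000) (nat_lit 1000) = true := by decide +kernel
theorem chkF_73000 : allRangeF (checkFactF cert) (nat_lit 73000) (nat_lit 1000) = true := by decide +kernel
theorem chkF_74000 : allRangeF (checkFactF cert) (nat_lit 74000) (nat_lit 1000) = true := by decide +kernel
theorem chkF_75000 : allRangeF (checkFactF cert) (nat_lit 75000) (nat_lit 1000) = true := by decide +kernel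
theorem chkF_76000 : allRangeF (checkFactF cert) (nat_lit 76000) (nat_lit 1000) = true := by decide +kernel
theorem chkF_77000 : allRangeF (checkFactF cert) (nat_lit 77000) (nat_lit 1000) = true := by decide +kernel
theorem chkF_78000 : allRangeF (checkFactF cert) (nat_lit 78000) (nat_lit 1000) = true := by decide +kernel
theorem chkF_79000 : allRangeF (checkFactF cert) (nat_lit 79000) (nat_lit 1000) = true := by decide +kernel
theorem chkF_80000 : allRangeF (checkFactF cert) (nat_lit 80000) (nat_lit 1000) = true := by decide +kernel
theorem chkF_81000 : allRangeF (checkFactF cert) (nat_lit 81000) (nat_lit 1000) = true := by decide +kernel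
theorem chkF_82000 : allRangeF (checkFactF cert) (nat_lit 82000) (nat_lit 1000) = true := by decide +kernel
theorem chkF_83000 : allRangeF (checkFactF cert) (nat_lit 83000) (nat_lit 1000) = true := by decide +kernel
theorem chkF_84000 : allRangeF (checkFactF cert) (nat_lit 84000) (nat_lit 1000) = true := by decide +kernel
theorem chkF_85000 : allRangeF (checkFactF cert) (nat_lit 85000) (nat_lit 1000) = true := by decide +kernel
theorem chkF_86000 : allRangeF (checkFactF cert) (nat_lit 86000) (nat_lit 1000) = true := by decide +kernel
theorem chkF_87000 : allRangeF (checkFactF cert) (nat_lit 87000) (nat_lit 1000) = true := by decide +kernel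
theorem chkF_88000 : allRangeF (checkFactF cert) (nat_lit 88000) (nat_lit 1000) = true := by decide +kernel
theorem chkF_89000 : allRangeF (checkFactF cert) (nat_lit 89000) (nat_lit 1000) = true := by decide +kernel
theorem chkF_90000 : allRangeF (checkFactF cert) (nat_lit 90000) (nat_lit 1000) = true := by decide +kernel
theorem chkF_91000 : allRangeF (checkFactF cert) (nat_lit 91000) (nat_lit 1000) = true := by decide +kernel
theorem chkF_92000 : allRangeF (checkFactF cert) (nat_lit 92000) (nat_lit 1000) = true := by decide +kernel
theorem chkF_93000 : allRangeF (checkFactF cert) (nat_lit 93000) (nat_lit 1000) = true := by decide +kernel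
theorem chkF_94000 : allRangeF (checkFactF cert) (nat_lit 94000) (nat_lit 1000) = true := by decide +kernel
theorem chkF_95000 : allRangeF (checkFactF cert) (nat_lit 95000) (nat_lit 1000) = true := by decide +kernel
theorem chkF_96000 : allRangeF (checkFactF cert) (nat_lit 96000) (nat_lit 1000) = true := by decide +kernel
theorem chkF_97000 : allRangeF (checkFactF cert) (nat_lit 97000) (nat_lit 1000) = true := by decide +kernel
theorem chkF_98000 : allRangeF (checkFactF cert) (nat_lit 98000) (nat_lit 1000) = true := by decide +kernel
theorem chkF_99000 : allRangeF (checkFactF cert) (nat_lit 99000) (nat_lit 1000) = true := by decide +kernel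
theorem chkF_100000 : allRangeF (checkFactF cert) (nat_lit 100000) (nat_lit 1000) = true := by decide +kernel
theorem chkF_101000 : allRangeF (checkFactF cert) (nat_lit 101000) (nat_lit 1000) = true := by decide +kernel
theorem chkF_102000 : allRangeF (checkFactF cert) (nat_lit 102000) (nat_lit 1000) = true := by decide +kernel
theorem chkF_103000 : allRangeF (checkFactF cert) (nat_lit 103000) (nat_lit 1000) = true := by decide +kernel
theorem chkF_104000 : allRangeF (checkFactF cert) (nat_lit 104000) (nat_lit 1000) = true := by decide +kernel
theorem chkF_105000 : allRangeF (checkFactF cert) (nat_lit 105000) (nat_lit 1000) = true := by decide +kernel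
theorem chkF_106000 : allRangeF (checkFactF cert) (nat_lit 106000) (nat_lit 1000) = true := by decide +kernel
theorem chkF_107000 : allRangeF (checkFactF cert) (nat_lit 107000) (nat_lit 1000) = true := by decide +kernel
theorem chkF_108000 : allRangeF (checkFactF cert) (nat_lit 108000) (nat_lit 1000) = true := by decide +kernel
theorem chkF_109000 : allRangeF (checkFactF cert) (nat_lit 109000) (nat_lit 1000) = true := by decide +kernel
theorem chkF_110000 : allRangeF (checkFactF cert) (nat_lit 110000) (nat_lit 1000) = true := by decide +kernel
theorem chkF_111000 : allRangeF (checkFactF cert) (nat_lit 111000) (nat_lit 1000) = true := by decide +kernel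
theorem chkF_112000 : allRangeF (checkFactF cert) (nat_lit 112000) (nat_lit 1000) = true := by decide +kernel
theorem chkF_113000 : allRangeF (checkFactF cert) (nat_lit 113000) (nat_lit 1000) = true := by decide +kernel
theorem chkF_114000 : allRangeF (checkFactF cert) (nat_lit 114000) (nat_lit 1000) = true := by decide +kernel
theorem chkF_115000 : allRangeF (checkFactF cert) (nat_lit 115000) (nat_lit 1000) = true := by decide +kernel
theorem chkF_116000 : allRangeF (checkFactF cert) (nat_lit 116000) (nat_lit 1000) = true := by decide +kernel
theorem chkF_117000 : allRangeF (checkFactF cert) (nat_lit 117000) (nat_lit 1000) = true := by decide +kernel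
theorem chkF_118000 : allRangeF (checkFactF cert) (nat_lit 118000) (nat_lit 1000) = true := by decide +kernel
theorem chkF_119000 : allRangeF (checkFactF cert) (nat_lit 119000) (nat_lit 1000) = true := by decide +kernel
theorem chkF_120000 : allRangeF (checkFactF cert) (nat_lit 120000) (nat_lit 1000) = true := by decide +kernel
theorem chkF_121000 : allRangeF (checkFactF cert) (nat_lit 121000) (nat_lit 1000) = true := by decide +kernel
theorem chkF_122000 : allRangeF (checkFactF cert) (nat_lit 122000) (nat_lit 1000) = true := by decide +kernel
theorem chkF_123000 : allRangeF (checkFactF cert) (nat_lit 123000) (nat_lit 1000) = true := by decide +kernel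
theorem chkF_124000 : allRangeF (checkFactF cert) (nat_lit 124000) (nat_lit 1000) = true := by decide +kernel
theorem chkF_125000 : allRangeF (checkFactF cert) (nat_lit 125000) (nat_lit 1000) = true := by decide +kernel
theorem chkF_126000 : allRangeF (checkFactF cert) (nat_lit 126000) (nat_lit 1000) = true := by decide +kernel
theorem chkF_127000 : allRangeF (checkFactF cert) (nat_lit 127000) (nat_lit 1000) = true := by decide +kernel
theorem chkF_128000 : allRangeF (checkFactF cert) (nat_lit 128000) (nat_lit 1000) = true := by decide +kernel
theorem chkF_129000 : allRangeF (checkFactF cert) (nat_lit 129000) (nat_lit 1000) = true := by decide +kernel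
theorem chkF_130000 : allRangeF (checkFactF cert) (nat_lit 130000) (nat_lit 30) = true := by decide +kernel

theorem factsRange_1 : ∀ i, 66000 ≤ i → i < 130030 → checkFact cert i = true := by
  intro i hlo hhi
  rcases Nat.lt_or_ge i 98000 with h1 | h1
  · skip
    rcases Nat.lt_or_ge i 82000 with h2 | h2
    · skip
      rcases Nat.lt_or_ge i 74000 with h3 | h3
      · skip
        rcases Nat.lt_or_ge i 70000 with h4 | h4
        · skip
          rcases Nat.lt_or_ge i 68000 with h5 | h5
          · skip
            rcases Nat.lt_or_ge i 67000 with h6 | h6
            · skip
              exact allRangeF_sound _ _ (checkFactF_eq cert) 66000 1000 chkF_66000 i (by omega) (by omega)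
            · skip
              exact allRangeF_sound _ _ (checkFactF_eq cert) 67000 1000 chkF_67000 i (by omega) (by omega)
          · skip
            rcases Nat.lt_or_ge i 69000 with h6 | h6
            · skip
              exact allRangeF_sound _ _ (checkFactF_eq cert) 68000 1000 chkF_68000 i (by omega) (by omega)
            · skip
              exact allRangeF_sound _ _ (checkFactF_eq cert) 69000 1000 chkF_69000 i (by omega) (by omega)
        · skip
          rcases Nat.lt_or_ge i 72000 with h5 | h5
          · skip
            rcases Nat.lt_or_ge i 71000 with h6 | h6
            · skip
              exact allRangeF_sound _ _ (checkFactF_eq cert) 70000 1000 chkF_70000 i (by omega) (by omega)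
            · skip
              exact allRangeF_sound _ _ (checkFactF_eq cert) 71000 1000 chkF_71000 i (by omega) (by omega)
          · skip
            rcases Nat.lt_or_ge i 73000 with h6 | h6
            · skip
              exact allRangeF_sound _ _ (checkFactF_eq cert) 72000 1000 chkF_72000 i (by omega) (by omega)
            · skip
              exact allRangeF_sound _ _ (checkFactF_eq cert) 73000 1000 chkF_73000 i (by omega) (by omega)
      · skip
        rcases Nat.lt_or_ge i 78000 with h4 | h4
        · skip
          rcases Nat.lt_or_ge i 76000 with h5 | h5
          · skip
            rcases Nat.lt_or_ge i 75000 with h6 | h6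
            · skip
              exact allRangeF_sound _ _ (checkFactF_eq cert) 74000 1000 chkF_74000 i (by omega) (by omega)
            · skip
              exact allRangeF_sound _ _ (checkFactF_eq cert) 75000 1000 chkF_75000 i (by omega) (by omega)
          · skip
            rcases Nat.lt_or_ge i 77000 with h6 | h6
            · skip
              exact allRangeF_sound _ _ (checkFactF_eq cert) 76000 1000 chkF_76000 i (by omega) (by omega)
            · skip
              exact allRangeF_sound _ _ (checkFactF_eq cert) 77000 1000 chkF_77000 i (by omega) (by omega)
        · skip
          rcases Nat.lt_or_ge i 80000 with h5 | h5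
          · skip
            rcases Nat.lt_or_ge i 79000 with h6 | h6
            · skip
              exact allRangeF_sound _ _ (checkFactF_eq cert) 78000 1000 chkF_78000 i (by omega) (by omega)
            · skip
              exact allRangeF_sound _ _ (checkFactF_eq cert) 79000 1000 chkF_79000 i (by omega) (by omega)
          · skip
            rcases Nat.lt_or_ge i 81000 with h6 | h6
            · skip
              exact allRangeF_sound _ _ (checkFactF_eq cert) 80000 1000 chkF_80000 i (by omega) (by omega)
            · skip
              exact allRangeF_sound _ _ (checkFactF_eq cert) 81000 1000 chkF_81000 i (by omega) (by omega)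
    · skip
      rcases Nat.lt_or_ge i 90000 with h3 | h3
      · skip
        rcases Nat.lt_or_ge i 86000 with h4 | h4
        · skip
          rcases Nat.lt_or_ge i 84000 with h5 | h5
          · skip
            rcases Nat.lt_or_ge i 83000 with h6 | h6
            · skip
              exact allRangeF_sound _ _ (checkFactF_eq cert) 82000 1000 chkF_82000 i (by omega) (by omega)
            · skip
              exact allRangeF_sound _ _ (checkFactF_eq cert) 83000 1000 chkF_83000 i (by omega) (by omega)
          · skip
            rcases Nat.lt_or_ge i 85000 with h6 | h6
            · skip
              exact allRangeF_sound _ _ (checkFactF_eq cert) 84000 1000 chkF_84000 i (by omega) (by omega)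
            · skip
              exact allRangeF_sound _ _ (checkFactF_eq cert) 85000 1000 chkF_85000 i (by omega) (by omega)
        · skip
          rcases Nat.lt_or_ge i 88000 with h5 | h5
          · skip
            rcases Nat.lt_or_ge i 87000 with h6 | h6
            · skip
              exact allRangeF_sound _ _ (checkFactF_eq cert) 86000 1000 chkF_86000 i (by omega) (by omega)
            · skip
              exact allRangeF_sound _ _ (checkFactF_eq cert) 87000 1000 chkF_87000 i (by omega) (by omega)
          · skip
            rcases Nat.lt_or_ge i 89000 with h6 | h6
            · skip
              exact allRangeF_sound _ _ (checkFactF_eq cert) 88000 1000 chkF_88000 i (by omega) (by omega)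
            · skip
              exact allRangeF_sound _ _ (checkFactF_eq cert) 89000 1000 chkF_89000 i (by omega) (by omega)
      · skip
        rcases Nat.lt_or_ge i 94000 with h4 | h4
        · skip
          rcases Nat.lt_or_ge i 92000 with h5 | h5
          · skip
            rcases Nat.lt_or_ge i 91000 with h6 | h6
            · skip
              exact allRangeF_sound _ _ (checkFactF_eq cert) 90000 1000 chkF_90000 i (by omega) (by omega)
            · skip
              exact allRangeF_sound _ _ (checkFactF_eq cert) 91000 1000 chkF_91000 i (by omega) (by omega)
          · skip
            rcases Nat.lt_or_ge i 93000 with h6 | h6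
            · skip
              exact allRangeF_sound _ _ (checkFactF_eq cert) 92000 1000 chkF_92000 i (by omega) (by omega)
            · skip
              exact allRangeF_sound _ _ (checkFactF_eq cert) 93000 1000 chkF_93000 i (by omega) (by omega)
        · skip
          rcases Nat.lt_or_ge i 96000 with h5 | h5
          · skip
            rcases Nat.lt_or_ge i 95000 with h6 | h6
            · skip
              exact allRangeF_sound _ _ (checkFactF_eq cert) 94000 1000 chkF_94000 i (by omega) (by omega)
            · skip
              exact allRangeF_sound _ _ (checkFactF_eq cert) 95000 1000 chkF_95000 i (by omega) (by omega)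
          · skip
            rcases Nat.lt_or_ge i 97000 with h6 | h6
            · skip
              exact allRangeF_sound _ _ (checkFactF_eq cert) 96000 1000 chkF_96000 i (by omega) (by omega)
            · skip
              exact allRangeF_sound _ _ (checkFactF_eq cert) 97000 1000 chkF_97000 i (by omega) (by omega)
  · skip
    rcases Nat.lt_or_ge i 114000 with h2 | h2
    · skip
      rcases Nat.lt_or_ge i 106000 with h3 | h3
      · skip
        rcases Nat.lt_or_ge i 102000 with h4 | h4
        · skip
          rcases Nat.lt_or_ge i 100000 with h5 | h5
          · skip
            rcases Nat.lt_or_ge i 99000 with h6 | h6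
            · skip
              exact allRangeF_sound _ _ (checkFactF_eq cert) 98000 1000 chkF_98000 i (by omega) (by omega)
            · skip
              exact allRangeF_sound _ _ (checkFactF_eq cert) 99000 1000 chkF_99000 i (by omega) (by omega)
          · skip
            rcases Nat.lt_or_ge i 101000 with h6 | h6
            · skip
              exact allRangeF_sound _ _ (checkFactF_eq cert) 100000 1000 chkF_100000 i (by omega) (by omega)
            · skip
              exact allRangeF_sound _ _ (checkFactF_eq cert) 101000 1000 chkF_101000 i (by omega) (by omega)
        · skip
          rcases Nat.lt_or_ge i 104000 with h5 | h5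
          · skip
            rcases Nat.lt_or_ge i 103000 with h6 | h6
            · skip
              exact allRangeF_sound _ _ (checkFactF_eq cert) 102000 1000 chkF_102000 i (by omega) (by omega)
            · skip
              exact allRangeF_sound _ _ (checkFactF_eq cert) 103000 1000 chkF_103000 i (by omega) (by omega)
          · skip
            rcases Nat.lt_or_ge i 105000 with h6 | h6
            · skip
              exact allRangeF_sound _ _ (checkFactF_eq cert) 104000 1000 chkF_104000 i (by omega) (by omega)
            · skip
              exact allRangeF_sound _ _ (checkFactF_eq cert) 105000 1000 chkF_105000 i (by omega) (by omega)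
      · skip
        rcases Nat.lt_or_ge i 110000 with h4 | h4
        · skip
          rcases Nat.lt_or_ge i 108000 with h5 | h5
          · skip
            rcases Nat.lt_or_ge i 107000 with h6 | h6
            · skip
              exact allRangeF_sound _ _ (checkFactF_eq cert) 106000 1000 chkF_106000 i (by omega) (by omega)
            · skip
              exact allRangeF_sound _ _ (checkFactF_eq cert) 107000 1000 chkF_107000 i (by omega) (by omega)
          · skip
            rcases Nat.lt_or_ge i 109000 with h6 | h6
            · skip
              exact allRangeF_sound _ _ (checkFactF_eq cert) 108000 1000 chkF_108000 i (by omega) (by omega)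
            · skip
              exact allRangeF_sound _ _ (checkFactF_eq cert) 109000 1000 chkF_109000 i (by omega) (by omega)
        · skip
          rcases Nat.lt_or_ge i 112000 with h5 | h5
          · skip
            rcases Nat.lt_or_ge i 111000 with h6 | h6
            · skip
              exact allRangeF_sound _ _ (checkFactF_eq cert) 110000 1000 chkF_110000 i (by omega) (by omega)
            · skip
              exact allRangeF_sound _ _ (checkFactF_eq cert) 111000 1000 chkF_111000 i (by omega) (by omega)
          · skip
            rcases Nat.lt_or_ge i 113000 with h6 | h6
            · skip
              exact allRangeF_sound _ _ (checkFactF_eq cert) 112000 1000 chkF_112000 i (by omega) (by omega)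
            · skip
              exact allRangeF_sound _ _ (checkFactF_eq cert) 113000 1000 chkF_113000 i (by omega) (by omega)
    · skip
      rcases Nat.lt_or_ge i 122000 with h3 | h3
      · skip
        rcases Nat.lt_or_ge i 118000 with h4 | h4
        · skip
          rcases Nat.lt_or_ge i 116000 with h5 | h5
          · skip
            rcases Nat.lt_or_ge i 115000 with h6 | h6
            · skip
              exact allRangeF_sound _ _ (checkFactF_eq cert) 114000 1000 chkF_114000 i (by omega) (by omega)
            · skip
              exact allRangeF_sound _ _ (checkFactF_eq cert) 115000 1000 chkF_115000 i (by omega) (by omega)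
          · skip
            rcases Nat.lt_or_ge i 117000 with h6 | h6
            · skip
              exact allRangeF_sound _ _ (checkFactF_eq cert) 116000 1000 chkF_116000 i (by omega) (by omega)
            · skip
              exact allRangeF_sound _ _ (checkFactF_eq cert) 117000 1000 chkF_117000 i (by omega) (by omega)
        · skip
          rcases Nat.lt_or_ge i 120000 with h5 | h5
          · skip
            rcases Nat.lt_or_ge i 119000 with h6 | h6
            · skip
              exact allRangeF_sound _ _ (checkFactF_eq cert) 118000 1000 chkF_118000 i (by omega) (by omega)
            · skip
              exact allRangeF_sound _ _ (checkFactF_eq cert) 119000 1000 chkF_119000 i (by omega) (by omega)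
          · skip
            rcases Nat.lt_or_ge i 121000 with h6 | h6
            · skip
              exact allRangeF_sound _ _ (checkFactF_eq cert) 120000 1000 chkF_120000 i (by omega) (by omega)
            · skip
              exact allRangeF_sound _ _ (checkFactF_eq cert) 121000 1000 chkF_121000 i (by omega) (by omega)
      · skip
        rcases Nat.lt_or_ge i 126000 with h4 | h4
        · skip
          rcases Nat.lt_or_ge i 124000 with h5 | h5
          · skip
            rcases Nat.lt_or_ge i 123000 with h6 | h6
            · skip
              exact allRangeF_sound _ _ (checkFactF_eq cert) 122000 1000 chkF_122000 i (by omega) (by omega)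
            · skip
              exact allRangeF_sound _ _ (checkFactF_eq cert) 123000 1000 chkF_123000 i (by omega) (by omega)
          · skip
            rcases Nat.lt_or_ge i 125000 with h6 | h6
            · skip
              exact allRangeF_sound _ _ (checkFactF_eq cert) 124000 1000 chkF_124000 i (by omega) (by omega)
            · skip
              exact allRangeF_sound _ _ (checkFactF_eq cert) 125000 1000 chkF_125000 i (by omega) (by omega)
        · skip
          rcases Nat.lt_or_ge i 128000 with h5 | h5
          · skip
            rcases Nat.lt_or_ge i 127000 with h6 | h6
            · skip
              exact allRangeF_sound _ _ (checkFactF_eq cert) 126000 1000 chkF_126000 i (by omega) (by omega)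
            · skip
              exact allRangeF_sound _ _ (checkFactF_eq cert) 127000 1000 chkF_127000 i (by omega) (by omega)
          · skip
            rcases Nat.lt_or_ge i 129000 with h6 | h6
            · skip
              exact allRangeF_sound _ _ (checkFactF_eq cert) 128000 1000 chkF_128000 i (by omega) (by omega)
            · skip
              rcases Nat.lt_or_ge i 130000 with h7 | h7
              · skip
                exact allRangeF_sound _ _ (checkFactF_eq cert) 129000 1000 chkF_129000 i (by omega) (by omega)
              · skip
                exact allRangeF_sound _ _ (checkFactF_eq cert) 130000 30 chkF_130000 i (by omega) (by omega)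

end Cfsg.Agent.Lib.Helper28.CePData
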