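import Cfsg.Agent.Lib.Helper28.TCSound

/-!
Kernel-friendly mirrors of the certificate checkers of `TCDefs`: the same functions written with raw `Nat`
operations, raw literals and primitive recursors (so that `decide +kernel` spends no time unfolding
instances and numerals), each proved equal to the original.
-/

set_option autoImplicit false

namespace Cfsg.Agent.Lib.Helper28

/-- `if c then a else b` through the primitive recursor -/
@[reducible] def bIf {α : Type} (c : Bool) (a b : α) : α := @Bool.rec (fun _ => α) b a c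

theorem bIf_eq_cond {α : Type} (c : Bool) (a b : α) : bIf c a b = cond c a b := by
  cases c <;> rfl

theorem bIf_and (a b : Bool) : bIf a b false = (a && b) := by cases a <;> rfl
theorem bIf_or (a b : Bool) : bIf a true b = (a || b) := by cases a <;> rfl

def BBF : Nat := nat_lit 1048576
theorem BBF_eq : BBF = BB := rfl

def flipLF (l : Nat) : Nat :=
  bIf (Nat.beq (Nat.mod l (nat_lit 2)) (nat_lit 0)) (Nat.add l (nat_lit 1)) (Nat.sub l (nat_lit 1))

theorem flipLF_eq (l : Nat) : flipLF l = flipL l := by
  unfold flipLF flipL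
  rw [bIf_eq_cond]
  rfl

def fUF (f : Nat) : Nat := Nat.mod f BBF
def fVF (f : Nat) : Nat := Nat.mod (Nat.div f BBF) BBF
def fLF (f : Nat) : Nat := Nat.div (Nat.div f BBF) BBF
theorem fUF_eq (f : Nat) : fUF f = fU f := rfl
theorem fVF_eq (f : Nat) : fVF f = fV f := rfl
theorem fLF_eq (f : Nat) : fLF f = fL f := rfl

def allBelowF (f : Nat → Bool) (n : Nat) : Bool :=
  @Nat.rec (fun _ => Bool) true (fun m ih => bIf (f m) ih false) n

theorem allBelowF_eq (f : Nat → Bool) (n : Nat) : allBelowF f n = allBelow f n := by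
  induction n with
  | zero => rfl
  | succ m ih =>
    show bIf (f m) (allBelowF f m) false = cond (f m) (allBelow f m) false
    rw [bIf_eq_cond, ih]

def allRangeF (f : Nat → Bool) (lo : Nat) (n : Nat) : Bool :=
  @Nat.rec (fun _ => Bool) true (fun m ih => bIf (f (Nat.add lo m)) ih false) n

theorem allRangeF_eq (f : Nat → Bool) (lo n : Nat) : allRangeF f lo n = allRange f lo n := by
  induction n with
  | zero => rfl
  | succ m ih =>
    show bIf (f (Nat.add lo m)) (allRangeF f lo m) false = cond (f (lo + m)) (allRange f lo m) false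
    rw [bIf_eq_cond, ih]
    rfl

def allListF (f : List Nat → Bool) (ws : List (List Nat)) : Bool :=
  @List.rec (List Nat) (fun _ => Bool) true (fun w _ ih => bIf (f w) ih false) ws

theorem allListF_eq (f : List Nat → Bool) (ws : List (List Nat)) : allListF f ws = allList f ws := by
  induction ws with
  | nil => rfl
  | cons w ws ih =>
    show bIf (f w) (allListF f ws) false = cond (f w) (allList f ws) false
    rw [bIf_eq_cond, ih]

def tstepF (C : Cert) (p l : Nat) : Nat := C.T (Nat.add (Nat.mul p (Nat.mul (nat_lit 2) C.k)) l)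
theorem tstepF_eq (C : Cert) (p l : Nat) : tstepF C p l = tstep C p l := rfl

def walkTF (C : Cert) (w : List Nat) : Nat → Nat :=
  @List.rec Nat (fun _ => Nat → Nat) (fun p => p) (fun l _ ih p => ih (tstepF C p l)) w

theorem walkTF_eq (C : Cert) (w : List Nat) : ∀ p, walkTF C w p = walkT C p w := by
  induction w with
  | nil => intro p; rfl
  | cons l w ih =>
    intro p
    show walkTF C w (tstepF C p l) = walkT C (tstep C p l) w
    rw [ih, tstepF_eq]

def bltF (a b : Nat) : Bool := Nat.ble (Nat.succ a) b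
theorem bltF_eq (a b : Nat) : bltF a b = Nat.blt a b := rfl

def checkP1F (C : Cert) (p : Nat) : Bool :=
  allBelowF (fun l => bIf (bltF (tstepF C p l) C.n) (Nat.beq (tstepF C (tstepF C p l) (flipLF l)) p) false)
    (Nat.mul (nat_lit 2) C.k)

theorem checkP1F_eq (C : Cert) (p : Nat) : checkP1F C p = checkP1 C p := by
  unfold checkP1F checkP1
  rw [allBelowF_eq]
  congr 1
  funext l
  rw [bIf_and, bltF_eq, flipLF_eq]
  rfl

def checkP2F (C : Cert) (p : Nat) : Bool :=
  allListF (fun w => Nat.beq (walkTF C w p) p) C.rels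

theorem checkP2F_eq (C : Cert) (p : Nat) : checkP2F C p = checkP2 C p := by
  unfold checkP2F checkP2
  rw [allListF_eq]
  congr 1
  funext w
  rw [walkTF_eq]

def checkP4F (C : Cert) (p : Nat) : Bool :=
  bIf (Nat.beq p (nat_lit 0)) true
    (bIf (bltF (Nat.div (C.PP p) (Nat.mul (nat_lit 2) C.k)) p)
      (Nat.beq (tstepF C (Nat.div (C.PP p) (Nat.mul (nat_lit 2) C.k)) (Nat.mod (C.PP p) (Nat.mul (nat_lit 2) C.k))) p)
      false)

theorem checkP4F_eq (C : Cert) (p : Nat) : checkP4F C p = checkP4 C p := by
  unfold checkP4F checkP4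
  rw [bIf_or, bIf_and]
  rfl

def checkP5F (C : Cert) (p : Nat) : Bool :=
  allBelowF (fun i =>
    bIf (bltF (C.TAB (Nat.add (Nat.mul p C.k) i)) C.nF)
      (bIf
        (bIf (Nat.beq (fUF (C.F (C.TAB (Nat.add (Nat.mul p C.k) i)))) (C.NO p))
          (bIf (Nat.beq (fLF (C.F (C.TAB (Nat.add (Nat.mul p C.k) i)))) (Nat.add (Nat.mul (nat_lit 2) i) (nat_lit 1)))
            (Nat.beq (fVF (C.F (C.TAB (Nat.add (Nat.mul p C.k) i)))) (C.NO (tstepF C p (Nat.mul (nat_lit 2) i))))
            false)
          false)
        true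
        (bIf (Nat.beq (fUF (C.F (C.TAB (Nat.add (Nat.mul p C.k) i)))) (C.NO (tstepF C p (Nat.mul (nat_lit 2) i))))
          (bIf (Nat.beq (fLF (C.F (C.TAB (Nat.add (Nat.mul p C.k) i)))) (Nat.add (Nat.mul (nat_lit 2) i) (nat_lit 2)))
            (Nat.beq (fVF (C.F (C.TAB (Nat.add (Nat.mul p C.k) i)))) (C.NO p))
            false)
          false))
      false) C.k

theorem checkP5F_eq (C : Cert) (p : Nat) : checkP5F C p = checkP5 C p := by
  unfold checkP5F checkP5
  rw [allBelowF_eq]
  congr 1
  funext i
  simp only [bIf_and, bIf_or, bltF_eq]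
  rfl

def checkPointF (C : Cert) (p : Nat) : Bool :=
  bIf (checkP1F C p) (bIf (checkP2F C p) (bIf (checkP4F C p) (checkP5F C p) false) false) false

theorem checkPointF_eq (C : Cert) (p : Nat) : checkPointF C p = checkPoint C p := by
  unfold checkPointF checkPoint
  simp only [bIf_and, checkP1F_eq, checkP2F_eq, checkP4F_eq, checkP5F_eq]

theorem allRangeF_sound (f g : Nat → Bool) (hfg : ∀ i, f i = g i) (lo len : Nat)
    (h : allRangeF f lo len = true) : ∀ i, lo ≤ i → i < lo + len → g i = true := by
  intro i h1 h2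
  rw [← hfg i]
  exact allRange_sound f lo len (by rw [← allRangeF_eq]; exact h) i h1 h2

end Cfsg.Agent.Lib.Helper28
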