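import Cfsg.Agent.Lib.Helper28.CePData
import Cfsg.Agent.Lib.Helper28.TCFast

set_option autoImplicit false
set_option maxRecDepth 1000000
set_option linter.all false
set_option Elab.async false

namespace Cfsg.Agent.Lib.Helper28.CePData

open Cfsg.Agent.Lib.Helper28

theorem chkP_5400 : allRangeF (checkPointF cert) (nat_lit 5400) (nat_lit 100) = true := by decide +kernel
theorem chkP_5500 : allRangeF (checkPointF cert) (nat_lit 5500) (nat_lit 100) = true := by decide +kernel
theorem chkP_5600 : allRangeF (checkPointF cert) (nat_lit 5600) (nat_lit 100) = true := by decide +kernel
theorem chkP_5700 : allRangeF (checkPointF cert) (nat_lit 5700) (nat_lit 100) = true := by decide +kernel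
theorem chkP_5800 : allRangeF (checkPointF cert) (nat_lit 5800) (nat_lit 100) = true := by decide +kernel
theorem chkP_5900 : allRangeF (checkPointF cert) (nat_lit 5900) (nat_lit 100) = true := by decide +kernel
theorem chkP_6000 : allRangeF (checkPointF cert) (nat_lit 6000) (nat_lit 100) = true := by decide +kernel
theorem chkP_6100 : allRangeF (checkPointF cert) (nat_lit 6100) (nat_lit 100) = true := by decide +kernel
theorem chkP_6200 : allRangeF (checkPointF cert) (nat_lit 6200) (nat_lit 100) = true := by decide +kernel
theorem chkP_6300 : allRangeF (checkPointF cert) (nat_lit 6300) (nat_lit 100) = true := by decide +kernel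
theorem chkP_6400 : allRangeF (checkPointF cert) (nat_lit 6400) (nat_lit 100) = true := by decide +kernel
theorem chkP_6500 : allRangeF (checkPointF cert) (nat_lit 6500) (nat_lit 100) = true := by decide +kernel
theorem chkP_6600 : allRangeF (checkPointF cert) (nat_lit 6600) (nat_lit 100) = true := by decide +kernel
theorem chkP_6700 : allRangeF (checkPointF cert) (nat_lit 6700) (nat_lit 100) = true := by decide +kernel
theorem chkP_6800 : allRangeF (checkPointF cert) (nat_lit 6800) (nat_lit 100) = true := by decide +kernel
theorem chkP_6900 : allRangeF (checkPointF cert) (nat_lit 6900) (nat_lit 100) = true := by decide +kernel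
theorem chkP_7000 : allRangeF (checkPointF cert) (nat_lit 7000) (nat_lit 100) = true := by decide +kernel
theorem chkP_7100 : allRangeF (checkPointF cert) (nat_lit 7100) (nat_lit 100) = true := by decide +kernel
theorem chkP_7200 : allRangeF (checkPointF cert) (nat_lit 7200) (nat_lit 100) = true := by decide +kernel
theorem chkP_7300 : allRangeF (checkPointF cert) (nat_lit 7300) (nat_lit 100) = true := by decide +kernel
theorem chkP_7400 : allRangeF (checkPointF cert) (nat_lit 7400) (nat_lit 100) = true := by decide +kernel
theorem chkP_7500 : allRangeF (checkPointF cert) (nat_lit 7500) (nat_lit 100) = true := by decide +kernel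
theorem chkP_7600 : allRangeF (checkPointF cert) (nat_lit 7600) (nat_lit 100) = true := by decide +kernel
theorem chkP_7700 : allRangeF (checkPointF cert) (nat_lit 7700) (nat_lit 100) = true := by decide +kernel
theorem chkP_7800 : allRangeF (checkPointF cert) (nat_lit 7800) (nat_lit 100) = true := by decide +kernel
theorem chkP_7900 : allRangeF (checkPointF cert) (nat_lit 7900) (nat_lit 100) = true := by decide +kernel
theorem chkP_8000 : allRangeF (checkPointF cert) (nat_lit 8000) (nat_lit 100) = true := by decide +kernel
theorem chkP_8100 : allRangeF (checkPointF cert) (nat_lit 8100) (nat_lit 100) = true := by decide +kernel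
theorem chkP_8200 : allRangeF (checkPointF cert) (nat_lit 8200) (nat_lit 100) = true := by decide +kernel
theorem chkP_8300 : allRangeF (checkPointF cert) (nat_lit 8300) (nat_lit 100) = true := by decide +kernel
theorem chkP_8400 : allRangeF (checkPointF cert) (nat_lit 8400) (nat_lit 100) = true := by decide +kernel
theorem chkP_8500 : allRangeF (checkPointF cert) (nat_lit 8500) (nat_lit 100) = true := by decide +kernel
theorem chkP_8600 : allRangeF (checkPointF cert) (nat_lit 8600) (nat_lit 100) = true := by decide +kernel
theorem chkP_8700 : allRangeF (checkPointF cert) (nat_lit 8700) (nat_lit 100) = true := by decide +kernel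
theorem chkP_8800 : allRangeF (checkPointF cert) (nat_lit 8800) (nat_lit 100) = true := by decide +kernel
theorem chkP_8900 : allRangeF (checkPointF cert) (nat_lit 8900) (nat_lit 100) = true := by decide +kernel
theorem chkP_9000 : allRangeF (checkPointF cert) (nat_lit 9000) (nat_lit 100) = true := by decide +kernel
theorem chkP_9100 : allRangeF (checkPointF cert) (nat_lit 9100) (nat_lit 100) = true := by decide +kernel
theorem chkP_9200 : allRangeF (checkPointF cert) (nat_lit 9200) (nat_lit 100) = true := by decide +kernel
theorem chkP_9300 : allRangeF (checkPointF cert) (nat_lit 9300) (nat_lit 100) = true := by decide +kernel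
theorem chkP_9400 : allRangeF (checkPointF cert) (nat_lit 9400) (nat_lit 100) = true := by decide +kernel
theorem chkP_9500 : allRangeF (checkPointF cert) (nat_lit 9500) (nat_lit 100) = true := by decide +kernel
theorem chkP_9600 : allRangeF (checkPointF cert) (nat_lit 9600) (nat_lit 100) = true := by decide +kernel
theorem chkP_9700 : allRangeF (checkPointF cert) (nat_lit 9700) (nat_lit 100) = true := by decide +kernel
theorem chkP_9800 : allRangeF (checkPointF cert) (nat_lit 9800) (nat_lit 100) = true := by decide +kernel
theorem chkP_9900 : allRangeF (checkPointF cert) (nat_lit 9900) (nat_lit 100) = true := by decide +kernel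
theorem chkP_10000 : allRangeF (checkPointF cert) (nat_lit 10000) (nat_lit 100) = true := by decide +kernel
theorem chkP_10100 : allRangeF (checkPointF cert) (nat_lit 10100) (nat_lit 100) = true := by decide +kernel
theorem chkP_10200 : allRangeF (checkPointF cert) (nat_lit 10200) (nat_lit 100) = true := by decide +kernel
theorem chkP_10300 : allRangeF (checkPointF cert) (nat_lit 10300) (nat_lit 100) = true := by decide +kernel
theorem chkP_10400 : allRangeF (checkPointF cert) (nat_lit 10400) (nat_lit 100) = true := by decide +kernel
theorem chkP_10500 : allRangeF (checkPointF cert) (nat_lit 10500) (nat_lit 100) = true := by decide +kernel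
theorem chkP_10600 : allRangeF (checkPointF cert) (nat_lit 10600) (nat_lit 100) = true := by decide +kernel
theorem chkP_10700 : allRangeF (checkPointF cert) (nat_lit 10700) (nat_lit 100) = true := by decide +kernel

theorem ptsRange_1 : ∀ i, 5400 ≤ i → i < 10800 → checkPoint cert i = true := by
  intro i hlo hhi
  rcases Nat.lt_or_ge i 8100 with h1 | h1
  · skip
    rcases Nat.lt_or_ge i 6700 with h2 | h2
    · skip
      rcases Nat.lt_or_ge i 6000 with h3 | h3
      · skip
        rcases Nat.lt_or_ge i 5700 with h4 | h4
        · skip
          rcases Nat.lt_or_ge i 5500 with h5 | h5
          · skip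
            exact allRangeF_sound _ _ (checkPointF_eq cert) 5400 100 chkP_5400 i (by omega) (by omega)
          · skip
            rcases Nat.lt_or_ge i 5600 with h6 | h6
            · skip
              exact allRangeF_sound _ _ (checkPointF_eq cert) 5500 100 chkP_5500 i (by omega) (by omega)
            · skip
              exact allRangeF_sound _ _ (checkPointF_eq cert) 5600 100 chkP_5600 i (by omega) (by omega)
        · skip
          rcases Nat.lt_or_ge i 5800 with h5 | h5
          · skip
            exact allRangeF_sound _ _ (checkPointF_eq cert) 5700 100 chkP_5700 i (by omega) (by omega)
          · skip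
            rcases Nat.lt_or_ge i 5900 with h6 | h6
            · skip
              exact allRangeF_sound _ _ (checkPointF_eq cert) 5800 100 chkP_5800 i (by omega) (by omega)
            · skip
              exact allRangeF_sound _ _ (checkPointF_eq cert) 5900 100 chkP_5900 i (by omega) (by omega)
      · skip
        rcases Nat.lt_or_ge i 6300 with h4 | h4
        · skip
          rcases Nat.lt_or_ge i 6100 with h5 | h5
          · skip
            exact allRangeF_sound _ _ (checkPointF_eq cert) 6000 100 chkP_6000 i (by omega) (by omega)
          · skip
            rcases Nat.lt_or_ge i 6200 with h6 | h6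
            · skip
              exact allRangeF_sound _ _ (checkPointF_eq cert) 6100 100 chkP_6100 i (by omega) (by omega)
            · skip
              exact allRangeF_sound _ _ (checkPointF_eq cert) 6200 100 chkP_6200 i (by omega) (by omega)
        · skip
          rcases Nat.lt_or_ge i 6500 with h5 | h5
          · skip
            rcases Nat.lt_or_ge i 6400 with h6 | h6
            · skip
              exact allRangeF_sound _ _ (checkPointF_eq cert) 6300 100 chkP_6300 i (by omega) (by omega)
            · skip
              exact allRangeF_sound _ _ (checkPointF_eq cert) 6400 100 chkP_6400 i (by omega) (by omega)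
          · skip
            rcases Nat.lt_or_ge i 6600 with h6 | h6
            · skip
              exact allRangeF_sound _ _ (checkPointF_eq cert) 6500 100 chkP_6500 i (by omega) (by omega)
            · skip
              exact allRangeF_sound _ _ (checkPointF_eq cert) 6600 100 chkP_6600 i (by omega) (by omega)
    · skip
      rcases Nat.lt_or_ge i 7400 with h3 | h3
      · skip
        rcases Nat.lt_or_ge i 7000 with h4 | h4
        · skip
          rcases Nat.lt_or_ge i 6800 with h5 | h5
          · skip
            exact allRangeF_sound _ _ (checkPointF_eq cert) 6700 100 chkP_6700 i (by omega) (by omega)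
          · skip
            rcases Nat.lt_or_ge i 6900 with h6 | h6
            · skip
              exact allRangeF_sound _ _ (checkPointF_eq cert) 6800 100 chkP_6800 i (by omega) (by omega)
            · skip
              exact allRangeF_sound _ _ (checkPointF_eq cert) 6900 100 chkP_6900 i (by omega) (by omega)
        · skip
          rcases Nat.lt_or_ge i 7200 with h5 | h5
          · skip
            rcases Nat.lt_or_ge i 7100 with h6 | h6
            · skip
              exact allRangeF_sound _ _ (checkPointF_eq cert) 7000 100 chkP_7000 i (by omega) (by omega)
            · skip
              exact allRangeF_sound _ _ (checkPointF_eq cert) 7100 100 chkP_7100 i (by omega) (by omega)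
          · skip
            rcases Nat.lt_or_ge i 7300 with h6 | h6
            · skip
              exact allRangeF_sound _ _ (checkPointF_eq cert) 7200 100 chkP_7200 i (by omega) (by omega)
            · skip
              exact allRangeF_sound _ _ (checkPointF_eq cert) 7300 100 chkP_7300 i (by omega) (by omega)
      · skip
        rcases Nat.lt_or_ge i 7700 with h4 | h4
        · skip
          rcases Nat.lt_or_ge i 7500 with h5 | h5
          · skip
            exact allRangeF_sound _ _ (checkPointF_eq cert) 7400 100 chkP_7400 i (by omega) (by omega)
          · skip
            rcases Nat.lt_or_ge i 7600 with h6 | h6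
            · skip
              exact allRangeF_sound _ _ (checkPointF_eq cert) 7500 100 chkP_7500 i (by omega) (by omega)
            · skip
              exact allRangeF_sound _ _ (checkPointF_eq cert) 7600 100 chkP_7600 i (by omega) (by omega)
        · skip
          rcases Nat.lt_or_ge i 7900 with h5 | h5
          · skip
            rcases Nat.lt_or_ge i 7800 with h6 | h6
            · skip
              exact allRangeF_sound _ _ (checkPointF_eq cert) 7700 100 chkP_7700 i (by omega) (by omega)
            · skip
              exact allRangeF_sound _ _ (checkPointF_eq cert) 7800 100 chkP_7800 i (by omega) (by omega)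
          · skip
            rcases Nat.lt_or_ge i 8000 with h6 | h6
            · skip
              exact allRangeF_sound _ _ (checkPointF_eq cert) 7900 100 chkP_7900 i (by omega) (by omega)
            · skip
              exact allRangeF_sound _ _ (checkPointF_eq cert) 8000 100 chkP_8000 i (by omega) (by omega)
  · skip
    rcases Nat.lt_or_ge i 9400 with h2 | h2
    · skip
      rcases Nat.lt_or_ge i 8700 with h3 | h3
      · skip
        rcases Nat.lt_or_ge i 8400 with h4 | h4
        · skip
          rcases Nat.lt_or_ge i 8200 with h5 | h5
          · skip
            exact allRangeF_sound _ _ (checkPointF_eq cert) 8100 100 chkP_8100 i (by omega) (by omega)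
          · skip
            rcases Nat.lt_or_ge i 8300 with h6 | h6
            · skip
              exact allRangeF_sound _ _ (checkPointF_eq cert) 8200 100 chkP_8200 i (by omega) (by omega)
            · skip
              exact allRangeF_sound _ _ (checkPointF_eq cert) 8300 100 chkP_8300 i (by omega) (by omega)
        · skip
          rcases Nat.lt_or_ge i 8500 with h5 | h5
          · skip
            exact allRangeF_sound _ _ (checkPointF_eq cert) 8400 100 chkP_8400 i (by omega) (by omega)
          · skip
            rcases Nat.lt_or_ge i 8600 with h6 | h6
            · skip
              exact allRangeF_sound _ _ (checkPointF_eq cert) 8500 100 chkP_8500 i (by omega) (by omega)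
            · skip
              exact allRangeF_sound _ _ (checkPointF_eq cert) 8600 100 chkP_8600 i (by omega) (by omega)
      · skip
        rcases Nat.lt_or_ge i 9000 with h4 | h4
        · skip
          rcases Nat.lt_or_ge i 8800 with h5 | h5
          · skip
            exact allRangeF_sound _ _ (checkPointF_eq cert) 8700 100 chkP_8700 i (by omega) (by omega)
          · skip
            rcases Nat.lt_or_ge i 8900 with h6 | h6
            · skip
              exact allRangeF_sound _ _ (checkPointF_eq cert) 8800 100 chkP_8800 i (by omega) (by omega)
            · skip
              exact allRangeF_sound _ _ (checkPointF_eq cert) 8900 100 chkP_8900 i (by omega) (by omega)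
        · skip
          rcases Nat.lt_or_ge i 9200 with h5 | h5
          · skip
            rcases Nat.lt_or_ge i 9100 with h6 | h6
            · skip
              exact allRangeF_sound _ _ (checkPointF_eq cert) 9000 100 chkP_9000 i (by omega) (by omega)
            · skip
              exact allRangeF_sound _ _ (checkPointF_eq cert) 9100 100 chkP_9100 i (by omega) (by omega)
          · skip
            rcases Nat.lt_or_ge i 9300 with h6 | h6
            · skip
              exact allRangeF_sound _ _ (checkPointF_eq cert) 9200 100 chkP_9200 i (by omega) (by omega)
            · skip
              exact allRangeF_sound _ _ (checkPointF_eq cert) 9300 100 chkP_9300 i (by omega) (by omega)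
    · skip
      rcases Nat.lt_or_ge i 10100 with h3 | h3
      · skip
        rcases Nat.lt_or_ge i 9700 with h4 | h4
        · skip
          rcases Nat.lt_or_ge i 9500 with h5 | h5
          · skip
            exact allRangeF_sound _ _ (checkPointF_eq cert) 9400 100 chkP_9400 i (by omega) (by omega)
          · skip
            rcases Nat.lt_or_ge i 9600 with h6 | h6
            · skip
              exact allRangeF_sound _ _ (checkPointF_eq cert) 9500 100 chkP_9500 i (by omega) (by omega)
            · skip
              exact allRangeF_sound _ _ (checkPointF_eq cert) 9600 100 chkP_9600 i (by omega) (by omega)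
        · skip
          rcases Nat.lt_or_ge i 9900 with h5 | h5
          · skip
            rcases Nat.lt_or_ge i 9800 with h6 | h6
            · skip
              exact allRangeF_sound _ _ (checkPointF_eq cert) 9700 100 chkP_9700 i (by omega) (by omega)
            · skip
              exact allRangeF_sound _ _ (checkPointF_eq cert) 9800 100 chkP_9800 i (by omega) (by omega)
          · skip
            rcases Nat.lt_or_ge i 10000 with h6 | h6
            · skip
              exact allRangeF_sound _ _ (checkPointF_eq cert) 9900 100 chkP_9900 i (by omega) (by omega)
            · skip
              exact allRangeF_sound _ _ (checkPointF_eq cert) 10000 100 chkP_10000 i (by omega) (by omega)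
      · skip
        rcases Nat.lt_or_ge i 10400 with h4 | h4
        · skip
          rcases Nat.lt_or_ge i 10200 with h5 | h5
          · skip
            exact allRangeF_sound _ _ (checkPointF_eq cert) 10100 100 chkP_10100 i (by omega) (by omega)
          · skip
            rcases Nat.lt_or_ge i 10300 with h6 | h6
            · skip
              exact allRangeF_sound _ _ (checkPointF_eq cert) 10200 100 chkP_10200 i (by omega) (by omega)
            · skip
              exact allRangeF_sound _ _ (checkPointF_eq cert) 10300 100 chkP_10300 i (by omega) (by omega)
        · skip
          rcases Nat.lt_or_ge i 10600 with h5 | h5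
          · skip
            rcases Nat.lt_or_ge i 10500 with h6 | h6
            · skip
              exact allRangeF_sound _ _ (checkPointF_eq cert) 10400 100 chkP_10400 i (by omega) (by omega)
            · skip
              exact allRangeF_sound _ _ (checkPointF_eq cert) 10500 100 chkP_10500 i (by omega) (by omega)
          · skip
            rcases Nat.lt_or_ge i 10700 with h6 | h6
            · skip
              exact allRangeF_sound _ _ (checkPointF_eq cert) 10600 100 chkP_10600 i (by omega) (by omega)
            · skip
              exact allRangeF_sound _ _ (checkPointF_eq cert) 10700 100 chkP_10700 i (by omega) (by omega)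

end Cfsg.Agent.Lib.Helper28.CePData
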