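import Cfsg.Agent.Lib.Helper28.CePData
import Cfsg.Agent.Lib.Helper28.TCFast

set_option autoImplicit false
set_option maxRecDepth 1000000
set_option linter.all false
set_option Elab.async false

namespace Cfsg.Agent.Lib.Helper28.CePData

open Cfsg.Agent.Lib.Helper28

theorem chkP_16200 : allRangeF (checkPointF cert) (nat_lit 16200) (nat_lit 100) = true := by decide +kernel
theorem chkP_16300 : allRangeF (checkPointF cert) (nat_lit 16300) (nat_lit 100) = true := by decide +kernel
theorem chkP_16400 : allRangeF (checkPointF cert) (nat_lit 16400) (nat_lit 100) = true := by decide +kernel
theorem chkP_16500 : allRangeF (checkPointF cert) (nat_lit 16500) (nat_lit 100) = true := by decide +kernel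
theorem chkP_16600 : allRangeF (checkPointF cert) (nat_lit 16600) (nat_lit 100) = true := by decide +kernel
theorem chkP_16700 : allRangeF (checkPointF cert) (nat_lit 16700) (nat_lit 100) = true := by decide +kernel
theorem chkP_16800 : allRangeF (checkPointF cert) (nat_lit 16800) (nat_lit 100) = true := by decide +kernel
theorem chkP_16900 : allRangeF (checkPointF cert) (nat_lit 16900) (nat_lit 100) = true := by decide +kernel
theorem chkP_17000 : allRangeF (checkPointF cert) (nat_lit 17000) (nat_lit 100) = true := by decide +kernel
theorem chkP_17100 : allRangeF (checkPointF cert) (nat_lit 17100) (nat_lit 100) = true := by decide +kernel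
theorem chkP_17200 : allRangeF (checkPointF cert) (nat_lit 17200) (nat_lit 100) = true := by decide +kernel
theorem chkP_17300 : allRangeF (checkPointF cert) (nat_lit 17300) (nat_lit 100) = true := by decide +kernel
theorem chkP_17400 : allRangeF (checkPointF cert) (nat_lit 17400) (nat_lit 100) = true := by decide +kernel
theorem chkP_17500 : allRangeF (checkPointF cert) (nat_lit 17500) (nat_lit 100) = true := by decide +kernel
theorem chkP_17600 : allRangeF (checkPointF cert) (nat_lit 17600) (nat_lit 100) = true := by decide +kernel
theorem chkP_17700 : allRangeF (checkPointF cert) (nat_lit 17700) (nat_lit 100) = true := by decide +kernel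
theorem chkP_17800 : allRangeF (checkPointF cert) (nat_lit 17800) (nat_lit 100) = true := by decide +kernel
theorem chkP_17900 : allRangeF (checkPointF cert) (nat_lit 17900) (nat_lit 100) = true := by decide +kernel
theorem chkP_18000 : allRangeF (checkPointF cert) (nat_lit 18000) (nat_lit 100) = true := by decide +kernel
theorem chkP_18100 : allRangeF (checkPointF cert) (nat_lit 18100) (nat_lit 100) = true := by decide +kernel
theorem chkP_18200 : allRangeF (checkPointF cert) (nat_lit 18200) (nat_lit 100) = true := by decide +kernel
theorem chkP_18300 : allRangeF (checkPointF cert) (nat_lit 18300) (nat_lit 100) = true := by decide +kernel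
theorem chkP_18400 : allRangeF (checkPointF cert) (nat_lit 18400) (nat_lit 100) = true := by decide +kernel
theorem chkP_18500 : allRangeF (checkPointF cert) (nat_lit 18500) (nat_lit 100) = true := by decide +kernel
theorem chkP_18600 : allRangeF (checkPointF cert) (nat_lit 18600) (nat_lit 100) = true := by decide +kernel
theorem chkP_18700 : allRangeF (checkPointF cert) (nat_lit 18700) (nat_lit 100) = true := by decide +kernel
theorem chkP_18800 : allRangeF (checkPointF cert) (nat_lit 18800) (nat_lit 100) = true := by decide +kernel
theorem chkP_18900 : allRangeF (checkPointF cert) (nat_lit 18900) (nat_lit 100) = true := by decide +kernel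
theorem chkP_19000 : allRangeF (checkPointF cert) (nat_lit 19000) (nat_lit 100) = true := by decide +kernel
theorem chkP_19100 : allRangeF (checkPointF cert) (nat_lit 19100) (nat_lit 100) = true := by decide +kernel
theorem chkP_19200 : allRangeF (checkPointF cert) (nat_lit 19200) (nat_lit 100) = true := by decide +kernel
theorem chkP_19300 : allRangeF (checkPointF cert) (nat_lit 19300) (nat_lit 100) = true := by decide +kernel
theorem chkP_19400 : allRangeF (checkPointF cert) (nat_lit 19400) (nat_lit 100) = true := by decide +kernel
theorem chkP_19500 : allRangeF (checkPointF cert) (nat_lit 19500) (nat_lit 100) = true := by decide +kernel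
theorem chkP_19600 : allRangeF (checkPointF cert) (nat_lit 19600) (nat_lit 100) = true := by decide +kernel
theorem chkP_19700 : allRangeF (checkPointF cert) (nat_lit 19700) (nat_lit 100) = true := by decide +kernel
theorem chkP_19800 : allRangeF (checkPointF cert) (nat_lit 19800) (nat_lit 100) = true := by decide +kernel
theorem chkP_19900 : allRangeF (checkPointF cert) (nat_lit 19900) (nat_lit 100) = true := by decide +kernel
theorem chkP_20000 : allRangeF (checkPointF cert) (nat_lit 20000) (nat_lit 100) = true := by decide +kernel
theorem chkP_20100 : allRangeF (checkPointF cert) (nat_lit 20100) (nat_lit 100) = true := by decide +kernel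
theorem chkP_20200 : allRangeF (checkPointF cert) (nat_lit 20200) (nat_lit 100) = true := by decide +kernel
theorem chkP_20300 : allRangeF (checkPointF cert) (nat_lit 20300) (nat_lit 100) = true := by decide +kernel
theorem chkP_20400 : allRangeF (checkPointF cert) (nat_lit 20400) (nat_lit 100) = true := by decide +kernel
theorem chkP_20500 : allRangeF (checkPointF cert) (nat_lit 20500) (nat_lit 100) = true := by decide +kernel
theorem chkP_20600 : allRangeF (checkPointF cert) (nat_lit 20600) (nat_lit 100) = true := by decide +kernel
theorem chkP_20700 : allRangeF (checkPointF cert) (nat_lit 20700) (nat_lit 100) = true := by decide +kernel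
theorem chkP_20800 : allRangeF (checkPointF cert) (nat_lit 20800) (nat_lit 100) = true := by decide +kernel
theorem chkP_20900 : allRangeF (checkPointF cert) (nat_lit 20900) (nat_lit 100) = true := by decide +kernel
theorem chkP_21000 : allRangeF (checkPointF cert) (nat_lit 21000) (nat_lit 100) = true := by decide +kernel
theorem chkP_21100 : allRangeF (checkPointF cert) (nat_lit 21100) (nat_lit 100) = true := by decide +kernel
theorem chkP_21200 : allRangeF (checkPointF cert) (nat_lit 21200) (nat_lit 100) = true := by decide +kernel
theorem chkP_21300 : allRangeF (checkPointF cert) (nat_lit 21300) (nat_lit 100) = true := by decide +kernel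
theorem chkP_21400 : allRangeF (checkPointF cert) (nat_lit 21400) (nat_lit 100) = true := by decide +kernel
theorem chkP_21500 : allRangeF (checkPointF cert) (nat_lit 21500) (nat_lit 4) = true := by decide +kernel

theorem ptsRange_3 : ∀ i, 16200 ≤ i → i < 21504 → checkPoint cert i = true := by
  intro i hlo hhi
  rcases Nat.lt_or_ge i 18900 with h1 | h1
  · skip
    rcases Nat.lt_or_ge i 17500 with h2 | h2
    · skip
      rcases Nat.lt_or_ge i 16800 with h3 | h3
      · skip
        rcases Nat.lt_or_ge i 16500 with h4 | h4
        · skip
          rcases Nat.lt_or_ge i 16300 with h5 | h5
          · skip
            exact allRangeF_sound _ _ (checkPointF_eq cert) 16200 100 chkP_16200 i (by omega) (by omega)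
          · skip
            rcases Nat.lt_or_ge i 16400 with h6 | h6
            · skip
              exact allRangeF_sound _ _ (checkPointF_eq cert) 16300 100 chkP_16300 i (by omega) (by omega)
            · skip
              exact allRangeF_sound _ _ (checkPointF_eq cert) 16400 100 chkP_16400 i (by omega) (by omega)
        · skip
          rcases Nat.lt_or_ge i 16600 with h5 | h5
          · skip
            exact allRangeF_sound _ _ (checkPointF_eq cert) 16500 100 chkP_16500 i (by omega) (by omega)
          · skip
            rcases Nat.lt_or_ge i 16700 with h6 | h6
            · skip
              exact allRangeF_sound _ _ (checkPointF_eq cert) 16600 100 chkP_16600 i (by omega) (by omega)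
            · skip
              exact allRangeF_sound _ _ (checkPointF_eq cert) 16700 100 chkP_16700 i (by omega) (by omega)
      · skip
        rcases Nat.lt_or_ge i 17100 with h4 | h4
        · skip
          rcases Nat.lt_or_ge i 16900 with h5 | h5
          · skip
            exact allRangeF_sound _ _ (checkPointF_eq cert) 16800 100 chkP_16800 i (by omega) (by omega)
          · skip
            rcases Nat.lt_or_ge i 17000 with h6 | h6
            · skip
              exact allRangeF_sound _ _ (checkPointF_eq cert) 16900 100 chkP_16900 i (by omega) (by omega)
            · skip
              exact allRangeF_sound _ _ (checkPointF_eq cert) 17000 100 chkP_17000 i (by omega) (by omega)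
        · skip
          rcases Nat.lt_or_ge i 17300 with h5 | h5
          · skip
            rcases Nat.lt_or_ge i 17200 with h6 | h6
            · skip
              exact allRangeF_sound _ _ (checkPointF_eq cert) 17100 100 chkP_17100 i (by omega) (by omega)
            · skip
              exact allRangeF_sound _ _ (checkPointF_eq cert) 17200 100 chkP_17200 i (by omega) (by omega)
          · skip
            rcases Nat.lt_or_ge i 17400 with h6 | h6
            · skip
              exact allRangeF_sound _ _ (checkPointF_eq cert) 17300 100 chkP_17300 i (by omega) (by omega)
            · skip
              exact allRangeF_sound _ _ (checkPointF_eq cert) 17400 100 chkP_17400 i (by omega) (by omega)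
    · skip
      rcases Nat.lt_or_ge i 18200 with h3 | h3
      · skip
        rcases Nat.lt_or_ge i 17800 with h4 | h4
        · skip
          rcases Nat.lt_or_ge i 17600 with h5 | h5
          · skip
            exact allRangeF_sound _ _ (checkPointF_eq cert) 17500 100 chkP_17500 i (by omega) (by omega)
          · skip
            rcases Nat.lt_or_ge i 17700 with h6 | h6
            · skip
              exact allRangeF_sound _ _ (checkPointF_eq cert) 17600 100 chkP_17600 i (by omega) (by omega)
            · skip
              exact allRangeF_sound _ _ (checkPointF_eq cert) 17700 100 chkP_17700 i (by omega) (by omega)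
        · skip
          rcases Nat.lt_or_ge i 18000 with h5 | h5
          · skip
            rcases Nat.lt_or_ge i 17900 with h6 | h6
            · skip
              exact allRangeF_sound _ _ (checkPointF_eq cert) 17800 100 chkP_17800 i (by omega) (by omega)
            · skip
              exact allRangeF_sound _ _ (checkPointF_eq cert) 17900 100 chkP_17900 i (by omega) (by omega)
          · skip
            rcases Nat.lt_or_ge i 18100 with h6 | h6
            · skip
              exact allRangeF_sound _ _ (checkPointF_eq cert) 18000 100 chkP_18000 i (by omega) (by omega)
            · skip
              exact allRangeF_sound _ _ (checkPointF_eq cert) 18100 100 chkP_18100 i (by omega) (by omega)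
      · skip
        rcases Nat.lt_or_ge i 18500 with h4 | h4
        · skip
          rcases Nat.lt_or_ge i 18300 with h5 | h5
          · skip
            exact allRangeF_sound _ _ (checkPointF_eq cert) 18200 100 chkP_18200 i (by omega) (by omega)
          · skip
            rcases Nat.lt_or_ge i 18400 with h6 | h6
            · skip
              exact allRangeF_sound _ _ (checkPointF_eq cert) 18300 100 chkP_18300 i (by omega) (by omega)
            · skip
              exact allRangeF_sound _ _ (checkPointF_eq cert) 18400 100 chkP_18400 i (by omega) (by omega)
        · skip
          rcases Nat.lt_or_ge i 18700 with h5 | h5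
          · skip
            rcases Nat.lt_or_ge i 18600 with h6 | h6
            · skip
              exact allRangeF_sound _ _ (checkPointF_eq cert) 18500 100 chkP_18500 i (by omega) (by omega)
            · skip
              exact allRangeF_sound _ _ (checkPointF_eq cert) 18600 100 chkP_18600 i (by omega) (by omega)
          · skip
            rcases Nat.lt_or_ge i 18800 with h6 | h6
            · skip
              exact allRangeF_sound _ _ (checkPointF_eq cert) 18700 100 chkP_18700 i (by omega) (by omega)
            · skip
              exact allRangeF_sound _ _ (checkPointF_eq cert) 18800 100 chkP_18800 i (by omega) (by omega)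
  · skip
    rcases Nat.lt_or_ge i 20200 with h2 | h2
    · skip
      rcases Nat.lt_or_ge i 19500 with h3 | h3
      · skip
        rcases Nat.lt_or_ge i 19200 with h4 | h4
        · skip
          rcases Nat.lt_or_ge i 19000 with h5 | h5
          · skip
            exact allRangeF_sound _ _ (checkPointF_eq cert) 18900 100 chkP_18900 i (by omega) (by omega)
          · skip
            rcases Nat.lt_or_ge i 19100 with h6 | h6
            · skip
              exact allRangeF_sound _ _ (checkPointF_eq cert) 19000 100 chkP_19000 i (by omega) (by omega)
            · skip
              exact allRangeF_sound _ _ (checkPointF_eq cert) 19100 100 chkP_19100 i (by omega) (by omega)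
        · skip
          rcases Nat.lt_or_ge i 19300 with h5 | h5
          · skip
            exact allRangeF_sound _ _ (checkPointF_eq cert) 19200 100 chkP_19200 i (by omega) (by omega)
          · skip
            rcases Nat.lt_or_ge i 19400 with h6 | h6
            · skip
              exact allRangeF_sound _ _ (checkPointF_eq cert) 19300 100 chkP_19300 i (by omega) (by omega)
            · skip
              exact allRangeF_sound _ _ (checkPointF_eq cert) 19400 100 chkP_19400 i (by omega) (by omega)
      · skip
        rcases Nat.lt_or_ge i 19800 with h4 | h4
        · skip
          rcases Nat.lt_or_ge i 19600 with h5 | h5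
          · skip
            exact allRangeF_sound _ _ (checkPointF_eq cert) 19500 100 chkP_19500 i (by omega) (by omega)
          · skip
            rcases Nat.lt_or_ge i 19700 with h6 | h6
            · skip
              exact allRangeF_sound _ _ (checkPointF_eq cert) 19600 100 chkP_19600 i (by omega) (by omega)
            · skip
              exact allRangeF_sound _ _ (checkPointF_eq cert) 19700 100 chkP_19700 i (by omega) (by omega)
        · skip
          rcases Nat.lt_or_ge i 20000 with h5 | h5
          · skip
            rcases Nat.lt_or_ge i 19900 with h6 | h6
            · skip
              exact allRangeF_sound _ _ (checkPointF_eq cert) 19800 100 chkP_19800 i (by omega) (by omega)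
            · skip
              exact allRangeF_sound _ _ (checkPointF_eq cert) 19900 100 chkP_19900 i (by omega) (by omega)
          · skip
            rcases Nat.lt_or_ge i 20100 with h6 | h6
            · skip
              exact allRangeF_sound _ _ (checkPointF_eq cert) 20000 100 chkP_20000 i (by omega) (by omega)
            · skip
              exact allRangeF_sound _ _ (checkPointF_eq cert) 20100 100 chkP_20100 i (by omega) (by omega)
    · skip
      rcases Nat.lt_or_ge i 20900 with h3 | h3
      · skip
        rcases Nat.lt_or_ge i 20500 with h4 | h4
        · skip
          rcases Nat.lt_or_ge i 20300 with h5 | h5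
          · skip
            exact allRangeF_sound _ _ (checkPointF_eq cert) 20200 100 chkP_20200 i (by omega) (by omega)
          · skip
            rcases Nat.lt_or_ge i 20400 with h6 | h6
            · skip
              exact allRangeF_sound _ _ (checkPointF_eq cert) 20300 100 chkP_20300 i (by omega) (by omega)
            · skip
              exact allRangeF_sound _ _ (checkPointF_eq cert) 20400 100 chkP_20400 i (by omega) (by omega)
        · skip
          rcases Nat.lt_or_ge i 20700 with h5 | h5
          · skip
            rcases Nat.lt_or_ge i 20600 with h6 | h6
            · skip
              exact allRangeF_sound _ _ (checkPointF_eq cert) 20500 100 chkP_20500 i (by omega) (by omega)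
            · skip
              exact allRangeF_sound _ _ (checkPointF_eq cert) 20600 100 chkP_20600 i (by omega) (by omega)
          · skip
            rcases Nat.lt_or_ge i 20800 with h6 | h6
            · skip
              exact allRangeF_sound _ _ (checkPointF_eq cert) 20700 100 chkP_20700 i (by omega) (by omega)
            · skip
              exact allRangeF_sound _ _ (checkPointF_eq cert) 20800 100 chkP_20800 i (by omega) (by omega)
      · skip
        rcases Nat.lt_or_ge i 21200 with h4 | h4
        · skip
          rcases Nat.lt_or_ge i 21000 with h5 | h5
          · skip
            exact allRangeF_sound _ _ (checkPointF_eq cert) 20900 100 chkP_20900 i (by omega) (by omega)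
          · skip
            rcases Nat.lt_or_ge i 21100 with h6 | h6
            · skip
              exact allRangeF_sound _ _ (checkPointF_eq cert) 21000 100 chkP_21000 i (by omega) (by omega)
            · skip
              exact allRangeF_sound _ _ (checkPointF_eq cert) 21100 100 chkP_21100 i (by omega) (by omega)
        · skip
          rcases Nat.lt_or_ge i 21400 with h5 | h5
          · skip
            rcases Nat.lt_or_ge i 21300 with h6 | h6
            · skip
              exact allRangeF_sound _ _ (checkPointF_eq cert) 21200 100 chkP_21200 i (by omega) (by omega)
            · skip
              exact allRangeF_sound _ _ (checkPointF_eq cert) 21300 100 chkP_21300 i (by omega) (by omega)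
          · skip
            rcases Nat.lt_or_ge i 21500 with h6 | h6
            · skip
              exact allRangeF_sound _ _ (checkPointF_eq cert) 21400 100 chkP_21400 i (by omega) (by omega)
            · skip
              exact allRangeF_sound _ _ (checkPointF_eq cert) 21500 4 chkP_21500 i (by omega) (by omega)

end Cfsg.Agent.Lib.Helper28.CePData
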