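import Cfsg.Agent.Lib.Helper28.CePChkP0
import Cfsg.Agent.Lib.Helper28.CePChkP1
import Cfsg.Agent.Lib.Helper28.CePChkP2
import Cfsg.Agent.Lib.Helper28.CePChkP3
import Cfsg.Agent.Lib.Helper28.CePChkF0
import Cfsg.Agent.Lib.Helper28.CePChkF1
import Cfsg.Agent.Lib.Helper28.TCOrbit

set_option autoImplicit false
set_option maxRecDepth 1000000
set_option linter.all false
set_option Elab.async false

namespace Cfsg.Agent.Lib.Helper28.CePData

open Cfsg.Agent.Lib.Helper28

theorem chkG : checkGlobal cert = true := by decide +kernel

theorem chkR2 : checkRels2 cert = true := by decide +kernel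

theorem facts_ok : ∀ i, i < cert.nF → checkFact cert i = true := by
  intro i hi
  have hn : cert.nF = 130030 := rfl
  rw [hn] at hi
  rcases Nat.lt_or_ge i 66000 with h1 | h1
  · skip
    exact factsRange_0 i (by omega) (by omega)
  · skip
    exact factsRange_1 i (by omega) (by omega)

theorem pts_ok : ∀ p, p < cert.n → checkPoint cert p = true := by
  intro i hi
  have hn : cert.n = 21504 := rfl
  rw [hn] at hi
  rcases Nat.lt_or_ge i 10800 with h1 | h1
  · skip
    rcases Nat.lt_or_ge i 5400 with h2 | h2
    · skip
      exact ptsRange_0 i (by omega) (by omega)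
    · skip
      exact ptsRange_1 i (by omega) (by omega)
  · skip
    rcases Nat.lt_or_ge i 16200 with h2 | h2
    · skip
      exact ptsRange_2 i (by omega) (by omega)
    · skip
      exact ptsRange_3 i (by omega) (by omega)


end Cfsg.Agent.Lib.Helper28.CePData
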