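import Cfsg.Agent.Lib.Helper28.He2Data
import Cfsg.Agent.Lib.Helper28.TCFastF

set_option autoImplicit false
set_option maxRecDepth 1000000
set_option linter.all false
set_option Elab.async false

namespace Cfsg.Agent.Lib.Helper28.He2Data

open Cfsg.Agent.Lib.Helper28

theorem chkF_0 : allRangeF (checkFactF cert) (nat_lit 0) (nat_lit 1000) = true := by decide +kernel
theorem chkF_1000 : allRangeF (checkFactF cert) (nat_lit 1000) (nat_lit 1000) = true := by decide +kernel
theorem chkF_2000 : allRangeF (checkFactF cert) (nat_lit 2000) (nat_lit 1000) = true := by decide +kernel
theorem chkF_3000 : allRangeF (checkFactF cert) (nat_lit 3000) (nat_lit 1000) = true := by decide +kernel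
theorem chkF_4000 : allRangeF (checkFactF cert) (nat_lit 4000) (nat_lit 1000) = true := by decide +kernel
theorem chkF_5000 : allRangeF (checkFactF cert) (nat_lit 5000) (nat_lit 1000) = true := by decide +kernel
theorem chkF_6000 : allRangeF (checkFactF cert) (nat_lit 6000) (nat_lit 1000) = true := by decide +kernel
theorem chkF_7000 : allRangeF (checkFactF cert) (nat_lit 7000) (nat_lit 1000) = true := by decide +kernel
theorem chkF_8000 : allRangeF (checkFactF cert) (nat_lit 8000) (nat_lit 1000) = true := by decide +kernel
theorem chkF_9000 : allRangeF (checkFactF cert) (nat_lit 9000) (nat_lit 1000) = true := by decide +kernel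
theorem chkF_10000 : allRangeF (checkFactF cert) (nat_lit 10000) (nat_lit 1000) = true := by decide +kernel
theorem chkF_11000 : allRangeF (checkFactF cert) (nat_lit 11000) (nat_lit 1000) = true := by decide +kernel
theorem chkF_12000 : allRangeF (checkFactF cert) (nat_lit 12000) (nat_lit 1000) = true := by decide +kernel
theorem chkF_13000 : allRangeF (checkFactF cert) (nat_lit 13000) (nat_lit 1000) = true := by decide +kernel
theorem chkF_14000 : allRangeF (checkFactF cert) (nat_lit 14000) (nat_lit 1000) = true := by decide +kernel
theorem chkF_15000 : allRangeF (checkFactF cert) (nat_lit 15000) (nat_lit 1000) = true := by decide +kernel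
theorem chkF_16000 : allRangeF (checkFactF cert) (nat_lit 16000) (nat_lit 1000) = true := by decide +kernel
theorem chkF_17000 : allRangeF (checkFactF cert) (nat_lit 17000) (nat_lit 1000) = true := by decide +kernel
theorem chkF_18000 : allRangeF (checkFactF cert) (nat_lit 18000) (nat_lit 1000) = true := by decide +kernel
theorem chkF_19000 : allRangeF (checkFactF cert) (nat_lit 19000) (nat_lit 1000) = true := by decide +kernel
theorem chkF_20000 : allRangeF (checkFactF cert) (nat_lit 20000) (nat_lit 1000) = true := by decide +kernel
theorem chkF_21000 : allRangeF (checkFactF cert) (nat_lit 21000) (nat_lit 1000) = true := by decide +kernel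
theorem chkF_22000 : allRangeF (checkFactF cert) (nat_lit 22000) (nat_lit 1000) = true := by decide +kernel
theorem chkF_23000 : allRangeF (checkFactF cert) (nat_lit 23000) (nat_lit 1000) = true := by decide +kernel
theorem chkF_24000 : allRangeF (checkFactF cert) (nat_lit 24000) (nat_lit 1000) = true := by decide +kernel
theorem chkF_25000 : allRangeF (checkFactF cert) (nat_lit 25000) (nat_lit 1000) = true := by decide +kernel
theorem chkF_26000 : allRangeF (checkFactF cert) (nat_lit 26000) (nat_lit 1000) = true := by decide +kernel
theorem chkF_27000 : allRangeF (checkFactF cert) (nat_lit 27000) (nat_lit 1000) = true := by decide +kernel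
theorem chkF_28000 : allRangeF (checkFactF cert) (nat_lit 28000) (nat_lit 1000) = true := by decide +kernel
theorem chkF_29000 : allRangeF (checkFactF cert) (nat_lit 29000) (nat_lit 1000) = true := by decide +kernel
theorem chkF_30000 : allRangeF (checkFactF cert) (nat_lit 30000) (nat_lit 1000) = true := by decide +kernel
theorem chkF_31000 : allRangeF (checkFactF cert) (nat_lit 31000) (nat_lit 1000) = true := by decide +kernel
theorem chkF_32000 : allRangeF (checkFactF cert) (nat_lit 32000) (nat_lit 1000) = true := by decide +kernel
theorem chkF_33000 : allRangeF (checkFactF cert) (nat_lit 33000) (nat_lit 1000) = true := by decide +kernel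
theorem chkF_34000 : allRangeF (checkFactF cert) (nat_lit 34000) (nat_lit 1000) = true := by decide +kernel
theorem chkF_35000 : allRangeF (checkFactF cert) (nat_lit 35000) (nat_lit 1000) = true := by decide +kernel
theorem chkF_36000 : allRangeF (checkFactF cert) (nat_lit 36000) (nat_lit 1000) = true := by decide +kernel
theorem chkF_37000 : allRangeF (checkFactF cert) (nat_lit 37000) (nat_lit 1000) = true := by decide +kernel
theorem chkF_38000 : allRangeF (checkFactF cert) (nat_lit 38000) (nat_lit 1000) = true := by decide +kernel
theorem chkF_39000 : allRangeF (checkFactF cert) (nat_lit 39000) (nat_lit 1000) = true := by decide +kernel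
theorem chkF_40000 : allRangeF (checkFactF cert) (nat_lit 40000) (nat_lit 1000) = true := by decide +kernel
theorem chkF_41000 : allRangeF (checkFactF cert) (nat_lit 41000) (nat_lit 1000) = true := by decide +kernel
theorem chkF_42000 : allRangeF (checkFactF cert) (nat_lit 42000) (nat_lit 1000) = true := by decide +kernel
theorem chkF_43000 : allRangeF (checkFactF cert) (nat_lit 43000) (nat_lit 1000) = true := by decide +kernel
theorem chkF_44000 : allRangeF (checkFactF cert) (nat_lit 44000) (nat_lit 1000) = true := by decide +kernel
theorem chkF_45000 : allRangeF (checkFactF cert) (nat_lit 45000) (nat_lit 1000) = true := by decide +kernel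
theorem chkF_46000 : allRangeF (checkFactF cert) (nat_lit 46000) (nat_lit 1000) = true := by decide +kernel
theorem chkF_47000 : allRangeF (checkFactF cert) (nat_lit 47000) (nat_lit 1000) = true := by decide +kernel
theorem chkF_48000 : allRangeF (checkFactF cert) (nat_lit 48000) (nat_lit 1000) = true := by decide +kernel
theorem chkF_49000 : allRangeF (checkFactF cert) (nat_lit 49000) (nat_lit 1000) = true := by decide +kernel
theorem chkF_50000 : allRangeF (checkFactF cert) (nat_lit 50000) (nat_lit 1000) = true := by decide +kernel
theorem chkF_51000 : allRangeF (checkFactF cert) (nat_lit 51000) (nat_lit 1000) = true := by decide +kernel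
theorem chkF_52000 : allRangeF (checkFactF cert) (nat_lit 52000) (nat_lit 1000) = true := by decide +kernel
theorem chkF_53000 : allRangeF (checkFactF cert) (nat_lit 53000) (nat_lit 1000) = true := by decide +kernel
theorem chkF_54000 : allRangeF (checkFactF cert) (nat_lit 54000) (nat_lit 1000) = true := by decide +kernel
theorem chkF_55000 : allRangeF (checkFactF cert) (nat_lit 55000) (nat_lit 1000) = true := by decide +kernel
theorem chkF_56000 : allRangeF (checkFactF cert) (nat_lit 56000) (nat_lit 1000) = true := by decide +kernel
theorem chkF_57000 : allRangeF (checkFactF cert) (nat_lit 57000) (nat_lit 1000) = true := by decide +kernel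
theorem chkF_58000 : allRangeF (checkFactF cert) (nat_lit 58000) (nat_lit 1000) = true := by decide +kernel
theorem chkF_59000 : allRangeF (checkFactF cert) (nat_lit 59000) (nat_lit 1000) = true := by decide +kernel
theorem chkF_60000 : allRangeF (checkFactF cert) (nat_lit 60000) (nat_lit 1000) = true := by decide +kernel
theorem chkF_61000 : allRangeF (checkFactF cert) (nat_lit 61000) (nat_lit 1000) = true := by decide +kernel
theorem chkF_62000 : allRangeF (checkFactF cert) (nat_lit 62000) (nat_lit 1000) = true := by decide +kernel
theorem chkF_63000 : allRangeF (checkFactF cert) (nat_lit 63000) (nat_lit 1000) = true := by decide +kernel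
theorem chkF_64000 : allRangeF (checkFactF cert) (nat_lit 64000) (nat_lit 1000) = true := by decide +kernel
theorem chkF_65000 : allRangeF (checkFactF cert) (nat_lit 65000) (nat_lit 1000) = true := by decide +kernel
theorem chkF_66000 : allRangeF (checkFactF cert) (nat_lit 66000) (nat_lit 1000) = true := by decide +kernel
theorem chkF_67000 : allRangeF (checkFactF cert) (nat_lit 67000) (nat_lit 1000) = true := by decide +kernel
theorem chkF_68000 : allRangeF (checkFactF cert) (nat_lit 68000) (nat_lit 1000) = true := by decide +kernel
theorem chkF_69000 : allRangeF (checkFactF cert) (nat_lit 69000) (nat_lit 1000) = true := by decide +kernel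
theorem chkF_70000 : allRangeF (checkFactF cert) (nat_lit 70000) (nat_lit 1000) = true := by decide +kernel
theorem chkF_71000 : allRangeF (checkFactF cert) (nat_lit 71000) (nat_lit 1000) = true := by decide +kernel
theorem chkF_72000 : allRangeF (checkFactF cert) (nat_lit 72000) (nat_lit 1000) = true := by decide +kernel
theorem chkF_73000 : allRangeF (checkFactF cert) (nat_lit 73000) (nat_lit 1000) = true := by decide +kernel
theorem chkF_74000 : allRangeF (checkFactF cert) (nat_lit 74000) (nat_lit 1000) = true := by decide +kernel
theorem chkF_75000 : allRangeF (checkFactF cert) (nat_lit 75000) (nat_lit 1000) = true := by decide +kernel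
theorem chkF_76000 : allRangeF (checkFactF cert) (nat_lit 76000) (nat_lit 1000) = true := by decide +kernel
theorem chkF_77000 : allRangeF (checkFactF cert) (nat_lit 77000) (nat_lit 1000) = true := by decide +kernel
theorem chkF_78000 : allRangeF (checkFactF cert) (nat_lit 78000) (nat_lit 1000) = true := by decide +kernel
theorem chkF_79000 : allRangeF (checkFactF cert) (nat_lit 79000) (nat_lit 1000) = true := by decide +kernel
theorem chkF_80000 : allRangeF (checkFactF cert) (nat_lit 80000) (nat_lit 1000) = true := by decide +kernel
theorem chkF_81000 : allRangeF (checkFactF cert) (nat_lit 81000) (nat_lit 1000) = true := by decide +kernel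
theorem chkF_82000 : allRangeF (checkFactF cert) (nat_lit 82000) (nat_lit 1000) = true := by decide +kernel
theorem chkF_83000 : allRangeF (checkFactF cert) (nat_lit 83000) (nat_lit 1000) = true := by decide +kernel
theorem chkF_84000 : allRangeF (checkFactF cert) (nat_lit 84000) (nat_lit 1000) = true := by decide +kernel
theorem chkF_85000 : allRangeF (checkFactF cert) (nat_lit 85000) (nat_lit 1000) = true := by decide +kernel
theorem chkF_86000 : allRangeF (checkFactF cert) (nat_lit 86000) (nat_lit 1000) = true := by decide +kernel
theorem chkF_87000 : allRangeF (checkFactF cert) (nat_lit 87000) (nat_lit 1000) = true := by decide +kernel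
theorem chkF_88000 : allRangeF (checkFactF cert) (nat_lit 88000) (nat_lit 1000) = true := by decide +kernel
theorem chkF_89000 : allRangeF (checkFactF cert) (nat_lit 89000) (nat_lit 1000) = true := by decide +kernel
theorem chkF_90000 : allRangeF (checkFactF cert) (nat_lit 90000) (nat_lit 1000) = true := by decide +kernel
theorem chkF_91000 : allRangeF (checkFactF cert) (nat_lit 91000) (nat_lit 1000) = true := by decide +kernel
theorem chkF_92000 : allRangeF (checkFactF cert) (nat_lit 92000) (nat_lit 1000) = true := by decide +kernel
theorem chkF_93000 : allRangeF (checkFactF cert) (nat_lit 93000) (nat_lit 1000) = true := by decide +kernel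
theorem chkF_94000 : allRangeF (checkFactF cert) (nat_lit 94000) (nat_lit 1000) = true := by decide +kernel
theorem chkF_95000 : allRangeF (checkFactF cert) (nat_lit 95000) (nat_lit 1000) = true := by decide +kernel
theorem chkF_96000 : allRangeF (checkFactF cert) (nat_lit 96000) (nat_lit 1000) = true := by decide +kernel
theorem chkF_97000 : allRangeF (checkFactF cert) (nat_lit 97000) (nat_lit 1000) = true := by decide +kernel
theorem chkF_98000 : allRangeF (checkFactF cert) (nat_lit 98000) (nat_lit 1000) = true := by decide +kernel
theorem chkF_99000 : allRangeF (checkFactF cert) (nat_lit 99000) (nat_lit 1000) = true := by decide +kernel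
theorem chkF_100000 : allRangeF (checkFactF cert) (nat_lit 100000) (nat_lit 1000) = true := by decide +kernel
theorem chkF_101000 : allRangeF (checkFactF cert) (nat_lit 101000) (nat_lit 1000) = true := by decide +kernel
theorem chkF_102000 : allRangeF (checkFactF cert) (nat_lit 102000) (nat_lit 1000) = true := by decide +kernel
theorem chkF_103000 : allRangeF (checkFactF cert) (nat_lit 103000) (nat_lit 1000) = true := by decide +kernel
theorem chkF_104000 : allRangeF (checkFactF cert) (nat_lit 104000) (nat_lit 1000) = true := by decide +kernel
theorem chkF_105000 : allRangeF (checkFactF cert) (nat_lit 105000) (nat_lit 1000) = true := by decide +kernel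
theorem chkF_106000 : allRangeF (checkFactF cert) (nat_lit 106000) (nat_lit 1000) = true := by decide +kernel
theorem chkF_107000 : allRangeF (checkFactF cert) (nat_lit 107000) (nat_lit 1000) = true := by decide +kernel
theorem chkF_108000 : allRangeF (checkFactF cert) (nat_lit 108000) (nat_lit 1000) = true := by decide +kernel
theorem chkF_109000 : allRangeF (checkFactF cert) (nat_lit 109000) (nat_lit 1000) = true := by decide +kernel
theorem chkF_110000 : allRangeF (checkFactF cert) (nat_lit 110000) (nat_lit 1000) = true := by decide +kernel
theorem chkF_111000 : allRangeF (checkFactF cert) (nat_lit 111000) (nat_lit 1000) = true := by decide +kernel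
theorem chkF_112000 : allRangeF (checkFactF cert) (nat_lit 112000) (nat_lit 1000) = true := by decide +kernel
theorem chkF_113000 : allRangeF (checkFactF cert) (nat_lit 113000) (nat_lit 1000) = true := by decide +kernel
theorem chkF_114000 : allRangeF (checkFactF cert) (nat_lit 114000) (nat_lit 1000) = true := by decide +kernel
theorem chkF_115000 : allRangeF (checkFactF cert) (nat_lit 115000) (nat_lit 1000) = true := by decide +kernel
theorem chkF_116000 : allRangeF (checkFactF cert) (nat_lit 116000) (nat_lit 1000) = true := by decide +kernel
theorem chkF_117000 : allRangeF (checkFactF cert) (nat_lit 117000) (nat_lit 1000) = true := by decide +kernel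

theorem factsRange_0 : ∀ i, 0 ≤ i → i < 118000 → checkFact cert i = true := by
  intro i hlo hhi
  rcases Nat.lt_or_ge i 59000 with h1 | h1
  · skip
    rcases Nat.lt_or_ge i 29000 with h2 | h2
    · skip
      rcases Nat.lt_or_ge i 14000 with h3 | h3
      · skip
        rcases Nat.lt_or_ge i 7000 with h4 | h4
        · skip
          rcases Nat.lt_or_ge i 3000 with h5 | h5
          · skip
            rcases Nat.lt_or_ge i 1000 with h6 | h6
            · skip
              exact allRangeF_sound _ _ (checkFactF_eq cert) 0 1000 chkF_0 i (by omega) (by omega)
            · skip
              rcases Nat.lt_or_ge i 2000 with h7 | h7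
              · skip
                exact allRangeF_sound _ _ (checkFactF_eq cert) 1000 1000 chkF_1000 i (by omega) (by omega)
              · skip
                exact allRangeF_sound _ _ (checkFactF_eq cert) 2000 1000 chkF_2000 i (by omega) (by omega)
          · skip
            rcases Nat.lt_or_ge i 5000 with h6 | h6
            · skip
              rcases Nat.lt_or_ge i 4000 with h7 | h7
              · skip
                exact allRangeF_sound _ _ (checkFactF_eq cert) 3000 1000 chkF_3000 i (by omega) (by omega)
              · skip
                exact allRangeF_sound _ _ (checkFactF_eq cert) 4000 1000 chkF_4000 i (by omega) (by omega)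
            · skip
              rcases Nat.lt_or_ge i 6000 with h7 | h7
              · skip
                exact allRangeF_sound _ _ (checkFactF_eq cert) 5000 1000 chkF_5000 i (by omega) (by omega)
              · skip
                exact allRangeF_sound _ _ (checkFactF_eq cert) 6000 1000 chkF_6000 i (by omega) (by omega)
        · skip
          rcases Nat.lt_or_ge i 10000 with h5 | h5
          · skip
            rcases Nat.lt_or_ge i 8000 with h6 | h6
            · skip
              exact allRangeF_sound _ _ (checkFactF_eq cert) 7000 1000 chkF_7000 i (by omega) (by omega)
            · skip
              rcases Nat.lt_or_ge i 9000 with h7 | h7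
              · skip
                exact allRangeF_sound _ _ (checkFactF_eq cert) 8000 1000 chkF_8000 i (by omega) (by omega)
              · skip
                exact allRangeF_sound _ _ (checkFactF_eq cert) 9000 1000 chkF_9000 i (by omega) (by omega)
          · skip
            rcases Nat.lt_or_ge i 12000 with h6 | h6
            · skip
              rcases Nat.lt_or_ge i 11000 with h7 | h7
              · skip
                exact allRangeF_sound _ _ (checkFactF_eq cert) 10000 1000 chkF_10000 i (by omega) (by omega)
              · skip
                exact allRangeF_sound _ _ (checkFactF_eq cert) 11000 1000 chkF_11000 i (by omega) (by omega)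
            · skip
              rcases Nat.lt_or_ge i 13000 with h7 | h7
              · skip
                exact allRangeF_sound _ _ (checkFactF_eq cert) 12000 1000 chkF_12000 i (by omega) (by omega)
              · skip
                exact allRangeF_sound _ _ (checkFactF_eq cert) 13000 1000 chkF_13000 i (by omega) (by omega)
      · skip
        rcases Nat.lt_or_ge i 21000 with h4 | h4
        · skip
          rcases Nat.lt_or_ge i 17000 with h5 | h5
          · skip
            rcases Nat.lt_or_ge i 15000 with h6 | h6
            · skip
              exact allRangeF_sound _ _ (checkFactF_eq cert) 14000 1000 chkF_14000 i (by omega) (by omega)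
            · skip
              rcases Nat.lt_or_ge i 16000 with h7 | h7
              · skip
                exact allRangeF_sound _ _ (checkFactF_eq cert) 15000 1000 chkF_15000 i (by omega) (by omega)
              · skip
                exact allRangeF_sound _ _ (checkFactF_eq cert) 16000 1000 chkF_16000 i (by omega) (by omega)
          · skip
            rcases Nat.lt_or_ge i 19000 with h6 | h6
            · skip
              rcases Nat.lt_or_ge i 18000 with h7 | h7
              · skip
                exact allRangeF_sound _ _ (checkFactF_eq cert) 17000 1000 chkF_17000 i (by omega) (by omega)
              · skip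
                exact allRangeF_sound _ _ (checkFactF_eq cert) 18000 1000 chkF_18000 i (by omega) (by omega)
            · skip
              rcases Nat.lt_or_ge i 20000 with h7 | h7
              · skip
                exact allRangeF_sound _ _ (checkFactF_eq cert) 19000 1000 chkF_19000 i (by omega) (by omega)
              · skip
                exact allRangeF_sound _ _ (checkFactF_eq cert) 20000 1000 chkF_20000 i (by omega) (by omega)
        · skip
          rcases Nat.lt_or_ge i 25000 with h5 | h5
          · skip
            rcases Nat.lt_or_ge i 23000 with h6 | h6
            · skip
              rcases Nat.lt_or_ge i 22000 with h7 | h7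
              · skip
                exact allRangeF_sound _ _ (checkFactF_eq cert) 21000 1000 chkF_21000 i (by omega) (by omega)
              · skip
                exact allRangeF_sound _ _ (checkFactF_eq cert) 22000 1000 chkF_22000 i (by omega) (by omega)
            · skip
              rcases Nat.lt_or_ge i 24000 with h7 | h7
              · skip
                exact allRangeF_sound _ _ (checkFactF_eq cert) 23000 1000 chkF_23000 i (by omega) (by omega)
              · skip
                exact allRangeF_sound _ _ (checkFactF_eq cert) 24000 1000 chkF_24000 i (by omega) (by omega)
          · skip
            rcases Nat.lt_or_ge i 27000 with h6 | h6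
            · skip
              rcases Nat.lt_or_ge i 26000 with h7 | h7
              · skip
                exact allRangeF_sound _ _ (checkFactF_eq cert) 25000 1000 chkF_25000 i (by omega) (by omega)
              · skip
                exact allRangeF_sound _ _ (checkFactF_eq cert) 26000 1000 chkF_26000 i (by omega) (by omega)
            · skip
              rcases Nat.lt_or_ge i 28000 with h7 | h7
              · skip
                exact allRangeF_sound _ _ (checkFactF_eq cert) 27000 1000 chkF_27000 i (by omega) (by omega)
              · skip
                exact allRangeF_sound _ _ (checkFactF_eq cert) 28000 1000 chkF_28000 i (by omega) (by omega)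
    · skip
      rcases Nat.lt_or_ge i 44000 with h3 | h3
      · skip
        rcases Nat.lt_or_ge i 36000 with h4 | h4
        · skip
          rcases Nat.lt_or_ge i 32000 with h5 | h5
          · skip
            rcases Nat.lt_or_ge i 30000 with h6 | h6
            · skip
              exact allRangeF_sound _ _ (checkFactF_eq cert) 29000 1000 chkF_29000 i (by omega) (by omega)
            · skip
              rcases Nat.lt_or_ge i 31000 with h7 | h7
              · skip
                exact allRangeF_sound _ _ (checkFactF_eq cert) 30000 1000 chkF_30000 i (by omega) (by omega)
              · skip
                exact allRangeF_sound _ _ (checkFactF_eq cert) 31000 1000 chkF_31000 i (by omega) (by omega)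
          · skip
            rcases Nat.lt_or_ge i 34000 with h6 | h6
            · skip
              rcases Nat.lt_or_ge i 33000 with h7 | h7
              · skip
                exact allRangeF_sound _ _ (checkFactF_eq cert) 32000 1000 chkF_32000 i (by omega) (by omega)
              · skip
                exact allRangeF_sound _ _ (checkFactF_eq cert) 33000 1000 chkF_33000 i (by omega) (by omega)
            · skip
              rcases Nat.lt_or_ge i 35000 with h7 | h7
              · skip
                exact allRangeF_sound _ _ (checkFactF_eq cert) 34000 1000 chkF_34000 i (by omega) (by omega)
              · skip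
                exact allRangeF_sound _ _ (checkFactF_eq cert) 35000 1000 chkF_35000 i (by omega) (by omega)
        · skip
          rcases Nat.lt_or_ge i 40000 with h5 | h5
          · skip
            rcases Nat.lt_or_ge i 38000 with h6 | h6
            · skip
              rcases Nat.lt_or_ge i 37000 with h7 | h7
              · skip
                exact allRangeF_sound _ _ (checkFactF_eq cert) 36000 1000 chkF_36000 i (by omega) (by omega)
              · skip
                exact allRangeF_sound _ _ (checkFactF_eq cert) 37000 1000 chkF_37000 i (by omega) (by omega)
            · skip
              rcases Nat.lt_or_ge i 39000 with h7 | h7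
              · skip
                exact allRangeF_sound _ _ (checkFactF_eq cert) 38000 1000 chkF_38000 i (by omega) (by omega)
              · skip
                exact allRangeF_sound _ _ (checkFactF_eq cert) 39000 1000 chkF_39000 i (by omega) (by omega)
          · skip
            rcases Nat.lt_or_ge i 42000 with h6 | h6
            · skip
              rcases Nat.lt_or_ge i 41000 with h7 | h7
              · skip
                exact allRangeF_sound _ _ (checkFactF_eq cert) 40000 1000 chkF_40000 i (by omega) (by omega)
              · skip
                exact allRangeF_sound _ _ (checkFactF_eq cert) 41000 1000 chkF_41000 i (by omega) (by omega)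
            · skip
              rcases Nat.lt_or_ge i 43000 with h7 | h7
              · skip
                exact allRangeF_sound _ _ (checkFactF_eq cert) 42000 1000 chkF_42000 i (by omega) (by omega)
              · skip
                exact allRangeF_sound _ _ (checkFactF_eq cert) 43000 1000 chkF_43000 i (by omega) (by omega)
      · skip
        rcases Nat.lt_or_ge i 51000 with h4 | h4
        · skip
          rcases Nat.lt_or_ge i 47000 with h5 | h5
          · skip
            rcases Nat.lt_or_ge i 45000 with h6 | h6
            · skip
              exact allRangeF_sound _ _ (checkFactF_eq cert) 44000 1000 chkF_44000 i (by omega) (by omega)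
            · skip
              rcases Nat.lt_or_ge i 46000 with h7 | h7
              · skip
                exact allRangeF_sound _ _ (checkFactF_eq cert) 45000 1000 chkF_45000 i (by omega) (by omega)
              · skip
                exact allRangeF_sound _ _ (checkFactF_eq cert) 46000 1000 chkF_46000 i (by omega) (by omega)
          · skip
            rcases Nat.lt_or_ge i 49000 with h6 | h6
            · skip
              rcases Nat.lt_or_ge i 48000 with h7 | h7
              · skip
                exact allRangeF_sound _ _ (checkFactF_eq cert) 47000 1000 chkF_47000 i (by omega) (by omega)
              · skip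
                exact allRangeF_sound _ _ (checkFactF_eq cert) 48000 1000 chkF_48000 i (by omega) (by omega)
            · skip
              rcases Nat.lt_or_ge i 50000 with h7 | h7
              · skip
                exact allRangeF_sound _ _ (checkFactF_eq cert) 49000 1000 chkF_49000 i (by omega) (by omega)
              · skip
                exact allRangeF_sound _ _ (checkFactF_eq cert) 50000 1000 chkF_50000 i (by omega) (by omega)
        · skip
          rcases Nat.lt_or_ge i 55000 with h5 | h5
          · skip
            rcases Nat.lt_or_ge i 53000 with h6 | h6
            · skip
              rcases Nat.lt_or_ge i 52000 with h7 | h7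
              · skip
                exact allRangeF_sound _ _ (checkFactF_eq cert) 51000 1000 chkF_51000 i (by omega) (by omega)
              · skip
                exact allRangeF_sound _ _ (checkFactF_eq cert) 52000 1000 chkF_52000 i (by omega) (by omega)
            · skip
              rcases Nat.lt_or_ge i 54000 with h7 | h7
              · skip
                exact allRangeF_sound _ _ (checkFactF_eq cert) 53000 1000 chkF_53000 i (by omega) (by omega)
              · skip
                exact allRangeF_sound _ _ (checkFactF_eq cert) 54000 1000 chkF_54000 i (by omega) (by omega)
          · skip
            rcases Nat.lt_or_ge i 57000 with h6 | h6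
            · skip
              rcases Nat.lt_or_ge i 56000 with h7 | h7
              · skip
                exact allRangeF_sound _ _ (checkFactF_eq cert) 55000 1000 chkF_55000 i (by omega) (by omega)
              · skip
                exact allRangeF_sound _ _ (checkFactF_eq cert) 56000 1000 chkF_56000 i (by omega) (by omega)
            · skip
              rcases Nat.lt_or_ge i 58000 with h7 | h7
              · skip
                exact allRangeF_sound _ _ (checkFactF_eq cert) 57000 1000 chkF_57000 i (by omega) (by omega)
              · skip
                exact allRangeF_sound _ _ (checkFactF_eq cert) 58000 1000 chkF_58000 i (by omega) (by omega)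
  · skip
    rcases Nat.lt_or_ge i 88000 with h2 | h2
    · skip
      rcases Nat.lt_or_ge i 73000 with h3 | h3
      · skip
        rcases Nat.lt_or_ge i 66000 with h4 | h4
        · skip
          rcases Nat.lt_or_ge i 62000 with h5 | h5
          · skip
            rcases Nat.lt_or_ge i 60000 with h6 | h6
            · skip
              exact allRangeF_sound _ _ (checkFactF_eq cert) 59000 1000 chkF_59000 i (by omega) (by omega)
            · skip
              rcases Nat.lt_or_ge i 61000 with h7 | h7
              · skip
                exact allRangeF_sound _ _ (checkFactF_eq cert) 60000 1000 chkF_60000 i (by omega) (by omega)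
              · skip
                exact allRangeF_sound _ _ (checkFactF_eq cert) 61000 1000 chkF_61000 i (by omega) (by omega)
          · skip
            rcases Nat.lt_or_ge i 64000 with h6 | h6
            · skip
              rcases Nat.lt_or_ge i 63000 with h7 | h7
              · skip
                exact allRangeF_sound _ _ (checkFactF_eq cert) 62000 1000 chkF_62000 i (by omega) (by omega)
              · skip
                exact allRangeF_sound _ _ (checkFactF_eq cert) 63000 1000 chkF_63000 i (by omega) (by omega)
            · skip
              rcases Nat.lt_or_ge i 65000 with h7 | h7
              · skip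
                exact allRangeF_sound _ _ (checkFactF_eq cert) 64000 1000 chkF_64000 i (by omega) (by omega)
              · skip
                exact allRangeF_sound _ _ (checkFactF_eq cert) 65000 1000 chkF_65000 i (by omega) (by omega)
        · skip
          rcases Nat.lt_or_ge i 69000 with h5 | h5
          · skip
            rcases Nat.lt_or_ge i 67000 with h6 | h6
            · skip
              exact allRangeF_sound _ _ (checkFactF_eq cert) 66000 1000 chkF_66000 i (by omega) (by omega)
            · skip
              rcases Nat.lt_or_ge i 68000 with h7 | h7
              · skip
                exact allRangeF_sound _ _ (checkFactF_eq cert) 67000 1000 chkF_67000 i (by omega) (by omega)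
              · skip
                exact allRangeF_sound _ _ (checkFactF_eq cert) 68000 1000 chkF_68000 i (by omega) (by omega)
          · skip
            rcases Nat.lt_or_ge i 71000 with h6 | h6
            · skip
              rcases Nat.lt_or_ge i 70000 with h7 | h7
              · skip
                exact allRangeF_sound _ _ (checkFactF_eq cert) 69000 1000 chkF_69000 i (by omega) (by omega)
              · skip
                exact allRangeF_sound _ _ (checkFactF_eq cert) 70000 1000 chkF_70000 i (by omega) (by omega)
            · skip
              rcases Nat.lt_or_ge i 72000 with h7 | h7
              · skip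
                exact allRangeF_sound _ _ (checkFactF_eq cert) 71000 1000 chkF_71000 i (by omega) (by omega)
              · skip
                exact allRangeF_sound _ _ (checkFactF_eq cert) 72000 1000 chkF_72000 i (by omega) (by omega)
      · skip
        rcases Nat.lt_or_ge i 80000 with h4 | h4
        · skip
          rcases Nat.lt_or_ge i 76000 with h5 | h5
          · skip
            rcases Nat.lt_or_ge i 74000 with h6 | h6
            · skip
              exact allRangeF_sound _ _ (checkFactF_eq cert) 73000 1000 chkF_73000 i (by omega) (by omega)
            · skip
              rcases Nat.lt_or_ge i 75000 with h7 | h7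
              · skip
                exact allRangeF_sound _ _ (checkFactF_eq cert) 74000 1000 chkF_74000 i (by omega) (by omega)
              · skip
                exact allRangeF_sound _ _ (checkFactF_eq cert) 75000 1000 chkF_75000 i (by omega) (by omega)
          · skip
            rcases Nat.lt_or_ge i 78000 with h6 | h6
            · skip
              rcases Nat.lt_or_ge i 77000 with h7 | h7
              · skip
                exact allRangeF_sound _ _ (checkFactF_eq cert) 76000 1000 chkF_76000 i (by omega) (by omega)
              · skip
                exact allRangeF_sound _ _ (checkFactF_eq cert) 77000 1000 chkF_77000 i (by omega) (by omega)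
            · skip
              rcases Nat.lt_or_ge i 79000 with h7 | h7
              · skip
                exact allRangeF_sound _ _ (checkFactF_eq cert) 78000 1000 chkF_78000 i (by omega) (by omega)
              · skip
                exact allRangeF_sound _ _ (checkFactF_eq cert) 79000 1000 chkF_79000 i (by omega) (by omega)
        · skip
          rcases Nat.lt_or_ge i 84000 with h5 | h5
          · skip
            rcases Nat.lt_or_ge i 82000 with h6 | h6
            · skip
              rcases Nat.lt_or_ge i 81000 with h7 | h7
              · skip
                exact allRangeF_sound _ _ (checkFactF_eq cert) 80000 1000 chkF_80000 i (by omega) (by omega)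
              · skip
                exact allRangeF_sound _ _ (checkFactF_eq cert) 81000 1000 chkF_81000 i (by omega) (by omega)
            · skip
              rcases Nat.lt_or_ge i 83000 with h7 | h7
              · skip
                exact allRangeF_sound _ _ (checkFactF_eq cert) 82000 1000 chkF_82000 i (by omega) (by omega)
              · skip
                exact allRangeF_sound _ _ (checkFactF_eq cert) 83000 1000 chkF_83000 i (by omega) (by omega)
          · skip
            rcases Nat.lt_or_ge i 86000 with h6 | h6
            · skip
              rcases Nat.lt_or_ge i 85000 with h7 | h7
              · skip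
                exact allRangeF_sound _ _ (checkFactF_eq cert) 84000 1000 chkF_84000 i (by omega) (by omega)
              · skip
                exact allRangeF_sound _ _ (checkFactF_eq cert) 85000 1000 chkF_85000 i (by omega) (by omega)
            · skip
              rcases Nat.lt_or_ge i 87000 with h7 | h7
              · skip
                exact allRangeF_sound _ _ (checkFactF_eq cert) 86000 1000 chkF_86000 i (by omega) (by omega)
              · skip
                exact allRangeF_sound _ _ (checkFactF_eq cert) 87000 1000 chkF_87000 i (by omega) (by omega)
    · skip
      rcases Nat.lt_or_ge i 103000 with h3 | h3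
      · skip
        rcases Nat.lt_or_ge i 95000 with h4 | h4
        · skip
          rcases Nat.lt_or_ge i 91000 with h5 | h5
          · skip
            rcases Nat.lt_or_ge i 89000 with h6 | h6
            · skip
              exact allRangeF_sound _ _ (checkFactF_eq cert) 88000 1000 chkF_88000 i (by omega) (by omega)
            · skip
              rcases Nat.lt_or_ge i 90000 with h7 | h7
              · skip
                exact allRangeF_sound _ _ (checkFactF_eq cert) 89000 1000 chkF_89000 i (by omega) (by omega)
              · skip
                exact allRangeF_sound _ _ (checkFactF_eq cert) 90000 1000 chkF_90000 i (by omega) (by omega)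
          · skip
            rcases Nat.lt_or_ge i 93000 with h6 | h6
            · skip
              rcases Nat.lt_or_ge i 92000 with h7 | h7
              · skip
                exact allRangeF_sound _ _ (checkFactF_eq cert) 91000 1000 chkF_91000 i (by omega) (by omega)
              · skip
                exact allRangeF_sound _ _ (checkFactF_eq cert) 92000 1000 chkF_92000 i (by omega) (by omega)
            · skip
              rcases Nat.lt_or_ge i 94000 with h7 | h7
              · skip
                exact allRangeF_sound _ _ (checkFactF_eq cert) 93000 1000 chkF_93000 i (by omega) (by omega)
              · skip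
                exact allRangeF_sound _ _ (checkFactF_eq cert) 94000 1000 chkF_94000 i (by omega) (by omega)
        · skip
          rcases Nat.lt_or_ge i 99000 with h5 | h5
          · skip
            rcases Nat.lt_or_ge i 97000 with h6 | h6
            · skip
              rcases Nat.lt_or_ge i 96000 with h7 | h7
              · skip
                exact allRangeF_sound _ _ (checkFactF_eq cert) 95000 1000 chkF_95000 i (by omega) (by omega)
              · skip
                exact allRangeF_sound _ _ (checkFactF_eq cert) 96000 1000 chkF_96000 i (by omega) (by omega)
            · skip
              rcases Nat.lt_or_ge i 98000 with h7 | h7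
              · skip
                exact allRangeF_sound _ _ (checkFactF_eq cert) 97000 1000 chkF_97000 i (by omega) (by omega)
              · skip
                exact allRangeF_sound _ _ (checkFactF_eq cert) 98000 1000 chkF_98000 i (by omega) (by omega)
          · skip
            rcases Nat.lt_or_ge i 101000 with h6 | h6
            · skip
              rcases Nat.lt_or_ge i 100000 with h7 | h7
              · skip
                exact allRangeF_sound _ _ (checkFactF_eq cert) 99000 1000 chkF_99000 i (by omega) (by omega)
              · skip
                exact allRangeF_sound _ _ (checkFactF_eq cert) 100000 1000 chkF_100000 i (by omega) (by omega)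
            · skip
              rcases Nat.lt_or_ge i 102000 with h7 | h7
              · skip
                exact allRangeF_sound _ _ (checkFactF_eq cert) 101000 1000 chkF_101000 i (by omega) (by omega)
              · skip
                exact allRangeF_sound _ _ (checkFactF_eq cert) 102000 1000 chkF_102000 i (by omega) (by omega)
      · skip
        rcases Nat.lt_or_ge i 110000 with h4 | h4
        · skip
          rcases Nat.lt_or_ge i 106000 with h5 | h5
          · skip
            rcases Nat.lt_or_ge i 104000 with h6 | h6
            · skip
              exact allRangeF_sound _ _ (checkFactF_eq cert) 103000 1000 chkF_103000 i (by omega) (by omega)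
            · skip
              rcases Nat.lt_or_ge i 105000 with h7 | h7
              · skip
                exact allRangeF_sound _ _ (checkFactF_eq cert) 104000 1000 chkF_104000 i (by omega) (by omega)
              · skip
                exact allRangeF_sound _ _ (checkFactF_eq cert) 105000 1000 chkF_105000 i (by omega) (by omega)
          · skip
            rcases Nat.lt_or_ge i 108000 with h6 | h6
            · skip
              rcases Nat.lt_or_ge i 107000 with h7 | h7
              · skip
                exact allRangeF_sound _ _ (checkFactF_eq cert) 106000 1000 chkF_106000 i (by omega) (by omega)
              · skip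
                exact allRangeF_sound _ _ (checkFactF_eq cert) 107000 1000 chkF_107000 i (by omega) (by omega)
            · skip
              rcases Nat.lt_or_ge i 109000 with h7 | h7
              · skip
                exact allRangeF_sound _ _ (checkFactF_eq cert) 108000 1000 chkF_108000 i (by omega) (by omega)
              · skip
                exact allRangeF_sound _ _ (checkFactF_eq cert) 109000 1000 chkF_109000 i (by omega) (by omega)
        · skip
          rcases Nat.lt_or_ge i 114000 with h5 | h5
          · skip
            rcases Nat.lt_or_ge i 112000 with h6 | h6
            · skip
              rcases Nat.lt_or_ge i 111000 with h7 | h7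
              · skip
                exact allRangeF_sound _ _ (checkFactF_eq cert) 110000 1000 chkF_110000 i (by omega) (by omega)
              · skip
                exact allRangeF_sound _ _ (checkFactF_eq cert) 111000 1000 chkF_111000 i (by omega) (by omega)
            · skip
              rcases Nat.lt_or_ge i 113000 with h7 | h7
              · skip
                exact allRangeF_sound _ _ (checkFactF_eq cert) 112000 1000 chkF_112000 i (by omega) (by omega)
              · skip
                exact allRangeF_sound _ _ (checkFactF_eq cert) 113000 1000 chkF_113000 i (by omega) (by omega)
          · skip
            rcases Nat.lt_or_ge i 116000 with h6 | h6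
            · skip
              rcases Nat.lt_or_ge i 115000 with h7 | h7
              · skip
                exact allRangeF_sound _ _ (checkFactF_eq cert) 114000 1000 chkF_114000 i (by omega) (by omega)
              · skip
                exact allRangeF_sound _ _ (checkFactF_eq cert) 115000 1000 chkF_115000 i (by omega) (by omega)
            · skip
              rcases Nat.lt_or_ge i 117000 with h7 | h7
              · skip
                exact allRangeF_sound _ _ (checkFactF_eq cert) 116000 1000 chkF_116000 i (by omega) (by omega)
              · skip
                exact allRangeF_sound _ _ (checkFactF_eq cert) 117000 1000 chkF_117000 i (by omega) (by omega)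

end Cfsg.Agent.Lib.Helper28.He2Data
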