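import Cfsg.Agent.Lib.Helper28.He2Data
import Cfsg.Agent.Lib.Helper28.TCFastF

set_option autoImplicit false
set_option maxRecDepth 1000000
set_option linter.all false
set_option Elab.async false

namespace Cfsg.Agent.Lib.Helper28.He2Data

open Cfsg.Agent.Lib.Helper28

theorem chkF_118000 : allRangeF (checkFactF cert) (nat_lit 118000) (nat_lit 1000) = true := by decide +kernel
theorem chkF_119000 : allRangeF (checkFactF cert) (nat_lit 119000) (nat_lit 1000) = true := by decide +kernel
theorem chkF_120000 : allRangeF (checkFactF cert) (nat_lit 120000) (nat_lit 1000) = true := by decide +kernel
theorem chkF_121000 : allRangeF (checkFactF cert) (nat_lit 121000) (nat_lit 1000) = true := by decide +kernel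
theorem chkF_122000 : allRangeF (checkFactF cert) (nat_lit 122000) (nat_lit 1000) = true := by decide +kernel
theorem chkF_123000 : allRangeF (checkFactF cert) (nat_lit 123000) (nat_lit 1000) = true := by decide +kernel
theorem chkF_124000 : allRangeF (checkFactF cert) (nat_lit 124000) (nat_lit 1000) = true := by decide +kernel
theorem chkF_125000 : allRangeF (checkFactF cert) (nat_lit 125000) (nat_lit 1000) = true := by decide +kernel
theorem chkF_126000 : allRangeF (checkFactF cert) (nat_lit 126000) (nat_lit 1000) = true := by decide +kernel
theorem chkF_127000 : allRangeF (checkFactF cert) (nat_lit 127000) (nat_lit 1000) = true := by decide +kernel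
theorem chkF_128000 : allRangeF (checkFactF cert) (nat_lit 128000) (nat_lit 1000) = true := by decide +kernel
theorem chkF_129000 : allRangeF (checkFactF cert) (nat_lit 129000) (nat_lit 1000) = true := by decide +kernel
theorem chkF_130000 : allRangeF (checkFactF cert) (nat_lit 130000) (nat_lit 1000) = true := by decide +kernel
theorem chkF_131000 : allRangeF (checkFactF cert) (nat_lit 131000) (nat_lit 1000) = true := by decide +kernel
theorem chkF_132000 : allRangeF (checkFactF cert) (nat_lit 132000) (nat_lit 1000) = true := by decide +kernel
theorem chkF_133000 : allRangeF (checkFactF cert) (nat_lit 133000) (nat_lit 1000) = true := by decide +kernel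
theorem chkF_134000 : allRangeF (checkFactF cert) (nat_lit 134000) (nat_lit 1000) = true := by decide +kernel
theorem chkF_135000 : allRangeF (checkFactF cert) (nat_lit 135000) (nat_lit 1000) = true := by decide +kernel
theorem chkF_136000 : allRangeF (checkFactF cert) (nat_lit 136000) (nat_lit 1000) = true := by decide +kernel
theorem chkF_137000 : allRangeF (checkFactF cert) (nat_lit 137000) (nat_lit 1000) = true := by decide +kernel
theorem chkF_138000 : allRangeF (checkFactF cert) (nat_lit 138000) (nat_lit 1000) = true := by decide +kernel
theorem chkF_139000 : allRangeF (checkFactF cert) (nat_lit 139000) (nat_lit 1000) = true := by decide +kernel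
theorem chkF_140000 : allRangeF (checkFactF cert) (nat_lit 140000) (nat_lit 1000) = true := by decide +kernel
theorem chkF_141000 : allRangeF (checkFactF cert) (nat_lit 141000) (nat_lit 1000) = true := by decide +kernel
theorem chkF_142000 : allRangeF (checkFactF cert) (nat_lit 142000) (nat_lit 1000) = true := by decide +kernel
theorem chkF_143000 : allRangeF (checkFactF cert) (nat_lit 143000) (nat_lit 1000) = true := by decide +kernel
theorem chkF_144000 : allRangeF (checkFactF cert) (nat_lit 144000) (nat_lit 1000) = true := by decide +kernel
theorem chkF_145000 : allRangeF (checkFactF cert) (nat_lit 145000) (nat_lit 1000) = true := by decide +kernel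
theorem chkF_146000 : allRangeF (checkFactF cert) (nat_lit 146000) (nat_lit 1000) = true := by decide +kernel
theorem chkF_147000 : allRangeF (checkFactF cert) (nat_lit 147000) (nat_lit 1000) = true := by decide +kernel
theorem chkF_148000 : allRangeF (checkFactF cert) (nat_lit 148000) (nat_lit 1000) = true := by decide +kernel
theorem chkF_149000 : allRangeF (checkFactF cert) (nat_lit 149000) (nat_lit 1000) = true := by decide +kernel
theorem chkF_150000 : allRangeF (checkFactF cert) (nat_lit 150000) (nat_lit 1000) = true := by decide +kernel
theorem chkF_151000 : allRangeF (checkFactF cert) (nat_lit 151000) (nat_lit 1000) = true := by decide +kernel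
theorem chkF_152000 : allRangeF (checkFactF cert) (nat_lit 152000) (nat_lit 1000) = true := by decide +kernel
theorem chkF_153000 : allRangeF (checkFactF cert) (nat_lit 153000) (nat_lit 1000) = true := by decide +kernel
theorem chkF_154000 : allRangeF (checkFactF cert) (nat_lit 154000) (nat_lit 1000) = true := by decide +kernel
theorem chkF_155000 : allRangeF (checkFactF cert) (nat_lit 155000) (nat_lit 1000) = true := by decide +kernel
theorem chkF_156000 : allRangeF (checkFactF cert) (nat_lit 156000) (nat_lit 1000) = true := by decide +kernel
theorem chkF_157000 : allRangeF (checkFactF cert) (nat_lit 157000) (nat_lit 1000) = true := by decide +kernel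
theorem chkF_158000 : allRangeF (checkFactF cert) (nat_lit 158000) (nat_lit 1000) = true := by decide +kernel
theorem chkF_159000 : allRangeF (checkFactF cert) (nat_lit 159000) (nat_lit 1000) = true := by decide +kernel
theorem chkF_160000 : allRangeF (checkFactF cert) (nat_lit 160000) (nat_lit 1000) = true := by decide +kernel
theorem chkF_161000 : allRangeF (checkFactF cert) (nat_lit 161000) (nat_lit 1000) = true := by decide +kernel
theorem chkF_162000 : allRangeF (checkFactF cert) (nat_lit 162000) (nat_lit 1000) = true := by decide +kernel
theorem chkF_163000 : allRangeF (checkFactF cert) (nat_lit 163000) (nat_lit 1000) = true := by decide +kernel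
theorem chkF_164000 : allRangeF (checkFactF cert) (nat_lit 164000) (nat_lit 1000) = true := by decide +kernel
theorem chkF_165000 : allRangeF (checkFactF cert) (nat_lit 165000) (nat_lit 1000) = true := by decide +kernel
theorem chkF_166000 : allRangeF (checkFactF cert) (nat_lit 166000) (nat_lit 1000) = true := by decide +kernel
theorem chkF_167000 : allRangeF (checkFactF cert) (nat_lit 167000) (nat_lit 1000) = true := by decide +kernel
theorem chkF_168000 : allRangeF (checkFactF cert) (nat_lit 168000) (nat_lit 1000) = true := by decide +kernel
theorem chkF_169000 : allRangeF (checkFactF cert) (nat_lit 169000) (nat_lit 1000) = true := by decide +kernel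
theorem chkF_170000 : allRangeF (checkFactF cert) (nat_lit 170000) (nat_lit 1000) = true := by decide +kernel
theorem chkF_171000 : allRangeF (checkFactF cert) (nat_lit 171000) (nat_lit 1000) = true := by decide +kernel
theorem chkF_172000 : allRangeF (checkFactF cert) (nat_lit 172000) (nat_lit 1000) = true := by decide +kernel
theorem chkF_173000 : allRangeF (checkFactF cert) (nat_lit 173000) (nat_lit 1000) = true := by decide +kernel
theorem chkF_174000 : allRangeF (checkFactF cert) (nat_lit 174000) (nat_lit 1000) = true := by decide +kernel
theorem chkF_175000 : allRangeF (checkFactF cert) (nat_lit 175000) (nat_lit 1000) = true := by decide +kernel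
theorem chkF_176000 : allRangeF (checkFactF cert) (nat_lit 176000) (nat_lit 1000) = true := by decide +kernel
theorem chkF_177000 : allRangeF (checkFactF cert) (nat_lit 177000) (nat_lit 1000) = true := by decide +kernel
theorem chkF_178000 : allRangeF (checkFactF cert) (nat_lit 178000) (nat_lit 1000) = true := by decide +kernel
theorem chkF_179000 : allRangeF (checkFactF cert) (nat_lit 179000) (nat_lit 1000) = true := by decide +kernel
theorem chkF_180000 : allRangeF (checkFactF cert) (nat_lit 180000) (nat_lit 1000) = true := by decide +kernel
theorem chkF_181000 : allRangeF (checkFactF cert) (nat_lit 181000) (nat_lit 1000) = true := by decide +kernel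
theorem chkF_182000 : allRangeF (checkFactF cert) (nat_lit 182000) (nat_lit 1000) = true := by decide +kernel
theorem chkF_183000 : allRangeF (checkFactF cert) (nat_lit 183000) (nat_lit 1000) = true := by decide +kernel
theorem chkF_184000 : allRangeF (checkFactF cert) (nat_lit 184000) (nat_lit 1000) = true := by decide +kernel
theorem chkF_185000 : allRangeF (checkFactF cert) (nat_lit 185000) (nat_lit 1000) = true := by decide +kernel
theorem chkF_186000 : allRangeF (checkFactF cert) (nat_lit 186000) (nat_lit 1000) = true := by decide +kernel
theorem chkF_187000 : allRangeF (checkFactF cert) (nat_lit 187000) (nat_lit 1000) = true := by decide +kernel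
theorem chkF_188000 : allRangeF (checkFactF cert) (nat_lit 188000) (nat_lit 1000) = true := by decide +kernel
theorem chkF_189000 : allRangeF (checkFactF cert) (nat_lit 189000) (nat_lit 1000) = true := by decide +kernel
theorem chkF_190000 : allRangeF (checkFactF cert) (nat_lit 190000) (nat_lit 1000) = true := by decide +kernel
theorem chkF_191000 : allRangeF (checkFactF cert) (nat_lit 191000) (nat_lit 1000) = true := by decide +kernel
theorem chkF_192000 : allRangeF (checkFactF cert) (nat_lit 192000) (nat_lit 1000) = true := by decide +kernel
theorem chkF_193000 : allRangeF (checkFactF cert) (nat_lit 193000) (nat_lit 1000) = true := by decide +kernel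
theorem chkF_194000 : allRangeF (checkFactF cert) (nat_lit 194000) (nat_lit 1000) = true := by decide +kernel
theorem chkF_195000 : allRangeF (checkFactF cert) (nat_lit 195000) (nat_lit 1000) = true := by decide +kernel
theorem chkF_196000 : allRangeF (checkFactF cert) (nat_lit 196000) (nat_lit 1000) = true := by decide +kernel
theorem chkF_197000 : allRangeF (checkFactF cert) (nat_lit 197000) (nat_lit 1000) = true := by decide +kernel
theorem chkF_198000 : allRangeF (checkFactF cert) (nat_lit 198000) (nat_lit 1000) = true := by decide +kernel
theorem chkF_199000 : allRangeF (checkFactF cert) (nat_lit 199000) (nat_lit 1000) = true := by decide +kernel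
theorem chkF_200000 : allRangeF (checkFactF cert) (nat_lit 200000) (nat_lit 1000) = true := by decide +kernel
theorem chkF_201000 : allRangeF (checkFactF cert) (nat_lit 201000) (nat_lit 1000) = true := by decide +kernel
theorem chkF_202000 : allRangeF (checkFactF cert) (nat_lit 202000) (nat_lit 1000) = true := by decide +kernel
theorem chkF_203000 : allRangeF (checkFactF cert) (nat_lit 203000) (nat_lit 1000) = true := by decide +kernel
theorem chkF_204000 : allRangeF (checkFactF cert) (nat_lit 204000) (nat_lit 1000) = true := by decide +kernel
theorem chkF_205000 : allRangeF (checkFactF cert) (nat_lit 205000) (nat_lit 1000) = true := by decide +kernel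
theorem chkF_206000 : allRangeF (checkFactF cert) (nat_lit 206000) (nat_lit 1000) = true := by decide +kernel
theorem chkF_207000 : allRangeF (checkFactF cert) (nat_lit 207000) (nat_lit 1000) = true := by decide +kernel
theorem chkF_208000 : allRangeF (checkFactF cert) (nat_lit 208000) (nat_lit 1000) = true := by decide +kernel
theorem chkF_209000 : allRangeF (checkFactF cert) (nat_lit 209000) (nat_lit 1000) = true := by decide +kernel
theorem chkF_210000 : allRangeF (checkFactF cert) (nat_lit 210000) (nat_lit 1000) = true := by decide +kernel
theorem chkF_211000 : allRangeF (checkFactF cert) (nat_lit 211000) (nat_lit 1000) = true := by decide +kernel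
theorem chkF_212000 : allRangeF (checkFactF cert) (nat_lit 212000) (nat_lit 1000) = true := by decide +kernel
theorem chkF_213000 : allRangeF (checkFactF cert) (nat_lit 213000) (nat_lit 1000) = true := by decide +kernel
theorem chkF_214000 : allRangeF (checkFactF cert) (nat_lit 214000) (nat_lit 1000) = true := by decide +kernel
theorem chkF_215000 : allRangeF (checkFactF cert) (nat_lit 215000) (nat_lit 1000) = true := by decide +kernel
theorem chkF_216000 : allRangeF (checkFactF cert) (nat_lit 216000) (nat_lit 1000) = true := by decide +kernel
theorem chkF_217000 : allRangeF (checkFactF cert) (nat_lit 217000) (nat_lit 1000) = true := by decide +kernel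
theorem chkF_218000 : allRangeF (checkFactF cert) (nat_lit 218000) (nat_lit 1000) = true := by decide +kernel
theorem chkF_219000 : allRangeF (checkFactF cert) (nat_lit 219000) (nat_lit 1000) = true := by decide +kernel
theorem chkF_220000 : allRangeF (checkFactF cert) (nat_lit 220000) (nat_lit 1000) = true := by decide +kernel
theorem chkF_221000 : allRangeF (checkFactF cert) (nat_lit 221000) (nat_lit 1000) = true := by decide +kernel
theorem chkF_222000 : allRangeF (checkFactF cert) (nat_lit 222000) (nat_lit 1000) = true := by decide +kernel
theorem chkF_223000 : allRangeF (checkFactF cert) (nat_lit 223000) (nat_lit 1000) = true := by decide +kernel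
theorem chkF_224000 : allRangeF (checkFactF cert) (nat_lit 224000) (nat_lit 1000) = true := by decide +kernel
theorem chkF_225000 : allRangeF (checkFactF cert) (nat_lit 225000) (nat_lit 1000) = true := by decide +kernel
theorem chkF_226000 : allRangeF (checkFactF cert) (nat_lit 226000) (nat_lit 1000) = true := by decide +kernel
theorem chkF_227000 : allRangeF (checkFactF cert) (nat_lit 227000) (nat_lit 1000) = true := by decide +kernel
theorem chkF_228000 : allRangeF (checkFactF cert) (nat_lit 228000) (nat_lit 1000) = true := by decide +kernel
theorem chkF_229000 : allRangeF (checkFactF cert) (nat_lit 229000) (nat_lit 1000) = true := by decide +kernel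
theorem chkF_230000 : allRangeF (checkFactF cert) (nat_lit 230000) (nat_lit 1000) = true := by decide +kernel
theorem chkF_231000 : allRangeF (checkFactF cert) (nat_lit 231000) (nat_lit 1000) = true := by decide +kernel
theorem chkF_232000 : allRangeF (checkFactF cert) (nat_lit 232000) (nat_lit 1000) = true := by decide +kernel
theorem chkF_233000 : allRangeF (checkFactF cert) (nat_lit 233000) (nat_lit 1000) = true := by decide +kernel
theorem chkF_234000 : allRangeF (checkFactF cert) (nat_lit 234000) (nat_lit 1000) = true := by decide +kernel
theorem chkF_235000 : allRangeF (checkFactF cert) (nat_lit 235000) (nat_lit 1000) = true := by decide +kernel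

theorem factsRange_1 : ∀ i, 118000 ≤ i → i < 236000 → checkFact cert i = true := by
  intro i hlo hhi
  rcases Nat.lt_or_ge i 177000 with h1 | h1
  · skip
    rcases Nat.lt_or_ge i 147000 with h2 | h2
    · skip
      rcases Nat.lt_or_ge i 132000 with h3 | h3
      · skip
        rcases Nat.lt_or_ge i 125000 with h4 | h4
        · skip
          rcases Nat.lt_or_ge i 121000 with h5 | h5
          · skip
            rcases Nat.lt_or_ge i 119000 with h6 | h6
            · skip
              exact allRangeF_sound _ _ (checkFactF_eq cert) 118000 1000 chkF_118000 i (by omega) (by omega)
            · skip
              rcases Nat.lt_or_ge i 120000 with h7 | h7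
              · skip
                exact allRangeF_sound _ _ (checkFactF_eq cert) 119000 1000 chkF_119000 i (by omega) (by omega)
              · skip
                exact allRangeF_sound _ _ (checkFactF_eq cert) 120000 1000 chkF_120000 i (by omega) (by omega)
          · skip
            rcases Nat.lt_or_ge i 123000 with h6 | h6
            · skip
              rcases Nat.lt_or_ge i 122000 with h7 | h7
              · skip
                exact allRangeF_sound _ _ (checkFactF_eq cert) 121000 1000 chkF_121000 i (by omega) (by omega)
              · skip
                exact allRangeF_sound _ _ (checkFactF_eq cert) 122000 1000 chkF_122000 i (by omega) (by omega)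
            · skip
              rcases Nat.lt_or_ge i 124000 with h7 | h7
              · skip
                exact allRangeF_sound _ _ (checkFactF_eq cert) 123000 1000 chkF_123000 i (by omega) (by omega)
              · skip
                exact allRangeF_sound _ _ (checkFactF_eq cert) 124000 1000 chkF_124000 i (by omega) (by omega)
        · skip
          rcases Nat.lt_or_ge i 128000 with h5 | h5
          · skip
            rcases Nat.lt_or_ge i 126000 with h6 | h6
            · skip
              exact allRangeF_sound _ _ (checkFactF_eq cert) 125000 1000 chkF_125000 i (by omega) (by omega)
            · skip
              rcases Nat.lt_or_ge i 127000 with h7 | h7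
              · skip
                exact allRangeF_sound _ _ (checkFactF_eq cert) 126000 1000 chkF_126000 i (by omega) (by omega)
              · skip
                exact allRangeF_sound _ _ (checkFactF_eq cert) 127000 1000 chkF_127000 i (by omega) (by omega)
          · skip
            rcases Nat.lt_or_ge i 130000 with h6 | h6
            · skip
              rcases Nat.lt_or_ge i 129000 with h7 | h7
              · skip
                exact allRangeF_sound _ _ (checkFactF_eq cert) 128000 1000 chkF_128000 i (by omega) (by omega)
              · skip
                exact allRangeF_sound _ _ (checkFactF_eq cert) 129000 1000 chkF_129000 i (by omega) (by omega)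
            · skip
              rcases Nat.lt_or_ge i 131000 with h7 | h7
              · skip
                exact allRangeF_sound _ _ (checkFactF_eq cert) 130000 1000 chkF_130000 i (by omega) (by omega)
              · skip
                exact allRangeF_sound _ _ (checkFactF_eq cert) 131000 1000 chkF_131000 i (by omega) (by omega)
      · skip
        rcases Nat.lt_or_ge i 139000 with h4 | h4
        · skip
          rcases Nat.lt_or_ge i 135000 with h5 | h5
          · skip
            rcases Nat.lt_or_ge i 133000 with h6 | h6
            · skip
              exact allRangeF_sound _ _ (checkFactF_eq cert) 132000 1000 chkF_132000 i (by omega) (by omega)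
            · skip
              rcases Nat.lt_or_ge i 134000 with h7 | h7
              · skip
                exact allRangeF_sound _ _ (checkFactF_eq cert) 133000 1000 chkF_133000 i (by omega) (by omega)
              · skip
                exact allRangeF_sound _ _ (checkFactF_eq cert) 134000 1000 chkF_134000 i (by omega) (by omega)
          · skip
            rcases Nat.lt_or_ge i 137000 with h6 | h6
            · skip
              rcases Nat.lt_or_ge i 136000 with h7 | h7
              · skip
                exact allRangeF_sound _ _ (checkFactF_eq cert) 135000 1000 chkF_135000 i (by omega) (by omega)
              · skip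
                exact allRangeF_sound _ _ (checkFactF_eq cert) 136000 1000 chkF_136000 i (by omega) (by omega)
            · skip
              rcases Nat.lt_or_ge i 138000 with h7 | h7
              · skip
                exact allRangeF_sound _ _ (checkFactF_eq cert) 137000 1000 chkF_137000 i (by omega) (by omega)
              · skip
                exact allRangeF_sound _ _ (checkFactF_eq cert) 138000 1000 chkF_138000 i (by omega) (by omega)
        · skip
          rcases Nat.lt_or_ge i 143000 with h5 | h5
          · skip
            rcases Nat.lt_or_ge i 141000 with h6 | h6
            · skip
              rcases Nat.lt_or_ge i 140000 with h7 | h7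
              · skip
                exact allRangeF_sound _ _ (checkFactF_eq cert) 139000 1000 chkF_139000 i (by omega) (by omega)
              · skip
                exact allRangeF_sound _ _ (checkFactF_eq cert) 140000 1000 chkF_140000 i (by omega) (by omega)
            · skip
              rcases Nat.lt_or_ge i 142000 with h7 | h7
              · skip
                exact allRangeF_sound _ _ (checkFactF_eq cert) 141000 1000 chkF_141000 i (by omega) (by omega)
              · skip
                exact allRangeF_sound _ _ (checkFactF_eq cert) 142000 1000 chkF_142000 i (by omega) (by omega)
          · skip
            rcases Nat.lt_or_ge i 145000 with h6 | h6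
            · skip
              rcases Nat.lt_or_ge i 144000 with h7 | h7
              · skip
                exact allRangeF_sound _ _ (checkFactF_eq cert) 143000 1000 chkF_143000 i (by omega) (by omega)
              · skip
                exact allRangeF_sound _ _ (checkFactF_eq cert) 144000 1000 chkF_144000 i (by omega) (by omega)
            · skip
              rcases Nat.lt_or_ge i 146000 with h7 | h7
              · skip
                exact allRangeF_sound _ _ (checkFactF_eq cert) 145000 1000 chkF_145000 i (by omega) (by omega)
              · skip
                exact allRangeF_sound _ _ (checkFactF_eq cert) 146000 1000 chkF_146000 i (by omega) (by omega)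
    · skip
      rcases Nat.lt_or_ge i 162000 with h3 | h3
      · skip
        rcases Nat.lt_or_ge i 154000 with h4 | h4
        · skip
          rcases Nat.lt_or_ge i 150000 with h5 | h5
          · skip
            rcases Nat.lt_or_ge i 148000 with h6 | h6
            · skip
              exact allRangeF_sound _ _ (checkFactF_eq cert) 147000 1000 chkF_147000 i (by omega) (by omega)
            · skip
              rcases Nat.lt_or_ge i 149000 with h7 | h7
              · skip
                exact allRangeF_sound _ _ (checkFactF_eq cert) 148000 1000 chkF_148000 i (by omega) (by omega)
              · skip
                exact allRangeF_sound _ _ (checkFactF_eq cert) 149000 1000 chkF_149000 i (by omega) (by omega)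
          · skip
            rcases Nat.lt_or_ge i 152000 with h6 | h6
            · skip
              rcases Nat.lt_or_ge i 151000 with h7 | h7
              · skip
                exact allRangeF_sound _ _ (checkFactF_eq cert) 150000 1000 chkF_150000 i (by omega) (by omega)
              · skip
                exact allRangeF_sound _ _ (checkFactF_eq cert) 151000 1000 chkF_151000 i (by omega) (by omega)
            · skip
              rcases Nat.lt_or_ge i 153000 with h7 | h7
              · skip
                exact allRangeF_sound _ _ (checkFactF_eq cert) 152000 1000 chkF_152000 i (by omega) (by omega)
              · skip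
                exact allRangeF_sound _ _ (checkFactF_eq cert) 153000 1000 chkF_153000 i (by omega) (by omega)
        · skip
          rcases Nat.lt_or_ge i 158000 with h5 | h5
          · skip
            rcases Nat.lt_or_ge i 156000 with h6 | h6
            · skip
              rcases Nat.lt_or_ge i 155000 with h7 | h7
              · skip
                exact allRangeF_sound _ _ (checkFactF_eq cert) 154000 1000 chkF_154000 i (by omega) (by omega)
              · skip
                exact allRangeF_sound _ _ (checkFactF_eq cert) 155000 1000 chkF_155000 i (by omega) (by omega)
            · skip
              rcases Nat.lt_or_ge i 157000 with h7 | h7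
              · skip
                exact allRangeF_sound _ _ (checkFactF_eq cert) 156000 1000 chkF_156000 i (by omega) (by omega)
              · skip
                exact allRangeF_sound _ _ (checkFactF_eq cert) 157000 1000 chkF_157000 i (by omega) (by omega)
          · skip
            rcases Nat.lt_or_ge i 160000 with h6 | h6
            · skip
              rcases Nat.lt_or_ge i 159000 with h7 | h7
              · skip
                exact allRangeF_sound _ _ (checkFactF_eq cert) 158000 1000 chkF_158000 i (by omega) (by omega)
              · skip
                exact allRangeF_sound _ _ (checkFactF_eq cert) 159000 1000 chkF_159000 i (by omega) (by omega)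
            · skip
              rcases Nat.lt_or_ge i 161000 with h7 | h7
              · skip
                exact allRangeF_sound _ _ (checkFactF_eq cert) 160000 1000 chkF_160000 i (by omega) (by omega)
              · skip
                exact allRangeF_sound _ _ (checkFactF_eq cert) 161000 1000 chkF_161000 i (by omega) (by omega)
      · skip
        rcases Nat.lt_or_ge i 169000 with h4 | h4
        · skip
          rcases Nat.lt_or_ge i 165000 with h5 | h5
          · skip
            rcases Nat.lt_or_ge i 163000 with h6 | h6
            · skip
              exact allRangeF_sound _ _ (checkFactF_eq cert) 162000 1000 chkF_162000 i (by omega) (by omega)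
            · skip
              rcases Nat.lt_or_ge i 164000 with h7 | h7
              · skip
                exact allRangeF_sound _ _ (checkFactF_eq cert) 163000 1000 chkF_163000 i (by omega) (by omega)
              · skip
                exact allRangeF_sound _ _ (checkFactF_eq cert) 164000 1000 chkF_164000 i (by omega) (by omega)
          · skip
            rcases Nat.lt_or_ge i 167000 with h6 | h6
            · skip
              rcases Nat.lt_or_ge i 166000 with h7 | h7
              · skip
                exact allRangeF_sound _ _ (checkFactF_eq cert) 165000 1000 chkF_165000 i (by omega) (by omega)
              · skip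
                exact allRangeF_sound _ _ (checkFactF_eq cert) 166000 1000 chkF_166000 i (by omega) (by omega)
            · skip
              rcases Nat.lt_or_ge i 168000 with h7 | h7
              · skip
                exact allRangeF_sound _ _ (checkFactF_eq cert) 167000 1000 chkF_167000 i (by omega) (by omega)
              · skip
                exact allRangeF_sound _ _ (checkFactF_eq cert) 168000 1000 chkF_168000 i (by omega) (by omega)
        · skip
          rcases Nat.lt_or_ge i 173000 with h5 | h5
          · skip
            rcases Nat.lt_or_ge i 171000 with h6 | h6
            · skip
              rcases Nat.lt_or_ge i 170000 with h7 | h7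
              · skip
                exact allRangeF_sound _ _ (checkFactF_eq cert) 169000 1000 chkF_169000 i (by omega) (by omega)
              · skip
                exact allRangeF_sound _ _ (checkFactF_eq cert) 170000 1000 chkF_170000 i (by omega) (by omega)
            · skip
              rcases Nat.lt_or_ge i 172000 with h7 | h7
              · skip
                exact allRangeF_sound _ _ (checkFactF_eq cert) 171000 1000 chkF_171000 i (by omega) (by omega)
              · skip
                exact allRangeF_sound _ _ (checkFactF_eq cert) 172000 1000 chkF_172000 i (by omega) (by omega)
          · skip
            rcases Nat.lt_or_ge i 175000 with h6 | h6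
            · skip
              rcases Nat.lt_or_ge i 174000 with h7 | h7
              · skip
                exact allRangeF_sound _ _ (checkFactF_eq cert) 173000 1000 chkF_173000 i (by omega) (by omega)
              · skip
                exact allRangeF_sound _ _ (checkFactF_eq cert) 174000 1000 chkF_174000 i (by omega) (by omega)
            · skip
              rcases Nat.lt_or_ge i 176000 with h7 | h7
              · skip
                exact allRangeF_sound _ _ (checkFactF_eq cert) 175000 1000 chkF_175000 i (by omega) (by omega)
              · skip
                exact allRangeF_sound _ _ (checkFactF_eq cert) 176000 1000 chkF_176000 i (by omega) (by omega)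
  · skip
    rcases Nat.lt_or_ge i 206000 with h2 | h2
    · skip
      rcases Nat.lt_or_ge i 191000 with h3 | h3
      · skip
        rcases Nat.lt_or_ge i 184000 with h4 | h4
        · skip
          rcases Nat.lt_or_ge i 180000 with h5 | h5
          · skip
            rcases Nat.lt_or_ge i 178000 with h6 | h6
            · skip
              exact allRangeF_sound _ _ (checkFactF_eq cert) 177000 1000 chkF_177000 i (by omega) (by omega)
            · skip
              rcases Nat.lt_or_ge i 179000 with h7 | h7
              · skip
                exact allRangeF_sound _ _ (checkFactF_eq cert) 178000 1000 chkF_178000 i (by omega) (by omega)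
              · skip
                exact allRangeF_sound _ _ (checkFactF_eq cert) 179000 1000 chkF_179000 i (by omega) (by omega)
          · skip
            rcases Nat.lt_or_ge i 182000 with h6 | h6
            · skip
              rcases Nat.lt_or_ge i 181000 with h7 | h7
              · skip
                exact allRangeF_sound _ _ (checkFactF_eq cert) 180000 1000 chkF_180000 i (by omega) (by omega)
              · skip
                exact allRangeF_sound _ _ (checkFactF_eq cert) 181000 1000 chkF_181000 i (by omega) (by omega)
            · skip
              rcases Nat.lt_or_ge i 183000 with h7 | h7
              · skip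
                exact allRangeF_sound _ _ (checkFactF_eq cert) 182000 1000 chkF_182000 i (by omega) (by omega)
              · skip
                exact allRangeF_sound _ _ (checkFactF_eq cert) 183000 1000 chkF_183000 i (by omega) (by omega)
        · skip
          rcases Nat.lt_or_ge i 187000 with h5 | h5
          · skip
            rcases Nat.lt_or_ge i 185000 with h6 | h6
            · skip
              exact allRangeF_sound _ _ (checkFactF_eq cert) 184000 1000 chkF_184000 i (by omega) (by omega)
            · skip
              rcases Nat.lt_or_ge i 186000 with h7 | h7
              · skip
                exact allRangeF_sound _ _ (checkFactF_eq cert) 185000 1000 chkF_185000 i (by omega) (by omega)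
              · skip
                exact allRangeF_sound _ _ (checkFactF_eq cert) 186000 1000 chkF_186000 i (by omega) (by omega)
          · skip
            rcases Nat.lt_or_ge i 189000 with h6 | h6
            · skip
              rcases Nat.lt_or_ge i 188000 with h7 | h7
              · skip
                exact allRangeF_sound _ _ (checkFactF_eq cert) 187000 1000 chkF_187000 i (by omega) (by omega)
              · skip
                exact allRangeF_sound _ _ (checkFactF_eq cert) 188000 1000 chkF_188000 i (by omega) (by omega)
            · skip
              rcases Nat.lt_or_ge i 190000 with h7 | h7
              · skip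
                exact allRangeF_sound _ _ (checkFactF_eq cert) 189000 1000 chkF_189000 i (by omega) (by omega)
              · skip
                exact allRangeF_sound _ _ (checkFactF_eq cert) 190000 1000 chkF_190000 i (by omega) (by omega)
      · skip
        rcases Nat.lt_or_ge i 198000 with h4 | h4
        · skip
          rcases Nat.lt_or_ge i 194000 with h5 | h5
          · skip
            rcases Nat.lt_or_ge i 192000 with h6 | h6
            · skip
              exact allRangeF_sound _ _ (checkFactF_eq cert) 191000 1000 chkF_191000 i (by omega) (by omega)
            · skip
              rcases Nat.lt_or_ge i 193000 with h7 | h7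
              · skip
                exact allRangeF_sound _ _ (checkFactF_eq cert) 192000 1000 chkF_192000 i (by omega) (by omega)
              · skip
                exact allRangeF_sound _ _ (checkFactF_eq cert) 193000 1000 chkF_193000 i (by omega) (by omega)
          · skip
            rcases Nat.lt_or_ge i 196000 with h6 | h6
            · skip
              rcases Nat.lt_or_ge i 195000 with h7 | h7
              · skip
                exact allRangeF_sound _ _ (checkFactF_eq cert) 194000 1000 chkF_194000 i (by omega) (by omega)
              · skip
                exact allRangeF_sound _ _ (checkFactF_eq cert) 195000 1000 chkF_195000 i (by omega) (by omega)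
            · skip
              rcases Nat.lt_or_ge i 197000 with h7 | h7
              · skip
                exact allRangeF_sound _ _ (checkFactF_eq cert) 196000 1000 chkF_196000 i (by omega) (by omega)
              · skip
                exact allRangeF_sound _ _ (checkFactF_eq cert) 197000 1000 chkF_197000 i (by omega) (by omega)
        · skip
          rcases Nat.lt_or_ge i 202000 with h5 | h5
          · skip
            rcases Nat.lt_or_ge i 200000 with h6 | h6
            · skip
              rcases Nat.lt_or_ge i 199000 with h7 | h7
              · skip
                exact allRangeF_sound _ _ (checkFactF_eq cert) 198000 1000 chkF_198000 i (by omega) (by omega)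
              · skip
                exact allRangeF_sound _ _ (checkFactF_eq cert) 199000 1000 chkF_199000 i (by omega) (by omega)
            · skip
              rcases Nat.lt_or_ge i 201000 with h7 | h7
              · skip
                exact allRangeF_sound _ _ (checkFactF_eq cert) 200000 1000 chkF_200000 i (by omega) (by omega)
              · skip
                exact allRangeF_sound _ _ (checkFactF_eq cert) 201000 1000 chkF_201000 i (by omega) (by omega)
          · skip
            rcases Nat.lt_or_ge i 204000 with h6 | h6
            · skip
              rcases Nat.lt_or_ge i 203000 with h7 | h7
              · skip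
                exact allRangeF_sound _ _ (checkFactF_eq cert) 202000 1000 chkF_202000 i (by omega) (by omega)
              · skip
                exact allRangeF_sound _ _ (checkFactF_eq cert) 203000 1000 chkF_203000 i (by omega) (by omega)
            · skip
              rcases Nat.lt_or_ge i 205000 with h7 | h7
              · skip
                exact allRangeF_sound _ _ (checkFactF_eq cert) 204000 1000 chkF_204000 i (by omega) (by omega)
              · skip
                exact allRangeF_sound _ _ (checkFactF_eq cert) 205000 1000 chkF_205000 i (by omega) (by omega)
    · skip
      rcases Nat.lt_or_ge i 221000 with h3 | h3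
      · skip
        rcases Nat.lt_or_ge i 213000 with h4 | h4
        · skip
          rcases Nat.lt_or_ge i 209000 with h5 | h5
          · skip
            rcases Nat.lt_or_ge i 207000 with h6 | h6
            · skip
              exact allRangeF_sound _ _ (checkFactF_eq cert) 206000 1000 chkF_206000 i (by omega) (by omega)
            · skip
              rcases Nat.lt_or_ge i 208000 with h7 | h7
              · skip
                exact allRangeF_sound _ _ (checkFactF_eq cert) 207000 1000 chkF_207000 i (by omega) (by omega)
              · skip
                exact allRangeF_sound _ _ (checkFactF_eq cert) 208000 1000 chkF_208000 i (by omega) (by omega)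
          · skip
            rcases Nat.lt_or_ge i 211000 with h6 | h6
            · skip
              rcases Nat.lt_or_ge i 210000 with h7 | h7
              · skip
                exact allRangeF_sound _ _ (checkFactF_eq cert) 209000 1000 chkF_209000 i (by omega) (by omega)
              · skip
                exact allRangeF_sound _ _ (checkFactF_eq cert) 210000 1000 chkF_210000 i (by omega) (by omega)
            · skip
              rcases Nat.lt_or_ge i 212000 with h7 | h7
              · skip
                exact allRangeF_sound _ _ (checkFactF_eq cert) 211000 1000 chkF_211000 i (by omega) (by omega)
              · skip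
                exact allRangeF_sound _ _ (checkFactF_eq cert) 212000 1000 chkF_212000 i (by omega) (by omega)
        · skip
          rcases Nat.lt_or_ge i 217000 with h5 | h5
          · skip
            rcases Nat.lt_or_ge i 215000 with h6 | h6
            · skip
              rcases Nat.lt_or_ge i 214000 with h7 | h7
              · skip
                exact allRangeF_sound _ _ (checkFactF_eq cert) 213000 1000 chkF_213000 i (by omega) (by omega)
              · skip
                exact allRangeF_sound _ _ (checkFactF_eq cert) 214000 1000 chkF_214000 i (by omega) (by omega)
            · skip
              rcases Nat.lt_or_ge i 216000 with h7 | h7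
              · skip
                exact allRangeF_sound _ _ (checkFactF_eq cert) 215000 1000 chkF_215000 i (by omega) (by omega)
              · skip
                exact allRangeF_sound _ _ (checkFactF_eq cert) 216000 1000 chkF_216000 i (by omega) (by omega)
          · skip
            rcases Nat.lt_or_ge i 219000 with h6 | h6
            · skip
              rcases Nat.lt_or_ge i 218000 with h7 | h7
              · skip
                exact allRangeF_sound _ _ (checkFactF_eq cert) 217000 1000 chkF_217000 i (by omega) (by omega)
              · skip
                exact allRangeF_sound _ _ (checkFactF_eq cert) 218000 1000 chkF_218000 i (by omega) (by omega)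
            · skip
              rcases Nat.lt_or_ge i 220000 with h7 | h7
              · skip
                exact allRangeF_sound _ _ (checkFactF_eq cert) 219000 1000 chkF_219000 i (by omega) (by omega)
              · skip
                exact allRangeF_sound _ _ (checkFactF_eq cert) 220000 1000 chkF_220000 i (by omega) (by omega)
      · skip
        rcases Nat.lt_or_ge i 228000 with h4 | h4
        · skip
          rcases Nat.lt_or_ge i 224000 with h5 | h5
          · skip
            rcases Nat.lt_or_ge i 222000 with h6 | h6
            · skip
              exact allRangeF_sound _ _ (checkFactF_eq cert) 221000 1000 chkF_221000 i (by omega) (by omega)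
            · skip
              rcases Nat.lt_or_ge i 223000 with h7 | h7
              · skip
                exact allRangeF_sound _ _ (checkFactF_eq cert) 222000 1000 chkF_222000 i (by omega) (by omega)
              · skip
                exact allRangeF_sound _ _ (checkFactF_eq cert) 223000 1000 chkF_223000 i (by omega) (by omega)
          · skip
            rcases Nat.lt_or_ge i 226000 with h6 | h6
            · skip
              rcases Nat.lt_or_ge i 225000 with h7 | h7
              · skip
                exact allRangeF_sound _ _ (checkFactF_eq cert) 224000 1000 chkF_224000 i (by omega) (by omega)
              · skip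
                exact allRangeF_sound _ _ (checkFactF_eq cert) 225000 1000 chkF_225000 i (by omega) (by omega)
            · skip
              rcases Nat.lt_or_ge i 227000 with h7 | h7
              · skip
                exact allRangeF_sound _ _ (checkFactF_eq cert) 226000 1000 chkF_226000 i (by omega) (by omega)
              · skip
                exact allRangeF_sound _ _ (checkFactF_eq cert) 227000 1000 chkF_227000 i (by omega) (by omega)
        · skip
          rcases Nat.lt_or_ge i 232000 with h5 | h5
          · skip
            rcases Nat.lt_or_ge i 230000 with h6 | h6
            · skip
              rcases Nat.lt_or_ge i 229000 with h7 | h7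
              · skip
                exact allRangeF_sound _ _ (checkFactF_eq cert) 228000 1000 chkF_228000 i (by omega) (by omega)
              · skip
                exact allRangeF_sound _ _ (checkFactF_eq cert) 229000 1000 chkF_229000 i (by omega) (by omega)
            · skip
              rcases Nat.lt_or_ge i 231000 with h7 | h7
              · skip
                exact allRangeF_sound _ _ (checkFactF_eq cert) 230000 1000 chkF_230000 i (by omega) (by omega)
              · skip
                exact allRangeF_sound _ _ (checkFactF_eq cert) 231000 1000 chkF_231000 i (by omega) (by omega)
          · skip
            rcases Nat.lt_or_ge i 234000 with h6 | h6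
            · skip
              rcases Nat.lt_or_ge i 233000 with h7 | h7
              · skip
                exact allRangeF_sound _ _ (checkFactF_eq cert) 232000 1000 chkF_232000 i (by omega) (by omega)
              · skip
                exact allRangeF_sound _ _ (checkFactF_eq cert) 233000 1000 chkF_233000 i (by omega) (by omega)
            · skip
              rcases Nat.lt_or_ge i 235000 with h7 | h7
              · skip
                exact allRangeF_sound _ _ (checkFactF_eq cert) 234000 1000 chkF_234000 i (by omega) (by omega)
              · skip
                exact allRangeF_sound _ _ (checkFactF_eq cert) 235000 1000 chkF_235000 i (by omega) (by omega)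

end Cfsg.Agent.Lib.Helper28.He2Data
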