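import Cfsg.Agent.Lib.Helper28.He2Data
import Cfsg.Agent.Lib.Helper28.TCFastF

set_option autoImplicit false
set_option maxRecDepth 1000000
set_option linter.all false
set_option Elab.async false

namespace Cfsg.Agent.Lib.Helper28.He2Data

open Cfsg.Agent.Lib.Helper28

theorem chkF_1298000 : allRangeF (checkFactF cert) (nat_lit 1298000) (nat_lit 1000) = true := by decide +kernel
theorem chkF_1299000 : allRangeF (checkFactF cert) (nat_lit 1299000) (nat_lit 1000) = true := by decide +kernel
theorem chkF_1300000 : allRangeF (checkFactF cert) (nat_lit 1300000) (nat_lit 1000) = true := by decide +kernel
theorem chkF_1301000 : allRangeF (checkFactF cert) (nat_lit 1301000) (nat_lit 1000) = true := by decide +kernel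
theorem chkF_1302000 : allRangeF (checkFactF cert) (nat_lit 1302000) (nat_lit 1000) = true := by decide +kernel
theorem chkF_1303000 : allRangeF (checkFactF cert) (nat_lit 1303000) (nat_lit 1000) = true := by decide +kernel
theorem chkF_1304000 : allRangeF (checkFactF cert) (nat_lit 1304000) (nat_lit 1000) = true := by decide +kernel
theorem chkF_1305000 : allRangeF (checkFactF cert) (nat_lit 1305000) (nat_lit 1000) = true := by decide +kernel
theorem chkF_1306000 : allRangeF (checkFactF cert) (nat_lit 1306000) (nat_lit 1000) = true := by decide +kernel
theorem chkF_1307000 : allRangeF (checkFactF cert) (nat_lit 1307000) (nat_lit 1000) = true := by decide +kernel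
theorem chkF_1308000 : allRangeF (checkFactF cert) (nat_lit 1308000) (nat_lit 1000) = true := by decide +kernel
theorem chkF_1309000 : allRangeF (checkFactF cert) (nat_lit 1309000) (nat_lit 1000) = true := by decide +kernel
theorem chkF_1310000 : allRangeF (checkFactF cert) (nat_lit 1310000) (nat_lit 1000) = true := by decide +kernel
theorem chkF_1311000 : allRangeF (checkFactF cert) (nat_lit 1311000) (nat_lit 1000) = true := by decide +kernel
theorem chkF_1312000 : allRangeF (checkFactF cert) (nat_lit 1312000) (nat_lit 1000) = true := by decide +kernel
theorem chkF_1313000 : allRangeF (checkFactF cert) (nat_lit 1313000) (nat_lit 1000) = true := by decide +kernel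
theorem chkF_1314000 : allRangeF (checkFactF cert) (nat_lit 1314000) (nat_lit 1000) = true := by decide +kernel
theorem chkF_1315000 : allRangeF (checkFactF cert) (nat_lit 1315000) (nat_lit 1000) = true := by decide +kernel
theorem chkF_1316000 : allRangeF (checkFactF cert) (nat_lit 1316000) (nat_lit 1000) = true := by decide +kernel
theorem chkF_1317000 : allRangeF (checkFactF cert) (nat_lit 1317000) (nat_lit 1000) = true := by decide +kernel
theorem chkF_1318000 : allRangeF (checkFactF cert) (nat_lit 1318000) (nat_lit 1000) = true := by decide +kernel
theorem chkF_1319000 : allRangeF (checkFactF cert) (nat_lit 1319000) (nat_lit 1000) = true := by decide +kernel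
theorem chkF_1320000 : allRangeF (checkFactF cert) (nat_lit 1320000) (nat_lit 1000) = true := by decide +kernel
theorem chkF_1321000 : allRangeF (checkFactF cert) (nat_lit 1321000) (nat_lit 1000) = true := by decide +kernel
theorem chkF_1322000 : allRangeF (checkFactF cert) (nat_lit 1322000) (nat_lit 1000) = true := by decide +kernel
theorem chkF_1323000 : allRangeF (checkFactF cert) (nat_lit 1323000) (nat_lit 1000) = true := by decide +kernel
theorem chkF_1324000 : allRangeF (checkFactF cert) (nat_lit 1324000) (nat_lit 1000) = true := by decide +kernel
theorem chkF_1325000 : allRangeF (checkFactF cert) (nat_lit 1325000) (nat_lit 1000) = true := by decide +kernel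
theorem chkF_1326000 : allRangeF (checkFactF cert) (nat_lit 1326000) (nat_lit 1000) = true := by decide +kernel
theorem chkF_1327000 : allRangeF (checkFactF cert) (nat_lit 1327000) (nat_lit 1000) = true := by decide +kernel
theorem chkF_1328000 : allRangeF (checkFactF cert) (nat_lit 1328000) (nat_lit 1000) = true := by decide +kernel
theorem chkF_1329000 : allRangeF (checkFactF cert) (nat_lit 1329000) (nat_lit 1000) = true := by decide +kernel
theorem chkF_1330000 : allRangeF (checkFactF cert) (nat_lit 1330000) (nat_lit 1000) = true := by decide +kernel
theorem chkF_1331000 : allRangeF (checkFactF cert) (nat_lit 1331000) (nat_lit 1000) = true := by decide +kernel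
theorem chkF_1332000 : allRangeF (checkFactF cert) (nat_lit 1332000) (nat_lit 1000) = true := by decide +kernel
theorem chkF_1333000 : allRangeF (checkFactF cert) (nat_lit 1333000) (nat_lit 1000) = true := by decide +kernel
theorem chkF_1334000 : allRangeF (checkFactF cert) (nat_lit 1334000) (nat_lit 1000) = true := by decide +kernel
theorem chkF_1335000 : allRangeF (checkFactF cert) (nat_lit 1335000) (nat_lit 1000) = true := by decide +kernel
theorem chkF_1336000 : allRangeF (checkFactF cert) (nat_lit 1336000) (nat_lit 1000) = true := by decide +kernel
theorem chkF_1337000 : allRangeF (checkFactF cert) (nat_lit 1337000) (nat_lit 1000) = true := by decide +kernel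
theorem chkF_1338000 : allRangeF (checkFactF cert) (nat_lit 1338000) (nat_lit 1000) = true := by decide +kernel
theorem chkF_1339000 : allRangeF (checkFactF cert) (nat_lit 1339000) (nat_lit 1000) = true := by decide +kernel
theorem chkF_1340000 : allRangeF (checkFactF cert) (nat_lit 1340000) (nat_lit 1000) = true := by decide +kernel
theorem chkF_1341000 : allRangeF (checkFactF cert) (nat_lit 1341000) (nat_lit 1000) = true := by decide +kernel
theorem chkF_1342000 : allRangeF (checkFactF cert) (nat_lit 1342000) (nat_lit 1000) = true := by decide +kernel
theorem chkF_1343000 : allRangeF (checkFactF cert) (nat_lit 1343000) (nat_lit 1000) = true := by decide +kernel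
theorem chkF_1344000 : allRangeF (checkFactF cert) (nat_lit 1344000) (nat_lit 1000) = true := by decide +kernel
theorem chkF_1345000 : allRangeF (checkFactF cert) (nat_lit 1345000) (nat_lit 1000) = true := by decide +kernel
theorem chkF_1346000 : allRangeF (checkFactF cert) (nat_lit 1346000) (nat_lit 1000) = true := by decide +kernel
theorem chkF_1347000 : allRangeF (checkFactF cert) (nat_lit 1347000) (nat_lit 1000) = true := by decide +kernel
theorem chkF_1348000 : allRangeF (checkFactF cert) (nat_lit 1348000) (nat_lit 1000) = true := by decide +kernel
theorem chkF_1349000 : allRangeF (checkFactF cert) (nat_lit 1349000) (nat_lit 1000) = true := by decide +kernel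
theorem chkF_1350000 : allRangeF (checkFactF cert) (nat_lit 1350000) (nat_lit 1000) = true := by decide +kernel
theorem chkF_1351000 : allRangeF (checkFactF cert) (nat_lit 1351000) (nat_lit 1000) = true := by decide +kernel
theorem chkF_1352000 : allRangeF (checkFactF cert) (nat_lit 1352000) (nat_lit 1000) = true := by decide +kernel
theorem chkF_1353000 : allRangeF (checkFactF cert) (nat_lit 1353000) (nat_lit 1000) = true := by decide +kernel
theorem chkF_1354000 : allRangeF (checkFactF cert) (nat_lit 1354000) (nat_lit 1000) = true := by decide +kernel
theorem chkF_1355000 : allRangeF (checkFactF cert) (nat_lit 1355000) (nat_lit 1000) = true := by decide +kernel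
theorem chkF_1356000 : allRangeF (checkFactF cert) (nat_lit 1356000) (nat_lit 1000) = true := by decide +kernel
theorem chkF_1357000 : allRangeF (checkFactF cert) (nat_lit 1357000) (nat_lit 1000) = true := by decide +kernel
theorem chkF_1358000 : allRangeF (checkFactF cert) (nat_lit 1358000) (nat_lit 1000) = true := by decide +kernel
theorem chkF_1359000 : allRangeF (checkFactF cert) (nat_lit 1359000) (nat_lit 1000) = true := by decide +kernel
theorem chkF_1360000 : allRangeF (checkFactF cert) (nat_lit 1360000) (nat_lit 1000) = true := by decide +kernel
theorem chkF_1361000 : allRangeF (checkFactF cert) (nat_lit 1361000) (nat_lit 1000) = true := by decide +kernel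
theorem chkF_1362000 : allRangeF (checkFactF cert) (nat_lit 1362000) (nat_lit 1000) = true := by decide +kernel
theorem chkF_1363000 : allRangeF (checkFactF cert) (nat_lit 1363000) (nat_lit 1000) = true := by decide +kernel
theorem chkF_1364000 : allRangeF (checkFactF cert) (nat_lit 1364000) (nat_lit 1000) = true := by decide +kernel
theorem chkF_1365000 : allRangeF (checkFactF cert) (nat_lit 1365000) (nat_lit 1000) = true := by decide +kernel
theorem chkF_1366000 : allRangeF (checkFactF cert) (nat_lit 1366000) (nat_lit 1000) = true := by decide +kernel
theorem chkF_1367000 : allRangeF (checkFactF cert) (nat_lit 1367000) (nat_lit 1000) = true := by decide +kernel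
theorem chkF_1368000 : allRangeF (checkFactF cert) (nat_lit 1368000) (nat_lit 1000) = true := by decide +kernel
theorem chkF_1369000 : allRangeF (checkFactF cert) (nat_lit 1369000) (nat_lit 1000) = true := by decide +kernel
theorem chkF_1370000 : allRangeF (checkFactF cert) (nat_lit 1370000) (nat_lit 1000) = true := by decide +kernel
theorem chkF_1371000 : allRangeF (checkFactF cert) (nat_lit 1371000) (nat_lit 1000) = true := by decide +kernel
theorem chkF_1372000 : allRangeF (checkFactF cert) (nat_lit 1372000) (nat_lit 1000) = true := by decide +kernel
theorem chkF_1373000 : allRangeF (checkFactF cert) (nat_lit 1373000) (nat_lit 1000) = true := by decide +kernel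
theorem chkF_1374000 : allRangeF (checkFactF cert) (nat_lit 1374000) (nat_lit 1000) = true := by decide +kernel
theorem chkF_1375000 : allRangeF (checkFactF cert) (nat_lit 1375000) (nat_lit 1000) = true := by decide +kernel
theorem chkF_1376000 : allRangeF (checkFactF cert) (nat_lit 1376000) (nat_lit 1000) = true := by decide +kernel
theorem chkF_1377000 : allRangeF (checkFactF cert) (nat_lit 1377000) (nat_lit 1000) = true := by decide +kernel
theorem chkF_1378000 : allRangeF (checkFactF cert) (nat_lit 1378000) (nat_lit 1000) = true := by decide +kernel
theorem chkF_1379000 : allRangeF (checkFactF cert) (nat_lit 1379000) (nat_lit 1000) = true := by decide +kernel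
theorem chkF_1380000 : allRangeF (checkFactF cert) (nat_lit 1380000) (nat_lit 1000) = true := by decide +kernel
theorem chkF_1381000 : allRangeF (checkFactF cert) (nat_lit 1381000) (nat_lit 1000) = true := by decide +kernel
theorem chkF_1382000 : allRangeF (checkFactF cert) (nat_lit 1382000) (nat_lit 1000) = true := by decide +kernel
theorem chkF_1383000 : allRangeF (checkFactF cert) (nat_lit 1383000) (nat_lit 1000) = true := by decide +kernel
theorem chkF_1384000 : allRangeF (checkFactF cert) (nat_lit 1384000) (nat_lit 1000) = true := by decide +kernel
theorem chkF_1385000 : allRangeF (checkFactF cert) (nat_lit 1385000) (nat_lit 1000) = true := by decide +kernel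
theorem chkF_1386000 : allRangeF (checkFactF cert) (nat_lit 1386000) (nat_lit 1000) = true := by decide +kernel
theorem chkF_1387000 : allRangeF (checkFactF cert) (nat_lit 1387000) (nat_lit 1000) = true := by decide +kernel
theorem chkF_1388000 : allRangeF (checkFactF cert) (nat_lit 1388000) (nat_lit 1000) = true := by decide +kernel
theorem chkF_1389000 : allRangeF (checkFactF cert) (nat_lit 1389000) (nat_lit 1000) = true := by decide +kernel
theorem chkF_1390000 : allRangeF (checkFactF cert) (nat_lit 1390000) (nat_lit 1000) = true := by decide +kernel
theorem chkF_1391000 : allRangeF (checkFactF cert) (nat_lit 1391000) (nat_lit 1000) = true := by decide +kernel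
theorem chkF_1392000 : allRangeF (checkFactF cert) (nat_lit 1392000) (nat_lit 1000) = true := by decide +kernel
theorem chkF_1393000 : allRangeF (checkFactF cert) (nat_lit 1393000) (nat_lit 1000) = true := by decide +kernel
theorem chkF_1394000 : allRangeF (checkFactF cert) (nat_lit 1394000) (nat_lit 1000) = true := by decide +kernel
theorem chkF_1395000 : allRangeF (checkFactF cert) (nat_lit 1395000) (nat_lit 1000) = true := by decide +kernel
theorem chkF_1396000 : allRangeF (checkFactF cert) (nat_lit 1396000) (nat_lit 1000) = true := by decide +kernel
theorem chkF_1397000 : allRangeF (checkFactF cert) (nat_lit 1397000) (nat_lit 1000) = true := by decide +kernel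
theorem chkF_1398000 : allRangeF (checkFactF cert) (nat_lit 1398000) (nat_lit 1000) = true := by decide +kernel
theorem chkF_1399000 : allRangeF (checkFactF cert) (nat_lit 1399000) (nat_lit 1000) = true := by decide +kernel
theorem chkF_1400000 : allRangeF (checkFactF cert) (nat_lit 1400000) (nat_lit 1000) = true := by decide +kernel
theorem chkF_1401000 : allRangeF (checkFactF cert) (nat_lit 1401000) (nat_lit 1000) = true := by decide +kernel
theorem chkF_1402000 : allRangeF (checkFactF cert) (nat_lit 1402000) (nat_lit 1000) = true := by decide +kernel
theorem chkF_1403000 : allRangeF (checkFactF cert) (nat_lit 1403000) (nat_lit 1000) = true := by decide +kernel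
theorem chkF_1404000 : allRangeF (checkFactF cert) (nat_lit 1404000) (nat_lit 1000) = true := by decide +kernel
theorem chkF_1405000 : allRangeF (checkFactF cert) (nat_lit 1405000) (nat_lit 1000) = true := by decide +kernel
theorem chkF_1406000 : allRangeF (checkFactF cert) (nat_lit 1406000) (nat_lit 1000) = true := by decide +kernel
theorem chkF_1407000 : allRangeF (checkFactF cert) (nat_lit 1407000) (nat_lit 1000) = true := by decide +kernel
theorem chkF_1408000 : allRangeF (checkFactF cert) (nat_lit 1408000) (nat_lit 1000) = true := by decide +kernel
theorem chkF_1409000 : allRangeF (checkFactF cert) (nat_lit 1409000) (nat_lit 1000) = true := by decide +kernel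
theorem chkF_1410000 : allRangeF (checkFactF cert) (nat_lit 1410000) (nat_lit 1000) = true := by decide +kernel
theorem chkF_1411000 : allRangeF (checkFactF cert) (nat_lit 1411000) (nat_lit 1000) = true := by decide +kernel
theorem chkF_1412000 : allRangeF (checkFactF cert) (nat_lit 1412000) (nat_lit 1000) = true := by decide +kernel
theorem chkF_1413000 : allRangeF (checkFactF cert) (nat_lit 1413000) (nat_lit 1000) = true := by decide +kernel
theorem chkF_1414000 : allRangeF (checkFactF cert) (nat_lit 1414000) (nat_lit 1000) = true := by decide +kernel
theorem chkF_1415000 : allRangeF (checkFactF cert) (nat_lit 1415000) (nat_lit 1000) = true := by decide +kernel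

theorem factsRange_11 : ∀ i, 1298000 ≤ i → i < 1416000 → checkFact cert i = true := by
  intro i hlo hhi
  rcases Nat.lt_or_ge i 1357000 with h1 | h1
  · skip
    rcases Nat.lt_or_ge i 1327000 with h2 | h2
    · skip
      rcases Nat.lt_or_ge i 1312000 with h3 | h3
      · skip
        rcases Nat.lt_or_ge i 1305000 with h4 | h4
        · skip
          rcases Nat.lt_or_ge i 1301000 with h5 | h5
          · skip
            rcases Nat.lt_or_ge i 1299000 with h6 | h6
            · skip
              exact allRangeF_sound _ _ (checkFactF_eq cert) 1298000 1000 chkF_1298000 i (by omega) (by omega)
            · skip
              rcases Nat.lt_or_ge i 1300000 with h7 | h7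
              · skip
                exact allRangeF_sound _ _ (checkFactF_eq cert) 1299000 1000 chkF_1299000 i (by omega) (by omega)
              · skip
                exact allRangeF_sound _ _ (checkFactF_eq cert) 1300000 1000 chkF_1300000 i (by omega) (by omega)
          · skip
            rcases Nat.lt_or_ge i 1303000 with h6 | h6
            · skip
              rcases Nat.lt_or_ge i 1302000 with h7 | h7
              · skip
                exact allRangeF_sound _ _ (checkFactF_eq cert) 1301000 1000 chkF_1301000 i (by omega) (by omega)
              · skip
                exact allRangeF_sound _ _ (checkFactF_eq cert) 1302000 1000 chkF_1302000 i (by omega) (by omega)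
            · skip
              rcases Nat.lt_or_ge i 1304000 with h7 | h7
              · skip
                exact allRangeF_sound _ _ (checkFactF_eq cert) 1303000 1000 chkF_1303000 i (by omega) (by omega)
              · skip
                exact allRangeF_sound _ _ (checkFactF_eq cert) 1304000 1000 chkF_1304000 i (by omega) (by omega)
        · skip
          rcases Nat.lt_or_ge i 1308000 with h5 | h5
          · skip
            rcases Nat.lt_or_ge i 1306000 with h6 | h6
            · skip
              exact allRangeF_sound _ _ (checkFactF_eq cert) 1305000 1000 chkF_1305000 i (by omega) (by omega)
            · skip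
              rcases Nat.lt_or_ge i 1307000 with h7 | h7
              · skip
                exact allRangeF_sound _ _ (checkFactF_eq cert) 1306000 1000 chkF_1306000 i (by omega) (by omega)
              · skip
                exact allRangeF_sound _ _ (checkFactF_eq cert) 1307000 1000 chkF_1307000 i (by omega) (by omega)
          · skip
            rcases Nat.lt_or_ge i 1310000 with h6 | h6
            · skip
              rcases Nat.lt_or_ge i 1309000 with h7 | h7
              · skip
                exact allRangeF_sound _ _ (checkFactF_eq cert) 1308000 1000 chkF_1308000 i (by omega) (by omega)
              · skip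
                exact allRangeF_sound _ _ (checkFactF_eq cert) 1309000 1000 chkF_1309000 i (by omega) (by omega)
            · skip
              rcases Nat.lt_or_ge i 1311000 with h7 | h7
              · skip
                exact allRangeF_sound _ _ (checkFactF_eq cert) 1310000 1000 chkF_1310000 i (by omega) (by omega)
              · skip
                exact allRangeF_sound _ _ (checkFactF_eq cert) 1311000 1000 chkF_1311000 i (by omega) (by omega)
      · skip
        rcases Nat.lt_or_ge i 1319000 with h4 | h4
        · skip
          rcases Nat.lt_or_ge i 1315000 with h5 | h5
          · skip
            rcases Nat.lt_or_ge i 1313000 with h6 | h6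
            · skip
              exact allRangeF_sound _ _ (checkFactF_eq cert) 1312000 1000 chkF_1312000 i (by omega) (by omega)
            · skip
              rcases Nat.lt_or_ge i 1314000 with h7 | h7
              · skip
                exact allRangeF_sound _ _ (checkFactF_eq cert) 1313000 1000 chkF_1313000 i (by omega) (by omega)
              · skip
                exact allRangeF_sound _ _ (checkFactF_eq cert) 1314000 1000 chkF_1314000 i (by omega) (by omega)
          · skip
            rcases Nat.lt_or_ge i 1317000 with h6 | h6
            · skip
              rcases Nat.lt_or_ge i 1316000 with h7 | h7
              · skip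
                exact allRangeF_sound _ _ (checkFactF_eq cert) 1315000 1000 chkF_1315000 i (by omega) (by omega)
              · skip
                exact allRangeF_sound _ _ (checkFactF_eq cert) 1316000 1000 chkF_1316000 i (by omega) (by omega)
            · skip
              rcases Nat.lt_or_ge i 1318000 with h7 | h7
              · skip
                exact allRangeF_sound _ _ (checkFactF_eq cert) 1317000 1000 chkF_1317000 i (by omega) (by omega)
              · skip
                exact allRangeF_sound _ _ (checkFactF_eq cert) 1318000 1000 chkF_1318000 i (by omega) (by omega)
        · skip
          rcases Nat.lt_or_ge i 1323000 with h5 | h5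
          · skip
            rcases Nat.lt_or_ge i 1321000 with h6 | h6
            · skip
              rcases Nat.lt_or_ge i 1320000 with h7 | h7
              · skip
                exact allRangeF_sound _ _ (checkFactF_eq cert) 1319000 1000 chkF_1319000 i (by omega) (by omega)
              · skip
                exact allRangeF_sound _ _ (checkFactF_eq cert) 1320000 1000 chkF_1320000 i (by omega) (by omega)
            · skip
              rcases Nat.lt_or_ge i 1322000 with h7 | h7
              · skip
                exact allRangeF_sound _ _ (checkFactF_eq cert) 1321000 1000 chkF_1321000 i (by omega) (by omega)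
              · skip
                exact allRangeF_sound _ _ (checkFactF_eq cert) 1322000 1000 chkF_1322000 i (by omega) (by omega)
          · skip
            rcases Nat.lt_or_ge i 1325000 with h6 | h6
            · skip
              rcases Nat.lt_or_ge i 1324000 with h7 | h7
              · skip
                exact allRangeF_sound _ _ (checkFactF_eq cert) 1323000 1000 chkF_1323000 i (by omega) (by omega)
              · skip
                exact allRangeF_sound _ _ (checkFactF_eq cert) 1324000 1000 chkF_1324000 i (by omega) (by omega)
            · skip
              rcases Nat.lt_or_ge i 1326000 with h7 | h7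
              · skip
                exact allRangeF_sound _ _ (checkFactF_eq cert) 1325000 1000 chkF_1325000 i (by omega) (by omega)
              · skip
                exact allRangeF_sound _ _ (checkFactF_eq cert) 1326000 1000 chkF_1326000 i (by omega) (by omega)
    · skip
      rcases Nat.lt_or_ge i 1342000 with h3 | h3
      · skip
        rcases Nat.lt_or_ge i 1334000 with h4 | h4
        · skip
          rcases Nat.lt_or_ge i 1330000 with h5 | h5
          · skip
            rcases Nat.lt_or_ge i 1328000 with h6 | h6
            · skip
              exact allRangeF_sound _ _ (checkFactF_eq cert) 1327000 1000 chkF_1327000 i (by omega) (by omega)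
            · skip
              rcases Nat.lt_or_ge i 1329000 with h7 | h7
              · skip
                exact allRangeF_sound _ _ (checkFactF_eq cert) 1328000 1000 chkF_1328000 i (by omega) (by omega)
              · skip
                exact allRangeF_sound _ _ (checkFactF_eq cert) 1329000 1000 chkF_1329000 i (by omega) (by omega)
          · skip
            rcases Nat.lt_or_ge i 1332000 with h6 | h6
            · skip
              rcases Nat.lt_or_ge i 1331000 with h7 | h7
              · skip
                exact allRangeF_sound _ _ (checkFactF_eq cert) 1330000 1000 chkF_1330000 i (by omega) (by omega)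
              · skip
                exact allRangeF_sound _ _ (checkFactF_eq cert) 1331000 1000 chkF_1331000 i (by omega) (by omega)
            · skip
              rcases Nat.lt_or_ge i 1333000 with h7 | h7
              · skip
                exact allRangeF_sound _ _ (checkFactF_eq cert) 1332000 1000 chkF_1332000 i (by omega) (by omega)
              · skip
                exact allRangeF_sound _ _ (checkFactF_eq cert) 1333000 1000 chkF_1333000 i (by omega) (by omega)
        · skip
          rcases Nat.lt_or_ge i 1338000 with h5 | h5
          · skip
            rcases Nat.lt_or_ge i 1336000 with h6 | h6
            · skip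
              rcases Nat.lt_or_ge i 1335000 with h7 | h7
              · skip
                exact allRangeF_sound _ _ (checkFactF_eq cert) 1334000 1000 chkF_1334000 i (by omega) (by omega)
              · skip
                exact allRangeF_sound _ _ (checkFactF_eq cert) 1335000 1000 chkF_1335000 i (by omega) (by omega)
            · skip
              rcases Nat.lt_or_ge i 1337000 with h7 | h7
              · skip
                exact allRangeF_sound _ _ (checkFactF_eq cert) 1336000 1000 chkF_1336000 i (by omega) (by omega)
              · skip
                exact allRangeF_sound _ _ (checkFactF_eq cert) 1337000 1000 chkF_1337000 i (by omega) (by omega)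
          · skip
            rcases Nat.lt_or_ge i 1340000 with h6 | h6
            · skip
              rcases Nat.lt_or_ge i 1339000 with h7 | h7
              · skip
                exact allRangeF_sound _ _ (checkFactF_eq cert) 1338000 1000 chkF_1338000 i (by omega) (by omega)
              · skip
                exact allRangeF_sound _ _ (checkFactF_eq cert) 1339000 1000 chkF_1339000 i (by omega) (by omega)
            · skip
              rcases Nat.lt_or_ge i 1341000 with h7 | h7
              · skip
                exact allRangeF_sound _ _ (checkFactF_eq cert) 1340000 1000 chkF_1340000 i (by omega) (by omega)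
              · skip
                exact allRangeF_sound _ _ (checkFactF_eq cert) 1341000 1000 chkF_1341000 i (by omega) (by omega)
      · skip
        rcases Nat.lt_or_ge i 1349000 with h4 | h4
        · skip
          rcases Nat.lt_or_ge i 1345000 with h5 | h5
          · skip
            rcases Nat.lt_or_ge i 1343000 with h6 | h6
            · skip
              exact allRangeF_sound _ _ (checkFactF_eq cert) 1342000 1000 chkF_1342000 i (by omega) (by omega)
            · skip
              rcases Nat.lt_or_ge i 1344000 with h7 | h7
              · skip
                exact allRangeF_sound _ _ (checkFactF_eq cert) 1343000 1000 chkF_1343000 i (by omega) (by omega)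
              · skip
                exact allRangeF_sound _ _ (checkFactF_eq cert) 1344000 1000 chkF_1344000 i (by omega) (by omega)
          · skip
            rcases Nat.lt_or_ge i 1347000 with h6 | h6
            · skip
              rcases Nat.lt_or_ge i 1346000 with h7 | h7
              · skip
                exact allRangeF_sound _ _ (checkFactF_eq cert) 1345000 1000 chkF_1345000 i (by omega) (by omega)
              · skip
                exact allRangeF_sound _ _ (checkFactF_eq cert) 1346000 1000 chkF_1346000 i (by omega) (by omega)
            · skip
              rcases Nat.lt_or_ge i 1348000 with h7 | h7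
              · skip
                exact allRangeF_sound _ _ (checkFactF_eq cert) 1347000 1000 chkF_1347000 i (by omega) (by omega)
              · skip
                exact allRangeF_sound _ _ (checkFactF_eq cert) 1348000 1000 chkF_1348000 i (by omega) (by omega)
        · skip
          rcases Nat.lt_or_ge i 1353000 with h5 | h5
          · skip
            rcases Nat.lt_or_ge i 1351000 with h6 | h6
            · skip
              rcases Nat.lt_or_ge i 1350000 with h7 | h7
              · skip
                exact allRangeF_sound _ _ (checkFactF_eq cert) 1349000 1000 chkF_1349000 i (by omega) (by omega)
              · skip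
                exact allRangeF_sound _ _ (checkFactF_eq cert) 1350000 1000 chkF_1350000 i (by omega) (by omega)
            · skip
              rcases Nat.lt_or_ge i 1352000 with h7 | h7
              · skip
                exact allRangeF_sound _ _ (checkFactF_eq cert) 1351000 1000 chkF_1351000 i (by omega) (by omega)
              · skip
                exact allRangeF_sound _ _ (checkFactF_eq cert) 1352000 1000 chkF_1352000 i (by omega) (by omega)
          · skip
            rcases Nat.lt_or_ge i 1355000 with h6 | h6
            · skip
              rcases Nat.lt_or_ge i 1354000 with h7 | h7
              · skip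
                exact allRangeF_sound _ _ (checkFactF_eq cert) 1353000 1000 chkF_1353000 i (by omega) (by omega)
              · skip
                exact allRangeF_sound _ _ (checkFactF_eq cert) 1354000 1000 chkF_1354000 i (by omega) (by omega)
            · skip
              rcases Nat.lt_or_ge i 1356000 with h7 | h7
              · skip
                exact allRangeF_sound _ _ (checkFactF_eq cert) 1355000 1000 chkF_1355000 i (by omega) (by omega)
              · skip
                exact allRangeF_sound _ _ (checkFactF_eq cert) 1356000 1000 chkF_1356000 i (by omega) (by omega)
  · skip
    rcases Nat.lt_or_ge i 1386000 with h2 | h2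
    · skip
      rcases Nat.lt_or_ge i 1371000 with h3 | h3
      · skip
        rcases Nat.lt_or_ge i 1364000 with h4 | h4
        · skip
          rcases Nat.lt_or_ge i 1360000 with h5 | h5
          · skip
            rcases Nat.lt_or_ge i 1358000 with h6 | h6
            · skip
              exact allRangeF_sound _ _ (checkFactF_eq cert) 1357000 1000 chkF_1357000 i (by omega) (by omega)
            · skip
              rcases Nat.lt_or_ge i 1359000 with h7 | h7
              · skip
                exact allRangeF_sound _ _ (checkFactF_eq cert) 1358000 1000 chkF_1358000 i (by omega) (by omega)
              · skip
                exact allRangeF_sound _ _ (checkFactF_eq cert) 1359000 1000 chkF_1359000 i (by omega) (by omega)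
          · skip
            rcases Nat.lt_or_ge i 1362000 with h6 | h6
            · skip
              rcases Nat.lt_or_ge i 1361000 with h7 | h7
              · skip
                exact allRangeF_sound _ _ (checkFactF_eq cert) 1360000 1000 chkF_1360000 i (by omega) (by omega)
              · skip
                exact allRangeF_sound _ _ (checkFactF_eq cert) 1361000 1000 chkF_1361000 i (by omega) (by omega)
            · skip
              rcases Nat.lt_or_ge i 1363000 with h7 | h7
              · skip
                exact allRangeF_sound _ _ (checkFactF_eq cert) 1362000 1000 chkF_1362000 i (by omega) (by omega)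
              · skip
                exact allRangeF_sound _ _ (checkFactF_eq cert) 1363000 1000 chkF_1363000 i (by omega) (by omega)
        · skip
          rcases Nat.lt_or_ge i 1367000 with h5 | h5
          · skip
            rcases Nat.lt_or_ge i 1365000 with h6 | h6
            · skip
              exact allRangeF_sound _ _ (checkFactF_eq cert) 1364000 1000 chkF_1364000 i (by omega) (by omega)
            · skip
              rcases Nat.lt_or_ge i 1366000 with h7 | h7
              · skip
                exact allRangeF_sound _ _ (checkFactF_eq cert) 1365000 1000 chkF_1365000 i (by omega) (by omega)
              · skip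
                exact allRangeF_sound _ _ (checkFactF_eq cert) 1366000 1000 chkF_1366000 i (by omega) (by omega)
          · skip
            rcases Nat.lt_or_ge i 1369000 with h6 | h6
            · skip
              rcases Nat.lt_or_ge i 1368000 with h7 | h7
              · skip
                exact allRangeF_sound _ _ (checkFactF_eq cert) 1367000 1000 chkF_1367000 i (by omega) (by omega)
              · skip
                exact allRangeF_sound _ _ (checkFactF_eq cert) 1368000 1000 chkF_1368000 i (by omega) (by omega)
            · skip
              rcases Nat.lt_or_ge i 1370000 with h7 | h7
              · skip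
                exact allRangeF_sound _ _ (checkFactF_eq cert) 1369000 1000 chkF_1369000 i (by omega) (by omega)
              · skip
                exact allRangeF_sound _ _ (checkFactF_eq cert) 1370000 1000 chkF_1370000 i (by omega) (by omega)
      · skip
        rcases Nat.lt_or_ge i 1378000 with h4 | h4
        · skip
          rcases Nat.lt_or_ge i 1374000 with h5 | h5
          · skip
            rcases Nat.lt_or_ge i 1372000 with h6 | h6
            · skip
              exact allRangeF_sound _ _ (checkFactF_eq cert) 1371000 1000 chkF_1371000 i (by omega) (by omega)
            · skip
              rcases Nat.lt_or_ge i 1373000 with h7 | h7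
              · skip
                exact allRangeF_sound _ _ (checkFactF_eq cert) 1372000 1000 chkF_1372000 i (by omega) (by omega)
              · skip
                exact allRangeF_sound _ _ (checkFactF_eq cert) 1373000 1000 chkF_1373000 i (by omega) (by omega)
          · skip
            rcases Nat.lt_or_ge i 1376000 with h6 | h6
            · skip
              rcases Nat.lt_or_ge i 1375000 with h7 | h7
              · skip
                exact allRangeF_sound _ _ (checkFactF_eq cert) 1374000 1000 chkF_1374000 i (by omega) (by omega)
              · skip
                exact allRangeF_sound _ _ (checkFactF_eq cert) 1375000 1000 chkF_1375000 i (by omega) (by omega)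
            · skip
              rcases Nat.lt_or_ge i 1377000 with h7 | h7
              · skip
                exact allRangeF_sound _ _ (checkFactF_eq cert) 1376000 1000 chkF_1376000 i (by omega) (by omega)
              · skip
                exact allRangeF_sound _ _ (checkFactF_eq cert) 1377000 1000 chkF_1377000 i (by omega) (by omega)
        · skip
          rcases Nat.lt_or_ge i 1382000 with h5 | h5
          · skip
            rcases Nat.lt_or_ge i 1380000 with h6 | h6
            · skip
              rcases Nat.lt_or_ge i 1379000 with h7 | h7
              · skip
                exact allRangeF_sound _ _ (checkFactF_eq cert) 1378000 1000 chkF_1378000 i (by omega) (by omega)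
              · skip
                exact allRangeF_sound _ _ (checkFactF_eq cert) 1379000 1000 chkF_1379000 i (by omega) (by omega)
            · skip
              rcases Nat.lt_or_ge i 1381000 with h7 | h7
              · skip
                exact allRangeF_sound _ _ (checkFactF_eq cert) 1380000 1000 chkF_1380000 i (by omega) (by omega)
              · skip
                exact allRangeF_sound _ _ (checkFactF_eq cert) 1381000 1000 chkF_1381000 i (by omega) (by omega)
          · skip
            rcases Nat.lt_or_ge i 1384000 with h6 | h6
            · skip
              rcases Nat.lt_or_ge i 1383000 with h7 | h7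
              · skip
                exact allRangeF_sound _ _ (checkFactF_eq cert) 1382000 1000 chkF_1382000 i (by omega) (by omega)
              · skip
                exact allRangeF_sound _ _ (checkFactF_eq cert) 1383000 1000 chkF_1383000 i (by omega) (by omega)
            · skip
              rcases Nat.lt_or_ge i 1385000 with h7 | h7
              · skip
                exact allRangeF_sound _ _ (checkFactF_eq cert) 1384000 1000 chkF_1384000 i (by omega) (by omega)
              · skip
                exact allRangeF_sound _ _ (checkFactF_eq cert) 1385000 1000 chkF_1385000 i (by omega) (by omega)
    · skip
      rcases Nat.lt_or_ge i 1401000 with h3 | h3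
      · skip
        rcases Nat.lt_or_ge i 1393000 with h4 | h4
        · skip
          rcases Nat.lt_or_ge i 1389000 with h5 | h5
          · skip
            rcases Nat.lt_or_ge i 1387000 with h6 | h6
            · skip
              exact allRangeF_sound _ _ (checkFactF_eq cert) 1386000 1000 chkF_1386000 i (by omega) (by omega)
            · skip
              rcases Nat.lt_or_ge i 1388000 with h7 | h7
              · skip
                exact allRangeF_sound _ _ (checkFactF_eq cert) 1387000 1000 chkF_1387000 i (by omega) (by omega)
              · skip
                exact allRangeF_sound _ _ (checkFactF_eq cert) 1388000 1000 chkF_1388000 i (by omega) (by omega)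
          · skip
            rcases Nat.lt_or_ge i 1391000 with h6 | h6
            · skip
              rcases Nat.lt_or_ge i 1390000 with h7 | h7
              · skip
                exact allRangeF_sound _ _ (checkFactF_eq cert) 1389000 1000 chkF_1389000 i (by omega) (by omega)
              · skip
                exact allRangeF_sound _ _ (checkFactF_eq cert) 1390000 1000 chkF_1390000 i (by omega) (by omega)
            · skip
              rcases Nat.lt_or_ge i 1392000 with h7 | h7
              · skip
                exact allRangeF_sound _ _ (checkFactF_eq cert) 1391000 1000 chkF_1391000 i (by omega) (by omega)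
              · skip
                exact allRangeF_sound _ _ (checkFactF_eq cert) 1392000 1000 chkF_1392000 i (by omega) (by omega)
        · skip
          rcases Nat.lt_or_ge i 1397000 with h5 | h5
          · skip
            rcases Nat.lt_or_ge i 1395000 with h6 | h6
            · skip
              rcases Nat.lt_or_ge i 1394000 with h7 | h7
              · skip
                exact allRangeF_sound _ _ (checkFactF_eq cert) 1393000 1000 chkF_1393000 i (by omega) (by omega)
              · skip
                exact allRangeF_sound _ _ (checkFactF_eq cert) 1394000 1000 chkF_1394000 i (by omega) (by omega)
            · skip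
              rcases Nat.lt_or_ge i 1396000 with h7 | h7
              · skip
                exact allRangeF_sound _ _ (checkFactF_eq cert) 1395000 1000 chkF_1395000 i (by omega) (by omega)
              · skip
                exact allRangeF_sound _ _ (checkFactF_eq cert) 1396000 1000 chkF_1396000 i (by omega) (by omega)
          · skip
            rcases Nat.lt_or_ge i 1399000 with h6 | h6
            · skip
              rcases Nat.lt_or_ge i 1398000 with h7 | h7
              · skip
                exact allRangeF_sound _ _ (checkFactF_eq cert) 1397000 1000 chkF_1397000 i (by omega) (by omega)
              · skip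
                exact allRangeF_sound _ _ (checkFactF_eq cert) 1398000 1000 chkF_1398000 i (by omega) (by omega)
            · skip
              rcases Nat.lt_or_ge i 1400000 with h7 | h7
              · skip
                exact allRangeF_sound _ _ (checkFactF_eq cert) 1399000 1000 chkF_1399000 i (by omega) (by omega)
              · skip
                exact allRangeF_sound _ _ (checkFactF_eq cert) 1400000 1000 chkF_1400000 i (by omega) (by omega)
      · skip
        rcases Nat.lt_or_ge i 1408000 with h4 | h4
        · skip
          rcases Nat.lt_or_ge i 1404000 with h5 | h5
          · skip
            rcases Nat.lt_or_ge i 1402000 with h6 | h6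
            · skip
              exact allRangeF_sound _ _ (checkFactF_eq cert) 1401000 1000 chkF_1401000 i (by omega) (by omega)
            · skip
              rcases Nat.lt_or_ge i 1403000 with h7 | h7
              · skip
                exact allRangeF_sound _ _ (checkFactF_eq cert) 1402000 1000 chkF_1402000 i (by omega) (by omega)
              · skip
                exact allRangeF_sound _ _ (checkFactF_eq cert) 1403000 1000 chkF_1403000 i (by omega) (by omega)
          · skip
            rcases Nat.lt_or_ge i 1406000 with h6 | h6
            · skip
              rcases Nat.lt_or_ge i 1405000 with h7 | h7
              · skip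
                exact allRangeF_sound _ _ (checkFactF_eq cert) 1404000 1000 chkF_1404000 i (by omega) (by omega)
              · skip
                exact allRangeF_sound _ _ (checkFactF_eq cert) 1405000 1000 chkF_1405000 i (by omega) (by omega)
            · skip
              rcases Nat.lt_or_ge i 1407000 with h7 | h7
              · skip
                exact allRangeF_sound _ _ (checkFactF_eq cert) 1406000 1000 chkF_1406000 i (by omega) (by omega)
              · skip
                exact allRangeF_sound _ _ (checkFactF_eq cert) 1407000 1000 chkF_1407000 i (by omega) (by omega)
        · skip
          rcases Nat.lt_or_ge i 1412000 with h5 | h5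
          · skip
            rcases Nat.lt_or_ge i 1410000 with h6 | h6
            · skip
              rcases Nat.lt_or_ge i 1409000 with h7 | h7
              · skip
                exact allRangeF_sound _ _ (checkFactF_eq cert) 1408000 1000 chkF_1408000 i (by omega) (by omega)
              · skip
                exact allRangeF_sound _ _ (checkFactF_eq cert) 1409000 1000 chkF_1409000 i (by omega) (by omega)
            · skip
              rcases Nat.lt_or_ge i 1411000 with h7 | h7
              · skip
                exact allRangeF_sound _ _ (checkFactF_eq cert) 1410000 1000 chkF_1410000 i (by omega) (by omega)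
              · skip
                exact allRangeF_sound _ _ (checkFactF_eq cert) 1411000 1000 chkF_1411000 i (by omega) (by omega)
          · skip
            rcases Nat.lt_or_ge i 1414000 with h6 | h6
            · skip
              rcases Nat.lt_or_ge i 1413000 with h7 | h7
              · skip
                exact allRangeF_sound _ _ (checkFactF_eq cert) 1412000 1000 chkF_1412000 i (by omega) (by omega)
              · skip
                exact allRangeF_sound _ _ (checkFactF_eq cert) 1413000 1000 chkF_1413000 i (by omega) (by omega)
            · skip
              rcases Nat.lt_or_ge i 1415000 with h7 | h7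
              · skip
                exact allRangeF_sound _ _ (checkFactF_eq cert) 1414000 1000 chkF_1414000 i (by omega) (by omega)
              · skip
                exact allRangeF_sound _ _ (checkFactF_eq cert) 1415000 1000 chkF_1415000 i (by omega) (by omega)

end Cfsg.Agent.Lib.Helper28.He2Data
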