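import Cfsg.Agent.Lib.Helper28.He2Data
import Cfsg.Agent.Lib.Helper28.TCFastF

set_option autoImplicit false
set_option maxRecDepth 1000000
set_option linter.all false
set_option Elab.async false

namespace Cfsg.Agent.Lib.Helper28.He2Data

open Cfsg.Agent.Lib.Helper28

theorem chkF_1416000 : allRangeF (checkFactF cert) (nat_lit 1416000) (nat_lit 1000) = true := by decide +kernel
theorem chkF_1417000 : allRangeF (checkFactF cert) (nat_lit 1417000) (nat_lit 1000) = true := by decide +kernel
theorem chkF_1418000 : allRangeF (checkFactF cert) (nat_lit 1418000) (nat_lit 1000) = true := by decide +kernel
theorem chkF_1419000 : allRangeF (checkFactF cert) (nat_lit 1419000) (nat_lit 1000) = true := by decide +kernel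
theorem chkF_1420000 : allRangeF (checkFactF cert) (nat_lit 1420000) (nat_lit 1000) = true := by decide +kernel
theorem chkF_1421000 : allRangeF (checkFactF cert) (nat_lit 1421000) (nat_lit 1000) = true := by decide +kernel
theorem chkF_1422000 : allRangeF (checkFactF cert) (nat_lit 1422000) (nat_lit 1000) = true := by decide +kernel
theorem chkF_1423000 : allRangeF (checkFactF cert) (nat_lit 1423000) (nat_lit 1000) = true := by decide +kernel
theorem chkF_1424000 : allRangeF (checkFactF cert) (nat_lit 1424000) (nat_lit 1000) = true := by decide +kernel
theorem chkF_1425000 : allRangeF (checkFactF cert) (nat_lit 1425000) (nat_lit 1000) = true := by decide +kernel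
theorem chkF_1426000 : allRangeF (checkFactF cert) (nat_lit 1426000) (nat_lit 1000) = true := by decide +kernel
theorem chkF_1427000 : allRangeF (checkFactF cert) (nat_lit 1427000) (nat_lit 1000) = true := by decide +kernel
theorem chkF_1428000 : allRangeF (checkFactF cert) (nat_lit 1428000) (nat_lit 1000) = true := by decide +kernel
theorem chkF_1429000 : allRangeF (checkFactF cert) (nat_lit 1429000) (nat_lit 1000) = true := by decide +kernel
theorem chkF_1430000 : allRangeF (checkFactF cert) (nat_lit 1430000) (nat_lit 1000) = true := by decide +kernel
theorem chkF_1431000 : allRangeF (checkFactF cert) (nat_lit 1431000) (nat_lit 1000) = true := by decide +kernel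
theorem chkF_1432000 : allRangeF (checkFactF cert) (nat_lit 1432000) (nat_lit 1000) = true := by decide +kernel
theorem chkF_1433000 : allRangeF (checkFactF cert) (nat_lit 1433000) (nat_lit 1000) = true := by decide +kernel
theorem chkF_1434000 : allRangeF (checkFactF cert) (nat_lit 1434000) (nat_lit 1000) = true := by decide +kernel
theorem chkF_1435000 : allRangeF (checkFactF cert) (nat_lit 1435000) (nat_lit 1000) = true := by decide +kernel
theorem chkF_1436000 : allRangeF (checkFactF cert) (nat_lit 1436000) (nat_lit 1000) = true := by decide +kernel
theorem chkF_1437000 : allRangeF (checkFactF cert) (nat_lit 1437000) (nat_lit 1000) = true := by decide +kernel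
theorem chkF_1438000 : allRangeF (checkFactF cert) (nat_lit 1438000) (nat_lit 1000) = true := by decide +kernel
theorem chkF_1439000 : allRangeF (checkFactF cert) (nat_lit 1439000) (nat_lit 1000) = true := by decide +kernel
theorem chkF_1440000 : allRangeF (checkFactF cert) (nat_lit 1440000) (nat_lit 1000) = true := by decide +kernel
theorem chkF_1441000 : allRangeF (checkFactF cert) (nat_lit 1441000) (nat_lit 1000) = true := by decide +kernel
theorem chkF_1442000 : allRangeF (checkFactF cert) (nat_lit 1442000) (nat_lit 1000) = true := by decide +kernel
theorem chkF_1443000 : allRangeF (checkFactF cert) (nat_lit 1443000) (nat_lit 1000) = true := by decide +kernel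
theorem chkF_1444000 : allRangeF (checkFactF cert) (nat_lit 1444000) (nat_lit 1000) = true := by decide +kernel
theorem chkF_1445000 : allRangeF (checkFactF cert) (nat_lit 1445000) (nat_lit 1000) = true := by decide +kernel
theorem chkF_1446000 : allRangeF (checkFactF cert) (nat_lit 1446000) (nat_lit 1000) = true := by decide +kernel
theorem chkF_1447000 : allRangeF (checkFactF cert) (nat_lit 1447000) (nat_lit 1000) = true := by decide +kernel
theorem chkF_1448000 : allRangeF (checkFactF cert) (nat_lit 1448000) (nat_lit 1000) = true := by decide +kernel
theorem chkF_1449000 : allRangeF (checkFactF cert) (nat_lit 1449000) (nat_lit 1000) = true := by decide +kernel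
theorem chkF_1450000 : allRangeF (checkFactF cert) (nat_lit 1450000) (nat_lit 1000) = true := by decide +kernel
theorem chkF_1451000 : allRangeF (checkFactF cert) (nat_lit 1451000) (nat_lit 1000) = true := by decide +kernel
theorem chkF_1452000 : allRangeF (checkFactF cert) (nat_lit 1452000) (nat_lit 1000) = true := by decide +kernel
theorem chkF_1453000 : allRangeF (checkFactF cert) (nat_lit 1453000) (nat_lit 1000) = true := by decide +kernel
theorem chkF_1454000 : allRangeF (checkFactF cert) (nat_lit 1454000) (nat_lit 1000) = true := by decide +kernel
theorem chkF_1455000 : allRangeF (checkFactF cert) (nat_lit 1455000) (nat_lit 1000) = true := by decide +kernel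
theorem chkF_1456000 : allRangeF (checkFactF cert) (nat_lit 1456000) (nat_lit 1000) = true := by decide +kernel
theorem chkF_1457000 : allRangeF (checkFactF cert) (nat_lit 1457000) (nat_lit 1000) = true := by decide +kernel
theorem chkF_1458000 : allRangeF (checkFactF cert) (nat_lit 1458000) (nat_lit 1000) = true := by decide +kernel
theorem chkF_1459000 : allRangeF (checkFactF cert) (nat_lit 1459000) (nat_lit 1000) = true := by decide +kernel
theorem chkF_1460000 : allRangeF (checkFactF cert) (nat_lit 1460000) (nat_lit 1000) = true := by decide +kernel
theorem chkF_1461000 : allRangeF (checkFactF cert) (nat_lit 1461000) (nat_lit 1000) = true := by decide +kernel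
theorem chkF_1462000 : allRangeF (checkFactF cert) (nat_lit 1462000) (nat_lit 1000) = true := by decide +kernel
theorem chkF_1463000 : allRangeF (checkFactF cert) (nat_lit 1463000) (nat_lit 1000) = true := by decide +kernel
theorem chkF_1464000 : allRangeF (checkFactF cert) (nat_lit 1464000) (nat_lit 1000) = true := by decide +kernel
theorem chkF_1465000 : allRangeF (checkFactF cert) (nat_lit 1465000) (nat_lit 1000) = true := by decide +kernel
theorem chkF_1466000 : allRangeF (checkFactF cert) (nat_lit 1466000) (nat_lit 1000) = true := by decide +kernel
theorem chkF_1467000 : allRangeF (checkFactF cert) (nat_lit 1467000) (nat_lit 1000) = true := by decide +kernel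
theorem chkF_1468000 : allRangeF (checkFactF cert) (nat_lit 1468000) (nat_lit 1000) = true := by decide +kernel
theorem chkF_1469000 : allRangeF (checkFactF cert) (nat_lit 1469000) (nat_lit 1000) = true := by decide +kernel
theorem chkF_1470000 : allRangeF (checkFactF cert) (nat_lit 1470000) (nat_lit 1000) = true := by decide +kernel
theorem chkF_1471000 : allRangeF (checkFactF cert) (nat_lit 1471000) (nat_lit 1000) = true := by decide +kernel
theorem chkF_1472000 : allRangeF (checkFactF cert) (nat_lit 1472000) (nat_lit 1000) = true := by decide +kernel
theorem chkF_1473000 : allRangeF (checkFactF cert) (nat_lit 1473000) (nat_lit 1000) = true := by decide +kernel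
theorem chkF_1474000 : allRangeF (checkFactF cert) (nat_lit 1474000) (nat_lit 1000) = true := by decide +kernel
theorem chkF_1475000 : allRangeF (checkFactF cert) (nat_lit 1475000) (nat_lit 1000) = true := by decide +kernel
theorem chkF_1476000 : allRangeF (checkFactF cert) (nat_lit 1476000) (nat_lit 1000) = true := by decide +kernel
theorem chkF_1477000 : allRangeF (checkFactF cert) (nat_lit 1477000) (nat_lit 1000) = true := by decide +kernel
theorem chkF_1478000 : allRangeF (checkFactF cert) (nat_lit 1478000) (nat_lit 1000) = true := by decide +kernel
theorem chkF_1479000 : allRangeF (checkFactF cert) (nat_lit 1479000) (nat_lit 1000) = true := by decide +kernel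
theorem chkF_1480000 : allRangeF (checkFactF cert) (nat_lit 1480000) (nat_lit 1000) = true := by decide +kernel
theorem chkF_1481000 : allRangeF (checkFactF cert) (nat_lit 1481000) (nat_lit 1000) = true := by decide +kernel
theorem chkF_1482000 : allRangeF (checkFactF cert) (nat_lit 1482000) (nat_lit 1000) = true := by decide +kernel
theorem chkF_1483000 : allRangeF (checkFactF cert) (nat_lit 1483000) (nat_lit 1000) = true := by decide +kernel
theorem chkF_1484000 : allRangeF (checkFactF cert) (nat_lit 1484000) (nat_lit 1000) = true := by decide +kernel
theorem chkF_1485000 : allRangeF (checkFactF cert) (nat_lit 1485000) (nat_lit 1000) = true := by decide +kernel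
theorem chkF_1486000 : allRangeF (checkFactF cert) (nat_lit 1486000) (nat_lit 1000) = true := by decide +kernel
theorem chkF_1487000 : allRangeF (checkFactF cert) (nat_lit 1487000) (nat_lit 1000) = true := by decide +kernel
theorem chkF_1488000 : allRangeF (checkFactF cert) (nat_lit 1488000) (nat_lit 1000) = true := by decide +kernel
theorem chkF_1489000 : allRangeF (checkFactF cert) (nat_lit 1489000) (nat_lit 1000) = true := by decide +kernel
theorem chkF_1490000 : allRangeF (checkFactF cert) (nat_lit 1490000) (nat_lit 1000) = true := by decide +kernel
theorem chkF_1491000 : allRangeF (checkFactF cert) (nat_lit 1491000) (nat_lit 1000) = true := by decide +kernel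
theorem chkF_1492000 : allRangeF (checkFactF cert) (nat_lit 1492000) (nat_lit 1000) = true := by decide +kernel
theorem chkF_1493000 : allRangeF (checkFactF cert) (nat_lit 1493000) (nat_lit 1000) = true := by decide +kernel
theorem chkF_1494000 : allRangeF (checkFactF cert) (nat_lit 1494000) (nat_lit 1000) = true := by decide +kernel
theorem chkF_1495000 : allRangeF (checkFactF cert) (nat_lit 1495000) (nat_lit 1000) = true := by decide +kernel
theorem chkF_1496000 : allRangeF (checkFactF cert) (nat_lit 1496000) (nat_lit 1000) = true := by decide +kernel
theorem chkF_1497000 : allRangeF (checkFactF cert) (nat_lit 1497000) (nat_lit 1000) = true := by decide +kernel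
theorem chkF_1498000 : allRangeF (checkFactF cert) (nat_lit 1498000) (nat_lit 1000) = true := by decide +kernel
theorem chkF_1499000 : allRangeF (checkFactF cert) (nat_lit 1499000) (nat_lit 1000) = true := by decide +kernel
theorem chkF_1500000 : allRangeF (checkFactF cert) (nat_lit 1500000) (nat_lit 1000) = true := by decide +kernel
theorem chkF_1501000 : allRangeF (checkFactF cert) (nat_lit 1501000) (nat_lit 1000) = true := by decide +kernel
theorem chkF_1502000 : allRangeF (checkFactF cert) (nat_lit 1502000) (nat_lit 1000) = true := by decide +kernel
theorem chkF_1503000 : allRangeF (checkFactF cert) (nat_lit 1503000) (nat_lit 1000) = true := by decide +kernel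
theorem chkF_1504000 : allRangeF (checkFactF cert) (nat_lit 1504000) (nat_lit 1000) = true := by decide +kernel
theorem chkF_1505000 : allRangeF (checkFactF cert) (nat_lit 1505000) (nat_lit 1000) = true := by decide +kernel
theorem chkF_1506000 : allRangeF (checkFactF cert) (nat_lit 1506000) (nat_lit 1000) = true := by decide +kernel
theorem chkF_1507000 : allRangeF (checkFactF cert) (nat_lit 1507000) (nat_lit 1000) = true := by decide +kernel
theorem chkF_1508000 : allRangeF (checkFactF cert) (nat_lit 1508000) (nat_lit 1000) = true := by decide +kernel
theorem chkF_1509000 : allRangeF (checkFactF cert) (nat_lit 1509000) (nat_lit 1000) = true := by decide +kernel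
theorem chkF_1510000 : allRangeF (checkFactF cert) (nat_lit 1510000) (nat_lit 1000) = true := by decide +kernel
theorem chkF_1511000 : allRangeF (checkFactF cert) (nat_lit 1511000) (nat_lit 1000) = true := by decide +kernel
theorem chkF_1512000 : allRangeF (checkFactF cert) (nat_lit 1512000) (nat_lit 1000) = true := by decide +kernel
theorem chkF_1513000 : allRangeF (checkFactF cert) (nat_lit 1513000) (nat_lit 1000) = true := by decide +kernel
theorem chkF_1514000 : allRangeF (checkFactF cert) (nat_lit 1514000) (nat_lit 1000) = true := by decide +kernel
theorem chkF_1515000 : allRangeF (checkFactF cert) (nat_lit 1515000) (nat_lit 1000) = true := by decide +kernel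
theorem chkF_1516000 : allRangeF (checkFactF cert) (nat_lit 1516000) (nat_lit 1000) = true := by decide +kernel
theorem chkF_1517000 : allRangeF (checkFactF cert) (nat_lit 1517000) (nat_lit 1000) = true := by decide +kernel
theorem chkF_1518000 : allRangeF (checkFactF cert) (nat_lit 1518000) (nat_lit 1000) = true := by decide +kernel
theorem chkF_1519000 : allRangeF (checkFactF cert) (nat_lit 1519000) (nat_lit 1000) = true := by decide +kernel
theorem chkF_1520000 : allRangeF (checkFactF cert) (nat_lit 1520000) (nat_lit 1000) = true := by decide +kernel
theorem chkF_1521000 : allRangeF (checkFactF cert) (nat_lit 1521000) (nat_lit 1000) = true := by decide +kernel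
theorem chkF_1522000 : allRangeF (checkFactF cert) (nat_lit 1522000) (nat_lit 1000) = true := by decide +kernel
theorem chkF_1523000 : allRangeF (checkFactF cert) (nat_lit 1523000) (nat_lit 1000) = true := by decide +kernel
theorem chkF_1524000 : allRangeF (checkFactF cert) (nat_lit 1524000) (nat_lit 1000) = true := by decide +kernel
theorem chkF_1525000 : allRangeF (checkFactF cert) (nat_lit 1525000) (nat_lit 1000) = true := by decide +kernel
theorem chkF_1526000 : allRangeF (checkFactF cert) (nat_lit 1526000) (nat_lit 1000) = true := by decide +kernel
theorem chkF_1527000 : allRangeF (checkFactF cert) (nat_lit 1527000) (nat_lit 1000) = true := by decide +kernel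
theorem chkF_1528000 : allRangeF (checkFactF cert) (nat_lit 1528000) (nat_lit 1000) = true := by decide +kernel
theorem chkF_1529000 : allRangeF (checkFactF cert) (nat_lit 1529000) (nat_lit 1000) = true := by decide +kernel
theorem chkF_1530000 : allRangeF (checkFactF cert) (nat_lit 1530000) (nat_lit 1000) = true := by decide +kernel
theorem chkF_1531000 : allRangeF (checkFactF cert) (nat_lit 1531000) (nat_lit 1000) = true := by decide +kernel
theorem chkF_1532000 : allRangeF (checkFactF cert) (nat_lit 1532000) (nat_lit 1000) = true := by decide +kernel
theorem chkF_1533000 : allRangeF (checkFactF cert) (nat_lit 1533000) (nat_lit 1000) = true := by decide +kernel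

theorem factsRange_12 : ∀ i, 1416000 ≤ i → i < 1534000 → checkFact cert i = true := by
  intro i hlo hhi
  rcases Nat.lt_or_ge i 1475000 with h1 | h1
  · skip
    rcases Nat.lt_or_ge i 1445000 with h2 | h2
    · skip
      rcases Nat.lt_or_ge i 1430000 with h3 | h3
      · skip
        rcases Nat.lt_or_ge i 1423000 with h4 | h4
        · skip
          rcases Nat.lt_or_ge i 1419000 with h5 | h5
          · skip
            rcases Nat.lt_or_ge i 1417000 with h6 | h6
            · skip
              exact allRangeF_sound _ _ (checkFactF_eq cert) 1416000 1000 chkF_1416000 i (by omega) (by omega)
            · skip
              rcases Nat.lt_or_ge i 1418000 with h7 | h7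
              · skip
                exact allRangeF_sound _ _ (checkFactF_eq cert) 1417000 1000 chkF_1417000 i (by omega) (by omega)
              · skip
                exact allRangeF_sound _ _ (checkFactF_eq cert) 1418000 1000 chkF_1418000 i (by omega) (by omega)
          · skip
            rcases Nat.lt_or_ge i 1421000 with h6 | h6
            · skip
              rcases Nat.lt_or_ge i 1420000 with h7 | h7
              · skip
                exact allRangeF_sound _ _ (checkFactF_eq cert) 1419000 1000 chkF_1419000 i (by omega) (by omega)
              · skip
                exact allRangeF_sound _ _ (checkFactF_eq cert) 1420000 1000 chkF_1420000 i (by omega) (by omega)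
            · skip
              rcases Nat.lt_or_ge i 1422000 with h7 | h7
              · skip
                exact allRangeF_sound _ _ (checkFactF_eq cert) 1421000 1000 chkF_1421000 i (by omega) (by omega)
              · skip
                exact allRangeF_sound _ _ (checkFactF_eq cert) 1422000 1000 chkF_1422000 i (by omega) (by omega)
        · skip
          rcases Nat.lt_or_ge i 1426000 with h5 | h5
          · skip
            rcases Nat.lt_or_ge i 1424000 with h6 | h6
            · skip
              exact allRangeF_sound _ _ (checkFactF_eq cert) 1423000 1000 chkF_1423000 i (by omega) (by omega)
            · skip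
              rcases Nat.lt_or_ge i 1425000 with h7 | h7
              · skip
                exact allRangeF_sound _ _ (checkFactF_eq cert) 1424000 1000 chkF_1424000 i (by omega) (by omega)
              · skip
                exact allRangeF_sound _ _ (checkFactF_eq cert) 1425000 1000 chkF_1425000 i (by omega) (by omega)
          · skip
            rcases Nat.lt_or_ge i 1428000 with h6 | h6
            · skip
              rcases Nat.lt_or_ge i 1427000 with h7 | h7
              · skip
                exact allRangeF_sound _ _ (checkFactF_eq cert) 1426000 1000 chkF_1426000 i (by omega) (by omega)
              · skip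
                exact allRangeF_sound _ _ (checkFactF_eq cert) 1427000 1000 chkF_1427000 i (by omega) (by omega)
            · skip
              rcases Nat.lt_or_ge i 1429000 with h7 | h7
              · skip
                exact allRangeF_sound _ _ (checkFactF_eq cert) 1428000 1000 chkF_1428000 i (by omega) (by omega)
              · skip
                exact allRangeF_sound _ _ (checkFactF_eq cert) 1429000 1000 chkF_1429000 i (by omega) (by omega)
      · skip
        rcases Nat.lt_or_ge i 1437000 with h4 | h4
        · skip
          rcases Nat.lt_or_ge i 1433000 with h5 | h5
          · skip
            rcases Nat.lt_or_ge i 1431000 with h6 | h6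
            · skip
              exact allRangeF_sound _ _ (checkFactF_eq cert) 1430000 1000 chkF_1430000 i (by omega) (by omega)
            · skip
              rcases Nat.lt_or_ge i 1432000 with h7 | h7
              · skip
                exact allRangeF_sound _ _ (checkFactF_eq cert) 1431000 1000 chkF_1431000 i (by omega) (by omega)
              · skip
                exact allRangeF_sound _ _ (checkFactF_eq cert) 1432000 1000 chkF_1432000 i (by omega) (by omega)
          · skip
            rcases Nat.lt_or_ge i 1435000 with h6 | h6
            · skip
              rcases Nat.lt_or_ge i 1434000 with h7 | h7
              · skip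
                exact allRangeF_sound _ _ (checkFactF_eq cert) 1433000 1000 chkF_1433000 i (by omega) (by omega)
              · skip
                exact allRangeF_sound _ _ (checkFactF_eq cert) 1434000 1000 chkF_1434000 i (by omega) (by omega)
            · skip
              rcases Nat.lt_or_ge i 1436000 with h7 | h7
              · skip
                exact allRangeF_sound _ _ (checkFactF_eq cert) 1435000 1000 chkF_1435000 i (by omega) (by omega)
              · skip
                exact allRangeF_sound _ _ (checkFactF_eq cert) 1436000 1000 chkF_1436000 i (by omega) (by omega)
        · skip
          rcases Nat.lt_or_ge i 1441000 with h5 | h5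
          · skip
            rcases Nat.lt_or_ge i 1439000 with h6 | h6
            · skip
              rcases Nat.lt_or_ge i 1438000 with h7 | h7
              · skip
                exact allRangeF_sound _ _ (checkFactF_eq cert) 1437000 1000 chkF_1437000 i (by omega) (by omega)
              · skip
                exact allRangeF_sound _ _ (checkFactF_eq cert) 1438000 1000 chkF_1438000 i (by omega) (by omega)
            · skip
              rcases Nat.lt_or_ge i 1440000 with h7 | h7
              · skip
                exact allRangeF_sound _ _ (checkFactF_eq cert) 1439000 1000 chkF_1439000 i (by omega) (by omega)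
              · skip
                exact allRangeF_sound _ _ (checkFactF_eq cert) 1440000 1000 chkF_1440000 i (by omega) (by omega)
          · skip
            rcases Nat.lt_or_ge i 1443000 with h6 | h6
            · skip
              rcases Nat.lt_or_ge i 1442000 with h7 | h7
              · skip
                exact allRangeF_sound _ _ (checkFactF_eq cert) 1441000 1000 chkF_1441000 i (by omega) (by omega)
              · skip
                exact allRangeF_sound _ _ (checkFactF_eq cert) 1442000 1000 chkF_1442000 i (by omega) (by omega)
            · skip
              rcases Nat.lt_or_ge i 1444000 with h7 | h7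
              · skip
                exact allRangeF_sound _ _ (checkFactF_eq cert) 1443000 1000 chkF_1443000 i (by omega) (by omega)
              · skip
                exact allRangeF_sound _ _ (checkFactF_eq cert) 1444000 1000 chkF_1444000 i (by omega) (by omega)
    · skip
      rcases Nat.lt_or_ge i 1460000 with h3 | h3
      · skip
        rcases Nat.lt_or_ge i 1452000 with h4 | h4
        · skip
          rcases Nat.lt_or_ge i 1448000 with h5 | h5
          · skip
            rcases Nat.lt_or_ge i 1446000 with h6 | h6
            · skip
              exact allRangeF_sound _ _ (checkFactF_eq cert) 1445000 1000 chkF_1445000 i (by omega) (by omega)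
            · skip
              rcases Nat.lt_or_ge i 1447000 with h7 | h7
              · skip
                exact allRangeF_sound _ _ (checkFactF_eq cert) 1446000 1000 chkF_1446000 i (by omega) (by omega)
              · skip
                exact allRangeF_sound _ _ (checkFactF_eq cert) 1447000 1000 chkF_1447000 i (by omega) (by omega)
          · skip
            rcases Nat.lt_or_ge i 1450000 with h6 | h6
            · skip
              rcases Nat.lt_or_ge i 1449000 with h7 | h7
              · skip
                exact allRangeF_sound _ _ (checkFactF_eq cert) 1448000 1000 chkF_1448000 i (by omega) (by omega)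
              · skip
                exact allRangeF_sound _ _ (checkFactF_eq cert) 1449000 1000 chkF_1449000 i (by omega) (by omega)
            · skip
              rcases Nat.lt_or_ge i 1451000 with h7 | h7
              · skip
                exact allRangeF_sound _ _ (checkFactF_eq cert) 1450000 1000 chkF_1450000 i (by omega) (by omega)
              · skip
                exact allRangeF_sound _ _ (checkFactF_eq cert) 1451000 1000 chkF_1451000 i (by omega) (by omega)
        · skip
          rcases Nat.lt_or_ge i 1456000 with h5 | h5
          · skip
            rcases Nat.lt_or_ge i 1454000 with h6 | h6
            · skip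
              rcases Nat.lt_or_ge i 1453000 with h7 | h7
              · skip
                exact allRangeF_sound _ _ (checkFactF_eq cert) 1452000 1000 chkF_1452000 i (by omega) (by omega)
              · skip
                exact allRangeF_sound _ _ (checkFactF_eq cert) 1453000 1000 chkF_1453000 i (by omega) (by omega)
            · skip
              rcases Nat.lt_or_ge i 1455000 with h7 | h7
              · skip
                exact allRangeF_sound _ _ (checkFactF_eq cert) 1454000 1000 chkF_1454000 i (by omega) (by omega)
              · skip
                exact allRangeF_sound _ _ (checkFactF_eq cert) 1455000 1000 chkF_1455000 i (by omega) (by omega)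
          · skip
            rcases Nat.lt_or_ge i 1458000 with h6 | h6
            · skip
              rcases Nat.lt_or_ge i 1457000 with h7 | h7
              · skip
                exact allRangeF_sound _ _ (checkFactF_eq cert) 1456000 1000 chkF_1456000 i (by omega) (by omega)
              · skip
                exact allRangeF_sound _ _ (checkFactF_eq cert) 1457000 1000 chkF_1457000 i (by omega) (by omega)
            · skip
              rcases Nat.lt_or_ge i 1459000 with h7 | h7
              · skip
                exact allRangeF_sound _ _ (checkFactF_eq cert) 1458000 1000 chkF_1458000 i (by omega) (by omega)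
              · skip
                exact allRangeF_sound _ _ (checkFactF_eq cert) 1459000 1000 chkF_1459000 i (by omega) (by omega)
      · skip
        rcases Nat.lt_or_ge i 1467000 with h4 | h4
        · skip
          rcases Nat.lt_or_ge i 1463000 with h5 | h5
          · skip
            rcases Nat.lt_or_ge i 1461000 with h6 | h6
            · skip
              exact allRangeF_sound _ _ (checkFactF_eq cert) 1460000 1000 chkF_1460000 i (by omega) (by omega)
            · skip
              rcases Nat.lt_or_ge i 1462000 with h7 | h7
              · skip
                exact allRangeF_sound _ _ (checkFactF_eq cert) 1461000 1000 chkF_1461000 i (by omega) (by omega)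
              · skip
                exact allRangeF_sound _ _ (checkFactF_eq cert) 1462000 1000 chkF_1462000 i (by omega) (by omega)
          · skip
            rcases Nat.lt_or_ge i 1465000 with h6 | h6
            · skip
              rcases Nat.lt_or_ge i 1464000 with h7 | h7
              · skip
                exact allRangeF_sound _ _ (checkFactF_eq cert) 1463000 1000 chkF_1463000 i (by omega) (by omega)
              · skip
                exact allRangeF_sound _ _ (checkFactF_eq cert) 1464000 1000 chkF_1464000 i (by omega) (by omega)
            · skip
              rcases Nat.lt_or_ge i 1466000 with h7 | h7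
              · skip
                exact allRangeF_sound _ _ (checkFactF_eq cert) 1465000 1000 chkF_1465000 i (by omega) (by omega)
              · skip
                exact allRangeF_sound _ _ (checkFactF_eq cert) 1466000 1000 chkF_1466000 i (by omega) (by omega)
        · skip
          rcases Nat.lt_or_ge i 1471000 with h5 | h5
          · skip
            rcases Nat.lt_or_ge i 1469000 with h6 | h6
            · skip
              rcases Nat.lt_or_ge i 1468000 with h7 | h7
              · skip
                exact allRangeF_sound _ _ (checkFactF_eq cert) 1467000 1000 chkF_1467000 i (by omega) (by omega)
              · skip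
                exact allRangeF_sound _ _ (checkFactF_eq cert) 1468000 1000 chkF_1468000 i (by omega) (by omega)
            · skip
              rcases Nat.lt_or_ge i 1470000 with h7 | h7
              · skip
                exact allRangeF_sound _ _ (checkFactF_eq cert) 1469000 1000 chkF_1469000 i (by omega) (by omega)
              · skip
                exact allRangeF_sound _ _ (checkFactF_eq cert) 1470000 1000 chkF_1470000 i (by omega) (by omega)
          · skip
            rcases Nat.lt_or_ge i 1473000 with h6 | h6
            · skip
              rcases Nat.lt_or_ge i 1472000 with h7 | h7
              · skip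
                exact allRangeF_sound _ _ (checkFactF_eq cert) 1471000 1000 chkF_1471000 i (by omega) (by omega)
              · skip
                exact allRangeF_sound _ _ (checkFactF_eq cert) 1472000 1000 chkF_1472000 i (by omega) (by omega)
            · skip
              rcases Nat.lt_or_ge i 1474000 with h7 | h7
              · skip
                exact allRangeF_sound _ _ (checkFactF_eq cert) 1473000 1000 chkF_1473000 i (by omega) (by omega)
              · skip
                exact allRangeF_sound _ _ (checkFactF_eq cert) 1474000 1000 chkF_1474000 i (by omega) (by omega)
  · skip
    rcases Nat.lt_or_ge i 1504000 with h2 | h2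
    · skip
      rcases Nat.lt_or_ge i 1489000 with h3 | h3
      · skip
        rcases Nat.lt_or_ge i 1482000 with h4 | h4
        · skip
          rcases Nat.lt_or_ge i 1478000 with h5 | h5
          · skip
            rcases Nat.lt_or_ge i 1476000 with h6 | h6
            · skip
              exact allRangeF_sound _ _ (checkFactF_eq cert) 1475000 1000 chkF_1475000 i (by omega) (by omega)
            · skip
              rcases Nat.lt_or_ge i 1477000 with h7 | h7
              · skip
                exact allRangeF_sound _ _ (checkFactF_eq cert) 1476000 1000 chkF_1476000 i (by omega) (by omega)
              · skip
                exact allRangeF_sound _ _ (checkFactF_eq cert) 1477000 1000 chkF_1477000 i (by omega) (by omega)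
          · skip
            rcases Nat.lt_or_ge i 1480000 with h6 | h6
            · skip
              rcases Nat.lt_or_ge i 1479000 with h7 | h7
              · skip
                exact allRangeF_sound _ _ (checkFactF_eq cert) 1478000 1000 chkF_1478000 i (by omega) (by omega)
              · skip
                exact allRangeF_sound _ _ (checkFactF_eq cert) 1479000 1000 chkF_1479000 i (by omega) (by omega)
            · skip
              rcases Nat.lt_or_ge i 1481000 with h7 | h7
              · skip
                exact allRangeF_sound _ _ (checkFactF_eq cert) 1480000 1000 chkF_1480000 i (by omega) (by omega)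
              · skip
                exact allRangeF_sound _ _ (checkFactF_eq cert) 1481000 1000 chkF_1481000 i (by omega) (by omega)
        · skip
          rcases Nat.lt_or_ge i 1485000 with h5 | h5
          · skip
            rcases Nat.lt_or_ge i 1483000 with h6 | h6
            · skip
              exact allRangeF_sound _ _ (checkFactF_eq cert) 1482000 1000 chkF_1482000 i (by omega) (by omega)
            · skip
              rcases Nat.lt_or_ge i 1484000 with h7 | h7
              · skip
                exact allRangeF_sound _ _ (checkFactF_eq cert) 1483000 1000 chkF_1483000 i (by omega) (by omega)
              · skip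
                exact allRangeF_sound _ _ (checkFactF_eq cert) 1484000 1000 chkF_1484000 i (by omega) (by omega)
          · skip
            rcases Nat.lt_or_ge i 1487000 with h6 | h6
            · skip
              rcases Nat.lt_or_ge i 1486000 with h7 | h7
              · skip
                exact allRangeF_sound _ _ (checkFactF_eq cert) 1485000 1000 chkF_1485000 i (by omega) (by omega)
              · skip
                exact allRangeF_sound _ _ (checkFactF_eq cert) 1486000 1000 chkF_1486000 i (by omega) (by omega)
            · skip
              rcases Nat.lt_or_ge i 1488000 with h7 | h7
              · skip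
                exact allRangeF_sound _ _ (checkFactF_eq cert) 1487000 1000 chkF_1487000 i (by omega) (by omega)
              · skip
                exact allRangeF_sound _ _ (checkFactF_eq cert) 1488000 1000 chkF_1488000 i (by omega) (by omega)
      · skip
        rcases Nat.lt_or_ge i 1496000 with h4 | h4
        · skip
          rcases Nat.lt_or_ge i 1492000 with h5 | h5
          · skip
            rcases Nat.lt_or_ge i 1490000 with h6 | h6
            · skip
              exact allRangeF_sound _ _ (checkFactF_eq cert) 1489000 1000 chkF_1489000 i (by omega) (by omega)
            · skip
              rcases Nat.lt_or_ge i 1491000 with h7 | h7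
              · skip
                exact allRangeF_sound _ _ (checkFactF_eq cert) 1490000 1000 chkF_1490000 i (by omega) (by omega)
              · skip
                exact allRangeF_sound _ _ (checkFactF_eq cert) 1491000 1000 chkF_1491000 i (by omega) (by omega)
          · skip
            rcases Nat.lt_or_ge i 1494000 with h6 | h6
            · skip
              rcases Nat.lt_or_ge i 1493000 with h7 | h7
              · skip
                exact allRangeF_sound _ _ (checkFactF_eq cert) 1492000 1000 chkF_1492000 i (by omega) (by omega)
              · skip
                exact allRangeF_sound _ _ (checkFactF_eq cert) 1493000 1000 chkF_1493000 i (by omega) (by omega)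
            · skip
              rcases Nat.lt_or_ge i 1495000 with h7 | h7
              · skip
                exact allRangeF_sound _ _ (checkFactF_eq cert) 1494000 1000 chkF_1494000 i (by omega) (by omega)
              · skip
                exact allRangeF_sound _ _ (checkFactF_eq cert) 1495000 1000 chkF_1495000 i (by omega) (by omega)
        · skip
          rcases Nat.lt_or_ge i 1500000 with h5 | h5
          · skip
            rcases Nat.lt_or_ge i 1498000 with h6 | h6
            · skip
              rcases Nat.lt_or_ge i 1497000 with h7 | h7
              · skip
                exact allRangeF_sound _ _ (checkFactF_eq cert) 1496000 1000 chkF_1496000 i (by omega) (by omega)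
              · skip
                exact allRangeF_sound _ _ (checkFactF_eq cert) 1497000 1000 chkF_1497000 i (by omega) (by omega)
            · skip
              rcases Nat.lt_or_ge i 1499000 with h7 | h7
              · skip
                exact allRangeF_sound _ _ (checkFactF_eq cert) 1498000 1000 chkF_1498000 i (by omega) (by omega)
              · skip
                exact allRangeF_sound _ _ (checkFactF_eq cert) 1499000 1000 chkF_1499000 i (by omega) (by omega)
          · skip
            rcases Nat.lt_or_ge i 1502000 with h6 | h6
            · skip
              rcases Nat.lt_or_ge i 1501000 with h7 | h7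
              · skip
                exact allRangeF_sound _ _ (checkFactF_eq cert) 1500000 1000 chkF_1500000 i (by omega) (by omega)
              · skip
                exact allRangeF_sound _ _ (checkFactF_eq cert) 1501000 1000 chkF_1501000 i (by omega) (by omega)
            · skip
              rcases Nat.lt_or_ge i 1503000 with h7 | h7
              · skip
                exact allRangeF_sound _ _ (checkFactF_eq cert) 1502000 1000 chkF_1502000 i (by omega) (by omega)
              · skip
                exact allRangeF_sound _ _ (checkFactF_eq cert) 1503000 1000 chkF_1503000 i (by omega) (by omega)
    · skip
      rcases Nat.lt_or_ge i 1519000 with h3 | h3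
      · skip
        rcases Nat.lt_or_ge i 1511000 with h4 | h4
        · skip
          rcases Nat.lt_or_ge i 1507000 with h5 | h5
          · skip
            rcases Nat.lt_or_ge i 1505000 with h6 | h6
            · skip
              exact allRangeF_sound _ _ (checkFactF_eq cert) 1504000 1000 chkF_1504000 i (by omega) (by omega)
            · skip
              rcases Nat.lt_or_ge i 1506000 with h7 | h7
              · skip
                exact allRangeF_sound _ _ (checkFactF_eq cert) 1505000 1000 chkF_1505000 i (by omega) (by omega)
              · skip
                exact allRangeF_sound _ _ (checkFactF_eq cert) 1506000 1000 chkF_1506000 i (by omega) (by omega)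
          · skip
            rcases Nat.lt_or_ge i 1509000 with h6 | h6
            · skip
              rcases Nat.lt_or_ge i 1508000 with h7 | h7
              · skip
                exact allRangeF_sound _ _ (checkFactF_eq cert) 1507000 1000 chkF_1507000 i (by omega) (by omega)
              · skip
                exact allRangeF_sound _ _ (checkFactF_eq cert) 1508000 1000 chkF_1508000 i (by omega) (by omega)
            · skip
              rcases Nat.lt_or_ge i 1510000 with h7 | h7
              · skip
                exact allRangeF_sound _ _ (checkFactF_eq cert) 1509000 1000 chkF_1509000 i (by omega) (by omega)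
              · skip
                exact allRangeF_sound _ _ (checkFactF_eq cert) 1510000 1000 chkF_1510000 i (by omega) (by omega)
        · skip
          rcases Nat.lt_or_ge i 1515000 with h5 | h5
          · skip
            rcases Nat.lt_or_ge i 1513000 with h6 | h6
            · skip
              rcases Nat.lt_or_ge i 1512000 with h7 | h7
              · skip
                exact allRangeF_sound _ _ (checkFactF_eq cert) 1511000 1000 chkF_1511000 i (by omega) (by omega)
              · skip
                exact allRangeF_sound _ _ (checkFactF_eq cert) 1512000 1000 chkF_1512000 i (by omega) (by omega)
            · skip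
              rcases Nat.lt_or_ge i 1514000 with h7 | h7
              · skip
                exact allRangeF_sound _ _ (checkFactF_eq cert) 1513000 1000 chkF_1513000 i (by omega) (by omega)
              · skip
                exact allRangeF_sound _ _ (checkFactF_eq cert) 1514000 1000 chkF_1514000 i (by omega) (by omega)
          · skip
            rcases Nat.lt_or_ge i 1517000 with h6 | h6
            · skip
              rcases Nat.lt_or_ge i 1516000 with h7 | h7
              · skip
                exact allRangeF_sound _ _ (checkFactF_eq cert) 1515000 1000 chkF_1515000 i (by omega) (by omega)
              · skip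
                exact allRangeF_sound _ _ (checkFactF_eq cert) 1516000 1000 chkF_1516000 i (by omega) (by omega)
            · skip
              rcases Nat.lt_or_ge i 1518000 with h7 | h7
              · skip
                exact allRangeF_sound _ _ (checkFactF_eq cert) 1517000 1000 chkF_1517000 i (by omega) (by omega)
              · skip
                exact allRangeF_sound _ _ (checkFactF_eq cert) 1518000 1000 chkF_1518000 i (by omega) (by omega)
      · skip
        rcases Nat.lt_or_ge i 1526000 with h4 | h4
        · skip
          rcases Nat.lt_or_ge i 1522000 with h5 | h5
          · skip
            rcases Nat.lt_or_ge i 1520000 with h6 | h6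
            · skip
              exact allRangeF_sound _ _ (checkFactF_eq cert) 1519000 1000 chkF_1519000 i (by omega) (by omega)
            · skip
              rcases Nat.lt_or_ge i 1521000 with h7 | h7
              · skip
                exact allRangeF_sound _ _ (checkFactF_eq cert) 1520000 1000 chkF_1520000 i (by omega) (by omega)
              · skip
                exact allRangeF_sound _ _ (checkFactF_eq cert) 1521000 1000 chkF_1521000 i (by omega) (by omega)
          · skip
            rcases Nat.lt_or_ge i 1524000 with h6 | h6
            · skip
              rcases Nat.lt_or_ge i 1523000 with h7 | h7
              · skip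
                exact allRangeF_sound _ _ (checkFactF_eq cert) 1522000 1000 chkF_1522000 i (by omega) (by omega)
              · skip
                exact allRangeF_sound _ _ (checkFactF_eq cert) 1523000 1000 chkF_1523000 i (by omega) (by omega)
            · skip
              rcases Nat.lt_or_ge i 1525000 with h7 | h7
              · skip
                exact allRangeF_sound _ _ (checkFactF_eq cert) 1524000 1000 chkF_1524000 i (by omega) (by omega)
              · skip
                exact allRangeF_sound _ _ (checkFactF_eq cert) 1525000 1000 chkF_1525000 i (by omega) (by omega)
        · skip
          rcases Nat.lt_or_ge i 1530000 with h5 | h5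
          · skip
            rcases Nat.lt_or_ge i 1528000 with h6 | h6
            · skip
              rcases Nat.lt_or_ge i 1527000 with h7 | h7
              · skip
                exact allRangeF_sound _ _ (checkFactF_eq cert) 1526000 1000 chkF_1526000 i (by omega) (by omega)
              · skip
                exact allRangeF_sound _ _ (checkFactF_eq cert) 1527000 1000 chkF_1527000 i (by omega) (by omega)
            · skip
              rcases Nat.lt_or_ge i 1529000 with h7 | h7
              · skip
                exact allRangeF_sound _ _ (checkFactF_eq cert) 1528000 1000 chkF_1528000 i (by omega) (by omega)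
              · skip
                exact allRangeF_sound _ _ (checkFactF_eq cert) 1529000 1000 chkF_1529000 i (by omega) (by omega)
          · skip
            rcases Nat.lt_or_ge i 1532000 with h6 | h6
            · skip
              rcases Nat.lt_or_ge i 1531000 with h7 | h7
              · skip
                exact allRangeF_sound _ _ (checkFactF_eq cert) 1530000 1000 chkF_1530000 i (by omega) (by omega)
              · skip
                exact allRangeF_sound _ _ (checkFactF_eq cert) 1531000 1000 chkF_1531000 i (by omega) (by omega)
            · skip
              rcases Nat.lt_or_ge i 1533000 with h7 | h7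
              · skip
                exact allRangeF_sound _ _ (checkFactF_eq cert) 1532000 1000 chkF_1532000 i (by omega) (by omega)
              · skip
                exact allRangeF_sound _ _ (checkFactF_eq cert) 1533000 1000 chkF_1533000 i (by omega) (by omega)

end Cfsg.Agent.Lib.Helper28.He2Data
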