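import Cfsg.Agent.Lib.Helper28.He2Data
import Cfsg.Agent.Lib.Helper28.TCFastF

set_option autoImplicit false
set_option maxRecDepth 1000000
set_option linter.all false
set_option Elab.async false

namespace Cfsg.Agent.Lib.Helper28.He2Data

open Cfsg.Agent.Lib.Helper28

theorem chkF_236000 : allRangeF (checkFactF cert) (nat_lit 236000) (nat_lit 1000) = true := by decide +kernel
theorem chkF_237000 : allRangeF (checkFactF cert) (nat_lit 237000) (nat_lit 1000) = true := by decide +kernel
theorem chkF_238000 : allRangeF (checkFactF cert) (nat_lit 238000) (nat_lit 1000) = true := by decide +kernel
theorem chkF_239000 : allRangeF (checkFactF cert) (nat_lit 239000) (nat_lit 1000) = true := by decide +kernel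
theorem chkF_240000 : allRangeF (checkFactF cert) (nat_lit 240000) (nat_lit 1000) = true := by decide +kernel
theorem chkF_241000 : allRangeF (checkFactF cert) (nat_lit 241000) (nat_lit 1000) = true := by decide +kernel
theorem chkF_242000 : allRangeF (checkFactF cert) (nat_lit 242000) (nat_lit 1000) = true := by decide +kernel
theorem chkF_243000 : allRangeF (checkFactF cert) (nat_lit 243000) (nat_lit 1000) = true := by decide +kernel
theorem chkF_244000 : allRangeF (checkFactF cert) (nat_lit 244000) (nat_lit 1000) = true := by decide +kernel
theorem chkF_245000 : allRangeF (checkFactF cert) (nat_lit 245000) (nat_lit 1000) = true := by decide +kernel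
theorem chkF_246000 : allRangeF (checkFactF cert) (nat_lit 246000) (nat_lit 1000) = true := by decide +kernel
theorem chkF_247000 : allRangeF (checkFactF cert) (nat_lit 247000) (nat_lit 1000) = true := by decide +kernel
theorem chkF_248000 : allRangeF (checkFactF cert) (nat_lit 248000) (nat_lit 1000) = true := by decide +kernel
theorem chkF_249000 : allRangeF (checkFactF cert) (nat_lit 249000) (nat_lit 1000) = true := by decide +kernel
theorem chkF_250000 : allRangeF (checkFactF cert) (nat_lit 250000) (nat_lit 1000) = true := by decide +kernel
theorem chkF_251000 : allRangeF (checkFactF cert) (nat_lit 251000) (nat_lit 1000) = true := by decide +kernel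
theorem chkF_252000 : allRangeF (checkFactF cert) (nat_lit 252000) (nat_lit 1000) = true := by decide +kernel
theorem chkF_253000 : allRangeF (checkFactF cert) (nat_lit 253000) (nat_lit 1000) = true := by decide +kernel
theorem chkF_254000 : allRangeF (checkFactF cert) (nat_lit 254000) (nat_lit 1000) = true := by decide +kernel
theorem chkF_255000 : allRangeF (checkFactF cert) (nat_lit 255000) (nat_lit 1000) = true := by decide +kernel
theorem chkF_256000 : allRangeF (checkFactF cert) (nat_lit 256000) (nat_lit 1000) = true := by decide +kernel
theorem chkF_257000 : allRangeF (checkFactF cert) (nat_lit 257000) (nat_lit 1000) = true := by decide +kernel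
theorem chkF_258000 : allRangeF (checkFactF cert) (nat_lit 258000) (nat_lit 1000) = true := by decide +kernel
theorem chkF_259000 : allRangeF (checkFactF cert) (nat_lit 259000) (nat_lit 1000) = true := by decide +kernel
theorem chkF_260000 : allRangeF (checkFactF cert) (nat_lit 260000) (nat_lit 1000) = true := by decide +kernel
theorem chkF_261000 : allRangeF (checkFactF cert) (nat_lit 261000) (nat_lit 1000) = true := by decide +kernel
theorem chkF_262000 : allRangeF (checkFactF cert) (nat_lit 262000) (nat_lit 1000) = true := by decide +kernel
theorem chkF_263000 : allRangeF (checkFactF cert) (nat_lit 263000) (nat_lit 1000) = true := by decide +kernel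
theorem chkF_264000 : allRangeF (checkFactF cert) (nat_lit 264000) (nat_lit 1000) = true := by decide +kernel
theorem chkF_265000 : allRangeF (checkFactF cert) (nat_lit 265000) (nat_lit 1000) = true := by decide +kernel
theorem chkF_266000 : allRangeF (checkFactF cert) (nat_lit 266000) (nat_lit 1000) = true := by decide +kernel
theorem chkF_267000 : allRangeF (checkFactF cert) (nat_lit 267000) (nat_lit 1000) = true := by decide +kernel
theorem chkF_268000 : allRangeF (checkFactF cert) (nat_lit 268000) (nat_lit 1000) = true := by decide +kernel
theorem chkF_269000 : allRangeF (checkFactF cert) (nat_lit 269000) (nat_lit 1000) = true := by decide +kernel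
theorem chkF_270000 : allRangeF (checkFactF cert) (nat_lit 270000) (nat_lit 1000) = true := by decide +kernel
theorem chkF_271000 : allRangeF (checkFactF cert) (nat_lit 271000) (nat_lit 1000) = true := by decide +kernel
theorem chkF_272000 : allRangeF (checkFactF cert) (nat_lit 272000) (nat_lit 1000) = true := by decide +kernel
theorem chkF_273000 : allRangeF (checkFactF cert) (nat_lit 273000) (nat_lit 1000) = true := by decide +kernel
theorem chkF_274000 : allRangeF (checkFactF cert) (nat_lit 274000) (nat_lit 1000) = true := by decide +kernel
theorem chkF_275000 : allRangeF (checkFactF cert) (nat_lit 275000) (nat_lit 1000) = true := by decide +kernel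
theorem chkF_276000 : allRangeF (checkFactF cert) (nat_lit 276000) (nat_lit 1000) = true := by decide +kernel
theorem chkF_277000 : allRangeF (checkFactF cert) (nat_lit 277000) (nat_lit 1000) = true := by decide +kernel
theorem chkF_278000 : allRangeF (checkFactF cert) (nat_lit 278000) (nat_lit 1000) = true := by decide +kernel
theorem chkF_279000 : allRangeF (checkFactF cert) (nat_lit 279000) (nat_lit 1000) = true := by decide +kernel
theorem chkF_280000 : allRangeF (checkFactF cert) (nat_lit 280000) (nat_lit 1000) = true := by decide +kernel
theorem chkF_281000 : allRangeF (checkFactF cert) (nat_lit 281000) (nat_lit 1000) = true := by decide +kernel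
theorem chkF_282000 : allRangeF (checkFactF cert) (nat_lit 282000) (nat_lit 1000) = true := by decide +kernel
theorem chkF_283000 : allRangeF (checkFactF cert) (nat_lit 283000) (nat_lit 1000) = true := by decide +kernel
theorem chkF_284000 : allRangeF (checkFactF cert) (nat_lit 284000) (nat_lit 1000) = true := by decide +kernel
theorem chkF_285000 : allRangeF (checkFactF cert) (nat_lit 285000) (nat_lit 1000) = true := by decide +kernel
theorem chkF_286000 : allRangeF (checkFactF cert) (nat_lit 286000) (nat_lit 1000) = true := by decide +kernel
theorem chkF_287000 : allRangeF (checkFactF cert) (nat_lit 287000) (nat_lit 1000) = true := by decide +kernel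
theorem chkF_288000 : allRangeF (checkFactF cert) (nat_lit 288000) (nat_lit 1000) = true := by decide +kernel
theorem chkF_289000 : allRangeF (checkFactF cert) (nat_lit 289000) (nat_lit 1000) = true := by decide +kernel
theorem chkF_290000 : allRangeF (checkFactF cert) (nat_lit 290000) (nat_lit 1000) = true := by decide +kernel
theorem chkF_291000 : allRangeF (checkFactF cert) (nat_lit 291000) (nat_lit 1000) = true := by decide +kernel
theorem chkF_292000 : allRangeF (checkFactF cert) (nat_lit 292000) (nat_lit 1000) = true := by decide +kernel
theorem chkF_293000 : allRangeF (checkFactF cert) (nat_lit 293000) (nat_lit 1000) = true := by decide +kernel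
theorem chkF_294000 : allRangeF (checkFactF cert) (nat_lit 294000) (nat_lit 1000) = true := by decide +kernel
theorem chkF_295000 : allRangeF (checkFactF cert) (nat_lit 295000) (nat_lit 1000) = true := by decide +kernel
theorem chkF_296000 : allRangeF (checkFactF cert) (nat_lit 296000) (nat_lit 1000) = true := by decide +kernel
theorem chkF_297000 : allRangeF (checkFactF cert) (nat_lit 297000) (nat_lit 1000) = true := by decide +kernel
theorem chkF_298000 : allRangeF (checkFactF cert) (nat_lit 298000) (nat_lit 1000) = true := by decide +kernel
theorem chkF_299000 : allRangeF (checkFactF cert) (nat_lit 299000) (nat_lit 1000) = true := by decide +kernel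
theorem chkF_300000 : allRangeF (checkFactF cert) (nat_lit 300000) (nat_lit 1000) = true := by decide +kernel
theorem chkF_301000 : allRangeF (checkFactF cert) (nat_lit 301000) (nat_lit 1000) = true := by decide +kernel
theorem chkF_302000 : allRangeF (checkFactF cert) (nat_lit 302000) (nat_lit 1000) = true := by decide +kernel
theorem chkF_303000 : allRangeF (checkFactF cert) (nat_lit 303000) (nat_lit 1000) = true := by decide +kernel
theorem chkF_304000 : allRangeF (checkFactF cert) (nat_lit 304000) (nat_lit 1000) = true := by decide +kernel
theorem chkF_305000 : allRangeF (checkFactF cert) (nat_lit 305000) (nat_lit 1000) = true := by decide +kernel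
theorem chkF_306000 : allRangeF (checkFactF cert) (nat_lit 306000) (nat_lit 1000) = true := by decide +kernel
theorem chkF_307000 : allRangeF (checkFactF cert) (nat_lit 307000) (nat_lit 1000) = true := by decide +kernel
theorem chkF_308000 : allRangeF (checkFactF cert) (nat_lit 308000) (nat_lit 1000) = true := by decide +kernel
theorem chkF_309000 : allRangeF (checkFactF cert) (nat_lit 309000) (nat_lit 1000) = true := by decide +kernel
theorem chkF_310000 : allRangeF (checkFactF cert) (nat_lit 310000) (nat_lit 1000) = true := by decide +kernel
theorem chkF_311000 : allRangeF (checkFactF cert) (nat_lit 311000) (nat_lit 1000) = true := by decide +kernel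
theorem chkF_312000 : allRangeF (checkFactF cert) (nat_lit 312000) (nat_lit 1000) = true := by decide +kernel
theorem chkF_313000 : allRangeF (checkFactF cert) (nat_lit 313000) (nat_lit 1000) = true := by decide +kernel
theorem chkF_314000 : allRangeF (checkFactF cert) (nat_lit 314000) (nat_lit 1000) = true := by decide +kernel
theorem chkF_315000 : allRangeF (checkFactF cert) (nat_lit 315000) (nat_lit 1000) = true := by decide +kernel
theorem chkF_316000 : allRangeF (checkFactF cert) (nat_lit 316000) (nat_lit 1000) = true := by decide +kernel
theorem chkF_317000 : allRangeF (checkFactF cert) (nat_lit 317000) (nat_lit 1000) = true := by decide +kernel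
theorem chkF_318000 : allRangeF (checkFactF cert) (nat_lit 318000) (nat_lit 1000) = true := by decide +kernel
theorem chkF_319000 : allRangeF (checkFactF cert) (nat_lit 319000) (nat_lit 1000) = true := by decide +kernel
theorem chkF_320000 : allRangeF (checkFactF cert) (nat_lit 320000) (nat_lit 1000) = true := by decide +kernel
theorem chkF_321000 : allRangeF (checkFactF cert) (nat_lit 321000) (nat_lit 1000) = true := by decide +kernel
theorem chkF_322000 : allRangeF (checkFactF cert) (nat_lit 322000) (nat_lit 1000) = true := by decide +kernel
theorem chkF_323000 : allRangeF (checkFactF cert) (nat_lit 323000) (nat_lit 1000) = true := by decide +kernel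
theorem chkF_324000 : allRangeF (checkFactF cert) (nat_lit 324000) (nat_lit 1000) = true := by decide +kernel
theorem chkF_325000 : allRangeF (checkFactF cert) (nat_lit 325000) (nat_lit 1000) = true := by decide +kernel
theorem chkF_326000 : allRangeF (checkFactF cert) (nat_lit 326000) (nat_lit 1000) = true := by decide +kernel
theorem chkF_327000 : allRangeF (checkFactF cert) (nat_lit 327000) (nat_lit 1000) = true := by decide +kernel
theorem chkF_328000 : allRangeF (checkFactF cert) (nat_lit 328000) (nat_lit 1000) = true := by decide +kernel
theorem chkF_329000 : allRangeF (checkFactF cert) (nat_lit 329000) (nat_lit 1000) = true := by decide +kernel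
theorem chkF_330000 : allRangeF (checkFactF cert) (nat_lit 330000) (nat_lit 1000) = true := by decide +kernel
theorem chkF_331000 : allRangeF (checkFactF cert) (nat_lit 331000) (nat_lit 1000) = true := by decide +kernel
theorem chkF_332000 : allRangeF (checkFactF cert) (nat_lit 332000) (nat_lit 1000) = true := by decide +kernel
theorem chkF_333000 : allRangeF (checkFactF cert) (nat_lit 333000) (nat_lit 1000) = true := by decide +kernel
theorem chkF_334000 : allRangeF (checkFactF cert) (nat_lit 334000) (nat_lit 1000) = true := by decide +kernel
theorem chkF_335000 : allRangeF (checkFactF cert) (nat_lit 335000) (nat_lit 1000) = true := by decide +kernel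
theorem chkF_336000 : allRangeF (checkFactF cert) (nat_lit 336000) (nat_lit 1000) = true := by decide +kernel
theorem chkF_337000 : allRangeF (checkFactF cert) (nat_lit 337000) (nat_lit 1000) = true := by decide +kernel
theorem chkF_338000 : allRangeF (checkFactF cert) (nat_lit 338000) (nat_lit 1000) = true := by decide +kernel
theorem chkF_339000 : allRangeF (checkFactF cert) (nat_lit 339000) (nat_lit 1000) = true := by decide +kernel
theorem chkF_340000 : allRangeF (checkFactF cert) (nat_lit 340000) (nat_lit 1000) = true := by decide +kernel
theorem chkF_341000 : allRangeF (checkFactF cert) (nat_lit 341000) (nat_lit 1000) = true := by decide +kernel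
theorem chkF_342000 : allRangeF (checkFactF cert) (nat_lit 342000) (nat_lit 1000) = true := by decide +kernel
theorem chkF_343000 : allRangeF (checkFactF cert) (nat_lit 343000) (nat_lit 1000) = true := by decide +kernel
theorem chkF_344000 : allRangeF (checkFactF cert) (nat_lit 344000) (nat_lit 1000) = true := by decide +kernel
theorem chkF_345000 : allRangeF (checkFactF cert) (nat_lit 345000) (nat_lit 1000) = true := by decide +kernel
theorem chkF_346000 : allRangeF (checkFactF cert) (nat_lit 346000) (nat_lit 1000) = true := by decide +kernel
theorem chkF_347000 : allRangeF (checkFactF cert) (nat_lit 347000) (nat_lit 1000) = true := by decide +kernel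
theorem chkF_348000 : allRangeF (checkFactF cert) (nat_lit 348000) (nat_lit 1000) = true := by decide +kernel
theorem chkF_349000 : allRangeF (checkFactF cert) (nat_lit 349000) (nat_lit 1000) = true := by decide +kernel
theorem chkF_350000 : allRangeF (checkFactF cert) (nat_lit 350000) (nat_lit 1000) = true := by decide +kernel
theorem chkF_351000 : allRangeF (checkFactF cert) (nat_lit 351000) (nat_lit 1000) = true := by decide +kernel
theorem chkF_352000 : allRangeF (checkFactF cert) (nat_lit 352000) (nat_lit 1000) = true := by decide +kernel
theorem chkF_353000 : allRangeF (checkFactF cert) (nat_lit 353000) (nat_lit 1000) = true := by decide +kernel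

theorem factsRange_2 : ∀ i, 236000 ≤ i → i < 354000 → checkFact cert i = true := by
  intro i hlo hhi
  rcases Nat.lt_or_ge i 295000 with h1 | h1
  · skip
    rcases Nat.lt_or_ge i 265000 with h2 | h2
    · skip
      rcases Nat.lt_or_ge i 250000 with h3 | h3
      · skip
        rcases Nat.lt_or_ge i 243000 with h4 | h4
        · skip
          rcases Nat.lt_or_ge i 239000 with h5 | h5
          · skip
            rcases Nat.lt_or_ge i 237000 with h6 | h6
            · skip
              exact allRangeF_sound _ _ (checkFactF_eq cert) 236000 1000 chkF_236000 i (by omega) (by omega)
            · skip
              rcases Nat.lt_or_ge i 238000 with h7 | h7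
              · skip
                exact allRangeF_sound _ _ (checkFactF_eq cert) 237000 1000 chkF_237000 i (by omega) (by omega)
              · skip
                exact allRangeF_sound _ _ (checkFactF_eq cert) 238000 1000 chkF_238000 i (by omega) (by omega)
          · skip
            rcases Nat.lt_or_ge i 241000 with h6 | h6
            · skip
              rcases Nat.lt_or_ge i 240000 with h7 | h7
              · skip
                exact allRangeF_sound _ _ (checkFactF_eq cert) 239000 1000 chkF_239000 i (by omega) (by omega)
              · skip
                exact allRangeF_sound _ _ (checkFactF_eq cert) 240000 1000 chkF_240000 i (by omega) (by omega)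
            · skip
              rcases Nat.lt_or_ge i 242000 with h7 | h7
              · skip
                exact allRangeF_sound _ _ (checkFactF_eq cert) 241000 1000 chkF_241000 i (by omega) (by omega)
              · skip
                exact allRangeF_sound _ _ (checkFactF_eq cert) 242000 1000 chkF_242000 i (by omega) (by omega)
        · skip
          rcases Nat.lt_or_ge i 246000 with h5 | h5
          · skip
            rcases Nat.lt_or_ge i 244000 with h6 | h6
            · skip
              exact allRangeF_sound _ _ (checkFactF_eq cert) 243000 1000 chkF_243000 i (by omega) (by omega)
            · skip
              rcases Nat.lt_or_ge i 245000 with h7 | h7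
              · skip
                exact allRangeF_sound _ _ (checkFactF_eq cert) 244000 1000 chkF_244000 i (by omega) (by omega)
              · skip
                exact allRangeF_sound _ _ (checkFactF_eq cert) 245000 1000 chkF_245000 i (by omega) (by omega)
          · skip
            rcases Nat.lt_or_ge i 248000 with h6 | h6
            · skip
              rcases Nat.lt_or_ge i 247000 with h7 | h7
              · skip
                exact allRangeF_sound _ _ (checkFactF_eq cert) 246000 1000 chkF_246000 i (by omega) (by omega)
              · skip
                exact allRangeF_sound _ _ (checkFactF_eq cert) 247000 1000 chkF_247000 i (by omega) (by omega)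
            · skip
              rcases Nat.lt_or_ge i 249000 with h7 | h7
              · skip
                exact allRangeF_sound _ _ (checkFactF_eq cert) 248000 1000 chkF_248000 i (by omega) (by omega)
              · skip
                exact allRangeF_sound _ _ (checkFactF_eq cert) 249000 1000 chkF_249000 i (by omega) (by omega)
      · skip
        rcases Nat.lt_or_ge i 257000 with h4 | h4
        · skip
          rcases Nat.lt_or_ge i 253000 with h5 | h5
          · skip
            rcases Nat.lt_or_ge i 251000 with h6 | h6
            · skip
              exact allRangeF_sound _ _ (checkFactF_eq cert) 250000 1000 chkF_250000 i (by omega) (by omega)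
            · skip
              rcases Nat.lt_or_ge i 252000 with h7 | h7
              · skip
                exact allRangeF_sound _ _ (checkFactF_eq cert) 251000 1000 chkF_251000 i (by omega) (by omega)
              · skip
                exact allRangeF_sound _ _ (checkFactF_eq cert) 252000 1000 chkF_252000 i (by omega) (by omega)
          · skip
            rcases Nat.lt_or_ge i 255000 with h6 | h6
            · skip
              rcases Nat.lt_or_ge i 254000 with h7 | h7
              · skip
                exact allRangeF_sound _ _ (checkFactF_eq cert) 253000 1000 chkF_253000 i (by omega) (by omega)
              · skip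
                exact allRangeF_sound _ _ (checkFactF_eq cert) 254000 1000 chkF_254000 i (by omega) (by omega)
            · skip
              rcases Nat.lt_or_ge i 256000 with h7 | h7
              · skip
                exact allRangeF_sound _ _ (checkFactF_eq cert) 255000 1000 chkF_255000 i (by omega) (by omega)
              · skip
                exact allRangeF_sound _ _ (checkFactF_eq cert) 256000 1000 chkF_256000 i (by omega) (by omega)
        · skip
          rcases Nat.lt_or_ge i 261000 with h5 | h5
          · skip
            rcases Nat.lt_or_ge i 259000 with h6 | h6
            · skip
              rcases Nat.lt_or_ge i 258000 with h7 | h7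
              · skip
                exact allRangeF_sound _ _ (checkFactF_eq cert) 257000 1000 chkF_257000 i (by omega) (by omega)
              · skip
                exact allRangeF_sound _ _ (checkFactF_eq cert) 258000 1000 chkF_258000 i (by omega) (by omega)
            · skip
              rcases Nat.lt_or_ge i 260000 with h7 | h7
              · skip
                exact allRangeF_sound _ _ (checkFactF_eq cert) 259000 1000 chkF_259000 i (by omega) (by omega)
              · skip
                exact allRangeF_sound _ _ (checkFactF_eq cert) 260000 1000 chkF_260000 i (by omega) (by omega)
          · skip
            rcases Nat.lt_or_ge i 263000 with h6 | h6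
            · skip
              rcases Nat.lt_or_ge i 262000 with h7 | h7
              · skip
                exact allRangeF_sound _ _ (checkFactF_eq cert) 261000 1000 chkF_261000 i (by omega) (by omega)
              · skip
                exact allRangeF_sound _ _ (checkFactF_eq cert) 262000 1000 chkF_262000 i (by omega) (by omega)
            · skip
              rcases Nat.lt_or_ge i 264000 with h7 | h7
              · skip
                exact allRangeF_sound _ _ (checkFactF_eq cert) 263000 1000 chkF_263000 i (by omega) (by omega)
              · skip
                exact allRangeF_sound _ _ (checkFactF_eq cert) 264000 1000 chkF_264000 i (by omega) (by omega)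
    · skip
      rcases Nat.lt_or_ge i 280000 with h3 | h3
      · skip
        rcases Nat.lt_or_ge i 272000 with h4 | h4
        · skip
          rcases Nat.lt_or_ge i 268000 with h5 | h5
          · skip
            rcases Nat.lt_or_ge i 266000 with h6 | h6
            · skip
              exact allRangeF_sound _ _ (checkFactF_eq cert) 265000 1000 chkF_265000 i (by omega) (by omega)
            · skip
              rcases Nat.lt_or_ge i 267000 with h7 | h7
              · skip
                exact allRangeF_sound _ _ (checkFactF_eq cert) 266000 1000 chkF_266000 i (by omega) (by omega)
              · skip
                exact allRangeF_sound _ _ (checkFactF_eq cert) 267000 1000 chkF_267000 i (by omega) (by omega)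
          · skip
            rcases Nat.lt_or_ge i 270000 with h6 | h6
            · skip
              rcases Nat.lt_or_ge i 269000 with h7 | h7
              · skip
                exact allRangeF_sound _ _ (checkFactF_eq cert) 268000 1000 chkF_268000 i (by omega) (by omega)
              · skip
                exact allRangeF_sound _ _ (checkFactF_eq cert) 269000 1000 chkF_269000 i (by omega) (by omega)
            · skip
              rcases Nat.lt_or_ge i 271000 with h7 | h7
              · skip
                exact allRangeF_sound _ _ (checkFactF_eq cert) 270000 1000 chkF_270000 i (by omega) (by omega)
              · skip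
                exact allRangeF_sound _ _ (checkFactF_eq cert) 271000 1000 chkF_271000 i (by omega) (by omega)
        · skip
          rcases Nat.lt_or_ge i 276000 with h5 | h5
          · skip
            rcases Nat.lt_or_ge i 274000 with h6 | h6
            · skip
              rcases Nat.lt_or_ge i 273000 with h7 | h7
              · skip
                exact allRangeF_sound _ _ (checkFactF_eq cert) 272000 1000 chkF_272000 i (by omega) (by omega)
              · skip
                exact allRangeF_sound _ _ (checkFactF_eq cert) 273000 1000 chkF_273000 i (by omega) (by omega)
            · skip
              rcases Nat.lt_or_ge i 275000 with h7 | h7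
              · skip
                exact allRangeF_sound _ _ (checkFactF_eq cert) 274000 1000 chkF_274000 i (by omega) (by omega)
              · skip
                exact allRangeF_sound _ _ (checkFactF_eq cert) 275000 1000 chkF_275000 i (by omega) (by omega)
          · skip
            rcases Nat.lt_or_ge i 278000 with h6 | h6
            · skip
              rcases Nat.lt_or_ge i 277000 with h7 | h7
              · skip
                exact allRangeF_sound _ _ (checkFactF_eq cert) 276000 1000 chkF_276000 i (by omega) (by omega)
              · skip
                exact allRangeF_sound _ _ (checkFactF_eq cert) 277000 1000 chkF_277000 i (by omega) (by omega)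
            · skip
              rcases Nat.lt_or_ge i 279000 with h7 | h7
              · skip
                exact allRangeF_sound _ _ (checkFactF_eq cert) 278000 1000 chkF_278000 i (by omega) (by omega)
              · skip
                exact allRangeF_sound _ _ (checkFactF_eq cert) 279000 1000 chkF_279000 i (by omega) (by omega)
      · skip
        rcases Nat.lt_or_ge i 287000 with h4 | h4
        · skip
          rcases Nat.lt_or_ge i 283000 with h5 | h5
          · skip
            rcases Nat.lt_or_ge i 281000 with h6 | h6
            · skip
              exact allRangeF_sound _ _ (checkFactF_eq cert) 280000 1000 chkF_280000 i (by omega) (by omega)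
            · skip
              rcases Nat.lt_or_ge i 282000 with h7 | h7
              · skip
                exact allRangeF_sound _ _ (checkFactF_eq cert) 281000 1000 chkF_281000 i (by omega) (by omega)
              · skip
                exact allRangeF_sound _ _ (checkFactF_eq cert) 282000 1000 chkF_282000 i (by omega) (by omega)
          · skip
            rcases Nat.lt_or_ge i 285000 with h6 | h6
            · skip
              rcases Nat.lt_or_ge i 284000 with h7 | h7
              · skip
                exact allRangeF_sound _ _ (checkFactF_eq cert) 283000 1000 chkF_283000 i (by omega) (by omega)
              · skip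
                exact allRangeF_sound _ _ (checkFactF_eq cert) 284000 1000 chkF_284000 i (by omega) (by omega)
            · skip
              rcases Nat.lt_or_ge i 286000 with h7 | h7
              · skip
                exact allRangeF_sound _ _ (checkFactF_eq cert) 285000 1000 chkF_285000 i (by omega) (by omega)
              · skip
                exact allRangeF_sound _ _ (checkFactF_eq cert) 286000 1000 chkF_286000 i (by omega) (by omega)
        · skip
          rcases Nat.lt_or_ge i 291000 with h5 | h5
          · skip
            rcases Nat.lt_or_ge i 289000 with h6 | h6
            · skip
              rcases Nat.lt_or_ge i 288000 with h7 | h7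
              · skip
                exact allRangeF_sound _ _ (checkFactF_eq cert) 287000 1000 chkF_287000 i (by omega) (by omega)
              · skip
                exact allRangeF_sound _ _ (checkFactF_eq cert) 288000 1000 chkF_288000 i (by omega) (by omega)
            · skip
              rcases Nat.lt_or_ge i 290000 with h7 | h7
              · skip
                exact allRangeF_sound _ _ (checkFactF_eq cert) 289000 1000 chkF_289000 i (by omega) (by omega)
              · skip
                exact allRangeF_sound _ _ (checkFactF_eq cert) 290000 1000 chkF_290000 i (by omega) (by omega)
          · skip
            rcases Nat.lt_or_ge i 293000 with h6 | h6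
            · skip
              rcases Nat.lt_or_ge i 292000 with h7 | h7
              · skip
                exact allRangeF_sound _ _ (checkFactF_eq cert) 291000 1000 chkF_291000 i (by omega) (by omega)
              · skip
                exact allRangeF_sound _ _ (checkFactF_eq cert) 292000 1000 chkF_292000 i (by omega) (by omega)
            · skip
              rcases Nat.lt_or_ge i 294000 with h7 | h7
              · skip
                exact allRangeF_sound _ _ (checkFactF_eq cert) 293000 1000 chkF_293000 i (by omega) (by omega)
              · skip
                exact allRangeF_sound _ _ (checkFactF_eq cert) 294000 1000 chkF_294000 i (by omega) (by omega)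
  · skip
    rcases Nat.lt_or_ge i 324000 with h2 | h2
    · skip
      rcases Nat.lt_or_ge i 309000 with h3 | h3
      · skip
        rcases Nat.lt_or_ge i 302000 with h4 | h4
        · skip
          rcases Nat.lt_or_ge i 298000 with h5 | h5
          · skip
            rcases Nat.lt_or_ge i 296000 with h6 | h6
            · skip
              exact allRangeF_sound _ _ (checkFactF_eq cert) 295000 1000 chkF_295000 i (by omega) (by omega)
            · skip
              rcases Nat.lt_or_ge i 297000 with h7 | h7
              · skip
                exact allRangeF_sound _ _ (checkFactF_eq cert) 296000 1000 chkF_296000 i (by omega) (by omega)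
              · skip
                exact allRangeF_sound _ _ (checkFactF_eq cert) 297000 1000 chkF_297000 i (by omega) (by omega)
          · skip
            rcases Nat.lt_or_ge i 300000 with h6 | h6
            · skip
              rcases Nat.lt_or_ge i 299000 with h7 | h7
              · skip
                exact allRangeF_sound _ _ (checkFactF_eq cert) 298000 1000 chkF_298000 i (by omega) (by omega)
              · skip
                exact allRangeF_sound _ _ (checkFactF_eq cert) 299000 1000 chkF_299000 i (by omega) (by omega)
            · skip
              rcases Nat.lt_or_ge i 301000 with h7 | h7
              · skip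
                exact allRangeF_sound _ _ (checkFactF_eq cert) 300000 1000 chkF_300000 i (by omega) (by omega)
              · skip
                exact allRangeF_sound _ _ (checkFactF_eq cert) 301000 1000 chkF_301000 i (by omega) (by omega)
        · skip
          rcases Nat.lt_or_ge i 305000 with h5 | h5
          · skip
            rcases Nat.lt_or_ge i 303000 with h6 | h6
            · skip
              exact allRangeF_sound _ _ (checkFactF_eq cert) 302000 1000 chkF_302000 i (by omega) (by omega)
            · skip
              rcases Nat.lt_or_ge i 304000 with h7 | h7
              · skip
                exact allRangeF_sound _ _ (checkFactF_eq cert) 303000 1000 chkF_303000 i (by omega) (by omega)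
              · skip
                exact allRangeF_sound _ _ (checkFactF_eq cert) 304000 1000 chkF_304000 i (by omega) (by omega)
          · skip
            rcases Nat.lt_or_ge i 307000 with h6 | h6
            · skip
              rcases Nat.lt_or_ge i 306000 with h7 | h7
              · skip
                exact allRangeF_sound _ _ (checkFactF_eq cert) 305000 1000 chkF_305000 i (by omega) (by omega)
              · skip
                exact allRangeF_sound _ _ (checkFactF_eq cert) 306000 1000 chkF_306000 i (by omega) (by omega)
            · skip
              rcases Nat.lt_or_ge i 308000 with h7 | h7
              · skip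
                exact allRangeF_sound _ _ (checkFactF_eq cert) 307000 1000 chkF_307000 i (by omega) (by omega)
              · skip
                exact allRangeF_sound _ _ (checkFactF_eq cert) 308000 1000 chkF_308000 i (by omega) (by omega)
      · skip
        rcases Nat.lt_or_ge i 316000 with h4 | h4
        · skip
          rcases Nat.lt_or_ge i 312000 with h5 | h5
          · skip
            rcases Nat.lt_or_ge i 310000 with h6 | h6
            · skip
              exact allRangeF_sound _ _ (checkFactF_eq cert) 309000 1000 chkF_309000 i (by omega) (by omega)
            · skip
              rcases Nat.lt_or_ge i 311000 with h7 | h7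
              · skip
                exact allRangeF_sound _ _ (checkFactF_eq cert) 310000 1000 chkF_310000 i (by omega) (by omega)
              · skip
                exact allRangeF_sound _ _ (checkFactF_eq cert) 311000 1000 chkF_311000 i (by omega) (by omega)
          · skip
            rcases Nat.lt_or_ge i 314000 with h6 | h6
            · skip
              rcases Nat.lt_or_ge i 313000 with h7 | h7
              · skip
                exact allRangeF_sound _ _ (checkFactF_eq cert) 312000 1000 chkF_312000 i (by omega) (by omega)
              · skip
                exact allRangeF_sound _ _ (checkFactF_eq cert) 313000 1000 chkF_313000 i (by omega) (by omega)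
            · skip
              rcases Nat.lt_or_ge i 315000 with h7 | h7
              · skip
                exact allRangeF_sound _ _ (checkFactF_eq cert) 314000 1000 chkF_314000 i (by omega) (by omega)
              · skip
                exact allRangeF_sound _ _ (checkFactF_eq cert) 315000 1000 chkF_315000 i (by omega) (by omega)
        · skip
          rcases Nat.lt_or_ge i 320000 with h5 | h5
          · skip
            rcases Nat.lt_or_ge i 318000 with h6 | h6
            · skip
              rcases Nat.lt_or_ge i 317000 with h7 | h7
              · skip
                exact allRangeF_sound _ _ (checkFactF_eq cert) 316000 1000 chkF_316000 i (by omega) (by omega)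
              · skip
                exact allRangeF_sound _ _ (checkFactF_eq cert) 317000 1000 chkF_317000 i (by omega) (by omega)
            · skip
              rcases Nat.lt_or_ge i 319000 with h7 | h7
              · skip
                exact allRangeF_sound _ _ (checkFactF_eq cert) 318000 1000 chkF_318000 i (by omega) (by omega)
              · skip
                exact allRangeF_sound _ _ (checkFactF_eq cert) 319000 1000 chkF_319000 i (by omega) (by omega)
          · skip
            rcases Nat.lt_or_ge i 322000 with h6 | h6
            · skip
              rcases Nat.lt_or_ge i 321000 with h7 | h7
              · skip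
                exact allRangeF_sound _ _ (checkFactF_eq cert) 320000 1000 chkF_320000 i (by omega) (by omega)
              · skip
                exact allRangeF_sound _ _ (checkFactF_eq cert) 321000 1000 chkF_321000 i (by omega) (by omega)
            · skip
              rcases Nat.lt_or_ge i 323000 with h7 | h7
              · skip
                exact allRangeF_sound _ _ (checkFactF_eq cert) 322000 1000 chkF_322000 i (by omega) (by omega)
              · skip
                exact allRangeF_sound _ _ (checkFactF_eq cert) 323000 1000 chkF_323000 i (by omega) (by omega)
    · skip
      rcases Nat.lt_or_ge i 339000 with h3 | h3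
      · skip
        rcases Nat.lt_or_ge i 331000 with h4 | h4
        · skip
          rcases Nat.lt_or_ge i 327000 with h5 | h5
          · skip
            rcases Nat.lt_or_ge i 325000 with h6 | h6
            · skip
              exact allRangeF_sound _ _ (checkFactF_eq cert) 324000 1000 chkF_324000 i (by omega) (by omega)
            · skip
              rcases Nat.lt_or_ge i 326000 with h7 | h7
              · skip
                exact allRangeF_sound _ _ (checkFactF_eq cert) 325000 1000 chkF_325000 i (by omega) (by omega)
              · skip
                exact allRangeF_sound _ _ (checkFactF_eq cert) 326000 1000 chkF_326000 i (by omega) (by omega)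
          · skip
            rcases Nat.lt_or_ge i 329000 with h6 | h6
            · skip
              rcases Nat.lt_or_ge i 328000 with h7 | h7
              · skip
                exact allRangeF_sound _ _ (checkFactF_eq cert) 327000 1000 chkF_327000 i (by omega) (by omega)
              · skip
                exact allRangeF_sound _ _ (checkFactF_eq cert) 328000 1000 chkF_328000 i (by omega) (by omega)
            · skip
              rcases Nat.lt_or_ge i 330000 with h7 | h7
              · skip
                exact allRangeF_sound _ _ (checkFactF_eq cert) 329000 1000 chkF_329000 i (by omega) (by omega)
              · skip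
                exact allRangeF_sound _ _ (checkFactF_eq cert) 330000 1000 chkF_330000 i (by omega) (by omega)
        · skip
          rcases Nat.lt_or_ge i 335000 with h5 | h5
          · skip
            rcases Nat.lt_or_ge i 333000 with h6 | h6
            · skip
              rcases Nat.lt_or_ge i 332000 with h7 | h7
              · skip
                exact allRangeF_sound _ _ (checkFactF_eq cert) 331000 1000 chkF_331000 i (by omega) (by omega)
              · skip
                exact allRangeF_sound _ _ (checkFactF_eq cert) 332000 1000 chkF_332000 i (by omega) (by omega)
            · skip
              rcases Nat.lt_or_ge i 334000 with h7 | h7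
              · skip
                exact allRangeF_sound _ _ (checkFactF_eq cert) 333000 1000 chkF_333000 i (by omega) (by omega)
              · skip
                exact allRangeF_sound _ _ (checkFactF_eq cert) 334000 1000 chkF_334000 i (by omega) (by omega)
          · skip
            rcases Nat.lt_or_ge i 337000 with h6 | h6
            · skip
              rcases Nat.lt_or_ge i 336000 with h7 | h7
              · skip
                exact allRangeF_sound _ _ (checkFactF_eq cert) 335000 1000 chkF_335000 i (by omega) (by omega)
              · skip
                exact allRangeF_sound _ _ (checkFactF_eq cert) 336000 1000 chkF_336000 i (by omega) (by omega)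
            · skip
              rcases Nat.lt_or_ge i 338000 with h7 | h7
              · skip
                exact allRangeF_sound _ _ (checkFactF_eq cert) 337000 1000 chkF_337000 i (by omega) (by omega)
              · skip
                exact allRangeF_sound _ _ (checkFactF_eq cert) 338000 1000 chkF_338000 i (by omega) (by omega)
      · skip
        rcases Nat.lt_or_ge i 346000 with h4 | h4
        · skip
          rcases Nat.lt_or_ge i 342000 with h5 | h5
          · skip
            rcases Nat.lt_or_ge i 340000 with h6 | h6
            · skip
              exact allRangeF_sound _ _ (checkFactF_eq cert) 339000 1000 chkF_339000 i (by omega) (by omega)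
            · skip
              rcases Nat.lt_or_ge i 341000 with h7 | h7
              · skip
                exact allRangeF_sound _ _ (checkFactF_eq cert) 340000 1000 chkF_340000 i (by omega) (by omega)
              · skip
                exact allRangeF_sound _ _ (checkFactF_eq cert) 341000 1000 chkF_341000 i (by omega) (by omega)
          · skip
            rcases Nat.lt_or_ge i 344000 with h6 | h6
            · skip
              rcases Nat.lt_or_ge i 343000 with h7 | h7
              · skip
                exact allRangeF_sound _ _ (checkFactF_eq cert) 342000 1000 chkF_342000 i (by omega) (by omega)
              · skip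
                exact allRangeF_sound _ _ (checkFactF_eq cert) 343000 1000 chkF_343000 i (by omega) (by omega)
            · skip
              rcases Nat.lt_or_ge i 345000 with h7 | h7
              · skip
                exact allRangeF_sound _ _ (checkFactF_eq cert) 344000 1000 chkF_344000 i (by omega) (by omega)
              · skip
                exact allRangeF_sound _ _ (checkFactF_eq cert) 345000 1000 chkF_345000 i (by omega) (by omega)
        · skip
          rcases Nat.lt_or_ge i 350000 with h5 | h5
          · skip
            rcases Nat.lt_or_ge i 348000 with h6 | h6
            · skip
              rcases Nat.lt_or_ge i 347000 with h7 | h7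
              · skip
                exact allRangeF_sound _ _ (checkFactF_eq cert) 346000 1000 chkF_346000 i (by omega) (by omega)
              · skip
                exact allRangeF_sound _ _ (checkFactF_eq cert) 347000 1000 chkF_347000 i (by omega) (by omega)
            · skip
              rcases Nat.lt_or_ge i 349000 with h7 | h7
              · skip
                exact allRangeF_sound _ _ (checkFactF_eq cert) 348000 1000 chkF_348000 i (by omega) (by omega)
              · skip
                exact allRangeF_sound _ _ (checkFactF_eq cert) 349000 1000 chkF_349000 i (by omega) (by omega)
          · skip
            rcases Nat.lt_or_ge i 352000 with h6 | h6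
            · skip
              rcases Nat.lt_or_ge i 351000 with h7 | h7
              · skip
                exact allRangeF_sound _ _ (checkFactF_eq cert) 350000 1000 chkF_350000 i (by omega) (by omega)
              · skip
                exact allRangeF_sound _ _ (checkFactF_eq cert) 351000 1000 chkF_351000 i (by omega) (by omega)
            · skip
              rcases Nat.lt_or_ge i 353000 with h7 | h7
              · skip
                exact allRangeF_sound _ _ (checkFactF_eq cert) 352000 1000 chkF_352000 i (by omega) (by omega)
              · skip
                exact allRangeF_sound _ _ (checkFactF_eq cert) 353000 1000 chkF_353000 i (by omega) (by omega)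

end Cfsg.Agent.Lib.Helper28.He2Data
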