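import Cfsg.Agent.Lib.Helper28.He2Data
import Cfsg.Agent.Lib.Helper28.TCFastF

set_option autoImplicit false
set_option maxRecDepth 1000000
set_option linter.all false
set_option Elab.async false

namespace Cfsg.Agent.Lib.Helper28.He2Data

open Cfsg.Agent.Lib.Helper28

theorem chkF_472000 : allRangeF (checkFactF cert) (nat_lit 472000) (nat_lit 1000) = true := by decide +kernel
theorem chkF_473000 : allRangeF (checkFactF cert) (nat_lit 473000) (nat_lit 1000) = true := by decide +kernel
theorem chkF_474000 : allRangeF (checkFactF cert) (nat_lit 474000) (nat_lit 1000) = true := by decide +kernel
theorem chkF_475000 : allRangeF (checkFactF cert) (nat_lit 475000) (nat_lit 1000) = true := by decide +kernel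
theorem chkF_476000 : allRangeF (checkFactF cert) (nat_lit 476000) (nat_lit 1000) = true := by decide +kernel
theorem chkF_477000 : allRangeF (checkFactF cert) (nat_lit 477000) (nat_lit 1000) = true := by decide +kernel
theorem chkF_478000 : allRangeF (checkFactF cert) (nat_lit 478000) (nat_lit 1000) = true := by decide +kernel
theorem chkF_479000 : allRangeF (checkFactF cert) (nat_lit 479000) (nat_lit 1000) = true := by decide +kernel
theorem chkF_480000 : allRangeF (checkFactF cert) (nat_lit 480000) (nat_lit 1000) = true := by decide +kernel
theorem chkF_481000 : allRangeF (checkFactF cert) (nat_lit 481000) (nat_lit 1000) = true := by decide +kernel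
theorem chkF_482000 : allRangeF (checkFactF cert) (nat_lit 482000) (nat_lit 1000) = true := by decide +kernel
theorem chkF_483000 : allRangeF (checkFactF cert) (nat_lit 483000) (nat_lit 1000) = true := by decide +kernel
theorem chkF_484000 : allRangeF (checkFactF cert) (nat_lit 484000) (nat_lit 1000) = true := by decide +kernel
theorem chkF_485000 : allRangeF (checkFactF cert) (nat_lit 485000) (nat_lit 1000) = true := by decide +kernel
theorem chkF_486000 : allRangeF (checkFactF cert) (nat_lit 486000) (nat_lit 1000) = true := by decide +kernel
theorem chkF_487000 : allRangeF (checkFactF cert) (nat_lit 487000) (nat_lit 1000) = true := by decide +kernel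
theorem chkF_488000 : allRangeF (checkFactF cert) (nat_lit 488000) (nat_lit 1000) = true := by decide +kernel
theorem chkF_489000 : allRangeF (checkFactF cert) (nat_lit 489000) (nat_lit 1000) = true := by decide +kernel
theorem chkF_490000 : allRangeF (checkFactF cert) (nat_lit 490000) (nat_lit 1000) = true := by decide +kernel
theorem chkF_491000 : allRangeF (checkFactF cert) (nat_lit 491000) (nat_lit 1000) = true := by decide +kernel
theorem chkF_492000 : allRangeF (checkFactF cert) (nat_lit 492000) (nat_lit 1000) = true := by decide +kernel
theorem chkF_493000 : allRangeF (checkFactF cert) (nat_lit 493000) (nat_lit 1000) = true := by decide +kernel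
theorem chkF_494000 : allRangeF (checkFactF cert) (nat_lit 494000) (nat_lit 1000) = true := by decide +kernel
theorem chkF_495000 : allRangeF (checkFactF cert) (nat_lit 495000) (nat_lit 1000) = true := by decide +kernel
theorem chkF_496000 : allRangeF (checkFactF cert) (nat_lit 496000) (nat_lit 1000) = true := by decide +kernel
theorem chkF_497000 : allRangeF (checkFactF cert) (nat_lit 497000) (nat_lit 1000) = true := by decide +kernel
theorem chkF_498000 : allRangeF (checkFactF cert) (nat_lit 498000) (nat_lit 1000) = true := by decide +kernel
theorem chkF_499000 : allRangeF (checkFactF cert) (nat_lit 499000) (nat_lit 1000) = true := by decide +kernel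
theorem chkF_500000 : allRangeF (checkFactF cert) (nat_lit 500000) (nat_lit 1000) = true := by decide +kernel
theorem chkF_501000 : allRangeF (checkFactF cert) (nat_lit 501000) (nat_lit 1000) = true := by decide +kernel
theorem chkF_502000 : allRangeF (checkFactF cert) (nat_lit 502000) (nat_lit 1000) = true := by decide +kernel
theorem chkF_503000 : allRangeF (checkFactF cert) (nat_lit 503000) (nat_lit 1000) = true := by decide +kernel
theorem chkF_504000 : allRangeF (checkFactF cert) (nat_lit 504000) (nat_lit 1000) = true := by decide +kernel
theorem chkF_505000 : allRangeF (checkFactF cert) (nat_lit 505000) (nat_lit 1000) = true := by decide +kernel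
theorem chkF_506000 : allRangeF (checkFactF cert) (nat_lit 506000) (nat_lit 1000) = true := by decide +kernel
theorem chkF_507000 : allRangeF (checkFactF cert) (nat_lit 507000) (nat_lit 1000) = true := by decide +kernel
theorem chkF_508000 : allRangeF (checkFactF cert) (nat_lit 508000) (nat_lit 1000) = true := by decide +kernel
theorem chkF_509000 : allRangeF (checkFactF cert) (nat_lit 509000) (nat_lit 1000) = true := by decide +kernel
theorem chkF_510000 : allRangeF (checkFactF cert) (nat_lit 510000) (nat_lit 1000) = true := by decide +kernel
theorem chkF_511000 : allRangeF (checkFactF cert) (nat_lit 511000) (nat_lit 1000) = true := by decide +kernel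
theorem chkF_512000 : allRangeF (checkFactF cert) (nat_lit 512000) (nat_lit 1000) = true := by decide +kernel
theorem chkF_513000 : allRangeF (checkFactF cert) (nat_lit 513000) (nat_lit 1000) = true := by decide +kernel
theorem chkF_514000 : allRangeF (checkFactF cert) (nat_lit 514000) (nat_lit 1000) = true := by decide +kernel
theorem chkF_515000 : allRangeF (checkFactF cert) (nat_lit 515000) (nat_lit 1000) = true := by decide +kernel
theorem chkF_516000 : allRangeF (checkFactF cert) (nat_lit 516000) (nat_lit 1000) = true := by decide +kernel
theorem chkF_517000 : allRangeF (checkFactF cert) (nat_lit 517000) (nat_lit 1000) = true := by decide +kernel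
theorem chkF_518000 : allRangeF (checkFactF cert) (nat_lit 518000) (nat_lit 1000) = true := by decide +kernel
theorem chkF_519000 : allRangeF (checkFactF cert) (nat_lit 519000) (nat_lit 1000) = true := by decide +kernel
theorem chkF_520000 : allRangeF (checkFactF cert) (nat_lit 520000) (nat_lit 1000) = true := by decide +kernel
theorem chkF_521000 : allRangeF (checkFactF cert) (nat_lit 521000) (nat_lit 1000) = true := by decide +kernel
theorem chkF_522000 : allRangeF (checkFactF cert) (nat_lit 522000) (nat_lit 1000) = true := by decide +kernel
theorem chkF_523000 : allRangeF (checkFactF cert) (nat_lit 523000) (nat_lit 1000) = true := by decide +kernel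
theorem chkF_524000 : allRangeF (checkFactF cert) (nat_lit 524000) (nat_lit 1000) = true := by decide +kernel
theorem chkF_525000 : allRangeF (checkFactF cert) (nat_lit 525000) (nat_lit 1000) = true := by decide +kernel
theorem chkF_526000 : allRangeF (checkFactF cert) (nat_lit 526000) (nat_lit 1000) = true := by decide +kernel
theorem chkF_527000 : allRangeF (checkFactF cert) (nat_lit 527000) (nat_lit 1000) = true := by decide +kernel
theorem chkF_528000 : allRangeF (checkFactF cert) (nat_lit 528000) (nat_lit 1000) = true := by decide +kernel
theorem chkF_529000 : allRangeF (checkFactF cert) (nat_lit 529000) (nat_lit 1000) = true := by decide +kernel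
theorem chkF_530000 : allRangeF (checkFactF cert) (nat_lit 530000) (nat_lit 1000) = true := by decide +kernel
theorem chkF_531000 : allRangeF (checkFactF cert) (nat_lit 531000) (nat_lit 1000) = true := by decide +kernel
theorem chkF_532000 : allRangeF (checkFactF cert) (nat_lit 532000) (nat_lit 1000) = true := by decide +kernel
theorem chkF_533000 : allRangeF (checkFactF cert) (nat_lit 533000) (nat_lit 1000) = true := by decide +kernel
theorem chkF_534000 : allRangeF (checkFactF cert) (nat_lit 534000) (nat_lit 1000) = true := by decide +kernel
theorem chkF_535000 : allRangeF (checkFactF cert) (nat_lit 535000) (nat_lit 1000) = true := by decide +kernel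
theorem chkF_536000 : allRangeF (checkFactF cert) (nat_lit 536000) (nat_lit 1000) = true := by decide +kernel
theorem chkF_537000 : allRangeF (checkFactF cert) (nat_lit 537000) (nat_lit 1000) = true := by decide +kernel
theorem chkF_538000 : allRangeF (checkFactF cert) (nat_lit 538000) (nat_lit 1000) = true := by decide +kernel
theorem chkF_539000 : allRangeF (checkFactF cert) (nat_lit 539000) (nat_lit 1000) = true := by decide +kernel
theorem chkF_540000 : allRangeF (checkFactF cert) (nat_lit 540000) (nat_lit 1000) = true := by decide +kernel
theorem chkF_541000 : allRangeF (checkFactF cert) (nat_lit 541000) (nat_lit 1000) = true := by decide +kernel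
theorem chkF_542000 : allRangeF (checkFactF cert) (nat_lit 542000) (nat_lit 1000) = true := by decide +kernel
theorem chkF_543000 : allRangeF (checkFactF cert) (nat_lit 543000) (nat_lit 1000) = true := by decide +kernel
theorem chkF_544000 : allRangeF (checkFactF cert) (nat_lit 544000) (nat_lit 1000) = true := by decide +kernel
theorem chkF_545000 : allRangeF (checkFactF cert) (nat_lit 545000) (nat_lit 1000) = true := by decide +kernel
theorem chkF_546000 : allRangeF (checkFactF cert) (nat_lit 546000) (nat_lit 1000) = true := by decide +kernel
theorem chkF_547000 : allRangeF (checkFactF cert) (nat_lit 547000) (nat_lit 1000) = true := by decide +kernel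
theorem chkF_548000 : allRangeF (checkFactF cert) (nat_lit 548000) (nat_lit 1000) = true := by decide +kernel
theorem chkF_549000 : allRangeF (checkFactF cert) (nat_lit 549000) (nat_lit 1000) = true := by decide +kernel
theorem chkF_550000 : allRangeF (checkFactF cert) (nat_lit 550000) (nat_lit 1000) = true := by decide +kernel
theorem chkF_551000 : allRangeF (checkFactF cert) (nat_lit 551000) (nat_lit 1000) = true := by decide +kernel
theorem chkF_552000 : allRangeF (checkFactF cert) (nat_lit 552000) (nat_lit 1000) = true := by decide +kernel
theorem chkF_553000 : allRangeF (checkFactF cert) (nat_lit 553000) (nat_lit 1000) = true := by decide +kernel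
theorem chkF_554000 : allRangeF (checkFactF cert) (nat_lit 554000) (nat_lit 1000) = true := by decide +kernel
theorem chkF_555000 : allRangeF (checkFactF cert) (nat_lit 555000) (nat_lit 1000) = true := by decide +kernel
theorem chkF_556000 : allRangeF (checkFactF cert) (nat_lit 556000) (nat_lit 1000) = true := by decide +kernel
theorem chkF_557000 : allRangeF (checkFactF cert) (nat_lit 557000) (nat_lit 1000) = true := by decide +kernel
theorem chkF_558000 : allRangeF (checkFactF cert) (nat_lit 558000) (nat_lit 1000) = true := by decide +kernel
theorem chkF_559000 : allRangeF (checkFactF cert) (nat_lit 559000) (nat_lit 1000) = true := by decide +kernel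
theorem chkF_560000 : allRangeF (checkFactF cert) (nat_lit 560000) (nat_lit 1000) = true := by decide +kernel
theorem chkF_561000 : allRangeF (checkFactF cert) (nat_lit 561000) (nat_lit 1000) = true := by decide +kernel
theorem chkF_562000 : allRangeF (checkFactF cert) (nat_lit 562000) (nat_lit 1000) = true := by decide +kernel
theorem chkF_563000 : allRangeF (checkFactF cert) (nat_lit 563000) (nat_lit 1000) = true := by decide +kernel
theorem chkF_564000 : allRangeF (checkFactF cert) (nat_lit 564000) (nat_lit 1000) = true := by decide +kernel
theorem chkF_565000 : allRangeF (checkFactF cert) (nat_lit 565000) (nat_lit 1000) = true := by decide +kernel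
theorem chkF_566000 : allRangeF (checkFactF cert) (nat_lit 566000) (nat_lit 1000) = true := by decide +kernel
theorem chkF_567000 : allRangeF (checkFactF cert) (nat_lit 567000) (nat_lit 1000) = true := by decide +kernel
theorem chkF_568000 : allRangeF (checkFactF cert) (nat_lit 568000) (nat_lit 1000) = true := by decide +kernel
theorem chkF_569000 : allRangeF (checkFactF cert) (nat_lit 569000) (nat_lit 1000) = true := by decide +kernel
theorem chkF_570000 : allRangeF (checkFactF cert) (nat_lit 570000) (nat_lit 1000) = true := by decide +kernel
theorem chkF_571000 : allRangeF (checkFactF cert) (nat_lit 571000) (nat_lit 1000) = true := by decide +kernel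
theorem chkF_572000 : allRangeF (checkFactF cert) (nat_lit 572000) (nat_lit 1000) = true := by decide +kernel
theorem chkF_573000 : allRangeF (checkFactF cert) (nat_lit 573000) (nat_lit 1000) = true := by decide +kernel
theorem chkF_574000 : allRangeF (checkFactF cert) (nat_lit 574000) (nat_lit 1000) = true := by decide +kernel
theorem chkF_575000 : allRangeF (checkFactF cert) (nat_lit 575000) (nat_lit 1000) = true := by decide +kernel
theorem chkF_576000 : allRangeF (checkFactF cert) (nat_lit 576000) (nat_lit 1000) = true := by decide +kernel
theorem chkF_577000 : allRangeF (checkFactF cert) (nat_lit 577000) (nat_lit 1000) = true := by decide +kernel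
theorem chkF_578000 : allRangeF (checkFactF cert) (nat_lit 578000) (nat_lit 1000) = true := by decide +kernel
theorem chkF_579000 : allRangeF (checkFactF cert) (nat_lit 579000) (nat_lit 1000) = true := by decide +kernel
theorem chkF_580000 : allRangeF (checkFactF cert) (nat_lit 580000) (nat_lit 1000) = true := by decide +kernel
theorem chkF_581000 : allRangeF (checkFactF cert) (nat_lit 581000) (nat_lit 1000) = true := by decide +kernel
theorem chkF_582000 : allRangeF (checkFactF cert) (nat_lit 582000) (nat_lit 1000) = true := by decide +kernel
theorem chkF_583000 : allRangeF (checkFactF cert) (nat_lit 583000) (nat_lit 1000) = true := by decide +kernel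
theorem chkF_584000 : allRangeF (checkFactF cert) (nat_lit 584000) (nat_lit 1000) = true := by decide +kernel
theorem chkF_585000 : allRangeF (checkFactF cert) (nat_lit 585000) (nat_lit 1000) = true := by decide +kernel
theorem chkF_586000 : allRangeF (checkFactF cert) (nat_lit 586000) (nat_lit 1000) = true := by decide +kernel
theorem chkF_587000 : allRangeF (checkFactF cert) (nat_lit 587000) (nat_lit 1000) = true := by decide +kernel
theorem chkF_588000 : allRangeF (checkFactF cert) (nat_lit 588000) (nat_lit 1000) = true := by decide +kernel
theorem chkF_589000 : allRangeF (checkFactF cert) (nat_lit 589000) (nat_lit 1000) = true := by decide +kernel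

theorem factsRange_4 : ∀ i, 472000 ≤ i → i < 590000 → checkFact cert i = true := by
  intro i hlo hhi
  rcases Nat.lt_or_ge i 531000 with h1 | h1
  · skip
    rcases Nat.lt_or_ge i 501000 with h2 | h2
    · skip
      rcases Nat.lt_or_ge i 486000 with h3 | h3
      · skip
        rcases Nat.lt_or_ge i 479000 with h4 | h4
        · skip
          rcases Nat.lt_or_ge i 475000 with h5 | h5
          · skip
            rcases Nat.lt_or_ge i 473000 with h6 | h6
            · skip
              exact allRangeF_sound _ _ (checkFactF_eq cert) 472000 1000 chkF_472000 i (by omega) (by omega)
            · skip
              rcases Nat.lt_or_ge i 474000 with h7 | h7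
              · skip
                exact allRangeF_sound _ _ (checkFactF_eq cert) 473000 1000 chkF_473000 i (by omega) (by omega)
              · skip
                exact allRangeF_sound _ _ (checkFactF_eq cert) 474000 1000 chkF_474000 i (by omega) (by omega)
          · skip
            rcases Nat.lt_or_ge i 477000 with h6 | h6
            · skip
              rcases Nat.lt_or_ge i 476000 with h7 | h7
              · skip
                exact allRangeF_sound _ _ (checkFactF_eq cert) 475000 1000 chkF_475000 i (by omega) (by omega)
              · skip
                exact allRangeF_sound _ _ (checkFactF_eq cert) 476000 1000 chkF_476000 i (by omega) (by omega)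
            · skip
              rcases Nat.lt_or_ge i 478000 with h7 | h7
              · skip
                exact allRangeF_sound _ _ (checkFactF_eq cert) 477000 1000 chkF_477000 i (by omega) (by omega)
              · skip
                exact allRangeF_sound _ _ (checkFactF_eq cert) 478000 1000 chkF_478000 i (by omega) (by omega)
        · skip
          rcases Nat.lt_or_ge i 482000 with h5 | h5
          · skip
            rcases Nat.lt_or_ge i 480000 with h6 | h6
            · skip
              exact allRangeF_sound _ _ (checkFactF_eq cert) 479000 1000 chkF_479000 i (by omega) (by omega)
            · skip
              rcases Nat.lt_or_ge i 481000 with h7 | h7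
              · skip
                exact allRangeF_sound _ _ (checkFactF_eq cert) 480000 1000 chkF_480000 i (by omega) (by omega)
              · skip
                exact allRangeF_sound _ _ (checkFactF_eq cert) 481000 1000 chkF_481000 i (by omega) (by omega)
          · skip
            rcases Nat.lt_or_ge i 484000 with h6 | h6
            · skip
              rcases Nat.lt_or_ge i 483000 with h7 | h7
              · skip
                exact allRangeF_sound _ _ (checkFactF_eq cert) 482000 1000 chkF_482000 i (by omega) (by omega)
              · skip
                exact allRangeF_sound _ _ (checkFactF_eq cert) 483000 1000 chkF_483000 i (by omega) (by omega)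
            · skip
              rcases Nat.lt_or_ge i 485000 with h7 | h7
              · skip
                exact allRangeF_sound _ _ (checkFactF_eq cert) 484000 1000 chkF_484000 i (by omega) (by omega)
              · skip
                exact allRangeF_sound _ _ (checkFactF_eq cert) 485000 1000 chkF_485000 i (by omega) (by omega)
      · skip
        rcases Nat.lt_or_ge i 493000 with h4 | h4
        · skip
          rcases Nat.lt_or_ge i 489000 with h5 | h5
          · skip
            rcases Nat.lt_or_ge i 487000 with h6 | h6
            · skip
              exact allRangeF_sound _ _ (checkFactF_eq cert) 486000 1000 chkF_486000 i (by omega) (by omega)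
            · skip
              rcases Nat.lt_or_ge i 488000 with h7 | h7
              · skip
                exact allRangeF_sound _ _ (checkFactF_eq cert) 487000 1000 chkF_487000 i (by omega) (by omega)
              · skip
                exact allRangeF_sound _ _ (checkFactF_eq cert) 488000 1000 chkF_488000 i (by omega) (by omega)
          · skip
            rcases Nat.lt_or_ge i 491000 with h6 | h6
            · skip
              rcases Nat.lt_or_ge i 490000 with h7 | h7
              · skip
                exact allRangeF_sound _ _ (checkFactF_eq cert) 489000 1000 chkF_489000 i (by omega) (by omega)
              · skip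
                exact allRangeF_sound _ _ (checkFactF_eq cert) 490000 1000 chkF_490000 i (by omega) (by omega)
            · skip
              rcases Nat.lt_or_ge i 492000 with h7 | h7
              · skip
                exact allRangeF_sound _ _ (checkFactF_eq cert) 491000 1000 chkF_491000 i (by omega) (by omega)
              · skip
                exact allRangeF_sound _ _ (checkFactF_eq cert) 492000 1000 chkF_492000 i (by omega) (by omega)
        · skip
          rcases Nat.lt_or_ge i 497000 with h5 | h5
          · skip
            rcases Nat.lt_or_ge i 495000 with h6 | h6
            · skip
              rcases Nat.lt_or_ge i 494000 with h7 | h7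
              · skip
                exact allRangeF_sound _ _ (checkFactF_eq cert) 493000 1000 chkF_493000 i (by omega) (by omega)
              · skip
                exact allRangeF_sound _ _ (checkFactF_eq cert) 494000 1000 chkF_494000 i (by omega) (by omega)
            · skip
              rcases Nat.lt_or_ge i 496000 with h7 | h7
              · skip
                exact allRangeF_sound _ _ (checkFactF_eq cert) 495000 1000 chkF_495000 i (by omega) (by omega)
              · skip
                exact allRangeF_sound _ _ (checkFactF_eq cert) 496000 1000 chkF_496000 i (by omega) (by omega)
          · skip
            rcases Nat.lt_or_ge i 499000 with h6 | h6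
            · skip
              rcases Nat.lt_or_ge i 498000 with h7 | h7
              · skip
                exact allRangeF_sound _ _ (checkFactF_eq cert) 497000 1000 chkF_497000 i (by omega) (by omega)
              · skip
                exact allRangeF_sound _ _ (checkFactF_eq cert) 498000 1000 chkF_498000 i (by omega) (by omega)
            · skip
              rcases Nat.lt_or_ge i 500000 with h7 | h7
              · skip
                exact allRangeF_sound _ _ (checkFactF_eq cert) 499000 1000 chkF_499000 i (by omega) (by omega)
              · skip
                exact allRangeF_sound _ _ (checkFactF_eq cert) 500000 1000 chkF_500000 i (by omega) (by omega)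
    · skip
      rcases Nat.lt_or_ge i 516000 with h3 | h3
      · skip
        rcases Nat.lt_or_ge i 508000 with h4 | h4
        · skip
          rcases Nat.lt_or_ge i 504000 with h5 | h5
          · skip
            rcases Nat.lt_or_ge i 502000 with h6 | h6
            · skip
              exact allRangeF_sound _ _ (checkFactF_eq cert) 501000 1000 chkF_501000 i (by omega) (by omega)
            · skip
              rcases Nat.lt_or_ge i 503000 with h7 | h7
              · skip
                exact allRangeF_sound _ _ (checkFactF_eq cert) 502000 1000 chkF_502000 i (by omega) (by omega)
              · skip
                exact allRangeF_sound _ _ (checkFactF_eq cert) 503000 1000 chkF_503000 i (by omega) (by omega)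
          · skip
            rcases Nat.lt_or_ge i 506000 with h6 | h6
            · skip
              rcases Nat.lt_or_ge i 505000 with h7 | h7
              · skip
                exact allRangeF_sound _ _ (checkFactF_eq cert) 504000 1000 chkF_504000 i (by omega) (by omega)
              · skip
                exact allRangeF_sound _ _ (checkFactF_eq cert) 505000 1000 chkF_505000 i (by omega) (by omega)
            · skip
              rcases Nat.lt_or_ge i 507000 with h7 | h7
              · skip
                exact allRangeF_sound _ _ (checkFactF_eq cert) 506000 1000 chkF_506000 i (by omega) (by omega)
              · skip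
                exact allRangeF_sound _ _ (checkFactF_eq cert) 507000 1000 chkF_507000 i (by omega) (by omega)
        · skip
          rcases Nat.lt_or_ge i 512000 with h5 | h5
          · skip
            rcases Nat.lt_or_ge i 510000 with h6 | h6
            · skip
              rcases Nat.lt_or_ge i 509000 with h7 | h7
              · skip
                exact allRangeF_sound _ _ (checkFactF_eq cert) 508000 1000 chkF_508000 i (by omega) (by omega)
              · skip
                exact allRangeF_sound _ _ (checkFactF_eq cert) 509000 1000 chkF_509000 i (by omega) (by omega)
            · skip
              rcases Nat.lt_or_ge i 511000 with h7 | h7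
              · skip
                exact allRangeF_sound _ _ (checkFactF_eq cert) 510000 1000 chkF_510000 i (by omega) (by omega)
              · skip
                exact allRangeF_sound _ _ (checkFactF_eq cert) 511000 1000 chkF_511000 i (by omega) (by omega)
          · skip
            rcases Nat.lt_or_ge i 514000 with h6 | h6
            · skip
              rcases Nat.lt_or_ge i 513000 with h7 | h7
              · skip
                exact allRangeF_sound _ _ (checkFactF_eq cert) 512000 1000 chkF_512000 i (by omega) (by omega)
              · skip
                exact allRangeF_sound _ _ (checkFactF_eq cert) 513000 1000 chkF_513000 i (by omega) (by omega)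
            · skip
              rcases Nat.lt_or_ge i 515000 with h7 | h7
              · skip
                exact allRangeF_sound _ _ (checkFactF_eq cert) 514000 1000 chkF_514000 i (by omega) (by omega)
              · skip
                exact allRangeF_sound _ _ (checkFactF_eq cert) 515000 1000 chkF_515000 i (by omega) (by omega)
      · skip
        rcases Nat.lt_or_ge i 523000 with h4 | h4
        · skip
          rcases Nat.lt_or_ge i 519000 with h5 | h5
          · skip
            rcases Nat.lt_or_ge i 517000 with h6 | h6
            · skip
              exact allRangeF_sound _ _ (checkFactF_eq cert) 516000 1000 chkF_516000 i (by omega) (by omega)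
            · skip
              rcases Nat.lt_or_ge i 518000 with h7 | h7
              · skip
                exact allRangeF_sound _ _ (checkFactF_eq cert) 517000 1000 chkF_517000 i (by omega) (by omega)
              · skip
                exact allRangeF_sound _ _ (checkFactF_eq cert) 518000 1000 chkF_518000 i (by omega) (by omega)
          · skip
            rcases Nat.lt_or_ge i 521000 with h6 | h6
            · skip
              rcases Nat.lt_or_ge i 520000 with h7 | h7
              · skip
                exact allRangeF_sound _ _ (checkFactF_eq cert) 519000 1000 chkF_519000 i (by omega) (by omega)
              · skip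
                exact allRangeF_sound _ _ (checkFactF_eq cert) 520000 1000 chkF_520000 i (by omega) (by omega)
            · skip
              rcases Nat.lt_or_ge i 522000 with h7 | h7
              · skip
                exact allRangeF_sound _ _ (checkFactF_eq cert) 521000 1000 chkF_521000 i (by omega) (by omega)
              · skip
                exact allRangeF_sound _ _ (checkFactF_eq cert) 522000 1000 chkF_522000 i (by omega) (by omega)
        · skip
          rcases Nat.lt_or_ge i 527000 with h5 | h5
          · skip
            rcases Nat.lt_or_ge i 525000 with h6 | h6
            · skip
              rcases Nat.lt_or_ge i 524000 with h7 | h7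
              · skip
                exact allRangeF_sound _ _ (checkFactF_eq cert) 523000 1000 chkF_523000 i (by omega) (by omega)
              · skip
                exact allRangeF_sound _ _ (checkFactF_eq cert) 524000 1000 chkF_524000 i (by omega) (by omega)
            · skip
              rcases Nat.lt_or_ge i 526000 with h7 | h7
              · skip
                exact allRangeF_sound _ _ (checkFactF_eq cert) 525000 1000 chkF_525000 i (by omega) (by omega)
              · skip
                exact allRangeF_sound _ _ (checkFactF_eq cert) 526000 1000 chkF_526000 i (by omega) (by omega)
          · skip
            rcases Nat.lt_or_ge i 529000 with h6 | h6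
            · skip
              rcases Nat.lt_or_ge i 528000 with h7 | h7
              · skip
                exact allRangeF_sound _ _ (checkFactF_eq cert) 527000 1000 chkF_527000 i (by omega) (by omega)
              · skip
                exact allRangeF_sound _ _ (checkFactF_eq cert) 528000 1000 chkF_528000 i (by omega) (by omega)
            · skip
              rcases Nat.lt_or_ge i 530000 with h7 | h7
              · skip
                exact allRangeF_sound _ _ (checkFactF_eq cert) 529000 1000 chkF_529000 i (by omega) (by omega)
              · skip
                exact allRangeF_sound _ _ (checkFactF_eq cert) 530000 1000 chkF_530000 i (by omega) (by omega)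
  · skip
    rcases Nat.lt_or_ge i 560000 with h2 | h2
    · skip
      rcases Nat.lt_or_ge i 545000 with h3 | h3
      · skip
        rcases Nat.lt_or_ge i 538000 with h4 | h4
        · skip
          rcases Nat.lt_or_ge i 534000 with h5 | h5
          · skip
            rcases Nat.lt_or_ge i 532000 with h6 | h6
            · skip
              exact allRangeF_sound _ _ (checkFactF_eq cert) 531000 1000 chkF_531000 i (by omega) (by omega)
            · skip
              rcases Nat.lt_or_ge i 533000 with h7 | h7
              · skip
                exact allRangeF_sound _ _ (checkFactF_eq cert) 532000 1000 chkF_532000 i (by omega) (by omega)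
              · skip
                exact allRangeF_sound _ _ (checkFactF_eq cert) 533000 1000 chkF_533000 i (by omega) (by omega)
          · skip
            rcases Nat.lt_or_ge i 536000 with h6 | h6
            · skip
              rcases Nat.lt_or_ge i 535000 with h7 | h7
              · skip
                exact allRangeF_sound _ _ (checkFactF_eq cert) 534000 1000 chkF_534000 i (by omega) (by omega)
              · skip
                exact allRangeF_sound _ _ (checkFactF_eq cert) 535000 1000 chkF_535000 i (by omega) (by omega)
            · skip
              rcases Nat.lt_or_ge i 537000 with h7 | h7
              · skip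
                exact allRangeF_sound _ _ (checkFactF_eq cert) 536000 1000 chkF_536000 i (by omega) (by omega)
              · skip
                exact allRangeF_sound _ _ (checkFactF_eq cert) 537000 1000 chkF_537000 i (by omega) (by omega)
        · skip
          rcases Nat.lt_or_ge i 541000 with h5 | h5
          · skip
            rcases Nat.lt_or_ge i 539000 with h6 | h6
            · skip
              exact allRangeF_sound _ _ (checkFactF_eq cert) 538000 1000 chkF_538000 i (by omega) (by omega)
            · skip
              rcases Nat.lt_or_ge i 540000 with h7 | h7
              · skip
                exact allRangeF_sound _ _ (checkFactF_eq cert) 539000 1000 chkF_539000 i (by omega) (by omega)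
              · skip
                exact allRangeF_sound _ _ (checkFactF_eq cert) 540000 1000 chkF_540000 i (by omega) (by omega)
          · skip
            rcases Nat.lt_or_ge i 543000 with h6 | h6
            · skip
              rcases Nat.lt_or_ge i 542000 with h7 | h7
              · skip
                exact allRangeF_sound _ _ (checkFactF_eq cert) 541000 1000 chkF_541000 i (by omega) (by omega)
              · skip
                exact allRangeF_sound _ _ (checkFactF_eq cert) 542000 1000 chkF_542000 i (by omega) (by omega)
            · skip
              rcases Nat.lt_or_ge i 544000 with h7 | h7
              · skip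
                exact allRangeF_sound _ _ (checkFactF_eq cert) 543000 1000 chkF_543000 i (by omega) (by omega)
              · skip
                exact allRangeF_sound _ _ (checkFactF_eq cert) 544000 1000 chkF_544000 i (by omega) (by omega)
      · skip
        rcases Nat.lt_or_ge i 552000 with h4 | h4
        · skip
          rcases Nat.lt_or_ge i 548000 with h5 | h5
          · skip
            rcases Nat.lt_or_ge i 546000 with h6 | h6
            · skip
              exact allRangeF_sound _ _ (checkFactF_eq cert) 545000 1000 chkF_545000 i (by omega) (by omega)
            · skip
              rcases Nat.lt_or_ge i 547000 with h7 | h7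
              · skip
                exact allRangeF_sound _ _ (checkFactF_eq cert) 546000 1000 chkF_546000 i (by omega) (by omega)
              · skip
                exact allRangeF_sound _ _ (checkFactF_eq cert) 547000 1000 chkF_547000 i (by omega) (by omega)
          · skip
            rcases Nat.lt_or_ge i 550000 with h6 | h6
            · skip
              rcases Nat.lt_or_ge i 549000 with h7 | h7
              · skip
                exact allRangeF_sound _ _ (checkFactF_eq cert) 548000 1000 chkF_548000 i (by omega) (by omega)
              · skip
                exact allRangeF_sound _ _ (checkFactF_eq cert) 549000 1000 chkF_549000 i (by omega) (by omega)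
            · skip
              rcases Nat.lt_or_ge i 551000 with h7 | h7
              · skip
                exact allRangeF_sound _ _ (checkFactF_eq cert) 550000 1000 chkF_550000 i (by omega) (by omega)
              · skip
                exact allRangeF_sound _ _ (checkFactF_eq cert) 551000 1000 chkF_551000 i (by omega) (by omega)
        · skip
          rcases Nat.lt_or_ge i 556000 with h5 | h5
          · skip
            rcases Nat.lt_or_ge i 554000 with h6 | h6
            · skip
              rcases Nat.lt_or_ge i 553000 with h7 | h7
              · skip
                exact allRangeF_sound _ _ (checkFactF_eq cert) 552000 1000 chkF_552000 i (by omega) (by omega)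
              · skip
                exact allRangeF_sound _ _ (checkFactF_eq cert) 553000 1000 chkF_553000 i (by omega) (by omega)
            · skip
              rcases Nat.lt_or_ge i 555000 with h7 | h7
              · skip
                exact allRangeF_sound _ _ (checkFactF_eq cert) 554000 1000 chkF_554000 i (by omega) (by omega)
              · skip
                exact allRangeF_sound _ _ (checkFactF_eq cert) 555000 1000 chkF_555000 i (by omega) (by omega)
          · skip
            rcases Nat.lt_or_ge i 558000 with h6 | h6
            · skip
              rcases Nat.lt_or_ge i 557000 with h7 | h7
              · skip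
                exact allRangeF_sound _ _ (checkFactF_eq cert) 556000 1000 chkF_556000 i (by omega) (by omega)
              · skip
                exact allRangeF_sound _ _ (checkFactF_eq cert) 557000 1000 chkF_557000 i (by omega) (by omega)
            · skip
              rcases Nat.lt_or_ge i 559000 with h7 | h7
              · skip
                exact allRangeF_sound _ _ (checkFactF_eq cert) 558000 1000 chkF_558000 i (by omega) (by omega)
              · skip
                exact allRangeF_sound _ _ (checkFactF_eq cert) 559000 1000 chkF_559000 i (by omega) (by omega)
    · skip
      rcases Nat.lt_or_ge i 575000 with h3 | h3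
      · skip
        rcases Nat.lt_or_ge i 567000 with h4 | h4
        · skip
          rcases Nat.lt_or_ge i 563000 with h5 | h5
          · skip
            rcases Nat.lt_or_ge i 561000 with h6 | h6
            · skip
              exact allRangeF_sound _ _ (checkFactF_eq cert) 560000 1000 chkF_560000 i (by omega) (by omega)
            · skip
              rcases Nat.lt_or_ge i 562000 with h7 | h7
              · skip
                exact allRangeF_sound _ _ (checkFactF_eq cert) 561000 1000 chkF_561000 i (by omega) (by omega)
              · skip
                exact allRangeF_sound _ _ (checkFactF_eq cert) 562000 1000 chkF_562000 i (by omega) (by omega)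
          · skip
            rcases Nat.lt_or_ge i 565000 with h6 | h6
            · skip
              rcases Nat.lt_or_ge i 564000 with h7 | h7
              · skip
                exact allRangeF_sound _ _ (checkFactF_eq cert) 563000 1000 chkF_563000 i (by omega) (by omega)
              · skip
                exact allRangeF_sound _ _ (checkFactF_eq cert) 564000 1000 chkF_564000 i (by omega) (by omega)
            · skip
              rcases Nat.lt_or_ge i 566000 with h7 | h7
              · skip
                exact allRangeF_sound _ _ (checkFactF_eq cert) 565000 1000 chkF_565000 i (by omega) (by omega)
              · skip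
                exact allRangeF_sound _ _ (checkFactF_eq cert) 566000 1000 chkF_566000 i (by omega) (by omega)
        · skip
          rcases Nat.lt_or_ge i 571000 with h5 | h5
          · skip
            rcases Nat.lt_or_ge i 569000 with h6 | h6
            · skip
              rcases Nat.lt_or_ge i 568000 with h7 | h7
              · skip
                exact allRangeF_sound _ _ (checkFactF_eq cert) 567000 1000 chkF_567000 i (by omega) (by omega)
              · skip
                exact allRangeF_sound _ _ (checkFactF_eq cert) 568000 1000 chkF_568000 i (by omega) (by omega)
            · skip
              rcases Nat.lt_or_ge i 570000 with h7 | h7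
              · skip
                exact allRangeF_sound _ _ (checkFactF_eq cert) 569000 1000 chkF_569000 i (by omega) (by omega)
              · skip
                exact allRangeF_sound _ _ (checkFactF_eq cert) 570000 1000 chkF_570000 i (by omega) (by omega)
          · skip
            rcases Nat.lt_or_ge i 573000 with h6 | h6
            · skip
              rcases Nat.lt_or_ge i 572000 with h7 | h7
              · skip
                exact allRangeF_sound _ _ (checkFactF_eq cert) 571000 1000 chkF_571000 i (by omega) (by omega)
              · skip
                exact allRangeF_sound _ _ (checkFactF_eq cert) 572000 1000 chkF_572000 i (by omega) (by omega)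
            · skip
              rcases Nat.lt_or_ge i 574000 with h7 | h7
              · skip
                exact allRangeF_sound _ _ (checkFactF_eq cert) 573000 1000 chkF_573000 i (by omega) (by omega)
              · skip
                exact allRangeF_sound _ _ (checkFactF_eq cert) 574000 1000 chkF_574000 i (by omega) (by omega)
      · skip
        rcases Nat.lt_or_ge i 582000 with h4 | h4
        · skip
          rcases Nat.lt_or_ge i 578000 with h5 | h5
          · skip
            rcases Nat.lt_or_ge i 576000 with h6 | h6
            · skip
              exact allRangeF_sound _ _ (checkFactF_eq cert) 575000 1000 chkF_575000 i (by omega) (by omega)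
            · skip
              rcases Nat.lt_or_ge i 577000 with h7 | h7
              · skip
                exact allRangeF_sound _ _ (checkFactF_eq cert) 576000 1000 chkF_576000 i (by omega) (by omega)
              · skip
                exact allRangeF_sound _ _ (checkFactF_eq cert) 577000 1000 chkF_577000 i (by omega) (by omega)
          · skip
            rcases Nat.lt_or_ge i 580000 with h6 | h6
            · skip
              rcases Nat.lt_or_ge i 579000 with h7 | h7
              · skip
                exact allRangeF_sound _ _ (checkFactF_eq cert) 578000 1000 chkF_578000 i (by omega) (by omega)
              · skip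
                exact allRangeF_sound _ _ (checkFactF_eq cert) 579000 1000 chkF_579000 i (by omega) (by omega)
            · skip
              rcases Nat.lt_or_ge i 581000 with h7 | h7
              · skip
                exact allRangeF_sound _ _ (checkFactF_eq cert) 580000 1000 chkF_580000 i (by omega) (by omega)
              · skip
                exact allRangeF_sound _ _ (checkFactF_eq cert) 581000 1000 chkF_581000 i (by omega) (by omega)
        · skip
          rcases Nat.lt_or_ge i 586000 with h5 | h5
          · skip
            rcases Nat.lt_or_ge i 584000 with h6 | h6
            · skip
              rcases Nat.lt_or_ge i 583000 with h7 | h7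
              · skip
                exact allRangeF_sound _ _ (checkFactF_eq cert) 582000 1000 chkF_582000 i (by omega) (by omega)
              · skip
                exact allRangeF_sound _ _ (checkFactF_eq cert) 583000 1000 chkF_583000 i (by omega) (by omega)
            · skip
              rcases Nat.lt_or_ge i 585000 with h7 | h7
              · skip
                exact allRangeF_sound _ _ (checkFactF_eq cert) 584000 1000 chkF_584000 i (by omega) (by omega)
              · skip
                exact allRangeF_sound _ _ (checkFactF_eq cert) 585000 1000 chkF_585000 i (by omega) (by omega)
          · skip
            rcases Nat.lt_or_ge i 588000 with h6 | h6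
            · skip
              rcases Nat.lt_or_ge i 587000 with h7 | h7
              · skip
                exact allRangeF_sound _ _ (checkFactF_eq cert) 586000 1000 chkF_586000 i (by omega) (by omega)
              · skip
                exact allRangeF_sound _ _ (checkFactF_eq cert) 587000 1000 chkF_587000 i (by omega) (by omega)
            · skip
              rcases Nat.lt_or_ge i 589000 with h7 | h7
              · skip
                exact allRangeF_sound _ _ (checkFactF_eq cert) 588000 1000 chkF_588000 i (by omega) (by omega)
              · skip
                exact allRangeF_sound _ _ (checkFactF_eq cert) 589000 1000 chkF_589000 i (by omega) (by omega)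

end Cfsg.Agent.Lib.Helper28.He2Data
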