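import Cfsg.Agent.Lib.Helper28.He2Data
import Cfsg.Agent.Lib.Helper28.TCFastF

set_option autoImplicit false
set_option maxRecDepth 1000000
set_option linter.all false
set_option Elab.async false

namespace Cfsg.Agent.Lib.Helper28.He2Data

open Cfsg.Agent.Lib.Helper28

theorem chkF_708000 : allRangeF (checkFactF cert) (nat_lit 708000) (nat_lit 1000) = true := by decide +kernel
theorem chkF_709000 : allRangeF (checkFactF cert) (nat_lit 709000) (nat_lit 1000) = true := by decide +kernel
theorem chkF_710000 : allRangeF (checkFactF cert) (nat_lit 710000) (nat_lit 1000) = true := by decide +kernel
theorem chkF_711000 : allRangeF (checkFactF cert) (nat_lit 711000) (nat_lit 1000) = true := by decide +kernel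
theorem chkF_712000 : allRangeF (checkFactF cert) (nat_lit 712000) (nat_lit 1000) = true := by decide +kernel
theorem chkF_713000 : allRangeF (checkFactF cert) (nat_lit 713000) (nat_lit 1000) = true := by decide +kernel
theorem chkF_714000 : allRangeF (checkFactF cert) (nat_lit 714000) (nat_lit 1000) = true := by decide +kernel
theorem chkF_715000 : allRangeF (checkFactF cert) (nat_lit 715000) (nat_lit 1000) = true := by decide +kernel
theorem chkF_716000 : allRangeF (checkFactF cert) (nat_lit 716000) (nat_lit 1000) = true := by decide +kernel
theorem chkF_717000 : allRangeF (checkFactF cert) (nat_lit 717000) (nat_lit 1000) = true := by decide +kernel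
theorem chkF_718000 : allRangeF (checkFactF cert) (nat_lit 718000) (nat_lit 1000) = true := by decide +kernel
theorem chkF_719000 : allRangeF (checkFactF cert) (nat_lit 719000) (nat_lit 1000) = true := by decide +kernel
theorem chkF_720000 : allRangeF (checkFactF cert) (nat_lit 720000) (nat_lit 1000) = true := by decide +kernel
theorem chkF_721000 : allRangeF (checkFactF cert) (nat_lit 721000) (nat_lit 1000) = true := by decide +kernel
theorem chkF_722000 : allRangeF (checkFactF cert) (nat_lit 722000) (nat_lit 1000) = true := by decide +kernel
theorem chkF_723000 : allRangeF (checkFactF cert) (nat_lit 723000) (nat_lit 1000) = true := by decide +kernel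
theorem chkF_724000 : allRangeF (checkFactF cert) (nat_lit 724000) (nat_lit 1000) = true := by decide +kernel
theorem chkF_725000 : allRangeF (checkFactF cert) (nat_lit 725000) (nat_lit 1000) = true := by decide +kernel
theorem chkF_726000 : allRangeF (checkFactF cert) (nat_lit 726000) (nat_lit 1000) = true := by decide +kernel
theorem chkF_727000 : allRangeF (checkFactF cert) (nat_lit 727000) (nat_lit 1000) = true := by decide +kernel
theorem chkF_728000 : allRangeF (checkFactF cert) (nat_lit 728000) (nat_lit 1000) = true := by decide +kernel
theorem chkF_729000 : allRangeF (checkFactF cert) (nat_lit 729000) (nat_lit 1000) = true := by decide +kernel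
theorem chkF_730000 : allRangeF (checkFactF cert) (nat_lit 730000) (nat_lit 1000) = true := by decide +kernel
theorem chkF_731000 : allRangeF (checkFactF cert) (nat_lit 731000) (nat_lit 1000) = true := by decide +kernel
theorem chkF_732000 : allRangeF (checkFactF cert) (nat_lit 732000) (nat_lit 1000) = true := by decide +kernel
theorem chkF_733000 : allRangeF (checkFactF cert) (nat_lit 733000) (nat_lit 1000) = true := by decide +kernel
theorem chkF_734000 : allRangeF (checkFactF cert) (nat_lit 734000) (nat_lit 1000) = true := by decide +kernel
theorem chkF_735000 : allRangeF (checkFactF cert) (nat_lit 735000) (nat_lit 1000) = true := by decide +kernel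
theorem chkF_736000 : allRangeF (checkFactF cert) (nat_lit 736000) (nat_lit 1000) = true := by decide +kernel
theorem chkF_737000 : allRangeF (checkFactF cert) (nat_lit 737000) (nat_lit 1000) = true := by decide +kernel
theorem chkF_738000 : allRangeF (checkFactF cert) (nat_lit 738000) (nat_lit 1000) = true := by decide +kernel
theorem chkF_739000 : allRangeF (checkFactF cert) (nat_lit 739000) (nat_lit 1000) = true := by decide +kernel
theorem chkF_740000 : allRangeF (checkFactF cert) (nat_lit 740000) (nat_lit 1000) = true := by decide +kernel
theorem chkF_741000 : allRangeF (checkFactF cert) (nat_lit 741000) (nat_lit 1000) = true := by decide +kernel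
theorem chkF_742000 : allRangeF (checkFactF cert) (nat_lit 742000) (nat_lit 1000) = true := by decide +kernel
theorem chkF_743000 : allRangeF (checkFactF cert) (nat_lit 743000) (nat_lit 1000) = true := by decide +kernel
theorem chkF_744000 : allRangeF (checkFactF cert) (nat_lit 744000) (nat_lit 1000) = true := by decide +kernel
theorem chkF_745000 : allRangeF (checkFactF cert) (nat_lit 745000) (nat_lit 1000) = true := by decide +kernel
theorem chkF_746000 : allRangeF (checkFactF cert) (nat_lit 746000) (nat_lit 1000) = true := by decide +kernel
theorem chkF_747000 : allRangeF (checkFactF cert) (nat_lit 747000) (nat_lit 1000) = true := by decide +kernel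
theorem chkF_748000 : allRangeF (checkFactF cert) (nat_lit 748000) (nat_lit 1000) = true := by decide +kernel
theorem chkF_749000 : allRangeF (checkFactF cert) (nat_lit 749000) (nat_lit 1000) = true := by decide +kernel
theorem chkF_750000 : allRangeF (checkFactF cert) (nat_lit 750000) (nat_lit 1000) = true := by decide +kernel
theorem chkF_751000 : allRangeF (checkFactF cert) (nat_lit 751000) (nat_lit 1000) = true := by decide +kernel
theorem chkF_752000 : allRangeF (checkFactF cert) (nat_lit 752000) (nat_lit 1000) = true := by decide +kernel
theorem chkF_753000 : allRangeF (checkFactF cert) (nat_lit 753000) (nat_lit 1000) = true := by decide +kernel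
theorem chkF_754000 : allRangeF (checkFactF cert) (nat_lit 754000) (nat_lit 1000) = true := by decide +kernel
theorem chkF_755000 : allRangeF (checkFactF cert) (nat_lit 755000) (nat_lit 1000) = true := by decide +kernel
theorem chkF_756000 : allRangeF (checkFactF cert) (nat_lit 756000) (nat_lit 1000) = true := by decide +kernel
theorem chkF_757000 : allRangeF (checkFactF cert) (nat_lit 757000) (nat_lit 1000) = true := by decide +kernel
theorem chkF_758000 : allRangeF (checkFactF cert) (nat_lit 758000) (nat_lit 1000) = true := by decide +kernel
theorem chkF_759000 : allRangeF (checkFactF cert) (nat_lit 759000) (nat_lit 1000) = true := by decide +kernel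
theorem chkF_760000 : allRangeF (checkFactF cert) (nat_lit 760000) (nat_lit 1000) = true := by decide +kernel
theorem chkF_761000 : allRangeF (checkFactF cert) (nat_lit 761000) (nat_lit 1000) = true := by decide +kernel
theorem chkF_762000 : allRangeF (checkFactF cert) (nat_lit 762000) (nat_lit 1000) = true := by decide +kernel
theorem chkF_763000 : allRangeF (checkFactF cert) (nat_lit 763000) (nat_lit 1000) = true := by decide +kernel
theorem chkF_764000 : allRangeF (checkFactF cert) (nat_lit 764000) (nat_lit 1000) = true := by decide +kernel
theorem chkF_765000 : allRangeF (checkFactF cert) (nat_lit 765000) (nat_lit 1000) = true := by decide +kernel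
theorem chkF_766000 : allRangeF (checkFactF cert) (nat_lit 766000) (nat_lit 1000) = true := by decide +kernel
theorem chkF_767000 : allRangeF (checkFactF cert) (nat_lit 767000) (nat_lit 1000) = true := by decide +kernel
theorem chkF_768000 : allRangeF (checkFactF cert) (nat_lit 768000) (nat_lit 1000) = true := by decide +kernel
theorem chkF_769000 : allRangeF (checkFactF cert) (nat_lit 769000) (nat_lit 1000) = true := by decide +kernel
theorem chkF_770000 : allRangeF (checkFactF cert) (nat_lit 770000) (nat_lit 1000) = true := by decide +kernel
theorem chkF_771000 : allRangeF (checkFactF cert) (nat_lit 771000) (nat_lit 1000) = true := by decide +kernel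
theorem chkF_772000 : allRangeF (checkFactF cert) (nat_lit 772000) (nat_lit 1000) = true := by decide +kernel
theorem chkF_773000 : allRangeF (checkFactF cert) (nat_lit 773000) (nat_lit 1000) = true := by decide +kernel
theorem chkF_774000 : allRangeF (checkFactF cert) (nat_lit 774000) (nat_lit 1000) = true := by decide +kernel
theorem chkF_775000 : allRangeF (checkFactF cert) (nat_lit 775000) (nat_lit 1000) = true := by decide +kernel
theorem chkF_776000 : allRangeF (checkFactF cert) (nat_lit 776000) (nat_lit 1000) = true := by decide +kernel
theorem chkF_777000 : allRangeF (checkFactF cert) (nat_lit 777000) (nat_lit 1000) = true := by decide +kernel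
theorem chkF_778000 : allRangeF (checkFactF cert) (nat_lit 778000) (nat_lit 1000) = true := by decide +kernel
theorem chkF_779000 : allRangeF (checkFactF cert) (nat_lit 779000) (nat_lit 1000) = true := by decide +kernel
theorem chkF_780000 : allRangeF (checkFactF cert) (nat_lit 780000) (nat_lit 1000) = true := by decide +kernel
theorem chkF_781000 : allRangeF (checkFactF cert) (nat_lit 781000) (nat_lit 1000) = true := by decide +kernel
theorem chkF_782000 : allRangeF (checkFactF cert) (nat_lit 782000) (nat_lit 1000) = true := by decide +kernel
theorem chkF_783000 : allRangeF (checkFactF cert) (nat_lit 783000) (nat_lit 1000) = true := by decide +kernel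
theorem chkF_784000 : allRangeF (checkFactF cert) (nat_lit 784000) (nat_lit 1000) = true := by decide +kernel
theorem chkF_785000 : allRangeF (checkFactF cert) (nat_lit 785000) (nat_lit 1000) = true := by decide +kernel
theorem chkF_786000 : allRangeF (checkFactF cert) (nat_lit 786000) (nat_lit 1000) = true := by decide +kernel
theorem chkF_787000 : allRangeF (checkFactF cert) (nat_lit 787000) (nat_lit 1000) = true := by decide +kernel
theorem chkF_788000 : allRangeF (checkFactF cert) (nat_lit 788000) (nat_lit 1000) = true := by decide +kernel
theorem chkF_789000 : allRangeF (checkFactF cert) (nat_lit 789000) (nat_lit 1000) = true := by decide +kernel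
theorem chkF_790000 : allRangeF (checkFactF cert) (nat_lit 790000) (nat_lit 1000) = true := by decide +kernel
theorem chkF_791000 : allRangeF (checkFactF cert) (nat_lit 791000) (nat_lit 1000) = true := by decide +kernel
theorem chkF_792000 : allRangeF (checkFactF cert) (nat_lit 792000) (nat_lit 1000) = true := by decide +kernel
theorem chkF_793000 : allRangeF (checkFactF cert) (nat_lit 793000) (nat_lit 1000) = true := by decide +kernel
theorem chkF_794000 : allRangeF (checkFactF cert) (nat_lit 794000) (nat_lit 1000) = true := by decide +kernel
theorem chkF_795000 : allRangeF (checkFactF cert) (nat_lit 795000) (nat_lit 1000) = true := by decide +kernel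
theorem chkF_796000 : allRangeF (checkFactF cert) (nat_lit 796000) (nat_lit 1000) = true := by decide +kernel
theorem chkF_797000 : allRangeF (checkFactF cert) (nat_lit 797000) (nat_lit 1000) = true := by decide +kernel
theorem chkF_798000 : allRangeF (checkFactF cert) (nat_lit 798000) (nat_lit 1000) = true := by decide +kernel
theorem chkF_799000 : allRangeF (checkFactF cert) (nat_lit 799000) (nat_lit 1000) = true := by decide +kernel
theorem chkF_800000 : allRangeF (checkFactF cert) (nat_lit 800000) (nat_lit 1000) = true := by decide +kernel
theorem chkF_801000 : allRangeF (checkFactF cert) (nat_lit 801000) (nat_lit 1000) = true := by decide +kernel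
theorem chkF_802000 : allRangeF (checkFactF cert) (nat_lit 802000) (nat_lit 1000) = true := by decide +kernel
theorem chkF_803000 : allRangeF (checkFactF cert) (nat_lit 803000) (nat_lit 1000) = true := by decide +kernel
theorem chkF_804000 : allRangeF (checkFactF cert) (nat_lit 804000) (nat_lit 1000) = true := by decide +kernel
theorem chkF_805000 : allRangeF (checkFactF cert) (nat_lit 805000) (nat_lit 1000) = true := by decide +kernel
theorem chkF_806000 : allRangeF (checkFactF cert) (nat_lit 806000) (nat_lit 1000) = true := by decide +kernel
theorem chkF_807000 : allRangeF (checkFactF cert) (nat_lit 807000) (nat_lit 1000) = true := by decide +kernel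
theorem chkF_808000 : allRangeF (checkFactF cert) (nat_lit 808000) (nat_lit 1000) = true := by decide +kernel
theorem chkF_809000 : allRangeF (checkFactF cert) (nat_lit 809000) (nat_lit 1000) = true := by decide +kernel
theorem chkF_810000 : allRangeF (checkFactF cert) (nat_lit 810000) (nat_lit 1000) = true := by decide +kernel
theorem chkF_811000 : allRangeF (checkFactF cert) (nat_lit 811000) (nat_lit 1000) = true := by decide +kernel
theorem chkF_812000 : allRangeF (checkFactF cert) (nat_lit 812000) (nat_lit 1000) = true := by decide +kernel
theorem chkF_813000 : allRangeF (checkFactF cert) (nat_lit 813000) (nat_lit 1000) = true := by decide +kernel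
theorem chkF_814000 : allRangeF (checkFactF cert) (nat_lit 814000) (nat_lit 1000) = true := by decide +kernel
theorem chkF_815000 : allRangeF (checkFactF cert) (nat_lit 815000) (nat_lit 1000) = true := by decide +kernel
theorem chkF_816000 : allRangeF (checkFactF cert) (nat_lit 816000) (nat_lit 1000) = true := by decide +kernel
theorem chkF_817000 : allRangeF (checkFactF cert) (nat_lit 817000) (nat_lit 1000) = true := by decide +kernel
theorem chkF_818000 : allRangeF (checkFactF cert) (nat_lit 818000) (nat_lit 1000) = true := by decide +kernel
theorem chkF_819000 : allRangeF (checkFactF cert) (nat_lit 819000) (nat_lit 1000) = true := by decide +kernel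
theorem chkF_820000 : allRangeF (checkFactF cert) (nat_lit 820000) (nat_lit 1000) = true := by decide +kernel
theorem chkF_821000 : allRangeF (checkFactF cert) (nat_lit 821000) (nat_lit 1000) = true := by decide +kernel
theorem chkF_822000 : allRangeF (checkFactF cert) (nat_lit 822000) (nat_lit 1000) = true := by decide +kernel
theorem chkF_823000 : allRangeF (checkFactF cert) (nat_lit 823000) (nat_lit 1000) = true := by decide +kernel
theorem chkF_824000 : allRangeF (checkFactF cert) (nat_lit 824000) (nat_lit 1000) = true := by decide +kernel
theorem chkF_825000 : allRangeF (checkFactF cert) (nat_lit 825000) (nat_lit 1000) = true := by decide +kernel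

theorem factsRange_6 : ∀ i, 708000 ≤ i → i < 826000 → checkFact cert i = true := by
  intro i hlo hhi
  rcases Nat.lt_or_ge i 767000 with h1 | h1
  · skip
    rcases Nat.lt_or_ge i 737000 with h2 | h2
    · skip
      rcases Nat.lt_or_ge i 722000 with h3 | h3
      · skip
        rcases Nat.lt_or_ge i 715000 with h4 | h4
        · skip
          rcases Nat.lt_or_ge i 711000 with h5 | h5
          · skip
            rcases Nat.lt_or_ge i 709000 with h6 | h6
            · skip
              exact allRangeF_sound _ _ (checkFactF_eq cert) 708000 1000 chkF_708000 i (by omega) (by omega)
            · skip
              rcases Nat.lt_or_ge i 710000 with h7 | h7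
              · skip
                exact allRangeF_sound _ _ (checkFactF_eq cert) 709000 1000 chkF_709000 i (by omega) (by omega)
              · skip
                exact allRangeF_sound _ _ (checkFactF_eq cert) 710000 1000 chkF_710000 i (by omega) (by omega)
          · skip
            rcases Nat.lt_or_ge i 713000 with h6 | h6
            · skip
              rcases Nat.lt_or_ge i 712000 with h7 | h7
              · skip
                exact allRangeF_sound _ _ (checkFactF_eq cert) 711000 1000 chkF_711000 i (by omega) (by omega)
              · skip
                exact allRangeF_sound _ _ (checkFactF_eq cert) 712000 1000 chkF_712000 i (by omega) (by omega)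
            · skip
              rcases Nat.lt_or_ge i 714000 with h7 | h7
              · skip
                exact allRangeF_sound _ _ (checkFactF_eq cert) 713000 1000 chkF_713000 i (by omega) (by omega)
              · skip
                exact allRangeF_sound _ _ (checkFactF_eq cert) 714000 1000 chkF_714000 i (by omega) (by omega)
        · skip
          rcases Nat.lt_or_ge i 718000 with h5 | h5
          · skip
            rcases Nat.lt_or_ge i 716000 with h6 | h6
            · skip
              exact allRangeF_sound _ _ (checkFactF_eq cert) 715000 1000 chkF_715000 i (by omega) (by omega)
            · skip
              rcases Nat.lt_or_ge i 717000 with h7 | h7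
              · skip
                exact allRangeF_sound _ _ (checkFactF_eq cert) 716000 1000 chkF_716000 i (by omega) (by omega)
              · skip
                exact allRangeF_sound _ _ (checkFactF_eq cert) 717000 1000 chkF_717000 i (by omega) (by omega)
          · skip
            rcases Nat.lt_or_ge i 720000 with h6 | h6
            · skip
              rcases Nat.lt_or_ge i 719000 with h7 | h7
              · skip
                exact allRangeF_sound _ _ (checkFactF_eq cert) 718000 1000 chkF_718000 i (by omega) (by omega)
              · skip
                exact allRangeF_sound _ _ (checkFactF_eq cert) 719000 1000 chkF_719000 i (by omega) (by omega)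
            · skip
              rcases Nat.lt_or_ge i 721000 with h7 | h7
              · skip
                exact allRangeF_sound _ _ (checkFactF_eq cert) 720000 1000 chkF_720000 i (by omega) (by omega)
              · skip
                exact allRangeF_sound _ _ (checkFactF_eq cert) 721000 1000 chkF_721000 i (by omega) (by omega)
      · skip
        rcases Nat.lt_or_ge i 729000 with h4 | h4
        · skip
          rcases Nat.lt_or_ge i 725000 with h5 | h5
          · skip
            rcases Nat.lt_or_ge i 723000 with h6 | h6
            · skip
              exact allRangeF_sound _ _ (checkFactF_eq cert) 722000 1000 chkF_722000 i (by omega) (by omega)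
            · skip
              rcases Nat.lt_or_ge i 724000 with h7 | h7
              · skip
                exact allRangeF_sound _ _ (checkFactF_eq cert) 723000 1000 chkF_723000 i (by omega) (by omega)
              · skip
                exact allRangeF_sound _ _ (checkFactF_eq cert) 724000 1000 chkF_724000 i (by omega) (by omega)
          · skip
            rcases Nat.lt_or_ge i 727000 with h6 | h6
            · skip
              rcases Nat.lt_or_ge i 726000 with h7 | h7
              · skip
                exact allRangeF_sound _ _ (checkFactF_eq cert) 725000 1000 chkF_725000 i (by omega) (by omega)
              · skip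
                exact allRangeF_sound _ _ (checkFactF_eq cert) 726000 1000 chkF_726000 i (by omega) (by omega)
            · skip
              rcases Nat.lt_or_ge i 728000 with h7 | h7
              · skip
                exact allRangeF_sound _ _ (checkFactF_eq cert) 727000 1000 chkF_727000 i (by omega) (by omega)
              · skip
                exact allRangeF_sound _ _ (checkFactF_eq cert) 728000 1000 chkF_728000 i (by omega) (by omega)
        · skip
          rcases Nat.lt_or_ge i 733000 with h5 | h5
          · skip
            rcases Nat.lt_or_ge i 731000 with h6 | h6
            · skip
              rcases Nat.lt_or_ge i 730000 with h7 | h7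
              · skip
                exact allRangeF_sound _ _ (checkFactF_eq cert) 729000 1000 chkF_729000 i (by omega) (by omega)
              · skip
                exact allRangeF_sound _ _ (checkFactF_eq cert) 730000 1000 chkF_730000 i (by omega) (by omega)
            · skip
              rcases Nat.lt_or_ge i 732000 with h7 | h7
              · skip
                exact allRangeF_sound _ _ (checkFactF_eq cert) 731000 1000 chkF_731000 i (by omega) (by omega)
              · skip
                exact allRangeF_sound _ _ (checkFactF_eq cert) 732000 1000 chkF_732000 i (by omega) (by omega)
          · skip
            rcases Nat.lt_or_ge i 735000 with h6 | h6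
            · skip
              rcases Nat.lt_or_ge i 734000 with h7 | h7
              · skip
                exact allRangeF_sound _ _ (checkFactF_eq cert) 733000 1000 chkF_733000 i (by omega) (by omega)
              · skip
                exact allRangeF_sound _ _ (checkFactF_eq cert) 734000 1000 chkF_734000 i (by omega) (by omega)
            · skip
              rcases Nat.lt_or_ge i 736000 with h7 | h7
              · skip
                exact allRangeF_sound _ _ (checkFactF_eq cert) 735000 1000 chkF_735000 i (by omega) (by omega)
              · skip
                exact allRangeF_sound _ _ (checkFactF_eq cert) 736000 1000 chkF_736000 i (by omega) (by omega)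
    · skip
      rcases Nat.lt_or_ge i 752000 with h3 | h3
      · skip
        rcases Nat.lt_or_ge i 744000 with h4 | h4
        · skip
          rcases Nat.lt_or_ge i 740000 with h5 | h5
          · skip
            rcases Nat.lt_or_ge i 738000 with h6 | h6
            · skip
              exact allRangeF_sound _ _ (checkFactF_eq cert) 737000 1000 chkF_737000 i (by omega) (by omega)
            · skip
              rcases Nat.lt_or_ge i 739000 with h7 | h7
              · skip
                exact allRangeF_sound _ _ (checkFactF_eq cert) 738000 1000 chkF_738000 i (by omega) (by omega)
              · skip
                exact allRangeF_sound _ _ (checkFactF_eq cert) 739000 1000 chkF_739000 i (by omega) (by omega)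
          · skip
            rcases Nat.lt_or_ge i 742000 with h6 | h6
            · skip
              rcases Nat.lt_or_ge i 741000 with h7 | h7
              · skip
                exact allRangeF_sound _ _ (checkFactF_eq cert) 740000 1000 chkF_740000 i (by omega) (by omega)
              · skip
                exact allRangeF_sound _ _ (checkFactF_eq cert) 741000 1000 chkF_741000 i (by omega) (by omega)
            · skip
              rcases Nat.lt_or_ge i 743000 with h7 | h7
              · skip
                exact allRangeF_sound _ _ (checkFactF_eq cert) 742000 1000 chkF_742000 i (by omega) (by omega)
              · skip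
                exact allRangeF_sound _ _ (checkFactF_eq cert) 743000 1000 chkF_743000 i (by omega) (by omega)
        · skip
          rcases Nat.lt_or_ge i 748000 with h5 | h5
          · skip
            rcases Nat.lt_or_ge i 746000 with h6 | h6
            · skip
              rcases Nat.lt_or_ge i 745000 with h7 | h7
              · skip
                exact allRangeF_sound _ _ (checkFactF_eq cert) 744000 1000 chkF_744000 i (by omega) (by omega)
              · skip
                exact allRangeF_sound _ _ (checkFactF_eq cert) 745000 1000 chkF_745000 i (by omega) (by omega)
            · skip
              rcases Nat.lt_or_ge i 747000 with h7 | h7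
              · skip
                exact allRangeF_sound _ _ (checkFactF_eq cert) 746000 1000 chkF_746000 i (by omega) (by omega)
              · skip
                exact allRangeF_sound _ _ (checkFactF_eq cert) 747000 1000 chkF_747000 i (by omega) (by omega)
          · skip
            rcases Nat.lt_or_ge i 750000 with h6 | h6
            · skip
              rcases Nat.lt_or_ge i 749000 with h7 | h7
              · skip
                exact allRangeF_sound _ _ (checkFactF_eq cert) 748000 1000 chkF_748000 i (by omega) (by omega)
              · skip
                exact allRangeF_sound _ _ (checkFactF_eq cert) 749000 1000 chkF_749000 i (by omega) (by omega)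
            · skip
              rcases Nat.lt_or_ge i 751000 with h7 | h7
              · skip
                exact allRangeF_sound _ _ (checkFactF_eq cert) 750000 1000 chkF_750000 i (by omega) (by omega)
              · skip
                exact allRangeF_sound _ _ (checkFactF_eq cert) 751000 1000 chkF_751000 i (by omega) (by omega)
      · skip
        rcases Nat.lt_or_ge i 759000 with h4 | h4
        · skip
          rcases Nat.lt_or_ge i 755000 with h5 | h5
          · skip
            rcases Nat.lt_or_ge i 753000 with h6 | h6
            · skip
              exact allRangeF_sound _ _ (checkFactF_eq cert) 752000 1000 chkF_752000 i (by omega) (by omega)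
            · skip
              rcases Nat.lt_or_ge i 754000 with h7 | h7
              · skip
                exact allRangeF_sound _ _ (checkFactF_eq cert) 753000 1000 chkF_753000 i (by omega) (by omega)
              · skip
                exact allRangeF_sound _ _ (checkFactF_eq cert) 754000 1000 chkF_754000 i (by omega) (by omega)
          · skip
            rcases Nat.lt_or_ge i 757000 with h6 | h6
            · skip
              rcases Nat.lt_or_ge i 756000 with h7 | h7
              · skip
                exact allRangeF_sound _ _ (checkFactF_eq cert) 755000 1000 chkF_755000 i (by omega) (by omega)
              · skip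
                exact allRangeF_sound _ _ (checkFactF_eq cert) 756000 1000 chkF_756000 i (by omega) (by omega)
            · skip
              rcases Nat.lt_or_ge i 758000 with h7 | h7
              · skip
                exact allRangeF_sound _ _ (checkFactF_eq cert) 757000 1000 chkF_757000 i (by omega) (by omega)
              · skip
                exact allRangeF_sound _ _ (checkFactF_eq cert) 758000 1000 chkF_758000 i (by omega) (by omega)
        · skip
          rcases Nat.lt_or_ge i 763000 with h5 | h5
          · skip
            rcases Nat.lt_or_ge i 761000 with h6 | h6
            · skip
              rcases Nat.lt_or_ge i 760000 with h7 | h7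
              · skip
                exact allRangeF_sound _ _ (checkFactF_eq cert) 759000 1000 chkF_759000 i (by omega) (by omega)
              · skip
                exact allRangeF_sound _ _ (checkFactF_eq cert) 760000 1000 chkF_760000 i (by omega) (by omega)
            · skip
              rcases Nat.lt_or_ge i 762000 with h7 | h7
              · skip
                exact allRangeF_sound _ _ (checkFactF_eq cert) 761000 1000 chkF_761000 i (by omega) (by omega)
              · skip
                exact allRangeF_sound _ _ (checkFactF_eq cert) 762000 1000 chkF_762000 i (by omega) (by omega)
          · skip
            rcases Nat.lt_or_ge i 765000 with h6 | h6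
            · skip
              rcases Nat.lt_or_ge i 764000 with h7 | h7
              · skip
                exact allRangeF_sound _ _ (checkFactF_eq cert) 763000 1000 chkF_763000 i (by omega) (by omega)
              · skip
                exact allRangeF_sound _ _ (checkFactF_eq cert) 764000 1000 chkF_764000 i (by omega) (by omega)
            · skip
              rcases Nat.lt_or_ge i 766000 with h7 | h7
              · skip
                exact allRangeF_sound _ _ (checkFactF_eq cert) 765000 1000 chkF_765000 i (by omega) (by omega)
              · skip
                exact allRangeF_sound _ _ (checkFactF_eq cert) 766000 1000 chkF_766000 i (by omega) (by omega)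
  · skip
    rcases Nat.lt_or_ge i 796000 with h2 | h2
    · skip
      rcases Nat.lt_or_ge i 781000 with h3 | h3
      · skip
        rcases Nat.lt_or_ge i 774000 with h4 | h4
        · skip
          rcases Nat.lt_or_ge i 770000 with h5 | h5
          · skip
            rcases Nat.lt_or_ge i 768000 with h6 | h6
            · skip
              exact allRangeF_sound _ _ (checkFactF_eq cert) 767000 1000 chkF_767000 i (by omega) (by omega)
            · skip
              rcases Nat.lt_or_ge i 769000 with h7 | h7
              · skip
                exact allRangeF_sound _ _ (checkFactF_eq cert) 768000 1000 chkF_768000 i (by omega) (by omega)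
              · skip
                exact allRangeF_sound _ _ (checkFactF_eq cert) 769000 1000 chkF_769000 i (by omega) (by omega)
          · skip
            rcases Nat.lt_or_ge i 772000 with h6 | h6
            · skip
              rcases Nat.lt_or_ge i 771000 with h7 | h7
              · skip
                exact allRangeF_sound _ _ (checkFactF_eq cert) 770000 1000 chkF_770000 i (by omega) (by omega)
              · skip
                exact allRangeF_sound _ _ (checkFactF_eq cert) 771000 1000 chkF_771000 i (by omega) (by omega)
            · skip
              rcases Nat.lt_or_ge i 773000 with h7 | h7
              · skip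
                exact allRangeF_sound _ _ (checkFactF_eq cert) 772000 1000 chkF_772000 i (by omega) (by omega)
              · skip
                exact allRangeF_sound _ _ (checkFactF_eq cert) 773000 1000 chkF_773000 i (by omega) (by omega)
        · skip
          rcases Nat.lt_or_ge i 777000 with h5 | h5
          · skip
            rcases Nat.lt_or_ge i 775000 with h6 | h6
            · skip
              exact allRangeF_sound _ _ (checkFactF_eq cert) 774000 1000 chkF_774000 i (by omega) (by omega)
            · skip
              rcases Nat.lt_or_ge i 776000 with h7 | h7
              · skip
                exact allRangeF_sound _ _ (checkFactF_eq cert) 775000 1000 chkF_775000 i (by omega) (by omega)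
              · skip
                exact allRangeF_sound _ _ (checkFactF_eq cert) 776000 1000 chkF_776000 i (by omega) (by omega)
          · skip
            rcases Nat.lt_or_ge i 779000 with h6 | h6
            · skip
              rcases Nat.lt_or_ge i 778000 with h7 | h7
              · skip
                exact allRangeF_sound _ _ (checkFactF_eq cert) 777000 1000 chkF_777000 i (by omega) (by omega)
              · skip
                exact allRangeF_sound _ _ (checkFactF_eq cert) 778000 1000 chkF_778000 i (by omega) (by omega)
            · skip
              rcases Nat.lt_or_ge i 780000 with h7 | h7
              · skip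
                exact allRangeF_sound _ _ (checkFactF_eq cert) 779000 1000 chkF_779000 i (by omega) (by omega)
              · skip
                exact allRangeF_sound _ _ (checkFactF_eq cert) 780000 1000 chkF_780000 i (by omega) (by omega)
      · skip
        rcases Nat.lt_or_ge i 788000 with h4 | h4
        · skip
          rcases Nat.lt_or_ge i 784000 with h5 | h5
          · skip
            rcases Nat.lt_or_ge i 782000 with h6 | h6
            · skip
              exact allRangeF_sound _ _ (checkFactF_eq cert) 781000 1000 chkF_781000 i (by omega) (by omega)
            · skip
              rcases Nat.lt_or_ge i 783000 with h7 | h7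
              · skip
                exact allRangeF_sound _ _ (checkFactF_eq cert) 782000 1000 chkF_782000 i (by omega) (by omega)
              · skip
                exact allRangeF_sound _ _ (checkFactF_eq cert) 783000 1000 chkF_783000 i (by omega) (by omega)
          · skip
            rcases Nat.lt_or_ge i 786000 with h6 | h6
            · skip
              rcases Nat.lt_or_ge i 785000 with h7 | h7
              · skip
                exact allRangeF_sound _ _ (checkFactF_eq cert) 784000 1000 chkF_784000 i (by omega) (by omega)
              · skip
                exact allRangeF_sound _ _ (checkFactF_eq cert) 785000 1000 chkF_785000 i (by omega) (by omega)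
            · skip
              rcases Nat.lt_or_ge i 787000 with h7 | h7
              · skip
                exact allRangeF_sound _ _ (checkFactF_eq cert) 786000 1000 chkF_786000 i (by omega) (by omega)
              · skip
                exact allRangeF_sound _ _ (checkFactF_eq cert) 787000 1000 chkF_787000 i (by omega) (by omega)
        · skip
          rcases Nat.lt_or_ge i 792000 with h5 | h5
          · skip
            rcases Nat.lt_or_ge i 790000 with h6 | h6
            · skip
              rcases Nat.lt_or_ge i 789000 with h7 | h7
              · skip
                exact allRangeF_sound _ _ (checkFactF_eq cert) 788000 1000 chkF_788000 i (by omega) (by omega)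
              · skip
                exact allRangeF_sound _ _ (checkFactF_eq cert) 789000 1000 chkF_789000 i (by omega) (by omega)
            · skip
              rcases Nat.lt_or_ge i 791000 with h7 | h7
              · skip
                exact allRangeF_sound _ _ (checkFactF_eq cert) 790000 1000 chkF_790000 i (by omega) (by omega)
              · skip
                exact allRangeF_sound _ _ (checkFactF_eq cert) 791000 1000 chkF_791000 i (by omega) (by omega)
          · skip
            rcases Nat.lt_or_ge i 794000 with h6 | h6
            · skip
              rcases Nat.lt_or_ge i 793000 with h7 | h7
              · skip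
                exact allRangeF_sound _ _ (checkFactF_eq cert) 792000 1000 chkF_792000 i (by omega) (by omega)
              · skip
                exact allRangeF_sound _ _ (checkFactF_eq cert) 793000 1000 chkF_793000 i (by omega) (by omega)
            · skip
              rcases Nat.lt_or_ge i 795000 with h7 | h7
              · skip
                exact allRangeF_sound _ _ (checkFactF_eq cert) 794000 1000 chkF_794000 i (by omega) (by omega)
              · skip
                exact allRangeF_sound _ _ (checkFactF_eq cert) 795000 1000 chkF_795000 i (by omega) (by omega)
    · skip
      rcases Nat.lt_or_ge i 811000 with h3 | h3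
      · skip
        rcases Nat.lt_or_ge i 803000 with h4 | h4
        · skip
          rcases Nat.lt_or_ge i 799000 with h5 | h5
          · skip
            rcases Nat.lt_or_ge i 797000 with h6 | h6
            · skip
              exact allRangeF_sound _ _ (checkFactF_eq cert) 796000 1000 chkF_796000 i (by omega) (by omega)
            · skip
              rcases Nat.lt_or_ge i 798000 with h7 | h7
              · skip
                exact allRangeF_sound _ _ (checkFactF_eq cert) 797000 1000 chkF_797000 i (by omega) (by omega)
              · skip
                exact allRangeF_sound _ _ (checkFactF_eq cert) 798000 1000 chkF_798000 i (by omega) (by omega)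
          · skip
            rcases Nat.lt_or_ge i 801000 with h6 | h6
            · skip
              rcases Nat.lt_or_ge i 800000 with h7 | h7
              · skip
                exact allRangeF_sound _ _ (checkFactF_eq cert) 799000 1000 chkF_799000 i (by omega) (by omega)
              · skip
                exact allRangeF_sound _ _ (checkFactF_eq cert) 800000 1000 chkF_800000 i (by omega) (by omega)
            · skip
              rcases Nat.lt_or_ge i 802000 with h7 | h7
              · skip
                exact allRangeF_sound _ _ (checkFactF_eq cert) 801000 1000 chkF_801000 i (by omega) (by omega)
              · skip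
                exact allRangeF_sound _ _ (checkFactF_eq cert) 802000 1000 chkF_802000 i (by omega) (by omega)
        · skip
          rcases Nat.lt_or_ge i 807000 with h5 | h5
          · skip
            rcases Nat.lt_or_ge i 805000 with h6 | h6
            · skip
              rcases Nat.lt_or_ge i 804000 with h7 | h7
              · skip
                exact allRangeF_sound _ _ (checkFactF_eq cert) 803000 1000 chkF_803000 i (by omega) (by omega)
              · skip
                exact allRangeF_sound _ _ (checkFactF_eq cert) 804000 1000 chkF_804000 i (by omega) (by omega)
            · skip
              rcases Nat.lt_or_ge i 806000 with h7 | h7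
              · skip
                exact allRangeF_sound _ _ (checkFactF_eq cert) 805000 1000 chkF_805000 i (by omega) (by omega)
              · skip
                exact allRangeF_sound _ _ (checkFactF_eq cert) 806000 1000 chkF_806000 i (by omega) (by omega)
          · skip
            rcases Nat.lt_or_ge i 809000 with h6 | h6
            · skip
              rcases Nat.lt_or_ge i 808000 with h7 | h7
              · skip
                exact allRangeF_sound _ _ (checkFactF_eq cert) 807000 1000 chkF_807000 i (by omega) (by omega)
              · skip
                exact allRangeF_sound _ _ (checkFactF_eq cert) 808000 1000 chkF_808000 i (by omega) (by omega)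
            · skip
              rcases Nat.lt_or_ge i 810000 with h7 | h7
              · skip
                exact allRangeF_sound _ _ (checkFactF_eq cert) 809000 1000 chkF_809000 i (by omega) (by omega)
              · skip
                exact allRangeF_sound _ _ (checkFactF_eq cert) 810000 1000 chkF_810000 i (by omega) (by omega)
      · skip
        rcases Nat.lt_or_ge i 818000 with h4 | h4
        · skip
          rcases Nat.lt_or_ge i 814000 with h5 | h5
          · skip
            rcases Nat.lt_or_ge i 812000 with h6 | h6
            · skip
              exact allRangeF_sound _ _ (checkFactF_eq cert) 811000 1000 chkF_811000 i (by omega) (by omega)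
            · skip
              rcases Nat.lt_or_ge i 813000 with h7 | h7
              · skip
                exact allRangeF_sound _ _ (checkFactF_eq cert) 812000 1000 chkF_812000 i (by omega) (by omega)
              · skip
                exact allRangeF_sound _ _ (checkFactF_eq cert) 813000 1000 chkF_813000 i (by omega) (by omega)
          · skip
            rcases Nat.lt_or_ge i 816000 with h6 | h6
            · skip
              rcases Nat.lt_or_ge i 815000 with h7 | h7
              · skip
                exact allRangeF_sound _ _ (checkFactF_eq cert) 814000 1000 chkF_814000 i (by omega) (by omega)
              · skip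
                exact allRangeF_sound _ _ (checkFactF_eq cert) 815000 1000 chkF_815000 i (by omega) (by omega)
            · skip
              rcases Nat.lt_or_ge i 817000 with h7 | h7
              · skip
                exact allRangeF_sound _ _ (checkFactF_eq cert) 816000 1000 chkF_816000 i (by omega) (by omega)
              · skip
                exact allRangeF_sound _ _ (checkFactF_eq cert) 817000 1000 chkF_817000 i (by omega) (by omega)
        · skip
          rcases Nat.lt_or_ge i 822000 with h5 | h5
          · skip
            rcases Nat.lt_or_ge i 820000 with h6 | h6
            · skip
              rcases Nat.lt_or_ge i 819000 with h7 | h7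
              · skip
                exact allRangeF_sound _ _ (checkFactF_eq cert) 818000 1000 chkF_818000 i (by omega) (by omega)
              · skip
                exact allRangeF_sound _ _ (checkFactF_eq cert) 819000 1000 chkF_819000 i (by omega) (by omega)
            · skip
              rcases Nat.lt_or_ge i 821000 with h7 | h7
              · skip
                exact allRangeF_sound _ _ (checkFactF_eq cert) 820000 1000 chkF_820000 i (by omega) (by omega)
              · skip
                exact allRangeF_sound _ _ (checkFactF_eq cert) 821000 1000 chkF_821000 i (by omega) (by omega)
          · skip
            rcases Nat.lt_or_ge i 824000 with h6 | h6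
            · skip
              rcases Nat.lt_or_ge i 823000 with h7 | h7
              · skip
                exact allRangeF_sound _ _ (checkFactF_eq cert) 822000 1000 chkF_822000 i (by omega) (by omega)
              · skip
                exact allRangeF_sound _ _ (checkFactF_eq cert) 823000 1000 chkF_823000 i (by omega) (by omega)
            · skip
              rcases Nat.lt_or_ge i 825000 with h7 | h7
              · skip
                exact allRangeF_sound _ _ (checkFactF_eq cert) 824000 1000 chkF_824000 i (by omega) (by omega)
              · skip
                exact allRangeF_sound _ _ (checkFactF_eq cert) 825000 1000 chkF_825000 i (by omega) (by omega)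

end Cfsg.Agent.Lib.Helper28.He2Data
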