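import Cfsg.Agent.Lib.Helper28.He2Data
import Cfsg.Agent.Lib.Helper28.TCFastF

set_option autoImplicit false
set_option maxRecDepth 1000000
set_option linter.all false
set_option Elab.async false

namespace Cfsg.Agent.Lib.Helper28.He2Data

open Cfsg.Agent.Lib.Helper28

theorem chkF_826000 : allRangeF (checkFactF cert) (nat_lit 826000) (nat_lit 1000) = true := by decide +kernel
theorem chkF_827000 : allRangeF (checkFactF cert) (nat_lit 827000) (nat_lit 1000) = true := by decide +kernel
theorem chkF_828000 : allRangeF (checkFactF cert) (nat_lit 828000) (nat_lit 1000) = true := by decide +kernel
theorem chkF_829000 : allRangeF (checkFactF cert) (nat_lit 829000) (nat_lit 1000) = true := by decide +kernel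
theorem chkF_830000 : allRangeF (checkFactF cert) (nat_lit 830000) (nat_lit 1000) = true := by decide +kernel
theorem chkF_831000 : allRangeF (checkFactF cert) (nat_lit 831000) (nat_lit 1000) = true := by decide +kernel
theorem chkF_832000 : allRangeF (checkFactF cert) (nat_lit 832000) (nat_lit 1000) = true := by decide +kernel
theorem chkF_833000 : allRangeF (checkFactF cert) (nat_lit 833000) (nat_lit 1000) = true := by decide +kernel
theorem chkF_834000 : allRangeF (checkFactF cert) (nat_lit 834000) (nat_lit 1000) = true := by decide +kernel
theorem chkF_835000 : allRangeF (checkFactF cert) (nat_lit 835000) (nat_lit 1000) = true := by decide +kernel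
theorem chkF_836000 : allRangeF (checkFactF cert) (nat_lit 836000) (nat_lit 1000) = true := by decide +kernel
theorem chkF_837000 : allRangeF (checkFactF cert) (nat_lit 837000) (nat_lit 1000) = true := by decide +kernel
theorem chkF_838000 : allRangeF (checkFactF cert) (nat_lit 838000) (nat_lit 1000) = true := by decide +kernel
theorem chkF_839000 : allRangeF (checkFactF cert) (nat_lit 839000) (nat_lit 1000) = true := by decide +kernel
theorem chkF_840000 : allRangeF (checkFactF cert) (nat_lit 840000) (nat_lit 1000) = true := by decide +kernel
theorem chkF_841000 : allRangeF (checkFactF cert) (nat_lit 841000) (nat_lit 1000) = true := by decide +kernel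
theorem chkF_842000 : allRangeF (checkFactF cert) (nat_lit 842000) (nat_lit 1000) = true := by decide +kernel
theorem chkF_843000 : allRangeF (checkFactF cert) (nat_lit 843000) (nat_lit 1000) = true := by decide +kernel
theorem chkF_844000 : allRangeF (checkFactF cert) (nat_lit 844000) (nat_lit 1000) = true := by decide +kernel
theorem chkF_845000 : allRangeF (checkFactF cert) (nat_lit 845000) (nat_lit 1000) = true := by decide +kernel
theorem chkF_846000 : allRangeF (checkFactF cert) (nat_lit 846000) (nat_lit 1000) = true := by decide +kernel
theorem chkF_847000 : allRangeF (checkFactF cert) (nat_lit 847000) (nat_lit 1000) = true := by decide +kernel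
theorem chkF_848000 : allRangeF (checkFactF cert) (nat_lit 848000) (nat_lit 1000) = true := by decide +kernel
theorem chkF_849000 : allRangeF (checkFactF cert) (nat_lit 849000) (nat_lit 1000) = true := by decide +kernel
theorem chkF_850000 : allRangeF (checkFactF cert) (nat_lit 850000) (nat_lit 1000) = true := by decide +kernel
theorem chkF_851000 : allRangeF (checkFactF cert) (nat_lit 851000) (nat_lit 1000) = true := by decide +kernel
theorem chkF_852000 : allRangeF (checkFactF cert) (nat_lit 852000) (nat_lit 1000) = true := by decide +kernel
theorem chkF_853000 : allRangeF (checkFactF cert) (nat_lit 853000) (nat_lit 1000) = true := by decide +kernel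
theorem chkF_854000 : allRangeF (checkFactF cert) (nat_lit 854000) (nat_lit 1000) = true := by decide +kernel
theorem chkF_855000 : allRangeF (checkFactF cert) (nat_lit 855000) (nat_lit 1000) = true := by decide +kernel
theorem chkF_856000 : allRangeF (checkFactF cert) (nat_lit 856000) (nat_lit 1000) = true := by decide +kernel
theorem chkF_857000 : allRangeF (checkFactF cert) (nat_lit 857000) (nat_lit 1000) = true := by decide +kernel
theorem chkF_858000 : allRangeF (checkFactF cert) (nat_lit 858000) (nat_lit 1000) = true := by decide +kernel
theorem chkF_859000 : allRangeF (checkFactF cert) (nat_lit 859000) (nat_lit 1000) = true := by decide +kernel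
theorem chkF_860000 : allRangeF (checkFactF cert) (nat_lit 860000) (nat_lit 1000) = true := by decide +kernel
theorem chkF_861000 : allRangeF (checkFactF cert) (nat_lit 861000) (nat_lit 1000) = true := by decide +kernel
theorem chkF_862000 : allRangeF (checkFactF cert) (nat_lit 862000) (nat_lit 1000) = true := by decide +kernel
theorem chkF_863000 : allRangeF (checkFactF cert) (nat_lit 863000) (nat_lit 1000) = true := by decide +kernel
theorem chkF_864000 : allRangeF (checkFactF cert) (nat_lit 864000) (nat_lit 1000) = true := by decide +kernel
theorem chkF_865000 : allRangeF (checkFactF cert) (nat_lit 865000) (nat_lit 1000) = true := by decide +kernel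
theorem chkF_866000 : allRangeF (checkFactF cert) (nat_lit 866000) (nat_lit 1000) = true := by decide +kernel
theorem chkF_867000 : allRangeF (checkFactF cert) (nat_lit 867000) (nat_lit 1000) = true := by decide +kernel
theorem chkF_868000 : allRangeF (checkFactF cert) (nat_lit 868000) (nat_lit 1000) = true := by decide +kernel
theorem chkF_869000 : allRangeF (checkFactF cert) (nat_lit 869000) (nat_lit 1000) = true := by decide +kernel
theorem chkF_870000 : allRangeF (checkFactF cert) (nat_lit 870000) (nat_lit 1000) = true := by decide +kernel
theorem chkF_871000 : allRangeF (checkFactF cert) (nat_lit 871000) (nat_lit 1000) = true := by decide +kernel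
theorem chkF_872000 : allRangeF (checkFactF cert) (nat_lit 872000) (nat_lit 1000) = true := by decide +kernel
theorem chkF_873000 : allRangeF (checkFactF cert) (nat_lit 873000) (nat_lit 1000) = true := by decide +kernel
theorem chkF_874000 : allRangeF (checkFactF cert) (nat_lit 874000) (nat_lit 1000) = true := by decide +kernel
theorem chkF_875000 : allRangeF (checkFactF cert) (nat_lit 875000) (nat_lit 1000) = true := by decide +kernel
theorem chkF_876000 : allRangeF (checkFactF cert) (nat_lit 876000) (nat_lit 1000) = true := by decide +kernel
theorem chkF_877000 : allRangeF (checkFactF cert) (nat_lit 877000) (nat_lit 1000) = true := by decide +kernel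
theorem chkF_878000 : allRangeF (checkFactF cert) (nat_lit 878000) (nat_lit 1000) = true := by decide +kernel
theorem chkF_879000 : allRangeF (checkFactF cert) (nat_lit 879000) (nat_lit 1000) = true := by decide +kernel
theorem chkF_880000 : allRangeF (checkFactF cert) (nat_lit 880000) (nat_lit 1000) = true := by decide +kernel
theorem chkF_881000 : allRangeF (checkFactF cert) (nat_lit 881000) (nat_lit 1000) = true := by decide +kernel
theorem chkF_882000 : allRangeF (checkFactF cert) (nat_lit 882000) (nat_lit 1000) = true := by decide +kernel
theorem chkF_883000 : allRangeF (checkFactF cert) (nat_lit 883000) (nat_lit 1000) = true := by decide +kernel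
theorem chkF_884000 : allRangeF (checkFactF cert) (nat_lit 884000) (nat_lit 1000) = true := by decide +kernel
theorem chkF_885000 : allRangeF (checkFactF cert) (nat_lit 885000) (nat_lit 1000) = true := by decide +kernel
theorem chkF_886000 : allRangeF (checkFactF cert) (nat_lit 886000) (nat_lit 1000) = true := by decide +kernel
theorem chkF_887000 : allRangeF (checkFactF cert) (nat_lit 887000) (nat_lit 1000) = true := by decide +kernel
theorem chkF_888000 : allRangeF (checkFactF cert) (nat_lit 888000) (nat_lit 1000) = true := by decide +kernel
theorem chkF_889000 : allRangeF (checkFactF cert) (nat_lit 889000) (nat_lit 1000) = true := by decide +kernel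
theorem chkF_890000 : allRangeF (checkFactF cert) (nat_lit 890000) (nat_lit 1000) = true := by decide +kernel
theorem chkF_891000 : allRangeF (checkFactF cert) (nat_lit 891000) (nat_lit 1000) = true := by decide +kernel
theorem chkF_892000 : allRangeF (checkFactF cert) (nat_lit 892000) (nat_lit 1000) = true := by decide +kernel
theorem chkF_893000 : allRangeF (checkFactF cert) (nat_lit 893000) (nat_lit 1000) = true := by decide +kernel
theorem chkF_894000 : allRangeF (checkFactF cert) (nat_lit 894000) (nat_lit 1000) = true := by decide +kernel
theorem chkF_895000 : allRangeF (checkFactF cert) (nat_lit 895000) (nat_lit 1000) = true := by decide +kernel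
theorem chkF_896000 : allRangeF (checkFactF cert) (nat_lit 896000) (nat_lit 1000) = true := by decide +kernel
theorem chkF_897000 : allRangeF (checkFactF cert) (nat_lit 897000) (nat_lit 1000) = true := by decide +kernel
theorem chkF_898000 : allRangeF (checkFactF cert) (nat_lit 898000) (nat_lit 1000) = true := by decide +kernel
theorem chkF_899000 : allRangeF (checkFactF cert) (nat_lit 899000) (nat_lit 1000) = true := by decide +kernel
theorem chkF_900000 : allRangeF (checkFactF cert) (nat_lit 900000) (nat_lit 1000) = true := by decide +kernel
theorem chkF_901000 : allRangeF (checkFactF cert) (nat_lit 901000) (nat_lit 1000) = true := by decide +kernel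
theorem chkF_902000 : allRangeF (checkFactF cert) (nat_lit 902000) (nat_lit 1000) = true := by decide +kernel
theorem chkF_903000 : allRangeF (checkFactF cert) (nat_lit 903000) (nat_lit 1000) = true := by decide +kernel
theorem chkF_904000 : allRangeF (checkFactF cert) (nat_lit 904000) (nat_lit 1000) = true := by decide +kernel
theorem chkF_905000 : allRangeF (checkFactF cert) (nat_lit 905000) (nat_lit 1000) = true := by decide +kernel
theorem chkF_906000 : allRangeF (checkFactF cert) (nat_lit 906000) (nat_lit 1000) = true := by decide +kernel
theorem chkF_907000 : allRangeF (checkFactF cert) (nat_lit 907000) (nat_lit 1000) = true := by decide +kernel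
theorem chkF_908000 : allRangeF (checkFactF cert) (nat_lit 908000) (nat_lit 1000) = true := by decide +kernel
theorem chkF_909000 : allRangeF (checkFactF cert) (nat_lit 909000) (nat_lit 1000) = true := by decide +kernel
theorem chkF_910000 : allRangeF (checkFactF cert) (nat_lit 910000) (nat_lit 1000) = true := by decide +kernel
theorem chkF_911000 : allRangeF (checkFactF cert) (nat_lit 911000) (nat_lit 1000) = true := by decide +kernel
theorem chkF_912000 : allRangeF (checkFactF cert) (nat_lit 912000) (nat_lit 1000) = true := by decide +kernel
theorem chkF_913000 : allRangeF (checkFactF cert) (nat_lit 913000) (nat_lit 1000) = true := by decide +kernel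
theorem chkF_914000 : allRangeF (checkFactF cert) (nat_lit 914000) (nat_lit 1000) = true := by decide +kernel
theorem chkF_915000 : allRangeF (checkFactF cert) (nat_lit 915000) (nat_lit 1000) = true := by decide +kernel
theorem chkF_916000 : allRangeF (checkFactF cert) (nat_lit 916000) (nat_lit 1000) = true := by decide +kernel
theorem chkF_917000 : allRangeF (checkFactF cert) (nat_lit 917000) (nat_lit 1000) = true := by decide +kernel
theorem chkF_918000 : allRangeF (checkFactF cert) (nat_lit 918000) (nat_lit 1000) = true := by decide +kernel
theorem chkF_919000 : allRangeF (checkFactF cert) (nat_lit 919000) (nat_lit 1000) = true := by decide +kernel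
theorem chkF_920000 : allRangeF (checkFactF cert) (nat_lit 920000) (nat_lit 1000) = true := by decide +kernel
theorem chkF_921000 : allRangeF (checkFactF cert) (nat_lit 921000) (nat_lit 1000) = true := by decide +kernel
theorem chkF_922000 : allRangeF (checkFactF cert) (nat_lit 922000) (nat_lit 1000) = true := by decide +kernel
theorem chkF_923000 : allRangeF (checkFactF cert) (nat_lit 923000) (nat_lit 1000) = true := by decide +kernel
theorem chkF_924000 : allRangeF (checkFactF cert) (nat_lit 924000) (nat_lit 1000) = true := by decide +kernel
theorem chkF_925000 : allRangeF (checkFactF cert) (nat_lit 925000) (nat_lit 1000) = true := by decide +kernel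
theorem chkF_926000 : allRangeF (checkFactF cert) (nat_lit 926000) (nat_lit 1000) = true := by decide +kernel
theorem chkF_927000 : allRangeF (checkFactF cert) (nat_lit 927000) (nat_lit 1000) = true := by decide +kernel
theorem chkF_928000 : allRangeF (checkFactF cert) (nat_lit 928000) (nat_lit 1000) = true := by decide +kernel
theorem chkF_929000 : allRangeF (checkFactF cert) (nat_lit 929000) (nat_lit 1000) = true := by decide +kernel
theorem chkF_930000 : allRangeF (checkFactF cert) (nat_lit 930000) (nat_lit 1000) = true := by decide +kernel
theorem chkF_931000 : allRangeF (checkFactF cert) (nat_lit 931000) (nat_lit 1000) = true := by decide +kernel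
theorem chkF_932000 : allRangeF (checkFactF cert) (nat_lit 932000) (nat_lit 1000) = true := by decide +kernel
theorem chkF_933000 : allRangeF (checkFactF cert) (nat_lit 933000) (nat_lit 1000) = true := by decide +kernel
theorem chkF_934000 : allRangeF (checkFactF cert) (nat_lit 934000) (nat_lit 1000) = true := by decide +kernel
theorem chkF_935000 : allRangeF (checkFactF cert) (nat_lit 935000) (nat_lit 1000) = true := by decide +kernel
theorem chkF_936000 : allRangeF (checkFactF cert) (nat_lit 936000) (nat_lit 1000) = true := by decide +kernel
theorem chkF_937000 : allRangeF (checkFactF cert) (nat_lit 937000) (nat_lit 1000) = true := by decide +kernel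
theorem chkF_938000 : allRangeF (checkFactF cert) (nat_lit 938000) (nat_lit 1000) = true := by decide +kernel
theorem chkF_939000 : allRangeF (checkFactF cert) (nat_lit 939000) (nat_lit 1000) = true := by decide +kernel
theorem chkF_940000 : allRangeF (checkFactF cert) (nat_lit 940000) (nat_lit 1000) = true := by decide +kernel
theorem chkF_941000 : allRangeF (checkFactF cert) (nat_lit 941000) (nat_lit 1000) = true := by decide +kernel
theorem chkF_942000 : allRangeF (checkFactF cert) (nat_lit 942000) (nat_lit 1000) = true := by decide +kernel
theorem chkF_943000 : allRangeF (checkFactF cert) (nat_lit 943000) (nat_lit 1000) = true := by decide +kernel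

theorem factsRange_7 : ∀ i, 826000 ≤ i → i < 944000 → checkFact cert i = true := by
  intro i hlo hhi
  rcases Nat.lt_or_ge i 885000 with h1 | h1
  · skip
    rcases Nat.lt_or_ge i 855000 with h2 | h2
    · skip
      rcases Nat.lt_or_ge i 840000 with h3 | h3
      · skip
        rcases Nat.lt_or_ge i 833000 with h4 | h4
        · skip
          rcases Nat.lt_or_ge i 829000 with h5 | h5
          · skip
            rcases Nat.lt_or_ge i 827000 with h6 | h6
            · skip
              exact allRangeF_sound _ _ (checkFactF_eq cert) 826000 1000 chkF_826000 i (by omega) (by omega)
            · skip
              rcases Nat.lt_or_ge i 828000 with h7 | h7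
              · skip
                exact allRangeF_sound _ _ (checkFactF_eq cert) 827000 1000 chkF_827000 i (by omega) (by omega)
              · skip
                exact allRangeF_sound _ _ (checkFactF_eq cert) 828000 1000 chkF_828000 i (by omega) (by omega)
          · skip
            rcases Nat.lt_or_ge i 831000 with h6 | h6
            · skip
              rcases Nat.lt_or_ge i 830000 with h7 | h7
              · skip
                exact allRangeF_sound _ _ (checkFactF_eq cert) 829000 1000 chkF_829000 i (by omega) (by omega)
              · skip
                exact allRangeF_sound _ _ (checkFactF_eq cert) 830000 1000 chkF_830000 i (by omega) (by omega)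
            · skip
              rcases Nat.lt_or_ge i 832000 with h7 | h7
              · skip
                exact allRangeF_sound _ _ (checkFactF_eq cert) 831000 1000 chkF_831000 i (by omega) (by omega)
              · skip
                exact allRangeF_sound _ _ (checkFactF_eq cert) 832000 1000 chkF_832000 i (by omega) (by omega)
        · skip
          rcases Nat.lt_or_ge i 836000 with h5 | h5
          · skip
            rcases Nat.lt_or_ge i 834000 with h6 | h6
            · skip
              exact allRangeF_sound _ _ (checkFactF_eq cert) 833000 1000 chkF_833000 i (by omega) (by omega)
            · skip
              rcases Nat.lt_or_ge i 835000 with h7 | h7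
              · skip
                exact allRangeF_sound _ _ (checkFactF_eq cert) 834000 1000 chkF_834000 i (by omega) (by omega)
              · skip
                exact allRangeF_sound _ _ (checkFactF_eq cert) 835000 1000 chkF_835000 i (by omega) (by omega)
          · skip
            rcases Nat.lt_or_ge i 838000 with h6 | h6
            · skip
              rcases Nat.lt_or_ge i 837000 with h7 | h7
              · skip
                exact allRangeF_sound _ _ (checkFactF_eq cert) 836000 1000 chkF_836000 i (by omega) (by omega)
              · skip
                exact allRangeF_sound _ _ (checkFactF_eq cert) 837000 1000 chkF_837000 i (by omega) (by omega)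
            · skip
              rcases Nat.lt_or_ge i 839000 with h7 | h7
              · skip
                exact allRangeF_sound _ _ (checkFactF_eq cert) 838000 1000 chkF_838000 i (by omega) (by omega)
              · skip
                exact allRangeF_sound _ _ (checkFactF_eq cert) 839000 1000 chkF_839000 i (by omega) (by omega)
      · skip
        rcases Nat.lt_or_ge i 847000 with h4 | h4
        · skip
          rcases Nat.lt_or_ge i 843000 with h5 | h5
          · skip
            rcases Nat.lt_or_ge i 841000 with h6 | h6
            · skip
              exact allRangeF_sound _ _ (checkFactF_eq cert) 840000 1000 chkF_840000 i (by omega) (by omega)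
            · skip
              rcases Nat.lt_or_ge i 842000 with h7 | h7
              · skip
                exact allRangeF_sound _ _ (checkFactF_eq cert) 841000 1000 chkF_841000 i (by omega) (by omega)
              · skip
                exact allRangeF_sound _ _ (checkFactF_eq cert) 842000 1000 chkF_842000 i (by omega) (by omega)
          · skip
            rcases Nat.lt_or_ge i 845000 with h6 | h6
            · skip
              rcases Nat.lt_or_ge i 844000 with h7 | h7
              · skip
                exact allRangeF_sound _ _ (checkFactF_eq cert) 843000 1000 chkF_843000 i (by omega) (by omega)
              · skip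
                exact allRangeF_sound _ _ (checkFactF_eq cert) 844000 1000 chkF_844000 i (by omega) (by omega)
            · skip
              rcases Nat.lt_or_ge i 846000 with h7 | h7
              · skip
                exact allRangeF_sound _ _ (checkFactF_eq cert) 845000 1000 chkF_845000 i (by omega) (by omega)
              · skip
                exact allRangeF_sound _ _ (checkFactF_eq cert) 846000 1000 chkF_846000 i (by omega) (by omega)
        · skip
          rcases Nat.lt_or_ge i 851000 with h5 | h5
          · skip
            rcases Nat.lt_or_ge i 849000 with h6 | h6
            · skip
              rcases Nat.lt_or_ge i 848000 with h7 | h7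
              · skip
                exact allRangeF_sound _ _ (checkFactF_eq cert) 847000 1000 chkF_847000 i (by omega) (by omega)
              · skip
                exact allRangeF_sound _ _ (checkFactF_eq cert) 848000 1000 chkF_848000 i (by omega) (by omega)
            · skip
              rcases Nat.lt_or_ge i 850000 with h7 | h7
              · skip
                exact allRangeF_sound _ _ (checkFactF_eq cert) 849000 1000 chkF_849000 i (by omega) (by omega)
              · skip
                exact allRangeF_sound _ _ (checkFactF_eq cert) 850000 1000 chkF_850000 i (by omega) (by omega)
          · skip
            rcases Nat.lt_or_ge i 853000 with h6 | h6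
            · skip
              rcases Nat.lt_or_ge i 852000 with h7 | h7
              · skip
                exact allRangeF_sound _ _ (checkFactF_eq cert) 851000 1000 chkF_851000 i (by omega) (by omega)
              · skip
                exact allRangeF_sound _ _ (checkFactF_eq cert) 852000 1000 chkF_852000 i (by omega) (by omega)
            · skip
              rcases Nat.lt_or_ge i 854000 with h7 | h7
              · skip
                exact allRangeF_sound _ _ (checkFactF_eq cert) 853000 1000 chkF_853000 i (by omega) (by omega)
              · skip
                exact allRangeF_sound _ _ (checkFactF_eq cert) 854000 1000 chkF_854000 i (by omega) (by omega)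
    · skip
      rcases Nat.lt_or_ge i 870000 with h3 | h3
      · skip
        rcases Nat.lt_or_ge i 862000 with h4 | h4
        · skip
          rcases Nat.lt_or_ge i 858000 with h5 | h5
          · skip
            rcases Nat.lt_or_ge i 856000 with h6 | h6
            · skip
              exact allRangeF_sound _ _ (checkFactF_eq cert) 855000 1000 chkF_855000 i (by omega) (by omega)
            · skip
              rcases Nat.lt_or_ge i 857000 with h7 | h7
              · skip
                exact allRangeF_sound _ _ (checkFactF_eq cert) 856000 1000 chkF_856000 i (by omega) (by omega)
              · skip
                exact allRangeF_sound _ _ (checkFactF_eq cert) 857000 1000 chkF_857000 i (by omega) (by omega)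
          · skip
            rcases Nat.lt_or_ge i 860000 with h6 | h6
            · skip
              rcases Nat.lt_or_ge i 859000 with h7 | h7
              · skip
                exact allRangeF_sound _ _ (checkFactF_eq cert) 858000 1000 chkF_858000 i (by omega) (by omega)
              · skip
                exact allRangeF_sound _ _ (checkFactF_eq cert) 859000 1000 chkF_859000 i (by omega) (by omega)
            · skip
              rcases Nat.lt_or_ge i 861000 with h7 | h7
              · skip
                exact allRangeF_sound _ _ (checkFactF_eq cert) 860000 1000 chkF_860000 i (by omega) (by omega)
              · skip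
                exact allRangeF_sound _ _ (checkFactF_eq cert) 861000 1000 chkF_861000 i (by omega) (by omega)
        · skip
          rcases Nat.lt_or_ge i 866000 with h5 | h5
          · skip
            rcases Nat.lt_or_ge i 864000 with h6 | h6
            · skip
              rcases Nat.lt_or_ge i 863000 with h7 | h7
              · skip
                exact allRangeF_sound _ _ (checkFactF_eq cert) 862000 1000 chkF_862000 i (by omega) (by omega)
              · skip
                exact allRangeF_sound _ _ (checkFactF_eq cert) 863000 1000 chkF_863000 i (by omega) (by omega)
            · skip
              rcases Nat.lt_or_ge i 865000 with h7 | h7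
              · skip
                exact allRangeF_sound _ _ (checkFactF_eq cert) 864000 1000 chkF_864000 i (by omega) (by omega)
              · skip
                exact allRangeF_sound _ _ (checkFactF_eq cert) 865000 1000 chkF_865000 i (by omega) (by omega)
          · skip
            rcases Nat.lt_or_ge i 868000 with h6 | h6
            · skip
              rcases Nat.lt_or_ge i 867000 with h7 | h7
              · skip
                exact allRangeF_sound _ _ (checkFactF_eq cert) 866000 1000 chkF_866000 i (by omega) (by omega)
              · skip
                exact allRangeF_sound _ _ (checkFactF_eq cert) 867000 1000 chkF_867000 i (by omega) (by omega)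
            · skip
              rcases Nat.lt_or_ge i 869000 with h7 | h7
              · skip
                exact allRangeF_sound _ _ (checkFactF_eq cert) 868000 1000 chkF_868000 i (by omega) (by omega)
              · skip
                exact allRangeF_sound _ _ (checkFactF_eq cert) 869000 1000 chkF_869000 i (by omega) (by omega)
      · skip
        rcases Nat.lt_or_ge i 877000 with h4 | h4
        · skip
          rcases Nat.lt_or_ge i 873000 with h5 | h5
          · skip
            rcases Nat.lt_or_ge i 871000 with h6 | h6
            · skip
              exact allRangeF_sound _ _ (checkFactF_eq cert) 870000 1000 chkF_870000 i (by omega) (by omega)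
            · skip
              rcases Nat.lt_or_ge i 872000 with h7 | h7
              · skip
                exact allRangeF_sound _ _ (checkFactF_eq cert) 871000 1000 chkF_871000 i (by omega) (by omega)
              · skip
                exact allRangeF_sound _ _ (checkFactF_eq cert) 872000 1000 chkF_872000 i (by omega) (by omega)
          · skip
            rcases Nat.lt_or_ge i 875000 with h6 | h6
            · skip
              rcases Nat.lt_or_ge i 874000 with h7 | h7
              · skip
                exact allRangeF_sound _ _ (checkFactF_eq cert) 873000 1000 chkF_873000 i (by omega) (by omega)
              · skip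
                exact allRangeF_sound _ _ (checkFactF_eq cert) 874000 1000 chkF_874000 i (by omega) (by omega)
            · skip
              rcases Nat.lt_or_ge i 876000 with h7 | h7
              · skip
                exact allRangeF_sound _ _ (checkFactF_eq cert) 875000 1000 chkF_875000 i (by omega) (by omega)
              · skip
                exact allRangeF_sound _ _ (checkFactF_eq cert) 876000 1000 chkF_876000 i (by omega) (by omega)
        · skip
          rcases Nat.lt_or_ge i 881000 with h5 | h5
          · skip
            rcases Nat.lt_or_ge i 879000 with h6 | h6
            · skip
              rcases Nat.lt_or_ge i 878000 with h7 | h7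
              · skip
                exact allRangeF_sound _ _ (checkFactF_eq cert) 877000 1000 chkF_877000 i (by omega) (by omega)
              · skip
                exact allRangeF_sound _ _ (checkFactF_eq cert) 878000 1000 chkF_878000 i (by omega) (by omega)
            · skip
              rcases Nat.lt_or_ge i 880000 with h7 | h7
              · skip
                exact allRangeF_sound _ _ (checkFactF_eq cert) 879000 1000 chkF_879000 i (by omega) (by omega)
              · skip
                exact allRangeF_sound _ _ (checkFactF_eq cert) 880000 1000 chkF_880000 i (by omega) (by omega)
          · skip
            rcases Nat.lt_or_ge i 883000 with h6 | h6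
            · skip
              rcases Nat.lt_or_ge i 882000 with h7 | h7
              · skip
                exact allRangeF_sound _ _ (checkFactF_eq cert) 881000 1000 chkF_881000 i (by omega) (by omega)
              · skip
                exact allRangeF_sound _ _ (checkFactF_eq cert) 882000 1000 chkF_882000 i (by omega) (by omega)
            · skip
              rcases Nat.lt_or_ge i 884000 with h7 | h7
              · skip
                exact allRangeF_sound _ _ (checkFactF_eq cert) 883000 1000 chkF_883000 i (by omega) (by omega)
              · skip
                exact allRangeF_sound _ _ (checkFactF_eq cert) 884000 1000 chkF_884000 i (by omega) (by omega)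
  · skip
    rcases Nat.lt_or_ge i 914000 with h2 | h2
    · skip
      rcases Nat.lt_or_ge i 899000 with h3 | h3
      · skip
        rcases Nat.lt_or_ge i 892000 with h4 | h4
        · skip
          rcases Nat.lt_or_ge i 888000 with h5 | h5
          · skip
            rcases Nat.lt_or_ge i 886000 with h6 | h6
            · skip
              exact allRangeF_sound _ _ (checkFactF_eq cert) 885000 1000 chkF_885000 i (by omega) (by omega)
            · skip
              rcases Nat.lt_or_ge i 887000 with h7 | h7
              · skip
                exact allRangeF_sound _ _ (checkFactF_eq cert) 886000 1000 chkF_886000 i (by omega) (by omega)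
              · skip
                exact allRangeF_sound _ _ (checkFactF_eq cert) 887000 1000 chkF_887000 i (by omega) (by omega)
          · skip
            rcases Nat.lt_or_ge i 890000 with h6 | h6
            · skip
              rcases Nat.lt_or_ge i 889000 with h7 | h7
              · skip
                exact allRangeF_sound _ _ (checkFactF_eq cert) 888000 1000 chkF_888000 i (by omega) (by omega)
              · skip
                exact allRangeF_sound _ _ (checkFactF_eq cert) 889000 1000 chkF_889000 i (by omega) (by omega)
            · skip
              rcases Nat.lt_or_ge i 891000 with h7 | h7
              · skip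
                exact allRangeF_sound _ _ (checkFactF_eq cert) 890000 1000 chkF_890000 i (by omega) (by omega)
              · skip
                exact allRangeF_sound _ _ (checkFactF_eq cert) 891000 1000 chkF_891000 i (by omega) (by omega)
        · skip
          rcases Nat.lt_or_ge i 895000 with h5 | h5
          · skip
            rcases Nat.lt_or_ge i 893000 with h6 | h6
            · skip
              exact allRangeF_sound _ _ (checkFactF_eq cert) 892000 1000 chkF_892000 i (by omega) (by omega)
            · skip
              rcases Nat.lt_or_ge i 894000 with h7 | h7
              · skip
                exact allRangeF_sound _ _ (checkFactF_eq cert) 893000 1000 chkF_893000 i (by omega) (by omega)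
              · skip
                exact allRangeF_sound _ _ (checkFactF_eq cert) 894000 1000 chkF_894000 i (by omega) (by omega)
          · skip
            rcases Nat.lt_or_ge i 897000 with h6 | h6
            · skip
              rcases Nat.lt_or_ge i 896000 with h7 | h7
              · skip
                exact allRangeF_sound _ _ (checkFactF_eq cert) 895000 1000 chkF_895000 i (by omega) (by omega)
              · skip
                exact allRangeF_sound _ _ (checkFactF_eq cert) 896000 1000 chkF_896000 i (by omega) (by omega)
            · skip
              rcases Nat.lt_or_ge i 898000 with h7 | h7
              · skip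
                exact allRangeF_sound _ _ (checkFactF_eq cert) 897000 1000 chkF_897000 i (by omega) (by omega)
              · skip
                exact allRangeF_sound _ _ (checkFactF_eq cert) 898000 1000 chkF_898000 i (by omega) (by omega)
      · skip
        rcases Nat.lt_or_ge i 906000 with h4 | h4
        · skip
          rcases Nat.lt_or_ge i 902000 with h5 | h5
          · skip
            rcases Nat.lt_or_ge i 900000 with h6 | h6
            · skip
              exact allRangeF_sound _ _ (checkFactF_eq cert) 899000 1000 chkF_899000 i (by omega) (by omega)
            · skip
              rcases Nat.lt_or_ge i 901000 with h7 | h7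
              · skip
                exact allRangeF_sound _ _ (checkFactF_eq cert) 900000 1000 chkF_900000 i (by omega) (by omega)
              · skip
                exact allRangeF_sound _ _ (checkFactF_eq cert) 901000 1000 chkF_901000 i (by omega) (by omega)
          · skip
            rcases Nat.lt_or_ge i 904000 with h6 | h6
            · skip
              rcases Nat.lt_or_ge i 903000 with h7 | h7
              · skip
                exact allRangeF_sound _ _ (checkFactF_eq cert) 902000 1000 chkF_902000 i (by omega) (by omega)
              · skip
                exact allRangeF_sound _ _ (checkFactF_eq cert) 903000 1000 chkF_903000 i (by omega) (by omega)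
            · skip
              rcases Nat.lt_or_ge i 905000 with h7 | h7
              · skip
                exact allRangeF_sound _ _ (checkFactF_eq cert) 904000 1000 chkF_904000 i (by omega) (by omega)
              · skip
                exact allRangeF_sound _ _ (checkFactF_eq cert) 905000 1000 chkF_905000 i (by omega) (by omega)
        · skip
          rcases Nat.lt_or_ge i 910000 with h5 | h5
          · skip
            rcases Nat.lt_or_ge i 908000 with h6 | h6
            · skip
              rcases Nat.lt_or_ge i 907000 with h7 | h7
              · skip
                exact allRangeF_sound _ _ (checkFactF_eq cert) 906000 1000 chkF_906000 i (by omega) (by omega)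
              · skip
                exact allRangeF_sound _ _ (checkFactF_eq cert) 907000 1000 chkF_907000 i (by omega) (by omega)
            · skip
              rcases Nat.lt_or_ge i 909000 with h7 | h7
              · skip
                exact allRangeF_sound _ _ (checkFactF_eq cert) 908000 1000 chkF_908000 i (by omega) (by omega)
              · skip
                exact allRangeF_sound _ _ (checkFactF_eq cert) 909000 1000 chkF_909000 i (by omega) (by omega)
          · skip
            rcases Nat.lt_or_ge i 912000 with h6 | h6
            · skip
              rcases Nat.lt_or_ge i 911000 with h7 | h7
              · skip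
                exact allRangeF_sound _ _ (checkFactF_eq cert) 910000 1000 chkF_910000 i (by omega) (by omega)
              · skip
                exact allRangeF_sound _ _ (checkFactF_eq cert) 911000 1000 chkF_911000 i (by omega) (by omega)
            · skip
              rcases Nat.lt_or_ge i 913000 with h7 | h7
              · skip
                exact allRangeF_sound _ _ (checkFactF_eq cert) 912000 1000 chkF_912000 i (by omega) (by omega)
              · skip
                exact allRangeF_sound _ _ (checkFactF_eq cert) 913000 1000 chkF_913000 i (by omega) (by omega)
    · skip
      rcases Nat.lt_or_ge i 929000 with h3 | h3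
      · skip
        rcases Nat.lt_or_ge i 921000 with h4 | h4
        · skip
          rcases Nat.lt_or_ge i 917000 with h5 | h5
          · skip
            rcases Nat.lt_or_ge i 915000 with h6 | h6
            · skip
              exact allRangeF_sound _ _ (checkFactF_eq cert) 914000 1000 chkF_914000 i (by omega) (by omega)
            · skip
              rcases Nat.lt_or_ge i 916000 with h7 | h7
              · skip
                exact allRangeF_sound _ _ (checkFactF_eq cert) 915000 1000 chkF_915000 i (by omega) (by omega)
              · skip
                exact allRangeF_sound _ _ (checkFactF_eq cert) 916000 1000 chkF_916000 i (by omega) (by omega)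
          · skip
            rcases Nat.lt_or_ge i 919000 with h6 | h6
            · skip
              rcases Nat.lt_or_ge i 918000 with h7 | h7
              · skip
                exact allRangeF_sound _ _ (checkFactF_eq cert) 917000 1000 chkF_917000 i (by omega) (by omega)
              · skip
                exact allRangeF_sound _ _ (checkFactF_eq cert) 918000 1000 chkF_918000 i (by omega) (by omega)
            · skip
              rcases Nat.lt_or_ge i 920000 with h7 | h7
              · skip
                exact allRangeF_sound _ _ (checkFactF_eq cert) 919000 1000 chkF_919000 i (by omega) (by omega)
              · skip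
                exact allRangeF_sound _ _ (checkFactF_eq cert) 920000 1000 chkF_920000 i (by omega) (by omega)
        · skip
          rcases Nat.lt_or_ge i 925000 with h5 | h5
          · skip
            rcases Nat.lt_or_ge i 923000 with h6 | h6
            · skip
              rcases Nat.lt_or_ge i 922000 with h7 | h7
              · skip
                exact allRangeF_sound _ _ (checkFactF_eq cert) 921000 1000 chkF_921000 i (by omega) (by omega)
              · skip
                exact allRangeF_sound _ _ (checkFactF_eq cert) 922000 1000 chkF_922000 i (by omega) (by omega)
            · skip
              rcases Nat.lt_or_ge i 924000 with h7 | h7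
              · skip
                exact allRangeF_sound _ _ (checkFactF_eq cert) 923000 1000 chkF_923000 i (by omega) (by omega)
              · skip
                exact allRangeF_sound _ _ (checkFactF_eq cert) 924000 1000 chkF_924000 i (by omega) (by omega)
          · skip
            rcases Nat.lt_or_ge i 927000 with h6 | h6
            · skip
              rcases Nat.lt_or_ge i 926000 with h7 | h7
              · skip
                exact allRangeF_sound _ _ (checkFactF_eq cert) 925000 1000 chkF_925000 i (by omega) (by omega)
              · skip
                exact allRangeF_sound _ _ (checkFactF_eq cert) 926000 1000 chkF_926000 i (by omega) (by omega)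
            · skip
              rcases Nat.lt_or_ge i 928000 with h7 | h7
              · skip
                exact allRangeF_sound _ _ (checkFactF_eq cert) 927000 1000 chkF_927000 i (by omega) (by omega)
              · skip
                exact allRangeF_sound _ _ (checkFactF_eq cert) 928000 1000 chkF_928000 i (by omega) (by omega)
      · skip
        rcases Nat.lt_or_ge i 936000 with h4 | h4
        · skip
          rcases Nat.lt_or_ge i 932000 with h5 | h5
          · skip
            rcases Nat.lt_or_ge i 930000 with h6 | h6
            · skip
              exact allRangeF_sound _ _ (checkFactF_eq cert) 929000 1000 chkF_929000 i (by omega) (by omega)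
            · skip
              rcases Nat.lt_or_ge i 931000 with h7 | h7
              · skip
                exact allRangeF_sound _ _ (checkFactF_eq cert) 930000 1000 chkF_930000 i (by omega) (by omega)
              · skip
                exact allRangeF_sound _ _ (checkFactF_eq cert) 931000 1000 chkF_931000 i (by omega) (by omega)
          · skip
            rcases Nat.lt_or_ge i 934000 with h6 | h6
            · skip
              rcases Nat.lt_or_ge i 933000 with h7 | h7
              · skip
                exact allRangeF_sound _ _ (checkFactF_eq cert) 932000 1000 chkF_932000 i (by omega) (by omega)
              · skip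
                exact allRangeF_sound _ _ (checkFactF_eq cert) 933000 1000 chkF_933000 i (by omega) (by omega)
            · skip
              rcases Nat.lt_or_ge i 935000 with h7 | h7
              · skip
                exact allRangeF_sound _ _ (checkFactF_eq cert) 934000 1000 chkF_934000 i (by omega) (by omega)
              · skip
                exact allRangeF_sound _ _ (checkFactF_eq cert) 935000 1000 chkF_935000 i (by omega) (by omega)
        · skip
          rcases Nat.lt_or_ge i 940000 with h5 | h5
          · skip
            rcases Nat.lt_or_ge i 938000 with h6 | h6
            · skip
              rcases Nat.lt_or_ge i 937000 with h7 | h7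
              · skip
                exact allRangeF_sound _ _ (checkFactF_eq cert) 936000 1000 chkF_936000 i (by omega) (by omega)
              · skip
                exact allRangeF_sound _ _ (checkFactF_eq cert) 937000 1000 chkF_937000 i (by omega) (by omega)
            · skip
              rcases Nat.lt_or_ge i 939000 with h7 | h7
              · skip
                exact allRangeF_sound _ _ (checkFactF_eq cert) 938000 1000 chkF_938000 i (by omega) (by omega)
              · skip
                exact allRangeF_sound _ _ (checkFactF_eq cert) 939000 1000 chkF_939000 i (by omega) (by omega)
          · skip
            rcases Nat.lt_or_ge i 942000 with h6 | h6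
            · skip
              rcases Nat.lt_or_ge i 941000 with h7 | h7
              · skip
                exact allRangeF_sound _ _ (checkFactF_eq cert) 940000 1000 chkF_940000 i (by omega) (by omega)
              · skip
                exact allRangeF_sound _ _ (checkFactF_eq cert) 941000 1000 chkF_941000 i (by omega) (by omega)
            · skip
              rcases Nat.lt_or_ge i 943000 with h7 | h7
              · skip
                exact allRangeF_sound _ _ (checkFactF_eq cert) 942000 1000 chkF_942000 i (by omega) (by omega)
              · skip
                exact allRangeF_sound _ _ (checkFactF_eq cert) 943000 1000 chkF_943000 i (by omega) (by omega)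

end Cfsg.Agent.Lib.Helper28.He2Data
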