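import Cfsg.Agent.Lib.Helper28.He2Data
import Cfsg.Agent.Lib.Helper28.TCFastF

set_option autoImplicit false
set_option maxRecDepth 1000000
set_option linter.all false
set_option Elab.async false

namespace Cfsg.Agent.Lib.Helper28.He2Data

open Cfsg.Agent.Lib.Helper28

theorem chkF_944000 : allRangeF (checkFactF cert) (nat_lit 944000) (nat_lit 1000) = true := by decide +kernel
theorem chkF_945000 : allRangeF (checkFactF cert) (nat_lit 945000) (nat_lit 1000) = true := by decide +kernel
theorem chkF_946000 : allRangeF (checkFactF cert) (nat_lit 946000) (nat_lit 1000) = true := by decide +kernel
theorem chkF_947000 : allRangeF (checkFactF cert) (nat_lit 947000) (nat_lit 1000) = true := by decide +kernel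
theorem chkF_948000 : allRangeF (checkFactF cert) (nat_lit 948000) (nat_lit 1000) = true := by decide +kernel
theorem chkF_949000 : allRangeF (checkFactF cert) (nat_lit 949000) (nat_lit 1000) = true := by decide +kernel
theorem chkF_950000 : allRangeF (checkFactF cert) (nat_lit 950000) (nat_lit 1000) = true := by decide +kernel
theorem chkF_951000 : allRangeF (checkFactF cert) (nat_lit 951000) (nat_lit 1000) = true := by decide +kernel
theorem chkF_952000 : allRangeF (checkFactF cert) (nat_lit 952000) (nat_lit 1000) = true := by decide +kernel
theorem chkF_953000 : allRangeF (checkFactF cert) (nat_lit 953000) (nat_lit 1000) = true := by decide +kernel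
theorem chkF_954000 : allRangeF (checkFactF cert) (nat_lit 954000) (nat_lit 1000) = true := by decide +kernel
theorem chkF_955000 : allRangeF (checkFactF cert) (nat_lit 955000) (nat_lit 1000) = true := by decide +kernel
theorem chkF_956000 : allRangeF (checkFactF cert) (nat_lit 956000) (nat_lit 1000) = true := by decide +kernel
theorem chkF_957000 : allRangeF (checkFactF cert) (nat_lit 957000) (nat_lit 1000) = true := by decide +kernel
theorem chkF_958000 : allRangeF (checkFactF cert) (nat_lit 958000) (nat_lit 1000) = true := by decide +kernel
theorem chkF_959000 : allRangeF (checkFactF cert) (nat_lit 959000) (nat_lit 1000) = true := by decide +kernel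
theorem chkF_960000 : allRangeF (checkFactF cert) (nat_lit 960000) (nat_lit 1000) = true := by decide +kernel
theorem chkF_961000 : allRangeF (checkFactF cert) (nat_lit 961000) (nat_lit 1000) = true := by decide +kernel
theorem chkF_962000 : allRangeF (checkFactF cert) (nat_lit 962000) (nat_lit 1000) = true := by decide +kernel
theorem chkF_963000 : allRangeF (checkFactF cert) (nat_lit 963000) (nat_lit 1000) = true := by decide +kernel
theorem chkF_964000 : allRangeF (checkFactF cert) (nat_lit 964000) (nat_lit 1000) = true := by decide +kernel
theorem chkF_965000 : allRangeF (checkFactF cert) (nat_lit 965000) (nat_lit 1000) = true := by decide +kernel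
theorem chkF_966000 : allRangeF (checkFactF cert) (nat_lit 966000) (nat_lit 1000) = true := by decide +kernel
theorem chkF_967000 : allRangeF (checkFactF cert) (nat_lit 967000) (nat_lit 1000) = true := by decide +kernel
theorem chkF_968000 : allRangeF (checkFactF cert) (nat_lit 968000) (nat_lit 1000) = true := by decide +kernel
theorem chkF_969000 : allRangeF (checkFactF cert) (nat_lit 969000) (nat_lit 1000) = true := by decide +kernel
theorem chkF_970000 : allRangeF (checkFactF cert) (nat_lit 970000) (nat_lit 1000) = true := by decide +kernel
theorem chkF_971000 : allRangeF (checkFactF cert) (nat_lit 971000) (nat_lit 1000) = true := by decide +kernel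
theorem chkF_972000 : allRangeF (checkFactF cert) (nat_lit 972000) (nat_lit 1000) = true := by decide +kernel
theorem chkF_973000 : allRangeF (checkFactF cert) (nat_lit 973000) (nat_lit 1000) = true := by decide +kernel
theorem chkF_974000 : allRangeF (checkFactF cert) (nat_lit 974000) (nat_lit 1000) = true := by decide +kernel
theorem chkF_975000 : allRangeF (checkFactF cert) (nat_lit 975000) (nat_lit 1000) = true := by decide +kernel
theorem chkF_976000 : allRangeF (checkFactF cert) (nat_lit 976000) (nat_lit 1000) = true := by decide +kernel
theorem chkF_977000 : allRangeF (checkFactF cert) (nat_lit 977000) (nat_lit 1000) = true := by decide +kernel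
theorem chkF_978000 : allRangeF (checkFactF cert) (nat_lit 978000) (nat_lit 1000) = true := by decide +kernel
theorem chkF_979000 : allRangeF (checkFactF cert) (nat_lit 979000) (nat_lit 1000) = true := by decide +kernel
theorem chkF_980000 : allRangeF (checkFactF cert) (nat_lit 980000) (nat_lit 1000) = true := by decide +kernel
theorem chkF_981000 : allRangeF (checkFactF cert) (nat_lit 981000) (nat_lit 1000) = true := by decide +kernel
theorem chkF_982000 : allRangeF (checkFactF cert) (nat_lit 982000) (nat_lit 1000) = true := by decide +kernel
theorem chkF_983000 : allRangeF (checkFactF cert) (nat_lit 983000) (nat_lit 1000) = true := by decide +kernel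
theorem chkF_984000 : allRangeF (checkFactF cert) (nat_lit 984000) (nat_lit 1000) = true := by decide +kernel
theorem chkF_985000 : allRangeF (checkFactF cert) (nat_lit 985000) (nat_lit 1000) = true := by decide +kernel
theorem chkF_986000 : allRangeF (checkFactF cert) (nat_lit 986000) (nat_lit 1000) = true := by decide +kernel
theorem chkF_987000 : allRangeF (checkFactF cert) (nat_lit 987000) (nat_lit 1000) = true := by decide +kernel
theorem chkF_988000 : allRangeF (checkFactF cert) (nat_lit 988000) (nat_lit 1000) = true := by decide +kernel
theorem chkF_989000 : allRangeF (checkFactF cert) (nat_lit 989000) (nat_lit 1000) = true := by decide +kernel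
theorem chkF_990000 : allRangeF (checkFactF cert) (nat_lit 990000) (nat_lit 1000) = true := by decide +kernel
theorem chkF_991000 : allRangeF (checkFactF cert) (nat_lit 991000) (nat_lit 1000) = true := by decide +kernel
theorem chkF_992000 : allRangeF (checkFactF cert) (nat_lit 992000) (nat_lit 1000) = true := by decide +kernel
theorem chkF_993000 : allRangeF (checkFactF cert) (nat_lit 993000) (nat_lit 1000) = true := by decide +kernel
theorem chkF_994000 : allRangeF (checkFactF cert) (nat_lit 994000) (nat_lit 1000) = true := by decide +kernel
theorem chkF_995000 : allRangeF (checkFactF cert) (nat_lit 995000) (nat_lit 1000) = true := by decide +kernel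
theorem chkF_996000 : allRangeF (checkFactF cert) (nat_lit 996000) (nat_lit 1000) = true := by decide +kernel
theorem chkF_997000 : allRangeF (checkFactF cert) (nat_lit 997000) (nat_lit 1000) = true := by decide +kernel
theorem chkF_998000 : allRangeF (checkFactF cert) (nat_lit 998000) (nat_lit 1000) = true := by decide +kernel
theorem chkF_999000 : allRangeF (checkFactF cert) (nat_lit 999000) (nat_lit 1000) = true := by decide +kernel
theorem chkF_1000000 : allRangeF (checkFactF cert) (nat_lit 1000000) (nat_lit 1000) = true := by decide +kernel
theorem chkF_1001000 : allRangeF (checkFactF cert) (nat_lit 1001000) (nat_lit 1000) = true := by decide +kernel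
theorem chkF_1002000 : allRangeF (checkFactF cert) (nat_lit 1002000) (nat_lit 1000) = true := by decide +kernel
theorem chkF_1003000 : allRangeF (checkFactF cert) (nat_lit 1003000) (nat_lit 1000) = true := by decide +kernel
theorem chkF_1004000 : allRangeF (checkFactF cert) (nat_lit 1004000) (nat_lit 1000) = true := by decide +kernel
theorem chkF_1005000 : allRangeF (checkFactF cert) (nat_lit 1005000) (nat_lit 1000) = true := by decide +kernel
theorem chkF_1006000 : allRangeF (checkFactF cert) (nat_lit 1006000) (nat_lit 1000) = true := by decide +kernel
theorem chkF_1007000 : allRangeF (checkFactF cert) (nat_lit 1007000) (nat_lit 1000) = true := by decide +kernel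
theorem chkF_1008000 : allRangeF (checkFactF cert) (nat_lit 1008000) (nat_lit 1000) = true := by decide +kernel
theorem chkF_1009000 : allRangeF (checkFactF cert) (nat_lit 1009000) (nat_lit 1000) = true := by decide +kernel
theorem chkF_1010000 : allRangeF (checkFactF cert) (nat_lit 1010000) (nat_lit 1000) = true := by decide +kernel
theorem chkF_1011000 : allRangeF (checkFactF cert) (nat_lit 1011000) (nat_lit 1000) = true := by decide +kernel
theorem chkF_1012000 : allRangeF (checkFactF cert) (nat_lit 1012000) (nat_lit 1000) = true := by decide +kernel
theorem chkF_1013000 : allRangeF (checkFactF cert) (nat_lit 1013000) (nat_lit 1000) = true := by decide +kernel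
theorem chkF_1014000 : allRangeF (checkFactF cert) (nat_lit 1014000) (nat_lit 1000) = true := by decide +kernel
theorem chkF_1015000 : allRangeF (checkFactF cert) (nat_lit 1015000) (nat_lit 1000) = true := by decide +kernel
theorem chkF_1016000 : allRangeF (checkFactF cert) (nat_lit 1016000) (nat_lit 1000) = true := by decide +kernel
theorem chkF_1017000 : allRangeF (checkFactF cert) (nat_lit 1017000) (nat_lit 1000) = true := by decide +kernel
theorem chkF_1018000 : allRangeF (checkFactF cert) (nat_lit 1018000) (nat_lit 1000) = true := by decide +kernel
theorem chkF_1019000 : allRangeF (checkFactF cert) (nat_lit 1019000) (nat_lit 1000) = true := by decide +kernel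
theorem chkF_1020000 : allRangeF (checkFactF cert) (nat_lit 1020000) (nat_lit 1000) = true := by decide +kernel
theorem chkF_1021000 : allRangeF (checkFactF cert) (nat_lit 1021000) (nat_lit 1000) = true := by decide +kernel
theorem chkF_1022000 : allRangeF (checkFactF cert) (nat_lit 1022000) (nat_lit 1000) = true := by decide +kernel
theorem chkF_1023000 : allRangeF (checkFactF cert) (nat_lit 1023000) (nat_lit 1000) = true := by decide +kernel
theorem chkF_1024000 : allRangeF (checkFactF cert) (nat_lit 1024000) (nat_lit 1000) = true := by decide +kernel
theorem chkF_1025000 : allRangeF (checkFactF cert) (nat_lit 1025000) (nat_lit 1000) = true := by decide +kernel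
theorem chkF_1026000 : allRangeF (checkFactF cert) (nat_lit 1026000) (nat_lit 1000) = true := by decide +kernel
theorem chkF_1027000 : allRangeF (checkFactF cert) (nat_lit 1027000) (nat_lit 1000) = true := by decide +kernel
theorem chkF_1028000 : allRangeF (checkFactF cert) (nat_lit 1028000) (nat_lit 1000) = true := by decide +kernel
theorem chkF_1029000 : allRangeF (checkFactF cert) (nat_lit 1029000) (nat_lit 1000) = true := by decide +kernel
theorem chkF_1030000 : allRangeF (checkFactF cert) (nat_lit 1030000) (nat_lit 1000) = true := by decide +kernel
theorem chkF_1031000 : allRangeF (checkFactF cert) (nat_lit 1031000) (nat_lit 1000) = true := by decide +kernel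
theorem chkF_1032000 : allRangeF (checkFactF cert) (nat_lit 1032000) (nat_lit 1000) = true := by decide +kernel
theorem chkF_1033000 : allRangeF (checkFactF cert) (nat_lit 1033000) (nat_lit 1000) = true := by decide +kernel
theorem chkF_1034000 : allRangeF (checkFactF cert) (nat_lit 1034000) (nat_lit 1000) = true := by decide +kernel
theorem chkF_1035000 : allRangeF (checkFactF cert) (nat_lit 1035000) (nat_lit 1000) = true := by decide +kernel
theorem chkF_1036000 : allRangeF (checkFactF cert) (nat_lit 1036000) (nat_lit 1000) = true := by decide +kernel
theorem chkF_1037000 : allRangeF (checkFactF cert) (nat_lit 1037000) (nat_lit 1000) = true := by decide +kernel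
theorem chkF_1038000 : allRangeF (checkFactF cert) (nat_lit 1038000) (nat_lit 1000) = true := by decide +kernel
theorem chkF_1039000 : allRangeF (checkFactF cert) (nat_lit 1039000) (nat_lit 1000) = true := by decide +kernel
theorem chkF_1040000 : allRangeF (checkFactF cert) (nat_lit 1040000) (nat_lit 1000) = true := by decide +kernel
theorem chkF_1041000 : allRangeF (checkFactF cert) (nat_lit 1041000) (nat_lit 1000) = true := by decide +kernel
theorem chkF_1042000 : allRangeF (checkFactF cert) (nat_lit 1042000) (nat_lit 1000) = true := by decide +kernel
theorem chkF_1043000 : allRangeF (checkFactF cert) (nat_lit 1043000) (nat_lit 1000) = true := by decide +kernel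
theorem chkF_1044000 : allRangeF (checkFactF cert) (nat_lit 1044000) (nat_lit 1000) = true := by decide +kernel
theorem chkF_1045000 : allRangeF (checkFactF cert) (nat_lit 1045000) (nat_lit 1000) = true := by decide +kernel
theorem chkF_1046000 : allRangeF (checkFactF cert) (nat_lit 1046000) (nat_lit 1000) = true := by decide +kernel
theorem chkF_1047000 : allRangeF (checkFactF cert) (nat_lit 1047000) (nat_lit 1000) = true := by decide +kernel
theorem chkF_1048000 : allRangeF (checkFactF cert) (nat_lit 1048000) (nat_lit 1000) = true := by decide +kernel
theorem chkF_1049000 : allRangeF (checkFactF cert) (nat_lit 1049000) (nat_lit 1000) = true := by decide +kernel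
theorem chkF_1050000 : allRangeF (checkFactF cert) (nat_lit 1050000) (nat_lit 1000) = true := by decide +kernel
theorem chkF_1051000 : allRangeF (checkFactF cert) (nat_lit 1051000) (nat_lit 1000) = true := by decide +kernel
theorem chkF_1052000 : allRangeF (checkFactF cert) (nat_lit 1052000) (nat_lit 1000) = true := by decide +kernel
theorem chkF_1053000 : allRangeF (checkFactF cert) (nat_lit 1053000) (nat_lit 1000) = true := by decide +kernel
theorem chkF_1054000 : allRangeF (checkFactF cert) (nat_lit 1054000) (nat_lit 1000) = true := by decide +kernel
theorem chkF_1055000 : allRangeF (checkFactF cert) (nat_lit 1055000) (nat_lit 1000) = true := by decide +kernel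
theorem chkF_1056000 : allRangeF (checkFactF cert) (nat_lit 1056000) (nat_lit 1000) = true := by decide +kernel
theorem chkF_1057000 : allRangeF (checkFactF cert) (nat_lit 1057000) (nat_lit 1000) = true := by decide +kernel
theorem chkF_1058000 : allRangeF (checkFactF cert) (nat_lit 1058000) (nat_lit 1000) = true := by decide +kernel
theorem chkF_1059000 : allRangeF (checkFactF cert) (nat_lit 1059000) (nat_lit 1000) = true := by decide +kernel
theorem chkF_1060000 : allRangeF (checkFactF cert) (nat_lit 1060000) (nat_lit 1000) = true := by decide +kernel
theorem chkF_1061000 : allRangeF (checkFactF cert) (nat_lit 1061000) (nat_lit 1000) = true := by decide +kernel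

theorem factsRange_8 : ∀ i, 944000 ≤ i → i < 1062000 → checkFact cert i = true := by
  intro i hlo hhi
  rcases Nat.lt_or_ge i 1003000 with h1 | h1
  · skip
    rcases Nat.lt_or_ge i 973000 with h2 | h2
    · skip
      rcases Nat.lt_or_ge i 958000 with h3 | h3
      · skip
        rcases Nat.lt_or_ge i 951000 with h4 | h4
        · skip
          rcases Nat.lt_or_ge i 947000 with h5 | h5
          · skip
            rcases Nat.lt_or_ge i 945000 with h6 | h6
            · skip
              exact allRangeF_sound _ _ (checkFactF_eq cert) 944000 1000 chkF_944000 i (by omega) (by omega)
            · skip
              rcases Nat.lt_or_ge i 946000 with h7 | h7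
              · skip
                exact allRangeF_sound _ _ (checkFactF_eq cert) 945000 1000 chkF_945000 i (by omega) (by omega)
              · skip
                exact allRangeF_sound _ _ (checkFactF_eq cert) 946000 1000 chkF_946000 i (by omega) (by omega)
          · skip
            rcases Nat.lt_or_ge i 949000 with h6 | h6
            · skip
              rcases Nat.lt_or_ge i 948000 with h7 | h7
              · skip
                exact allRangeF_sound _ _ (checkFactF_eq cert) 947000 1000 chkF_947000 i (by omega) (by omega)
              · skip
                exact allRangeF_sound _ _ (checkFactF_eq cert) 948000 1000 chkF_948000 i (by omega) (by omega)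
            · skip
              rcases Nat.lt_or_ge i 950000 with h7 | h7
              · skip
                exact allRangeF_sound _ _ (checkFactF_eq cert) 949000 1000 chkF_949000 i (by omega) (by omega)
              · skip
                exact allRangeF_sound _ _ (checkFactF_eq cert) 950000 1000 chkF_950000 i (by omega) (by omega)
        · skip
          rcases Nat.lt_or_ge i 954000 with h5 | h5
          · skip
            rcases Nat.lt_or_ge i 952000 with h6 | h6
            · skip
              exact allRangeF_sound _ _ (checkFactF_eq cert) 951000 1000 chkF_951000 i (by omega) (by omega)
            · skip
              rcases Nat.lt_or_ge i 953000 with h7 | h7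
              · skip
                exact allRangeF_sound _ _ (checkFactF_eq cert) 952000 1000 chkF_952000 i (by omega) (by omega)
              · skip
                exact allRangeF_sound _ _ (checkFactF_eq cert) 953000 1000 chkF_953000 i (by omega) (by omega)
          · skip
            rcases Nat.lt_or_ge i 956000 with h6 | h6
            · skip
              rcases Nat.lt_or_ge i 955000 with h7 | h7
              · skip
                exact allRangeF_sound _ _ (checkFactF_eq cert) 954000 1000 chkF_954000 i (by omega) (by omega)
              · skip
                exact allRangeF_sound _ _ (checkFactF_eq cert) 955000 1000 chkF_955000 i (by omega) (by omega)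
            · skip
              rcases Nat.lt_or_ge i 957000 with h7 | h7
              · skip
                exact allRangeF_sound _ _ (checkFactF_eq cert) 956000 1000 chkF_956000 i (by omega) (by omega)
              · skip
                exact allRangeF_sound _ _ (checkFactF_eq cert) 957000 1000 chkF_957000 i (by omega) (by omega)
      · skip
        rcases Nat.lt_or_ge i 965000 with h4 | h4
        · skip
          rcases Nat.lt_or_ge i 961000 with h5 | h5
          · skip
            rcases Nat.lt_or_ge i 959000 with h6 | h6
            · skip
              exact allRangeF_sound _ _ (checkFactF_eq cert) 958000 1000 chkF_958000 i (by omega) (by omega)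
            · skip
              rcases Nat.lt_or_ge i 960000 with h7 | h7
              · skip
                exact allRangeF_sound _ _ (checkFactF_eq cert) 959000 1000 chkF_959000 i (by omega) (by omega)
              · skip
                exact allRangeF_sound _ _ (checkFactF_eq cert) 960000 1000 chkF_960000 i (by omega) (by omega)
          · skip
            rcases Nat.lt_or_ge i 963000 with h6 | h6
            · skip
              rcases Nat.lt_or_ge i 962000 with h7 | h7
              · skip
                exact allRangeF_sound _ _ (checkFactF_eq cert) 961000 1000 chkF_961000 i (by omega) (by omega)
              · skip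
                exact allRangeF_sound _ _ (checkFactF_eq cert) 962000 1000 chkF_962000 i (by omega) (by omega)
            · skip
              rcases Nat.lt_or_ge i 964000 with h7 | h7
              · skip
                exact allRangeF_sound _ _ (checkFactF_eq cert) 963000 1000 chkF_963000 i (by omega) (by omega)
              · skip
                exact allRangeF_sound _ _ (checkFactF_eq cert) 964000 1000 chkF_964000 i (by omega) (by omega)
        · skip
          rcases Nat.lt_or_ge i 969000 with h5 | h5
          · skip
            rcases Nat.lt_or_ge i 967000 with h6 | h6
            · skip
              rcases Nat.lt_or_ge i 966000 with h7 | h7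
              · skip
                exact allRangeF_sound _ _ (checkFactF_eq cert) 965000 1000 chkF_965000 i (by omega) (by omega)
              · skip
                exact allRangeF_sound _ _ (checkFactF_eq cert) 966000 1000 chkF_966000 i (by omega) (by omega)
            · skip
              rcases Nat.lt_or_ge i 968000 with h7 | h7
              · skip
                exact allRangeF_sound _ _ (checkFactF_eq cert) 967000 1000 chkF_967000 i (by omega) (by omega)
              · skip
                exact allRangeF_sound _ _ (checkFactF_eq cert) 968000 1000 chkF_968000 i (by omega) (by omega)
          · skip
            rcases Nat.lt_or_ge i 971000 with h6 | h6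
            · skip
              rcases Nat.lt_or_ge i 970000 with h7 | h7
              · skip
                exact allRangeF_sound _ _ (checkFactF_eq cert) 969000 1000 chkF_969000 i (by omega) (by omega)
              · skip
                exact allRangeF_sound _ _ (checkFactF_eq cert) 970000 1000 chkF_970000 i (by omega) (by omega)
            · skip
              rcases Nat.lt_or_ge i 972000 with h7 | h7
              · skip
                exact allRangeF_sound _ _ (checkFactF_eq cert) 971000 1000 chkF_971000 i (by omega) (by omega)
              · skip
                exact allRangeF_sound _ _ (checkFactF_eq cert) 972000 1000 chkF_972000 i (by omega) (by omega)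
    · skip
      rcases Nat.lt_or_ge i 988000 with h3 | h3
      · skip
        rcases Nat.lt_or_ge i 980000 with h4 | h4
        · skip
          rcases Nat.lt_or_ge i 976000 with h5 | h5
          · skip
            rcases Nat.lt_or_ge i 974000 with h6 | h6
            · skip
              exact allRangeF_sound _ _ (checkFactF_eq cert) 973000 1000 chkF_973000 i (by omega) (by omega)
            · skip
              rcases Nat.lt_or_ge i 975000 with h7 | h7
              · skip
                exact allRangeF_sound _ _ (checkFactF_eq cert) 974000 1000 chkF_974000 i (by omega) (by omega)
              · skip
                exact allRangeF_sound _ _ (checkFactF_eq cert) 975000 1000 chkF_975000 i (by omega) (by omega)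
          · skip
            rcases Nat.lt_or_ge i 978000 with h6 | h6
            · skip
              rcases Nat.lt_or_ge i 977000 with h7 | h7
              · skip
                exact allRangeF_sound _ _ (checkFactF_eq cert) 976000 1000 chkF_976000 i (by omega) (by omega)
              · skip
                exact allRangeF_sound _ _ (checkFactF_eq cert) 977000 1000 chkF_977000 i (by omega) (by omega)
            · skip
              rcases Nat.lt_or_ge i 979000 with h7 | h7
              · skip
                exact allRangeF_sound _ _ (checkFactF_eq cert) 978000 1000 chkF_978000 i (by omega) (by omega)
              · skip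
                exact allRangeF_sound _ _ (checkFactF_eq cert) 979000 1000 chkF_979000 i (by omega) (by omega)
        · skip
          rcases Nat.lt_or_ge i 984000 with h5 | h5
          · skip
            rcases Nat.lt_or_ge i 982000 with h6 | h6
            · skip
              rcases Nat.lt_or_ge i 981000 with h7 | h7
              · skip
                exact allRangeF_sound _ _ (checkFactF_eq cert) 980000 1000 chkF_980000 i (by omega) (by omega)
              · skip
                exact allRangeF_sound _ _ (checkFactF_eq cert) 981000 1000 chkF_981000 i (by omega) (by omega)
            · skip
              rcases Nat.lt_or_ge i 983000 with h7 | h7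
              · skip
                exact allRangeF_sound _ _ (checkFactF_eq cert) 982000 1000 chkF_982000 i (by omega) (by omega)
              · skip
                exact allRangeF_sound _ _ (checkFactF_eq cert) 983000 1000 chkF_983000 i (by omega) (by omega)
          · skip
            rcases Nat.lt_or_ge i 986000 with h6 | h6
            · skip
              rcases Nat.lt_or_ge i 985000 with h7 | h7
              · skip
                exact allRangeF_sound _ _ (checkFactF_eq cert) 984000 1000 chkF_984000 i (by omega) (by omega)
              · skip
                exact allRangeF_sound _ _ (checkFactF_eq cert) 985000 1000 chkF_985000 i (by omega) (by omega)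
            · skip
              rcases Nat.lt_or_ge i 987000 with h7 | h7
              · skip
                exact allRangeF_sound _ _ (checkFactF_eq cert) 986000 1000 chkF_986000 i (by omega) (by omega)
              · skip
                exact allRangeF_sound _ _ (checkFactF_eq cert) 987000 1000 chkF_987000 i (by omega) (by omega)
      · skip
        rcases Nat.lt_or_ge i 995000 with h4 | h4
        · skip
          rcases Nat.lt_or_ge i 991000 with h5 | h5
          · skip
            rcases Nat.lt_or_ge i 989000 with h6 | h6
            · skip
              exact allRangeF_sound _ _ (checkFactF_eq cert) 988000 1000 chkF_988000 i (by omega) (by omega)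
            · skip
              rcases Nat.lt_or_ge i 990000 with h7 | h7
              · skip
                exact allRangeF_sound _ _ (checkFactF_eq cert) 989000 1000 chkF_989000 i (by omega) (by omega)
              · skip
                exact allRangeF_sound _ _ (checkFactF_eq cert) 990000 1000 chkF_990000 i (by omega) (by omega)
          · skip
            rcases Nat.lt_or_ge i 993000 with h6 | h6
            · skip
              rcases Nat.lt_or_ge i 992000 with h7 | h7
              · skip
                exact allRangeF_sound _ _ (checkFactF_eq cert) 991000 1000 chkF_991000 i (by omega) (by omega)
              · skip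
                exact allRangeF_sound _ _ (checkFactF_eq cert) 992000 1000 chkF_992000 i (by omega) (by omega)
            · skip
              rcases Nat.lt_or_ge i 994000 with h7 | h7
              · skip
                exact allRangeF_sound _ _ (checkFactF_eq cert) 993000 1000 chkF_993000 i (by omega) (by omega)
              · skip
                exact allRangeF_sound _ _ (checkFactF_eq cert) 994000 1000 chkF_994000 i (by omega) (by omega)
        · skip
          rcases Nat.lt_or_ge i 999000 with h5 | h5
          · skip
            rcases Nat.lt_or_ge i 997000 with h6 | h6
            · skip
              rcases Nat.lt_or_ge i 996000 with h7 | h7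
              · skip
                exact allRangeF_sound _ _ (checkFactF_eq cert) 995000 1000 chkF_995000 i (by omega) (by omega)
              · skip
                exact allRangeF_sound _ _ (checkFactF_eq cert) 996000 1000 chkF_996000 i (by omega) (by omega)
            · skip
              rcases Nat.lt_or_ge i 998000 with h7 | h7
              · skip
                exact allRangeF_sound _ _ (checkFactF_eq cert) 997000 1000 chkF_997000 i (by omega) (by omega)
              · skip
                exact allRangeF_sound _ _ (checkFactF_eq cert) 998000 1000 chkF_998000 i (by omega) (by omega)
          · skip
            rcases Nat.lt_or_ge i 1001000 with h6 | h6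
            · skip
              rcases Nat.lt_or_ge i 1000000 with h7 | h7
              · skip
                exact allRangeF_sound _ _ (checkFactF_eq cert) 999000 1000 chkF_999000 i (by omega) (by omega)
              · skip
                exact allRangeF_sound _ _ (checkFactF_eq cert) 1000000 1000 chkF_1000000 i (by omega) (by omega)
            · skip
              rcases Nat.lt_or_ge i 1002000 with h7 | h7
              · skip
                exact allRangeF_sound _ _ (checkFactF_eq cert) 1001000 1000 chkF_1001000 i (by omega) (by omega)
              · skip
                exact allRangeF_sound _ _ (checkFactF_eq cert) 1002000 1000 chkF_1002000 i (by omega) (by omega)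
  · skip
    rcases Nat.lt_or_ge i 1032000 with h2 | h2
    · skip
      rcases Nat.lt_or_ge i 1017000 with h3 | h3
      · skip
        rcases Nat.lt_or_ge i 1010000 with h4 | h4
        · skip
          rcases Nat.lt_or_ge i 1006000 with h5 | h5
          · skip
            rcases Nat.lt_or_ge i 1004000 with h6 | h6
            · skip
              exact allRangeF_sound _ _ (checkFactF_eq cert) 1003000 1000 chkF_1003000 i (by omega) (by omega)
            · skip
              rcases Nat.lt_or_ge i 1005000 with h7 | h7
              · skip
                exact allRangeF_sound _ _ (checkFactF_eq cert) 1004000 1000 chkF_1004000 i (by omega) (by omega)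
              · skip
                exact allRangeF_sound _ _ (checkFactF_eq cert) 1005000 1000 chkF_1005000 i (by omega) (by omega)
          · skip
            rcases Nat.lt_or_ge i 1008000 with h6 | h6
            · skip
              rcases Nat.lt_or_ge i 1007000 with h7 | h7
              · skip
                exact allRangeF_sound _ _ (checkFactF_eq cert) 1006000 1000 chkF_1006000 i (by omega) (by omega)
              · skip
                exact allRangeF_sound _ _ (checkFactF_eq cert) 1007000 1000 chkF_1007000 i (by omega) (by omega)
            · skip
              rcases Nat.lt_or_ge i 1009000 with h7 | h7
              · skip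
                exact allRangeF_sound _ _ (checkFactF_eq cert) 1008000 1000 chkF_1008000 i (by omega) (by omega)
              · skip
                exact allRangeF_sound _ _ (checkFactF_eq cert) 1009000 1000 chkF_1009000 i (by omega) (by omega)
        · skip
          rcases Nat.lt_or_ge i 1013000 with h5 | h5
          · skip
            rcases Nat.lt_or_ge i 1011000 with h6 | h6
            · skip
              exact allRangeF_sound _ _ (checkFactF_eq cert) 1010000 1000 chkF_1010000 i (by omega) (by omega)
            · skip
              rcases Nat.lt_or_ge i 1012000 with h7 | h7
              · skip
                exact allRangeF_sound _ _ (checkFactF_eq cert) 1011000 1000 chkF_1011000 i (by omega) (by omega)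
              · skip
                exact allRangeF_sound _ _ (checkFactF_eq cert) 1012000 1000 chkF_1012000 i (by omega) (by omega)
          · skip
            rcases Nat.lt_or_ge i 1015000 with h6 | h6
            · skip
              rcases Nat.lt_or_ge i 1014000 with h7 | h7
              · skip
                exact allRangeF_sound _ _ (checkFactF_eq cert) 1013000 1000 chkF_1013000 i (by omega) (by omega)
              · skip
                exact allRangeF_sound _ _ (checkFactF_eq cert) 1014000 1000 chkF_1014000 i (by omega) (by omega)
            · skip
              rcases Nat.lt_or_ge i 1016000 with h7 | h7
              · skip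
                exact allRangeF_sound _ _ (checkFactF_eq cert) 1015000 1000 chkF_1015000 i (by omega) (by omega)
              · skip
                exact allRangeF_sound _ _ (checkFactF_eq cert) 1016000 1000 chkF_1016000 i (by omega) (by omega)
      · skip
        rcases Nat.lt_or_ge i 1024000 with h4 | h4
        · skip
          rcases Nat.lt_or_ge i 1020000 with h5 | h5
          · skip
            rcases Nat.lt_or_ge i 1018000 with h6 | h6
            · skip
              exact allRangeF_sound _ _ (checkFactF_eq cert) 1017000 1000 chkF_1017000 i (by omega) (by omega)
            · skip
              rcases Nat.lt_or_ge i 1019000 with h7 | h7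
              · skip
                exact allRangeF_sound _ _ (checkFactF_eq cert) 1018000 1000 chkF_1018000 i (by omega) (by omega)
              · skip
                exact allRangeF_sound _ _ (checkFactF_eq cert) 1019000 1000 chkF_1019000 i (by omega) (by omega)
          · skip
            rcases Nat.lt_or_ge i 1022000 with h6 | h6
            · skip
              rcases Nat.lt_or_ge i 1021000 with h7 | h7
              · skip
                exact allRangeF_sound _ _ (checkFactF_eq cert) 1020000 1000 chkF_1020000 i (by omega) (by omega)
              · skip
                exact allRangeF_sound _ _ (checkFactF_eq cert) 1021000 1000 chkF_1021000 i (by omega) (by omega)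
            · skip
              rcases Nat.lt_or_ge i 1023000 with h7 | h7
              · skip
                exact allRangeF_sound _ _ (checkFactF_eq cert) 1022000 1000 chkF_1022000 i (by omega) (by omega)
              · skip
                exact allRangeF_sound _ _ (checkFactF_eq cert) 1023000 1000 chkF_1023000 i (by omega) (by omega)
        · skip
          rcases Nat.lt_or_ge i 1028000 with h5 | h5
          · skip
            rcases Nat.lt_or_ge i 1026000 with h6 | h6
            · skip
              rcases Nat.lt_or_ge i 1025000 with h7 | h7
              · skip
                exact allRangeF_sound _ _ (checkFactF_eq cert) 1024000 1000 chkF_1024000 i (by omega) (by omega)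
              · skip
                exact allRangeF_sound _ _ (checkFactF_eq cert) 1025000 1000 chkF_1025000 i (by omega) (by omega)
            · skip
              rcases Nat.lt_or_ge i 1027000 with h7 | h7
              · skip
                exact allRangeF_sound _ _ (checkFactF_eq cert) 1026000 1000 chkF_1026000 i (by omega) (by omega)
              · skip
                exact allRangeF_sound _ _ (checkFactF_eq cert) 1027000 1000 chkF_1027000 i (by omega) (by omega)
          · skip
            rcases Nat.lt_or_ge i 1030000 with h6 | h6
            · skip
              rcases Nat.lt_or_ge i 1029000 with h7 | h7
              · skip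
                exact allRangeF_sound _ _ (checkFactF_eq cert) 1028000 1000 chkF_1028000 i (by omega) (by omega)
              · skip
                exact allRangeF_sound _ _ (checkFactF_eq cert) 1029000 1000 chkF_1029000 i (by omega) (by omega)
            · skip
              rcases Nat.lt_or_ge i 1031000 with h7 | h7
              · skip
                exact allRangeF_sound _ _ (checkFactF_eq cert) 1030000 1000 chkF_1030000 i (by omega) (by omega)
              · skip
                exact allRangeF_sound _ _ (checkFactF_eq cert) 1031000 1000 chkF_1031000 i (by omega) (by omega)
    · skip
      rcases Nat.lt_or_ge i 1047000 with h3 | h3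
      · skip
        rcases Nat.lt_or_ge i 1039000 with h4 | h4
        · skip
          rcases Nat.lt_or_ge i 1035000 with h5 | h5
          · skip
            rcases Nat.lt_or_ge i 1033000 with h6 | h6
            · skip
              exact allRangeF_sound _ _ (checkFactF_eq cert) 1032000 1000 chkF_1032000 i (by omega) (by omega)
            · skip
              rcases Nat.lt_or_ge i 1034000 with h7 | h7
              · skip
                exact allRangeF_sound _ _ (checkFactF_eq cert) 1033000 1000 chkF_1033000 i (by omega) (by omega)
              · skip
                exact allRangeF_sound _ _ (checkFactF_eq cert) 1034000 1000 chkF_1034000 i (by omega) (by omega)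
          · skip
            rcases Nat.lt_or_ge i 1037000 with h6 | h6
            · skip
              rcases Nat.lt_or_ge i 1036000 with h7 | h7
              · skip
                exact allRangeF_sound _ _ (checkFactF_eq cert) 1035000 1000 chkF_1035000 i (by omega) (by omega)
              · skip
                exact allRangeF_sound _ _ (checkFactF_eq cert) 1036000 1000 chkF_1036000 i (by omega) (by omega)
            · skip
              rcases Nat.lt_or_ge i 1038000 with h7 | h7
              · skip
                exact allRangeF_sound _ _ (checkFactF_eq cert) 1037000 1000 chkF_1037000 i (by omega) (by omega)
              · skip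
                exact allRangeF_sound _ _ (checkFactF_eq cert) 1038000 1000 chkF_1038000 i (by omega) (by omega)
        · skip
          rcases Nat.lt_or_ge i 1043000 with h5 | h5
          · skip
            rcases Nat.lt_or_ge i 1041000 with h6 | h6
            · skip
              rcases Nat.lt_or_ge i 1040000 with h7 | h7
              · skip
                exact allRangeF_sound _ _ (checkFactF_eq cert) 1039000 1000 chkF_1039000 i (by omega) (by omega)
              · skip
                exact allRangeF_sound _ _ (checkFactF_eq cert) 1040000 1000 chkF_1040000 i (by omega) (by omega)
            · skip
              rcases Nat.lt_or_ge i 1042000 with h7 | h7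
              · skip
                exact allRangeF_sound _ _ (checkFactF_eq cert) 1041000 1000 chkF_1041000 i (by omega) (by omega)
              · skip
                exact allRangeF_sound _ _ (checkFactF_eq cert) 1042000 1000 chkF_1042000 i (by omega) (by omega)
          · skip
            rcases Nat.lt_or_ge i 1045000 with h6 | h6
            · skip
              rcases Nat.lt_or_ge i 1044000 with h7 | h7
              · skip
                exact allRangeF_sound _ _ (checkFactF_eq cert) 1043000 1000 chkF_1043000 i (by omega) (by omega)
              · skip
                exact allRangeF_sound _ _ (checkFactF_eq cert) 1044000 1000 chkF_1044000 i (by omega) (by omega)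
            · skip
              rcases Nat.lt_or_ge i 1046000 with h7 | h7
              · skip
                exact allRangeF_sound _ _ (checkFactF_eq cert) 1045000 1000 chkF_1045000 i (by omega) (by omega)
              · skip
                exact allRangeF_sound _ _ (checkFactF_eq cert) 1046000 1000 chkF_1046000 i (by omega) (by omega)
      · skip
        rcases Nat.lt_or_ge i 1054000 with h4 | h4
        · skip
          rcases Nat.lt_or_ge i 1050000 with h5 | h5
          · skip
            rcases Nat.lt_or_ge i 1048000 with h6 | h6
            · skip
              exact allRangeF_sound _ _ (checkFactF_eq cert) 1047000 1000 chkF_1047000 i (by omega) (by omega)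
            · skip
              rcases Nat.lt_or_ge i 1049000 with h7 | h7
              · skip
                exact allRangeF_sound _ _ (checkFactF_eq cert) 1048000 1000 chkF_1048000 i (by omega) (by omega)
              · skip
                exact allRangeF_sound _ _ (checkFactF_eq cert) 1049000 1000 chkF_1049000 i (by omega) (by omega)
          · skip
            rcases Nat.lt_or_ge i 1052000 with h6 | h6
            · skip
              rcases Nat.lt_or_ge i 1051000 with h7 | h7
              · skip
                exact allRangeF_sound _ _ (checkFactF_eq cert) 1050000 1000 chkF_1050000 i (by omega) (by omega)
              · skip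
                exact allRangeF_sound _ _ (checkFactF_eq cert) 1051000 1000 chkF_1051000 i (by omega) (by omega)
            · skip
              rcases Nat.lt_or_ge i 1053000 with h7 | h7
              · skip
                exact allRangeF_sound _ _ (checkFactF_eq cert) 1052000 1000 chkF_1052000 i (by omega) (by omega)
              · skip
                exact allRangeF_sound _ _ (checkFactF_eq cert) 1053000 1000 chkF_1053000 i (by omega) (by omega)
        · skip
          rcases Nat.lt_or_ge i 1058000 with h5 | h5
          · skip
            rcases Nat.lt_or_ge i 1056000 with h6 | h6
            · skip
              rcases Nat.lt_or_ge i 1055000 with h7 | h7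
              · skip
                exact allRangeF_sound _ _ (checkFactF_eq cert) 1054000 1000 chkF_1054000 i (by omega) (by omega)
              · skip
                exact allRangeF_sound _ _ (checkFactF_eq cert) 1055000 1000 chkF_1055000 i (by omega) (by omega)
            · skip
              rcases Nat.lt_or_ge i 1057000 with h7 | h7
              · skip
                exact allRangeF_sound _ _ (checkFactF_eq cert) 1056000 1000 chkF_1056000 i (by omega) (by omega)
              · skip
                exact allRangeF_sound _ _ (checkFactF_eq cert) 1057000 1000 chkF_1057000 i (by omega) (by omega)
          · skip
            rcases Nat.lt_or_ge i 1060000 with h6 | h6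
            · skip
              rcases Nat.lt_or_ge i 1059000 with h7 | h7
              · skip
                exact allRangeF_sound _ _ (checkFactF_eq cert) 1058000 1000 chkF_1058000 i (by omega) (by omega)
              · skip
                exact allRangeF_sound _ _ (checkFactF_eq cert) 1059000 1000 chkF_1059000 i (by omega) (by omega)
            · skip
              rcases Nat.lt_or_ge i 1061000 with h7 | h7
              · skip
                exact allRangeF_sound _ _ (checkFactF_eq cert) 1060000 1000 chkF_1060000 i (by omega) (by omega)
              · skip
                exact allRangeF_sound _ _ (checkFactF_eq cert) 1061000 1000 chkF_1061000 i (by omega) (by omega)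

end Cfsg.Agent.Lib.Helper28.He2Data
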