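import Cfsg.Agent.Lib.Helper28.He2Data
import Cfsg.Agent.Lib.Helper28.TCFast

set_option autoImplicit false
set_option maxRecDepth 1000000
set_option linter.all false
set_option Elab.async false

namespace Cfsg.Agent.Lib.Helper28.He2Data

open Cfsg.Agent.Lib.Helper28

theorem chkP_16700 : allRangeF (checkPointF cert) (nat_lit 16700) (nat_lit 100) = true := by decide +kernel
theorem chkP_16800 : allRangeF (checkPointF cert) (nat_lit 16800) (nat_lit 100) = true := by decide +kernel
theorem chkP_16900 : allRangeF (checkPointF cert) (nat_lit 16900) (nat_lit 100) = true := by decide +kernel
theorem chkP_17000 : allRangeF (checkPointF cert) (nat_lit 17000) (nat_lit 100) = true := by decide +kernel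
theorem chkP_17100 : allRangeF (checkPointF cert) (nat_lit 17100) (nat_lit 100) = true := by decide +kernel
theorem chkP_17200 : allRangeF (checkPointF cert) (nat_lit 17200) (nat_lit 100) = true := by decide +kernel
theorem chkP_17300 : allRangeF (checkPointF cert) (nat_lit 17300) (nat_lit 100) = true := by decide +kernel
theorem chkP_17400 : allRangeF (checkPointF cert) (nat_lit 17400) (nat_lit 100) = true := by decide +kernel
theorem chkP_17500 : allRangeF (checkPointF cert) (nat_lit 17500) (nat_lit 100) = true := by decide +kernel
theorem chkP_17600 : allRangeF (checkPointF cert) (nat_lit 17600) (nat_lit 100) = true := by decide +kernel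
theorem chkP_17700 : allRangeF (checkPointF cert) (nat_lit 17700) (nat_lit 100) = true := by decide +kernel
theorem chkP_17800 : allRangeF (checkPointF cert) (nat_lit 17800) (nat_lit 100) = true := by decide +kernel
theorem chkP_17900 : allRangeF (checkPointF cert) (nat_lit 17900) (nat_lit 100) = true := by decide +kernel
theorem chkP_18000 : allRangeF (checkPointF cert) (nat_lit 18000) (nat_lit 100) = true := by decide +kernel
theorem chkP_18100 : allRangeF (checkPointF cert) (nat_lit 18100) (nat_lit 100) = true := by decide +kernel
theorem chkP_18200 : allRangeF (checkPointF cert) (nat_lit 18200) (nat_lit 100) = true := by decide +kernel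
theorem chkP_18300 : allRangeF (checkPointF cert) (nat_lit 18300) (nat_lit 100) = true := by decide +kernel
theorem chkP_18400 : allRangeF (checkPointF cert) (nat_lit 18400) (nat_lit 100) = true := by decide +kernel
theorem chkP_18500 : allRangeF (checkPointF cert) (nat_lit 18500) (nat_lit 100) = true := by decide +kernel
theorem chkP_18600 : allRangeF (checkPointF cert) (nat_lit 18600) (nat_lit 100) = true := by decide +kernel
theorem chkP_18700 : allRangeF (checkPointF cert) (nat_lit 18700) (nat_lit 100) = true := by decide +kernel
theorem chkP_18800 : allRangeF (checkPointF cert) (nat_lit 18800) (nat_lit 100) = true := by decide +kernel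
theorem chkP_18900 : allRangeF (checkPointF cert) (nat_lit 18900) (nat_lit 100) = true := by decide +kernel
theorem chkP_19000 : allRangeF (checkPointF cert) (nat_lit 19000) (nat_lit 100) = true := by decide +kernel
theorem chkP_19100 : allRangeF (checkPointF cert) (nat_lit 19100) (nat_lit 100) = true := by decide +kernel
theorem chkP_19200 : allRangeF (checkPointF cert) (nat_lit 19200) (nat_lit 100) = true := by decide +kernel
theorem chkP_19300 : allRangeF (checkPointF cert) (nat_lit 19300) (nat_lit 100) = true := by decide +kernel
theorem chkP_19400 : allRangeF (checkPointF cert) (nat_lit 19400) (nat_lit 100) = true := by decide +kernel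
theorem chkP_19500 : allRangeF (checkPointF cert) (nat_lit 19500) (nat_lit 100) = true := by decide +kernel
theorem chkP_19600 : allRangeF (checkPointF cert) (nat_lit 19600) (nat_lit 100) = true := by decide +kernel
theorem chkP_19700 : allRangeF (checkPointF cert) (nat_lit 19700) (nat_lit 100) = true := by decide +kernel
theorem chkP_19800 : allRangeF (checkPointF cert) (nat_lit 19800) (nat_lit 100) = true := by decide +kernel
theorem chkP_19900 : allRangeF (checkPointF cert) (nat_lit 19900) (nat_lit 100) = true := by decide +kernel
theorem chkP_20000 : allRangeF (checkPointF cert) (nat_lit 20000) (nat_lit 100) = true := by decide +kernel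
theorem chkP_20100 : allRangeF (checkPointF cert) (nat_lit 20100) (nat_lit 100) = true := by decide +kernel
theorem chkP_20200 : allRangeF (checkPointF cert) (nat_lit 20200) (nat_lit 100) = true := by decide +kernel
theorem chkP_20300 : allRangeF (checkPointF cert) (nat_lit 20300) (nat_lit 100) = true := by decide +kernel
theorem chkP_20400 : allRangeF (checkPointF cert) (nat_lit 20400) (nat_lit 100) = true := by decide +kernel
theorem chkP_20500 : allRangeF (checkPointF cert) (nat_lit 20500) (nat_lit 100) = true := by decide +kernel
theorem chkP_20600 : allRangeF (checkPointF cert) (nat_lit 20600) (nat_lit 100) = true := by decide +kernel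
theorem chkP_20700 : allRangeF (checkPointF cert) (nat_lit 20700) (nat_lit 100) = true := by decide +kernel
theorem chkP_20800 : allRangeF (checkPointF cert) (nat_lit 20800) (nat_lit 100) = true := by decide +kernel
theorem chkP_20900 : allRangeF (checkPointF cert) (nat_lit 20900) (nat_lit 100) = true := by decide +kernel
theorem chkP_21000 : allRangeF (checkPointF cert) (nat_lit 21000) (nat_lit 100) = true := by decide +kernel
theorem chkP_21100 : allRangeF (checkPointF cert) (nat_lit 21100) (nat_lit 100) = true := by decide +kernel
theorem chkP_21200 : allRangeF (checkPointF cert) (nat_lit 21200) (nat_lit 100) = true := by decide +kernel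
theorem chkP_21300 : allRangeF (checkPointF cert) (nat_lit 21300) (nat_lit 100) = true := by decide +kernel
theorem chkP_21400 : allRangeF (checkPointF cert) (nat_lit 21400) (nat_lit 100) = true := by decide +kernel
theorem chkP_21500 : allRangeF (checkPointF cert) (nat_lit 21500) (nat_lit 100) = true := by decide +kernel
theorem chkP_21600 : allRangeF (checkPointF cert) (nat_lit 21600) (nat_lit 100) = true := by decide +kernel
theorem chkP_21700 : allRangeF (checkPointF cert) (nat_lit 21700) (nat_lit 100) = true := by decide +kernel
theorem chkP_21800 : allRangeF (checkPointF cert) (nat_lit 21800) (nat_lit 100) = true := by decide +kernel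
theorem chkP_21900 : allRangeF (checkPointF cert) (nat_lit 21900) (nat_lit 100) = true := by decide +kernel
theorem chkP_22000 : allRangeF (checkPointF cert) (nat_lit 22000) (nat_lit 100) = true := by decide +kernel
theorem chkP_22100 : allRangeF (checkPointF cert) (nat_lit 22100) (nat_lit 100) = true := by decide +kernel
theorem chkP_22200 : allRangeF (checkPointF cert) (nat_lit 22200) (nat_lit 100) = true := by decide +kernel
theorem chkP_22300 : allRangeF (checkPointF cert) (nat_lit 22300) (nat_lit 100) = true := by decide +kernel
theorem chkP_22400 : allRangeF (checkPointF cert) (nat_lit 22400) (nat_lit 100) = true := by decide +kernel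
theorem chkP_22500 : allRangeF (checkPointF cert) (nat_lit 22500) (nat_lit 100) = true := by decide +kernel
theorem chkP_22600 : allRangeF (checkPointF cert) (nat_lit 22600) (nat_lit 100) = true := by decide +kernel
theorem chkP_22700 : allRangeF (checkPointF cert) (nat_lit 22700) (nat_lit 100) = true := by decide +kernel
theorem chkP_22800 : allRangeF (checkPointF cert) (nat_lit 22800) (nat_lit 100) = true := by decide +kernel
theorem chkP_22900 : allRangeF (checkPointF cert) (nat_lit 22900) (nat_lit 100) = true := by decide +kernel
theorem chkP_23000 : allRangeF (checkPointF cert) (nat_lit 23000) (nat_lit 100) = true := by decide +kernel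
theorem chkP_23100 : allRangeF (checkPointF cert) (nat_lit 23100) (nat_lit 100) = true := by decide +kernel
theorem chkP_23200 : allRangeF (checkPointF cert) (nat_lit 23200) (nat_lit 100) = true := by decide +kernel
theorem chkP_23300 : allRangeF (checkPointF cert) (nat_lit 23300) (nat_lit 100) = true := by decide +kernel
theorem chkP_23400 : allRangeF (checkPointF cert) (nat_lit 23400) (nat_lit 100) = true := by decide +kernel
theorem chkP_23500 : allRangeF (checkPointF cert) (nat_lit 23500) (nat_lit 100) = true := by decide +kernel
theorem chkP_23600 : allRangeF (checkPointF cert) (nat_lit 23600) (nat_lit 100) = true := by decide +kernel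
theorem chkP_23700 : allRangeF (checkPointF cert) (nat_lit 23700) (nat_lit 100) = true := by decide +kernel
theorem chkP_23800 : allRangeF (checkPointF cert) (nat_lit 23800) (nat_lit 100) = true := by decide +kernel
theorem chkP_23900 : allRangeF (checkPointF cert) (nat_lit 23900) (nat_lit 100) = true := by decide +kernel
theorem chkP_24000 : allRangeF (checkPointF cert) (nat_lit 24000) (nat_lit 100) = true := by decide +kernel
theorem chkP_24100 : allRangeF (checkPointF cert) (nat_lit 24100) (nat_lit 100) = true := by decide +kernel
theorem chkP_24200 : allRangeF (checkPointF cert) (nat_lit 24200) (nat_lit 100) = true := by decide +kernel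
theorem chkP_24300 : allRangeF (checkPointF cert) (nat_lit 24300) (nat_lit 100) = true := by decide +kernel
theorem chkP_24400 : allRangeF (checkPointF cert) (nat_lit 24400) (nat_lit 100) = true := by decide +kernel
theorem chkP_24500 : allRangeF (checkPointF cert) (nat_lit 24500) (nat_lit 100) = true := by decide +kernel
theorem chkP_24600 : allRangeF (checkPointF cert) (nat_lit 24600) (nat_lit 100) = true := by decide +kernel
theorem chkP_24700 : allRangeF (checkPointF cert) (nat_lit 24700) (nat_lit 100) = true := by decide +kernel
theorem chkP_24800 : allRangeF (checkPointF cert) (nat_lit 24800) (nat_lit 100) = true := by decide +kernel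
theorem chkP_24900 : allRangeF (checkPointF cert) (nat_lit 24900) (nat_lit 100) = true := by decide +kernel
theorem chkP_25000 : allRangeF (checkPointF cert) (nat_lit 25000) (nat_lit 100) = true := by decide +kernel
theorem chkP_25100 : allRangeF (checkPointF cert) (nat_lit 25100) (nat_lit 100) = true := by decide +kernel
theorem chkP_25200 : allRangeF (checkPointF cert) (nat_lit 25200) (nat_lit 100) = true := by decide +kernel
theorem chkP_25300 : allRangeF (checkPointF cert) (nat_lit 25300) (nat_lit 100) = true := by decide +kernel
theorem chkP_25400 : allRangeF (checkPointF cert) (nat_lit 25400) (nat_lit 100) = true := by decide +kernel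
theorem chkP_25500 : allRangeF (checkPointF cert) (nat_lit 25500) (nat_lit 100) = true := by decide +kernel
theorem chkP_25600 : allRangeF (checkPointF cert) (nat_lit 25600) (nat_lit 100) = true := by decide +kernel
theorem chkP_25700 : allRangeF (checkPointF cert) (nat_lit 25700) (nat_lit 100) = true := by decide +kernel
theorem chkP_25800 : allRangeF (checkPointF cert) (nat_lit 25800) (nat_lit 100) = true := by decide +kernel
theorem chkP_25900 : allRangeF (checkPointF cert) (nat_lit 25900) (nat_lit 100) = true := by decide +kernel
theorem chkP_26000 : allRangeF (checkPointF cert) (nat_lit 26000) (nat_lit 100) = true := by decide +kernel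
theorem chkP_26100 : allRangeF (checkPointF cert) (nat_lit 26100) (nat_lit 100) = true := by decide +kernel
theorem chkP_26200 : allRangeF (checkPointF cert) (nat_lit 26200) (nat_lit 100) = true := by decide +kernel
theorem chkP_26300 : allRangeF (checkPointF cert) (nat_lit 26300) (nat_lit 100) = true := by decide +kernel
theorem chkP_26400 : allRangeF (checkPointF cert) (nat_lit 26400) (nat_lit 100) = true := by decide +kernel
theorem chkP_26500 : allRangeF (checkPointF cert) (nat_lit 26500) (nat_lit 100) = true := by decide +kernel
theorem chkP_26600 : allRangeF (checkPointF cert) (nat_lit 26600) (nat_lit 100) = true := by decide +kernel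
theorem chkP_26700 : allRangeF (checkPointF cert) (nat_lit 26700) (nat_lit 100) = true := by decide +kernel
theorem chkP_26800 : allRangeF (checkPointF cert) (nat_lit 26800) (nat_lit 100) = true := by decide +kernel
theorem chkP_26900 : allRangeF (checkPointF cert) (nat_lit 26900) (nat_lit 100) = true := by decide +kernel
theorem chkP_27000 : allRangeF (checkPointF cert) (nat_lit 27000) (nat_lit 100) = true := by decide +kernel
theorem chkP_27100 : allRangeF (checkPointF cert) (nat_lit 27100) (nat_lit 100) = true := by decide +kernel
theorem chkP_27200 : allRangeF (checkPointF cert) (nat_lit 27200) (nat_lit 100) = true := by decide +kernel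
theorem chkP_27300 : allRangeF (checkPointF cert) (nat_lit 27300) (nat_lit 100) = true := by decide +kernel
theorem chkP_27400 : allRangeF (checkPointF cert) (nat_lit 27400) (nat_lit 100) = true := by decide +kernel
theorem chkP_27500 : allRangeF (checkPointF cert) (nat_lit 27500) (nat_lit 100) = true := by decide +kernel
theorem chkP_27600 : allRangeF (checkPointF cert) (nat_lit 27600) (nat_lit 100) = true := by decide +kernel
theorem chkP_27700 : allRangeF (checkPointF cert) (nat_lit 27700) (nat_lit 100) = true := by decide +kernel
theorem chkP_27800 : allRangeF (checkPointF cert) (nat_lit 27800) (nat_lit 100) = true := by decide +kernel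
theorem chkP_27900 : allRangeF (checkPointF cert) (nat_lit 27900) (nat_lit 100) = true := by decide +kernel
theorem chkP_28000 : allRangeF (checkPointF cert) (nat_lit 28000) (nat_lit 100) = true := by decide +kernel
theorem chkP_28100 : allRangeF (checkPointF cert) (nat_lit 28100) (nat_lit 100) = true := by decide +kernel
theorem chkP_28200 : allRangeF (checkPointF cert) (nat_lit 28200) (nat_lit 100) = true := by decide +kernel
theorem chkP_28300 : allRangeF (checkPointF cert) (nat_lit 28300) (nat_lit 100) = true := by decide +kernel
theorem chkP_28400 : allRangeF (checkPointF cert) (nat_lit 28400) (nat_lit 100) = true := by decide +kernel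
theorem chkP_28500 : allRangeF (checkPointF cert) (nat_lit 28500) (nat_lit 100) = true := by decide +kernel
theorem chkP_28600 : allRangeF (checkPointF cert) (nat_lit 28600) (nat_lit 100) = true := by decide +kernel
theorem chkP_28700 : allRangeF (checkPointF cert) (nat_lit 28700) (nat_lit 100) = true := by decide +kernel
theorem chkP_28800 : allRangeF (checkPointF cert) (nat_lit 28800) (nat_lit 100) = true := by decide +kernel
theorem chkP_28900 : allRangeF (checkPointF cert) (nat_lit 28900) (nat_lit 100) = true := by decide +kernel
theorem chkP_29000 : allRangeF (checkPointF cert) (nat_lit 29000) (nat_lit 100) = true := by decide +kernel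
theorem chkP_29100 : allRangeF (checkPointF cert) (nat_lit 29100) (nat_lit 100) = true := by decide +kernel
theorem chkP_29200 : allRangeF (checkPointF cert) (nat_lit 29200) (nat_lit 100) = true := by decide +kernel
theorem chkP_29300 : allRangeF (checkPointF cert) (nat_lit 29300) (nat_lit 100) = true := by decide +kernel
theorem chkP_29400 : allRangeF (checkPointF cert) (nat_lit 29400) (nat_lit 100) = true := by decide +kernel
theorem chkP_29500 : allRangeF (checkPointF cert) (nat_lit 29500) (nat_lit 100) = true := by decide +kernel
theorem chkP_29600 : allRangeF (checkPointF cert) (nat_lit 29600) (nat_lit 100) = true := by decide +kernel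
theorem chkP_29700 : allRangeF (checkPointF cert) (nat_lit 29700) (nat_lit 100) = true := by decide +kernel
theorem chkP_29800 : allRangeF (checkPointF cert) (nat_lit 29800) (nat_lit 100) = true := by decide +kernel
theorem chkP_29900 : allRangeF (checkPointF cert) (nat_lit 29900) (nat_lit 100) = true := by decide +kernel
theorem chkP_30000 : allRangeF (checkPointF cert) (nat_lit 30000) (nat_lit 100) = true := by decide +kernel
theorem chkP_30100 : allRangeF (checkPointF cert) (nat_lit 30100) (nat_lit 100) = true := by decide +kernel
theorem chkP_30200 : allRangeF (checkPointF cert) (nat_lit 30200) (nat_lit 100) = true := by decide +kernel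
theorem chkP_30300 : allRangeF (checkPointF cert) (nat_lit 30300) (nat_lit 100) = true := by decide +kernel
theorem chkP_30400 : allRangeF (checkPointF cert) (nat_lit 30400) (nat_lit 100) = true := by decide +kernel
theorem chkP_30500 : allRangeF (checkPointF cert) (nat_lit 30500) (nat_lit 100) = true := by decide +kernel
theorem chkP_30600 : allRangeF (checkPointF cert) (nat_lit 30600) (nat_lit 100) = true := by decide +kernel
theorem chkP_30700 : allRangeF (checkPointF cert) (nat_lit 30700) (nat_lit 100) = true := by decide +kernel
theorem chkP_30800 : allRangeF (checkPointF cert) (nat_lit 30800) (nat_lit 100) = true := by decide +kernel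
theorem chkP_30900 : allRangeF (checkPointF cert) (nat_lit 30900) (nat_lit 100) = true := by decide +kernel
theorem chkP_31000 : allRangeF (checkPointF cert) (nat_lit 31000) (nat_lit 100) = true := by decide +kernel
theorem chkP_31100 : allRangeF (checkPointF cert) (nat_lit 31100) (nat_lit 100) = true := by decide +kernel
theorem chkP_31200 : allRangeF (checkPointF cert) (nat_lit 31200) (nat_lit 100) = true := by decide +kernel
theorem chkP_31300 : allRangeF (checkPointF cert) (nat_lit 31300) (nat_lit 100) = true := by decide +kernel
theorem chkP_31400 : allRangeF (checkPointF cert) (nat_lit 31400) (nat_lit 100) = true := by decide +kernel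
theorem chkP_31500 : allRangeF (checkPointF cert) (nat_lit 31500) (nat_lit 100) = true := by decide +kernel
theorem chkP_31600 : allRangeF (checkPointF cert) (nat_lit 31600) (nat_lit 100) = true := by decide +kernel
theorem chkP_31700 : allRangeF (checkPointF cert) (nat_lit 31700) (nat_lit 100) = true := by decide +kernel
theorem chkP_31800 : allRangeF (checkPointF cert) (nat_lit 31800) (nat_lit 100) = true := by decide +kernel
theorem chkP_31900 : allRangeF (checkPointF cert) (nat_lit 31900) (nat_lit 100) = true := by decide +kernel
theorem chkP_32000 : allRangeF (checkPointF cert) (nat_lit 32000) (nat_lit 100) = true := by decide +kernel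
theorem chkP_32100 : allRangeF (checkPointF cert) (nat_lit 32100) (nat_lit 100) = true := by decide +kernel
theorem chkP_32200 : allRangeF (checkPointF cert) (nat_lit 32200) (nat_lit 100) = true := by decide +kernel
theorem chkP_32300 : allRangeF (checkPointF cert) (nat_lit 32300) (nat_lit 100) = true := by decide +kernel
theorem chkP_32400 : allRangeF (checkPointF cert) (nat_lit 32400) (nat_lit 100) = true := by decide +kernel
theorem chkP_32500 : allRangeF (checkPointF cert) (nat_lit 32500) (nat_lit 100) = true := by decide +kernel
theorem chkP_32600 : allRangeF (checkPointF cert) (nat_lit 32600) (nat_lit 100) = true := by decide +kernel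
theorem chkP_32700 : allRangeF (checkPointF cert) (nat_lit 32700) (nat_lit 100) = true := by decide +kernel
theorem chkP_32800 : allRangeF (checkPointF cert) (nat_lit 32800) (nat_lit 100) = true := by decide +kernel
theorem chkP_32900 : allRangeF (checkPointF cert) (nat_lit 32900) (nat_lit 100) = true := by decide +kernel
theorem chkP_33000 : allRangeF (checkPointF cert) (nat_lit 33000) (nat_lit 100) = true := by decide +kernel
theorem chkP_33100 : allRangeF (checkPointF cert) (nat_lit 33100) (nat_lit 100) = true := by decide +kernel
theorem chkP_33200 : allRangeF (checkPointF cert) (nat_lit 33200) (nat_lit 100) = true := by decide +kernel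
theorem chkP_33300 : allRangeF (checkPointF cert) (nat_lit 33300) (nat_lit 100) = true := by decide +kernel

theorem ptsRange_1 : ∀ i, 16700 ≤ i → i < 33400 → checkPoint cert i = true := by
  intro i hlo hhi
  rcases Nat.lt_or_ge i 25000 with h1 | h1
  · skip
    rcases Nat.lt_or_ge i 20800 with h2 | h2
    · skip
      rcases Nat.lt_or_ge i 18700 with h3 | h3
      · skip
        rcases Nat.lt_or_ge i 17700 with h4 | h4
        · skip
          rcases Nat.lt_or_ge i 17200 with h5 | h5
          · skip
            rcases Nat.lt_or_ge i 16900 with h6 | h6
            · skip
              rcases Nat.lt_or_ge i 16800 with h7 | h7
              · skip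
                exact allRangeF_sound _ _ (checkPointF_eq cert) 16700 100 chkP_16700 i (by omega) (by omega)
              · skip
                exact allRangeF_sound _ _ (checkPointF_eq cert) 16800 100 chkP_16800 i (by omega) (by omega)
            · skip
              rcases Nat.lt_or_ge i 17000 with h7 | h7
              · skip
                exact allRangeF_sound _ _ (checkPointF_eq cert) 16900 100 chkP_16900 i (by omega) (by omega)
              · skip
                rcases Nat.lt_or_ge i 17100 with h8 | h8
                · skip
                  exact allRangeF_sound _ _ (checkPointF_eq cert) 17000 100 chkP_17000 i (by omega) (by omega)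
                · skip
                  exact allRangeF_sound _ _ (checkPointF_eq cert) 17100 100 chkP_17100 i (by omega) (by omega)
          · skip
            rcases Nat.lt_or_ge i 17400 with h6 | h6
            · skip
              rcases Nat.lt_or_ge i 17300 with h7 | h7
              · skip
                exact allRangeF_sound _ _ (checkPointF_eq cert) 17200 100 chkP_17200 i (by omega) (by omega)
              · skip
                exact allRangeF_sound _ _ (checkPointF_eq cert) 17300 100 chkP_17300 i (by omega) (by omega)
            · skip
              rcases Nat.lt_or_ge i 17500 with h7 | h7
              · skip
                exact allRangeF_sound _ _ (checkPointF_eq cert) 17400 100 chkP_17400 i (by omega) (by omega)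
              · skip
                rcases Nat.lt_or_ge i 17600 with h8 | h8
                · skip
                  exact allRangeF_sound _ _ (checkPointF_eq cert) 17500 100 chkP_17500 i (by omega) (by omega)
                · skip
                  exact allRangeF_sound _ _ (checkPointF_eq cert) 17600 100 chkP_17600 i (by omega) (by omega)
        · skip
          rcases Nat.lt_or_ge i 18200 with h5 | h5
          · skip
            rcases Nat.lt_or_ge i 17900 with h6 | h6
            · skip
              rcases Nat.lt_or_ge i 17800 with h7 | h7
              · skip
                exact allRangeF_sound _ _ (checkPointF_eq cert) 17700 100 chkP_17700 i (by omega) (by omega)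
              · skip
                exact allRangeF_sound _ _ (checkPointF_eq cert) 17800 100 chkP_17800 i (by omega) (by omega)
            · skip
              rcases Nat.lt_or_ge i 18000 with h7 | h7
              · skip
                exact allRangeF_sound _ _ (checkPointF_eq cert) 17900 100 chkP_17900 i (by omega) (by omega)
              · skip
                rcases Nat.lt_or_ge i 18100 with h8 | h8
                · skip
                  exact allRangeF_sound _ _ (checkPointF_eq cert) 18000 100 chkP_18000 i (by omega) (by omega)
                · skip
                  exact allRangeF_sound _ _ (checkPointF_eq cert) 18100 100 chkP_18100 i (by omega) (by omega)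
          · skip
            rcases Nat.lt_or_ge i 18400 with h6 | h6
            · skip
              rcases Nat.lt_or_ge i 18300 with h7 | h7
              · skip
                exact allRangeF_sound _ _ (checkPointF_eq cert) 18200 100 chkP_18200 i (by omega) (by omega)
              · skip
                exact allRangeF_sound _ _ (checkPointF_eq cert) 18300 100 chkP_18300 i (by omega) (by omega)
            · skip
              rcases Nat.lt_or_ge i 18500 with h7 | h7
              · skip
                exact allRangeF_sound _ _ (checkPointF_eq cert) 18400 100 chkP_18400 i (by omega) (by omega)
              · skip
                rcases Nat.lt_or_ge i 18600 with h8 | h8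
                · skip
                  exact allRangeF_sound _ _ (checkPointF_eq cert) 18500 100 chkP_18500 i (by omega) (by omega)
                · skip
                  exact allRangeF_sound _ _ (checkPointF_eq cert) 18600 100 chkP_18600 i (by omega) (by omega)
      · skip
        rcases Nat.lt_or_ge i 19700 with h4 | h4
        · skip
          rcases Nat.lt_or_ge i 19200 with h5 | h5
          · skip
            rcases Nat.lt_or_ge i 18900 with h6 | h6
            · skip
              rcases Nat.lt_or_ge i 18800 with h7 | h7
              · skip
                exact allRangeF_sound _ _ (checkPointF_eq cert) 18700 100 chkP_18700 i (by omega) (by omega)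
              · skip
                exact allRangeF_sound _ _ (checkPointF_eq cert) 18800 100 chkP_18800 i (by omega) (by omega)
            · skip
              rcases Nat.lt_or_ge i 19000 with h7 | h7
              · skip
                exact allRangeF_sound _ _ (checkPointF_eq cert) 18900 100 chkP_18900 i (by omega) (by omega)
              · skip
                rcases Nat.lt_or_ge i 19100 with h8 | h8
                · skip
                  exact allRangeF_sound _ _ (checkPointF_eq cert) 19000 100 chkP_19000 i (by omega) (by omega)
                · skip
                  exact allRangeF_sound _ _ (checkPointF_eq cert) 19100 100 chkP_19100 i (by omega) (by omega)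
          · skip
            rcases Nat.lt_or_ge i 19400 with h6 | h6
            · skip
              rcases Nat.lt_or_ge i 19300 with h7 | h7
              · skip
                exact allRangeF_sound _ _ (checkPointF_eq cert) 19200 100 chkP_19200 i (by omega) (by omega)
              · skip
                exact allRangeF_sound _ _ (checkPointF_eq cert) 19300 100 chkP_19300 i (by omega) (by omega)
            · skip
              rcases Nat.lt_or_ge i 19500 with h7 | h7
              · skip
                exact allRangeF_sound _ _ (checkPointF_eq cert) 19400 100 chkP_19400 i (by omega) (by omega)
              · skip
                rcases Nat.lt_or_ge i 19600 with h8 | h8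
                · skip
                  exact allRangeF_sound _ _ (checkPointF_eq cert) 19500 100 chkP_19500 i (by omega) (by omega)
                · skip
                  exact allRangeF_sound _ _ (checkPointF_eq cert) 19600 100 chkP_19600 i (by omega) (by omega)
        · skip
          rcases Nat.lt_or_ge i 20200 with h5 | h5
          · skip
            rcases Nat.lt_or_ge i 19900 with h6 | h6
            · skip
              rcases Nat.lt_or_ge i 19800 with h7 | h7
              · skip
                exact allRangeF_sound _ _ (checkPointF_eq cert) 19700 100 chkP_19700 i (by omega) (by omega)
              · skip
                exact allRangeF_sound _ _ (checkPointF_eq cert) 19800 100 chkP_19800 i (by omega) (by omega)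
            · skip
              rcases Nat.lt_or_ge i 20000 with h7 | h7
              · skip
                exact allRangeF_sound _ _ (checkPointF_eq cert) 19900 100 chkP_19900 i (by omega) (by omega)
              · skip
                rcases Nat.lt_or_ge i 20100 with h8 | h8
                · skip
                  exact allRangeF_sound _ _ (checkPointF_eq cert) 20000 100 chkP_20000 i (by omega) (by omega)
                · skip
                  exact allRangeF_sound _ _ (checkPointF_eq cert) 20100 100 chkP_20100 i (by omega) (by omega)
          · skip
            rcases Nat.lt_or_ge i 20500 with h6 | h6
            · skip
              rcases Nat.lt_or_ge i 20300 with h7 | h7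
              · skip
                exact allRangeF_sound _ _ (checkPointF_eq cert) 20200 100 chkP_20200 i (by omega) (by omega)
              · skip
                rcases Nat.lt_or_ge i 20400 with h8 | h8
                · skip
                  exact allRangeF_sound _ _ (checkPointF_eq cert) 20300 100 chkP_20300 i (by omega) (by omega)
                · skip
                  exact allRangeF_sound _ _ (checkPointF_eq cert) 20400 100 chkP_20400 i (by omega) (by omega)
            · skip
              rcases Nat.lt_or_ge i 20600 with h7 | h7
              · skip
                exact allRangeF_sound _ _ (checkPointF_eq cert) 20500 100 chkP_20500 i (by omega) (by omega)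
              · skip
                rcases Nat.lt_or_ge i 20700 with h8 | h8
                · skip
                  exact allRangeF_sound _ _ (checkPointF_eq cert) 20600 100 chkP_20600 i (by omega) (by omega)
                · skip
                  exact allRangeF_sound _ _ (checkPointF_eq cert) 20700 100 chkP_20700 i (by omega) (by omega)
    · skip
      rcases Nat.lt_or_ge i 22900 with h3 | h3
      · skip
        rcases Nat.lt_or_ge i 21800 with h4 | h4
        · skip
          rcases Nat.lt_or_ge i 21300 with h5 | h5
          · skip
            rcases Nat.lt_or_ge i 21000 with h6 | h6
            · skip
              rcases Nat.lt_or_ge i 20900 with h7 | h7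
              · skip
                exact allRangeF_sound _ _ (checkPointF_eq cert) 20800 100 chkP_20800 i (by omega) (by omega)
              · skip
                exact allRangeF_sound _ _ (checkPointF_eq cert) 20900 100 chkP_20900 i (by omega) (by omega)
            · skip
              rcases Nat.lt_or_ge i 21100 with h7 | h7
              · skip
                exact allRangeF_sound _ _ (checkPointF_eq cert) 21000 100 chkP_21000 i (by omega) (by omega)
              · skip
                rcases Nat.lt_or_ge i 21200 with h8 | h8
                · skip
                  exact allRangeF_sound _ _ (checkPointF_eq cert) 21100 100 chkP_21100 i (by omega) (by omega)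
                · skip
                  exact allRangeF_sound _ _ (checkPointF_eq cert) 21200 100 chkP_21200 i (by omega) (by omega)
          · skip
            rcases Nat.lt_or_ge i 21500 with h6 | h6
            · skip
              rcases Nat.lt_or_ge i 21400 with h7 | h7
              · skip
                exact allRangeF_sound _ _ (checkPointF_eq cert) 21300 100 chkP_21300 i (by omega) (by omega)
              · skip
                exact allRangeF_sound _ _ (checkPointF_eq cert) 21400 100 chkP_21400 i (by omega) (by omega)
            · skip
              rcases Nat.lt_or_ge i 21600 with h7 | h7
              · skip
                exact allRangeF_sound _ _ (checkPointF_eq cert) 21500 100 chkP_21500 i (by omega) (by omega)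
              · skip
                rcases Nat.lt_or_ge i 21700 with h8 | h8
                · skip
                  exact allRangeF_sound _ _ (checkPointF_eq cert) 21600 100 chkP_21600 i (by omega) (by omega)
                · skip
                  exact allRangeF_sound _ _ (checkPointF_eq cert) 21700 100 chkP_21700 i (by omega) (by omega)
        · skip
          rcases Nat.lt_or_ge i 22300 with h5 | h5
          · skip
            rcases Nat.lt_or_ge i 22000 with h6 | h6
            · skip
              rcases Nat.lt_or_ge i 21900 with h7 | h7
              · skip
                exact allRangeF_sound _ _ (checkPointF_eq cert) 21800 100 chkP_21800 i (by omega) (by omega)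
              · skip
                exact allRangeF_sound _ _ (checkPointF_eq cert) 21900 100 chkP_21900 i (by omega) (by omega)
            · skip
              rcases Nat.lt_or_ge i 22100 with h7 | h7
              · skip
                exact allRangeF_sound _ _ (checkPointF_eq cert) 22000 100 chkP_22000 i (by omega) (by omega)
              · skip
                rcases Nat.lt_or_ge i 22200 with h8 | h8
                · skip
                  exact allRangeF_sound _ _ (checkPointF_eq cert) 22100 100 chkP_22100 i (by omega) (by omega)
                · skip
                  exact allRangeF_sound _ _ (checkPointF_eq cert) 22200 100 chkP_22200 i (by omega) (by omega)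
          · skip
            rcases Nat.lt_or_ge i 22600 with h6 | h6
            · skip
              rcases Nat.lt_or_ge i 22400 with h7 | h7
              · skip
                exact allRangeF_sound _ _ (checkPointF_eq cert) 22300 100 chkP_22300 i (by omega) (by omega)
              · skip
                rcases Nat.lt_or_ge i 22500 with h8 | h8
                · skip
                  exact allRangeF_sound _ _ (checkPointF_eq cert) 22400 100 chkP_22400 i (by omega) (by omega)
                · skip
                  exact allRangeF_sound _ _ (checkPointF_eq cert) 22500 100 chkP_22500 i (by omega) (by omega)
            · skip
              rcases Nat.lt_or_ge i 22700 with h7 | h7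
              · skip
                exact allRangeF_sound _ _ (checkPointF_eq cert) 22600 100 chkP_22600 i (by omega) (by omega)
              · skip
                rcases Nat.lt_or_ge i 22800 with h8 | h8
                · skip
                  exact allRangeF_sound _ _ (checkPointF_eq cert) 22700 100 chkP_22700 i (by omega) (by omega)
                · skip
                  exact allRangeF_sound _ _ (checkPointF_eq cert) 22800 100 chkP_22800 i (by omega) (by omega)
      · skip
        rcases Nat.lt_or_ge i 23900 with h4 | h4
        · skip
          rcases Nat.lt_or_ge i 23400 with h5 | h5
          · skip
            rcases Nat.lt_or_ge i 23100 with h6 | h6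
            · skip
              rcases Nat.lt_or_ge i 23000 with h7 | h7
              · skip
                exact allRangeF_sound _ _ (checkPointF_eq cert) 22900 100 chkP_22900 i (by omega) (by omega)
              · skip
                exact allRangeF_sound _ _ (checkPointF_eq cert) 23000 100 chkP_23000 i (by omega) (by omega)
            · skip
              rcases Nat.lt_or_ge i 23200 with h7 | h7
              · skip
                exact allRangeF_sound _ _ (checkPointF_eq cert) 23100 100 chkP_23100 i (by omega) (by omega)
              · skip
                rcases Nat.lt_or_ge i 23300 with h8 | h8
                · skip
                  exact allRangeF_sound _ _ (checkPointF_eq cert) 23200 100 chkP_23200 i (by omega) (by omega)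
                · skip
                  exact allRangeF_sound _ _ (checkPointF_eq cert) 23300 100 chkP_23300 i (by omega) (by omega)
          · skip
            rcases Nat.lt_or_ge i 23600 with h6 | h6
            · skip
              rcases Nat.lt_or_ge i 23500 with h7 | h7
              · skip
                exact allRangeF_sound _ _ (checkPointF_eq cert) 23400 100 chkP_23400 i (by omega) (by omega)
              · skip
                exact allRangeF_sound _ _ (checkPointF_eq cert) 23500 100 chkP_23500 i (by omega) (by omega)
            · skip
              rcases Nat.lt_or_ge i 23700 with h7 | h7
              · skip
                exact allRangeF_sound _ _ (checkPointF_eq cert) 23600 100 chkP_23600 i (by omega) (by omega)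
              · skip
                rcases Nat.lt_or_ge i 23800 with h8 | h8
                · skip
                  exact allRangeF_sound _ _ (checkPointF_eq cert) 23700 100 chkP_23700 i (by omega) (by omega)
                · skip
                  exact allRangeF_sound _ _ (checkPointF_eq cert) 23800 100 chkP_23800 i (by omega) (by omega)
        · skip
          rcases Nat.lt_or_ge i 24400 with h5 | h5
          · skip
            rcases Nat.lt_or_ge i 24100 with h6 | h6
            · skip
              rcases Nat.lt_or_ge i 24000 with h7 | h7
              · skip
                exact allRangeF_sound _ _ (checkPointF_eq cert) 23900 100 chkP_23900 i (by omega) (by omega)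
              · skip
                exact allRangeF_sound _ _ (checkPointF_eq cert) 24000 100 chkP_24000 i (by omega) (by omega)
            · skip
              rcases Nat.lt_or_ge i 24200 with h7 | h7
              · skip
                exact allRangeF_sound _ _ (checkPointF_eq cert) 24100 100 chkP_24100 i (by omega) (by omega)
              · skip
                rcases Nat.lt_or_ge i 24300 with h8 | h8
                · skip
                  exact allRangeF_sound _ _ (checkPointF_eq cert) 24200 100 chkP_24200 i (by omega) (by omega)
                · skip
                  exact allRangeF_sound _ _ (checkPointF_eq cert) 24300 100 chkP_24300 i (by omega) (by omega)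
          · skip
            rcases Nat.lt_or_ge i 24700 with h6 | h6
            · skip
              rcases Nat.lt_or_ge i 24500 with h7 | h7
              · skip
                exact allRangeF_sound _ _ (checkPointF_eq cert) 24400 100 chkP_24400 i (by omega) (by omega)
              · skip
                rcases Nat.lt_or_ge i 24600 with h8 | h8
                · skip
                  exact allRangeF_sound _ _ (checkPointF_eq cert) 24500 100 chkP_24500 i (by omega) (by omega)
                · skip
                  exact allRangeF_sound _ _ (checkPointF_eq cert) 24600 100 chkP_24600 i (by omega) (by omega)
            · skip
              rcases Nat.lt_or_ge i 24800 with h7 | h7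
              · skip
                exact allRangeF_sound _ _ (checkPointF_eq cert) 24700 100 chkP_24700 i (by omega) (by omega)
              · skip
                rcases Nat.lt_or_ge i 24900 with h8 | h8
                · skip
                  exact allRangeF_sound _ _ (checkPointF_eq cert) 24800 100 chkP_24800 i (by omega) (by omega)
                · skip
                  exact allRangeF_sound _ _ (checkPointF_eq cert) 24900 100 chkP_24900 i (by omega) (by omega)
  · skip
    rcases Nat.lt_or_ge i 29200 with h2 | h2
    · skip
      rcases Nat.lt_or_ge i 27100 with h3 | h3
      · skip
        rcases Nat.lt_or_ge i 26000 with h4 | h4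
        · skip
          rcases Nat.lt_or_ge i 25500 with h5 | h5
          · skip
            rcases Nat.lt_or_ge i 25200 with h6 | h6
            · skip
              rcases Nat.lt_or_ge i 25100 with h7 | h7
              · skip
                exact allRangeF_sound _ _ (checkPointF_eq cert) 25000 100 chkP_25000 i (by omega) (by omega)
              · skip
                exact allRangeF_sound _ _ (checkPointF_eq cert) 25100 100 chkP_25100 i (by omega) (by omega)
            · skip
              rcases Nat.lt_or_ge i 25300 with h7 | h7
              · skip
                exact allRangeF_sound _ _ (checkPointF_eq cert) 25200 100 chkP_25200 i (by omega) (by omega)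
              · skip
                rcases Nat.lt_or_ge i 25400 with h8 | h8
                · skip
                  exact allRangeF_sound _ _ (checkPointF_eq cert) 25300 100 chkP_25300 i (by omega) (by omega)
                · skip
                  exact allRangeF_sound _ _ (checkPointF_eq cert) 25400 100 chkP_25400 i (by omega) (by omega)
          · skip
            rcases Nat.lt_or_ge i 25700 with h6 | h6
            · skip
              rcases Nat.lt_or_ge i 25600 with h7 | h7
              · skip
                exact allRangeF_sound _ _ (checkPointF_eq cert) 25500 100 chkP_25500 i (by omega) (by omega)
              · skip
                exact allRangeF_sound _ _ (checkPointF_eq cert) 25600 100 chkP_25600 i (by omega) (by omega)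
            · skip
              rcases Nat.lt_or_ge i 25800 with h7 | h7
              · skip
                exact allRangeF_sound _ _ (checkPointF_eq cert) 25700 100 chkP_25700 i (by omega) (by omega)
              · skip
                rcases Nat.lt_or_ge i 25900 with h8 | h8
                · skip
                  exact allRangeF_sound _ _ (checkPointF_eq cert) 25800 100 chkP_25800 i (by omega) (by omega)
                · skip
                  exact allRangeF_sound _ _ (checkPointF_eq cert) 25900 100 chkP_25900 i (by omega) (by omega)
        · skip
          rcases Nat.lt_or_ge i 26500 with h5 | h5
          · skip
            rcases Nat.lt_or_ge i 26200 with h6 | h6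
            · skip
              rcases Nat.lt_or_ge i 26100 with h7 | h7
              · skip
                exact allRangeF_sound _ _ (checkPointF_eq cert) 26000 100 chkP_26000 i (by omega) (by omega)
              · skip
                exact allRangeF_sound _ _ (checkPointF_eq cert) 26100 100 chkP_26100 i (by omega) (by omega)
            · skip
              rcases Nat.lt_or_ge i 26300 with h7 | h7
              · skip
                exact allRangeF_sound _ _ (checkPointF_eq cert) 26200 100 chkP_26200 i (by omega) (by omega)
              · skip
                rcases Nat.lt_or_ge i 26400 with h8 | h8
                · skip
                  exact allRangeF_sound _ _ (checkPointF_eq cert) 26300 100 chkP_26300 i (by omega) (by omega)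
                · skip
                  exact allRangeF_sound _ _ (checkPointF_eq cert) 26400 100 chkP_26400 i (by omega) (by omega)
          · skip
            rcases Nat.lt_or_ge i 26800 with h6 | h6
            · skip
              rcases Nat.lt_or_ge i 26600 with h7 | h7
              · skip
                exact allRangeF_sound _ _ (checkPointF_eq cert) 26500 100 chkP_26500 i (by omega) (by omega)
              · skip
                rcases Nat.lt_or_ge i 26700 with h8 | h8
                · skip
                  exact allRangeF_sound _ _ (checkPointF_eq cert) 26600 100 chkP_26600 i (by omega) (by omega)
                · skip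
                  exact allRangeF_sound _ _ (checkPointF_eq cert) 26700 100 chkP_26700 i (by omega) (by omega)
            · skip
              rcases Nat.lt_or_ge i 26900 with h7 | h7
              · skip
                exact allRangeF_sound _ _ (checkPointF_eq cert) 26800 100 chkP_26800 i (by omega) (by omega)
              · skip
                rcases Nat.lt_or_ge i 27000 with h8 | h8
                · skip
                  exact allRangeF_sound _ _ (checkPointF_eq cert) 26900 100 chkP_26900 i (by omega) (by omega)
                · skip
                  exact allRangeF_sound _ _ (checkPointF_eq cert) 27000 100 chkP_27000 i (by omega) (by omega)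
      · skip
        rcases Nat.lt_or_ge i 28100 with h4 | h4
        · skip
          rcases Nat.lt_or_ge i 27600 with h5 | h5
          · skip
            rcases Nat.lt_or_ge i 27300 with h6 | h6
            · skip
              rcases Nat.lt_or_ge i 27200 with h7 | h7
              · skip
                exact allRangeF_sound _ _ (checkPointF_eq cert) 27100 100 chkP_27100 i (by omega) (by omega)
              · skip
                exact allRangeF_sound _ _ (checkPointF_eq cert) 27200 100 chkP_27200 i (by omega) (by omega)
            · skip
              rcases Nat.lt_or_ge i 27400 with h7 | h7
              · skip
                exact allRangeF_sound _ _ (checkPointF_eq cert) 27300 100 chkP_27300 i (by omega) (by omega)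
              · skip
                rcases Nat.lt_or_ge i 27500 with h8 | h8
                · skip
                  exact allRangeF_sound _ _ (checkPointF_eq cert) 27400 100 chkP_27400 i (by omega) (by omega)
                · skip
                  exact allRangeF_sound _ _ (checkPointF_eq cert) 27500 100 chkP_27500 i (by omega) (by omega)
          · skip
            rcases Nat.lt_or_ge i 27800 with h6 | h6
            · skip
              rcases Nat.lt_or_ge i 27700 with h7 | h7
              · skip
                exact allRangeF_sound _ _ (checkPointF_eq cert) 27600 100 chkP_27600 i (by omega) (by omega)
              · skip
                exact allRangeF_sound _ _ (checkPointF_eq cert) 27700 100 chkP_27700 i (by omega) (by omega)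
            · skip
              rcases Nat.lt_or_ge i 27900 with h7 | h7
              · skip
                exact allRangeF_sound _ _ (checkPointF_eq cert) 27800 100 chkP_27800 i (by omega) (by omega)
              · skip
                rcases Nat.lt_or_ge i 28000 with h8 | h8
                · skip
                  exact allRangeF_sound _ _ (checkPointF_eq cert) 27900 100 chkP_27900 i (by omega) (by omega)
                · skip
                  exact allRangeF_sound _ _ (checkPointF_eq cert) 28000 100 chkP_28000 i (by omega) (by omega)
        · skip
          rcases Nat.lt_or_ge i 28600 with h5 | h5
          · skip
            rcases Nat.lt_or_ge i 28300 with h6 | h6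
            · skip
              rcases Nat.lt_or_ge i 28200 with h7 | h7
              · skip
                exact allRangeF_sound _ _ (checkPointF_eq cert) 28100 100 chkP_28100 i (by omega) (by omega)
              · skip
                exact allRangeF_sound _ _ (checkPointF_eq cert) 28200 100 chkP_28200 i (by omega) (by omega)
            · skip
              rcases Nat.lt_or_ge i 28400 with h7 | h7
              · skip
                exact allRangeF_sound _ _ (checkPointF_eq cert) 28300 100 chkP_28300 i (by omega) (by omega)
              · skip
                rcases Nat.lt_or_ge i 28500 with h8 | h8
                · skip
                  exact allRangeF_sound _ _ (checkPointF_eq cert) 28400 100 chkP_28400 i (by omega) (by omega)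
                · skip
                  exact allRangeF_sound _ _ (checkPointF_eq cert) 28500 100 chkP_28500 i (by omega) (by omega)
          · skip
            rcases Nat.lt_or_ge i 28900 with h6 | h6
            · skip
              rcases Nat.lt_or_ge i 28700 with h7 | h7
              · skip
                exact allRangeF_sound _ _ (checkPointF_eq cert) 28600 100 chkP_28600 i (by omega) (by omega)
              · skip
                rcases Nat.lt_or_ge i 28800 with h8 | h8
                · skip
                  exact allRangeF_sound _ _ (checkPointF_eq cert) 28700 100 chkP_28700 i (by omega) (by omega)
                · skip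
                  exact allRangeF_sound _ _ (checkPointF_eq cert) 28800 100 chkP_28800 i (by omega) (by omega)
            · skip
              rcases Nat.lt_or_ge i 29000 with h7 | h7
              · skip
                exact allRangeF_sound _ _ (checkPointF_eq cert) 28900 100 chkP_28900 i (by omega) (by omega)
              · skip
                rcases Nat.lt_or_ge i 29100 with h8 | h8
                · skip
                  exact allRangeF_sound _ _ (checkPointF_eq cert) 29000 100 chkP_29000 i (by omega) (by omega)
                · skip
                  exact allRangeF_sound _ _ (checkPointF_eq cert) 29100 100 chkP_29100 i (by omega) (by omega)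
    · skip
      rcases Nat.lt_or_ge i 31300 with h3 | h3
      · skip
        rcases Nat.lt_or_ge i 30200 with h4 | h4
        · skip
          rcases Nat.lt_or_ge i 29700 with h5 | h5
          · skip
            rcases Nat.lt_or_ge i 29400 with h6 | h6
            · skip
              rcases Nat.lt_or_ge i 29300 with h7 | h7
              · skip
                exact allRangeF_sound _ _ (checkPointF_eq cert) 29200 100 chkP_29200 i (by omega) (by omega)
              · skip
                exact allRangeF_sound _ _ (checkPointF_eq cert) 29300 100 chkP_29300 i (by omega) (by omega)
            · skip
              rcases Nat.lt_or_ge i 29500 with h7 | h7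
              · skip
                exact allRangeF_sound _ _ (checkPointF_eq cert) 29400 100 chkP_29400 i (by omega) (by omega)
              · skip
                rcases Nat.lt_or_ge i 29600 with h8 | h8
                · skip
                  exact allRangeF_sound _ _ (checkPointF_eq cert) 29500 100 chkP_29500 i (by omega) (by omega)
                · skip
                  exact allRangeF_sound _ _ (checkPointF_eq cert) 29600 100 chkP_29600 i (by omega) (by omega)
          · skip
            rcases Nat.lt_or_ge i 29900 with h6 | h6
            · skip
              rcases Nat.lt_or_ge i 29800 with h7 | h7
              · skip
                exact allRangeF_sound _ _ (checkPointF_eq cert) 29700 100 chkP_29700 i (by omega) (by omega)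
              · skip
                exact allRangeF_sound _ _ (checkPointF_eq cert) 29800 100 chkP_29800 i (by omega) (by omega)
            · skip
              rcases Nat.lt_or_ge i 30000 with h7 | h7
              · skip
                exact allRangeF_sound _ _ (checkPointF_eq cert) 29900 100 chkP_29900 i (by omega) (by omega)
              · skip
                rcases Nat.lt_or_ge i 30100 with h8 | h8
                · skip
                  exact allRangeF_sound _ _ (checkPointF_eq cert) 30000 100 chkP_30000 i (by omega) (by omega)
                · skip
                  exact allRangeF_sound _ _ (checkPointF_eq cert) 30100 100 chkP_30100 i (by omega) (by omega)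
        · skip
          rcases Nat.lt_or_ge i 30700 with h5 | h5
          · skip
            rcases Nat.lt_or_ge i 30400 with h6 | h6
            · skip
              rcases Nat.lt_or_ge i 30300 with h7 | h7
              · skip
                exact allRangeF_sound _ _ (checkPointF_eq cert) 30200 100 chkP_30200 i (by omega) (by omega)
              · skip
                exact allRangeF_sound _ _ (checkPointF_eq cert) 30300 100 chkP_30300 i (by omega) (by omega)
            · skip
              rcases Nat.lt_or_ge i 30500 with h7 | h7
              · skip
                exact allRangeF_sound _ _ (checkPointF_eq cert) 30400 100 chkP_30400 i (by omega) (by omega)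
              · skip
                rcases Nat.lt_or_ge i 30600 with h8 | h8
                · skip
                  exact allRangeF_sound _ _ (checkPointF_eq cert) 30500 100 chkP_30500 i (by omega) (by omega)
                · skip
                  exact allRangeF_sound _ _ (checkPointF_eq cert) 30600 100 chkP_30600 i (by omega) (by omega)
          · skip
            rcases Nat.lt_or_ge i 31000 with h6 | h6
            · skip
              rcases Nat.lt_or_ge i 30800 with h7 | h7
              · skip
                exact allRangeF_sound _ _ (checkPointF_eq cert) 30700 100 chkP_30700 i (by omega) (by omega)
              · skip
                rcases Nat.lt_or_ge i 30900 with h8 | h8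
                · skip
                  exact allRangeF_sound _ _ (checkPointF_eq cert) 30800 100 chkP_30800 i (by omega) (by omega)
                · skip
                  exact allRangeF_sound _ _ (checkPointF_eq cert) 30900 100 chkP_30900 i (by omega) (by omega)
            · skip
              rcases Nat.lt_or_ge i 31100 with h7 | h7
              · skip
                exact allRangeF_sound _ _ (checkPointF_eq cert) 31000 100 chkP_31000 i (by omega) (by omega)
              · skip
                rcases Nat.lt_or_ge i 31200 with h8 | h8
                · skip
                  exact allRangeF_sound _ _ (checkPointF_eq cert) 31100 100 chkP_31100 i (by omega) (by omega)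
                · skip
                  exact allRangeF_sound _ _ (checkPointF_eq cert) 31200 100 chkP_31200 i (by omega) (by omega)
      · skip
        rcases Nat.lt_or_ge i 32300 with h4 | h4
        · skip
          rcases Nat.lt_or_ge i 31800 with h5 | h5
          · skip
            rcases Nat.lt_or_ge i 31500 with h6 | h6
            · skip
              rcases Nat.lt_or_ge i 31400 with h7 | h7
              · skip
                exact allRangeF_sound _ _ (checkPointF_eq cert) 31300 100 chkP_31300 i (by omega) (by omega)
              · skip
                exact allRangeF_sound _ _ (checkPointF_eq cert) 31400 100 chkP_31400 i (by omega) (by omega)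
            · skip
              rcases Nat.lt_or_ge i 31600 with h7 | h7
              · skip
                exact allRangeF_sound _ _ (checkPointF_eq cert) 31500 100 chkP_31500 i (by omega) (by omega)
              · skip
                rcases Nat.lt_or_ge i 31700 with h8 | h8
                · skip
                  exact allRangeF_sound _ _ (checkPointF_eq cert) 31600 100 chkP_31600 i (by omega) (by omega)
                · skip
                  exact allRangeF_sound _ _ (checkPointF_eq cert) 31700 100 chkP_31700 i (by omega) (by omega)
          · skip
            rcases Nat.lt_or_ge i 32000 with h6 | h6
            · skip
              rcases Nat.lt_or_ge i 31900 with h7 | h7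
              · skip
                exact allRangeF_sound _ _ (checkPointF_eq cert) 31800 100 chkP_31800 i (by omega) (by omega)
              · skip
                exact allRangeF_sound _ _ (checkPointF_eq cert) 31900 100 chkP_31900 i (by omega) (by omega)
            · skip
              rcases Nat.lt_or_ge i 32100 with h7 | h7
              · skip
                exact allRangeF_sound _ _ (checkPointF_eq cert) 32000 100 chkP_32000 i (by omega) (by omega)
              · skip
                rcases Nat.lt_or_ge i 32200 with h8 | h8
                · skip
                  exact allRangeF_sound _ _ (checkPointF_eq cert) 32100 100 chkP_32100 i (by omega) (by omega)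
                · skip
                  exact allRangeF_sound _ _ (checkPointF_eq cert) 32200 100 chkP_32200 i (by omega) (by omega)
        · skip
          rcases Nat.lt_or_ge i 32800 with h5 | h5
          · skip
            rcases Nat.lt_or_ge i 32500 with h6 | h6
            · skip
              rcases Nat.lt_or_ge i 32400 with h7 | h7
              · skip
                exact allRangeF_sound _ _ (checkPointF_eq cert) 32300 100 chkP_32300 i (by omega) (by omega)
              · skip
                exact allRangeF_sound _ _ (checkPointF_eq cert) 32400 100 chkP_32400 i (by omega) (by omega)
            · skip
              rcases Nat.lt_or_ge i 32600 with h7 | h7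
              · skip
                exact allRangeF_sound _ _ (checkPointF_eq cert) 32500 100 chkP_32500 i (by omega) (by omega)
              · skip
                rcases Nat.lt_or_ge i 32700 with h8 | h8
                · skip
                  exact allRangeF_sound _ _ (checkPointF_eq cert) 32600 100 chkP_32600 i (by omega) (by omega)
                · skip
                  exact allRangeF_sound _ _ (checkPointF_eq cert) 32700 100 chkP_32700 i (by omega) (by omega)
          · skip
            rcases Nat.lt_or_ge i 33100 with h6 | h6
            · skip
              rcases Nat.lt_or_ge i 32900 with h7 | h7
              · skip
                exact allRangeF_sound _ _ (checkPointF_eq cert) 32800 100 chkP_32800 i (by omega) (by omega)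
              · skip
                rcases Nat.lt_or_ge i 33000 with h8 | h8
                · skip
                  exact allRangeF_sound _ _ (checkPointF_eq cert) 32900 100 chkP_32900 i (by omega) (by omega)
                · skip
                  exact allRangeF_sound _ _ (checkPointF_eq cert) 33000 100 chkP_33000 i (by omega) (by omega)
            · skip
              rcases Nat.lt_or_ge i 33200 with h7 | h7
              · skip
                exact allRangeF_sound _ _ (checkPointF_eq cert) 33100 100 chkP_33100 i (by omega) (by omega)
              · skip
                rcases Nat.lt_or_ge i 33300 with h8 | h8
                · skip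
                  exact allRangeF_sound _ _ (checkPointF_eq cert) 33200 100 chkP_33200 i (by omega) (by omega)
                · skip
                  exact allRangeF_sound _ _ (checkPointF_eq cert) 33300 100 chkP_33300 i (by omega) (by omega)

end Cfsg.Agent.Lib.Helper28.He2Data
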