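import Cfsg.Agent.Lib.Helper28.He2Data
import Cfsg.Agent.Lib.Helper28.TCFast

set_option autoImplicit false
set_option maxRecDepth 1000000
set_option linter.all false
set_option Elab.async false

namespace Cfsg.Agent.Lib.Helper28.He2Data

open Cfsg.Agent.Lib.Helper28

theorem chkP_167000 : allRangeF (checkPointF cert) (nat_lit 167000) (nat_lit 100) = true := by decide +kernel
theorem chkP_167100 : allRangeF (checkPointF cert) (nat_lit 167100) (nat_lit 100) = true := by decide +kernel
theorem chkP_167200 : allRangeF (checkPointF cert) (nat_lit 167200) (nat_lit 100) = true := by decide +kernel
theorem chkP_167300 : allRangeF (checkPointF cert) (nat_lit 167300) (nat_lit 100) = true := by decide +kernel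
theorem chkP_167400 : allRangeF (checkPointF cert) (nat_lit 167400) (nat_lit 100) = true := by decide +kernel
theorem chkP_167500 : allRangeF (checkPointF cert) (nat_lit 167500) (nat_lit 100) = true := by decide +kernel
theorem chkP_167600 : allRangeF (checkPointF cert) (nat_lit 167600) (nat_lit 100) = true := by decide +kernel
theorem chkP_167700 : allRangeF (checkPointF cert) (nat_lit 167700) (nat_lit 100) = true := by decide +kernel
theorem chkP_167800 : allRangeF (checkPointF cert) (nat_lit 167800) (nat_lit 100) = true := by decide +kernel
theorem chkP_167900 : allRangeF (checkPointF cert) (nat_lit 167900) (nat_lit 100) = true := by decide +kernel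
theorem chkP_168000 : allRangeF (checkPointF cert) (nat_lit 168000) (nat_lit 100) = true := by decide +kernel
theorem chkP_168100 : allRangeF (checkPointF cert) (nat_lit 168100) (nat_lit 100) = true := by decide +kernel
theorem chkP_168200 : allRangeF (checkPointF cert) (nat_lit 168200) (nat_lit 100) = true := by decide +kernel
theorem chkP_168300 : allRangeF (checkPointF cert) (nat_lit 168300) (nat_lit 100) = true := by decide +kernel
theorem chkP_168400 : allRangeF (checkPointF cert) (nat_lit 168400) (nat_lit 100) = true := by decide +kernel
theorem chkP_168500 : allRangeF (checkPointF cert) (nat_lit 168500) (nat_lit 100) = true := by decide +kernel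
theorem chkP_168600 : allRangeF (checkPointF cert) (nat_lit 168600) (nat_lit 100) = true := by decide +kernel
theorem chkP_168700 : allRangeF (checkPointF cert) (nat_lit 168700) (nat_lit 100) = true := by decide +kernel
theorem chkP_168800 : allRangeF (checkPointF cert) (nat_lit 168800) (nat_lit 100) = true := by decide +kernel
theorem chkP_168900 : allRangeF (checkPointF cert) (nat_lit 168900) (nat_lit 100) = true := by decide +kernel
theorem chkP_169000 : allRangeF (checkPointF cert) (nat_lit 169000) (nat_lit 100) = true := by decide +kernel
theorem chkP_169100 : allRangeF (checkPointF cert) (nat_lit 169100) (nat_lit 100) = true := by decide +kernel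
theorem chkP_169200 : allRangeF (checkPointF cert) (nat_lit 169200) (nat_lit 100) = true := by decide +kernel
theorem chkP_169300 : allRangeF (checkPointF cert) (nat_lit 169300) (nat_lit 100) = true := by decide +kernel
theorem chkP_169400 : allRangeF (checkPointF cert) (nat_lit 169400) (nat_lit 100) = true := by decide +kernel
theorem chkP_169500 : allRangeF (checkPointF cert) (nat_lit 169500) (nat_lit 100) = true := by decide +kernel
theorem chkP_169600 : allRangeF (checkPointF cert) (nat_lit 169600) (nat_lit 100) = true := by decide +kernel
theorem chkP_169700 : allRangeF (checkPointF cert) (nat_lit 169700) (nat_lit 100) = true := by decide +kernel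
theorem chkP_169800 : allRangeF (checkPointF cert) (nat_lit 169800) (nat_lit 100) = true := by decide +kernel
theorem chkP_169900 : allRangeF (checkPointF cert) (nat_lit 169900) (nat_lit 100) = true := by decide +kernel
theorem chkP_170000 : allRangeF (checkPointF cert) (nat_lit 170000) (nat_lit 100) = true := by decide +kernel
theorem chkP_170100 : allRangeF (checkPointF cert) (nat_lit 170100) (nat_lit 100) = true := by decide +kernel
theorem chkP_170200 : allRangeF (checkPointF cert) (nat_lit 170200) (nat_lit 100) = true := by decide +kernel
theorem chkP_170300 : allRangeF (checkPointF cert) (nat_lit 170300) (nat_lit 100) = true := by decide +kernel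
theorem chkP_170400 : allRangeF (checkPointF cert) (nat_lit 170400) (nat_lit 100) = true := by decide +kernel
theorem chkP_170500 : allRangeF (checkPointF cert) (nat_lit 170500) (nat_lit 100) = true := by decide +kernel
theorem chkP_170600 : allRangeF (checkPointF cert) (nat_lit 170600) (nat_lit 100) = true := by decide +kernel
theorem chkP_170700 : allRangeF (checkPointF cert) (nat_lit 170700) (nat_lit 100) = true := by decide +kernel
theorem chkP_170800 : allRangeF (checkPointF cert) (nat_lit 170800) (nat_lit 100) = true := by decide +kernel
theorem chkP_170900 : allRangeF (checkPointF cert) (nat_lit 170900) (nat_lit 100) = true := by decide +kernel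
theorem chkP_171000 : allRangeF (checkPointF cert) (nat_lit 171000) (nat_lit 100) = true := by decide +kernel
theorem chkP_171100 : allRangeF (checkPointF cert) (nat_lit 171100) (nat_lit 100) = true := by decide +kernel
theorem chkP_171200 : allRangeF (checkPointF cert) (nat_lit 171200) (nat_lit 100) = true := by decide +kernel
theorem chkP_171300 : allRangeF (checkPointF cert) (nat_lit 171300) (nat_lit 100) = true := by decide +kernel
theorem chkP_171400 : allRangeF (checkPointF cert) (nat_lit 171400) (nat_lit 100) = true := by decide +kernel
theorem chkP_171500 : allRangeF (checkPointF cert) (nat_lit 171500) (nat_lit 100) = true := by decide +kernel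
theorem chkP_171600 : allRangeF (checkPointF cert) (nat_lit 171600) (nat_lit 100) = true := by decide +kernel
theorem chkP_171700 : allRangeF (checkPointF cert) (nat_lit 171700) (nat_lit 100) = true := by decide +kernel
theorem chkP_171800 : allRangeF (checkPointF cert) (nat_lit 171800) (nat_lit 100) = true := by decide +kernel
theorem chkP_171900 : allRangeF (checkPointF cert) (nat_lit 171900) (nat_lit 100) = true := by decide +kernel
theorem chkP_172000 : allRangeF (checkPointF cert) (nat_lit 172000) (nat_lit 100) = true := by decide +kernel
theorem chkP_172100 : allRangeF (checkPointF cert) (nat_lit 172100) (nat_lit 100) = true := by decide +kernel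
theorem chkP_172200 : allRangeF (checkPointF cert) (nat_lit 172200) (nat_lit 100) = true := by decide +kernel
theorem chkP_172300 : allRangeF (checkPointF cert) (nat_lit 172300) (nat_lit 100) = true := by decide +kernel
theorem chkP_172400 : allRangeF (checkPointF cert) (nat_lit 172400) (nat_lit 100) = true := by decide +kernel
theorem chkP_172500 : allRangeF (checkPointF cert) (nat_lit 172500) (nat_lit 100) = true := by decide +kernel
theorem chkP_172600 : allRangeF (checkPointF cert) (nat_lit 172600) (nat_lit 100) = true := by decide +kernel
theorem chkP_172700 : allRangeF (checkPointF cert) (nat_lit 172700) (nat_lit 100) = true := by decide +kernel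
theorem chkP_172800 : allRangeF (checkPointF cert) (nat_lit 172800) (nat_lit 100) = true := by decide +kernel
theorem chkP_172900 : allRangeF (checkPointF cert) (nat_lit 172900) (nat_lit 100) = true := by decide +kernel
theorem chkP_173000 : allRangeF (checkPointF cert) (nat_lit 173000) (nat_lit 100) = true := by decide +kernel
theorem chkP_173100 : allRangeF (checkPointF cert) (nat_lit 173100) (nat_lit 100) = true := by decide +kernel
theorem chkP_173200 : allRangeF (checkPointF cert) (nat_lit 173200) (nat_lit 100) = true := by decide +kernel
theorem chkP_173300 : allRangeF (checkPointF cert) (nat_lit 173300) (nat_lit 100) = true := by decide +kernel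
theorem chkP_173400 : allRangeF (checkPointF cert) (nat_lit 173400) (nat_lit 100) = true := by decide +kernel
theorem chkP_173500 : allRangeF (checkPointF cert) (nat_lit 173500) (nat_lit 100) = true := by decide +kernel
theorem chkP_173600 : allRangeF (checkPointF cert) (nat_lit 173600) (nat_lit 100) = true := by decide +kernel
theorem chkP_173700 : allRangeF (checkPointF cert) (nat_lit 173700) (nat_lit 100) = true := by decide +kernel
theorem chkP_173800 : allRangeF (checkPointF cert) (nat_lit 173800) (nat_lit 100) = true := by decide +kernel
theorem chkP_173900 : allRangeF (checkPointF cert) (nat_lit 173900) (nat_lit 100) = true := by decide +kernel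
theorem chkP_174000 : allRangeF (checkPointF cert) (nat_lit 174000) (nat_lit 100) = true := by decide +kernel
theorem chkP_174100 : allRangeF (checkPointF cert) (nat_lit 174100) (nat_lit 100) = true := by decide +kernel
theorem chkP_174200 : allRangeF (checkPointF cert) (nat_lit 174200) (nat_lit 100) = true := by decide +kernel
theorem chkP_174300 : allRangeF (checkPointF cert) (nat_lit 174300) (nat_lit 100) = true := by decide +kernel
theorem chkP_174400 : allRangeF (checkPointF cert) (nat_lit 174400) (nat_lit 100) = true := by decide +kernel
theorem chkP_174500 : allRangeF (checkPointF cert) (nat_lit 174500) (nat_lit 100) = true := by decide +kernel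
theorem chkP_174600 : allRangeF (checkPointF cert) (nat_lit 174600) (nat_lit 100) = true := by decide +kernel
theorem chkP_174700 : allRangeF (checkPointF cert) (nat_lit 174700) (nat_lit 100) = true := by decide +kernel
theorem chkP_174800 : allRangeF (checkPointF cert) (nat_lit 174800) (nat_lit 100) = true := by decide +kernel
theorem chkP_174900 : allRangeF (checkPointF cert) (nat_lit 174900) (nat_lit 100) = true := by decide +kernel
theorem chkP_175000 : allRangeF (checkPointF cert) (nat_lit 175000) (nat_lit 100) = true := by decide +kernel
theorem chkP_175100 : allRangeF (checkPointF cert) (nat_lit 175100) (nat_lit 100) = true := by decide +kernel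
theorem chkP_175200 : allRangeF (checkPointF cert) (nat_lit 175200) (nat_lit 100) = true := by decide +kernel
theorem chkP_175300 : allRangeF (checkPointF cert) (nat_lit 175300) (nat_lit 100) = true := by decide +kernel
theorem chkP_175400 : allRangeF (checkPointF cert) (nat_lit 175400) (nat_lit 100) = true := by decide +kernel
theorem chkP_175500 : allRangeF (checkPointF cert) (nat_lit 175500) (nat_lit 100) = true := by decide +kernel
theorem chkP_175600 : allRangeF (checkPointF cert) (nat_lit 175600) (nat_lit 100) = true := by decide +kernel
theorem chkP_175700 : allRangeF (checkPointF cert) (nat_lit 175700) (nat_lit 100) = true := by decide +kernel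
theorem chkP_175800 : allRangeF (checkPointF cert) (nat_lit 175800) (nat_lit 100) = true := by decide +kernel
theorem chkP_175900 : allRangeF (checkPointF cert) (nat_lit 175900) (nat_lit 100) = true := by decide +kernel
theorem chkP_176000 : allRangeF (checkPointF cert) (nat_lit 176000) (nat_lit 100) = true := by decide +kernel
theorem chkP_176100 : allRangeF (checkPointF cert) (nat_lit 176100) (nat_lit 100) = true := by decide +kernel
theorem chkP_176200 : allRangeF (checkPointF cert) (nat_lit 176200) (nat_lit 100) = true := by decide +kernel
theorem chkP_176300 : allRangeF (checkPointF cert) (nat_lit 176300) (nat_lit 100) = true := by decide +kernel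
theorem chkP_176400 : allRangeF (checkPointF cert) (nat_lit 176400) (nat_lit 100) = true := by decide +kernel
theorem chkP_176500 : allRangeF (checkPointF cert) (nat_lit 176500) (nat_lit 100) = true := by decide +kernel
theorem chkP_176600 : allRangeF (checkPointF cert) (nat_lit 176600) (nat_lit 100) = true := by decide +kernel
theorem chkP_176700 : allRangeF (checkPointF cert) (nat_lit 176700) (nat_lit 100) = true := by decide +kernel
theorem chkP_176800 : allRangeF (checkPointF cert) (nat_lit 176800) (nat_lit 100) = true := by decide +kernel
theorem chkP_176900 : allRangeF (checkPointF cert) (nat_lit 176900) (nat_lit 100) = true := by decide +kernel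
theorem chkP_177000 : allRangeF (checkPointF cert) (nat_lit 177000) (nat_lit 100) = true := by decide +kernel
theorem chkP_177100 : allRangeF (checkPointF cert) (nat_lit 177100) (nat_lit 100) = true := by decide +kernel
theorem chkP_177200 : allRangeF (checkPointF cert) (nat_lit 177200) (nat_lit 100) = true := by decide +kernel
theorem chkP_177300 : allRangeF (checkPointF cert) (nat_lit 177300) (nat_lit 100) = true := by decide +kernel
theorem chkP_177400 : allRangeF (checkPointF cert) (nat_lit 177400) (nat_lit 100) = true := by decide +kernel
theorem chkP_177500 : allRangeF (checkPointF cert) (nat_lit 177500) (nat_lit 100) = true := by decide +kernel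
theorem chkP_177600 : allRangeF (checkPointF cert) (nat_lit 177600) (nat_lit 100) = true := by decide +kernel
theorem chkP_177700 : allRangeF (checkPointF cert) (nat_lit 177700) (nat_lit 100) = true := by decide +kernel
theorem chkP_177800 : allRangeF (checkPointF cert) (nat_lit 177800) (nat_lit 100) = true := by decide +kernel
theorem chkP_177900 : allRangeF (checkPointF cert) (nat_lit 177900) (nat_lit 100) = true := by decide +kernel
theorem chkP_178000 : allRangeF (checkPointF cert) (nat_lit 178000) (nat_lit 100) = true := by decide +kernel
theorem chkP_178100 : allRangeF (checkPointF cert) (nat_lit 178100) (nat_lit 100) = true := by decide +kernel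
theorem chkP_178200 : allRangeF (checkPointF cert) (nat_lit 178200) (nat_lit 100) = true := by decide +kernel
theorem chkP_178300 : allRangeF (checkPointF cert) (nat_lit 178300) (nat_lit 100) = true := by decide +kernel
theorem chkP_178400 : allRangeF (checkPointF cert) (nat_lit 178400) (nat_lit 100) = true := by decide +kernel
theorem chkP_178500 : allRangeF (checkPointF cert) (nat_lit 178500) (nat_lit 100) = true := by decide +kernel
theorem chkP_178600 : allRangeF (checkPointF cert) (nat_lit 178600) (nat_lit 100) = true := by decide +kernel
theorem chkP_178700 : allRangeF (checkPointF cert) (nat_lit 178700) (nat_lit 100) = true := by decide +kernel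
theorem chkP_178800 : allRangeF (checkPointF cert) (nat_lit 178800) (nat_lit 100) = true := by decide +kernel
theorem chkP_178900 : allRangeF (checkPointF cert) (nat_lit 178900) (nat_lit 100) = true := by decide +kernel
theorem chkP_179000 : allRangeF (checkPointF cert) (nat_lit 179000) (nat_lit 100) = true := by decide +kernel
theorem chkP_179100 : allRangeF (checkPointF cert) (nat_lit 179100) (nat_lit 100) = true := by decide +kernel
theorem chkP_179200 : allRangeF (checkPointF cert) (nat_lit 179200) (nat_lit 100) = true := by decide +kernel
theorem chkP_179300 : allRangeF (checkPointF cert) (nat_lit 179300) (nat_lit 100) = true := by decide +kernel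
theorem chkP_179400 : allRangeF (checkPointF cert) (nat_lit 179400) (nat_lit 100) = true := by decide +kernel
theorem chkP_179500 : allRangeF (checkPointF cert) (nat_lit 179500) (nat_lit 100) = true := by decide +kernel
theorem chkP_179600 : allRangeF (checkPointF cert) (nat_lit 179600) (nat_lit 100) = true := by decide +kernel
theorem chkP_179700 : allRangeF (checkPointF cert) (nat_lit 179700) (nat_lit 100) = true := by decide +kernel
theorem chkP_179800 : allRangeF (checkPointF cert) (nat_lit 179800) (nat_lit 100) = true := by decide +kernel
theorem chkP_179900 : allRangeF (checkPointF cert) (nat_lit 179900) (nat_lit 100) = true := by decide +kernel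
theorem chkP_180000 : allRangeF (checkPointF cert) (nat_lit 180000) (nat_lit 100) = true := by decide +kernel
theorem chkP_180100 : allRangeF (checkPointF cert) (nat_lit 180100) (nat_lit 100) = true := by decide +kernel
theorem chkP_180200 : allRangeF (checkPointF cert) (nat_lit 180200) (nat_lit 100) = true := by decide +kernel
theorem chkP_180300 : allRangeF (checkPointF cert) (nat_lit 180300) (nat_lit 100) = true := by decide +kernel
theorem chkP_180400 : allRangeF (checkPointF cert) (nat_lit 180400) (nat_lit 100) = true := by decide +kernel
theorem chkP_180500 : allRangeF (checkPointF cert) (nat_lit 180500) (nat_lit 100) = true := by decide +kernel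
theorem chkP_180600 : allRangeF (checkPointF cert) (nat_lit 180600) (nat_lit 100) = true := by decide +kernel
theorem chkP_180700 : allRangeF (checkPointF cert) (nat_lit 180700) (nat_lit 100) = true := by decide +kernel
theorem chkP_180800 : allRangeF (checkPointF cert) (nat_lit 180800) (nat_lit 100) = true := by decide +kernel
theorem chkP_180900 : allRangeF (checkPointF cert) (nat_lit 180900) (nat_lit 100) = true := by decide +kernel
theorem chkP_181000 : allRangeF (checkPointF cert) (nat_lit 181000) (nat_lit 100) = true := by decide +kernel
theorem chkP_181100 : allRangeF (checkPointF cert) (nat_lit 181100) (nat_lit 100) = true := by decide +kernel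
theorem chkP_181200 : allRangeF (checkPointF cert) (nat_lit 181200) (nat_lit 100) = true := by decide +kernel
theorem chkP_181300 : allRangeF (checkPointF cert) (nat_lit 181300) (nat_lit 100) = true := by decide +kernel
theorem chkP_181400 : allRangeF (checkPointF cert) (nat_lit 181400) (nat_lit 100) = true := by decide +kernel
theorem chkP_181500 : allRangeF (checkPointF cert) (nat_lit 181500) (nat_lit 100) = true := by decide +kernel
theorem chkP_181600 : allRangeF (checkPointF cert) (nat_lit 181600) (nat_lit 100) = true := by decide +kernel
theorem chkP_181700 : allRangeF (checkPointF cert) (nat_lit 181700) (nat_lit 100) = true := by decide +kernel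
theorem chkP_181800 : allRangeF (checkPointF cert) (nat_lit 181800) (nat_lit 100) = true := by decide +kernel
theorem chkP_181900 : allRangeF (checkPointF cert) (nat_lit 181900) (nat_lit 100) = true := by decide +kernel
theorem chkP_182000 : allRangeF (checkPointF cert) (nat_lit 182000) (nat_lit 100) = true := by decide +kernel
theorem chkP_182100 : allRangeF (checkPointF cert) (nat_lit 182100) (nat_lit 100) = true := by decide +kernel
theorem chkP_182200 : allRangeF (checkPointF cert) (nat_lit 182200) (nat_lit 100) = true := by decide +kernel
theorem chkP_182300 : allRangeF (checkPointF cert) (nat_lit 182300) (nat_lit 100) = true := by decide +kernel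
theorem chkP_182400 : allRangeF (checkPointF cert) (nat_lit 182400) (nat_lit 100) = true := by decide +kernel
theorem chkP_182500 : allRangeF (checkPointF cert) (nat_lit 182500) (nat_lit 100) = true := by decide +kernel
theorem chkP_182600 : allRangeF (checkPointF cert) (nat_lit 182600) (nat_lit 100) = true := by decide +kernel
theorem chkP_182700 : allRangeF (checkPointF cert) (nat_lit 182700) (nat_lit 100) = true := by decide +kernel
theorem chkP_182800 : allRangeF (checkPointF cert) (nat_lit 182800) (nat_lit 100) = true := by decide +kernel
theorem chkP_182900 : allRangeF (checkPointF cert) (nat_lit 182900) (nat_lit 100) = true := by decide +kernel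
theorem chkP_183000 : allRangeF (checkPointF cert) (nat_lit 183000) (nat_lit 100) = true := by decide +kernel
theorem chkP_183100 : allRangeF (checkPointF cert) (nat_lit 183100) (nat_lit 100) = true := by decide +kernel
theorem chkP_183200 : allRangeF (checkPointF cert) (nat_lit 183200) (nat_lit 100) = true := by decide +kernel
theorem chkP_183300 : allRangeF (checkPointF cert) (nat_lit 183300) (nat_lit 100) = true := by decide +kernel
theorem chkP_183400 : allRangeF (checkPointF cert) (nat_lit 183400) (nat_lit 100) = true := by decide +kernel
theorem chkP_183500 : allRangeF (checkPointF cert) (nat_lit 183500) (nat_lit 100) = true := by decide +kernel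
theorem chkP_183600 : allRangeF (checkPointF cert) (nat_lit 183600) (nat_lit 100) = true := by decide +kernel

theorem ptsRange_10 : ∀ i, 167000 ≤ i → i < 183700 → checkPoint cert i = true := by
  intro i hlo hhi
  rcases Nat.lt_or_ge i 175300 with h1 | h1
  · skip
    rcases Nat.lt_or_ge i 171100 with h2 | h2
    · skip
      rcases Nat.lt_or_ge i 169000 with h3 | h3
      · skip
        rcases Nat.lt_or_ge i 168000 with h4 | h4
        · skip
          rcases Nat.lt_or_ge i 167500 with h5 | h5
          · skip
            rcases Nat.lt_or_ge i 167200 with h6 | h6
            · skip
              rcases Nat.lt_or_ge i 167100 with h7 | h7
              · skip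
                exact allRangeF_sound _ _ (checkPointF_eq cert) 167000 100 chkP_167000 i (by omega) (by omega)
              · skip
                exact allRangeF_sound _ _ (checkPointF_eq cert) 167100 100 chkP_167100 i (by omega) (by omega)
            · skip
              rcases Nat.lt_or_ge i 167300 with h7 | h7
              · skip
                exact allRangeF_sound _ _ (checkPointF_eq cert) 167200 100 chkP_167200 i (by omega) (by omega)
              · skip
                rcases Nat.lt_or_ge i 167400 with h8 | h8
                · skip
                  exact allRangeF_sound _ _ (checkPointF_eq cert) 167300 100 chkP_167300 i (by omega) (by omega)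
                · skip
                  exact allRangeF_sound _ _ (checkPointF_eq cert) 167400 100 chkP_167400 i (by omega) (by omega)
          · skip
            rcases Nat.lt_or_ge i 167700 with h6 | h6
            · skip
              rcases Nat.lt_or_ge i 167600 with h7 | h7
              · skip
                exact allRangeF_sound _ _ (checkPointF_eq cert) 167500 100 chkP_167500 i (by omega) (by omega)
              · skip
                exact allRangeF_sound _ _ (checkPointF_eq cert) 167600 100 chkP_167600 i (by omega) (by omega)
            · skip
              rcases Nat.lt_or_ge i 167800 with h7 | h7
              · skip
                exact allRangeF_sound _ _ (checkPointF_eq cert) 167700 100 chkP_167700 i (by omega) (by omega)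
              · skip
                rcases Nat.lt_or_ge i 167900 with h8 | h8
                · skip
                  exact allRangeF_sound _ _ (checkPointF_eq cert) 167800 100 chkP_167800 i (by omega) (by omega)
                · skip
                  exact allRangeF_sound _ _ (checkPointF_eq cert) 167900 100 chkP_167900 i (by omega) (by omega)
        · skip
          rcases Nat.lt_or_ge i 168500 with h5 | h5
          · skip
            rcases Nat.lt_or_ge i 168200 with h6 | h6
            · skip
              rcases Nat.lt_or_ge i 168100 with h7 | h7
              · skip
                exact allRangeF_sound _ _ (checkPointF_eq cert) 168000 100 chkP_168000 i (by omega) (by omega)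
              · skip
                exact allRangeF_sound _ _ (checkPointF_eq cert) 168100 100 chkP_168100 i (by omega) (by omega)
            · skip
              rcases Nat.lt_or_ge i 168300 with h7 | h7
              · skip
                exact allRangeF_sound _ _ (checkPointF_eq cert) 168200 100 chkP_168200 i (by omega) (by omega)
              · skip
                rcases Nat.lt_or_ge i 168400 with h8 | h8
                · skip
                  exact allRangeF_sound _ _ (checkPointF_eq cert) 168300 100 chkP_168300 i (by omega) (by omega)
                · skip
                  exact allRangeF_sound _ _ (checkPointF_eq cert) 168400 100 chkP_168400 i (by omega) (by omega)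
          · skip
            rcases Nat.lt_or_ge i 168700 with h6 | h6
            · skip
              rcases Nat.lt_or_ge i 168600 with h7 | h7
              · skip
                exact allRangeF_sound _ _ (checkPointF_eq cert) 168500 100 chkP_168500 i (by omega) (by omega)
              · skip
                exact allRangeF_sound _ _ (checkPointF_eq cert) 168600 100 chkP_168600 i (by omega) (by omega)
            · skip
              rcases Nat.lt_or_ge i 168800 with h7 | h7
              · skip
                exact allRangeF_sound _ _ (checkPointF_eq cert) 168700 100 chkP_168700 i (by omega) (by omega)
              · skip
                rcases Nat.lt_or_ge i 168900 with h8 | h8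
                · skip
                  exact allRangeF_sound _ _ (checkPointF_eq cert) 168800 100 chkP_168800 i (by omega) (by omega)
                · skip
                  exact allRangeF_sound _ _ (checkPointF_eq cert) 168900 100 chkP_168900 i (by omega) (by omega)
      · skip
        rcases Nat.lt_or_ge i 170000 with h4 | h4
        · skip
          rcases Nat.lt_or_ge i 169500 with h5 | h5
          · skip
            rcases Nat.lt_or_ge i 169200 with h6 | h6
            · skip
              rcases Nat.lt_or_ge i 169100 with h7 | h7
              · skip
                exact allRangeF_sound _ _ (checkPointF_eq cert) 169000 100 chkP_169000 i (by omega) (by omega)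
              · skip
                exact allRangeF_sound _ _ (checkPointF_eq cert) 169100 100 chkP_169100 i (by omega) (by omega)
            · skip
              rcases Nat.lt_or_ge i 169300 with h7 | h7
              · skip
                exact allRangeF_sound _ _ (checkPointF_eq cert) 169200 100 chkP_169200 i (by omega) (by omega)
              · skip
                rcases Nat.lt_or_ge i 169400 with h8 | h8
                · skip
                  exact allRangeF_sound _ _ (checkPointF_eq cert) 169300 100 chkP_169300 i (by omega) (by omega)
                · skip
                  exact allRangeF_sound _ _ (checkPointF_eq cert) 169400 100 chkP_169400 i (by omega) (by omega)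
          · skip
            rcases Nat.lt_or_ge i 169700 with h6 | h6
            · skip
              rcases Nat.lt_or_ge i 169600 with h7 | h7
              · skip
                exact allRangeF_sound _ _ (checkPointF_eq cert) 169500 100 chkP_169500 i (by omega) (by omega)
              · skip
                exact allRangeF_sound _ _ (checkPointF_eq cert) 169600 100 chkP_169600 i (by omega) (by omega)
            · skip
              rcases Nat.lt_or_ge i 169800 with h7 | h7
              · skip
                exact allRangeF_sound _ _ (checkPointF_eq cert) 169700 100 chkP_169700 i (by omega) (by omega)
              · skip
                rcases Nat.lt_or_ge i 169900 with h8 | h8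
                · skip
                  exact allRangeF_sound _ _ (checkPointF_eq cert) 169800 100 chkP_169800 i (by omega) (by omega)
                · skip
                  exact allRangeF_sound _ _ (checkPointF_eq cert) 169900 100 chkP_169900 i (by omega) (by omega)
        · skip
          rcases Nat.lt_or_ge i 170500 with h5 | h5
          · skip
            rcases Nat.lt_or_ge i 170200 with h6 | h6
            · skip
              rcases Nat.lt_or_ge i 170100 with h7 | h7
              · skip
                exact allRangeF_sound _ _ (checkPointF_eq cert) 170000 100 chkP_170000 i (by omega) (by omega)
              · skip
                exact allRangeF_sound _ _ (checkPointF_eq cert) 170100 100 chkP_170100 i (by omega) (by omega)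
            · skip
              rcases Nat.lt_or_ge i 170300 with h7 | h7
              · skip
                exact allRangeF_sound _ _ (checkPointF_eq cert) 170200 100 chkP_170200 i (by omega) (by omega)
              · skip
                rcases Nat.lt_or_ge i 170400 with h8 | h8
                · skip
                  exact allRangeF_sound _ _ (checkPointF_eq cert) 170300 100 chkP_170300 i (by omega) (by omega)
                · skip
                  exact allRangeF_sound _ _ (checkPointF_eq cert) 170400 100 chkP_170400 i (by omega) (by omega)
          · skip
            rcases Nat.lt_or_ge i 170800 with h6 | h6
            · skip
              rcases Nat.lt_or_ge i 170600 with h7 | h7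
              · skip
                exact allRangeF_sound _ _ (checkPointF_eq cert) 170500 100 chkP_170500 i (by omega) (by omega)
              · skip
                rcases Nat.lt_or_ge i 170700 with h8 | h8
                · skip
                  exact allRangeF_sound _ _ (checkPointF_eq cert) 170600 100 chkP_170600 i (by omega) (by omega)
                · skip
                  exact allRangeF_sound _ _ (checkPointF_eq cert) 170700 100 chkP_170700 i (by omega) (by omega)
            · skip
              rcases Nat.lt_or_ge i 170900 with h7 | h7
              · skip
                exact allRangeF_sound _ _ (checkPointF_eq cert) 170800 100 chkP_170800 i (by omega) (by omega)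
              · skip
                rcases Nat.lt_or_ge i 171000 with h8 | h8
                · skip
                  exact allRangeF_sound _ _ (checkPointF_eq cert) 170900 100 chkP_170900 i (by omega) (by omega)
                · skip
                  exact allRangeF_sound _ _ (checkPointF_eq cert) 171000 100 chkP_171000 i (by omega) (by omega)
    · skip
      rcases Nat.lt_or_ge i 173200 with h3 | h3
      · skip
        rcases Nat.lt_or_ge i 172100 with h4 | h4
        · skip
          rcases Nat.lt_or_ge i 171600 with h5 | h5
          · skip
            rcases Nat.lt_or_ge i 171300 with h6 | h6
            · skip
              rcases Nat.lt_or_ge i 171200 with h7 | h7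
              · skip
                exact allRangeF_sound _ _ (checkPointF_eq cert) 171100 100 chkP_171100 i (by omega) (by omega)
              · skip
                exact allRangeF_sound _ _ (checkPointF_eq cert) 171200 100 chkP_171200 i (by omega) (by omega)
            · skip
              rcases Nat.lt_or_ge i 171400 with h7 | h7
              · skip
                exact allRangeF_sound _ _ (checkPointF_eq cert) 171300 100 chkP_171300 i (by omega) (by omega)
              · skip
                rcases Nat.lt_or_ge i 171500 with h8 | h8
                · skip
                  exact allRangeF_sound _ _ (checkPointF_eq cert) 171400 100 chkP_171400 i (by omega) (by omega)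
                · skip
                  exact allRangeF_sound _ _ (checkPointF_eq cert) 171500 100 chkP_171500 i (by omega) (by omega)
          · skip
            rcases Nat.lt_or_ge i 171800 with h6 | h6
            · skip
              rcases Nat.lt_or_ge i 171700 with h7 | h7
              · skip
                exact allRangeF_sound _ _ (checkPointF_eq cert) 171600 100 chkP_171600 i (by omega) (by omega)
              · skip
                exact allRangeF_sound _ _ (checkPointF_eq cert) 171700 100 chkP_171700 i (by omega) (by omega)
            · skip
              rcases Nat.lt_or_ge i 171900 with h7 | h7
              · skip
                exact allRangeF_sound _ _ (checkPointF_eq cert) 171800 100 chkP_171800 i (by omega) (by omega)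
              · skip
                rcases Nat.lt_or_ge i 172000 with h8 | h8
                · skip
                  exact allRangeF_sound _ _ (checkPointF_eq cert) 171900 100 chkP_171900 i (by omega) (by omega)
                · skip
                  exact allRangeF_sound _ _ (checkPointF_eq cert) 172000 100 chkP_172000 i (by omega) (by omega)
        · skip
          rcases Nat.lt_or_ge i 172600 with h5 | h5
          · skip
            rcases Nat.lt_or_ge i 172300 with h6 | h6
            · skip
              rcases Nat.lt_or_ge i 172200 with h7 | h7
              · skip
                exact allRangeF_sound _ _ (checkPointF_eq cert) 172100 100 chkP_172100 i (by omega) (by omega)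
              · skip
                exact allRangeF_sound _ _ (checkPointF_eq cert) 172200 100 chkP_172200 i (by omega) (by omega)
            · skip
              rcases Nat.lt_or_ge i 172400 with h7 | h7
              · skip
                exact allRangeF_sound _ _ (checkPointF_eq cert) 172300 100 chkP_172300 i (by omega) (by omega)
              · skip
                rcases Nat.lt_or_ge i 172500 with h8 | h8
                · skip
                  exact allRangeF_sound _ _ (checkPointF_eq cert) 172400 100 chkP_172400 i (by omega) (by omega)
                · skip
                  exact allRangeF_sound _ _ (checkPointF_eq cert) 172500 100 chkP_172500 i (by omega) (by omega)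
          · skip
            rcases Nat.lt_or_ge i 172900 with h6 | h6
            · skip
              rcases Nat.lt_or_ge i 172700 with h7 | h7
              · skip
                exact allRangeF_sound _ _ (checkPointF_eq cert) 172600 100 chkP_172600 i (by omega) (by omega)
              · skip
                rcases Nat.lt_or_ge i 172800 with h8 | h8
                · skip
                  exact allRangeF_sound _ _ (checkPointF_eq cert) 172700 100 chkP_172700 i (by omega) (by omega)
                · skip
                  exact allRangeF_sound _ _ (checkPointF_eq cert) 172800 100 chkP_172800 i (by omega) (by omega)
            · skip
              rcases Nat.lt_or_ge i 173000 with h7 | h7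
              · skip
                exact allRangeF_sound _ _ (checkPointF_eq cert) 172900 100 chkP_172900 i (by omega) (by omega)
              · skip
                rcases Nat.lt_or_ge i 173100 with h8 | h8
                · skip
                  exact allRangeF_sound _ _ (checkPointF_eq cert) 173000 100 chkP_173000 i (by omega) (by omega)
                · skip
                  exact allRangeF_sound _ _ (checkPointF_eq cert) 173100 100 chkP_173100 i (by omega) (by omega)
      · skip
        rcases Nat.lt_or_ge i 174200 with h4 | h4
        · skip
          rcases Nat.lt_or_ge i 173700 with h5 | h5
          · skip
            rcases Nat.lt_or_ge i 173400 with h6 | h6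
            · skip
              rcases Nat.lt_or_ge i 173300 with h7 | h7
              · skip
                exact allRangeF_sound _ _ (checkPointF_eq cert) 173200 100 chkP_173200 i (by omega) (by omega)
              · skip
                exact allRangeF_sound _ _ (checkPointF_eq cert) 173300 100 chkP_173300 i (by omega) (by omega)
            · skip
              rcases Nat.lt_or_ge i 173500 with h7 | h7
              · skip
                exact allRangeF_sound _ _ (checkPointF_eq cert) 173400 100 chkP_173400 i (by omega) (by omega)
              · skip
                rcases Nat.lt_or_ge i 173600 with h8 | h8
                · skip
                  exact allRangeF_sound _ _ (checkPointF_eq cert) 173500 100 chkP_173500 i (by omega) (by omega)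
                · skip
                  exact allRangeF_sound _ _ (checkPointF_eq cert) 173600 100 chkP_173600 i (by omega) (by omega)
          · skip
            rcases Nat.lt_or_ge i 173900 with h6 | h6
            · skip
              rcases Nat.lt_or_ge i 173800 with h7 | h7
              · skip
                exact allRangeF_sound _ _ (checkPointF_eq cert) 173700 100 chkP_173700 i (by omega) (by omega)
              · skip
                exact allRangeF_sound _ _ (checkPointF_eq cert) 173800 100 chkP_173800 i (by omega) (by omega)
            · skip
              rcases Nat.lt_or_ge i 174000 with h7 | h7
              · skip
                exact allRangeF_sound _ _ (checkPointF_eq cert) 173900 100 chkP_173900 i (by omega) (by omega)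
              · skip
                rcases Nat.lt_or_ge i 174100 with h8 | h8
                · skip
                  exact allRangeF_sound _ _ (checkPointF_eq cert) 174000 100 chkP_174000 i (by omega) (by omega)
                · skip
                  exact allRangeF_sound _ _ (checkPointF_eq cert) 174100 100 chkP_174100 i (by omega) (by omega)
        · skip
          rcases Nat.lt_or_ge i 174700 with h5 | h5
          · skip
            rcases Nat.lt_or_ge i 174400 with h6 | h6
            · skip
              rcases Nat.lt_or_ge i 174300 with h7 | h7
              · skip
                exact allRangeF_sound _ _ (checkPointF_eq cert) 174200 100 chkP_174200 i (by omega) (by omega)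
              · skip
                exact allRangeF_sound _ _ (checkPointF_eq cert) 174300 100 chkP_174300 i (by omega) (by omega)
            · skip
              rcases Nat.lt_or_ge i 174500 with h7 | h7
              · skip
                exact allRangeF_sound _ _ (checkPointF_eq cert) 174400 100 chkP_174400 i (by omega) (by omega)
              · skip
                rcases Nat.lt_or_ge i 174600 with h8 | h8
                · skip
                  exact allRangeF_sound _ _ (checkPointF_eq cert) 174500 100 chkP_174500 i (by omega) (by omega)
                · skip
                  exact allRangeF_sound _ _ (checkPointF_eq cert) 174600 100 chkP_174600 i (by omega) (by omega)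
          · skip
            rcases Nat.lt_or_ge i 175000 with h6 | h6
            · skip
              rcases Nat.lt_or_ge i 174800 with h7 | h7
              · skip
                exact allRangeF_sound _ _ (checkPointF_eq cert) 174700 100 chkP_174700 i (by omega) (by omega)
              · skip
                rcases Nat.lt_or_ge i 174900 with h8 | h8
                · skip
                  exact allRangeF_sound _ _ (checkPointF_eq cert) 174800 100 chkP_174800 i (by omega) (by omega)
                · skip
                  exact allRangeF_sound _ _ (checkPointF_eq cert) 174900 100 chkP_174900 i (by omega) (by omega)
            · skip
              rcases Nat.lt_or_ge i 175100 with h7 | h7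
              · skip
                exact allRangeF_sound _ _ (checkPointF_eq cert) 175000 100 chkP_175000 i (by omega) (by omega)
              · skip
                rcases Nat.lt_or_ge i 175200 with h8 | h8
                · skip
                  exact allRangeF_sound _ _ (checkPointF_eq cert) 175100 100 chkP_175100 i (by omega) (by omega)
                · skip
                  exact allRangeF_sound _ _ (checkPointF_eq cert) 175200 100 chkP_175200 i (by omega) (by omega)
  · skip
    rcases Nat.lt_or_ge i 179500 with h2 | h2
    · skip
      rcases Nat.lt_or_ge i 177400 with h3 | h3
      · skip
        rcases Nat.lt_or_ge i 176300 with h4 | h4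
        · skip
          rcases Nat.lt_or_ge i 175800 with h5 | h5
          · skip
            rcases Nat.lt_or_ge i 175500 with h6 | h6
            · skip
              rcases Nat.lt_or_ge i 175400 with h7 | h7
              · skip
                exact allRangeF_sound _ _ (checkPointF_eq cert) 175300 100 chkP_175300 i (by omega) (by omega)
              · skip
                exact allRangeF_sound _ _ (checkPointF_eq cert) 175400 100 chkP_175400 i (by omega) (by omega)
            · skip
              rcases Nat.lt_or_ge i 175600 with h7 | h7
              · skip
                exact allRangeF_sound _ _ (checkPointF_eq cert) 175500 100 chkP_175500 i (by omega) (by omega)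
              · skip
                rcases Nat.lt_or_ge i 175700 with h8 | h8
                · skip
                  exact allRangeF_sound _ _ (checkPointF_eq cert) 175600 100 chkP_175600 i (by omega) (by omega)
                · skip
                  exact allRangeF_sound _ _ (checkPointF_eq cert) 175700 100 chkP_175700 i (by omega) (by omega)
          · skip
            rcases Nat.lt_or_ge i 176000 with h6 | h6
            · skip
              rcases Nat.lt_or_ge i 175900 with h7 | h7
              · skip
                exact allRangeF_sound _ _ (checkPointF_eq cert) 175800 100 chkP_175800 i (by omega) (by omega)
              · skip
                exact allRangeF_sound _ _ (checkPointF_eq cert) 175900 100 chkP_175900 i (by omega) (by omega)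
            · skip
              rcases Nat.lt_or_ge i 176100 with h7 | h7
              · skip
                exact allRangeF_sound _ _ (checkPointF_eq cert) 176000 100 chkP_176000 i (by omega) (by omega)
              · skip
                rcases Nat.lt_or_ge i 176200 with h8 | h8
                · skip
                  exact allRangeF_sound _ _ (checkPointF_eq cert) 176100 100 chkP_176100 i (by omega) (by omega)
                · skip
                  exact allRangeF_sound _ _ (checkPointF_eq cert) 176200 100 chkP_176200 i (by omega) (by omega)
        · skip
          rcases Nat.lt_or_ge i 176800 with h5 | h5
          · skip
            rcases Nat.lt_or_ge i 176500 with h6 | h6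
            · skip
              rcases Nat.lt_or_ge i 176400 with h7 | h7
              · skip
                exact allRangeF_sound _ _ (checkPointF_eq cert) 176300 100 chkP_176300 i (by omega) (by omega)
              · skip
                exact allRangeF_sound _ _ (checkPointF_eq cert) 176400 100 chkP_176400 i (by omega) (by omega)
            · skip
              rcases Nat.lt_or_ge i 176600 with h7 | h7
              · skip
                exact allRangeF_sound _ _ (checkPointF_eq cert) 176500 100 chkP_176500 i (by omega) (by omega)
              · skip
                rcases Nat.lt_or_ge i 176700 with h8 | h8
                · skip
                  exact allRangeF_sound _ _ (checkPointF_eq cert) 176600 100 chkP_176600 i (by omega) (by omega)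
                · skip
                  exact allRangeF_sound _ _ (checkPointF_eq cert) 176700 100 chkP_176700 i (by omega) (by omega)
          · skip
            rcases Nat.lt_or_ge i 177100 with h6 | h6
            · skip
              rcases Nat.lt_or_ge i 176900 with h7 | h7
              · skip
                exact allRangeF_sound _ _ (checkPointF_eq cert) 176800 100 chkP_176800 i (by omega) (by omega)
              · skip
                rcases Nat.lt_or_ge i 177000 with h8 | h8
                · skip
                  exact allRangeF_sound _ _ (checkPointF_eq cert) 176900 100 chkP_176900 i (by omega) (by omega)
                · skip
                  exact allRangeF_sound _ _ (checkPointF_eq cert) 177000 100 chkP_177000 i (by omega) (by omega)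
            · skip
              rcases Nat.lt_or_ge i 177200 with h7 | h7
              · skip
                exact allRangeF_sound _ _ (checkPointF_eq cert) 177100 100 chkP_177100 i (by omega) (by omega)
              · skip
                rcases Nat.lt_or_ge i 177300 with h8 | h8
                · skip
                  exact allRangeF_sound _ _ (checkPointF_eq cert) 177200 100 chkP_177200 i (by omega) (by omega)
                · skip
                  exact allRangeF_sound _ _ (checkPointF_eq cert) 177300 100 chkP_177300 i (by omega) (by omega)
      · skip
        rcases Nat.lt_or_ge i 178400 with h4 | h4
        · skip
          rcases Nat.lt_or_ge i 177900 with h5 | h5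
          · skip
            rcases Nat.lt_or_ge i 177600 with h6 | h6
            · skip
              rcases Nat.lt_or_ge i 177500 with h7 | h7
              · skip
                exact allRangeF_sound _ _ (checkPointF_eq cert) 177400 100 chkP_177400 i (by omega) (by omega)
              · skip
                exact allRangeF_sound _ _ (checkPointF_eq cert) 177500 100 chkP_177500 i (by omega) (by omega)
            · skip
              rcases Nat.lt_or_ge i 177700 with h7 | h7
              · skip
                exact allRangeF_sound _ _ (checkPointF_eq cert) 177600 100 chkP_177600 i (by omega) (by omega)
              · skip
                rcases Nat.lt_or_ge i 177800 with h8 | h8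
                · skip
                  exact allRangeF_sound _ _ (checkPointF_eq cert) 177700 100 chkP_177700 i (by omega) (by omega)
                · skip
                  exact allRangeF_sound _ _ (checkPointF_eq cert) 177800 100 chkP_177800 i (by omega) (by omega)
          · skip
            rcases Nat.lt_or_ge i 178100 with h6 | h6
            · skip
              rcases Nat.lt_or_ge i 178000 with h7 | h7
              · skip
                exact allRangeF_sound _ _ (checkPointF_eq cert) 177900 100 chkP_177900 i (by omega) (by omega)
              · skip
                exact allRangeF_sound _ _ (checkPointF_eq cert) 178000 100 chkP_178000 i (by omega) (by omega)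
            · skip
              rcases Nat.lt_or_ge i 178200 with h7 | h7
              · skip
                exact allRangeF_sound _ _ (checkPointF_eq cert) 178100 100 chkP_178100 i (by omega) (by omega)
              · skip
                rcases Nat.lt_or_ge i 178300 with h8 | h8
                · skip
                  exact allRangeF_sound _ _ (checkPointF_eq cert) 178200 100 chkP_178200 i (by omega) (by omega)
                · skip
                  exact allRangeF_sound _ _ (checkPointF_eq cert) 178300 100 chkP_178300 i (by omega) (by omega)
        · skip
          rcases Nat.lt_or_ge i 178900 with h5 | h5
          · skip
            rcases Nat.lt_or_ge i 178600 with h6 | h6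
            · skip
              rcases Nat.lt_or_ge i 178500 with h7 | h7
              · skip
                exact allRangeF_sound _ _ (checkPointF_eq cert) 178400 100 chkP_178400 i (by omega) (by omega)
              · skip
                exact allRangeF_sound _ _ (checkPointF_eq cert) 178500 100 chkP_178500 i (by omega) (by omega)
            · skip
              rcases Nat.lt_or_ge i 178700 with h7 | h7
              · skip
                exact allRangeF_sound _ _ (checkPointF_eq cert) 178600 100 chkP_178600 i (by omega) (by omega)
              · skip
                rcases Nat.lt_or_ge i 178800 with h8 | h8
                · skip
                  exact allRangeF_sound _ _ (checkPointF_eq cert) 178700 100 chkP_178700 i (by omega) (by omega)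
                · skip
                  exact allRangeF_sound _ _ (checkPointF_eq cert) 178800 100 chkP_178800 i (by omega) (by omega)
          · skip
            rcases Nat.lt_or_ge i 179200 with h6 | h6
            · skip
              rcases Nat.lt_or_ge i 179000 with h7 | h7
              · skip
                exact allRangeF_sound _ _ (checkPointF_eq cert) 178900 100 chkP_178900 i (by omega) (by omega)
              · skip
                rcases Nat.lt_or_ge i 179100 with h8 | h8
                · skip
                  exact allRangeF_sound _ _ (checkPointF_eq cert) 179000 100 chkP_179000 i (by omega) (by omega)
                · skip
                  exact allRangeF_sound _ _ (checkPointF_eq cert) 179100 100 chkP_179100 i (by omega) (by omega)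
            · skip
              rcases Nat.lt_or_ge i 179300 with h7 | h7
              · skip
                exact allRangeF_sound _ _ (checkPointF_eq cert) 179200 100 chkP_179200 i (by omega) (by omega)
              · skip
                rcases Nat.lt_or_ge i 179400 with h8 | h8
                · skip
                  exact allRangeF_sound _ _ (checkPointF_eq cert) 179300 100 chkP_179300 i (by omega) (by omega)
                · skip
                  exact allRangeF_sound _ _ (checkPointF_eq cert) 179400 100 chkP_179400 i (by omega) (by omega)
    · skip
      rcases Nat.lt_or_ge i 181600 with h3 | h3
      · skip
        rcases Nat.lt_or_ge i 180500 with h4 | h4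
        · skip
          rcases Nat.lt_or_ge i 180000 with h5 | h5
          · skip
            rcases Nat.lt_or_ge i 179700 with h6 | h6
            · skip
              rcases Nat.lt_or_ge i 179600 with h7 | h7
              · skip
                exact allRangeF_sound _ _ (checkPointF_eq cert) 179500 100 chkP_179500 i (by omega) (by omega)
              · skip
                exact allRangeF_sound _ _ (checkPointF_eq cert) 179600 100 chkP_179600 i (by omega) (by omega)
            · skip
              rcases Nat.lt_or_ge i 179800 with h7 | h7
              · skip
                exact allRangeF_sound _ _ (checkPointF_eq cert) 179700 100 chkP_179700 i (by omega) (by omega)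
              · skip
                rcases Nat.lt_or_ge i 179900 with h8 | h8
                · skip
                  exact allRangeF_sound _ _ (checkPointF_eq cert) 179800 100 chkP_179800 i (by omega) (by omega)
                · skip
                  exact allRangeF_sound _ _ (checkPointF_eq cert) 179900 100 chkP_179900 i (by omega) (by omega)
          · skip
            rcases Nat.lt_or_ge i 180200 with h6 | h6
            · skip
              rcases Nat.lt_or_ge i 180100 with h7 | h7
              · skip
                exact allRangeF_sound _ _ (checkPointF_eq cert) 180000 100 chkP_180000 i (by omega) (by omega)
              · skip
                exact allRangeF_sound _ _ (checkPointF_eq cert) 180100 100 chkP_180100 i (by omega) (by omega)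
            · skip
              rcases Nat.lt_or_ge i 180300 with h7 | h7
              · skip
                exact allRangeF_sound _ _ (checkPointF_eq cert) 180200 100 chkP_180200 i (by omega) (by omega)
              · skip
                rcases Nat.lt_or_ge i 180400 with h8 | h8
                · skip
                  exact allRangeF_sound _ _ (checkPointF_eq cert) 180300 100 chkP_180300 i (by omega) (by omega)
                · skip
                  exact allRangeF_sound _ _ (checkPointF_eq cert) 180400 100 chkP_180400 i (by omega) (by omega)
        · skip
          rcases Nat.lt_or_ge i 181000 with h5 | h5
          · skip
            rcases Nat.lt_or_ge i 180700 with h6 | h6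
            · skip
              rcases Nat.lt_or_ge i 180600 with h7 | h7
              · skip
                exact allRangeF_sound _ _ (checkPointF_eq cert) 180500 100 chkP_180500 i (by omega) (by omega)
              · skip
                exact allRangeF_sound _ _ (checkPointF_eq cert) 180600 100 chkP_180600 i (by omega) (by omega)
            · skip
              rcases Nat.lt_or_ge i 180800 with h7 | h7
              · skip
                exact allRangeF_sound _ _ (checkPointF_eq cert) 180700 100 chkP_180700 i (by omega) (by omega)
              · skip
                rcases Nat.lt_or_ge i 180900 with h8 | h8
                · skip
                  exact allRangeF_sound _ _ (checkPointF_eq cert) 180800 100 chkP_180800 i (by omega) (by omega)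
                · skip
                  exact allRangeF_sound _ _ (checkPointF_eq cert) 180900 100 chkP_180900 i (by omega) (by omega)
          · skip
            rcases Nat.lt_or_ge i 181300 with h6 | h6
            · skip
              rcases Nat.lt_or_ge i 181100 with h7 | h7
              · skip
                exact allRangeF_sound _ _ (checkPointF_eq cert) 181000 100 chkP_181000 i (by omega) (by omega)
              · skip
                rcases Nat.lt_or_ge i 181200 with h8 | h8
                · skip
                  exact allRangeF_sound _ _ (checkPointF_eq cert) 181100 100 chkP_181100 i (by omega) (by omega)
                · skip
                  exact allRangeF_sound _ _ (checkPointF_eq cert) 181200 100 chkP_181200 i (by omega) (by omega)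
            · skip
              rcases Nat.lt_or_ge i 181400 with h7 | h7
              · skip
                exact allRangeF_sound _ _ (checkPointF_eq cert) 181300 100 chkP_181300 i (by omega) (by omega)
              · skip
                rcases Nat.lt_or_ge i 181500 with h8 | h8
                · skip
                  exact allRangeF_sound _ _ (checkPointF_eq cert) 181400 100 chkP_181400 i (by omega) (by omega)
                · skip
                  exact allRangeF_sound _ _ (checkPointF_eq cert) 181500 100 chkP_181500 i (by omega) (by omega)
      · skip
        rcases Nat.lt_or_ge i 182600 with h4 | h4
        · skip
          rcases Nat.lt_or_ge i 182100 with h5 | h5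
          · skip
            rcases Nat.lt_or_ge i 181800 with h6 | h6
            · skip
              rcases Nat.lt_or_ge i 181700 with h7 | h7
              · skip
                exact allRangeF_sound _ _ (checkPointF_eq cert) 181600 100 chkP_181600 i (by omega) (by omega)
              · skip
                exact allRangeF_sound _ _ (checkPointF_eq cert) 181700 100 chkP_181700 i (by omega) (by omega)
            · skip
              rcases Nat.lt_or_ge i 181900 with h7 | h7
              · skip
                exact allRangeF_sound _ _ (checkPointF_eq cert) 181800 100 chkP_181800 i (by omega) (by omega)
              · skip
                rcases Nat.lt_or_ge i 182000 with h8 | h8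
                · skip
                  exact allRangeF_sound _ _ (checkPointF_eq cert) 181900 100 chkP_181900 i (by omega) (by omega)
                · skip
                  exact allRangeF_sound _ _ (checkPointF_eq cert) 182000 100 chkP_182000 i (by omega) (by omega)
          · skip
            rcases Nat.lt_or_ge i 182300 with h6 | h6
            · skip
              rcases Nat.lt_or_ge i 182200 with h7 | h7
              · skip
                exact allRangeF_sound _ _ (checkPointF_eq cert) 182100 100 chkP_182100 i (by omega) (by omega)
              · skip
                exact allRangeF_sound _ _ (checkPointF_eq cert) 182200 100 chkP_182200 i (by omega) (by omega)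
            · skip
              rcases Nat.lt_or_ge i 182400 with h7 | h7
              · skip
                exact allRangeF_sound _ _ (checkPointF_eq cert) 182300 100 chkP_182300 i (by omega) (by omega)
              · skip
                rcases Nat.lt_or_ge i 182500 with h8 | h8
                · skip
                  exact allRangeF_sound _ _ (checkPointF_eq cert) 182400 100 chkP_182400 i (by omega) (by omega)
                · skip
                  exact allRangeF_sound _ _ (checkPointF_eq cert) 182500 100 chkP_182500 i (by omega) (by omega)
        · skip
          rcases Nat.lt_or_ge i 183100 with h5 | h5
          · skip
            rcases Nat.lt_or_ge i 182800 with h6 | h6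
            · skip
              rcases Nat.lt_or_ge i 182700 with h7 | h7
              · skip
                exact allRangeF_sound _ _ (checkPointF_eq cert) 182600 100 chkP_182600 i (by omega) (by omega)
              · skip
                exact allRangeF_sound _ _ (checkPointF_eq cert) 182700 100 chkP_182700 i (by omega) (by omega)
            · skip
              rcases Nat.lt_or_ge i 182900 with h7 | h7
              · skip
                exact allRangeF_sound _ _ (checkPointF_eq cert) 182800 100 chkP_182800 i (by omega) (by omega)
              · skip
                rcases Nat.lt_or_ge i 183000 with h8 | h8
                · skip
                  exact allRangeF_sound _ _ (checkPointF_eq cert) 182900 100 chkP_182900 i (by omega) (by omega)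
                · skip
                  exact allRangeF_sound _ _ (checkPointF_eq cert) 183000 100 chkP_183000 i (by omega) (by omega)
          · skip
            rcases Nat.lt_or_ge i 183400 with h6 | h6
            · skip
              rcases Nat.lt_or_ge i 183200 with h7 | h7
              · skip
                exact allRangeF_sound _ _ (checkPointF_eq cert) 183100 100 chkP_183100 i (by omega) (by omega)
              · skip
                rcases Nat.lt_or_ge i 183300 with h8 | h8
                · skip
                  exact allRangeF_sound _ _ (checkPointF_eq cert) 183200 100 chkP_183200 i (by omega) (by omega)
                · skip
                  exact allRangeF_sound _ _ (checkPointF_eq cert) 183300 100 chkP_183300 i (by omega) (by omega)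
            · skip
              rcases Nat.lt_or_ge i 183500 with h7 | h7
              · skip
                exact allRangeF_sound _ _ (checkPointF_eq cert) 183400 100 chkP_183400 i (by omega) (by omega)
              · skip
                rcases Nat.lt_or_ge i 183600 with h8 | h8
                · skip
                  exact allRangeF_sound _ _ (checkPointF_eq cert) 183500 100 chkP_183500 i (by omega) (by omega)
                · skip
                  exact allRangeF_sound _ _ (checkPointF_eq cert) 183600 100 chkP_183600 i (by omega) (by omega)

end Cfsg.Agent.Lib.Helper28.He2Data
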