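import Cfsg.Agent.Lib.Helper28.He2Data
import Cfsg.Agent.Lib.Helper28.TCFast

set_option autoImplicit false
set_option maxRecDepth 1000000
set_option linter.all false
set_option Elab.async false

namespace Cfsg.Agent.Lib.Helper28.He2Data

open Cfsg.Agent.Lib.Helper28

theorem chkP_183700 : allRangeF (checkPointF cert) (nat_lit 183700) (nat_lit 100) = true := by decide +kernel
theorem chkP_183800 : allRangeF (checkPointF cert) (nat_lit 183800) (nat_lit 100) = true := by decide +kernel
theorem chkP_183900 : allRangeF (checkPointF cert) (nat_lit 183900) (nat_lit 100) = true := by decide +kernel
theorem chkP_184000 : allRangeF (checkPointF cert) (nat_lit 184000) (nat_lit 100) = true := by decide +kernel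
theorem chkP_184100 : allRangeF (checkPointF cert) (nat_lit 184100) (nat_lit 100) = true := by decide +kernel
theorem chkP_184200 : allRangeF (checkPointF cert) (nat_lit 184200) (nat_lit 100) = true := by decide +kernel
theorem chkP_184300 : allRangeF (checkPointF cert) (nat_lit 184300) (nat_lit 100) = true := by decide +kernel
theorem chkP_184400 : allRangeF (checkPointF cert) (nat_lit 184400) (nat_lit 100) = true := by decide +kernel
theorem chkP_184500 : allRangeF (checkPointF cert) (nat_lit 184500) (nat_lit 100) = true := by decide +kernel
theorem chkP_184600 : allRangeF (checkPointF cert) (nat_lit 184600) (nat_lit 100) = true := by decide +kernel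
theorem chkP_184700 : allRangeF (checkPointF cert) (nat_lit 184700) (nat_lit 100) = true := by decide +kernel
theorem chkP_184800 : allRangeF (checkPointF cert) (nat_lit 184800) (nat_lit 100) = true := by decide +kernel
theorem chkP_184900 : allRangeF (checkPointF cert) (nat_lit 184900) (nat_lit 100) = true := by decide +kernel
theorem chkP_185000 : allRangeF (checkPointF cert) (nat_lit 185000) (nat_lit 100) = true := by decide +kernel
theorem chkP_185100 : allRangeF (checkPointF cert) (nat_lit 185100) (nat_lit 100) = true := by decide +kernel
theorem chkP_185200 : allRangeF (checkPointF cert) (nat_lit 185200) (nat_lit 100) = true := by decide +kernel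
theorem chkP_185300 : allRangeF (checkPointF cert) (nat_lit 185300) (nat_lit 100) = true := by decide +kernel
theorem chkP_185400 : allRangeF (checkPointF cert) (nat_lit 185400) (nat_lit 100) = true := by decide +kernel
theorem chkP_185500 : allRangeF (checkPointF cert) (nat_lit 185500) (nat_lit 100) = true := by decide +kernel
theorem chkP_185600 : allRangeF (checkPointF cert) (nat_lit 185600) (nat_lit 100) = true := by decide +kernel
theorem chkP_185700 : allRangeF (checkPointF cert) (nat_lit 185700) (nat_lit 100) = true := by decide +kernel
theorem chkP_185800 : allRangeF (checkPointF cert) (nat_lit 185800) (nat_lit 100) = true := by decide +kernel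
theorem chkP_185900 : allRangeF (checkPointF cert) (nat_lit 185900) (nat_lit 100) = true := by decide +kernel
theorem chkP_186000 : allRangeF (checkPointF cert) (nat_lit 186000) (nat_lit 100) = true := by decide +kernel
theorem chkP_186100 : allRangeF (checkPointF cert) (nat_lit 186100) (nat_lit 100) = true := by decide +kernel
theorem chkP_186200 : allRangeF (checkPointF cert) (nat_lit 186200) (nat_lit 100) = true := by decide +kernel
theorem chkP_186300 : allRangeF (checkPointF cert) (nat_lit 186300) (nat_lit 100) = true := by decide +kernel
theorem chkP_186400 : allRangeF (checkPointF cert) (nat_lit 186400) (nat_lit 100) = true := by decide +kernel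
theorem chkP_186500 : allRangeF (checkPointF cert) (nat_lit 186500) (nat_lit 100) = true := by decide +kernel
theorem chkP_186600 : allRangeF (checkPointF cert) (nat_lit 186600) (nat_lit 100) = true := by decide +kernel
theorem chkP_186700 : allRangeF (checkPointF cert) (nat_lit 186700) (nat_lit 100) = true := by decide +kernel
theorem chkP_186800 : allRangeF (checkPointF cert) (nat_lit 186800) (nat_lit 100) = true := by decide +kernel
theorem chkP_186900 : allRangeF (checkPointF cert) (nat_lit 186900) (nat_lit 100) = true := by decide +kernel
theorem chkP_187000 : allRangeF (checkPointF cert) (nat_lit 187000) (nat_lit 100) = true := by decide +kernel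
theorem chkP_187100 : allRangeF (checkPointF cert) (nat_lit 187100) (nat_lit 100) = true := by decide +kernel
theorem chkP_187200 : allRangeF (checkPointF cert) (nat_lit 187200) (nat_lit 100) = true := by decide +kernel
theorem chkP_187300 : allRangeF (checkPointF cert) (nat_lit 187300) (nat_lit 100) = true := by decide +kernel
theorem chkP_187400 : allRangeF (checkPointF cert) (nat_lit 187400) (nat_lit 100) = true := by decide +kernel
theorem chkP_187500 : allRangeF (checkPointF cert) (nat_lit 187500) (nat_lit 100) = true := by decide +kernel
theorem chkP_187600 : allRangeF (checkPointF cert) (nat_lit 187600) (nat_lit 100) = true := by decide +kernel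
theorem chkP_187700 : allRangeF (checkPointF cert) (nat_lit 187700) (nat_lit 100) = true := by decide +kernel
theorem chkP_187800 : allRangeF (checkPointF cert) (nat_lit 187800) (nat_lit 100) = true := by decide +kernel
theorem chkP_187900 : allRangeF (checkPointF cert) (nat_lit 187900) (nat_lit 100) = true := by decide +kernel
theorem chkP_188000 : allRangeF (checkPointF cert) (nat_lit 188000) (nat_lit 100) = true := by decide +kernel
theorem chkP_188100 : allRangeF (checkPointF cert) (nat_lit 188100) (nat_lit 100) = true := by decide +kernel
theorem chkP_188200 : allRangeF (checkPointF cert) (nat_lit 188200) (nat_lit 100) = true := by decide +kernel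
theorem chkP_188300 : allRangeF (checkPointF cert) (nat_lit 188300) (nat_lit 100) = true := by decide +kernel
theorem chkP_188400 : allRangeF (checkPointF cert) (nat_lit 188400) (nat_lit 100) = true := by decide +kernel
theorem chkP_188500 : allRangeF (checkPointF cert) (nat_lit 188500) (nat_lit 100) = true := by decide +kernel
theorem chkP_188600 : allRangeF (checkPointF cert) (nat_lit 188600) (nat_lit 100) = true := by decide +kernel
theorem chkP_188700 : allRangeF (checkPointF cert) (nat_lit 188700) (nat_lit 100) = true := by decide +kernel
theorem chkP_188800 : allRangeF (checkPointF cert) (nat_lit 188800) (nat_lit 100) = true := by decide +kernel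
theorem chkP_188900 : allRangeF (checkPointF cert) (nat_lit 188900) (nat_lit 100) = true := by decide +kernel
theorem chkP_189000 : allRangeF (checkPointF cert) (nat_lit 189000) (nat_lit 100) = true := by decide +kernel
theorem chkP_189100 : allRangeF (checkPointF cert) (nat_lit 189100) (nat_lit 100) = true := by decide +kernel
theorem chkP_189200 : allRangeF (checkPointF cert) (nat_lit 189200) (nat_lit 100) = true := by decide +kernel
theorem chkP_189300 : allRangeF (checkPointF cert) (nat_lit 189300) (nat_lit 100) = true := by decide +kernel
theorem chkP_189400 : allRangeF (checkPointF cert) (nat_lit 189400) (nat_lit 100) = true := by decide +kernel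
theorem chkP_189500 : allRangeF (checkPointF cert) (nat_lit 189500) (nat_lit 100) = true := by decide +kernel
theorem chkP_189600 : allRangeF (checkPointF cert) (nat_lit 189600) (nat_lit 100) = true := by decide +kernel
theorem chkP_189700 : allRangeF (checkPointF cert) (nat_lit 189700) (nat_lit 100) = true := by decide +kernel
theorem chkP_189800 : allRangeF (checkPointF cert) (nat_lit 189800) (nat_lit 100) = true := by decide +kernel
theorem chkP_189900 : allRangeF (checkPointF cert) (nat_lit 189900) (nat_lit 100) = true := by decide +kernel
theorem chkP_190000 : allRangeF (checkPointF cert) (nat_lit 190000) (nat_lit 100) = true := by decide +kernel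
theorem chkP_190100 : allRangeF (checkPointF cert) (nat_lit 190100) (nat_lit 100) = true := by decide +kernel
theorem chkP_190200 : allRangeF (checkPointF cert) (nat_lit 190200) (nat_lit 100) = true := by decide +kernel
theorem chkP_190300 : allRangeF (checkPointF cert) (nat_lit 190300) (nat_lit 100) = true := by decide +kernel
theorem chkP_190400 : allRangeF (checkPointF cert) (nat_lit 190400) (nat_lit 100) = true := by decide +kernel
theorem chkP_190500 : allRangeF (checkPointF cert) (nat_lit 190500) (nat_lit 100) = true := by decide +kernel
theorem chkP_190600 : allRangeF (checkPointF cert) (nat_lit 190600) (nat_lit 100) = true := by decide +kernel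
theorem chkP_190700 : allRangeF (checkPointF cert) (nat_lit 190700) (nat_lit 100) = true := by decide +kernel
theorem chkP_190800 : allRangeF (checkPointF cert) (nat_lit 190800) (nat_lit 100) = true := by decide +kernel
theorem chkP_190900 : allRangeF (checkPointF cert) (nat_lit 190900) (nat_lit 100) = true := by decide +kernel
theorem chkP_191000 : allRangeF (checkPointF cert) (nat_lit 191000) (nat_lit 100) = true := by decide +kernel
theorem chkP_191100 : allRangeF (checkPointF cert) (nat_lit 191100) (nat_lit 100) = true := by decide +kernel
theorem chkP_191200 : allRangeF (checkPointF cert) (nat_lit 191200) (nat_lit 100) = true := by decide +kernel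
theorem chkP_191300 : allRangeF (checkPointF cert) (nat_lit 191300) (nat_lit 100) = true := by decide +kernel
theorem chkP_191400 : allRangeF (checkPointF cert) (nat_lit 191400) (nat_lit 100) = true := by decide +kernel
theorem chkP_191500 : allRangeF (checkPointF cert) (nat_lit 191500) (nat_lit 100) = true := by decide +kernel
theorem chkP_191600 : allRangeF (checkPointF cert) (nat_lit 191600) (nat_lit 100) = true := by decide +kernel
theorem chkP_191700 : allRangeF (checkPointF cert) (nat_lit 191700) (nat_lit 100) = true := by decide +kernel
theorem chkP_191800 : allRangeF (checkPointF cert) (nat_lit 191800) (nat_lit 100) = true := by decide +kernel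
theorem chkP_191900 : allRangeF (checkPointF cert) (nat_lit 191900) (nat_lit 100) = true := by decide +kernel
theorem chkP_192000 : allRangeF (checkPointF cert) (nat_lit 192000) (nat_lit 100) = true := by decide +kernel
theorem chkP_192100 : allRangeF (checkPointF cert) (nat_lit 192100) (nat_lit 100) = true := by decide +kernel
theorem chkP_192200 : allRangeF (checkPointF cert) (nat_lit 192200) (nat_lit 100) = true := by decide +kernel
theorem chkP_192300 : allRangeF (checkPointF cert) (nat_lit 192300) (nat_lit 100) = true := by decide +kernel
theorem chkP_192400 : allRangeF (checkPointF cert) (nat_lit 192400) (nat_lit 100) = true := by decide +kernel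
theorem chkP_192500 : allRangeF (checkPointF cert) (nat_lit 192500) (nat_lit 100) = true := by decide +kernel
theorem chkP_192600 : allRangeF (checkPointF cert) (nat_lit 192600) (nat_lit 100) = true := by decide +kernel
theorem chkP_192700 : allRangeF (checkPointF cert) (nat_lit 192700) (nat_lit 100) = true := by decide +kernel
theorem chkP_192800 : allRangeF (checkPointF cert) (nat_lit 192800) (nat_lit 100) = true := by decide +kernel
theorem chkP_192900 : allRangeF (checkPointF cert) (nat_lit 192900) (nat_lit 100) = true := by decide +kernel
theorem chkP_193000 : allRangeF (checkPointF cert) (nat_lit 193000) (nat_lit 100) = true := by decide +kernel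
theorem chkP_193100 : allRangeF (checkPointF cert) (nat_lit 193100) (nat_lit 100) = true := by decide +kernel
theorem chkP_193200 : allRangeF (checkPointF cert) (nat_lit 193200) (nat_lit 100) = true := by decide +kernel
theorem chkP_193300 : allRangeF (checkPointF cert) (nat_lit 193300) (nat_lit 100) = true := by decide +kernel
theorem chkP_193400 : allRangeF (checkPointF cert) (nat_lit 193400) (nat_lit 100) = true := by decide +kernel
theorem chkP_193500 : allRangeF (checkPointF cert) (nat_lit 193500) (nat_lit 100) = true := by decide +kernel
theorem chkP_193600 : allRangeF (checkPointF cert) (nat_lit 193600) (nat_lit 100) = true := by decide +kernel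
theorem chkP_193700 : allRangeF (checkPointF cert) (nat_lit 193700) (nat_lit 100) = true := by decide +kernel
theorem chkP_193800 : allRangeF (checkPointF cert) (nat_lit 193800) (nat_lit 100) = true := by decide +kernel
theorem chkP_193900 : allRangeF (checkPointF cert) (nat_lit 193900) (nat_lit 100) = true := by decide +kernel
theorem chkP_194000 : allRangeF (checkPointF cert) (nat_lit 194000) (nat_lit 100) = true := by decide +kernel
theorem chkP_194100 : allRangeF (checkPointF cert) (nat_lit 194100) (nat_lit 100) = true := by decide +kernel
theorem chkP_194200 : allRangeF (checkPointF cert) (nat_lit 194200) (nat_lit 100) = true := by decide +kernel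
theorem chkP_194300 : allRangeF (checkPointF cert) (nat_lit 194300) (nat_lit 100) = true := by decide +kernel
theorem chkP_194400 : allRangeF (checkPointF cert) (nat_lit 194400) (nat_lit 100) = true := by decide +kernel
theorem chkP_194500 : allRangeF (checkPointF cert) (nat_lit 194500) (nat_lit 100) = true := by decide +kernel
theorem chkP_194600 : allRangeF (checkPointF cert) (nat_lit 194600) (nat_lit 100) = true := by decide +kernel
theorem chkP_194700 : allRangeF (checkPointF cert) (nat_lit 194700) (nat_lit 100) = true := by decide +kernel
theorem chkP_194800 : allRangeF (checkPointF cert) (nat_lit 194800) (nat_lit 100) = true := by decide +kernel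
theorem chkP_194900 : allRangeF (checkPointF cert) (nat_lit 194900) (nat_lit 100) = true := by decide +kernel
theorem chkP_195000 : allRangeF (checkPointF cert) (nat_lit 195000) (nat_lit 100) = true := by decide +kernel
theorem chkP_195100 : allRangeF (checkPointF cert) (nat_lit 195100) (nat_lit 100) = true := by decide +kernel
theorem chkP_195200 : allRangeF (checkPointF cert) (nat_lit 195200) (nat_lit 100) = true := by decide +kernel
theorem chkP_195300 : allRangeF (checkPointF cert) (nat_lit 195300) (nat_lit 100) = true := by decide +kernel
theorem chkP_195400 : allRangeF (checkPointF cert) (nat_lit 195400) (nat_lit 100) = true := by decide +kernel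
theorem chkP_195500 : allRangeF (checkPointF cert) (nat_lit 195500) (nat_lit 100) = true := by decide +kernel
theorem chkP_195600 : allRangeF (checkPointF cert) (nat_lit 195600) (nat_lit 100) = true := by decide +kernel
theorem chkP_195700 : allRangeF (checkPointF cert) (nat_lit 195700) (nat_lit 100) = true := by decide +kernel
theorem chkP_195800 : allRangeF (checkPointF cert) (nat_lit 195800) (nat_lit 100) = true := by decide +kernel
theorem chkP_195900 : allRangeF (checkPointF cert) (nat_lit 195900) (nat_lit 100) = true := by decide +kernel
theorem chkP_196000 : allRangeF (checkPointF cert) (nat_lit 196000) (nat_lit 100) = true := by decide +kernel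
theorem chkP_196100 : allRangeF (checkPointF cert) (nat_lit 196100) (nat_lit 100) = true := by decide +kernel
theorem chkP_196200 : allRangeF (checkPointF cert) (nat_lit 196200) (nat_lit 100) = true := by decide +kernel
theorem chkP_196300 : allRangeF (checkPointF cert) (nat_lit 196300) (nat_lit 100) = true := by decide +kernel
theorem chkP_196400 : allRangeF (checkPointF cert) (nat_lit 196400) (nat_lit 100) = true := by decide +kernel
theorem chkP_196500 : allRangeF (checkPointF cert) (nat_lit 196500) (nat_lit 100) = true := by decide +kernel
theorem chkP_196600 : allRangeF (checkPointF cert) (nat_lit 196600) (nat_lit 100) = true := by decide +kernel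
theorem chkP_196700 : allRangeF (checkPointF cert) (nat_lit 196700) (nat_lit 100) = true := by decide +kernel
theorem chkP_196800 : allRangeF (checkPointF cert) (nat_lit 196800) (nat_lit 100) = true := by decide +kernel
theorem chkP_196900 : allRangeF (checkPointF cert) (nat_lit 196900) (nat_lit 100) = true := by decide +kernel
theorem chkP_197000 : allRangeF (checkPointF cert) (nat_lit 197000) (nat_lit 100) = true := by decide +kernel
theorem chkP_197100 : allRangeF (checkPointF cert) (nat_lit 197100) (nat_lit 100) = true := by decide +kernel
theorem chkP_197200 : allRangeF (checkPointF cert) (nat_lit 197200) (nat_lit 100) = true := by decide +kernel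
theorem chkP_197300 : allRangeF (checkPointF cert) (nat_lit 197300) (nat_lit 100) = true := by decide +kernel
theorem chkP_197400 : allRangeF (checkPointF cert) (nat_lit 197400) (nat_lit 100) = true := by decide +kernel
theorem chkP_197500 : allRangeF (checkPointF cert) (nat_lit 197500) (nat_lit 100) = true := by decide +kernel
theorem chkP_197600 : allRangeF (checkPointF cert) (nat_lit 197600) (nat_lit 100) = true := by decide +kernel
theorem chkP_197700 : allRangeF (checkPointF cert) (nat_lit 197700) (nat_lit 100) = true := by decide +kernel
theorem chkP_197800 : allRangeF (checkPointF cert) (nat_lit 197800) (nat_lit 100) = true := by decide +kernel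
theorem chkP_197900 : allRangeF (checkPointF cert) (nat_lit 197900) (nat_lit 100) = true := by decide +kernel
theorem chkP_198000 : allRangeF (checkPointF cert) (nat_lit 198000) (nat_lit 100) = true := by decide +kernel
theorem chkP_198100 : allRangeF (checkPointF cert) (nat_lit 198100) (nat_lit 100) = true := by decide +kernel
theorem chkP_198200 : allRangeF (checkPointF cert) (nat_lit 198200) (nat_lit 100) = true := by decide +kernel
theorem chkP_198300 : allRangeF (checkPointF cert) (nat_lit 198300) (nat_lit 100) = true := by decide +kernel
theorem chkP_198400 : allRangeF (checkPointF cert) (nat_lit 198400) (nat_lit 100) = true := by decide +kernel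
theorem chkP_198500 : allRangeF (checkPointF cert) (nat_lit 198500) (nat_lit 100) = true := by decide +kernel
theorem chkP_198600 : allRangeF (checkPointF cert) (nat_lit 198600) (nat_lit 100) = true := by decide +kernel
theorem chkP_198700 : allRangeF (checkPointF cert) (nat_lit 198700) (nat_lit 100) = true := by decide +kernel
theorem chkP_198800 : allRangeF (checkPointF cert) (nat_lit 198800) (nat_lit 100) = true := by decide +kernel
theorem chkP_198900 : allRangeF (checkPointF cert) (nat_lit 198900) (nat_lit 100) = true := by decide +kernel
theorem chkP_199000 : allRangeF (checkPointF cert) (nat_lit 199000) (nat_lit 100) = true := by decide +kernel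
theorem chkP_199100 : allRangeF (checkPointF cert) (nat_lit 199100) (nat_lit 100) = true := by decide +kernel
theorem chkP_199200 : allRangeF (checkPointF cert) (nat_lit 199200) (nat_lit 100) = true := by decide +kernel
theorem chkP_199300 : allRangeF (checkPointF cert) (nat_lit 199300) (nat_lit 100) = true := by decide +kernel
theorem chkP_199400 : allRangeF (checkPointF cert) (nat_lit 199400) (nat_lit 100) = true := by decide +kernel
theorem chkP_199500 : allRangeF (checkPointF cert) (nat_lit 199500) (nat_lit 100) = true := by decide +kernel
theorem chkP_199600 : allRangeF (checkPointF cert) (nat_lit 199600) (nat_lit 100) = true := by decide +kernel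
theorem chkP_199700 : allRangeF (checkPointF cert) (nat_lit 199700) (nat_lit 100) = true := by decide +kernel
theorem chkP_199800 : allRangeF (checkPointF cert) (nat_lit 199800) (nat_lit 100) = true := by decide +kernel
theorem chkP_199900 : allRangeF (checkPointF cert) (nat_lit 199900) (nat_lit 100) = true := by decide +kernel
theorem chkP_200000 : allRangeF (checkPointF cert) (nat_lit 200000) (nat_lit 100) = true := by decide +kernel
theorem chkP_200100 : allRangeF (checkPointF cert) (nat_lit 200100) (nat_lit 100) = true := by decide +kernel
theorem chkP_200200 : allRangeF (checkPointF cert) (nat_lit 200200) (nat_lit 100) = true := by decide +kernel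
theorem chkP_200300 : allRangeF (checkPointF cert) (nat_lit 200300) (nat_lit 100) = true := by decide +kernel

theorem ptsRange_11 : ∀ i, 183700 ≤ i → i < 200400 → checkPoint cert i = true := by
  intro i hlo hhi
  rcases Nat.lt_or_ge i 192000 with h1 | h1
  · skip
    rcases Nat.lt_or_ge i 187800 with h2 | h2
    · skip
      rcases Nat.lt_or_ge i 185700 with h3 | h3
      · skip
        rcases Nat.lt_or_ge i 184700 with h4 | h4
        · skip
          rcases Nat.lt_or_ge i 184200 with h5 | h5
          · skip
            rcases Nat.lt_or_ge i 183900 with h6 | h6
            · skip
              rcases Nat.lt_or_ge i 183800 with h7 | h7
              · skip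
                exact allRangeF_sound _ _ (checkPointF_eq cert) 183700 100 chkP_183700 i (by omega) (by omega)
              · skip
                exact allRangeF_sound _ _ (checkPointF_eq cert) 183800 100 chkP_183800 i (by omega) (by omega)
            · skip
              rcases Nat.lt_or_ge i 184000 with h7 | h7
              · skip
                exact allRangeF_sound _ _ (checkPointF_eq cert) 183900 100 chkP_183900 i (by omega) (by omega)
              · skip
                rcases Nat.lt_or_ge i 184100 with h8 | h8
                · skip
                  exact allRangeF_sound _ _ (checkPointF_eq cert) 184000 100 chkP_184000 i (by omega) (by omega)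
                · skip
                  exact allRangeF_sound _ _ (checkPointF_eq cert) 184100 100 chkP_184100 i (by omega) (by omega)
          · skip
            rcases Nat.lt_or_ge i 184400 with h6 | h6
            · skip
              rcases Nat.lt_or_ge i 184300 with h7 | h7
              · skip
                exact allRangeF_sound _ _ (checkPointF_eq cert) 184200 100 chkP_184200 i (by omega) (by omega)
              · skip
                exact allRangeF_sound _ _ (checkPointF_eq cert) 184300 100 chkP_184300 i (by omega) (by omega)
            · skip
              rcases Nat.lt_or_ge i 184500 with h7 | h7
              · skip
                exact allRangeF_sound _ _ (checkPointF_eq cert) 184400 100 chkP_184400 i (by omega) (by omega)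
              · skip
                rcases Nat.lt_or_ge i 184600 with h8 | h8
                · skip
                  exact allRangeF_sound _ _ (checkPointF_eq cert) 184500 100 chkP_184500 i (by omega) (by omega)
                · skip
                  exact allRangeF_sound _ _ (checkPointF_eq cert) 184600 100 chkP_184600 i (by omega) (by omega)
        · skip
          rcases Nat.lt_or_ge i 185200 with h5 | h5
          · skip
            rcases Nat.lt_or_ge i 184900 with h6 | h6
            · skip
              rcases Nat.lt_or_ge i 184800 with h7 | h7
              · skip
                exact allRangeF_sound _ _ (checkPointF_eq cert) 184700 100 chkP_184700 i (by omega) (by omega)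
              · skip
                exact allRangeF_sound _ _ (checkPointF_eq cert) 184800 100 chkP_184800 i (by omega) (by omega)
            · skip
              rcases Nat.lt_or_ge i 185000 with h7 | h7
              · skip
                exact allRangeF_sound _ _ (checkPointF_eq cert) 184900 100 chkP_184900 i (by omega) (by omega)
              · skip
                rcases Nat.lt_or_ge i 185100 with h8 | h8
                · skip
                  exact allRangeF_sound _ _ (checkPointF_eq cert) 185000 100 chkP_185000 i (by omega) (by omega)
                · skip
                  exact allRangeF_sound _ _ (checkPointF_eq cert) 185100 100 chkP_185100 i (by omega) (by omega)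
          · skip
            rcases Nat.lt_or_ge i 185400 with h6 | h6
            · skip
              rcases Nat.lt_or_ge i 185300 with h7 | h7
              · skip
                exact allRangeF_sound _ _ (checkPointF_eq cert) 185200 100 chkP_185200 i (by omega) (by omega)
              · skip
                exact allRangeF_sound _ _ (checkPointF_eq cert) 185300 100 chkP_185300 i (by omega) (by omega)
            · skip
              rcases Nat.lt_or_ge i 185500 with h7 | h7
              · skip
                exact allRangeF_sound _ _ (checkPointF_eq cert) 185400 100 chkP_185400 i (by omega) (by omega)
              · skip
                rcases Nat.lt_or_ge i 185600 with h8 | h8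
                · skip
                  exact allRangeF_sound _ _ (checkPointF_eq cert) 185500 100 chkP_185500 i (by omega) (by omega)
                · skip
                  exact allRangeF_sound _ _ (checkPointF_eq cert) 185600 100 chkP_185600 i (by omega) (by omega)
      · skip
        rcases Nat.lt_or_ge i 186700 with h4 | h4
        · skip
          rcases Nat.lt_or_ge i 186200 with h5 | h5
          · skip
            rcases Nat.lt_or_ge i 185900 with h6 | h6
            · skip
              rcases Nat.lt_or_ge i 185800 with h7 | h7
              · skip
                exact allRangeF_sound _ _ (checkPointF_eq cert) 185700 100 chkP_185700 i (by omega) (by omega)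
              · skip
                exact allRangeF_sound _ _ (checkPointF_eq cert) 185800 100 chkP_185800 i (by omega) (by omega)
            · skip
              rcases Nat.lt_or_ge i 186000 with h7 | h7
              · skip
                exact allRangeF_sound _ _ (checkPointF_eq cert) 185900 100 chkP_185900 i (by omega) (by omega)
              · skip
                rcases Nat.lt_or_ge i 186100 with h8 | h8
                · skip
                  exact allRangeF_sound _ _ (checkPointF_eq cert) 186000 100 chkP_186000 i (by omega) (by omega)
                · skip
                  exact allRangeF_sound _ _ (checkPointF_eq cert) 186100 100 chkP_186100 i (by omega) (by omega)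
          · skip
            rcases Nat.lt_or_ge i 186400 with h6 | h6
            · skip
              rcases Nat.lt_or_ge i 186300 with h7 | h7
              · skip
                exact allRangeF_sound _ _ (checkPointF_eq cert) 186200 100 chkP_186200 i (by omega) (by omega)
              · skip
                exact allRangeF_sound _ _ (checkPointF_eq cert) 186300 100 chkP_186300 i (by omega) (by omega)
            · skip
              rcases Nat.lt_or_ge i 186500 with h7 | h7
              · skip
                exact allRangeF_sound _ _ (checkPointF_eq cert) 186400 100 chkP_186400 i (by omega) (by omega)
              · skip
                rcases Nat.lt_or_ge i 186600 with h8 | h8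
                · skip
                  exact allRangeF_sound _ _ (checkPointF_eq cert) 186500 100 chkP_186500 i (by omega) (by omega)
                · skip
                  exact allRangeF_sound _ _ (checkPointF_eq cert) 186600 100 chkP_186600 i (by omega) (by omega)
        · skip
          rcases Nat.lt_or_ge i 187200 with h5 | h5
          · skip
            rcases Nat.lt_or_ge i 186900 with h6 | h6
            · skip
              rcases Nat.lt_or_ge i 186800 with h7 | h7
              · skip
                exact allRangeF_sound _ _ (checkPointF_eq cert) 186700 100 chkP_186700 i (by omega) (by omega)
              · skip
                exact allRangeF_sound _ _ (checkPointF_eq cert) 186800 100 chkP_186800 i (by omega) (by omega)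
            · skip
              rcases Nat.lt_or_ge i 187000 with h7 | h7
              · skip
                exact allRangeF_sound _ _ (checkPointF_eq cert) 186900 100 chkP_186900 i (by omega) (by omega)
              · skip
                rcases Nat.lt_or_ge i 187100 with h8 | h8
                · skip
                  exact allRangeF_sound _ _ (checkPointF_eq cert) 187000 100 chkP_187000 i (by omega) (by omega)
                · skip
                  exact allRangeF_sound _ _ (checkPointF_eq cert) 187100 100 chkP_187100 i (by omega) (by omega)
          · skip
            rcases Nat.lt_or_ge i 187500 with h6 | h6
            · skip
              rcases Nat.lt_or_ge i 187300 with h7 | h7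
              · skip
                exact allRangeF_sound _ _ (checkPointF_eq cert) 187200 100 chkP_187200 i (by omega) (by omega)
              · skip
                rcases Nat.lt_or_ge i 187400 with h8 | h8
                · skip
                  exact allRangeF_sound _ _ (checkPointF_eq cert) 187300 100 chkP_187300 i (by omega) (by omega)
                · skip
                  exact allRangeF_sound _ _ (checkPointF_eq cert) 187400 100 chkP_187400 i (by omega) (by omega)
            · skip
              rcases Nat.lt_or_ge i 187600 with h7 | h7
              · skip
                exact allRangeF_sound _ _ (checkPointF_eq cert) 187500 100 chkP_187500 i (by omega) (by omega)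
              · skip
                rcases Nat.lt_or_ge i 187700 with h8 | h8
                · skip
                  exact allRangeF_sound _ _ (checkPointF_eq cert) 187600 100 chkP_187600 i (by omega) (by omega)
                · skip
                  exact allRangeF_sound _ _ (checkPointF_eq cert) 187700 100 chkP_187700 i (by omega) (by omega)
    · skip
      rcases Nat.lt_or_ge i 189900 with h3 | h3
      · skip
        rcases Nat.lt_or_ge i 188800 with h4 | h4
        · skip
          rcases Nat.lt_or_ge i 188300 with h5 | h5
          · skip
            rcases Nat.lt_or_ge i 188000 with h6 | h6
            · skip
              rcases Nat.lt_or_ge i 187900 with h7 | h7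
              · skip
                exact allRangeF_sound _ _ (checkPointF_eq cert) 187800 100 chkP_187800 i (by omega) (by omega)
              · skip
                exact allRangeF_sound _ _ (checkPointF_eq cert) 187900 100 chkP_187900 i (by omega) (by omega)
            · skip
              rcases Nat.lt_or_ge i 188100 with h7 | h7
              · skip
                exact allRangeF_sound _ _ (checkPointF_eq cert) 188000 100 chkP_188000 i (by omega) (by omega)
              · skip
                rcases Nat.lt_or_ge i 188200 with h8 | h8
                · skip
                  exact allRangeF_sound _ _ (checkPointF_eq cert) 188100 100 chkP_188100 i (by omega) (by omega)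
                · skip
                  exact allRangeF_sound _ _ (checkPointF_eq cert) 188200 100 chkP_188200 i (by omega) (by omega)
          · skip
            rcases Nat.lt_or_ge i 188500 with h6 | h6
            · skip
              rcases Nat.lt_or_ge i 188400 with h7 | h7
              · skip
                exact allRangeF_sound _ _ (checkPointF_eq cert) 188300 100 chkP_188300 i (by omega) (by omega)
              · skip
                exact allRangeF_sound _ _ (checkPointF_eq cert) 188400 100 chkP_188400 i (by omega) (by omega)
            · skip
              rcases Nat.lt_or_ge i 188600 with h7 | h7
              · skip
                exact allRangeF_sound _ _ (checkPointF_eq cert) 188500 100 chkP_188500 i (by omega) (by omega)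
              · skip
                rcases Nat.lt_or_ge i 188700 with h8 | h8
                · skip
                  exact allRangeF_sound _ _ (checkPointF_eq cert) 188600 100 chkP_188600 i (by omega) (by omega)
                · skip
                  exact allRangeF_sound _ _ (checkPointF_eq cert) 188700 100 chkP_188700 i (by omega) (by omega)
        · skip
          rcases Nat.lt_or_ge i 189300 with h5 | h5
          · skip
            rcases Nat.lt_or_ge i 189000 with h6 | h6
            · skip
              rcases Nat.lt_or_ge i 188900 with h7 | h7
              · skip
                exact allRangeF_sound _ _ (checkPointF_eq cert) 188800 100 chkP_188800 i (by omega) (by omega)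
              · skip
                exact allRangeF_sound _ _ (checkPointF_eq cert) 188900 100 chkP_188900 i (by omega) (by omega)
            · skip
              rcases Nat.lt_or_ge i 189100 with h7 | h7
              · skip
                exact allRangeF_sound _ _ (checkPointF_eq cert) 189000 100 chkP_189000 i (by omega) (by omega)
              · skip
                rcases Nat.lt_or_ge i 189200 with h8 | h8
                · skip
                  exact allRangeF_sound _ _ (checkPointF_eq cert) 189100 100 chkP_189100 i (by omega) (by omega)
                · skip
                  exact allRangeF_sound _ _ (checkPointF_eq cert) 189200 100 chkP_189200 i (by omega) (by omega)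
          · skip
            rcases Nat.lt_or_ge i 189600 with h6 | h6
            · skip
              rcases Nat.lt_or_ge i 189400 with h7 | h7
              · skip
                exact allRangeF_sound _ _ (checkPointF_eq cert) 189300 100 chkP_189300 i (by omega) (by omega)
              · skip
                rcases Nat.lt_or_ge i 189500 with h8 | h8
                · skip
                  exact allRangeF_sound _ _ (checkPointF_eq cert) 189400 100 chkP_189400 i (by omega) (by omega)
                · skip
                  exact allRangeF_sound _ _ (checkPointF_eq cert) 189500 100 chkP_189500 i (by omega) (by omega)
            · skip
              rcases Nat.lt_or_ge i 189700 with h7 | h7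
              · skip
                exact allRangeF_sound _ _ (checkPointF_eq cert) 189600 100 chkP_189600 i (by omega) (by omega)
              · skip
                rcases Nat.lt_or_ge i 189800 with h8 | h8
                · skip
                  exact allRangeF_sound _ _ (checkPointF_eq cert) 189700 100 chkP_189700 i (by omega) (by omega)
                · skip
                  exact allRangeF_sound _ _ (checkPointF_eq cert) 189800 100 chkP_189800 i (by omega) (by omega)
      · skip
        rcases Nat.lt_or_ge i 190900 with h4 | h4
        · skip
          rcases Nat.lt_or_ge i 190400 with h5 | h5
          · skip
            rcases Nat.lt_or_ge i 190100 with h6 | h6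
            · skip
              rcases Nat.lt_or_ge i 190000 with h7 | h7
              · skip
                exact allRangeF_sound _ _ (checkPointF_eq cert) 189900 100 chkP_189900 i (by omega) (by omega)
              · skip
                exact allRangeF_sound _ _ (checkPointF_eq cert) 190000 100 chkP_190000 i (by omega) (by omega)
            · skip
              rcases Nat.lt_or_ge i 190200 with h7 | h7
              · skip
                exact allRangeF_sound _ _ (checkPointF_eq cert) 190100 100 chkP_190100 i (by omega) (by omega)
              · skip
                rcases Nat.lt_or_ge i 190300 with h8 | h8
                · skip
                  exact allRangeF_sound _ _ (checkPointF_eq cert) 190200 100 chkP_190200 i (by omega) (by omega)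
                · skip
                  exact allRangeF_sound _ _ (checkPointF_eq cert) 190300 100 chkP_190300 i (by omega) (by omega)
          · skip
            rcases Nat.lt_or_ge i 190600 with h6 | h6
            · skip
              rcases Nat.lt_or_ge i 190500 with h7 | h7
              · skip
                exact allRangeF_sound _ _ (checkPointF_eq cert) 190400 100 chkP_190400 i (by omega) (by omega)
              · skip
                exact allRangeF_sound _ _ (checkPointF_eq cert) 190500 100 chkP_190500 i (by omega) (by omega)
            · skip
              rcases Nat.lt_or_ge i 190700 with h7 | h7
              · skip
                exact allRangeF_sound _ _ (checkPointF_eq cert) 190600 100 chkP_190600 i (by omega) (by omega)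
              · skip
                rcases Nat.lt_or_ge i 190800 with h8 | h8
                · skip
                  exact allRangeF_sound _ _ (checkPointF_eq cert) 190700 100 chkP_190700 i (by omega) (by omega)
                · skip
                  exact allRangeF_sound _ _ (checkPointF_eq cert) 190800 100 chkP_190800 i (by omega) (by omega)
        · skip
          rcases Nat.lt_or_ge i 191400 with h5 | h5
          · skip
            rcases Nat.lt_or_ge i 191100 with h6 | h6
            · skip
              rcases Nat.lt_or_ge i 191000 with h7 | h7
              · skip
                exact allRangeF_sound _ _ (checkPointF_eq cert) 190900 100 chkP_190900 i (by omega) (by omega)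
              · skip
                exact allRangeF_sound _ _ (checkPointF_eq cert) 191000 100 chkP_191000 i (by omega) (by omega)
            · skip
              rcases Nat.lt_or_ge i 191200 with h7 | h7
              · skip
                exact allRangeF_sound _ _ (checkPointF_eq cert) 191100 100 chkP_191100 i (by omega) (by omega)
              · skip
                rcases Nat.lt_or_ge i 191300 with h8 | h8
                · skip
                  exact allRangeF_sound _ _ (checkPointF_eq cert) 191200 100 chkP_191200 i (by omega) (by omega)
                · skip
                  exact allRangeF_sound _ _ (checkPointF_eq cert) 191300 100 chkP_191300 i (by omega) (by omega)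
          · skip
            rcases Nat.lt_or_ge i 191700 with h6 | h6
            · skip
              rcases Nat.lt_or_ge i 191500 with h7 | h7
              · skip
                exact allRangeF_sound _ _ (checkPointF_eq cert) 191400 100 chkP_191400 i (by omega) (by omega)
              · skip
                rcases Nat.lt_or_ge i 191600 with h8 | h8
                · skip
                  exact allRangeF_sound _ _ (checkPointF_eq cert) 191500 100 chkP_191500 i (by omega) (by omega)
                · skip
                  exact allRangeF_sound _ _ (checkPointF_eq cert) 191600 100 chkP_191600 i (by omega) (by omega)
            · skip
              rcases Nat.lt_or_ge i 191800 with h7 | h7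
              · skip
                exact allRangeF_sound _ _ (checkPointF_eq cert) 191700 100 chkP_191700 i (by omega) (by omega)
              · skip
                rcases Nat.lt_or_ge i 191900 with h8 | h8
                · skip
                  exact allRangeF_sound _ _ (checkPointF_eq cert) 191800 100 chkP_191800 i (by omega) (by omega)
                · skip
                  exact allRangeF_sound _ _ (checkPointF_eq cert) 191900 100 chkP_191900 i (by omega) (by omega)
  · skip
    rcases Nat.lt_or_ge i 196200 with h2 | h2
    · skip
      rcases Nat.lt_or_ge i 194100 with h3 | h3
      · skip
        rcases Nat.lt_or_ge i 193000 with h4 | h4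
        · skip
          rcases Nat.lt_or_ge i 192500 with h5 | h5
          · skip
            rcases Nat.lt_or_ge i 192200 with h6 | h6
            · skip
              rcases Nat.lt_or_ge i 192100 with h7 | h7
              · skip
                exact allRangeF_sound _ _ (checkPointF_eq cert) 192000 100 chkP_192000 i (by omega) (by omega)
              · skip
                exact allRangeF_sound _ _ (checkPointF_eq cert) 192100 100 chkP_192100 i (by omega) (by omega)
            · skip
              rcases Nat.lt_or_ge i 192300 with h7 | h7
              · skip
                exact allRangeF_sound _ _ (checkPointF_eq cert) 192200 100 chkP_192200 i (by omega) (by omega)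
              · skip
                rcases Nat.lt_or_ge i 192400 with h8 | h8
                · skip
                  exact allRangeF_sound _ _ (checkPointF_eq cert) 192300 100 chkP_192300 i (by omega) (by omega)
                · skip
                  exact allRangeF_sound _ _ (checkPointF_eq cert) 192400 100 chkP_192400 i (by omega) (by omega)
          · skip
            rcases Nat.lt_or_ge i 192700 with h6 | h6
            · skip
              rcases Nat.lt_or_ge i 192600 with h7 | h7
              · skip
                exact allRangeF_sound _ _ (checkPointF_eq cert) 192500 100 chkP_192500 i (by omega) (by omega)
              · skip
                exact allRangeF_sound _ _ (checkPointF_eq cert) 192600 100 chkP_192600 i (by omega) (by omega)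
            · skip
              rcases Nat.lt_or_ge i 192800 with h7 | h7
              · skip
                exact allRangeF_sound _ _ (checkPointF_eq cert) 192700 100 chkP_192700 i (by omega) (by omega)
              · skip
                rcases Nat.lt_or_ge i 192900 with h8 | h8
                · skip
                  exact allRangeF_sound _ _ (checkPointF_eq cert) 192800 100 chkP_192800 i (by omega) (by omega)
                · skip
                  exact allRangeF_sound _ _ (checkPointF_eq cert) 192900 100 chkP_192900 i (by omega) (by omega)
        · skip
          rcases Nat.lt_or_ge i 193500 with h5 | h5
          · skip
            rcases Nat.lt_or_ge i 193200 with h6 | h6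
            · skip
              rcases Nat.lt_or_ge i 193100 with h7 | h7
              · skip
                exact allRangeF_sound _ _ (checkPointF_eq cert) 193000 100 chkP_193000 i (by omega) (by omega)
              · skip
                exact allRangeF_sound _ _ (checkPointF_eq cert) 193100 100 chkP_193100 i (by omega) (by omega)
            · skip
              rcases Nat.lt_or_ge i 193300 with h7 | h7
              · skip
                exact allRangeF_sound _ _ (checkPointF_eq cert) 193200 100 chkP_193200 i (by omega) (by omega)
              · skip
                rcases Nat.lt_or_ge i 193400 with h8 | h8
                · skip
                  exact allRangeF_sound _ _ (checkPointF_eq cert) 193300 100 chkP_193300 i (by omega) (by omega)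
                · skip
                  exact allRangeF_sound _ _ (checkPointF_eq cert) 193400 100 chkP_193400 i (by omega) (by omega)
          · skip
            rcases Nat.lt_or_ge i 193800 with h6 | h6
            · skip
              rcases Nat.lt_or_ge i 193600 with h7 | h7
              · skip
                exact allRangeF_sound _ _ (checkPointF_eq cert) 193500 100 chkP_193500 i (by omega) (by omega)
              · skip
                rcases Nat.lt_or_ge i 193700 with h8 | h8
                · skip
                  exact allRangeF_sound _ _ (checkPointF_eq cert) 193600 100 chkP_193600 i (by omega) (by omega)
                · skip
                  exact allRangeF_sound _ _ (checkPointF_eq cert) 193700 100 chkP_193700 i (by omega) (by omega)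
            · skip
              rcases Nat.lt_or_ge i 193900 with h7 | h7
              · skip
                exact allRangeF_sound _ _ (checkPointF_eq cert) 193800 100 chkP_193800 i (by omega) (by omega)
              · skip
                rcases Nat.lt_or_ge i 194000 with h8 | h8
                · skip
                  exact allRangeF_sound _ _ (checkPointF_eq cert) 193900 100 chkP_193900 i (by omega) (by omega)
                · skip
                  exact allRangeF_sound _ _ (checkPointF_eq cert) 194000 100 chkP_194000 i (by omega) (by omega)
      · skip
        rcases Nat.lt_or_ge i 195100 with h4 | h4
        · skip
          rcases Nat.lt_or_ge i 194600 with h5 | h5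
          · skip
            rcases Nat.lt_or_ge i 194300 with h6 | h6
            · skip
              rcases Nat.lt_or_ge i 194200 with h7 | h7
              · skip
                exact allRangeF_sound _ _ (checkPointF_eq cert) 194100 100 chkP_194100 i (by omega) (by omega)
              · skip
                exact allRangeF_sound _ _ (checkPointF_eq cert) 194200 100 chkP_194200 i (by omega) (by omega)
            · skip
              rcases Nat.lt_or_ge i 194400 with h7 | h7
              · skip
                exact allRangeF_sound _ _ (checkPointF_eq cert) 194300 100 chkP_194300 i (by omega) (by omega)
              · skip
                rcases Nat.lt_or_ge i 194500 with h8 | h8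
                · skip
                  exact allRangeF_sound _ _ (checkPointF_eq cert) 194400 100 chkP_194400 i (by omega) (by omega)
                · skip
                  exact allRangeF_sound _ _ (checkPointF_eq cert) 194500 100 chkP_194500 i (by omega) (by omega)
          · skip
            rcases Nat.lt_or_ge i 194800 with h6 | h6
            · skip
              rcases Nat.lt_or_ge i 194700 with h7 | h7
              · skip
                exact allRangeF_sound _ _ (checkPointF_eq cert) 194600 100 chkP_194600 i (by omega) (by omega)
              · skip
                exact allRangeF_sound _ _ (checkPointF_eq cert) 194700 100 chkP_194700 i (by omega) (by omega)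
            · skip
              rcases Nat.lt_or_ge i 194900 with h7 | h7
              · skip
                exact allRangeF_sound _ _ (checkPointF_eq cert) 194800 100 chkP_194800 i (by omega) (by omega)
              · skip
                rcases Nat.lt_or_ge i 195000 with h8 | h8
                · skip
                  exact allRangeF_sound _ _ (checkPointF_eq cert) 194900 100 chkP_194900 i (by omega) (by omega)
                · skip
                  exact allRangeF_sound _ _ (checkPointF_eq cert) 195000 100 chkP_195000 i (by omega) (by omega)
        · skip
          rcases Nat.lt_or_ge i 195600 with h5 | h5
          · skip
            rcases Nat.lt_or_ge i 195300 with h6 | h6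
            · skip
              rcases Nat.lt_or_ge i 195200 with h7 | h7
              · skip
                exact allRangeF_sound _ _ (checkPointF_eq cert) 195100 100 chkP_195100 i (by omega) (by omega)
              · skip
                exact allRangeF_sound _ _ (checkPointF_eq cert) 195200 100 chkP_195200 i (by omega) (by omega)
            · skip
              rcases Nat.lt_or_ge i 195400 with h7 | h7
              · skip
                exact allRangeF_sound _ _ (checkPointF_eq cert) 195300 100 chkP_195300 i (by omega) (by omega)
              · skip
                rcases Nat.lt_or_ge i 195500 with h8 | h8
                · skip
                  exact allRangeF_sound _ _ (checkPointF_eq cert) 195400 100 chkP_195400 i (by omega) (by omega)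
                · skip
                  exact allRangeF_sound _ _ (checkPointF_eq cert) 195500 100 chkP_195500 i (by omega) (by omega)
          · skip
            rcases Nat.lt_or_ge i 195900 with h6 | h6
            · skip
              rcases Nat.lt_or_ge i 195700 with h7 | h7
              · skip
                exact allRangeF_sound _ _ (checkPointF_eq cert) 195600 100 chkP_195600 i (by omega) (by omega)
              · skip
                rcases Nat.lt_or_ge i 195800 with h8 | h8
                · skip
                  exact allRangeF_sound _ _ (checkPointF_eq cert) 195700 100 chkP_195700 i (by omega) (by omega)
                · skip
                  exact allRangeF_sound _ _ (checkPointF_eq cert) 195800 100 chkP_195800 i (by omega) (by omega)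
            · skip
              rcases Nat.lt_or_ge i 196000 with h7 | h7
              · skip
                exact allRangeF_sound _ _ (checkPointF_eq cert) 195900 100 chkP_195900 i (by omega) (by omega)
              · skip
                rcases Nat.lt_or_ge i 196100 with h8 | h8
                · skip
                  exact allRangeF_sound _ _ (checkPointF_eq cert) 196000 100 chkP_196000 i (by omega) (by omega)
                · skip
                  exact allRangeF_sound _ _ (checkPointF_eq cert) 196100 100 chkP_196100 i (by omega) (by omega)
    · skip
      rcases Nat.lt_or_ge i 198300 with h3 | h3
      · skip
        rcases Nat.lt_or_ge i 197200 with h4 | h4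
        · skip
          rcases Nat.lt_or_ge i 196700 with h5 | h5
          · skip
            rcases Nat.lt_or_ge i 196400 with h6 | h6
            · skip
              rcases Nat.lt_or_ge i 196300 with h7 | h7
              · skip
                exact allRangeF_sound _ _ (checkPointF_eq cert) 196200 100 chkP_196200 i (by omega) (by omega)
              · skip
                exact allRangeF_sound _ _ (checkPointF_eq cert) 196300 100 chkP_196300 i (by omega) (by omega)
            · skip
              rcases Nat.lt_or_ge i 196500 with h7 | h7
              · skip
                exact allRangeF_sound _ _ (checkPointF_eq cert) 196400 100 chkP_196400 i (by omega) (by omega)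
              · skip
                rcases Nat.lt_or_ge i 196600 with h8 | h8
                · skip
                  exact allRangeF_sound _ _ (checkPointF_eq cert) 196500 100 chkP_196500 i (by omega) (by omega)
                · skip
                  exact allRangeF_sound _ _ (checkPointF_eq cert) 196600 100 chkP_196600 i (by omega) (by omega)
          · skip
            rcases Nat.lt_or_ge i 196900 with h6 | h6
            · skip
              rcases Nat.lt_or_ge i 196800 with h7 | h7
              · skip
                exact allRangeF_sound _ _ (checkPointF_eq cert) 196700 100 chkP_196700 i (by omega) (by omega)
              · skip
                exact allRangeF_sound _ _ (checkPointF_eq cert) 196800 100 chkP_196800 i (by omega) (by omega)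
            · skip
              rcases Nat.lt_or_ge i 197000 with h7 | h7
              · skip
                exact allRangeF_sound _ _ (checkPointF_eq cert) 196900 100 chkP_196900 i (by omega) (by omega)
              · skip
                rcases Nat.lt_or_ge i 197100 with h8 | h8
                · skip
                  exact allRangeF_sound _ _ (checkPointF_eq cert) 197000 100 chkP_197000 i (by omega) (by omega)
                · skip
                  exact allRangeF_sound _ _ (checkPointF_eq cert) 197100 100 chkP_197100 i (by omega) (by omega)
        · skip
          rcases Nat.lt_or_ge i 197700 with h5 | h5
          · skip
            rcases Nat.lt_or_ge i 197400 with h6 | h6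
            · skip
              rcases Nat.lt_or_ge i 197300 with h7 | h7
              · skip
                exact allRangeF_sound _ _ (checkPointF_eq cert) 197200 100 chkP_197200 i (by omega) (by omega)
              · skip
                exact allRangeF_sound _ _ (checkPointF_eq cert) 197300 100 chkP_197300 i (by omega) (by omega)
            · skip
              rcases Nat.lt_or_ge i 197500 with h7 | h7
              · skip
                exact allRangeF_sound _ _ (checkPointF_eq cert) 197400 100 chkP_197400 i (by omega) (by omega)
              · skip
                rcases Nat.lt_or_ge i 197600 with h8 | h8
                · skip
                  exact allRangeF_sound _ _ (checkPointF_eq cert) 197500 100 chkP_197500 i (by omega) (by omega)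
                · skip
                  exact allRangeF_sound _ _ (checkPointF_eq cert) 197600 100 chkP_197600 i (by omega) (by omega)
          · skip
            rcases Nat.lt_or_ge i 198000 with h6 | h6
            · skip
              rcases Nat.lt_or_ge i 197800 with h7 | h7
              · skip
                exact allRangeF_sound _ _ (checkPointF_eq cert) 197700 100 chkP_197700 i (by omega) (by omega)
              · skip
                rcases Nat.lt_or_ge i 197900 with h8 | h8
                · skip
                  exact allRangeF_sound _ _ (checkPointF_eq cert) 197800 100 chkP_197800 i (by omega) (by omega)
                · skip
                  exact allRangeF_sound _ _ (checkPointF_eq cert) 197900 100 chkP_197900 i (by omega) (by omega)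
            · skip
              rcases Nat.lt_or_ge i 198100 with h7 | h7
              · skip
                exact allRangeF_sound _ _ (checkPointF_eq cert) 198000 100 chkP_198000 i (by omega) (by omega)
              · skip
                rcases Nat.lt_or_ge i 198200 with h8 | h8
                · skip
                  exact allRangeF_sound _ _ (checkPointF_eq cert) 198100 100 chkP_198100 i (by omega) (by omega)
                · skip
                  exact allRangeF_sound _ _ (checkPointF_eq cert) 198200 100 chkP_198200 i (by omega) (by omega)
      · skip
        rcases Nat.lt_or_ge i 199300 with h4 | h4
        · skip
          rcases Nat.lt_or_ge i 198800 with h5 | h5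
          · skip
            rcases Nat.lt_or_ge i 198500 with h6 | h6
            · skip
              rcases Nat.lt_or_ge i 198400 with h7 | h7
              · skip
                exact allRangeF_sound _ _ (checkPointF_eq cert) 198300 100 chkP_198300 i (by omega) (by omega)
              · skip
                exact allRangeF_sound _ _ (checkPointF_eq cert) 198400 100 chkP_198400 i (by omega) (by omega)
            · skip
              rcases Nat.lt_or_ge i 198600 with h7 | h7
              · skip
                exact allRangeF_sound _ _ (checkPointF_eq cert) 198500 100 chkP_198500 i (by omega) (by omega)
              · skip
                rcases Nat.lt_or_ge i 198700 with h8 | h8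
                · skip
                  exact allRangeF_sound _ _ (checkPointF_eq cert) 198600 100 chkP_198600 i (by omega) (by omega)
                · skip
                  exact allRangeF_sound _ _ (checkPointF_eq cert) 198700 100 chkP_198700 i (by omega) (by omega)
          · skip
            rcases Nat.lt_or_ge i 199000 with h6 | h6
            · skip
              rcases Nat.lt_or_ge i 198900 with h7 | h7
              · skip
                exact allRangeF_sound _ _ (checkPointF_eq cert) 198800 100 chkP_198800 i (by omega) (by omega)
              · skip
                exact allRangeF_sound _ _ (checkPointF_eq cert) 198900 100 chkP_198900 i (by omega) (by omega)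
            · skip
              rcases Nat.lt_or_ge i 199100 with h7 | h7
              · skip
                exact allRangeF_sound _ _ (checkPointF_eq cert) 199000 100 chkP_199000 i (by omega) (by omega)
              · skip
                rcases Nat.lt_or_ge i 199200 with h8 | h8
                · skip
                  exact allRangeF_sound _ _ (checkPointF_eq cert) 199100 100 chkP_199100 i (by omega) (by omega)
                · skip
                  exact allRangeF_sound _ _ (checkPointF_eq cert) 199200 100 chkP_199200 i (by omega) (by omega)
        · skip
          rcases Nat.lt_or_ge i 199800 with h5 | h5
          · skip
            rcases Nat.lt_or_ge i 199500 with h6 | h6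
            · skip
              rcases Nat.lt_or_ge i 199400 with h7 | h7
              · skip
                exact allRangeF_sound _ _ (checkPointF_eq cert) 199300 100 chkP_199300 i (by omega) (by omega)
              · skip
                exact allRangeF_sound _ _ (checkPointF_eq cert) 199400 100 chkP_199400 i (by omega) (by omega)
            · skip
              rcases Nat.lt_or_ge i 199600 with h7 | h7
              · skip
                exact allRangeF_sound _ _ (checkPointF_eq cert) 199500 100 chkP_199500 i (by omega) (by omega)
              · skip
                rcases Nat.lt_or_ge i 199700 with h8 | h8
                · skip
                  exact allRangeF_sound _ _ (checkPointF_eq cert) 199600 100 chkP_199600 i (by omega) (by omega)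
                · skip
                  exact allRangeF_sound _ _ (checkPointF_eq cert) 199700 100 chkP_199700 i (by omega) (by omega)
          · skip
            rcases Nat.lt_or_ge i 200100 with h6 | h6
            · skip
              rcases Nat.lt_or_ge i 199900 with h7 | h7
              · skip
                exact allRangeF_sound _ _ (checkPointF_eq cert) 199800 100 chkP_199800 i (by omega) (by omega)
              · skip
                rcases Nat.lt_or_ge i 200000 with h8 | h8
                · skip
                  exact allRangeF_sound _ _ (checkPointF_eq cert) 199900 100 chkP_199900 i (by omega) (by omega)
                · skip
                  exact allRangeF_sound _ _ (checkPointF_eq cert) 200000 100 chkP_200000 i (by omega) (by omega)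
            · skip
              rcases Nat.lt_or_ge i 200200 with h7 | h7
              · skip
                exact allRangeF_sound _ _ (checkPointF_eq cert) 200100 100 chkP_200100 i (by omega) (by omega)
              · skip
                rcases Nat.lt_or_ge i 200300 with h8 | h8
                · skip
                  exact allRangeF_sound _ _ (checkPointF_eq cert) 200200 100 chkP_200200 i (by omega) (by omega)
                · skip
                  exact allRangeF_sound _ _ (checkPointF_eq cert) 200300 100 chkP_200300 i (by omega) (by omega)

end Cfsg.Agent.Lib.Helper28.He2Data
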