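import Cfsg.Agent.Lib.Helper28.He2Data
import Cfsg.Agent.Lib.Helper28.TCFast

set_option autoImplicit false
set_option maxRecDepth 1000000
set_option linter.all false
set_option Elab.async false

namespace Cfsg.Agent.Lib.Helper28.He2Data

open Cfsg.Agent.Lib.Helper28

theorem chkP_200400 : allRangeF (checkPointF cert) (nat_lit 200400) (nat_lit 100) = true := by decide +kernel
theorem chkP_200500 : allRangeF (checkPointF cert) (nat_lit 200500) (nat_lit 100) = true := by decide +kernel
theorem chkP_200600 : allRangeF (checkPointF cert) (nat_lit 200600) (nat_lit 100) = true := by decide +kernel
theorem chkP_200700 : allRangeF (checkPointF cert) (nat_lit 200700) (nat_lit 100) = true := by decide +kernel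
theorem chkP_200800 : allRangeF (checkPointF cert) (nat_lit 200800) (nat_lit 100) = true := by decide +kernel
theorem chkP_200900 : allRangeF (checkPointF cert) (nat_lit 200900) (nat_lit 100) = true := by decide +kernel
theorem chkP_201000 : allRangeF (checkPointF cert) (nat_lit 201000) (nat_lit 100) = true := by decide +kernel
theorem chkP_201100 : allRangeF (checkPointF cert) (nat_lit 201100) (nat_lit 100) = true := by decide +kernel
theorem chkP_201200 : allRangeF (checkPointF cert) (nat_lit 201200) (nat_lit 100) = true := by decide +kernel
theorem chkP_201300 : allRangeF (checkPointF cert) (nat_lit 201300) (nat_lit 100) = true := by decide +kernel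
theorem chkP_201400 : allRangeF (checkPointF cert) (nat_lit 201400) (nat_lit 100) = true := by decide +kernel
theorem chkP_201500 : allRangeF (checkPointF cert) (nat_lit 201500) (nat_lit 100) = true := by decide +kernel
theorem chkP_201600 : allRangeF (checkPointF cert) (nat_lit 201600) (nat_lit 100) = true := by decide +kernel
theorem chkP_201700 : allRangeF (checkPointF cert) (nat_lit 201700) (nat_lit 100) = true := by decide +kernel
theorem chkP_201800 : allRangeF (checkPointF cert) (nat_lit 201800) (nat_lit 100) = true := by decide +kernel
theorem chkP_201900 : allRangeF (checkPointF cert) (nat_lit 201900) (nat_lit 100) = true := by decide +kernel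
theorem chkP_202000 : allRangeF (checkPointF cert) (nat_lit 202000) (nat_lit 100) = true := by decide +kernel
theorem chkP_202100 : allRangeF (checkPointF cert) (nat_lit 202100) (nat_lit 100) = true := by decide +kernel
theorem chkP_202200 : allRangeF (checkPointF cert) (nat_lit 202200) (nat_lit 100) = true := by decide +kernel
theorem chkP_202300 : allRangeF (checkPointF cert) (nat_lit 202300) (nat_lit 100) = true := by decide +kernel
theorem chkP_202400 : allRangeF (checkPointF cert) (nat_lit 202400) (nat_lit 100) = true := by decide +kernel
theorem chkP_202500 : allRangeF (checkPointF cert) (nat_lit 202500) (nat_lit 100) = true := by decide +kernel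
theorem chkP_202600 : allRangeF (checkPointF cert) (nat_lit 202600) (nat_lit 100) = true := by decide +kernel
theorem chkP_202700 : allRangeF (checkPointF cert) (nat_lit 202700) (nat_lit 100) = true := by decide +kernel
theorem chkP_202800 : allRangeF (checkPointF cert) (nat_lit 202800) (nat_lit 100) = true := by decide +kernel
theorem chkP_202900 : allRangeF (checkPointF cert) (nat_lit 202900) (nat_lit 100) = true := by decide +kernel
theorem chkP_203000 : allRangeF (checkPointF cert) (nat_lit 203000) (nat_lit 100) = true := by decide +kernel
theorem chkP_203100 : allRangeF (checkPointF cert) (nat_lit 203100) (nat_lit 100) = true := by decide +kernel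
theorem chkP_203200 : allRangeF (checkPointF cert) (nat_lit 203200) (nat_lit 100) = true := by decide +kernel
theorem chkP_203300 : allRangeF (checkPointF cert) (nat_lit 203300) (nat_lit 100) = true := by decide +kernel
theorem chkP_203400 : allRangeF (checkPointF cert) (nat_lit 203400) (nat_lit 100) = true := by decide +kernel
theorem chkP_203500 : allRangeF (checkPointF cert) (nat_lit 203500) (nat_lit 100) = true := by decide +kernel
theorem chkP_203600 : allRangeF (checkPointF cert) (nat_lit 203600) (nat_lit 100) = true := by decide +kernel
theorem chkP_203700 : allRangeF (checkPointF cert) (nat_lit 203700) (nat_lit 100) = true := by decide +kernel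
theorem chkP_203800 : allRangeF (checkPointF cert) (nat_lit 203800) (nat_lit 100) = true := by decide +kernel
theorem chkP_203900 : allRangeF (checkPointF cert) (nat_lit 203900) (nat_lit 100) = true := by decide +kernel
theorem chkP_204000 : allRangeF (checkPointF cert) (nat_lit 204000) (nat_lit 100) = true := by decide +kernel
theorem chkP_204100 : allRangeF (checkPointF cert) (nat_lit 204100) (nat_lit 100) = true := by decide +kernel
theorem chkP_204200 : allRangeF (checkPointF cert) (nat_lit 204200) (nat_lit 100) = true := by decide +kernel
theorem chkP_204300 : allRangeF (checkPointF cert) (nat_lit 204300) (nat_lit 100) = true := by decide +kernel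
theorem chkP_204400 : allRangeF (checkPointF cert) (nat_lit 204400) (nat_lit 100) = true := by decide +kernel
theorem chkP_204500 : allRangeF (checkPointF cert) (nat_lit 204500) (nat_lit 100) = true := by decide +kernel
theorem chkP_204600 : allRangeF (checkPointF cert) (nat_lit 204600) (nat_lit 100) = true := by decide +kernel
theorem chkP_204700 : allRangeF (checkPointF cert) (nat_lit 204700) (nat_lit 100) = true := by decide +kernel
theorem chkP_204800 : allRangeF (checkPointF cert) (nat_lit 204800) (nat_lit 100) = true := by decide +kernel
theorem chkP_204900 : allRangeF (checkPointF cert) (nat_lit 204900) (nat_lit 100) = true := by decide +kernel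
theorem chkP_205000 : allRangeF (checkPointF cert) (nat_lit 205000) (nat_lit 100) = true := by decide +kernel
theorem chkP_205100 : allRangeF (checkPointF cert) (nat_lit 205100) (nat_lit 100) = true := by decide +kernel
theorem chkP_205200 : allRangeF (checkPointF cert) (nat_lit 205200) (nat_lit 100) = true := by decide +kernel
theorem chkP_205300 : allRangeF (checkPointF cert) (nat_lit 205300) (nat_lit 100) = true := by decide +kernel
theorem chkP_205400 : allRangeF (checkPointF cert) (nat_lit 205400) (nat_lit 100) = true := by decide +kernel
theorem chkP_205500 : allRangeF (checkPointF cert) (nat_lit 205500) (nat_lit 100) = true := by decide +kernel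
theorem chkP_205600 : allRangeF (checkPointF cert) (nat_lit 205600) (nat_lit 100) = true := by decide +kernel
theorem chkP_205700 : allRangeF (checkPointF cert) (nat_lit 205700) (nat_lit 100) = true := by decide +kernel
theorem chkP_205800 : allRangeF (checkPointF cert) (nat_lit 205800) (nat_lit 100) = true := by decide +kernel
theorem chkP_205900 : allRangeF (checkPointF cert) (nat_lit 205900) (nat_lit 100) = true := by decide +kernel
theorem chkP_206000 : allRangeF (checkPointF cert) (nat_lit 206000) (nat_lit 100) = true := by decide +kernel
theorem chkP_206100 : allRangeF (checkPointF cert) (nat_lit 206100) (nat_lit 100) = true := by decide +kernel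
theorem chkP_206200 : allRangeF (checkPointF cert) (nat_lit 206200) (nat_lit 100) = true := by decide +kernel
theorem chkP_206300 : allRangeF (checkPointF cert) (nat_lit 206300) (nat_lit 100) = true := by decide +kernel
theorem chkP_206400 : allRangeF (checkPointF cert) (nat_lit 206400) (nat_lit 100) = true := by decide +kernel
theorem chkP_206500 : allRangeF (checkPointF cert) (nat_lit 206500) (nat_lit 100) = true := by decide +kernel
theorem chkP_206600 : allRangeF (checkPointF cert) (nat_lit 206600) (nat_lit 100) = true := by decide +kernel
theorem chkP_206700 : allRangeF (checkPointF cert) (nat_lit 206700) (nat_lit 100) = true := by decide +kernel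
theorem chkP_206800 : allRangeF (checkPointF cert) (nat_lit 206800) (nat_lit 100) = true := by decide +kernel
theorem chkP_206900 : allRangeF (checkPointF cert) (nat_lit 206900) (nat_lit 100) = true := by decide +kernel
theorem chkP_207000 : allRangeF (checkPointF cert) (nat_lit 207000) (nat_lit 100) = true := by decide +kernel
theorem chkP_207100 : allRangeF (checkPointF cert) (nat_lit 207100) (nat_lit 100) = true := by decide +kernel
theorem chkP_207200 : allRangeF (checkPointF cert) (nat_lit 207200) (nat_lit 100) = true := by decide +kernel
theorem chkP_207300 : allRangeF (checkPointF cert) (nat_lit 207300) (nat_lit 100) = true := by decide +kernel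
theorem chkP_207400 : allRangeF (checkPointF cert) (nat_lit 207400) (nat_lit 100) = true := by decide +kernel
theorem chkP_207500 : allRangeF (checkPointF cert) (nat_lit 207500) (nat_lit 100) = true := by decide +kernel
theorem chkP_207600 : allRangeF (checkPointF cert) (nat_lit 207600) (nat_lit 100) = true := by decide +kernel
theorem chkP_207700 : allRangeF (checkPointF cert) (nat_lit 207700) (nat_lit 100) = true := by decide +kernel
theorem chkP_207800 : allRangeF (checkPointF cert) (nat_lit 207800) (nat_lit 100) = true := by decide +kernel
theorem chkP_207900 : allRangeF (checkPointF cert) (nat_lit 207900) (nat_lit 100) = true := by decide +kernel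
theorem chkP_208000 : allRangeF (checkPointF cert) (nat_lit 208000) (nat_lit 100) = true := by decide +kernel
theorem chkP_208100 : allRangeF (checkPointF cert) (nat_lit 208100) (nat_lit 100) = true := by decide +kernel
theorem chkP_208200 : allRangeF (checkPointF cert) (nat_lit 208200) (nat_lit 100) = true := by decide +kernel
theorem chkP_208300 : allRangeF (checkPointF cert) (nat_lit 208300) (nat_lit 100) = true := by decide +kernel
theorem chkP_208400 : allRangeF (checkPointF cert) (nat_lit 208400) (nat_lit 100) = true := by decide +kernel
theorem chkP_208500 : allRangeF (checkPointF cert) (nat_lit 208500) (nat_lit 100) = true := by decide +kernel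
theorem chkP_208600 : allRangeF (checkPointF cert) (nat_lit 208600) (nat_lit 100) = true := by decide +kernel
theorem chkP_208700 : allRangeF (checkPointF cert) (nat_lit 208700) (nat_lit 100) = true := by decide +kernel
theorem chkP_208800 : allRangeF (checkPointF cert) (nat_lit 208800) (nat_lit 100) = true := by decide +kernel
theorem chkP_208900 : allRangeF (checkPointF cert) (nat_lit 208900) (nat_lit 100) = true := by decide +kernel
theorem chkP_209000 : allRangeF (checkPointF cert) (nat_lit 209000) (nat_lit 100) = true := by decide +kernel
theorem chkP_209100 : allRangeF (checkPointF cert) (nat_lit 209100) (nat_lit 100) = true := by decide +kernel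
theorem chkP_209200 : allRangeF (checkPointF cert) (nat_lit 209200) (nat_lit 100) = true := by decide +kernel
theorem chkP_209300 : allRangeF (checkPointF cert) (nat_lit 209300) (nat_lit 100) = true := by decide +kernel
theorem chkP_209400 : allRangeF (checkPointF cert) (nat_lit 209400) (nat_lit 100) = true := by decide +kernel
theorem chkP_209500 : allRangeF (checkPointF cert) (nat_lit 209500) (nat_lit 100) = true := by decide +kernel
theorem chkP_209600 : allRangeF (checkPointF cert) (nat_lit 209600) (nat_lit 100) = true := by decide +kernel
theorem chkP_209700 : allRangeF (checkPointF cert) (nat_lit 209700) (nat_lit 100) = true := by decide +kernel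
theorem chkP_209800 : allRangeF (checkPointF cert) (nat_lit 209800) (nat_lit 100) = true := by decide +kernel
theorem chkP_209900 : allRangeF (checkPointF cert) (nat_lit 209900) (nat_lit 100) = true := by decide +kernel
theorem chkP_210000 : allRangeF (checkPointF cert) (nat_lit 210000) (nat_lit 100) = true := by decide +kernel
theorem chkP_210100 : allRangeF (checkPointF cert) (nat_lit 210100) (nat_lit 100) = true := by decide +kernel
theorem chkP_210200 : allRangeF (checkPointF cert) (nat_lit 210200) (nat_lit 100) = true := by decide +kernel
theorem chkP_210300 : allRangeF (checkPointF cert) (nat_lit 210300) (nat_lit 100) = true := by decide +kernel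
theorem chkP_210400 : allRangeF (checkPointF cert) (nat_lit 210400) (nat_lit 100) = true := by decide +kernel
theorem chkP_210500 : allRangeF (checkPointF cert) (nat_lit 210500) (nat_lit 100) = true := by decide +kernel
theorem chkP_210600 : allRangeF (checkPointF cert) (nat_lit 210600) (nat_lit 100) = true := by decide +kernel
theorem chkP_210700 : allRangeF (checkPointF cert) (nat_lit 210700) (nat_lit 100) = true := by decide +kernel
theorem chkP_210800 : allRangeF (checkPointF cert) (nat_lit 210800) (nat_lit 100) = true := by decide +kernel
theorem chkP_210900 : allRangeF (checkPointF cert) (nat_lit 210900) (nat_lit 100) = true := by decide +kernel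
theorem chkP_211000 : allRangeF (checkPointF cert) (nat_lit 211000) (nat_lit 100) = true := by decide +kernel
theorem chkP_211100 : allRangeF (checkPointF cert) (nat_lit 211100) (nat_lit 100) = true := by decide +kernel
theorem chkP_211200 : allRangeF (checkPointF cert) (nat_lit 211200) (nat_lit 100) = true := by decide +kernel
theorem chkP_211300 : allRangeF (checkPointF cert) (nat_lit 211300) (nat_lit 100) = true := by decide +kernel
theorem chkP_211400 : allRangeF (checkPointF cert) (nat_lit 211400) (nat_lit 100) = true := by decide +kernel
theorem chkP_211500 : allRangeF (checkPointF cert) (nat_lit 211500) (nat_lit 100) = true := by decide +kernel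
theorem chkP_211600 : allRangeF (checkPointF cert) (nat_lit 211600) (nat_lit 100) = true := by decide +kernel
theorem chkP_211700 : allRangeF (checkPointF cert) (nat_lit 211700) (nat_lit 100) = true := by decide +kernel
theorem chkP_211800 : allRangeF (checkPointF cert) (nat_lit 211800) (nat_lit 100) = true := by decide +kernel
theorem chkP_211900 : allRangeF (checkPointF cert) (nat_lit 211900) (nat_lit 100) = true := by decide +kernel
theorem chkP_212000 : allRangeF (checkPointF cert) (nat_lit 212000) (nat_lit 100) = true := by decide +kernel
theorem chkP_212100 : allRangeF (checkPointF cert) (nat_lit 212100) (nat_lit 100) = true := by decide +kernel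
theorem chkP_212200 : allRangeF (checkPointF cert) (nat_lit 212200) (nat_lit 100) = true := by decide +kernel
theorem chkP_212300 : allRangeF (checkPointF cert) (nat_lit 212300) (nat_lit 100) = true := by decide +kernel
theorem chkP_212400 : allRangeF (checkPointF cert) (nat_lit 212400) (nat_lit 100) = true := by decide +kernel
theorem chkP_212500 : allRangeF (checkPointF cert) (nat_lit 212500) (nat_lit 100) = true := by decide +kernel
theorem chkP_212600 : allRangeF (checkPointF cert) (nat_lit 212600) (nat_lit 100) = true := by decide +kernel
theorem chkP_212700 : allRangeF (checkPointF cert) (nat_lit 212700) (nat_lit 100) = true := by decide +kernel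
theorem chkP_212800 : allRangeF (checkPointF cert) (nat_lit 212800) (nat_lit 100) = true := by decide +kernel
theorem chkP_212900 : allRangeF (checkPointF cert) (nat_lit 212900) (nat_lit 100) = true := by decide +kernel
theorem chkP_213000 : allRangeF (checkPointF cert) (nat_lit 213000) (nat_lit 100) = true := by decide +kernel
theorem chkP_213100 : allRangeF (checkPointF cert) (nat_lit 213100) (nat_lit 100) = true := by decide +kernel
theorem chkP_213200 : allRangeF (checkPointF cert) (nat_lit 213200) (nat_lit 100) = true := by decide +kernel
theorem chkP_213300 : allRangeF (checkPointF cert) (nat_lit 213300) (nat_lit 100) = true := by decide +kernel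
theorem chkP_213400 : allRangeF (checkPointF cert) (nat_lit 213400) (nat_lit 100) = true := by decide +kernel
theorem chkP_213500 : allRangeF (checkPointF cert) (nat_lit 213500) (nat_lit 100) = true := by decide +kernel
theorem chkP_213600 : allRangeF (checkPointF cert) (nat_lit 213600) (nat_lit 100) = true := by decide +kernel
theorem chkP_213700 : allRangeF (checkPointF cert) (nat_lit 213700) (nat_lit 100) = true := by decide +kernel
theorem chkP_213800 : allRangeF (checkPointF cert) (nat_lit 213800) (nat_lit 100) = true := by decide +kernel
theorem chkP_213900 : allRangeF (checkPointF cert) (nat_lit 213900) (nat_lit 100) = true := by decide +kernel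
theorem chkP_214000 : allRangeF (checkPointF cert) (nat_lit 214000) (nat_lit 100) = true := by decide +kernel
theorem chkP_214100 : allRangeF (checkPointF cert) (nat_lit 214100) (nat_lit 100) = true := by decide +kernel
theorem chkP_214200 : allRangeF (checkPointF cert) (nat_lit 214200) (nat_lit 100) = true := by decide +kernel
theorem chkP_214300 : allRangeF (checkPointF cert) (nat_lit 214300) (nat_lit 100) = true := by decide +kernel
theorem chkP_214400 : allRangeF (checkPointF cert) (nat_lit 214400) (nat_lit 100) = true := by decide +kernel
theorem chkP_214500 : allRangeF (checkPointF cert) (nat_lit 214500) (nat_lit 100) = true := by decide +kernel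
theorem chkP_214600 : allRangeF (checkPointF cert) (nat_lit 214600) (nat_lit 100) = true := by decide +kernel
theorem chkP_214700 : allRangeF (checkPointF cert) (nat_lit 214700) (nat_lit 100) = true := by decide +kernel
theorem chkP_214800 : allRangeF (checkPointF cert) (nat_lit 214800) (nat_lit 100) = true := by decide +kernel
theorem chkP_214900 : allRangeF (checkPointF cert) (nat_lit 214900) (nat_lit 100) = true := by decide +kernel
theorem chkP_215000 : allRangeF (checkPointF cert) (nat_lit 215000) (nat_lit 100) = true := by decide +kernel
theorem chkP_215100 : allRangeF (checkPointF cert) (nat_lit 215100) (nat_lit 100) = true := by decide +kernel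
theorem chkP_215200 : allRangeF (checkPointF cert) (nat_lit 215200) (nat_lit 100) = true := by decide +kernel
theorem chkP_215300 : allRangeF (checkPointF cert) (nat_lit 215300) (nat_lit 100) = true := by decide +kernel
theorem chkP_215400 : allRangeF (checkPointF cert) (nat_lit 215400) (nat_lit 100) = true := by decide +kernel
theorem chkP_215500 : allRangeF (checkPointF cert) (nat_lit 215500) (nat_lit 100) = true := by decide +kernel
theorem chkP_215600 : allRangeF (checkPointF cert) (nat_lit 215600) (nat_lit 100) = true := by decide +kernel
theorem chkP_215700 : allRangeF (checkPointF cert) (nat_lit 215700) (nat_lit 100) = true := by decide +kernel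
theorem chkP_215800 : allRangeF (checkPointF cert) (nat_lit 215800) (nat_lit 100) = true := by decide +kernel
theorem chkP_215900 : allRangeF (checkPointF cert) (nat_lit 215900) (nat_lit 100) = true := by decide +kernel
theorem chkP_216000 : allRangeF (checkPointF cert) (nat_lit 216000) (nat_lit 100) = true := by decide +kernel
theorem chkP_216100 : allRangeF (checkPointF cert) (nat_lit 216100) (nat_lit 100) = true := by decide +kernel
theorem chkP_216200 : allRangeF (checkPointF cert) (nat_lit 216200) (nat_lit 100) = true := by decide +kernel
theorem chkP_216300 : allRangeF (checkPointF cert) (nat_lit 216300) (nat_lit 100) = true := by decide +kernel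
theorem chkP_216400 : allRangeF (checkPointF cert) (nat_lit 216400) (nat_lit 100) = true := by decide +kernel
theorem chkP_216500 : allRangeF (checkPointF cert) (nat_lit 216500) (nat_lit 100) = true := by decide +kernel
theorem chkP_216600 : allRangeF (checkPointF cert) (nat_lit 216600) (nat_lit 100) = true := by decide +kernel
theorem chkP_216700 : allRangeF (checkPointF cert) (nat_lit 216700) (nat_lit 100) = true := by decide +kernel
theorem chkP_216800 : allRangeF (checkPointF cert) (nat_lit 216800) (nat_lit 100) = true := by decide +kernel
theorem chkP_216900 : allRangeF (checkPointF cert) (nat_lit 216900) (nat_lit 100) = true := by decide +kernel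
theorem chkP_217000 : allRangeF (checkPointF cert) (nat_lit 217000) (nat_lit 100) = true := by decide +kernel

theorem ptsRange_12 : ∀ i, 200400 ≤ i → i < 217100 → checkPoint cert i = true := by
  intro i hlo hhi
  rcases Nat.lt_or_ge i 208700 with h1 | h1
  · skip
    rcases Nat.lt_or_ge i 204500 with h2 | h2
    · skip
      rcases Nat.lt_or_ge i 202400 with h3 | h3
      · skip
        rcases Nat.lt_or_ge i 201400 with h4 | h4
        · skip
          rcases Nat.lt_or_ge i 200900 with h5 | h5
          · skip
            rcases Nat.lt_or_ge i 200600 with h6 | h6
            · skip
              rcases Nat.lt_or_ge i 200500 with h7 | h7
              · skip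
                exact allRangeF_sound _ _ (checkPointF_eq cert) 200400 100 chkP_200400 i (by omega) (by omega)
              · skip
                exact allRangeF_sound _ _ (checkPointF_eq cert) 200500 100 chkP_200500 i (by omega) (by omega)
            · skip
              rcases Nat.lt_or_ge i 200700 with h7 | h7
              · skip
                exact allRangeF_sound _ _ (checkPointF_eq cert) 200600 100 chkP_200600 i (by omega) (by omega)
              · skip
                rcases Nat.lt_or_ge i 200800 with h8 | h8
                · skip
                  exact allRangeF_sound _ _ (checkPointF_eq cert) 200700 100 chkP_200700 i (by omega) (by omega)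
                · skip
                  exact allRangeF_sound _ _ (checkPointF_eq cert) 200800 100 chkP_200800 i (by omega) (by omega)
          · skip
            rcases Nat.lt_or_ge i 201100 with h6 | h6
            · skip
              rcases Nat.lt_or_ge i 201000 with h7 | h7
              · skip
                exact allRangeF_sound _ _ (checkPointF_eq cert) 200900 100 chkP_200900 i (by omega) (by omega)
              · skip
                exact allRangeF_sound _ _ (checkPointF_eq cert) 201000 100 chkP_201000 i (by omega) (by omega)
            · skip
              rcases Nat.lt_or_ge i 201200 with h7 | h7
              · skip
                exact allRangeF_sound _ _ (checkPointF_eq cert) 201100 100 chkP_201100 i (by omega) (by omega)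
              · skip
                rcases Nat.lt_or_ge i 201300 with h8 | h8
                · skip
                  exact allRangeF_sound _ _ (checkPointF_eq cert) 201200 100 chkP_201200 i (by omega) (by omega)
                · skip
                  exact allRangeF_sound _ _ (checkPointF_eq cert) 201300 100 chkP_201300 i (by omega) (by omega)
        · skip
          rcases Nat.lt_or_ge i 201900 with h5 | h5
          · skip
            rcases Nat.lt_or_ge i 201600 with h6 | h6
            · skip
              rcases Nat.lt_or_ge i 201500 with h7 | h7
              · skip
                exact allRangeF_sound _ _ (checkPointF_eq cert) 201400 100 chkP_201400 i (by omega) (by omega)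
              · skip
                exact allRangeF_sound _ _ (checkPointF_eq cert) 201500 100 chkP_201500 i (by omega) (by omega)
            · skip
              rcases Nat.lt_or_ge i 201700 with h7 | h7
              · skip
                exact allRangeF_sound _ _ (checkPointF_eq cert) 201600 100 chkP_201600 i (by omega) (by omega)
              · skip
                rcases Nat.lt_or_ge i 201800 with h8 | h8
                · skip
                  exact allRangeF_sound _ _ (checkPointF_eq cert) 201700 100 chkP_201700 i (by omega) (by omega)
                · skip
                  exact allRangeF_sound _ _ (checkPointF_eq cert) 201800 100 chkP_201800 i (by omega) (by omega)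
          · skip
            rcases Nat.lt_or_ge i 202100 with h6 | h6
            · skip
              rcases Nat.lt_or_ge i 202000 with h7 | h7
              · skip
                exact allRangeF_sound _ _ (checkPointF_eq cert) 201900 100 chkP_201900 i (by omega) (by omega)
              · skip
                exact allRangeF_sound _ _ (checkPointF_eq cert) 202000 100 chkP_202000 i (by omega) (by omega)
            · skip
              rcases Nat.lt_or_ge i 202200 with h7 | h7
              · skip
                exact allRangeF_sound _ _ (checkPointF_eq cert) 202100 100 chkP_202100 i (by omega) (by omega)
              · skip
                rcases Nat.lt_or_ge i 202300 with h8 | h8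
                · skip
                  exact allRangeF_sound _ _ (checkPointF_eq cert) 202200 100 chkP_202200 i (by omega) (by omega)
                · skip
                  exact allRangeF_sound _ _ (checkPointF_eq cert) 202300 100 chkP_202300 i (by omega) (by omega)
      · skip
        rcases Nat.lt_or_ge i 203400 with h4 | h4
        · skip
          rcases Nat.lt_or_ge i 202900 with h5 | h5
          · skip
            rcases Nat.lt_or_ge i 202600 with h6 | h6
            · skip
              rcases Nat.lt_or_ge i 202500 with h7 | h7
              · skip
                exact allRangeF_sound _ _ (checkPointF_eq cert) 202400 100 chkP_202400 i (by omega) (by omega)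
              · skip
                exact allRangeF_sound _ _ (checkPointF_eq cert) 202500 100 chkP_202500 i (by omega) (by omega)
            · skip
              rcases Nat.lt_or_ge i 202700 with h7 | h7
              · skip
                exact allRangeF_sound _ _ (checkPointF_eq cert) 202600 100 chkP_202600 i (by omega) (by omega)
              · skip
                rcases Nat.lt_or_ge i 202800 with h8 | h8
                · skip
                  exact allRangeF_sound _ _ (checkPointF_eq cert) 202700 100 chkP_202700 i (by omega) (by omega)
                · skip
                  exact allRangeF_sound _ _ (checkPointF_eq cert) 202800 100 chkP_202800 i (by omega) (by omega)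
          · skip
            rcases Nat.lt_or_ge i 203100 with h6 | h6
            · skip
              rcases Nat.lt_or_ge i 203000 with h7 | h7
              · skip
                exact allRangeF_sound _ _ (checkPointF_eq cert) 202900 100 chkP_202900 i (by omega) (by omega)
              · skip
                exact allRangeF_sound _ _ (checkPointF_eq cert) 203000 100 chkP_203000 i (by omega) (by omega)
            · skip
              rcases Nat.lt_or_ge i 203200 with h7 | h7
              · skip
                exact allRangeF_sound _ _ (checkPointF_eq cert) 203100 100 chkP_203100 i (by omega) (by omega)
              · skip
                rcases Nat.lt_or_ge i 203300 with h8 | h8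
                · skip
                  exact allRangeF_sound _ _ (checkPointF_eq cert) 203200 100 chkP_203200 i (by omega) (by omega)
                · skip
                  exact allRangeF_sound _ _ (checkPointF_eq cert) 203300 100 chkP_203300 i (by omega) (by omega)
        · skip
          rcases Nat.lt_or_ge i 203900 with h5 | h5
          · skip
            rcases Nat.lt_or_ge i 203600 with h6 | h6
            · skip
              rcases Nat.lt_or_ge i 203500 with h7 | h7
              · skip
                exact allRangeF_sound _ _ (checkPointF_eq cert) 203400 100 chkP_203400 i (by omega) (by omega)
              · skip
                exact allRangeF_sound _ _ (checkPointF_eq cert) 203500 100 chkP_203500 i (by omega) (by omega)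
            · skip
              rcases Nat.lt_or_ge i 203700 with h7 | h7
              · skip
                exact allRangeF_sound _ _ (checkPointF_eq cert) 203600 100 chkP_203600 i (by omega) (by omega)
              · skip
                rcases Nat.lt_or_ge i 203800 with h8 | h8
                · skip
                  exact allRangeF_sound _ _ (checkPointF_eq cert) 203700 100 chkP_203700 i (by omega) (by omega)
                · skip
                  exact allRangeF_sound _ _ (checkPointF_eq cert) 203800 100 chkP_203800 i (by omega) (by omega)
          · skip
            rcases Nat.lt_or_ge i 204200 with h6 | h6
            · skip
              rcases Nat.lt_or_ge i 204000 with h7 | h7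
              · skip
                exact allRangeF_sound _ _ (checkPointF_eq cert) 203900 100 chkP_203900 i (by omega) (by omega)
              · skip
                rcases Nat.lt_or_ge i 204100 with h8 | h8
                · skip
                  exact allRangeF_sound _ _ (checkPointF_eq cert) 204000 100 chkP_204000 i (by omega) (by omega)
                · skip
                  exact allRangeF_sound _ _ (checkPointF_eq cert) 204100 100 chkP_204100 i (by omega) (by omega)
            · skip
              rcases Nat.lt_or_ge i 204300 with h7 | h7
              · skip
                exact allRangeF_sound _ _ (checkPointF_eq cert) 204200 100 chkP_204200 i (by omega) (by omega)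
              · skip
                rcases Nat.lt_or_ge i 204400 with h8 | h8
                · skip
                  exact allRangeF_sound _ _ (checkPointF_eq cert) 204300 100 chkP_204300 i (by omega) (by omega)
                · skip
                  exact allRangeF_sound _ _ (checkPointF_eq cert) 204400 100 chkP_204400 i (by omega) (by omega)
    · skip
      rcases Nat.lt_or_ge i 206600 with h3 | h3
      · skip
        rcases Nat.lt_or_ge i 205500 with h4 | h4
        · skip
          rcases Nat.lt_or_ge i 205000 with h5 | h5
          · skip
            rcases Nat.lt_or_ge i 204700 with h6 | h6
            · skip
              rcases Nat.lt_or_ge i 204600 with h7 | h7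
              · skip
                exact allRangeF_sound _ _ (checkPointF_eq cert) 204500 100 chkP_204500 i (by omega) (by omega)
              · skip
                exact allRangeF_sound _ _ (checkPointF_eq cert) 204600 100 chkP_204600 i (by omega) (by omega)
            · skip
              rcases Nat.lt_or_ge i 204800 with h7 | h7
              · skip
                exact allRangeF_sound _ _ (checkPointF_eq cert) 204700 100 chkP_204700 i (by omega) (by omega)
              · skip
                rcases Nat.lt_or_ge i 204900 with h8 | h8
                · skip
                  exact allRangeF_sound _ _ (checkPointF_eq cert) 204800 100 chkP_204800 i (by omega) (by omega)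
                · skip
                  exact allRangeF_sound _ _ (checkPointF_eq cert) 204900 100 chkP_204900 i (by omega) (by omega)
          · skip
            rcases Nat.lt_or_ge i 205200 with h6 | h6
            · skip
              rcases Nat.lt_or_ge i 205100 with h7 | h7
              · skip
                exact allRangeF_sound _ _ (checkPointF_eq cert) 205000 100 chkP_205000 i (by omega) (by omega)
              · skip
                exact allRangeF_sound _ _ (checkPointF_eq cert) 205100 100 chkP_205100 i (by omega) (by omega)
            · skip
              rcases Nat.lt_or_ge i 205300 with h7 | h7
              · skip
                exact allRangeF_sound _ _ (checkPointF_eq cert) 205200 100 chkP_205200 i (by omega) (by omega)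
              · skip
                rcases Nat.lt_or_ge i 205400 with h8 | h8
                · skip
                  exact allRangeF_sound _ _ (checkPointF_eq cert) 205300 100 chkP_205300 i (by omega) (by omega)
                · skip
                  exact allRangeF_sound _ _ (checkPointF_eq cert) 205400 100 chkP_205400 i (by omega) (by omega)
        · skip
          rcases Nat.lt_or_ge i 206000 with h5 | h5
          · skip
            rcases Nat.lt_or_ge i 205700 with h6 | h6
            · skip
              rcases Nat.lt_or_ge i 205600 with h7 | h7
              · skip
                exact allRangeF_sound _ _ (checkPointF_eq cert) 205500 100 chkP_205500 i (by omega) (by omega)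
              · skip
                exact allRangeF_sound _ _ (checkPointF_eq cert) 205600 100 chkP_205600 i (by omega) (by omega)
            · skip
              rcases Nat.lt_or_ge i 205800 with h7 | h7
              · skip
                exact allRangeF_sound _ _ (checkPointF_eq cert) 205700 100 chkP_205700 i (by omega) (by omega)
              · skip
                rcases Nat.lt_or_ge i 205900 with h8 | h8
                · skip
                  exact allRangeF_sound _ _ (checkPointF_eq cert) 205800 100 chkP_205800 i (by omega) (by omega)
                · skip
                  exact allRangeF_sound _ _ (checkPointF_eq cert) 205900 100 chkP_205900 i (by omega) (by omega)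
          · skip
            rcases Nat.lt_or_ge i 206300 with h6 | h6
            · skip
              rcases Nat.lt_or_ge i 206100 with h7 | h7
              · skip
                exact allRangeF_sound _ _ (checkPointF_eq cert) 206000 100 chkP_206000 i (by omega) (by omega)
              · skip
                rcases Nat.lt_or_ge i 206200 with h8 | h8
                · skip
                  exact allRangeF_sound _ _ (checkPointF_eq cert) 206100 100 chkP_206100 i (by omega) (by omega)
                · skip
                  exact allRangeF_sound _ _ (checkPointF_eq cert) 206200 100 chkP_206200 i (by omega) (by omega)
            · skip
              rcases Nat.lt_or_ge i 206400 with h7 | h7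
              · skip
                exact allRangeF_sound _ _ (checkPointF_eq cert) 206300 100 chkP_206300 i (by omega) (by omega)
              · skip
                rcases Nat.lt_or_ge i 206500 with h8 | h8
                · skip
                  exact allRangeF_sound _ _ (checkPointF_eq cert) 206400 100 chkP_206400 i (by omega) (by omega)
                · skip
                  exact allRangeF_sound _ _ (checkPointF_eq cert) 206500 100 chkP_206500 i (by omega) (by omega)
      · skip
        rcases Nat.lt_or_ge i 207600 with h4 | h4
        · skip
          rcases Nat.lt_or_ge i 207100 with h5 | h5
          · skip
            rcases Nat.lt_or_ge i 206800 with h6 | h6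
            · skip
              rcases Nat.lt_or_ge i 206700 with h7 | h7
              · skip
                exact allRangeF_sound _ _ (checkPointF_eq cert) 206600 100 chkP_206600 i (by omega) (by omega)
              · skip
                exact allRangeF_sound _ _ (checkPointF_eq cert) 206700 100 chkP_206700 i (by omega) (by omega)
            · skip
              rcases Nat.lt_or_ge i 206900 with h7 | h7
              · skip
                exact allRangeF_sound _ _ (checkPointF_eq cert) 206800 100 chkP_206800 i (by omega) (by omega)
              · skip
                rcases Nat.lt_or_ge i 207000 with h8 | h8
                · skip
                  exact allRangeF_sound _ _ (checkPointF_eq cert) 206900 100 chkP_206900 i (by omega) (by omega)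
                · skip
                  exact allRangeF_sound _ _ (checkPointF_eq cert) 207000 100 chkP_207000 i (by omega) (by omega)
          · skip
            rcases Nat.lt_or_ge i 207300 with h6 | h6
            · skip
              rcases Nat.lt_or_ge i 207200 with h7 | h7
              · skip
                exact allRangeF_sound _ _ (checkPointF_eq cert) 207100 100 chkP_207100 i (by omega) (by omega)
              · skip
                exact allRangeF_sound _ _ (checkPointF_eq cert) 207200 100 chkP_207200 i (by omega) (by omega)
            · skip
              rcases Nat.lt_or_ge i 207400 with h7 | h7
              · skip
                exact allRangeF_sound _ _ (checkPointF_eq cert) 207300 100 chkP_207300 i (by omega) (by omega)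
              · skip
                rcases Nat.lt_or_ge i 207500 with h8 | h8
                · skip
                  exact allRangeF_sound _ _ (checkPointF_eq cert) 207400 100 chkP_207400 i (by omega) (by omega)
                · skip
                  exact allRangeF_sound _ _ (checkPointF_eq cert) 207500 100 chkP_207500 i (by omega) (by omega)
        · skip
          rcases Nat.lt_or_ge i 208100 with h5 | h5
          · skip
            rcases Nat.lt_or_ge i 207800 with h6 | h6
            · skip
              rcases Nat.lt_or_ge i 207700 with h7 | h7
              · skip
                exact allRangeF_sound _ _ (checkPointF_eq cert) 207600 100 chkP_207600 i (by omega) (by omega)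
              · skip
                exact allRangeF_sound _ _ (checkPointF_eq cert) 207700 100 chkP_207700 i (by omega) (by omega)
            · skip
              rcases Nat.lt_or_ge i 207900 with h7 | h7
              · skip
                exact allRangeF_sound _ _ (checkPointF_eq cert) 207800 100 chkP_207800 i (by omega) (by omega)
              · skip
                rcases Nat.lt_or_ge i 208000 with h8 | h8
                · skip
                  exact allRangeF_sound _ _ (checkPointF_eq cert) 207900 100 chkP_207900 i (by omega) (by omega)
                · skip
                  exact allRangeF_sound _ _ (checkPointF_eq cert) 208000 100 chkP_208000 i (by omega) (by omega)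
          · skip
            rcases Nat.lt_or_ge i 208400 with h6 | h6
            · skip
              rcases Nat.lt_or_ge i 208200 with h7 | h7
              · skip
                exact allRangeF_sound _ _ (checkPointF_eq cert) 208100 100 chkP_208100 i (by omega) (by omega)
              · skip
                rcases Nat.lt_or_ge i 208300 with h8 | h8
                · skip
                  exact allRangeF_sound _ _ (checkPointF_eq cert) 208200 100 chkP_208200 i (by omega) (by omega)
                · skip
                  exact allRangeF_sound _ _ (checkPointF_eq cert) 208300 100 chkP_208300 i (by omega) (by omega)
            · skip
              rcases Nat.lt_or_ge i 208500 with h7 | h7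
              · skip
                exact allRangeF_sound _ _ (checkPointF_eq cert) 208400 100 chkP_208400 i (by omega) (by omega)
              · skip
                rcases Nat.lt_or_ge i 208600 with h8 | h8
                · skip
                  exact allRangeF_sound _ _ (checkPointF_eq cert) 208500 100 chkP_208500 i (by omega) (by omega)
                · skip
                  exact allRangeF_sound _ _ (checkPointF_eq cert) 208600 100 chkP_208600 i (by omega) (by omega)
  · skip
    rcases Nat.lt_or_ge i 212900 with h2 | h2
    · skip
      rcases Nat.lt_or_ge i 210800 with h3 | h3
      · skip
        rcases Nat.lt_or_ge i 209700 with h4 | h4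
        · skip
          rcases Nat.lt_or_ge i 209200 with h5 | h5
          · skip
            rcases Nat.lt_or_ge i 208900 with h6 | h6
            · skip
              rcases Nat.lt_or_ge i 208800 with h7 | h7
              · skip
                exact allRangeF_sound _ _ (checkPointF_eq cert) 208700 100 chkP_208700 i (by omega) (by omega)
              · skip
                exact allRangeF_sound _ _ (checkPointF_eq cert) 208800 100 chkP_208800 i (by omega) (by omega)
            · skip
              rcases Nat.lt_or_ge i 209000 with h7 | h7
              · skip
                exact allRangeF_sound _ _ (checkPointF_eq cert) 208900 100 chkP_208900 i (by omega) (by omega)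
              · skip
                rcases Nat.lt_or_ge i 209100 with h8 | h8
                · skip
                  exact allRangeF_sound _ _ (checkPointF_eq cert) 209000 100 chkP_209000 i (by omega) (by omega)
                · skip
                  exact allRangeF_sound _ _ (checkPointF_eq cert) 209100 100 chkP_209100 i (by omega) (by omega)
          · skip
            rcases Nat.lt_or_ge i 209400 with h6 | h6
            · skip
              rcases Nat.lt_or_ge i 209300 with h7 | h7
              · skip
                exact allRangeF_sound _ _ (checkPointF_eq cert) 209200 100 chkP_209200 i (by omega) (by omega)
              · skip
                exact allRangeF_sound _ _ (checkPointF_eq cert) 209300 100 chkP_209300 i (by omega) (by omega)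
            · skip
              rcases Nat.lt_or_ge i 209500 with h7 | h7
              · skip
                exact allRangeF_sound _ _ (checkPointF_eq cert) 209400 100 chkP_209400 i (by omega) (by omega)
              · skip
                rcases Nat.lt_or_ge i 209600 with h8 | h8
                · skip
                  exact allRangeF_sound _ _ (checkPointF_eq cert) 209500 100 chkP_209500 i (by omega) (by omega)
                · skip
                  exact allRangeF_sound _ _ (checkPointF_eq cert) 209600 100 chkP_209600 i (by omega) (by omega)
        · skip
          rcases Nat.lt_or_ge i 210200 with h5 | h5
          · skip
            rcases Nat.lt_or_ge i 209900 with h6 | h6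
            · skip
              rcases Nat.lt_or_ge i 209800 with h7 | h7
              · skip
                exact allRangeF_sound _ _ (checkPointF_eq cert) 209700 100 chkP_209700 i (by omega) (by omega)
              · skip
                exact allRangeF_sound _ _ (checkPointF_eq cert) 209800 100 chkP_209800 i (by omega) (by omega)
            · skip
              rcases Nat.lt_or_ge i 210000 with h7 | h7
              · skip
                exact allRangeF_sound _ _ (checkPointF_eq cert) 209900 100 chkP_209900 i (by omega) (by omega)
              · skip
                rcases Nat.lt_or_ge i 210100 with h8 | h8
                · skip
                  exact allRangeF_sound _ _ (checkPointF_eq cert) 210000 100 chkP_210000 i (by omega) (by omega)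
                · skip
                  exact allRangeF_sound _ _ (checkPointF_eq cert) 210100 100 chkP_210100 i (by omega) (by omega)
          · skip
            rcases Nat.lt_or_ge i 210500 with h6 | h6
            · skip
              rcases Nat.lt_or_ge i 210300 with h7 | h7
              · skip
                exact allRangeF_sound _ _ (checkPointF_eq cert) 210200 100 chkP_210200 i (by omega) (by omega)
              · skip
                rcases Nat.lt_or_ge i 210400 with h8 | h8
                · skip
                  exact allRangeF_sound _ _ (checkPointF_eq cert) 210300 100 chkP_210300 i (by omega) (by omega)
                · skip
                  exact allRangeF_sound _ _ (checkPointF_eq cert) 210400 100 chkP_210400 i (by omega) (by omega)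
            · skip
              rcases Nat.lt_or_ge i 210600 with h7 | h7
              · skip
                exact allRangeF_sound _ _ (checkPointF_eq cert) 210500 100 chkP_210500 i (by omega) (by omega)
              · skip
                rcases Nat.lt_or_ge i 210700 with h8 | h8
                · skip
                  exact allRangeF_sound _ _ (checkPointF_eq cert) 210600 100 chkP_210600 i (by omega) (by omega)
                · skip
                  exact allRangeF_sound _ _ (checkPointF_eq cert) 210700 100 chkP_210700 i (by omega) (by omega)
      · skip
        rcases Nat.lt_or_ge i 211800 with h4 | h4
        · skip
          rcases Nat.lt_or_ge i 211300 with h5 | h5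
          · skip
            rcases Nat.lt_or_ge i 211000 with h6 | h6
            · skip
              rcases Nat.lt_or_ge i 210900 with h7 | h7
              · skip
                exact allRangeF_sound _ _ (checkPointF_eq cert) 210800 100 chkP_210800 i (by omega) (by omega)
              · skip
                exact allRangeF_sound _ _ (checkPointF_eq cert) 210900 100 chkP_210900 i (by omega) (by omega)
            · skip
              rcases Nat.lt_or_ge i 211100 with h7 | h7
              · skip
                exact allRangeF_sound _ _ (checkPointF_eq cert) 211000 100 chkP_211000 i (by omega) (by omega)
              · skip
                rcases Nat.lt_or_ge i 211200 with h8 | h8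
                · skip
                  exact allRangeF_sound _ _ (checkPointF_eq cert) 211100 100 chkP_211100 i (by omega) (by omega)
                · skip
                  exact allRangeF_sound _ _ (checkPointF_eq cert) 211200 100 chkP_211200 i (by omega) (by omega)
          · skip
            rcases Nat.lt_or_ge i 211500 with h6 | h6
            · skip
              rcases Nat.lt_or_ge i 211400 with h7 | h7
              · skip
                exact allRangeF_sound _ _ (checkPointF_eq cert) 211300 100 chkP_211300 i (by omega) (by omega)
              · skip
                exact allRangeF_sound _ _ (checkPointF_eq cert) 211400 100 chkP_211400 i (by omega) (by omega)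
            · skip
              rcases Nat.lt_or_ge i 211600 with h7 | h7
              · skip
                exact allRangeF_sound _ _ (checkPointF_eq cert) 211500 100 chkP_211500 i (by omega) (by omega)
              · skip
                rcases Nat.lt_or_ge i 211700 with h8 | h8
                · skip
                  exact allRangeF_sound _ _ (checkPointF_eq cert) 211600 100 chkP_211600 i (by omega) (by omega)
                · skip
                  exact allRangeF_sound _ _ (checkPointF_eq cert) 211700 100 chkP_211700 i (by omega) (by omega)
        · skip
          rcases Nat.lt_or_ge i 212300 with h5 | h5
          · skip
            rcases Nat.lt_or_ge i 212000 with h6 | h6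
            · skip
              rcases Nat.lt_or_ge i 211900 with h7 | h7
              · skip
                exact allRangeF_sound _ _ (checkPointF_eq cert) 211800 100 chkP_211800 i (by omega) (by omega)
              · skip
                exact allRangeF_sound _ _ (checkPointF_eq cert) 211900 100 chkP_211900 i (by omega) (by omega)
            · skip
              rcases Nat.lt_or_ge i 212100 with h7 | h7
              · skip
                exact allRangeF_sound _ _ (checkPointF_eq cert) 212000 100 chkP_212000 i (by omega) (by omega)
              · skip
                rcases Nat.lt_or_ge i 212200 with h8 | h8
                · skip
                  exact allRangeF_sound _ _ (checkPointF_eq cert) 212100 100 chkP_212100 i (by omega) (by omega)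
                · skip
                  exact allRangeF_sound _ _ (checkPointF_eq cert) 212200 100 chkP_212200 i (by omega) (by omega)
          · skip
            rcases Nat.lt_or_ge i 212600 with h6 | h6
            · skip
              rcases Nat.lt_or_ge i 212400 with h7 | h7
              · skip
                exact allRangeF_sound _ _ (checkPointF_eq cert) 212300 100 chkP_212300 i (by omega) (by omega)
              · skip
                rcases Nat.lt_or_ge i 212500 with h8 | h8
                · skip
                  exact allRangeF_sound _ _ (checkPointF_eq cert) 212400 100 chkP_212400 i (by omega) (by omega)
                · skip
                  exact allRangeF_sound _ _ (checkPointF_eq cert) 212500 100 chkP_212500 i (by omega) (by omega)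
            · skip
              rcases Nat.lt_or_ge i 212700 with h7 | h7
              · skip
                exact allRangeF_sound _ _ (checkPointF_eq cert) 212600 100 chkP_212600 i (by omega) (by omega)
              · skip
                rcases Nat.lt_or_ge i 212800 with h8 | h8
                · skip
                  exact allRangeF_sound _ _ (checkPointF_eq cert) 212700 100 chkP_212700 i (by omega) (by omega)
                · skip
                  exact allRangeF_sound _ _ (checkPointF_eq cert) 212800 100 chkP_212800 i (by omega) (by omega)
    · skip
      rcases Nat.lt_or_ge i 215000 with h3 | h3
      · skip
        rcases Nat.lt_or_ge i 213900 with h4 | h4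
        · skip
          rcases Nat.lt_or_ge i 213400 with h5 | h5
          · skip
            rcases Nat.lt_or_ge i 213100 with h6 | h6
            · skip
              rcases Nat.lt_or_ge i 213000 with h7 | h7
              · skip
                exact allRangeF_sound _ _ (checkPointF_eq cert) 212900 100 chkP_212900 i (by omega) (by omega)
              · skip
                exact allRangeF_sound _ _ (checkPointF_eq cert) 213000 100 chkP_213000 i (by omega) (by omega)
            · skip
              rcases Nat.lt_or_ge i 213200 with h7 | h7
              · skip
                exact allRangeF_sound _ _ (checkPointF_eq cert) 213100 100 chkP_213100 i (by omega) (by omega)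
              · skip
                rcases Nat.lt_or_ge i 213300 with h8 | h8
                · skip
                  exact allRangeF_sound _ _ (checkPointF_eq cert) 213200 100 chkP_213200 i (by omega) (by omega)
                · skip
                  exact allRangeF_sound _ _ (checkPointF_eq cert) 213300 100 chkP_213300 i (by omega) (by omega)
          · skip
            rcases Nat.lt_or_ge i 213600 with h6 | h6
            · skip
              rcases Nat.lt_or_ge i 213500 with h7 | h7
              · skip
                exact allRangeF_sound _ _ (checkPointF_eq cert) 213400 100 chkP_213400 i (by omega) (by omega)
              · skip
                exact allRangeF_sound _ _ (checkPointF_eq cert) 213500 100 chkP_213500 i (by omega) (by omega)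
            · skip
              rcases Nat.lt_or_ge i 213700 with h7 | h7
              · skip
                exact allRangeF_sound _ _ (checkPointF_eq cert) 213600 100 chkP_213600 i (by omega) (by omega)
              · skip
                rcases Nat.lt_or_ge i 213800 with h8 | h8
                · skip
                  exact allRangeF_sound _ _ (checkPointF_eq cert) 213700 100 chkP_213700 i (by omega) (by omega)
                · skip
                  exact allRangeF_sound _ _ (checkPointF_eq cert) 213800 100 chkP_213800 i (by omega) (by omega)
        · skip
          rcases Nat.lt_or_ge i 214400 with h5 | h5
          · skip
            rcases Nat.lt_or_ge i 214100 with h6 | h6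
            · skip
              rcases Nat.lt_or_ge i 214000 with h7 | h7
              · skip
                exact allRangeF_sound _ _ (checkPointF_eq cert) 213900 100 chkP_213900 i (by omega) (by omega)
              · skip
                exact allRangeF_sound _ _ (checkPointF_eq cert) 214000 100 chkP_214000 i (by omega) (by omega)
            · skip
              rcases Nat.lt_or_ge i 214200 with h7 | h7
              · skip
                exact allRangeF_sound _ _ (checkPointF_eq cert) 214100 100 chkP_214100 i (by omega) (by omega)
              · skip
                rcases Nat.lt_or_ge i 214300 with h8 | h8
                · skip
                  exact allRangeF_sound _ _ (checkPointF_eq cert) 214200 100 chkP_214200 i (by omega) (by omega)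
                · skip
                  exact allRangeF_sound _ _ (checkPointF_eq cert) 214300 100 chkP_214300 i (by omega) (by omega)
          · skip
            rcases Nat.lt_or_ge i 214700 with h6 | h6
            · skip
              rcases Nat.lt_or_ge i 214500 with h7 | h7
              · skip
                exact allRangeF_sound _ _ (checkPointF_eq cert) 214400 100 chkP_214400 i (by omega) (by omega)
              · skip
                rcases Nat.lt_or_ge i 214600 with h8 | h8
                · skip
                  exact allRangeF_sound _ _ (checkPointF_eq cert) 214500 100 chkP_214500 i (by omega) (by omega)
                · skip
                  exact allRangeF_sound _ _ (checkPointF_eq cert) 214600 100 chkP_214600 i (by omega) (by omega)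
            · skip
              rcases Nat.lt_or_ge i 214800 with h7 | h7
              · skip
                exact allRangeF_sound _ _ (checkPointF_eq cert) 214700 100 chkP_214700 i (by omega) (by omega)
              · skip
                rcases Nat.lt_or_ge i 214900 with h8 | h8
                · skip
                  exact allRangeF_sound _ _ (checkPointF_eq cert) 214800 100 chkP_214800 i (by omega) (by omega)
                · skip
                  exact allRangeF_sound _ _ (checkPointF_eq cert) 214900 100 chkP_214900 i (by omega) (by omega)
      · skip
        rcases Nat.lt_or_ge i 216000 with h4 | h4
        · skip
          rcases Nat.lt_or_ge i 215500 with h5 | h5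
          · skip
            rcases Nat.lt_or_ge i 215200 with h6 | h6
            · skip
              rcases Nat.lt_or_ge i 215100 with h7 | h7
              · skip
                exact allRangeF_sound _ _ (checkPointF_eq cert) 215000 100 chkP_215000 i (by omega) (by omega)
              · skip
                exact allRangeF_sound _ _ (checkPointF_eq cert) 215100 100 chkP_215100 i (by omega) (by omega)
            · skip
              rcases Nat.lt_or_ge i 215300 with h7 | h7
              · skip
                exact allRangeF_sound _ _ (checkPointF_eq cert) 215200 100 chkP_215200 i (by omega) (by omega)
              · skip
                rcases Nat.lt_or_ge i 215400 with h8 | h8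
                · skip
                  exact allRangeF_sound _ _ (checkPointF_eq cert) 215300 100 chkP_215300 i (by omega) (by omega)
                · skip
                  exact allRangeF_sound _ _ (checkPointF_eq cert) 215400 100 chkP_215400 i (by omega) (by omega)
          · skip
            rcases Nat.lt_or_ge i 215700 with h6 | h6
            · skip
              rcases Nat.lt_or_ge i 215600 with h7 | h7
              · skip
                exact allRangeF_sound _ _ (checkPointF_eq cert) 215500 100 chkP_215500 i (by omega) (by omega)
              · skip
                exact allRangeF_sound _ _ (checkPointF_eq cert) 215600 100 chkP_215600 i (by omega) (by omega)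
            · skip
              rcases Nat.lt_or_ge i 215800 with h7 | h7
              · skip
                exact allRangeF_sound _ _ (checkPointF_eq cert) 215700 100 chkP_215700 i (by omega) (by omega)
              · skip
                rcases Nat.lt_or_ge i 215900 with h8 | h8
                · skip
                  exact allRangeF_sound _ _ (checkPointF_eq cert) 215800 100 chkP_215800 i (by omega) (by omega)
                · skip
                  exact allRangeF_sound _ _ (checkPointF_eq cert) 215900 100 chkP_215900 i (by omega) (by omega)
        · skip
          rcases Nat.lt_or_ge i 216500 with h5 | h5
          · skip
            rcases Nat.lt_or_ge i 216200 with h6 | h6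
            · skip
              rcases Nat.lt_or_ge i 216100 with h7 | h7
              · skip
                exact allRangeF_sound _ _ (checkPointF_eq cert) 216000 100 chkP_216000 i (by omega) (by omega)
              · skip
                exact allRangeF_sound _ _ (checkPointF_eq cert) 216100 100 chkP_216100 i (by omega) (by omega)
            · skip
              rcases Nat.lt_or_ge i 216300 with h7 | h7
              · skip
                exact allRangeF_sound _ _ (checkPointF_eq cert) 216200 100 chkP_216200 i (by omega) (by omega)
              · skip
                rcases Nat.lt_or_ge i 216400 with h8 | h8
                · skip
                  exact allRangeF_sound _ _ (checkPointF_eq cert) 216300 100 chkP_216300 i (by omega) (by omega)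
                · skip
                  exact allRangeF_sound _ _ (checkPointF_eq cert) 216400 100 chkP_216400 i (by omega) (by omega)
          · skip
            rcases Nat.lt_or_ge i 216800 with h6 | h6
            · skip
              rcases Nat.lt_or_ge i 216600 with h7 | h7
              · skip
                exact allRangeF_sound _ _ (checkPointF_eq cert) 216500 100 chkP_216500 i (by omega) (by omega)
              · skip
                rcases Nat.lt_or_ge i 216700 with h8 | h8
                · skip
                  exact allRangeF_sound _ _ (checkPointF_eq cert) 216600 100 chkP_216600 i (by omega) (by omega)
                · skip
                  exact allRangeF_sound _ _ (checkPointF_eq cert) 216700 100 chkP_216700 i (by omega) (by omega)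
            · skip
              rcases Nat.lt_or_ge i 216900 with h7 | h7
              · skip
                exact allRangeF_sound _ _ (checkPointF_eq cert) 216800 100 chkP_216800 i (by omega) (by omega)
              · skip
                rcases Nat.lt_or_ge i 217000 with h8 | h8
                · skip
                  exact allRangeF_sound _ _ (checkPointF_eq cert) 216900 100 chkP_216900 i (by omega) (by omega)
                · skip
                  exact allRangeF_sound _ _ (checkPointF_eq cert) 217000 100 chkP_217000 i (by omega) (by omega)

end Cfsg.Agent.Lib.Helper28.He2Data
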