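import Cfsg.Agent.Lib.Helper28.He2Data
import Cfsg.Agent.Lib.Helper28.TCFast

set_option autoImplicit false
set_option maxRecDepth 1000000
set_option linter.all false
set_option Elab.async false

namespace Cfsg.Agent.Lib.Helper28.He2Data

open Cfsg.Agent.Lib.Helper28

theorem chkP_217100 : allRangeF (checkPointF cert) (nat_lit 217100) (nat_lit 100) = true := by decide +kernel
theorem chkP_217200 : allRangeF (checkPointF cert) (nat_lit 217200) (nat_lit 100) = true := by decide +kernel
theorem chkP_217300 : allRangeF (checkPointF cert) (nat_lit 217300) (nat_lit 100) = true := by decide +kernel
theorem chkP_217400 : allRangeF (checkPointF cert) (nat_lit 217400) (nat_lit 100) = true := by decide +kernel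
theorem chkP_217500 : allRangeF (checkPointF cert) (nat_lit 217500) (nat_lit 100) = true := by decide +kernel
theorem chkP_217600 : allRangeF (checkPointF cert) (nat_lit 217600) (nat_lit 100) = true := by decide +kernel
theorem chkP_217700 : allRangeF (checkPointF cert) (nat_lit 217700) (nat_lit 100) = true := by decide +kernel
theorem chkP_217800 : allRangeF (checkPointF cert) (nat_lit 217800) (nat_lit 100) = true := by decide +kernel
theorem chkP_217900 : allRangeF (checkPointF cert) (nat_lit 217900) (nat_lit 100) = true := by decide +kernel
theorem chkP_218000 : allRangeF (checkPointF cert) (nat_lit 218000) (nat_lit 100) = true := by decide +kernel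
theorem chkP_218100 : allRangeF (checkPointF cert) (nat_lit 218100) (nat_lit 100) = true := by decide +kernel
theorem chkP_218200 : allRangeF (checkPointF cert) (nat_lit 218200) (nat_lit 100) = true := by decide +kernel
theorem chkP_218300 : allRangeF (checkPointF cert) (nat_lit 218300) (nat_lit 100) = true := by decide +kernel
theorem chkP_218400 : allRangeF (checkPointF cert) (nat_lit 218400) (nat_lit 100) = true := by decide +kernel
theorem chkP_218500 : allRangeF (checkPointF cert) (nat_lit 218500) (nat_lit 100) = true := by decide +kernel
theorem chkP_218600 : allRangeF (checkPointF cert) (nat_lit 218600) (nat_lit 100) = true := by decide +kernel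
theorem chkP_218700 : allRangeF (checkPointF cert) (nat_lit 218700) (nat_lit 100) = true := by decide +kernel
theorem chkP_218800 : allRangeF (checkPointF cert) (nat_lit 218800) (nat_lit 100) = true := by decide +kernel
theorem chkP_218900 : allRangeF (checkPointF cert) (nat_lit 218900) (nat_lit 100) = true := by decide +kernel
theorem chkP_219000 : allRangeF (checkPointF cert) (nat_lit 219000) (nat_lit 100) = true := by decide +kernel
theorem chkP_219100 : allRangeF (checkPointF cert) (nat_lit 219100) (nat_lit 100) = true := by decide +kernel
theorem chkP_219200 : allRangeF (checkPointF cert) (nat_lit 219200) (nat_lit 100) = true := by decide +kernel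
theorem chkP_219300 : allRangeF (checkPointF cert) (nat_lit 219300) (nat_lit 100) = true := by decide +kernel
theorem chkP_219400 : allRangeF (checkPointF cert) (nat_lit 219400) (nat_lit 100) = true := by decide +kernel
theorem chkP_219500 : allRangeF (checkPointF cert) (nat_lit 219500) (nat_lit 100) = true := by decide +kernel
theorem chkP_219600 : allRangeF (checkPointF cert) (nat_lit 219600) (nat_lit 100) = true := by decide +kernel
theorem chkP_219700 : allRangeF (checkPointF cert) (nat_lit 219700) (nat_lit 100) = true := by decide +kernel
theorem chkP_219800 : allRangeF (checkPointF cert) (nat_lit 219800) (nat_lit 100) = true := by decide +kernel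
theorem chkP_219900 : allRangeF (checkPointF cert) (nat_lit 219900) (nat_lit 100) = true := by decide +kernel
theorem chkP_220000 : allRangeF (checkPointF cert) (nat_lit 220000) (nat_lit 100) = true := by decide +kernel
theorem chkP_220100 : allRangeF (checkPointF cert) (nat_lit 220100) (nat_lit 100) = true := by decide +kernel
theorem chkP_220200 : allRangeF (checkPointF cert) (nat_lit 220200) (nat_lit 100) = true := by decide +kernel
theorem chkP_220300 : allRangeF (checkPointF cert) (nat_lit 220300) (nat_lit 100) = true := by decide +kernel
theorem chkP_220400 : allRangeF (checkPointF cert) (nat_lit 220400) (nat_lit 100) = true := by decide +kernel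
theorem chkP_220500 : allRangeF (checkPointF cert) (nat_lit 220500) (nat_lit 100) = true := by decide +kernel
theorem chkP_220600 : allRangeF (checkPointF cert) (nat_lit 220600) (nat_lit 100) = true := by decide +kernel
theorem chkP_220700 : allRangeF (checkPointF cert) (nat_lit 220700) (nat_lit 100) = true := by decide +kernel
theorem chkP_220800 : allRangeF (checkPointF cert) (nat_lit 220800) (nat_lit 100) = true := by decide +kernel
theorem chkP_220900 : allRangeF (checkPointF cert) (nat_lit 220900) (nat_lit 100) = true := by decide +kernel
theorem chkP_221000 : allRangeF (checkPointF cert) (nat_lit 221000) (nat_lit 100) = true := by decide +kernel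
theorem chkP_221100 : allRangeF (checkPointF cert) (nat_lit 221100) (nat_lit 100) = true := by decide +kernel
theorem chkP_221200 : allRangeF (checkPointF cert) (nat_lit 221200) (nat_lit 100) = true := by decide +kernel
theorem chkP_221300 : allRangeF (checkPointF cert) (nat_lit 221300) (nat_lit 100) = true := by decide +kernel
theorem chkP_221400 : allRangeF (checkPointF cert) (nat_lit 221400) (nat_lit 100) = true := by decide +kernel
theorem chkP_221500 : allRangeF (checkPointF cert) (nat_lit 221500) (nat_lit 100) = true := by decide +kernel
theorem chkP_221600 : allRangeF (checkPointF cert) (nat_lit 221600) (nat_lit 100) = true := by decide +kernel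
theorem chkP_221700 : allRangeF (checkPointF cert) (nat_lit 221700) (nat_lit 100) = true := by decide +kernel
theorem chkP_221800 : allRangeF (checkPointF cert) (nat_lit 221800) (nat_lit 100) = true := by decide +kernel
theorem chkP_221900 : allRangeF (checkPointF cert) (nat_lit 221900) (nat_lit 100) = true := by decide +kernel
theorem chkP_222000 : allRangeF (checkPointF cert) (nat_lit 222000) (nat_lit 100) = true := by decide +kernel
theorem chkP_222100 : allRangeF (checkPointF cert) (nat_lit 222100) (nat_lit 100) = true := by decide +kernel
theorem chkP_222200 : allRangeF (checkPointF cert) (nat_lit 222200) (nat_lit 100) = true := by decide +kernel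
theorem chkP_222300 : allRangeF (checkPointF cert) (nat_lit 222300) (nat_lit 100) = true := by decide +kernel
theorem chkP_222400 : allRangeF (checkPointF cert) (nat_lit 222400) (nat_lit 100) = true := by decide +kernel
theorem chkP_222500 : allRangeF (checkPointF cert) (nat_lit 222500) (nat_lit 100) = true := by decide +kernel
theorem chkP_222600 : allRangeF (checkPointF cert) (nat_lit 222600) (nat_lit 100) = true := by decide +kernel
theorem chkP_222700 : allRangeF (checkPointF cert) (nat_lit 222700) (nat_lit 100) = true := by decide +kernel
theorem chkP_222800 : allRangeF (checkPointF cert) (nat_lit 222800) (nat_lit 100) = true := by decide +kernel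
theorem chkP_222900 : allRangeF (checkPointF cert) (nat_lit 222900) (nat_lit 100) = true := by decide +kernel
theorem chkP_223000 : allRangeF (checkPointF cert) (nat_lit 223000) (nat_lit 100) = true := by decide +kernel
theorem chkP_223100 : allRangeF (checkPointF cert) (nat_lit 223100) (nat_lit 100) = true := by decide +kernel
theorem chkP_223200 : allRangeF (checkPointF cert) (nat_lit 223200) (nat_lit 100) = true := by decide +kernel
theorem chkP_223300 : allRangeF (checkPointF cert) (nat_lit 223300) (nat_lit 100) = true := by decide +kernel
theorem chkP_223400 : allRangeF (checkPointF cert) (nat_lit 223400) (nat_lit 100) = true := by decide +kernel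
theorem chkP_223500 : allRangeF (checkPointF cert) (nat_lit 223500) (nat_lit 100) = true := by decide +kernel
theorem chkP_223600 : allRangeF (checkPointF cert) (nat_lit 223600) (nat_lit 100) = true := by decide +kernel
theorem chkP_223700 : allRangeF (checkPointF cert) (nat_lit 223700) (nat_lit 100) = true := by decide +kernel
theorem chkP_223800 : allRangeF (checkPointF cert) (nat_lit 223800) (nat_lit 100) = true := by decide +kernel
theorem chkP_223900 : allRangeF (checkPointF cert) (nat_lit 223900) (nat_lit 100) = true := by decide +kernel
theorem chkP_224000 : allRangeF (checkPointF cert) (nat_lit 224000) (nat_lit 100) = true := by decide +kernel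
theorem chkP_224100 : allRangeF (checkPointF cert) (nat_lit 224100) (nat_lit 100) = true := by decide +kernel
theorem chkP_224200 : allRangeF (checkPointF cert) (nat_lit 224200) (nat_lit 100) = true := by decide +kernel
theorem chkP_224300 : allRangeF (checkPointF cert) (nat_lit 224300) (nat_lit 100) = true := by decide +kernel
theorem chkP_224400 : allRangeF (checkPointF cert) (nat_lit 224400) (nat_lit 100) = true := by decide +kernel
theorem chkP_224500 : allRangeF (checkPointF cert) (nat_lit 224500) (nat_lit 100) = true := by decide +kernel
theorem chkP_224600 : allRangeF (checkPointF cert) (nat_lit 224600) (nat_lit 100) = true := by decide +kernel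
theorem chkP_224700 : allRangeF (checkPointF cert) (nat_lit 224700) (nat_lit 100) = true := by decide +kernel
theorem chkP_224800 : allRangeF (checkPointF cert) (nat_lit 224800) (nat_lit 100) = true := by decide +kernel
theorem chkP_224900 : allRangeF (checkPointF cert) (nat_lit 224900) (nat_lit 100) = true := by decide +kernel
theorem chkP_225000 : allRangeF (checkPointF cert) (nat_lit 225000) (nat_lit 100) = true := by decide +kernel
theorem chkP_225100 : allRangeF (checkPointF cert) (nat_lit 225100) (nat_lit 100) = true := by decide +kernel
theorem chkP_225200 : allRangeF (checkPointF cert) (nat_lit 225200) (nat_lit 100) = true := by decide +kernel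
theorem chkP_225300 : allRangeF (checkPointF cert) (nat_lit 225300) (nat_lit 100) = true := by decide +kernel
theorem chkP_225400 : allRangeF (checkPointF cert) (nat_lit 225400) (nat_lit 100) = true := by decide +kernel
theorem chkP_225500 : allRangeF (checkPointF cert) (nat_lit 225500) (nat_lit 100) = true := by decide +kernel
theorem chkP_225600 : allRangeF (checkPointF cert) (nat_lit 225600) (nat_lit 100) = true := by decide +kernel
theorem chkP_225700 : allRangeF (checkPointF cert) (nat_lit 225700) (nat_lit 100) = true := by decide +kernel
theorem chkP_225800 : allRangeF (checkPointF cert) (nat_lit 225800) (nat_lit 100) = true := by decide +kernel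
theorem chkP_225900 : allRangeF (checkPointF cert) (nat_lit 225900) (nat_lit 100) = true := by decide +kernel
theorem chkP_226000 : allRangeF (checkPointF cert) (nat_lit 226000) (nat_lit 100) = true := by decide +kernel
theorem chkP_226100 : allRangeF (checkPointF cert) (nat_lit 226100) (nat_lit 100) = true := by decide +kernel
theorem chkP_226200 : allRangeF (checkPointF cert) (nat_lit 226200) (nat_lit 100) = true := by decide +kernel
theorem chkP_226300 : allRangeF (checkPointF cert) (nat_lit 226300) (nat_lit 100) = true := by decide +kernel
theorem chkP_226400 : allRangeF (checkPointF cert) (nat_lit 226400) (nat_lit 100) = true := by decide +kernel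
theorem chkP_226500 : allRangeF (checkPointF cert) (nat_lit 226500) (nat_lit 100) = true := by decide +kernel
theorem chkP_226600 : allRangeF (checkPointF cert) (nat_lit 226600) (nat_lit 100) = true := by decide +kernel
theorem chkP_226700 : allRangeF (checkPointF cert) (nat_lit 226700) (nat_lit 100) = true := by decide +kernel
theorem chkP_226800 : allRangeF (checkPointF cert) (nat_lit 226800) (nat_lit 100) = true := by decide +kernel
theorem chkP_226900 : allRangeF (checkPointF cert) (nat_lit 226900) (nat_lit 100) = true := by decide +kernel
theorem chkP_227000 : allRangeF (checkPointF cert) (nat_lit 227000) (nat_lit 100) = true := by decide +kernel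
theorem chkP_227100 : allRangeF (checkPointF cert) (nat_lit 227100) (nat_lit 100) = true := by decide +kernel
theorem chkP_227200 : allRangeF (checkPointF cert) (nat_lit 227200) (nat_lit 100) = true := by decide +kernel
theorem chkP_227300 : allRangeF (checkPointF cert) (nat_lit 227300) (nat_lit 100) = true := by decide +kernel
theorem chkP_227400 : allRangeF (checkPointF cert) (nat_lit 227400) (nat_lit 100) = true := by decide +kernel
theorem chkP_227500 : allRangeF (checkPointF cert) (nat_lit 227500) (nat_lit 100) = true := by decide +kernel
theorem chkP_227600 : allRangeF (checkPointF cert) (nat_lit 227600) (nat_lit 100) = true := by decide +kernel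
theorem chkP_227700 : allRangeF (checkPointF cert) (nat_lit 227700) (nat_lit 100) = true := by decide +kernel
theorem chkP_227800 : allRangeF (checkPointF cert) (nat_lit 227800) (nat_lit 100) = true := by decide +kernel
theorem chkP_227900 : allRangeF (checkPointF cert) (nat_lit 227900) (nat_lit 100) = true := by decide +kernel
theorem chkP_228000 : allRangeF (checkPointF cert) (nat_lit 228000) (nat_lit 100) = true := by decide +kernel
theorem chkP_228100 : allRangeF (checkPointF cert) (nat_lit 228100) (nat_lit 100) = true := by decide +kernel
theorem chkP_228200 : allRangeF (checkPointF cert) (nat_lit 228200) (nat_lit 100) = true := by decide +kernel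
theorem chkP_228300 : allRangeF (checkPointF cert) (nat_lit 228300) (nat_lit 100) = true := by decide +kernel
theorem chkP_228400 : allRangeF (checkPointF cert) (nat_lit 228400) (nat_lit 100) = true := by decide +kernel
theorem chkP_228500 : allRangeF (checkPointF cert) (nat_lit 228500) (nat_lit 100) = true := by decide +kernel
theorem chkP_228600 : allRangeF (checkPointF cert) (nat_lit 228600) (nat_lit 100) = true := by decide +kernel
theorem chkP_228700 : allRangeF (checkPointF cert) (nat_lit 228700) (nat_lit 100) = true := by decide +kernel
theorem chkP_228800 : allRangeF (checkPointF cert) (nat_lit 228800) (nat_lit 100) = true := by decide +kernel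
theorem chkP_228900 : allRangeF (checkPointF cert) (nat_lit 228900) (nat_lit 100) = true := by decide +kernel
theorem chkP_229000 : allRangeF (checkPointF cert) (nat_lit 229000) (nat_lit 100) = true := by decide +kernel
theorem chkP_229100 : allRangeF (checkPointF cert) (nat_lit 229100) (nat_lit 100) = true := by decide +kernel
theorem chkP_229200 : allRangeF (checkPointF cert) (nat_lit 229200) (nat_lit 100) = true := by decide +kernel
theorem chkP_229300 : allRangeF (checkPointF cert) (nat_lit 229300) (nat_lit 100) = true := by decide +kernel
theorem chkP_229400 : allRangeF (checkPointF cert) (nat_lit 229400) (nat_lit 100) = true := by decide +kernel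
theorem chkP_229500 : allRangeF (checkPointF cert) (nat_lit 229500) (nat_lit 100) = true := by decide +kernel
theorem chkP_229600 : allRangeF (checkPointF cert) (nat_lit 229600) (nat_lit 100) = true := by decide +kernel
theorem chkP_229700 : allRangeF (checkPointF cert) (nat_lit 229700) (nat_lit 100) = true := by decide +kernel
theorem chkP_229800 : allRangeF (checkPointF cert) (nat_lit 229800) (nat_lit 100) = true := by decide +kernel
theorem chkP_229900 : allRangeF (checkPointF cert) (nat_lit 229900) (nat_lit 100) = true := by decide +kernel
theorem chkP_230000 : allRangeF (checkPointF cert) (nat_lit 230000) (nat_lit 100) = true := by decide +kernel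
theorem chkP_230100 : allRangeF (checkPointF cert) (nat_lit 230100) (nat_lit 100) = true := by decide +kernel
theorem chkP_230200 : allRangeF (checkPointF cert) (nat_lit 230200) (nat_lit 100) = true := by decide +kernel
theorem chkP_230300 : allRangeF (checkPointF cert) (nat_lit 230300) (nat_lit 100) = true := by decide +kernel
theorem chkP_230400 : allRangeF (checkPointF cert) (nat_lit 230400) (nat_lit 100) = true := by decide +kernel
theorem chkP_230500 : allRangeF (checkPointF cert) (nat_lit 230500) (nat_lit 100) = true := by decide +kernel
theorem chkP_230600 : allRangeF (checkPointF cert) (nat_lit 230600) (nat_lit 100) = true := by decide +kernel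
theorem chkP_230700 : allRangeF (checkPointF cert) (nat_lit 230700) (nat_lit 100) = true := by decide +kernel
theorem chkP_230800 : allRangeF (checkPointF cert) (nat_lit 230800) (nat_lit 100) = true := by decide +kernel
theorem chkP_230900 : allRangeF (checkPointF cert) (nat_lit 230900) (nat_lit 100) = true := by decide +kernel
theorem chkP_231000 : allRangeF (checkPointF cert) (nat_lit 231000) (nat_lit 100) = true := by decide +kernel
theorem chkP_231100 : allRangeF (checkPointF cert) (nat_lit 231100) (nat_lit 100) = true := by decide +kernel
theorem chkP_231200 : allRangeF (checkPointF cert) (nat_lit 231200) (nat_lit 100) = true := by decide +kernel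
theorem chkP_231300 : allRangeF (checkPointF cert) (nat_lit 231300) (nat_lit 100) = true := by decide +kernel
theorem chkP_231400 : allRangeF (checkPointF cert) (nat_lit 231400) (nat_lit 100) = true := by decide +kernel
theorem chkP_231500 : allRangeF (checkPointF cert) (nat_lit 231500) (nat_lit 100) = true := by decide +kernel
theorem chkP_231600 : allRangeF (checkPointF cert) (nat_lit 231600) (nat_lit 100) = true := by decide +kernel
theorem chkP_231700 : allRangeF (checkPointF cert) (nat_lit 231700) (nat_lit 100) = true := by decide +kernel
theorem chkP_231800 : allRangeF (checkPointF cert) (nat_lit 231800) (nat_lit 100) = true := by decide +kernel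
theorem chkP_231900 : allRangeF (checkPointF cert) (nat_lit 231900) (nat_lit 100) = true := by decide +kernel
theorem chkP_232000 : allRangeF (checkPointF cert) (nat_lit 232000) (nat_lit 100) = true := by decide +kernel
theorem chkP_232100 : allRangeF (checkPointF cert) (nat_lit 232100) (nat_lit 100) = true := by decide +kernel
theorem chkP_232200 : allRangeF (checkPointF cert) (nat_lit 232200) (nat_lit 100) = true := by decide +kernel
theorem chkP_232300 : allRangeF (checkPointF cert) (nat_lit 232300) (nat_lit 100) = true := by decide +kernel
theorem chkP_232400 : allRangeF (checkPointF cert) (nat_lit 232400) (nat_lit 100) = true := by decide +kernel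
theorem chkP_232500 : allRangeF (checkPointF cert) (nat_lit 232500) (nat_lit 100) = true := by decide +kernel
theorem chkP_232600 : allRangeF (checkPointF cert) (nat_lit 232600) (nat_lit 100) = true := by decide +kernel
theorem chkP_232700 : allRangeF (checkPointF cert) (nat_lit 232700) (nat_lit 100) = true := by decide +kernel
theorem chkP_232800 : allRangeF (checkPointF cert) (nat_lit 232800) (nat_lit 100) = true := by decide +kernel
theorem chkP_232900 : allRangeF (checkPointF cert) (nat_lit 232900) (nat_lit 100) = true := by decide +kernel
theorem chkP_233000 : allRangeF (checkPointF cert) (nat_lit 233000) (nat_lit 100) = true := by decide +kernel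
theorem chkP_233100 : allRangeF (checkPointF cert) (nat_lit 233100) (nat_lit 100) = true := by decide +kernel
theorem chkP_233200 : allRangeF (checkPointF cert) (nat_lit 233200) (nat_lit 100) = true := by decide +kernel
theorem chkP_233300 : allRangeF (checkPointF cert) (nat_lit 233300) (nat_lit 100) = true := by decide +kernel
theorem chkP_233400 : allRangeF (checkPointF cert) (nat_lit 233400) (nat_lit 100) = true := by decide +kernel
theorem chkP_233500 : allRangeF (checkPointF cert) (nat_lit 233500) (nat_lit 100) = true := by decide +kernel
theorem chkP_233600 : allRangeF (checkPointF cert) (nat_lit 233600) (nat_lit 100) = true := by decide +kernel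
theorem chkP_233700 : allRangeF (checkPointF cert) (nat_lit 233700) (nat_lit 100) = true := by decide +kernel

theorem ptsRange_13 : ∀ i, 217100 ≤ i → i < 233800 → checkPoint cert i = true := by
  intro i hlo hhi
  rcases Nat.lt_or_ge i 225400 with h1 | h1
  · skip
    rcases Nat.lt_or_ge i 221200 with h2 | h2
    · skip
      rcases Nat.lt_or_ge i 219100 with h3 | h3
      · skip
        rcases Nat.lt_or_ge i 218100 with h4 | h4
        · skip
          rcases Nat.lt_or_ge i 217600 with h5 | h5
          · skip
            rcases Nat.lt_or_ge i 217300 with h6 | h6
            · skip
              rcases Nat.lt_or_ge i 217200 with h7 | h7
              · skip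
                exact allRangeF_sound _ _ (checkPointF_eq cert) 217100 100 chkP_217100 i (by omega) (by omega)
              · skip
                exact allRangeF_sound _ _ (checkPointF_eq cert) 217200 100 chkP_217200 i (by omega) (by omega)
            · skip
              rcases Nat.lt_or_ge i 217400 with h7 | h7
              · skip
                exact allRangeF_sound _ _ (checkPointF_eq cert) 217300 100 chkP_217300 i (by omega) (by omega)
              · skip
                rcases Nat.lt_or_ge i 217500 with h8 | h8
                · skip
                  exact allRangeF_sound _ _ (checkPointF_eq cert) 217400 100 chkP_217400 i (by omega) (by omega)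
                · skip
                  exact allRangeF_sound _ _ (checkPointF_eq cert) 217500 100 chkP_217500 i (by omega) (by omega)
          · skip
            rcases Nat.lt_or_ge i 217800 with h6 | h6
            · skip
              rcases Nat.lt_or_ge i 217700 with h7 | h7
              · skip
                exact allRangeF_sound _ _ (checkPointF_eq cert) 217600 100 chkP_217600 i (by omega) (by omega)
              · skip
                exact allRangeF_sound _ _ (checkPointF_eq cert) 217700 100 chkP_217700 i (by omega) (by omega)
            · skip
              rcases Nat.lt_or_ge i 217900 with h7 | h7
              · skip
                exact allRangeF_sound _ _ (checkPointF_eq cert) 217800 100 chkP_217800 i (by omega) (by omega)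
              · skip
                rcases Nat.lt_or_ge i 218000 with h8 | h8
                · skip
                  exact allRangeF_sound _ _ (checkPointF_eq cert) 217900 100 chkP_217900 i (by omega) (by omega)
                · skip
                  exact allRangeF_sound _ _ (checkPointF_eq cert) 218000 100 chkP_218000 i (by omega) (by omega)
        · skip
          rcases Nat.lt_or_ge i 218600 with h5 | h5
          · skip
            rcases Nat.lt_or_ge i 218300 with h6 | h6
            · skip
              rcases Nat.lt_or_ge i 218200 with h7 | h7
              · skip
                exact allRangeF_sound _ _ (checkPointF_eq cert) 218100 100 chkP_218100 i (by omega) (by omega)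
              · skip
                exact allRangeF_sound _ _ (checkPointF_eq cert) 218200 100 chkP_218200 i (by omega) (by omega)
            · skip
              rcases Nat.lt_or_ge i 218400 with h7 | h7
              · skip
                exact allRangeF_sound _ _ (checkPointF_eq cert) 218300 100 chkP_218300 i (by omega) (by omega)
              · skip
                rcases Nat.lt_or_ge i 218500 with h8 | h8
                · skip
                  exact allRangeF_sound _ _ (checkPointF_eq cert) 218400 100 chkP_218400 i (by omega) (by omega)
                · skip
                  exact allRangeF_sound _ _ (checkPointF_eq cert) 218500 100 chkP_218500 i (by omega) (by omega)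
          · skip
            rcases Nat.lt_or_ge i 218800 with h6 | h6
            · skip
              rcases Nat.lt_or_ge i 218700 with h7 | h7
              · skip
                exact allRangeF_sound _ _ (checkPointF_eq cert) 218600 100 chkP_218600 i (by omega) (by omega)
              · skip
                exact allRangeF_sound _ _ (checkPointF_eq cert) 218700 100 chkP_218700 i (by omega) (by omega)
            · skip
              rcases Nat.lt_or_ge i 218900 with h7 | h7
              · skip
                exact allRangeF_sound _ _ (checkPointF_eq cert) 218800 100 chkP_218800 i (by omega) (by omega)
              · skip
                rcases Nat.lt_or_ge i 219000 with h8 | h8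
                · skip
                  exact allRangeF_sound _ _ (checkPointF_eq cert) 218900 100 chkP_218900 i (by omega) (by omega)
                · skip
                  exact allRangeF_sound _ _ (checkPointF_eq cert) 219000 100 chkP_219000 i (by omega) (by omega)
      · skip
        rcases Nat.lt_or_ge i 220100 with h4 | h4
        · skip
          rcases Nat.lt_or_ge i 219600 with h5 | h5
          · skip
            rcases Nat.lt_or_ge i 219300 with h6 | h6
            · skip
              rcases Nat.lt_or_ge i 219200 with h7 | h7
              · skip
                exact allRangeF_sound _ _ (checkPointF_eq cert) 219100 100 chkP_219100 i (by omega) (by omega)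
              · skip
                exact allRangeF_sound _ _ (checkPointF_eq cert) 219200 100 chkP_219200 i (by omega) (by omega)
            · skip
              rcases Nat.lt_or_ge i 219400 with h7 | h7
              · skip
                exact allRangeF_sound _ _ (checkPointF_eq cert) 219300 100 chkP_219300 i (by omega) (by omega)
              · skip
                rcases Nat.lt_or_ge i 219500 with h8 | h8
                · skip
                  exact allRangeF_sound _ _ (checkPointF_eq cert) 219400 100 chkP_219400 i (by omega) (by omega)
                · skip
                  exact allRangeF_sound _ _ (checkPointF_eq cert) 219500 100 chkP_219500 i (by omega) (by omega)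
          · skip
            rcases Nat.lt_or_ge i 219800 with h6 | h6
            · skip
              rcases Nat.lt_or_ge i 219700 with h7 | h7
              · skip
                exact allRangeF_sound _ _ (checkPointF_eq cert) 219600 100 chkP_219600 i (by omega) (by omega)
              · skip
                exact allRangeF_sound _ _ (checkPointF_eq cert) 219700 100 chkP_219700 i (by omega) (by omega)
            · skip
              rcases Nat.lt_or_ge i 219900 with h7 | h7
              · skip
                exact allRangeF_sound _ _ (checkPointF_eq cert) 219800 100 chkP_219800 i (by omega) (by omega)
              · skip
                rcases Nat.lt_or_ge i 220000 with h8 | h8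
                · skip
                  exact allRangeF_sound _ _ (checkPointF_eq cert) 219900 100 chkP_219900 i (by omega) (by omega)
                · skip
                  exact allRangeF_sound _ _ (checkPointF_eq cert) 220000 100 chkP_220000 i (by omega) (by omega)
        · skip
          rcases Nat.lt_or_ge i 220600 with h5 | h5
          · skip
            rcases Nat.lt_or_ge i 220300 with h6 | h6
            · skip
              rcases Nat.lt_or_ge i 220200 with h7 | h7
              · skip
                exact allRangeF_sound _ _ (checkPointF_eq cert) 220100 100 chkP_220100 i (by omega) (by omega)
              · skip
                exact allRangeF_sound _ _ (checkPointF_eq cert) 220200 100 chkP_220200 i (by omega) (by omega)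
            · skip
              rcases Nat.lt_or_ge i 220400 with h7 | h7
              · skip
                exact allRangeF_sound _ _ (checkPointF_eq cert) 220300 100 chkP_220300 i (by omega) (by omega)
              · skip
                rcases Nat.lt_or_ge i 220500 with h8 | h8
                · skip
                  exact allRangeF_sound _ _ (checkPointF_eq cert) 220400 100 chkP_220400 i (by omega) (by omega)
                · skip
                  exact allRangeF_sound _ _ (checkPointF_eq cert) 220500 100 chkP_220500 i (by omega) (by omega)
          · skip
            rcases Nat.lt_or_ge i 220900 with h6 | h6
            · skip
              rcases Nat.lt_or_ge i 220700 with h7 | h7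
              · skip
                exact allRangeF_sound _ _ (checkPointF_eq cert) 220600 100 chkP_220600 i (by omega) (by omega)
              · skip
                rcases Nat.lt_or_ge i 220800 with h8 | h8
                · skip
                  exact allRangeF_sound _ _ (checkPointF_eq cert) 220700 100 chkP_220700 i (by omega) (by omega)
                · skip
                  exact allRangeF_sound _ _ (checkPointF_eq cert) 220800 100 chkP_220800 i (by omega) (by omega)
            · skip
              rcases Nat.lt_or_ge i 221000 with h7 | h7
              · skip
                exact allRangeF_sound _ _ (checkPointF_eq cert) 220900 100 chkP_220900 i (by omega) (by omega)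
              · skip
                rcases Nat.lt_or_ge i 221100 with h8 | h8
                · skip
                  exact allRangeF_sound _ _ (checkPointF_eq cert) 221000 100 chkP_221000 i (by omega) (by omega)
                · skip
                  exact allRangeF_sound _ _ (checkPointF_eq cert) 221100 100 chkP_221100 i (by omega) (by omega)
    · skip
      rcases Nat.lt_or_ge i 223300 with h3 | h3
      · skip
        rcases Nat.lt_or_ge i 222200 with h4 | h4
        · skip
          rcases Nat.lt_or_ge i 221700 with h5 | h5
          · skip
            rcases Nat.lt_or_ge i 221400 with h6 | h6
            · skip
              rcases Nat.lt_or_ge i 221300 with h7 | h7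
              · skip
                exact allRangeF_sound _ _ (checkPointF_eq cert) 221200 100 chkP_221200 i (by omega) (by omega)
              · skip
                exact allRangeF_sound _ _ (checkPointF_eq cert) 221300 100 chkP_221300 i (by omega) (by omega)
            · skip
              rcases Nat.lt_or_ge i 221500 with h7 | h7
              · skip
                exact allRangeF_sound _ _ (checkPointF_eq cert) 221400 100 chkP_221400 i (by omega) (by omega)
              · skip
                rcases Nat.lt_or_ge i 221600 with h8 | h8
                · skip
                  exact allRangeF_sound _ _ (checkPointF_eq cert) 221500 100 chkP_221500 i (by omega) (by omega)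
                · skip
                  exact allRangeF_sound _ _ (checkPointF_eq cert) 221600 100 chkP_221600 i (by omega) (by omega)
          · skip
            rcases Nat.lt_or_ge i 221900 with h6 | h6
            · skip
              rcases Nat.lt_or_ge i 221800 with h7 | h7
              · skip
                exact allRangeF_sound _ _ (checkPointF_eq cert) 221700 100 chkP_221700 i (by omega) (by omega)
              · skip
                exact allRangeF_sound _ _ (checkPointF_eq cert) 221800 100 chkP_221800 i (by omega) (by omega)
            · skip
              rcases Nat.lt_or_ge i 222000 with h7 | h7
              · skip
                exact allRangeF_sound _ _ (checkPointF_eq cert) 221900 100 chkP_221900 i (by omega) (by omega)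
              · skip
                rcases Nat.lt_or_ge i 222100 with h8 | h8
                · skip
                  exact allRangeF_sound _ _ (checkPointF_eq cert) 222000 100 chkP_222000 i (by omega) (by omega)
                · skip
                  exact allRangeF_sound _ _ (checkPointF_eq cert) 222100 100 chkP_222100 i (by omega) (by omega)
        · skip
          rcases Nat.lt_or_ge i 222700 with h5 | h5
          · skip
            rcases Nat.lt_or_ge i 222400 with h6 | h6
            · skip
              rcases Nat.lt_or_ge i 222300 with h7 | h7
              · skip
                exact allRangeF_sound _ _ (checkPointF_eq cert) 222200 100 chkP_222200 i (by omega) (by omega)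
              · skip
                exact allRangeF_sound _ _ (checkPointF_eq cert) 222300 100 chkP_222300 i (by omega) (by omega)
            · skip
              rcases Nat.lt_or_ge i 222500 with h7 | h7
              · skip
                exact allRangeF_sound _ _ (checkPointF_eq cert) 222400 100 chkP_222400 i (by omega) (by omega)
              · skip
                rcases Nat.lt_or_ge i 222600 with h8 | h8
                · skip
                  exact allRangeF_sound _ _ (checkPointF_eq cert) 222500 100 chkP_222500 i (by omega) (by omega)
                · skip
                  exact allRangeF_sound _ _ (checkPointF_eq cert) 222600 100 chkP_222600 i (by omega) (by omega)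
          · skip
            rcases Nat.lt_or_ge i 223000 with h6 | h6
            · skip
              rcases Nat.lt_or_ge i 222800 with h7 | h7
              · skip
                exact allRangeF_sound _ _ (checkPointF_eq cert) 222700 100 chkP_222700 i (by omega) (by omega)
              · skip
                rcases Nat.lt_or_ge i 222900 with h8 | h8
                · skip
                  exact allRangeF_sound _ _ (checkPointF_eq cert) 222800 100 chkP_222800 i (by omega) (by omega)
                · skip
                  exact allRangeF_sound _ _ (checkPointF_eq cert) 222900 100 chkP_222900 i (by omega) (by omega)
            · skip
              rcases Nat.lt_or_ge i 223100 with h7 | h7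
              · skip
                exact allRangeF_sound _ _ (checkPointF_eq cert) 223000 100 chkP_223000 i (by omega) (by omega)
              · skip
                rcases Nat.lt_or_ge i 223200 with h8 | h8
                · skip
                  exact allRangeF_sound _ _ (checkPointF_eq cert) 223100 100 chkP_223100 i (by omega) (by omega)
                · skip
                  exact allRangeF_sound _ _ (checkPointF_eq cert) 223200 100 chkP_223200 i (by omega) (by omega)
      · skip
        rcases Nat.lt_or_ge i 224300 with h4 | h4
        · skip
          rcases Nat.lt_or_ge i 223800 with h5 | h5
          · skip
            rcases Nat.lt_or_ge i 223500 with h6 | h6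
            · skip
              rcases Nat.lt_or_ge i 223400 with h7 | h7
              · skip
                exact allRangeF_sound _ _ (checkPointF_eq cert) 223300 100 chkP_223300 i (by omega) (by omega)
              · skip
                exact allRangeF_sound _ _ (checkPointF_eq cert) 223400 100 chkP_223400 i (by omega) (by omega)
            · skip
              rcases Nat.lt_or_ge i 223600 with h7 | h7
              · skip
                exact allRangeF_sound _ _ (checkPointF_eq cert) 223500 100 chkP_223500 i (by omega) (by omega)
              · skip
                rcases Nat.lt_or_ge i 223700 with h8 | h8
                · skip
                  exact allRangeF_sound _ _ (checkPointF_eq cert) 223600 100 chkP_223600 i (by omega) (by omega)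
                · skip
                  exact allRangeF_sound _ _ (checkPointF_eq cert) 223700 100 chkP_223700 i (by omega) (by omega)
          · skip
            rcases Nat.lt_or_ge i 224000 with h6 | h6
            · skip
              rcases Nat.lt_or_ge i 223900 with h7 | h7
              · skip
                exact allRangeF_sound _ _ (checkPointF_eq cert) 223800 100 chkP_223800 i (by omega) (by omega)
              · skip
                exact allRangeF_sound _ _ (checkPointF_eq cert) 223900 100 chkP_223900 i (by omega) (by omega)
            · skip
              rcases Nat.lt_or_ge i 224100 with h7 | h7
              · skip
                exact allRangeF_sound _ _ (checkPointF_eq cert) 224000 100 chkP_224000 i (by omega) (by omega)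
              · skip
                rcases Nat.lt_or_ge i 224200 with h8 | h8
                · skip
                  exact allRangeF_sound _ _ (checkPointF_eq cert) 224100 100 chkP_224100 i (by omega) (by omega)
                · skip
                  exact allRangeF_sound _ _ (checkPointF_eq cert) 224200 100 chkP_224200 i (by omega) (by omega)
        · skip
          rcases Nat.lt_or_ge i 224800 with h5 | h5
          · skip
            rcases Nat.lt_or_ge i 224500 with h6 | h6
            · skip
              rcases Nat.lt_or_ge i 224400 with h7 | h7
              · skip
                exact allRangeF_sound _ _ (checkPointF_eq cert) 224300 100 chkP_224300 i (by omega) (by omega)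
              · skip
                exact allRangeF_sound _ _ (checkPointF_eq cert) 224400 100 chkP_224400 i (by omega) (by omega)
            · skip
              rcases Nat.lt_or_ge i 224600 with h7 | h7
              · skip
                exact allRangeF_sound _ _ (checkPointF_eq cert) 224500 100 chkP_224500 i (by omega) (by omega)
              · skip
                rcases Nat.lt_or_ge i 224700 with h8 | h8
                · skip
                  exact allRangeF_sound _ _ (checkPointF_eq cert) 224600 100 chkP_224600 i (by omega) (by omega)
                · skip
                  exact allRangeF_sound _ _ (checkPointF_eq cert) 224700 100 chkP_224700 i (by omega) (by omega)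
          · skip
            rcases Nat.lt_or_ge i 225100 with h6 | h6
            · skip
              rcases Nat.lt_or_ge i 224900 with h7 | h7
              · skip
                exact allRangeF_sound _ _ (checkPointF_eq cert) 224800 100 chkP_224800 i (by omega) (by omega)
              · skip
                rcases Nat.lt_or_ge i 225000 with h8 | h8
                · skip
                  exact allRangeF_sound _ _ (checkPointF_eq cert) 224900 100 chkP_224900 i (by omega) (by omega)
                · skip
                  exact allRangeF_sound _ _ (checkPointF_eq cert) 225000 100 chkP_225000 i (by omega) (by omega)
            · skip
              rcases Nat.lt_or_ge i 225200 with h7 | h7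
              · skip
                exact allRangeF_sound _ _ (checkPointF_eq cert) 225100 100 chkP_225100 i (by omega) (by omega)
              · skip
                rcases Nat.lt_or_ge i 225300 with h8 | h8
                · skip
                  exact allRangeF_sound _ _ (checkPointF_eq cert) 225200 100 chkP_225200 i (by omega) (by omega)
                · skip
                  exact allRangeF_sound _ _ (checkPointF_eq cert) 225300 100 chkP_225300 i (by omega) (by omega)
  · skip
    rcases Nat.lt_or_ge i 229600 with h2 | h2
    · skip
      rcases Nat.lt_or_ge i 227500 with h3 | h3
      · skip
        rcases Nat.lt_or_ge i 226400 with h4 | h4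
        · skip
          rcases Nat.lt_or_ge i 225900 with h5 | h5
          · skip
            rcases Nat.lt_or_ge i 225600 with h6 | h6
            · skip
              rcases Nat.lt_or_ge i 225500 with h7 | h7
              · skip
                exact allRangeF_sound _ _ (checkPointF_eq cert) 225400 100 chkP_225400 i (by omega) (by omega)
              · skip
                exact allRangeF_sound _ _ (checkPointF_eq cert) 225500 100 chkP_225500 i (by omega) (by omega)
            · skip
              rcases Nat.lt_or_ge i 225700 with h7 | h7
              · skip
                exact allRangeF_sound _ _ (checkPointF_eq cert) 225600 100 chkP_225600 i (by omega) (by omega)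
              · skip
                rcases Nat.lt_or_ge i 225800 with h8 | h8
                · skip
                  exact allRangeF_sound _ _ (checkPointF_eq cert) 225700 100 chkP_225700 i (by omega) (by omega)
                · skip
                  exact allRangeF_sound _ _ (checkPointF_eq cert) 225800 100 chkP_225800 i (by omega) (by omega)
          · skip
            rcases Nat.lt_or_ge i 226100 with h6 | h6
            · skip
              rcases Nat.lt_or_ge i 226000 with h7 | h7
              · skip
                exact allRangeF_sound _ _ (checkPointF_eq cert) 225900 100 chkP_225900 i (by omega) (by omega)
              · skip
                exact allRangeF_sound _ _ (checkPointF_eq cert) 226000 100 chkP_226000 i (by omega) (by omega)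
            · skip
              rcases Nat.lt_or_ge i 226200 with h7 | h7
              · skip
                exact allRangeF_sound _ _ (checkPointF_eq cert) 226100 100 chkP_226100 i (by omega) (by omega)
              · skip
                rcases Nat.lt_or_ge i 226300 with h8 | h8
                · skip
                  exact allRangeF_sound _ _ (checkPointF_eq cert) 226200 100 chkP_226200 i (by omega) (by omega)
                · skip
                  exact allRangeF_sound _ _ (checkPointF_eq cert) 226300 100 chkP_226300 i (by omega) (by omega)
        · skip
          rcases Nat.lt_or_ge i 226900 with h5 | h5
          · skip
            rcases Nat.lt_or_ge i 226600 with h6 | h6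
            · skip
              rcases Nat.lt_or_ge i 226500 with h7 | h7
              · skip
                exact allRangeF_sound _ _ (checkPointF_eq cert) 226400 100 chkP_226400 i (by omega) (by omega)
              · skip
                exact allRangeF_sound _ _ (checkPointF_eq cert) 226500 100 chkP_226500 i (by omega) (by omega)
            · skip
              rcases Nat.lt_or_ge i 226700 with h7 | h7
              · skip
                exact allRangeF_sound _ _ (checkPointF_eq cert) 226600 100 chkP_226600 i (by omega) (by omega)
              · skip
                rcases Nat.lt_or_ge i 226800 with h8 | h8
                · skip
                  exact allRangeF_sound _ _ (checkPointF_eq cert) 226700 100 chkP_226700 i (by omega) (by omega)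
                · skip
                  exact allRangeF_sound _ _ (checkPointF_eq cert) 226800 100 chkP_226800 i (by omega) (by omega)
          · skip
            rcases Nat.lt_or_ge i 227200 with h6 | h6
            · skip
              rcases Nat.lt_or_ge i 227000 with h7 | h7
              · skip
                exact allRangeF_sound _ _ (checkPointF_eq cert) 226900 100 chkP_226900 i (by omega) (by omega)
              · skip
                rcases Nat.lt_or_ge i 227100 with h8 | h8
                · skip
                  exact allRangeF_sound _ _ (checkPointF_eq cert) 227000 100 chkP_227000 i (by omega) (by omega)
                · skip
                  exact allRangeF_sound _ _ (checkPointF_eq cert) 227100 100 chkP_227100 i (by omega) (by omega)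
            · skip
              rcases Nat.lt_or_ge i 227300 with h7 | h7
              · skip
                exact allRangeF_sound _ _ (checkPointF_eq cert) 227200 100 chkP_227200 i (by omega) (by omega)
              · skip
                rcases Nat.lt_or_ge i 227400 with h8 | h8
                · skip
                  exact allRangeF_sound _ _ (checkPointF_eq cert) 227300 100 chkP_227300 i (by omega) (by omega)
                · skip
                  exact allRangeF_sound _ _ (checkPointF_eq cert) 227400 100 chkP_227400 i (by omega) (by omega)
      · skip
        rcases Nat.lt_or_ge i 228500 with h4 | h4
        · skip
          rcases Nat.lt_or_ge i 228000 with h5 | h5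
          · skip
            rcases Nat.lt_or_ge i 227700 with h6 | h6
            · skip
              rcases Nat.lt_or_ge i 227600 with h7 | h7
              · skip
                exact allRangeF_sound _ _ (checkPointF_eq cert) 227500 100 chkP_227500 i (by omega) (by omega)
              · skip
                exact allRangeF_sound _ _ (checkPointF_eq cert) 227600 100 chkP_227600 i (by omega) (by omega)
            · skip
              rcases Nat.lt_or_ge i 227800 with h7 | h7
              · skip
                exact allRangeF_sound _ _ (checkPointF_eq cert) 227700 100 chkP_227700 i (by omega) (by omega)
              · skip
                rcases Nat.lt_or_ge i 227900 with h8 | h8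
                · skip
                  exact allRangeF_sound _ _ (checkPointF_eq cert) 227800 100 chkP_227800 i (by omega) (by omega)
                · skip
                  exact allRangeF_sound _ _ (checkPointF_eq cert) 227900 100 chkP_227900 i (by omega) (by omega)
          · skip
            rcases Nat.lt_or_ge i 228200 with h6 | h6
            · skip
              rcases Nat.lt_or_ge i 228100 with h7 | h7
              · skip
                exact allRangeF_sound _ _ (checkPointF_eq cert) 228000 100 chkP_228000 i (by omega) (by omega)
              · skip
                exact allRangeF_sound _ _ (checkPointF_eq cert) 228100 100 chkP_228100 i (by omega) (by omega)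
            · skip
              rcases Nat.lt_or_ge i 228300 with h7 | h7
              · skip
                exact allRangeF_sound _ _ (checkPointF_eq cert) 228200 100 chkP_228200 i (by omega) (by omega)
              · skip
                rcases Nat.lt_or_ge i 228400 with h8 | h8
                · skip
                  exact allRangeF_sound _ _ (checkPointF_eq cert) 228300 100 chkP_228300 i (by omega) (by omega)
                · skip
                  exact allRangeF_sound _ _ (checkPointF_eq cert) 228400 100 chkP_228400 i (by omega) (by omega)
        · skip
          rcases Nat.lt_or_ge i 229000 with h5 | h5
          · skip
            rcases Nat.lt_or_ge i 228700 with h6 | h6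
            · skip
              rcases Nat.lt_or_ge i 228600 with h7 | h7
              · skip
                exact allRangeF_sound _ _ (checkPointF_eq cert) 228500 100 chkP_228500 i (by omega) (by omega)
              · skip
                exact allRangeF_sound _ _ (checkPointF_eq cert) 228600 100 chkP_228600 i (by omega) (by omega)
            · skip
              rcases Nat.lt_or_ge i 228800 with h7 | h7
              · skip
                exact allRangeF_sound _ _ (checkPointF_eq cert) 228700 100 chkP_228700 i (by omega) (by omega)
              · skip
                rcases Nat.lt_or_ge i 228900 with h8 | h8
                · skip
                  exact allRangeF_sound _ _ (checkPointF_eq cert) 228800 100 chkP_228800 i (by omega) (by omega)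
                · skip
                  exact allRangeF_sound _ _ (checkPointF_eq cert) 228900 100 chkP_228900 i (by omega) (by omega)
          · skip
            rcases Nat.lt_or_ge i 229300 with h6 | h6
            · skip
              rcases Nat.lt_or_ge i 229100 with h7 | h7
              · skip
                exact allRangeF_sound _ _ (checkPointF_eq cert) 229000 100 chkP_229000 i (by omega) (by omega)
              · skip
                rcases Nat.lt_or_ge i 229200 with h8 | h8
                · skip
                  exact allRangeF_sound _ _ (checkPointF_eq cert) 229100 100 chkP_229100 i (by omega) (by omega)
                · skip
                  exact allRangeF_sound _ _ (checkPointF_eq cert) 229200 100 chkP_229200 i (by omega) (by omega)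
            · skip
              rcases Nat.lt_or_ge i 229400 with h7 | h7
              · skip
                exact allRangeF_sound _ _ (checkPointF_eq cert) 229300 100 chkP_229300 i (by omega) (by omega)
              · skip
                rcases Nat.lt_or_ge i 229500 with h8 | h8
                · skip
                  exact allRangeF_sound _ _ (checkPointF_eq cert) 229400 100 chkP_229400 i (by omega) (by omega)
                · skip
                  exact allRangeF_sound _ _ (checkPointF_eq cert) 229500 100 chkP_229500 i (by omega) (by omega)
    · skip
      rcases Nat.lt_or_ge i 231700 with h3 | h3
      · skip
        rcases Nat.lt_or_ge i 230600 with h4 | h4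
        · skip
          rcases Nat.lt_or_ge i 230100 with h5 | h5
          · skip
            rcases Nat.lt_or_ge i 229800 with h6 | h6
            · skip
              rcases Nat.lt_or_ge i 229700 with h7 | h7
              · skip
                exact allRangeF_sound _ _ (checkPointF_eq cert) 229600 100 chkP_229600 i (by omega) (by omega)
              · skip
                exact allRangeF_sound _ _ (checkPointF_eq cert) 229700 100 chkP_229700 i (by omega) (by omega)
            · skip
              rcases Nat.lt_or_ge i 229900 with h7 | h7
              · skip
                exact allRangeF_sound _ _ (checkPointF_eq cert) 229800 100 chkP_229800 i (by omega) (by omega)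
              · skip
                rcases Nat.lt_or_ge i 230000 with h8 | h8
                · skip
                  exact allRangeF_sound _ _ (checkPointF_eq cert) 229900 100 chkP_229900 i (by omega) (by omega)
                · skip
                  exact allRangeF_sound _ _ (checkPointF_eq cert) 230000 100 chkP_230000 i (by omega) (by omega)
          · skip
            rcases Nat.lt_or_ge i 230300 with h6 | h6
            · skip
              rcases Nat.lt_or_ge i 230200 with h7 | h7
              · skip
                exact allRangeF_sound _ _ (checkPointF_eq cert) 230100 100 chkP_230100 i (by omega) (by omega)
              · skip
                exact allRangeF_sound _ _ (checkPointF_eq cert) 230200 100 chkP_230200 i (by omega) (by omega)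
            · skip
              rcases Nat.lt_or_ge i 230400 with h7 | h7
              · skip
                exact allRangeF_sound _ _ (checkPointF_eq cert) 230300 100 chkP_230300 i (by omega) (by omega)
              · skip
                rcases Nat.lt_or_ge i 230500 with h8 | h8
                · skip
                  exact allRangeF_sound _ _ (checkPointF_eq cert) 230400 100 chkP_230400 i (by omega) (by omega)
                · skip
                  exact allRangeF_sound _ _ (checkPointF_eq cert) 230500 100 chkP_230500 i (by omega) (by omega)
        · skip
          rcases Nat.lt_or_ge i 231100 with h5 | h5
          · skip
            rcases Nat.lt_or_ge i 230800 with h6 | h6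
            · skip
              rcases Nat.lt_or_ge i 230700 with h7 | h7
              · skip
                exact allRangeF_sound _ _ (checkPointF_eq cert) 230600 100 chkP_230600 i (by omega) (by omega)
              · skip
                exact allRangeF_sound _ _ (checkPointF_eq cert) 230700 100 chkP_230700 i (by omega) (by omega)
            · skip
              rcases Nat.lt_or_ge i 230900 with h7 | h7
              · skip
                exact allRangeF_sound _ _ (checkPointF_eq cert) 230800 100 chkP_230800 i (by omega) (by omega)
              · skip
                rcases Nat.lt_or_ge i 231000 with h8 | h8
                · skip
                  exact allRangeF_sound _ _ (checkPointF_eq cert) 230900 100 chkP_230900 i (by omega) (by omega)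
                · skip
                  exact allRangeF_sound _ _ (checkPointF_eq cert) 231000 100 chkP_231000 i (by omega) (by omega)
          · skip
            rcases Nat.lt_or_ge i 231400 with h6 | h6
            · skip
              rcases Nat.lt_or_ge i 231200 with h7 | h7
              · skip
                exact allRangeF_sound _ _ (checkPointF_eq cert) 231100 100 chkP_231100 i (by omega) (by omega)
              · skip
                rcases Nat.lt_or_ge i 231300 with h8 | h8
                · skip
                  exact allRangeF_sound _ _ (checkPointF_eq cert) 231200 100 chkP_231200 i (by omega) (by omega)
                · skip
                  exact allRangeF_sound _ _ (checkPointF_eq cert) 231300 100 chkP_231300 i (by omega) (by omega)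
            · skip
              rcases Nat.lt_or_ge i 231500 with h7 | h7
              · skip
                exact allRangeF_sound _ _ (checkPointF_eq cert) 231400 100 chkP_231400 i (by omega) (by omega)
              · skip
                rcases Nat.lt_or_ge i 231600 with h8 | h8
                · skip
                  exact allRangeF_sound _ _ (checkPointF_eq cert) 231500 100 chkP_231500 i (by omega) (by omega)
                · skip
                  exact allRangeF_sound _ _ (checkPointF_eq cert) 231600 100 chkP_231600 i (by omega) (by omega)
      · skip
        rcases Nat.lt_or_ge i 232700 with h4 | h4
        · skip
          rcases Nat.lt_or_ge i 232200 with h5 | h5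
          · skip
            rcases Nat.lt_or_ge i 231900 with h6 | h6
            · skip
              rcases Nat.lt_or_ge i 231800 with h7 | h7
              · skip
                exact allRangeF_sound _ _ (checkPointF_eq cert) 231700 100 chkP_231700 i (by omega) (by omega)
              · skip
                exact allRangeF_sound _ _ (checkPointF_eq cert) 231800 100 chkP_231800 i (by omega) (by omega)
            · skip
              rcases Nat.lt_or_ge i 232000 with h7 | h7
              · skip
                exact allRangeF_sound _ _ (checkPointF_eq cert) 231900 100 chkP_231900 i (by omega) (by omega)
              · skip
                rcases Nat.lt_or_ge i 232100 with h8 | h8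
                · skip
                  exact allRangeF_sound _ _ (checkPointF_eq cert) 232000 100 chkP_232000 i (by omega) (by omega)
                · skip
                  exact allRangeF_sound _ _ (checkPointF_eq cert) 232100 100 chkP_232100 i (by omega) (by omega)
          · skip
            rcases Nat.lt_or_ge i 232400 with h6 | h6
            · skip
              rcases Nat.lt_or_ge i 232300 with h7 | h7
              · skip
                exact allRangeF_sound _ _ (checkPointF_eq cert) 232200 100 chkP_232200 i (by omega) (by omega)
              · skip
                exact allRangeF_sound _ _ (checkPointF_eq cert) 232300 100 chkP_232300 i (by omega) (by omega)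
            · skip
              rcases Nat.lt_or_ge i 232500 with h7 | h7
              · skip
                exact allRangeF_sound _ _ (checkPointF_eq cert) 232400 100 chkP_232400 i (by omega) (by omega)
              · skip
                rcases Nat.lt_or_ge i 232600 with h8 | h8
                · skip
                  exact allRangeF_sound _ _ (checkPointF_eq cert) 232500 100 chkP_232500 i (by omega) (by omega)
                · skip
                  exact allRangeF_sound _ _ (checkPointF_eq cert) 232600 100 chkP_232600 i (by omega) (by omega)
        · skip
          rcases Nat.lt_or_ge i 233200 with h5 | h5
          · skip
            rcases Nat.lt_or_ge i 232900 with h6 | h6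
            · skip
              rcases Nat.lt_or_ge i 232800 with h7 | h7
              · skip
                exact allRangeF_sound _ _ (checkPointF_eq cert) 232700 100 chkP_232700 i (by omega) (by omega)
              · skip
                exact allRangeF_sound _ _ (checkPointF_eq cert) 232800 100 chkP_232800 i (by omega) (by omega)
            · skip
              rcases Nat.lt_or_ge i 233000 with h7 | h7
              · skip
                exact allRangeF_sound _ _ (checkPointF_eq cert) 232900 100 chkP_232900 i (by omega) (by omega)
              · skip
                rcases Nat.lt_or_ge i 233100 with h8 | h8
                · skip
                  exact allRangeF_sound _ _ (checkPointF_eq cert) 233000 100 chkP_233000 i (by omega) (by omega)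
                · skip
                  exact allRangeF_sound _ _ (checkPointF_eq cert) 233100 100 chkP_233100 i (by omega) (by omega)
          · skip
            rcases Nat.lt_or_ge i 233500 with h6 | h6
            · skip
              rcases Nat.lt_or_ge i 233300 with h7 | h7
              · skip
                exact allRangeF_sound _ _ (checkPointF_eq cert) 233200 100 chkP_233200 i (by omega) (by omega)
              · skip
                rcases Nat.lt_or_ge i 233400 with h8 | h8
                · skip
                  exact allRangeF_sound _ _ (checkPointF_eq cert) 233300 100 chkP_233300 i (by omega) (by omega)
                · skip
                  exact allRangeF_sound _ _ (checkPointF_eq cert) 233400 100 chkP_233400 i (by omega) (by omega)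
            · skip
              rcases Nat.lt_or_ge i 233600 with h7 | h7
              · skip
                exact allRangeF_sound _ _ (checkPointF_eq cert) 233500 100 chkP_233500 i (by omega) (by omega)
              · skip
                rcases Nat.lt_or_ge i 233700 with h8 | h8
                · skip
                  exact allRangeF_sound _ _ (checkPointF_eq cert) 233600 100 chkP_233600 i (by omega) (by omega)
                · skip
                  exact allRangeF_sound _ _ (checkPointF_eq cert) 233700 100 chkP_233700 i (by omega) (by omega)

end Cfsg.Agent.Lib.Helper28.He2Data
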