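import Cfsg.Agent.Lib.Helper28.He2Data
import Cfsg.Agent.Lib.Helper28.TCFast

set_option autoImplicit false
set_option maxRecDepth 1000000
set_option linter.all false
set_option Elab.async false

namespace Cfsg.Agent.Lib.Helper28.He2Data

open Cfsg.Agent.Lib.Helper28

theorem chkP_250500 : allRangeF (checkPointF cert) (nat_lit 250500) (nat_lit 100) = true := by decide +kernel
theorem chkP_250600 : allRangeF (checkPointF cert) (nat_lit 250600) (nat_lit 100) = true := by decide +kernel
theorem chkP_250700 : allRangeF (checkPointF cert) (nat_lit 250700) (nat_lit 100) = true := by decide +kernel
theorem chkP_250800 : allRangeF (checkPointF cert) (nat_lit 250800) (nat_lit 100) = true := by decide +kernel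
theorem chkP_250900 : allRangeF (checkPointF cert) (nat_lit 250900) (nat_lit 100) = true := by decide +kernel
theorem chkP_251000 : allRangeF (checkPointF cert) (nat_lit 251000) (nat_lit 100) = true := by decide +kernel
theorem chkP_251100 : allRangeF (checkPointF cert) (nat_lit 251100) (nat_lit 100) = true := by decide +kernel
theorem chkP_251200 : allRangeF (checkPointF cert) (nat_lit 251200) (nat_lit 100) = true := by decide +kernel
theorem chkP_251300 : allRangeF (checkPointF cert) (nat_lit 251300) (nat_lit 100) = true := by decide +kernel
theorem chkP_251400 : allRangeF (checkPointF cert) (nat_lit 251400) (nat_lit 100) = true := by decide +kernel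
theorem chkP_251500 : allRangeF (checkPointF cert) (nat_lit 251500) (nat_lit 100) = true := by decide +kernel
theorem chkP_251600 : allRangeF (checkPointF cert) (nat_lit 251600) (nat_lit 100) = true := by decide +kernel
theorem chkP_251700 : allRangeF (checkPointF cert) (nat_lit 251700) (nat_lit 100) = true := by decide +kernel
theorem chkP_251800 : allRangeF (checkPointF cert) (nat_lit 251800) (nat_lit 100) = true := by decide +kernel
theorem chkP_251900 : allRangeF (checkPointF cert) (nat_lit 251900) (nat_lit 100) = true := by decide +kernel
theorem chkP_252000 : allRangeF (checkPointF cert) (nat_lit 252000) (nat_lit 100) = true := by decide +kernel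
theorem chkP_252100 : allRangeF (checkPointF cert) (nat_lit 252100) (nat_lit 100) = true := by decide +kernel
theorem chkP_252200 : allRangeF (checkPointF cert) (nat_lit 252200) (nat_lit 100) = true := by decide +kernel
theorem chkP_252300 : allRangeF (checkPointF cert) (nat_lit 252300) (nat_lit 100) = true := by decide +kernel
theorem chkP_252400 : allRangeF (checkPointF cert) (nat_lit 252400) (nat_lit 100) = true := by decide +kernel
theorem chkP_252500 : allRangeF (checkPointF cert) (nat_lit 252500) (nat_lit 100) = true := by decide +kernel
theorem chkP_252600 : allRangeF (checkPointF cert) (nat_lit 252600) (nat_lit 100) = true := by decide +kernel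
theorem chkP_252700 : allRangeF (checkPointF cert) (nat_lit 252700) (nat_lit 100) = true := by decide +kernel
theorem chkP_252800 : allRangeF (checkPointF cert) (nat_lit 252800) (nat_lit 100) = true := by decide +kernel
theorem chkP_252900 : allRangeF (checkPointF cert) (nat_lit 252900) (nat_lit 100) = true := by decide +kernel
theorem chkP_253000 : allRangeF (checkPointF cert) (nat_lit 253000) (nat_lit 100) = true := by decide +kernel
theorem chkP_253100 : allRangeF (checkPointF cert) (nat_lit 253100) (nat_lit 100) = true := by decide +kernel
theorem chkP_253200 : allRangeF (checkPointF cert) (nat_lit 253200) (nat_lit 100) = true := by decide +kernel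
theorem chkP_253300 : allRangeF (checkPointF cert) (nat_lit 253300) (nat_lit 100) = true := by decide +kernel
theorem chkP_253400 : allRangeF (checkPointF cert) (nat_lit 253400) (nat_lit 100) = true := by decide +kernel
theorem chkP_253500 : allRangeF (checkPointF cert) (nat_lit 253500) (nat_lit 100) = true := by decide +kernel
theorem chkP_253600 : allRangeF (checkPointF cert) (nat_lit 253600) (nat_lit 100) = true := by decide +kernel
theorem chkP_253700 : allRangeF (checkPointF cert) (nat_lit 253700) (nat_lit 100) = true := by decide +kernel
theorem chkP_253800 : allRangeF (checkPointF cert) (nat_lit 253800) (nat_lit 100) = true := by decide +kernel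
theorem chkP_253900 : allRangeF (checkPointF cert) (nat_lit 253900) (nat_lit 100) = true := by decide +kernel
theorem chkP_254000 : allRangeF (checkPointF cert) (nat_lit 254000) (nat_lit 100) = true := by decide +kernel
theorem chkP_254100 : allRangeF (checkPointF cert) (nat_lit 254100) (nat_lit 100) = true := by decide +kernel
theorem chkP_254200 : allRangeF (checkPointF cert) (nat_lit 254200) (nat_lit 100) = true := by decide +kernel
theorem chkP_254300 : allRangeF (checkPointF cert) (nat_lit 254300) (nat_lit 100) = true := by decide +kernel
theorem chkP_254400 : allRangeF (checkPointF cert) (nat_lit 254400) (nat_lit 100) = true := by decide +kernel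
theorem chkP_254500 : allRangeF (checkPointF cert) (nat_lit 254500) (nat_lit 100) = true := by decide +kernel
theorem chkP_254600 : allRangeF (checkPointF cert) (nat_lit 254600) (nat_lit 100) = true := by decide +kernel
theorem chkP_254700 : allRangeF (checkPointF cert) (nat_lit 254700) (nat_lit 100) = true := by decide +kernel
theorem chkP_254800 : allRangeF (checkPointF cert) (nat_lit 254800) (nat_lit 100) = true := by decide +kernel
theorem chkP_254900 : allRangeF (checkPointF cert) (nat_lit 254900) (nat_lit 100) = true := by decide +kernel
theorem chkP_255000 : allRangeF (checkPointF cert) (nat_lit 255000) (nat_lit 100) = true := by decide +kernel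
theorem chkP_255100 : allRangeF (checkPointF cert) (nat_lit 255100) (nat_lit 100) = true := by decide +kernel
theorem chkP_255200 : allRangeF (checkPointF cert) (nat_lit 255200) (nat_lit 100) = true := by decide +kernel
theorem chkP_255300 : allRangeF (checkPointF cert) (nat_lit 255300) (nat_lit 100) = true := by decide +kernel
theorem chkP_255400 : allRangeF (checkPointF cert) (nat_lit 255400) (nat_lit 100) = true := by decide +kernel
theorem chkP_255500 : allRangeF (checkPointF cert) (nat_lit 255500) (nat_lit 100) = true := by decide +kernel
theorem chkP_255600 : allRangeF (checkPointF cert) (nat_lit 255600) (nat_lit 100) = true := by decide +kernel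
theorem chkP_255700 : allRangeF (checkPointF cert) (nat_lit 255700) (nat_lit 100) = true := by decide +kernel
theorem chkP_255800 : allRangeF (checkPointF cert) (nat_lit 255800) (nat_lit 100) = true := by decide +kernel
theorem chkP_255900 : allRangeF (checkPointF cert) (nat_lit 255900) (nat_lit 100) = true := by decide +kernel
theorem chkP_256000 : allRangeF (checkPointF cert) (nat_lit 256000) (nat_lit 100) = true := by decide +kernel
theorem chkP_256100 : allRangeF (checkPointF cert) (nat_lit 256100) (nat_lit 100) = true := by decide +kernel
theorem chkP_256200 : allRangeF (checkPointF cert) (nat_lit 256200) (nat_lit 100) = true := by decide +kernel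
theorem chkP_256300 : allRangeF (checkPointF cert) (nat_lit 256300) (nat_lit 100) = true := by decide +kernel
theorem chkP_256400 : allRangeF (checkPointF cert) (nat_lit 256400) (nat_lit 100) = true := by decide +kernel
theorem chkP_256500 : allRangeF (checkPointF cert) (nat_lit 256500) (nat_lit 100) = true := by decide +kernel
theorem chkP_256600 : allRangeF (checkPointF cert) (nat_lit 256600) (nat_lit 100) = true := by decide +kernel
theorem chkP_256700 : allRangeF (checkPointF cert) (nat_lit 256700) (nat_lit 100) = true := by decide +kernel
theorem chkP_256800 : allRangeF (checkPointF cert) (nat_lit 256800) (nat_lit 100) = true := by decide +kernel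
theorem chkP_256900 : allRangeF (checkPointF cert) (nat_lit 256900) (nat_lit 100) = true := by decide +kernel
theorem chkP_257000 : allRangeF (checkPointF cert) (nat_lit 257000) (nat_lit 100) = true := by decide +kernel
theorem chkP_257100 : allRangeF (checkPointF cert) (nat_lit 257100) (nat_lit 100) = true := by decide +kernel
theorem chkP_257200 : allRangeF (checkPointF cert) (nat_lit 257200) (nat_lit 100) = true := by decide +kernel
theorem chkP_257300 : allRangeF (checkPointF cert) (nat_lit 257300) (nat_lit 100) = true := by decide +kernel
theorem chkP_257400 : allRangeF (checkPointF cert) (nat_lit 257400) (nat_lit 100) = true := by decide +kernel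
theorem chkP_257500 : allRangeF (checkPointF cert) (nat_lit 257500) (nat_lit 100) = true := by decide +kernel
theorem chkP_257600 : allRangeF (checkPointF cert) (nat_lit 257600) (nat_lit 100) = true := by decide +kernel
theorem chkP_257700 : allRangeF (checkPointF cert) (nat_lit 257700) (nat_lit 100) = true := by decide +kernel
theorem chkP_257800 : allRangeF (checkPointF cert) (nat_lit 257800) (nat_lit 100) = true := by decide +kernel
theorem chkP_257900 : allRangeF (checkPointF cert) (nat_lit 257900) (nat_lit 100) = true := by decide +kernel
theorem chkP_258000 : allRangeF (checkPointF cert) (nat_lit 258000) (nat_lit 100) = true := by decide +kernel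
theorem chkP_258100 : allRangeF (checkPointF cert) (nat_lit 258100) (nat_lit 100) = true := by decide +kernel
theorem chkP_258200 : allRangeF (checkPointF cert) (nat_lit 258200) (nat_lit 100) = true := by decide +kernel
theorem chkP_258300 : allRangeF (checkPointF cert) (nat_lit 258300) (nat_lit 100) = true := by decide +kernel
theorem chkP_258400 : allRangeF (checkPointF cert) (nat_lit 258400) (nat_lit 100) = true := by decide +kernel
theorem chkP_258500 : allRangeF (checkPointF cert) (nat_lit 258500) (nat_lit 100) = true := by decide +kernel
theorem chkP_258600 : allRangeF (checkPointF cert) (nat_lit 258600) (nat_lit 100) = true := by decide +kernel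
theorem chkP_258700 : allRangeF (checkPointF cert) (nat_lit 258700) (nat_lit 100) = true := by decide +kernel
theorem chkP_258800 : allRangeF (checkPointF cert) (nat_lit 258800) (nat_lit 100) = true := by decide +kernel
theorem chkP_258900 : allRangeF (checkPointF cert) (nat_lit 258900) (nat_lit 100) = true := by decide +kernel
theorem chkP_259000 : allRangeF (checkPointF cert) (nat_lit 259000) (nat_lit 100) = true := by decide +kernel
theorem chkP_259100 : allRangeF (checkPointF cert) (nat_lit 259100) (nat_lit 100) = true := by decide +kernel
theorem chkP_259200 : allRangeF (checkPointF cert) (nat_lit 259200) (nat_lit 100) = true := by decide +kernel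
theorem chkP_259300 : allRangeF (checkPointF cert) (nat_lit 259300) (nat_lit 100) = true := by decide +kernel
theorem chkP_259400 : allRangeF (checkPointF cert) (nat_lit 259400) (nat_lit 100) = true := by decide +kernel
theorem chkP_259500 : allRangeF (checkPointF cert) (nat_lit 259500) (nat_lit 100) = true := by decide +kernel
theorem chkP_259600 : allRangeF (checkPointF cert) (nat_lit 259600) (nat_lit 100) = true := by decide +kernel
theorem chkP_259700 : allRangeF (checkPointF cert) (nat_lit 259700) (nat_lit 100) = true := by decide +kernel
theorem chkP_259800 : allRangeF (checkPointF cert) (nat_lit 259800) (nat_lit 100) = true := by decide +kernel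
theorem chkP_259900 : allRangeF (checkPointF cert) (nat_lit 259900) (nat_lit 100) = true := by decide +kernel
theorem chkP_260000 : allRangeF (checkPointF cert) (nat_lit 260000) (nat_lit 100) = true := by decide +kernel
theorem chkP_260100 : allRangeF (checkPointF cert) (nat_lit 260100) (nat_lit 100) = true := by decide +kernel
theorem chkP_260200 : allRangeF (checkPointF cert) (nat_lit 260200) (nat_lit 100) = true := by decide +kernel
theorem chkP_260300 : allRangeF (checkPointF cert) (nat_lit 260300) (nat_lit 100) = true := by decide +kernel
theorem chkP_260400 : allRangeF (checkPointF cert) (nat_lit 260400) (nat_lit 100) = true := by decide +kernel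
theorem chkP_260500 : allRangeF (checkPointF cert) (nat_lit 260500) (nat_lit 100) = true := by decide +kernel
theorem chkP_260600 : allRangeF (checkPointF cert) (nat_lit 260600) (nat_lit 100) = true := by decide +kernel
theorem chkP_260700 : allRangeF (checkPointF cert) (nat_lit 260700) (nat_lit 100) = true := by decide +kernel
theorem chkP_260800 : allRangeF (checkPointF cert) (nat_lit 260800) (nat_lit 100) = true := by decide +kernel
theorem chkP_260900 : allRangeF (checkPointF cert) (nat_lit 260900) (nat_lit 100) = true := by decide +kernel
theorem chkP_261000 : allRangeF (checkPointF cert) (nat_lit 261000) (nat_lit 100) = true := by decide +kernel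
theorem chkP_261100 : allRangeF (checkPointF cert) (nat_lit 261100) (nat_lit 100) = true := by decide +kernel
theorem chkP_261200 : allRangeF (checkPointF cert) (nat_lit 261200) (nat_lit 100) = true := by decide +kernel
theorem chkP_261300 : allRangeF (checkPointF cert) (nat_lit 261300) (nat_lit 100) = true := by decide +kernel
theorem chkP_261400 : allRangeF (checkPointF cert) (nat_lit 261400) (nat_lit 100) = true := by decide +kernel
theorem chkP_261500 : allRangeF (checkPointF cert) (nat_lit 261500) (nat_lit 100) = true := by decide +kernel
theorem chkP_261600 : allRangeF (checkPointF cert) (nat_lit 261600) (nat_lit 100) = true := by decide +kernel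
theorem chkP_261700 : allRangeF (checkPointF cert) (nat_lit 261700) (nat_lit 100) = true := by decide +kernel
theorem chkP_261800 : allRangeF (checkPointF cert) (nat_lit 261800) (nat_lit 100) = true := by decide +kernel
theorem chkP_261900 : allRangeF (checkPointF cert) (nat_lit 261900) (nat_lit 100) = true := by decide +kernel
theorem chkP_262000 : allRangeF (checkPointF cert) (nat_lit 262000) (nat_lit 100) = true := by decide +kernel
theorem chkP_262100 : allRangeF (checkPointF cert) (nat_lit 262100) (nat_lit 100) = true := by decide +kernel
theorem chkP_262200 : allRangeF (checkPointF cert) (nat_lit 262200) (nat_lit 100) = true := by decide +kernel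
theorem chkP_262300 : allRangeF (checkPointF cert) (nat_lit 262300) (nat_lit 100) = true := by decide +kernel
theorem chkP_262400 : allRangeF (checkPointF cert) (nat_lit 262400) (nat_lit 100) = true := by decide +kernel
theorem chkP_262500 : allRangeF (checkPointF cert) (nat_lit 262500) (nat_lit 100) = true := by decide +kernel
theorem chkP_262600 : allRangeF (checkPointF cert) (nat_lit 262600) (nat_lit 100) = true := by decide +kernel
theorem chkP_262700 : allRangeF (checkPointF cert) (nat_lit 262700) (nat_lit 100) = true := by decide +kernel
theorem chkP_262800 : allRangeF (checkPointF cert) (nat_lit 262800) (nat_lit 100) = true := by decide +kernel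
theorem chkP_262900 : allRangeF (checkPointF cert) (nat_lit 262900) (nat_lit 100) = true := by decide +kernel
theorem chkP_263000 : allRangeF (checkPointF cert) (nat_lit 263000) (nat_lit 100) = true := by decide +kernel
theorem chkP_263100 : allRangeF (checkPointF cert) (nat_lit 263100) (nat_lit 100) = true := by decide +kernel
theorem chkP_263200 : allRangeF (checkPointF cert) (nat_lit 263200) (nat_lit 100) = true := by decide +kernel
theorem chkP_263300 : allRangeF (checkPointF cert) (nat_lit 263300) (nat_lit 100) = true := by decide +kernel
theorem chkP_263400 : allRangeF (checkPointF cert) (nat_lit 263400) (nat_lit 100) = true := by decide +kernel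
theorem chkP_263500 : allRangeF (checkPointF cert) (nat_lit 263500) (nat_lit 100) = true := by decide +kernel
theorem chkP_263600 : allRangeF (checkPointF cert) (nat_lit 263600) (nat_lit 100) = true := by decide +kernel
theorem chkP_263700 : allRangeF (checkPointF cert) (nat_lit 263700) (nat_lit 100) = true := by decide +kernel
theorem chkP_263800 : allRangeF (checkPointF cert) (nat_lit 263800) (nat_lit 100) = true := by decide +kernel
theorem chkP_263900 : allRangeF (checkPointF cert) (nat_lit 263900) (nat_lit 100) = true := by decide +kernel
theorem chkP_264000 : allRangeF (checkPointF cert) (nat_lit 264000) (nat_lit 100) = true := by decide +kernel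
theorem chkP_264100 : allRangeF (checkPointF cert) (nat_lit 264100) (nat_lit 100) = true := by decide +kernel
theorem chkP_264200 : allRangeF (checkPointF cert) (nat_lit 264200) (nat_lit 100) = true := by decide +kernel
theorem chkP_264300 : allRangeF (checkPointF cert) (nat_lit 264300) (nat_lit 100) = true := by decide +kernel
theorem chkP_264400 : allRangeF (checkPointF cert) (nat_lit 264400) (nat_lit 100) = true := by decide +kernel
theorem chkP_264500 : allRangeF (checkPointF cert) (nat_lit 264500) (nat_lit 100) = true := by decide +kernel
theorem chkP_264600 : allRangeF (checkPointF cert) (nat_lit 264600) (nat_lit 100) = true := by decide +kernel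
theorem chkP_264700 : allRangeF (checkPointF cert) (nat_lit 264700) (nat_lit 100) = true := by decide +kernel
theorem chkP_264800 : allRangeF (checkPointF cert) (nat_lit 264800) (nat_lit 100) = true := by decide +kernel
theorem chkP_264900 : allRangeF (checkPointF cert) (nat_lit 264900) (nat_lit 100) = true := by decide +kernel
theorem chkP_265000 : allRangeF (checkPointF cert) (nat_lit 265000) (nat_lit 100) = true := by decide +kernel
theorem chkP_265100 : allRangeF (checkPointF cert) (nat_lit 265100) (nat_lit 100) = true := by decide +kernel
theorem chkP_265200 : allRangeF (checkPointF cert) (nat_lit 265200) (nat_lit 100) = true := by decide +kernel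
theorem chkP_265300 : allRangeF (checkPointF cert) (nat_lit 265300) (nat_lit 100) = true := by decide +kernel
theorem chkP_265400 : allRangeF (checkPointF cert) (nat_lit 265400) (nat_lit 100) = true := by decide +kernel
theorem chkP_265500 : allRangeF (checkPointF cert) (nat_lit 265500) (nat_lit 100) = true := by decide +kernel
theorem chkP_265600 : allRangeF (checkPointF cert) (nat_lit 265600) (nat_lit 100) = true := by decide +kernel
theorem chkP_265700 : allRangeF (checkPointF cert) (nat_lit 265700) (nat_lit 100) = true := by decide +kernel
theorem chkP_265800 : allRangeF (checkPointF cert) (nat_lit 265800) (nat_lit 100) = true := by decide +kernel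
theorem chkP_265900 : allRangeF (checkPointF cert) (nat_lit 265900) (nat_lit 100) = true := by decide +kernel
theorem chkP_266000 : allRangeF (checkPointF cert) (nat_lit 266000) (nat_lit 100) = true := by decide +kernel
theorem chkP_266100 : allRangeF (checkPointF cert) (nat_lit 266100) (nat_lit 100) = true := by decide +kernel
theorem chkP_266200 : allRangeF (checkPointF cert) (nat_lit 266200) (nat_lit 100) = true := by decide +kernel
theorem chkP_266300 : allRangeF (checkPointF cert) (nat_lit 266300) (nat_lit 100) = true := by decide +kernel
theorem chkP_266400 : allRangeF (checkPointF cert) (nat_lit 266400) (nat_lit 100) = true := by decide +kernel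
theorem chkP_266500 : allRangeF (checkPointF cert) (nat_lit 266500) (nat_lit 60) = true := by decide +kernel

theorem ptsRange_15 : ∀ i, 250500 ≤ i → i < 266560 → checkPoint cert i = true := by
  intro i hlo hhi
  rcases Nat.lt_or_ge i 258500 with h1 | h1
  · skip
    rcases Nat.lt_or_ge i 254500 with h2 | h2
    · skip
      rcases Nat.lt_or_ge i 252500 with h3 | h3
      · skip
        rcases Nat.lt_or_ge i 251500 with h4 | h4
        · skip
          rcases Nat.lt_or_ge i 251000 with h5 | h5
          · skip
            rcases Nat.lt_or_ge i 250700 with h6 | h6
            · skip
              rcases Nat.lt_or_ge i 250600 with h7 | h7
              · skip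
                exact allRangeF_sound _ _ (checkPointF_eq cert) 250500 100 chkP_250500 i (by omega) (by omega)
              · skip
                exact allRangeF_sound _ _ (checkPointF_eq cert) 250600 100 chkP_250600 i (by omega) (by omega)
            · skip
              rcases Nat.lt_or_ge i 250800 with h7 | h7
              · skip
                exact allRangeF_sound _ _ (checkPointF_eq cert) 250700 100 chkP_250700 i (by omega) (by omega)
              · skip
                rcases Nat.lt_or_ge i 250900 with h8 | h8
                · skip
                  exact allRangeF_sound _ _ (checkPointF_eq cert) 250800 100 chkP_250800 i (by omega) (by omega)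
                · skip
                  exact allRangeF_sound _ _ (checkPointF_eq cert) 250900 100 chkP_250900 i (by omega) (by omega)
          · skip
            rcases Nat.lt_or_ge i 251200 with h6 | h6
            · skip
              rcases Nat.lt_or_ge i 251100 with h7 | h7
              · skip
                exact allRangeF_sound _ _ (checkPointF_eq cert) 251000 100 chkP_251000 i (by omega) (by omega)
              · skip
                exact allRangeF_sound _ _ (checkPointF_eq cert) 251100 100 chkP_251100 i (by omega) (by omega)
            · skip
              rcases Nat.lt_or_ge i 251300 with h7 | h7
              · skip
                exact allRangeF_sound _ _ (checkPointF_eq cert) 251200 100 chkP_251200 i (by omega) (by omega)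
              · skip
                rcases Nat.lt_or_ge i 251400 with h8 | h8
                · skip
                  exact allRangeF_sound _ _ (checkPointF_eq cert) 251300 100 chkP_251300 i (by omega) (by omega)
                · skip
                  exact allRangeF_sound _ _ (checkPointF_eq cert) 251400 100 chkP_251400 i (by omega) (by omega)
        · skip
          rcases Nat.lt_or_ge i 252000 with h5 | h5
          · skip
            rcases Nat.lt_or_ge i 251700 with h6 | h6
            · skip
              rcases Nat.lt_or_ge i 251600 with h7 | h7
              · skip
                exact allRangeF_sound _ _ (checkPointF_eq cert) 251500 100 chkP_251500 i (by omega) (by omega)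
              · skip
                exact allRangeF_sound _ _ (checkPointF_eq cert) 251600 100 chkP_251600 i (by omega) (by omega)
            · skip
              rcases Nat.lt_or_ge i 251800 with h7 | h7
              · skip
                exact allRangeF_sound _ _ (checkPointF_eq cert) 251700 100 chkP_251700 i (by omega) (by omega)
              · skip
                rcases Nat.lt_or_ge i 251900 with h8 | h8
                · skip
                  exact allRangeF_sound _ _ (checkPointF_eq cert) 251800 100 chkP_251800 i (by omega) (by omega)
                · skip
                  exact allRangeF_sound _ _ (checkPointF_eq cert) 251900 100 chkP_251900 i (by omega) (by omega)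
          · skip
            rcases Nat.lt_or_ge i 252200 with h6 | h6
            · skip
              rcases Nat.lt_or_ge i 252100 with h7 | h7
              · skip
                exact allRangeF_sound _ _ (checkPointF_eq cert) 252000 100 chkP_252000 i (by omega) (by omega)
              · skip
                exact allRangeF_sound _ _ (checkPointF_eq cert) 252100 100 chkP_252100 i (by omega) (by omega)
            · skip
              rcases Nat.lt_or_ge i 252300 with h7 | h7
              · skip
                exact allRangeF_sound _ _ (checkPointF_eq cert) 252200 100 chkP_252200 i (by omega) (by omega)
              · skip
                rcases Nat.lt_or_ge i 252400 with h8 | h8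
                · skip
                  exact allRangeF_sound _ _ (checkPointF_eq cert) 252300 100 chkP_252300 i (by omega) (by omega)
                · skip
                  exact allRangeF_sound _ _ (checkPointF_eq cert) 252400 100 chkP_252400 i (by omega) (by omega)
      · skip
        rcases Nat.lt_or_ge i 253500 with h4 | h4
        · skip
          rcases Nat.lt_or_ge i 253000 with h5 | h5
          · skip
            rcases Nat.lt_or_ge i 252700 with h6 | h6
            · skip
              rcases Nat.lt_or_ge i 252600 with h7 | h7
              · skip
                exact allRangeF_sound _ _ (checkPointF_eq cert) 252500 100 chkP_252500 i (by omega) (by omega)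
              · skip
                exact allRangeF_sound _ _ (checkPointF_eq cert) 252600 100 chkP_252600 i (by omega) (by omega)
            · skip
              rcases Nat.lt_or_ge i 252800 with h7 | h7
              · skip
                exact allRangeF_sound _ _ (checkPointF_eq cert) 252700 100 chkP_252700 i (by omega) (by omega)
              · skip
                rcases Nat.lt_or_ge i 252900 with h8 | h8
                · skip
                  exact allRangeF_sound _ _ (checkPointF_eq cert) 252800 100 chkP_252800 i (by omega) (by omega)
                · skip
                  exact allRangeF_sound _ _ (checkPointF_eq cert) 252900 100 chkP_252900 i (by omega) (by omega)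
          · skip
            rcases Nat.lt_or_ge i 253200 with h6 | h6
            · skip
              rcases Nat.lt_or_ge i 253100 with h7 | h7
              · skip
                exact allRangeF_sound _ _ (checkPointF_eq cert) 253000 100 chkP_253000 i (by omega) (by omega)
              · skip
                exact allRangeF_sound _ _ (checkPointF_eq cert) 253100 100 chkP_253100 i (by omega) (by omega)
            · skip
              rcases Nat.lt_or_ge i 253300 with h7 | h7
              · skip
                exact allRangeF_sound _ _ (checkPointF_eq cert) 253200 100 chkP_253200 i (by omega) (by omega)
              · skip
                rcases Nat.lt_or_ge i 253400 with h8 | h8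
                · skip
                  exact allRangeF_sound _ _ (checkPointF_eq cert) 253300 100 chkP_253300 i (by omega) (by omega)
                · skip
                  exact allRangeF_sound _ _ (checkPointF_eq cert) 253400 100 chkP_253400 i (by omega) (by omega)
        · skip
          rcases Nat.lt_or_ge i 254000 with h5 | h5
          · skip
            rcases Nat.lt_or_ge i 253700 with h6 | h6
            · skip
              rcases Nat.lt_or_ge i 253600 with h7 | h7
              · skip
                exact allRangeF_sound _ _ (checkPointF_eq cert) 253500 100 chkP_253500 i (by omega) (by omega)
              · skip
                exact allRangeF_sound _ _ (checkPointF_eq cert) 253600 100 chkP_253600 i (by omega) (by omega)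
            · skip
              rcases Nat.lt_or_ge i 253800 with h7 | h7
              · skip
                exact allRangeF_sound _ _ (checkPointF_eq cert) 253700 100 chkP_253700 i (by omega) (by omega)
              · skip
                rcases Nat.lt_or_ge i 253900 with h8 | h8
                · skip
                  exact allRangeF_sound _ _ (checkPointF_eq cert) 253800 100 chkP_253800 i (by omega) (by omega)
                · skip
                  exact allRangeF_sound _ _ (checkPointF_eq cert) 253900 100 chkP_253900 i (by omega) (by omega)
          · skip
            rcases Nat.lt_or_ge i 254200 with h6 | h6
            · skip
              rcases Nat.lt_or_ge i 254100 with h7 | h7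
              · skip
                exact allRangeF_sound _ _ (checkPointF_eq cert) 254000 100 chkP_254000 i (by omega) (by omega)
              · skip
                exact allRangeF_sound _ _ (checkPointF_eq cert) 254100 100 chkP_254100 i (by omega) (by omega)
            · skip
              rcases Nat.lt_or_ge i 254300 with h7 | h7
              · skip
                exact allRangeF_sound _ _ (checkPointF_eq cert) 254200 100 chkP_254200 i (by omega) (by omega)
              · skip
                rcases Nat.lt_or_ge i 254400 with h8 | h8
                · skip
                  exact allRangeF_sound _ _ (checkPointF_eq cert) 254300 100 chkP_254300 i (by omega) (by omega)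
                · skip
                  exact allRangeF_sound _ _ (checkPointF_eq cert) 254400 100 chkP_254400 i (by omega) (by omega)
    · skip
      rcases Nat.lt_or_ge i 256500 with h3 | h3
      · skip
        rcases Nat.lt_or_ge i 255500 with h4 | h4
        · skip
          rcases Nat.lt_or_ge i 255000 with h5 | h5
          · skip
            rcases Nat.lt_or_ge i 254700 with h6 | h6
            · skip
              rcases Nat.lt_or_ge i 254600 with h7 | h7
              · skip
                exact allRangeF_sound _ _ (checkPointF_eq cert) 254500 100 chkP_254500 i (by omega) (by omega)
              · skip
                exact allRangeF_sound _ _ (checkPointF_eq cert) 254600 100 chkP_254600 i (by omega) (by omega)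
            · skip
              rcases Nat.lt_or_ge i 254800 with h7 | h7
              · skip
                exact allRangeF_sound _ _ (checkPointF_eq cert) 254700 100 chkP_254700 i (by omega) (by omega)
              · skip
                rcases Nat.lt_or_ge i 254900 with h8 | h8
                · skip
                  exact allRangeF_sound _ _ (checkPointF_eq cert) 254800 100 chkP_254800 i (by omega) (by omega)
                · skip
                  exact allRangeF_sound _ _ (checkPointF_eq cert) 254900 100 chkP_254900 i (by omega) (by omega)
          · skip
            rcases Nat.lt_or_ge i 255200 with h6 | h6
            · skip
              rcases Nat.lt_or_ge i 255100 with h7 | h7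
              · skip
                exact allRangeF_sound _ _ (checkPointF_eq cert) 255000 100 chkP_255000 i (by omega) (by omega)
              · skip
                exact allRangeF_sound _ _ (checkPointF_eq cert) 255100 100 chkP_255100 i (by omega) (by omega)
            · skip
              rcases Nat.lt_or_ge i 255300 with h7 | h7
              · skip
                exact allRangeF_sound _ _ (checkPointF_eq cert) 255200 100 chkP_255200 i (by omega) (by omega)
              · skip
                rcases Nat.lt_or_ge i 255400 with h8 | h8
                · skip
                  exact allRangeF_sound _ _ (checkPointF_eq cert) 255300 100 chkP_255300 i (by omega) (by omega)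
                · skip
                  exact allRangeF_sound _ _ (checkPointF_eq cert) 255400 100 chkP_255400 i (by omega) (by omega)
        · skip
          rcases Nat.lt_or_ge i 256000 with h5 | h5
          · skip
            rcases Nat.lt_or_ge i 255700 with h6 | h6
            · skip
              rcases Nat.lt_or_ge i 255600 with h7 | h7
              · skip
                exact allRangeF_sound _ _ (checkPointF_eq cert) 255500 100 chkP_255500 i (by omega) (by omega)
              · skip
                exact allRangeF_sound _ _ (checkPointF_eq cert) 255600 100 chkP_255600 i (by omega) (by omega)
            · skip
              rcases Nat.lt_or_ge i 255800 with h7 | h7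
              · skip
                exact allRangeF_sound _ _ (checkPointF_eq cert) 255700 100 chkP_255700 i (by omega) (by omega)
              · skip
                rcases Nat.lt_or_ge i 255900 with h8 | h8
                · skip
                  exact allRangeF_sound _ _ (checkPointF_eq cert) 255800 100 chkP_255800 i (by omega) (by omega)
                · skip
                  exact allRangeF_sound _ _ (checkPointF_eq cert) 255900 100 chkP_255900 i (by omega) (by omega)
          · skip
            rcases Nat.lt_or_ge i 256200 with h6 | h6
            · skip
              rcases Nat.lt_or_ge i 256100 with h7 | h7
              · skip
                exact allRangeF_sound _ _ (checkPointF_eq cert) 256000 100 chkP_256000 i (by omega) (by omega)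
              · skip
                exact allRangeF_sound _ _ (checkPointF_eq cert) 256100 100 chkP_256100 i (by omega) (by omega)
            · skip
              rcases Nat.lt_or_ge i 256300 with h7 | h7
              · skip
                exact allRangeF_sound _ _ (checkPointF_eq cert) 256200 100 chkP_256200 i (by omega) (by omega)
              · skip
                rcases Nat.lt_or_ge i 256400 with h8 | h8
                · skip
                  exact allRangeF_sound _ _ (checkPointF_eq cert) 256300 100 chkP_256300 i (by omega) (by omega)
                · skip
                  exact allRangeF_sound _ _ (checkPointF_eq cert) 256400 100 chkP_256400 i (by omega) (by omega)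
      · skip
        rcases Nat.lt_or_ge i 257500 with h4 | h4
        · skip
          rcases Nat.lt_or_ge i 257000 with h5 | h5
          · skip
            rcases Nat.lt_or_ge i 256700 with h6 | h6
            · skip
              rcases Nat.lt_or_ge i 256600 with h7 | h7
              · skip
                exact allRangeF_sound _ _ (checkPointF_eq cert) 256500 100 chkP_256500 i (by omega) (by omega)
              · skip
                exact allRangeF_sound _ _ (checkPointF_eq cert) 256600 100 chkP_256600 i (by omega) (by omega)
            · skip
              rcases Nat.lt_or_ge i 256800 with h7 | h7
              · skip
                exact allRangeF_sound _ _ (checkPointF_eq cert) 256700 100 chkP_256700 i (by omega) (by omega)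
              · skip
                rcases Nat.lt_or_ge i 256900 with h8 | h8
                · skip
                  exact allRangeF_sound _ _ (checkPointF_eq cert) 256800 100 chkP_256800 i (by omega) (by omega)
                · skip
                  exact allRangeF_sound _ _ (checkPointF_eq cert) 256900 100 chkP_256900 i (by omega) (by omega)
          · skip
            rcases Nat.lt_or_ge i 257200 with h6 | h6
            · skip
              rcases Nat.lt_or_ge i 257100 with h7 | h7
              · skip
                exact allRangeF_sound _ _ (checkPointF_eq cert) 257000 100 chkP_257000 i (by omega) (by omega)
              · skip
                exact allRangeF_sound _ _ (checkPointF_eq cert) 257100 100 chkP_257100 i (by omega) (by omega)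
            · skip
              rcases Nat.lt_or_ge i 257300 with h7 | h7
              · skip
                exact allRangeF_sound _ _ (checkPointF_eq cert) 257200 100 chkP_257200 i (by omega) (by omega)
              · skip
                rcases Nat.lt_or_ge i 257400 with h8 | h8
                · skip
                  exact allRangeF_sound _ _ (checkPointF_eq cert) 257300 100 chkP_257300 i (by omega) (by omega)
                · skip
                  exact allRangeF_sound _ _ (checkPointF_eq cert) 257400 100 chkP_257400 i (by omega) (by omega)
        · skip
          rcases Nat.lt_or_ge i 258000 with h5 | h5
          · skip
            rcases Nat.lt_or_ge i 257700 with h6 | h6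
            · skip
              rcases Nat.lt_or_ge i 257600 with h7 | h7
              · skip
                exact allRangeF_sound _ _ (checkPointF_eq cert) 257500 100 chkP_257500 i (by omega) (by omega)
              · skip
                exact allRangeF_sound _ _ (checkPointF_eq cert) 257600 100 chkP_257600 i (by omega) (by omega)
            · skip
              rcases Nat.lt_or_ge i 257800 with h7 | h7
              · skip
                exact allRangeF_sound _ _ (checkPointF_eq cert) 257700 100 chkP_257700 i (by omega) (by omega)
              · skip
                rcases Nat.lt_or_ge i 257900 with h8 | h8
                · skip
                  exact allRangeF_sound _ _ (checkPointF_eq cert) 257800 100 chkP_257800 i (by omega) (by omega)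
                · skip
                  exact allRangeF_sound _ _ (checkPointF_eq cert) 257900 100 chkP_257900 i (by omega) (by omega)
          · skip
            rcases Nat.lt_or_ge i 258200 with h6 | h6
            · skip
              rcases Nat.lt_or_ge i 258100 with h7 | h7
              · skip
                exact allRangeF_sound _ _ (checkPointF_eq cert) 258000 100 chkP_258000 i (by omega) (by omega)
              · skip
                exact allRangeF_sound _ _ (checkPointF_eq cert) 258100 100 chkP_258100 i (by omega) (by omega)
            · skip
              rcases Nat.lt_or_ge i 258300 with h7 | h7
              · skip
                exact allRangeF_sound _ _ (checkPointF_eq cert) 258200 100 chkP_258200 i (by omega) (by omega)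
              · skip
                rcases Nat.lt_or_ge i 258400 with h8 | h8
                · skip
                  exact allRangeF_sound _ _ (checkPointF_eq cert) 258300 100 chkP_258300 i (by omega) (by omega)
                · skip
                  exact allRangeF_sound _ _ (checkPointF_eq cert) 258400 100 chkP_258400 i (by omega) (by omega)
  · skip
    rcases Nat.lt_or_ge i 262500 with h2 | h2
    · skip
      rcases Nat.lt_or_ge i 260500 with h3 | h3
      · skip
        rcases Nat.lt_or_ge i 259500 with h4 | h4
        · skip
          rcases Nat.lt_or_ge i 259000 with h5 | h5
          · skip
            rcases Nat.lt_or_ge i 258700 with h6 | h6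
            · skip
              rcases Nat.lt_or_ge i 258600 with h7 | h7
              · skip
                exact allRangeF_sound _ _ (checkPointF_eq cert) 258500 100 chkP_258500 i (by omega) (by omega)
              · skip
                exact allRangeF_sound _ _ (checkPointF_eq cert) 258600 100 chkP_258600 i (by omega) (by omega)
            · skip
              rcases Nat.lt_or_ge i 258800 with h7 | h7
              · skip
                exact allRangeF_sound _ _ (checkPointF_eq cert) 258700 100 chkP_258700 i (by omega) (by omega)
              · skip
                rcases Nat.lt_or_ge i 258900 with h8 | h8
                · skip
                  exact allRangeF_sound _ _ (checkPointF_eq cert) 258800 100 chkP_258800 i (by omega) (by omega)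
                · skip
                  exact allRangeF_sound _ _ (checkPointF_eq cert) 258900 100 chkP_258900 i (by omega) (by omega)
          · skip
            rcases Nat.lt_or_ge i 259200 with h6 | h6
            · skip
              rcases Nat.lt_or_ge i 259100 with h7 | h7
              · skip
                exact allRangeF_sound _ _ (checkPointF_eq cert) 259000 100 chkP_259000 i (by omega) (by omega)
              · skip
                exact allRangeF_sound _ _ (checkPointF_eq cert) 259100 100 chkP_259100 i (by omega) (by omega)
            · skip
              rcases Nat.lt_or_ge i 259300 with h7 | h7
              · skip
                exact allRangeF_sound _ _ (checkPointF_eq cert) 259200 100 chkP_259200 i (by omega) (by omega)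
              · skip
                rcases Nat.lt_or_ge i 259400 with h8 | h8
                · skip
                  exact allRangeF_sound _ _ (checkPointF_eq cert) 259300 100 chkP_259300 i (by omega) (by omega)
                · skip
                  exact allRangeF_sound _ _ (checkPointF_eq cert) 259400 100 chkP_259400 i (by omega) (by omega)
        · skip
          rcases Nat.lt_or_ge i 260000 with h5 | h5
          · skip
            rcases Nat.lt_or_ge i 259700 with h6 | h6
            · skip
              rcases Nat.lt_or_ge i 259600 with h7 | h7
              · skip
                exact allRangeF_sound _ _ (checkPointF_eq cert) 259500 100 chkP_259500 i (by omega) (by omega)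
              · skip
                exact allRangeF_sound _ _ (checkPointF_eq cert) 259600 100 chkP_259600 i (by omega) (by omega)
            · skip
              rcases Nat.lt_or_ge i 259800 with h7 | h7
              · skip
                exact allRangeF_sound _ _ (checkPointF_eq cert) 259700 100 chkP_259700 i (by omega) (by omega)
              · skip
                rcases Nat.lt_or_ge i 259900 with h8 | h8
                · skip
                  exact allRangeF_sound _ _ (checkPointF_eq cert) 259800 100 chkP_259800 i (by omega) (by omega)
                · skip
                  exact allRangeF_sound _ _ (checkPointF_eq cert) 259900 100 chkP_259900 i (by omega) (by omega)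
          · skip
            rcases Nat.lt_or_ge i 260200 with h6 | h6
            · skip
              rcases Nat.lt_or_ge i 260100 with h7 | h7
              · skip
                exact allRangeF_sound _ _ (checkPointF_eq cert) 260000 100 chkP_260000 i (by omega) (by omega)
              · skip
                exact allRangeF_sound _ _ (checkPointF_eq cert) 260100 100 chkP_260100 i (by omega) (by omega)
            · skip
              rcases Nat.lt_or_ge i 260300 with h7 | h7
              · skip
                exact allRangeF_sound _ _ (checkPointF_eq cert) 260200 100 chkP_260200 i (by omega) (by omega)
              · skip
                rcases Nat.lt_or_ge i 260400 with h8 | h8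
                · skip
                  exact allRangeF_sound _ _ (checkPointF_eq cert) 260300 100 chkP_260300 i (by omega) (by omega)
                · skip
                  exact allRangeF_sound _ _ (checkPointF_eq cert) 260400 100 chkP_260400 i (by omega) (by omega)
      · skip
        rcases Nat.lt_or_ge i 261500 with h4 | h4
        · skip
          rcases Nat.lt_or_ge i 261000 with h5 | h5
          · skip
            rcases Nat.lt_or_ge i 260700 with h6 | h6
            · skip
              rcases Nat.lt_or_ge i 260600 with h7 | h7
              · skip
                exact allRangeF_sound _ _ (checkPointF_eq cert) 260500 100 chkP_260500 i (by omega) (by omega)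
              · skip
                exact allRangeF_sound _ _ (checkPointF_eq cert) 260600 100 chkP_260600 i (by omega) (by omega)
            · skip
              rcases Nat.lt_or_ge i 260800 with h7 | h7
              · skip
                exact allRangeF_sound _ _ (checkPointF_eq cert) 260700 100 chkP_260700 i (by omega) (by omega)
              · skip
                rcases Nat.lt_or_ge i 260900 with h8 | h8
                · skip
                  exact allRangeF_sound _ _ (checkPointF_eq cert) 260800 100 chkP_260800 i (by omega) (by omega)
                · skip
                  exact allRangeF_sound _ _ (checkPointF_eq cert) 260900 100 chkP_260900 i (by omega) (by omega)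
          · skip
            rcases Nat.lt_or_ge i 261200 with h6 | h6
            · skip
              rcases Nat.lt_or_ge i 261100 with h7 | h7
              · skip
                exact allRangeF_sound _ _ (checkPointF_eq cert) 261000 100 chkP_261000 i (by omega) (by omega)
              · skip
                exact allRangeF_sound _ _ (checkPointF_eq cert) 261100 100 chkP_261100 i (by omega) (by omega)
            · skip
              rcases Nat.lt_or_ge i 261300 with h7 | h7
              · skip
                exact allRangeF_sound _ _ (checkPointF_eq cert) 261200 100 chkP_261200 i (by omega) (by omega)
              · skip
                rcases Nat.lt_or_ge i 261400 with h8 | h8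
                · skip
                  exact allRangeF_sound _ _ (checkPointF_eq cert) 261300 100 chkP_261300 i (by omega) (by omega)
                · skip
                  exact allRangeF_sound _ _ (checkPointF_eq cert) 261400 100 chkP_261400 i (by omega) (by omega)
        · skip
          rcases Nat.lt_or_ge i 262000 with h5 | h5
          · skip
            rcases Nat.lt_or_ge i 261700 with h6 | h6
            · skip
              rcases Nat.lt_or_ge i 261600 with h7 | h7
              · skip
                exact allRangeF_sound _ _ (checkPointF_eq cert) 261500 100 chkP_261500 i (by omega) (by omega)
              · skip
                exact allRangeF_sound _ _ (checkPointF_eq cert) 261600 100 chkP_261600 i (by omega) (by omega)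
            · skip
              rcases Nat.lt_or_ge i 261800 with h7 | h7
              · skip
                exact allRangeF_sound _ _ (checkPointF_eq cert) 261700 100 chkP_261700 i (by omega) (by omega)
              · skip
                rcases Nat.lt_or_ge i 261900 with h8 | h8
                · skip
                  exact allRangeF_sound _ _ (checkPointF_eq cert) 261800 100 chkP_261800 i (by omega) (by omega)
                · skip
                  exact allRangeF_sound _ _ (checkPointF_eq cert) 261900 100 chkP_261900 i (by omega) (by omega)
          · skip
            rcases Nat.lt_or_ge i 262200 with h6 | h6
            · skip
              rcases Nat.lt_or_ge i 262100 with h7 | h7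
              · skip
                exact allRangeF_sound _ _ (checkPointF_eq cert) 262000 100 chkP_262000 i (by omega) (by omega)
              · skip
                exact allRangeF_sound _ _ (checkPointF_eq cert) 262100 100 chkP_262100 i (by omega) (by omega)
            · skip
              rcases Nat.lt_or_ge i 262300 with h7 | h7
              · skip
                exact allRangeF_sound _ _ (checkPointF_eq cert) 262200 100 chkP_262200 i (by omega) (by omega)
              · skip
                rcases Nat.lt_or_ge i 262400 with h8 | h8
                · skip
                  exact allRangeF_sound _ _ (checkPointF_eq cert) 262300 100 chkP_262300 i (by omega) (by omega)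
                · skip
                  exact allRangeF_sound _ _ (checkPointF_eq cert) 262400 100 chkP_262400 i (by omega) (by omega)
    · skip
      rcases Nat.lt_or_ge i 264500 with h3 | h3
      · skip
        rcases Nat.lt_or_ge i 263500 with h4 | h4
        · skip
          rcases Nat.lt_or_ge i 263000 with h5 | h5
          · skip
            rcases Nat.lt_or_ge i 262700 with h6 | h6
            · skip
              rcases Nat.lt_or_ge i 262600 with h7 | h7
              · skip
                exact allRangeF_sound _ _ (checkPointF_eq cert) 262500 100 chkP_262500 i (by omega) (by omega)
              · skip
                exact allRangeF_sound _ _ (checkPointF_eq cert) 262600 100 chkP_262600 i (by omega) (by omega)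
            · skip
              rcases Nat.lt_or_ge i 262800 with h7 | h7
              · skip
                exact allRangeF_sound _ _ (checkPointF_eq cert) 262700 100 chkP_262700 i (by omega) (by omega)
              · skip
                rcases Nat.lt_or_ge i 262900 with h8 | h8
                · skip
                  exact allRangeF_sound _ _ (checkPointF_eq cert) 262800 100 chkP_262800 i (by omega) (by omega)
                · skip
                  exact allRangeF_sound _ _ (checkPointF_eq cert) 262900 100 chkP_262900 i (by omega) (by omega)
          · skip
            rcases Nat.lt_or_ge i 263200 with h6 | h6
            · skip
              rcases Nat.lt_or_ge i 263100 with h7 | h7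
              · skip
                exact allRangeF_sound _ _ (checkPointF_eq cert) 263000 100 chkP_263000 i (by omega) (by omega)
              · skip
                exact allRangeF_sound _ _ (checkPointF_eq cert) 263100 100 chkP_263100 i (by omega) (by omega)
            · skip
              rcases Nat.lt_or_ge i 263300 with h7 | h7
              · skip
                exact allRangeF_sound _ _ (checkPointF_eq cert) 263200 100 chkP_263200 i (by omega) (by omega)
              · skip
                rcases Nat.lt_or_ge i 263400 with h8 | h8
                · skip
                  exact allRangeF_sound _ _ (checkPointF_eq cert) 263300 100 chkP_263300 i (by omega) (by omega)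
                · skip
                  exact allRangeF_sound _ _ (checkPointF_eq cert) 263400 100 chkP_263400 i (by omega) (by omega)
        · skip
          rcases Nat.lt_or_ge i 264000 with h5 | h5
          · skip
            rcases Nat.lt_or_ge i 263700 with h6 | h6
            · skip
              rcases Nat.lt_or_ge i 263600 with h7 | h7
              · skip
                exact allRangeF_sound _ _ (checkPointF_eq cert) 263500 100 chkP_263500 i (by omega) (by omega)
              · skip
                exact allRangeF_sound _ _ (checkPointF_eq cert) 263600 100 chkP_263600 i (by omega) (by omega)
            · skip
              rcases Nat.lt_or_ge i 263800 with h7 | h7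
              · skip
                exact allRangeF_sound _ _ (checkPointF_eq cert) 263700 100 chkP_263700 i (by omega) (by omega)
              · skip
                rcases Nat.lt_or_ge i 263900 with h8 | h8
                · skip
                  exact allRangeF_sound _ _ (checkPointF_eq cert) 263800 100 chkP_263800 i (by omega) (by omega)
                · skip
                  exact allRangeF_sound _ _ (checkPointF_eq cert) 263900 100 chkP_263900 i (by omega) (by omega)
          · skip
            rcases Nat.lt_or_ge i 264200 with h6 | h6
            · skip
              rcases Nat.lt_or_ge i 264100 with h7 | h7
              · skip
                exact allRangeF_sound _ _ (checkPointF_eq cert) 264000 100 chkP_264000 i (by omega) (by omega)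
              · skip
                exact allRangeF_sound _ _ (checkPointF_eq cert) 264100 100 chkP_264100 i (by omega) (by omega)
            · skip
              rcases Nat.lt_or_ge i 264300 with h7 | h7
              · skip
                exact allRangeF_sound _ _ (checkPointF_eq cert) 264200 100 chkP_264200 i (by omega) (by omega)
              · skip
                rcases Nat.lt_or_ge i 264400 with h8 | h8
                · skip
                  exact allRangeF_sound _ _ (checkPointF_eq cert) 264300 100 chkP_264300 i (by omega) (by omega)
                · skip
                  exact allRangeF_sound _ _ (checkPointF_eq cert) 264400 100 chkP_264400 i (by omega) (by omega)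
      · skip
        rcases Nat.lt_or_ge i 265500 with h4 | h4
        · skip
          rcases Nat.lt_or_ge i 265000 with h5 | h5
          · skip
            rcases Nat.lt_or_ge i 264700 with h6 | h6
            · skip
              rcases Nat.lt_or_ge i 264600 with h7 | h7
              · skip
                exact allRangeF_sound _ _ (checkPointF_eq cert) 264500 100 chkP_264500 i (by omega) (by omega)
              · skip
                exact allRangeF_sound _ _ (checkPointF_eq cert) 264600 100 chkP_264600 i (by omega) (by omega)
            · skip
              rcases Nat.lt_or_ge i 264800 with h7 | h7
              · skip
                exact allRangeF_sound _ _ (checkPointF_eq cert) 264700 100 chkP_264700 i (by omega) (by omega)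
              · skip
                rcases Nat.lt_or_ge i 264900 with h8 | h8
                · skip
                  exact allRangeF_sound _ _ (checkPointF_eq cert) 264800 100 chkP_264800 i (by omega) (by omega)
                · skip
                  exact allRangeF_sound _ _ (checkPointF_eq cert) 264900 100 chkP_264900 i (by omega) (by omega)
          · skip
            rcases Nat.lt_or_ge i 265200 with h6 | h6
            · skip
              rcases Nat.lt_or_ge i 265100 with h7 | h7
              · skip
                exact allRangeF_sound _ _ (checkPointF_eq cert) 265000 100 chkP_265000 i (by omega) (by omega)
              · skip
                exact allRangeF_sound _ _ (checkPointF_eq cert) 265100 100 chkP_265100 i (by omega) (by omega)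
            · skip
              rcases Nat.lt_or_ge i 265300 with h7 | h7
              · skip
                exact allRangeF_sound _ _ (checkPointF_eq cert) 265200 100 chkP_265200 i (by omega) (by omega)
              · skip
                rcases Nat.lt_or_ge i 265400 with h8 | h8
                · skip
                  exact allRangeF_sound _ _ (checkPointF_eq cert) 265300 100 chkP_265300 i (by omega) (by omega)
                · skip
                  exact allRangeF_sound _ _ (checkPointF_eq cert) 265400 100 chkP_265400 i (by omega) (by omega)
        · skip
          rcases Nat.lt_or_ge i 266000 with h5 | h5
          · skip
            rcases Nat.lt_or_ge i 265700 with h6 | h6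
            · skip
              rcases Nat.lt_or_ge i 265600 with h7 | h7
              · skip
                exact allRangeF_sound _ _ (checkPointF_eq cert) 265500 100 chkP_265500 i (by omega) (by omega)
              · skip
                exact allRangeF_sound _ _ (checkPointF_eq cert) 265600 100 chkP_265600 i (by omega) (by omega)
            · skip
              rcases Nat.lt_or_ge i 265800 with h7 | h7
              · skip
                exact allRangeF_sound _ _ (checkPointF_eq cert) 265700 100 chkP_265700 i (by omega) (by omega)
              · skip
                rcases Nat.lt_or_ge i 265900 with h8 | h8
                · skip
                  exact allRangeF_sound _ _ (checkPointF_eq cert) 265800 100 chkP_265800 i (by omega) (by omega)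
                · skip
                  exact allRangeF_sound _ _ (checkPointF_eq cert) 265900 100 chkP_265900 i (by omega) (by omega)
          · skip
            rcases Nat.lt_or_ge i 266300 with h6 | h6
            · skip
              rcases Nat.lt_or_ge i 266100 with h7 | h7
              · skip
                exact allRangeF_sound _ _ (checkPointF_eq cert) 266000 100 chkP_266000 i (by omega) (by omega)
              · skip
                rcases Nat.lt_or_ge i 266200 with h8 | h8
                · skip
                  exact allRangeF_sound _ _ (checkPointF_eq cert) 266100 100 chkP_266100 i (by omega) (by omega)
                · skip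
                  exact allRangeF_sound _ _ (checkPointF_eq cert) 266200 100 chkP_266200 i (by omega) (by omega)
            · skip
              rcases Nat.lt_or_ge i 266400 with h7 | h7
              · skip
                exact allRangeF_sound _ _ (checkPointF_eq cert) 266300 100 chkP_266300 i (by omega) (by omega)
              · skip
                rcases Nat.lt_or_ge i 266500 with h8 | h8
                · skip
                  exact allRangeF_sound _ _ (checkPointF_eq cert) 266400 100 chkP_266400 i (by omega) (by omega)
                · skip
                  exact allRangeF_sound _ _ (checkPointF_eq cert) 266500 60 chkP_266500 i (by omega) (by omega)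

end Cfsg.Agent.Lib.Helper28.He2Data
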