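import Cfsg.Agent.Lib.Helper28.He2Data
import Cfsg.Agent.Lib.Helper28.TCFast

set_option autoImplicit false
set_option maxRecDepth 1000000
set_option linter.all false
set_option Elab.async false

namespace Cfsg.Agent.Lib.Helper28.He2Data

open Cfsg.Agent.Lib.Helper28

theorem chkP_33400 : allRangeF (checkPointF cert) (nat_lit 33400) (nat_lit 100) = true := by decide +kernel
theorem chkP_33500 : allRangeF (checkPointF cert) (nat_lit 33500) (nat_lit 100) = true := by decide +kernel
theorem chkP_33600 : allRangeF (checkPointF cert) (nat_lit 33600) (nat_lit 100) = true := by decide +kernel
theorem chkP_33700 : allRangeF (checkPointF cert) (nat_lit 33700) (nat_lit 100) = true := by decide +kernel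
theorem chkP_33800 : allRangeF (checkPointF cert) (nat_lit 33800) (nat_lit 100) = true := by decide +kernel
theorem chkP_33900 : allRangeF (checkPointF cert) (nat_lit 33900) (nat_lit 100) = true := by decide +kernel
theorem chkP_34000 : allRangeF (checkPointF cert) (nat_lit 34000) (nat_lit 100) = true := by decide +kernel
theorem chkP_34100 : allRangeF (checkPointF cert) (nat_lit 34100) (nat_lit 100) = true := by decide +kernel
theorem chkP_34200 : allRangeF (checkPointF cert) (nat_lit 34200) (nat_lit 100) = true := by decide +kernel
theorem chkP_34300 : allRangeF (checkPointF cert) (nat_lit 34300) (nat_lit 100) = true := by decide +kernel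
theorem chkP_34400 : allRangeF (checkPointF cert) (nat_lit 34400) (nat_lit 100) = true := by decide +kernel
theorem chkP_34500 : allRangeF (checkPointF cert) (nat_lit 34500) (nat_lit 100) = true := by decide +kernel
theorem chkP_34600 : allRangeF (checkPointF cert) (nat_lit 34600) (nat_lit 100) = true := by decide +kernel
theorem chkP_34700 : allRangeF (checkPointF cert) (nat_lit 34700) (nat_lit 100) = true := by decide +kernel
theorem chkP_34800 : allRangeF (checkPointF cert) (nat_lit 34800) (nat_lit 100) = true := by decide +kernel
theorem chkP_34900 : allRangeF (checkPointF cert) (nat_lit 34900) (nat_lit 100) = true := by decide +kernel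
theorem chkP_35000 : allRangeF (checkPointF cert) (nat_lit 35000) (nat_lit 100) = true := by decide +kernel
theorem chkP_35100 : allRangeF (checkPointF cert) (nat_lit 35100) (nat_lit 100) = true := by decide +kernel
theorem chkP_35200 : allRangeF (checkPointF cert) (nat_lit 35200) (nat_lit 100) = true := by decide +kernel
theorem chkP_35300 : allRangeF (checkPointF cert) (nat_lit 35300) (nat_lit 100) = true := by decide +kernel
theorem chkP_35400 : allRangeF (checkPointF cert) (nat_lit 35400) (nat_lit 100) = true := by decide +kernel
theorem chkP_35500 : allRangeF (checkPointF cert) (nat_lit 35500) (nat_lit 100) = true := by decide +kernel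
theorem chkP_35600 : allRangeF (checkPointF cert) (nat_lit 35600) (nat_lit 100) = true := by decide +kernel
theorem chkP_35700 : allRangeF (checkPointF cert) (nat_lit 35700) (nat_lit 100) = true := by decide +kernel
theorem chkP_35800 : allRangeF (checkPointF cert) (nat_lit 35800) (nat_lit 100) = true := by decide +kernel
theorem chkP_35900 : allRangeF (checkPointF cert) (nat_lit 35900) (nat_lit 100) = true := by decide +kernel
theorem chkP_36000 : allRangeF (checkPointF cert) (nat_lit 36000) (nat_lit 100) = true := by decide +kernel
theorem chkP_36100 : allRangeF (checkPointF cert) (nat_lit 36100) (nat_lit 100) = true := by decide +kernel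
theorem chkP_36200 : allRangeF (checkPointF cert) (nat_lit 36200) (nat_lit 100) = true := by decide +kernel
theorem chkP_36300 : allRangeF (checkPointF cert) (nat_lit 36300) (nat_lit 100) = true := by decide +kernel
theorem chkP_36400 : allRangeF (checkPointF cert) (nat_lit 36400) (nat_lit 100) = true := by decide +kernel
theorem chkP_36500 : allRangeF (checkPointF cert) (nat_lit 36500) (nat_lit 100) = true := by decide +kernel
theorem chkP_36600 : allRangeF (checkPointF cert) (nat_lit 36600) (nat_lit 100) = true := by decide +kernel
theorem chkP_36700 : allRangeF (checkPointF cert) (nat_lit 36700) (nat_lit 100) = true := by decide +kernel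
theorem chkP_36800 : allRangeF (checkPointF cert) (nat_lit 36800) (nat_lit 100) = true := by decide +kernel
theorem chkP_36900 : allRangeF (checkPointF cert) (nat_lit 36900) (nat_lit 100) = true := by decide +kernel
theorem chkP_37000 : allRangeF (checkPointF cert) (nat_lit 37000) (nat_lit 100) = true := by decide +kernel
theorem chkP_37100 : allRangeF (checkPointF cert) (nat_lit 37100) (nat_lit 100) = true := by decide +kernel
theorem chkP_37200 : allRangeF (checkPointF cert) (nat_lit 37200) (nat_lit 100) = true := by decide +kernel
theorem chkP_37300 : allRangeF (checkPointF cert) (nat_lit 37300) (nat_lit 100) = true := by decide +kernel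
theorem chkP_37400 : allRangeF (checkPointF cert) (nat_lit 37400) (nat_lit 100) = true := by decide +kernel
theorem chkP_37500 : allRangeF (checkPointF cert) (nat_lit 37500) (nat_lit 100) = true := by decide +kernel
theorem chkP_37600 : allRangeF (checkPointF cert) (nat_lit 37600) (nat_lit 100) = true := by decide +kernel
theorem chkP_37700 : allRangeF (checkPointF cert) (nat_lit 37700) (nat_lit 100) = true := by decide +kernel
theorem chkP_37800 : allRangeF (checkPointF cert) (nat_lit 37800) (nat_lit 100) = true := by decide +kernel
theorem chkP_37900 : allRangeF (checkPointF cert) (nat_lit 37900) (nat_lit 100) = true := by decide +kernel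
theorem chkP_38000 : allRangeF (checkPointF cert) (nat_lit 38000) (nat_lit 100) = true := by decide +kernel
theorem chkP_38100 : allRangeF (checkPointF cert) (nat_lit 38100) (nat_lit 100) = true := by decide +kernel
theorem chkP_38200 : allRangeF (checkPointF cert) (nat_lit 38200) (nat_lit 100) = true := by decide +kernel
theorem chkP_38300 : allRangeF (checkPointF cert) (nat_lit 38300) (nat_lit 100) = true := by decide +kernel
theorem chkP_38400 : allRangeF (checkPointF cert) (nat_lit 38400) (nat_lit 100) = true := by decide +kernel
theorem chkP_38500 : allRangeF (checkPointF cert) (nat_lit 38500) (nat_lit 100) = true := by decide +kernel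
theorem chkP_38600 : allRangeF (checkPointF cert) (nat_lit 38600) (nat_lit 100) = true := by decide +kernel
theorem chkP_38700 : allRangeF (checkPointF cert) (nat_lit 38700) (nat_lit 100) = true := by decide +kernel
theorem chkP_38800 : allRangeF (checkPointF cert) (nat_lit 38800) (nat_lit 100) = true := by decide +kernel
theorem chkP_38900 : allRangeF (checkPointF cert) (nat_lit 38900) (nat_lit 100) = true := by decide +kernel
theorem chkP_39000 : allRangeF (checkPointF cert) (nat_lit 39000) (nat_lit 100) = true := by decide +kernel
theorem chkP_39100 : allRangeF (checkPointF cert) (nat_lit 39100) (nat_lit 100) = true := by decide +kernel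
theorem chkP_39200 : allRangeF (checkPointF cert) (nat_lit 39200) (nat_lit 100) = true := by decide +kernel
theorem chkP_39300 : allRangeF (checkPointF cert) (nat_lit 39300) (nat_lit 100) = true := by decide +kernel
theorem chkP_39400 : allRangeF (checkPointF cert) (nat_lit 39400) (nat_lit 100) = true := by decide +kernel
theorem chkP_39500 : allRangeF (checkPointF cert) (nat_lit 39500) (nat_lit 100) = true := by decide +kernel
theorem chkP_39600 : allRangeF (checkPointF cert) (nat_lit 39600) (nat_lit 100) = true := by decide +kernel
theorem chkP_39700 : allRangeF (checkPointF cert) (nat_lit 39700) (nat_lit 100) = true := by decide +kernel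
theorem chkP_39800 : allRangeF (checkPointF cert) (nat_lit 39800) (nat_lit 100) = true := by decide +kernel
theorem chkP_39900 : allRangeF (checkPointF cert) (nat_lit 39900) (nat_lit 100) = true := by decide +kernel
theorem chkP_40000 : allRangeF (checkPointF cert) (nat_lit 40000) (nat_lit 100) = true := by decide +kernel
theorem chkP_40100 : allRangeF (checkPointF cert) (nat_lit 40100) (nat_lit 100) = true := by decide +kernel
theorem chkP_40200 : allRangeF (checkPointF cert) (nat_lit 40200) (nat_lit 100) = true := by decide +kernel
theorem chkP_40300 : allRangeF (checkPointF cert) (nat_lit 40300) (nat_lit 100) = true := by decide +kernel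
theorem chkP_40400 : allRangeF (checkPointF cert) (nat_lit 40400) (nat_lit 100) = true := by decide +kernel
theorem chkP_40500 : allRangeF (checkPointF cert) (nat_lit 40500) (nat_lit 100) = true := by decide +kernel
theorem chkP_40600 : allRangeF (checkPointF cert) (nat_lit 40600) (nat_lit 100) = true := by decide +kernel
theorem chkP_40700 : allRangeF (checkPointF cert) (nat_lit 40700) (nat_lit 100) = true := by decide +kernel
theorem chkP_40800 : allRangeF (checkPointF cert) (nat_lit 40800) (nat_lit 100) = true := by decide +kernel
theorem chkP_40900 : allRangeF (checkPointF cert) (nat_lit 40900) (nat_lit 100) = true := by decide +kernel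
theorem chkP_41000 : allRangeF (checkPointF cert) (nat_lit 41000) (nat_lit 100) = true := by decide +kernel
theorem chkP_41100 : allRangeF (checkPointF cert) (nat_lit 41100) (nat_lit 100) = true := by decide +kernel
theorem chkP_41200 : allRangeF (checkPointF cert) (nat_lit 41200) (nat_lit 100) = true := by decide +kernel
theorem chkP_41300 : allRangeF (checkPointF cert) (nat_lit 41300) (nat_lit 100) = true := by decide +kernel
theorem chkP_41400 : allRangeF (checkPointF cert) (nat_lit 41400) (nat_lit 100) = true := by decide +kernel
theorem chkP_41500 : allRangeF (checkPointF cert) (nat_lit 41500) (nat_lit 100) = true := by decide +kernel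
theorem chkP_41600 : allRangeF (checkPointF cert) (nat_lit 41600) (nat_lit 100) = true := by decide +kernel
theorem chkP_41700 : allRangeF (checkPointF cert) (nat_lit 41700) (nat_lit 100) = true := by decide +kernel
theorem chkP_41800 : allRangeF (checkPointF cert) (nat_lit 41800) (nat_lit 100) = true := by decide +kernel
theorem chkP_41900 : allRangeF (checkPointF cert) (nat_lit 41900) (nat_lit 100) = true := by decide +kernel
theorem chkP_42000 : allRangeF (checkPointF cert) (nat_lit 42000) (nat_lit 100) = true := by decide +kernel
theorem chkP_42100 : allRangeF (checkPointF cert) (nat_lit 42100) (nat_lit 100) = true := by decide +kernel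
theorem chkP_42200 : allRangeF (checkPointF cert) (nat_lit 42200) (nat_lit 100) = true := by decide +kernel
theorem chkP_42300 : allRangeF (checkPointF cert) (nat_lit 42300) (nat_lit 100) = true := by decide +kernel
theorem chkP_42400 : allRangeF (checkPointF cert) (nat_lit 42400) (nat_lit 100) = true := by decide +kernel
theorem chkP_42500 : allRangeF (checkPointF cert) (nat_lit 42500) (nat_lit 100) = true := by decide +kernel
theorem chkP_42600 : allRangeF (checkPointF cert) (nat_lit 42600) (nat_lit 100) = true := by decide +kernel
theorem chkP_42700 : allRangeF (checkPointF cert) (nat_lit 42700) (nat_lit 100) = true := by decide +kernel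
theorem chkP_42800 : allRangeF (checkPointF cert) (nat_lit 42800) (nat_lit 100) = true := by decide +kernel
theorem chkP_42900 : allRangeF (checkPointF cert) (nat_lit 42900) (nat_lit 100) = true := by decide +kernel
theorem chkP_43000 : allRangeF (checkPointF cert) (nat_lit 43000) (nat_lit 100) = true := by decide +kernel
theorem chkP_43100 : allRangeF (checkPointF cert) (nat_lit 43100) (nat_lit 100) = true := by decide +kernel
theorem chkP_43200 : allRangeF (checkPointF cert) (nat_lit 43200) (nat_lit 100) = true := by decide +kernel
theorem chkP_43300 : allRangeF (checkPointF cert) (nat_lit 43300) (nat_lit 100) = true := by decide +kernel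
theorem chkP_43400 : allRangeF (checkPointF cert) (nat_lit 43400) (nat_lit 100) = true := by decide +kernel
theorem chkP_43500 : allRangeF (checkPointF cert) (nat_lit 43500) (nat_lit 100) = true := by decide +kernel
theorem chkP_43600 : allRangeF (checkPointF cert) (nat_lit 43600) (nat_lit 100) = true := by decide +kernel
theorem chkP_43700 : allRangeF (checkPointF cert) (nat_lit 43700) (nat_lit 100) = true := by decide +kernel
theorem chkP_43800 : allRangeF (checkPointF cert) (nat_lit 43800) (nat_lit 100) = true := by decide +kernel
theorem chkP_43900 : allRangeF (checkPointF cert) (nat_lit 43900) (nat_lit 100) = true := by decide +kernel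
theorem chkP_44000 : allRangeF (checkPointF cert) (nat_lit 44000) (nat_lit 100) = true := by decide +kernel
theorem chkP_44100 : allRangeF (checkPointF cert) (nat_lit 44100) (nat_lit 100) = true := by decide +kernel
theorem chkP_44200 : allRangeF (checkPointF cert) (nat_lit 44200) (nat_lit 100) = true := by decide +kernel
theorem chkP_44300 : allRangeF (checkPointF cert) (nat_lit 44300) (nat_lit 100) = true := by decide +kernel
theorem chkP_44400 : allRangeF (checkPointF cert) (nat_lit 44400) (nat_lit 100) = true := by decide +kernel
theorem chkP_44500 : allRangeF (checkPointF cert) (nat_lit 44500) (nat_lit 100) = true := by decide +kernel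
theorem chkP_44600 : allRangeF (checkPointF cert) (nat_lit 44600) (nat_lit 100) = true := by decide +kernel
theorem chkP_44700 : allRangeF (checkPointF cert) (nat_lit 44700) (nat_lit 100) = true := by decide +kernel
theorem chkP_44800 : allRangeF (checkPointF cert) (nat_lit 44800) (nat_lit 100) = true := by decide +kernel
theorem chkP_44900 : allRangeF (checkPointF cert) (nat_lit 44900) (nat_lit 100) = true := by decide +kernel
theorem chkP_45000 : allRangeF (checkPointF cert) (nat_lit 45000) (nat_lit 100) = true := by decide +kernel
theorem chkP_45100 : allRangeF (checkPointF cert) (nat_lit 45100) (nat_lit 100) = true := by decide +kernel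
theorem chkP_45200 : allRangeF (checkPointF cert) (nat_lit 45200) (nat_lit 100) = true := by decide +kernel
theorem chkP_45300 : allRangeF (checkPointF cert) (nat_lit 45300) (nat_lit 100) = true := by decide +kernel
theorem chkP_45400 : allRangeF (checkPointF cert) (nat_lit 45400) (nat_lit 100) = true := by decide +kernel
theorem chkP_45500 : allRangeF (checkPointF cert) (nat_lit 45500) (nat_lit 100) = true := by decide +kernel
theorem chkP_45600 : allRangeF (checkPointF cert) (nat_lit 45600) (nat_lit 100) = true := by decide +kernel
theorem chkP_45700 : allRangeF (checkPointF cert) (nat_lit 45700) (nat_lit 100) = true := by decide +kernel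
theorem chkP_45800 : allRangeF (checkPointF cert) (nat_lit 45800) (nat_lit 100) = true := by decide +kernel
theorem chkP_45900 : allRangeF (checkPointF cert) (nat_lit 45900) (nat_lit 100) = true := by decide +kernel
theorem chkP_46000 : allRangeF (checkPointF cert) (nat_lit 46000) (nat_lit 100) = true := by decide +kernel
theorem chkP_46100 : allRangeF (checkPointF cert) (nat_lit 46100) (nat_lit 100) = true := by decide +kernel
theorem chkP_46200 : allRangeF (checkPointF cert) (nat_lit 46200) (nat_lit 100) = true := by decide +kernel
theorem chkP_46300 : allRangeF (checkPointF cert) (nat_lit 46300) (nat_lit 100) = true := by decide +kernel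
theorem chkP_46400 : allRangeF (checkPointF cert) (nat_lit 46400) (nat_lit 100) = true := by decide +kernel
theorem chkP_46500 : allRangeF (checkPointF cert) (nat_lit 46500) (nat_lit 100) = true := by decide +kernel
theorem chkP_46600 : allRangeF (checkPointF cert) (nat_lit 46600) (nat_lit 100) = true := by decide +kernel
theorem chkP_46700 : allRangeF (checkPointF cert) (nat_lit 46700) (nat_lit 100) = true := by decide +kernel
theorem chkP_46800 : allRangeF (checkPointF cert) (nat_lit 46800) (nat_lit 100) = true := by decide +kernel
theorem chkP_46900 : allRangeF (checkPointF cert) (nat_lit 46900) (nat_lit 100) = true := by decide +kernel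
theorem chkP_47000 : allRangeF (checkPointF cert) (nat_lit 47000) (nat_lit 100) = true := by decide +kernel
theorem chkP_47100 : allRangeF (checkPointF cert) (nat_lit 47100) (nat_lit 100) = true := by decide +kernel
theorem chkP_47200 : allRangeF (checkPointF cert) (nat_lit 47200) (nat_lit 100) = true := by decide +kernel
theorem chkP_47300 : allRangeF (checkPointF cert) (nat_lit 47300) (nat_lit 100) = true := by decide +kernel
theorem chkP_47400 : allRangeF (checkPointF cert) (nat_lit 47400) (nat_lit 100) = true := by decide +kernel
theorem chkP_47500 : allRangeF (checkPointF cert) (nat_lit 47500) (nat_lit 100) = true := by decide +kernel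
theorem chkP_47600 : allRangeF (checkPointF cert) (nat_lit 47600) (nat_lit 100) = true := by decide +kernel
theorem chkP_47700 : allRangeF (checkPointF cert) (nat_lit 47700) (nat_lit 100) = true := by decide +kernel
theorem chkP_47800 : allRangeF (checkPointF cert) (nat_lit 47800) (nat_lit 100) = true := by decide +kernel
theorem chkP_47900 : allRangeF (checkPointF cert) (nat_lit 47900) (nat_lit 100) = true := by decide +kernel
theorem chkP_48000 : allRangeF (checkPointF cert) (nat_lit 48000) (nat_lit 100) = true := by decide +kernel
theorem chkP_48100 : allRangeF (checkPointF cert) (nat_lit 48100) (nat_lit 100) = true := by decide +kernel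
theorem chkP_48200 : allRangeF (checkPointF cert) (nat_lit 48200) (nat_lit 100) = true := by decide +kernel
theorem chkP_48300 : allRangeF (checkPointF cert) (nat_lit 48300) (nat_lit 100) = true := by decide +kernel
theorem chkP_48400 : allRangeF (checkPointF cert) (nat_lit 48400) (nat_lit 100) = true := by decide +kernel
theorem chkP_48500 : allRangeF (checkPointF cert) (nat_lit 48500) (nat_lit 100) = true := by decide +kernel
theorem chkP_48600 : allRangeF (checkPointF cert) (nat_lit 48600) (nat_lit 100) = true := by decide +kernel
theorem chkP_48700 : allRangeF (checkPointF cert) (nat_lit 48700) (nat_lit 100) = true := by decide +kernel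
theorem chkP_48800 : allRangeF (checkPointF cert) (nat_lit 48800) (nat_lit 100) = true := by decide +kernel
theorem chkP_48900 : allRangeF (checkPointF cert) (nat_lit 48900) (nat_lit 100) = true := by decide +kernel
theorem chkP_49000 : allRangeF (checkPointF cert) (nat_lit 49000) (nat_lit 100) = true := by decide +kernel
theorem chkP_49100 : allRangeF (checkPointF cert) (nat_lit 49100) (nat_lit 100) = true := by decide +kernel
theorem chkP_49200 : allRangeF (checkPointF cert) (nat_lit 49200) (nat_lit 100) = true := by decide +kernel
theorem chkP_49300 : allRangeF (checkPointF cert) (nat_lit 49300) (nat_lit 100) = true := by decide +kernel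
theorem chkP_49400 : allRangeF (checkPointF cert) (nat_lit 49400) (nat_lit 100) = true := by decide +kernel
theorem chkP_49500 : allRangeF (checkPointF cert) (nat_lit 49500) (nat_lit 100) = true := by decide +kernel
theorem chkP_49600 : allRangeF (checkPointF cert) (nat_lit 49600) (nat_lit 100) = true := by decide +kernel
theorem chkP_49700 : allRangeF (checkPointF cert) (nat_lit 49700) (nat_lit 100) = true := by decide +kernel
theorem chkP_49800 : allRangeF (checkPointF cert) (nat_lit 49800) (nat_lit 100) = true := by decide +kernel
theorem chkP_49900 : allRangeF (checkPointF cert) (nat_lit 49900) (nat_lit 100) = true := by decide +kernel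
theorem chkP_50000 : allRangeF (checkPointF cert) (nat_lit 50000) (nat_lit 100) = true := by decide +kernel

theorem ptsRange_2 : ∀ i, 33400 ≤ i → i < 50100 → checkPoint cert i = true := by
  intro i hlo hhi
  rcases Nat.lt_or_ge i 41700 with h1 | h1
  · skip
    rcases Nat.lt_or_ge i 37500 with h2 | h2
    · skip
      rcases Nat.lt_or_ge i 35400 with h3 | h3
      · skip
        rcases Nat.lt_or_ge i 34400 with h4 | h4
        · skip
          rcases Nat.lt_or_ge i 33900 with h5 | h5
          · skip
            rcases Nat.lt_or_ge i 33600 with h6 | h6
            · skip
              rcases Nat.lt_or_ge i 33500 with h7 | h7
              · skip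
                exact allRangeF_sound _ _ (checkPointF_eq cert) 33400 100 chkP_33400 i (by omega) (by omega)
              · skip
                exact allRangeF_sound _ _ (checkPointF_eq cert) 33500 100 chkP_33500 i (by omega) (by omega)
            · skip
              rcases Nat.lt_or_ge i 33700 with h7 | h7
              · skip
                exact allRangeF_sound _ _ (checkPointF_eq cert) 33600 100 chkP_33600 i (by omega) (by omega)
              · skip
                rcases Nat.lt_or_ge i 33800 with h8 | h8
                · skip
                  exact allRangeF_sound _ _ (checkPointF_eq cert) 33700 100 chkP_33700 i (by omega) (by omega)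
                · skip
                  exact allRangeF_sound _ _ (checkPointF_eq cert) 33800 100 chkP_33800 i (by omega) (by omega)
          · skip
            rcases Nat.lt_or_ge i 34100 with h6 | h6
            · skip
              rcases Nat.lt_or_ge i 34000 with h7 | h7
              · skip
                exact allRangeF_sound _ _ (checkPointF_eq cert) 33900 100 chkP_33900 i (by omega) (by omega)
              · skip
                exact allRangeF_sound _ _ (checkPointF_eq cert) 34000 100 chkP_34000 i (by omega) (by omega)
            · skip
              rcases Nat.lt_or_ge i 34200 with h7 | h7
              · skip
                exact allRangeF_sound _ _ (checkPointF_eq cert) 34100 100 chkP_34100 i (by omega) (by omega)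
              · skip
                rcases Nat.lt_or_ge i 34300 with h8 | h8
                · skip
                  exact allRangeF_sound _ _ (checkPointF_eq cert) 34200 100 chkP_34200 i (by omega) (by omega)
                · skip
                  exact allRangeF_sound _ _ (checkPointF_eq cert) 34300 100 chkP_34300 i (by omega) (by omega)
        · skip
          rcases Nat.lt_or_ge i 34900 with h5 | h5
          · skip
            rcases Nat.lt_or_ge i 34600 with h6 | h6
            · skip
              rcases Nat.lt_or_ge i 34500 with h7 | h7
              · skip
                exact allRangeF_sound _ _ (checkPointF_eq cert) 34400 100 chkP_34400 i (by omega) (by omega)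
              · skip
                exact allRangeF_sound _ _ (checkPointF_eq cert) 34500 100 chkP_34500 i (by omega) (by omega)
            · skip
              rcases Nat.lt_or_ge i 34700 with h7 | h7
              · skip
                exact allRangeF_sound _ _ (checkPointF_eq cert) 34600 100 chkP_34600 i (by omega) (by omega)
              · skip
                rcases Nat.lt_or_ge i 34800 with h8 | h8
                · skip
                  exact allRangeF_sound _ _ (checkPointF_eq cert) 34700 100 chkP_34700 i (by omega) (by omega)
                · skip
                  exact allRangeF_sound _ _ (checkPointF_eq cert) 34800 100 chkP_34800 i (by omega) (by omega)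
          · skip
            rcases Nat.lt_or_ge i 35100 with h6 | h6
            · skip
              rcases Nat.lt_or_ge i 35000 with h7 | h7
              · skip
                exact allRangeF_sound _ _ (checkPointF_eq cert) 34900 100 chkP_34900 i (by omega) (by omega)
              · skip
                exact allRangeF_sound _ _ (checkPointF_eq cert) 35000 100 chkP_35000 i (by omega) (by omega)
            · skip
              rcases Nat.lt_or_ge i 35200 with h7 | h7
              · skip
                exact allRangeF_sound _ _ (checkPointF_eq cert) 35100 100 chkP_35100 i (by omega) (by omega)
              · skip
                rcases Nat.lt_or_ge i 35300 with h8 | h8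
                · skip
                  exact allRangeF_sound _ _ (checkPointF_eq cert) 35200 100 chkP_35200 i (by omega) (by omega)
                · skip
                  exact allRangeF_sound _ _ (checkPointF_eq cert) 35300 100 chkP_35300 i (by omega) (by omega)
      · skip
        rcases Nat.lt_or_ge i 36400 with h4 | h4
        · skip
          rcases Nat.lt_or_ge i 35900 with h5 | h5
          · skip
            rcases Nat.lt_or_ge i 35600 with h6 | h6
            · skip
              rcases Nat.lt_or_ge i 35500 with h7 | h7
              · skip
                exact allRangeF_sound _ _ (checkPointF_eq cert) 35400 100 chkP_35400 i (by omega) (by omega)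
              · skip
                exact allRangeF_sound _ _ (checkPointF_eq cert) 35500 100 chkP_35500 i (by omega) (by omega)
            · skip
              rcases Nat.lt_or_ge i 35700 with h7 | h7
              · skip
                exact allRangeF_sound _ _ (checkPointF_eq cert) 35600 100 chkP_35600 i (by omega) (by omega)
              · skip
                rcases Nat.lt_or_ge i 35800 with h8 | h8
                · skip
                  exact allRangeF_sound _ _ (checkPointF_eq cert) 35700 100 chkP_35700 i (by omega) (by omega)
                · skip
                  exact allRangeF_sound _ _ (checkPointF_eq cert) 35800 100 chkP_35800 i (by omega) (by omega)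
          · skip
            rcases Nat.lt_or_ge i 36100 with h6 | h6
            · skip
              rcases Nat.lt_or_ge i 36000 with h7 | h7
              · skip
                exact allRangeF_sound _ _ (checkPointF_eq cert) 35900 100 chkP_35900 i (by omega) (by omega)
              · skip
                exact allRangeF_sound _ _ (checkPointF_eq cert) 36000 100 chkP_36000 i (by omega) (by omega)
            · skip
              rcases Nat.lt_or_ge i 36200 with h7 | h7
              · skip
                exact allRangeF_sound _ _ (checkPointF_eq cert) 36100 100 chkP_36100 i (by omega) (by omega)
              · skip
                rcases Nat.lt_or_ge i 36300 with h8 | h8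
                · skip
                  exact allRangeF_sound _ _ (checkPointF_eq cert) 36200 100 chkP_36200 i (by omega) (by omega)
                · skip
                  exact allRangeF_sound _ _ (checkPointF_eq cert) 36300 100 chkP_36300 i (by omega) (by omega)
        · skip
          rcases Nat.lt_or_ge i 36900 with h5 | h5
          · skip
            rcases Nat.lt_or_ge i 36600 with h6 | h6
            · skip
              rcases Nat.lt_or_ge i 36500 with h7 | h7
              · skip
                exact allRangeF_sound _ _ (checkPointF_eq cert) 36400 100 chkP_36400 i (by omega) (by omega)
              · skip
                exact allRangeF_sound _ _ (checkPointF_eq cert) 36500 100 chkP_36500 i (by omega) (by omega)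
            · skip
              rcases Nat.lt_or_ge i 36700 with h7 | h7
              · skip
                exact allRangeF_sound _ _ (checkPointF_eq cert) 36600 100 chkP_36600 i (by omega) (by omega)
              · skip
                rcases Nat.lt_or_ge i 36800 with h8 | h8
                · skip
                  exact allRangeF_sound _ _ (checkPointF_eq cert) 36700 100 chkP_36700 i (by omega) (by omega)
                · skip
                  exact allRangeF_sound _ _ (checkPointF_eq cert) 36800 100 chkP_36800 i (by omega) (by omega)
          · skip
            rcases Nat.lt_or_ge i 37200 with h6 | h6
            · skip
              rcases Nat.lt_or_ge i 37000 with h7 | h7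
              · skip
                exact allRangeF_sound _ _ (checkPointF_eq cert) 36900 100 chkP_36900 i (by omega) (by omega)
              · skip
                rcases Nat.lt_or_ge i 37100 with h8 | h8
                · skip
                  exact allRangeF_sound _ _ (checkPointF_eq cert) 37000 100 chkP_37000 i (by omega) (by omega)
                · skip
                  exact allRangeF_sound _ _ (checkPointF_eq cert) 37100 100 chkP_37100 i (by omega) (by omega)
            · skip
              rcases Nat.lt_or_ge i 37300 with h7 | h7
              · skip
                exact allRangeF_sound _ _ (checkPointF_eq cert) 37200 100 chkP_37200 i (by omega) (by omega)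
              · skip
                rcases Nat.lt_or_ge i 37400 with h8 | h8
                · skip
                  exact allRangeF_sound _ _ (checkPointF_eq cert) 37300 100 chkP_37300 i (by omega) (by omega)
                · skip
                  exact allRangeF_sound _ _ (checkPointF_eq cert) 37400 100 chkP_37400 i (by omega) (by omega)
    · skip
      rcases Nat.lt_or_ge i 39600 with h3 | h3
      · skip
        rcases Nat.lt_or_ge i 38500 with h4 | h4
        · skip
          rcases Nat.lt_or_ge i 38000 with h5 | h5
          · skip
            rcases Nat.lt_or_ge i 37700 with h6 | h6
            · skip
              rcases Nat.lt_or_ge i 37600 with h7 | h7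
              · skip
                exact allRangeF_sound _ _ (checkPointF_eq cert) 37500 100 chkP_37500 i (by omega) (by omega)
              · skip
                exact allRangeF_sound _ _ (checkPointF_eq cert) 37600 100 chkP_37600 i (by omega) (by omega)
            · skip
              rcases Nat.lt_or_ge i 37800 with h7 | h7
              · skip
                exact allRangeF_sound _ _ (checkPointF_eq cert) 37700 100 chkP_37700 i (by omega) (by omega)
              · skip
                rcases Nat.lt_or_ge i 37900 with h8 | h8
                · skip
                  exact allRangeF_sound _ _ (checkPointF_eq cert) 37800 100 chkP_37800 i (by omega) (by omega)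
                · skip
                  exact allRangeF_sound _ _ (checkPointF_eq cert) 37900 100 chkP_37900 i (by omega) (by omega)
          · skip
            rcases Nat.lt_or_ge i 38200 with h6 | h6
            · skip
              rcases Nat.lt_or_ge i 38100 with h7 | h7
              · skip
                exact allRangeF_sound _ _ (checkPointF_eq cert) 38000 100 chkP_38000 i (by omega) (by omega)
              · skip
                exact allRangeF_sound _ _ (checkPointF_eq cert) 38100 100 chkP_38100 i (by omega) (by omega)
            · skip
              rcases Nat.lt_or_ge i 38300 with h7 | h7
              · skip
                exact allRangeF_sound _ _ (checkPointF_eq cert) 38200 100 chkP_38200 i (by omega) (by omega)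
              · skip
                rcases Nat.lt_or_ge i 38400 with h8 | h8
                · skip
                  exact allRangeF_sound _ _ (checkPointF_eq cert) 38300 100 chkP_38300 i (by omega) (by omega)
                · skip
                  exact allRangeF_sound _ _ (checkPointF_eq cert) 38400 100 chkP_38400 i (by omega) (by omega)
        · skip
          rcases Nat.lt_or_ge i 39000 with h5 | h5
          · skip
            rcases Nat.lt_or_ge i 38700 with h6 | h6
            · skip
              rcases Nat.lt_or_ge i 38600 with h7 | h7
              · skip
                exact allRangeF_sound _ _ (checkPointF_eq cert) 38500 100 chkP_38500 i (by omega) (by omega)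
              · skip
                exact allRangeF_sound _ _ (checkPointF_eq cert) 38600 100 chkP_38600 i (by omega) (by omega)
            · skip
              rcases Nat.lt_or_ge i 38800 with h7 | h7
              · skip
                exact allRangeF_sound _ _ (checkPointF_eq cert) 38700 100 chkP_38700 i (by omega) (by omega)
              · skip
                rcases Nat.lt_or_ge i 38900 with h8 | h8
                · skip
                  exact allRangeF_sound _ _ (checkPointF_eq cert) 38800 100 chkP_38800 i (by omega) (by omega)
                · skip
                  exact allRangeF_sound _ _ (checkPointF_eq cert) 38900 100 chkP_38900 i (by omega) (by omega)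
          · skip
            rcases Nat.lt_or_ge i 39300 with h6 | h6
            · skip
              rcases Nat.lt_or_ge i 39100 with h7 | h7
              · skip
                exact allRangeF_sound _ _ (checkPointF_eq cert) 39000 100 chkP_39000 i (by omega) (by omega)
              · skip
                rcases Nat.lt_or_ge i 39200 with h8 | h8
                · skip
                  exact allRangeF_sound _ _ (checkPointF_eq cert) 39100 100 chkP_39100 i (by omega) (by omega)
                · skip
                  exact allRangeF_sound _ _ (checkPointF_eq cert) 39200 100 chkP_39200 i (by omega) (by omega)
            · skip
              rcases Nat.lt_or_ge i 39400 with h7 | h7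
              · skip
                exact allRangeF_sound _ _ (checkPointF_eq cert) 39300 100 chkP_39300 i (by omega) (by omega)
              · skip
                rcases Nat.lt_or_ge i 39500 with h8 | h8
                · skip
                  exact allRangeF_sound _ _ (checkPointF_eq cert) 39400 100 chkP_39400 i (by omega) (by omega)
                · skip
                  exact allRangeF_sound _ _ (checkPointF_eq cert) 39500 100 chkP_39500 i (by omega) (by omega)
      · skip
        rcases Nat.lt_or_ge i 40600 with h4 | h4
        · skip
          rcases Nat.lt_or_ge i 40100 with h5 | h5
          · skip
            rcases Nat.lt_or_ge i 39800 with h6 | h6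
            · skip
              rcases Nat.lt_or_ge i 39700 with h7 | h7
              · skip
                exact allRangeF_sound _ _ (checkPointF_eq cert) 39600 100 chkP_39600 i (by omega) (by omega)
              · skip
                exact allRangeF_sound _ _ (checkPointF_eq cert) 39700 100 chkP_39700 i (by omega) (by omega)
            · skip
              rcases Nat.lt_or_ge i 39900 with h7 | h7
              · skip
                exact allRangeF_sound _ _ (checkPointF_eq cert) 39800 100 chkP_39800 i (by omega) (by omega)
              · skip
                rcases Nat.lt_or_ge i 40000 with h8 | h8
                · skip
                  exact allRangeF_sound _ _ (checkPointF_eq cert) 39900 100 chkP_39900 i (by omega) (by omega)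
                · skip
                  exact allRangeF_sound _ _ (checkPointF_eq cert) 40000 100 chkP_40000 i (by omega) (by omega)
          · skip
            rcases Nat.lt_or_ge i 40300 with h6 | h6
            · skip
              rcases Nat.lt_or_ge i 40200 with h7 | h7
              · skip
                exact allRangeF_sound _ _ (checkPointF_eq cert) 40100 100 chkP_40100 i (by omega) (by omega)
              · skip
                exact allRangeF_sound _ _ (checkPointF_eq cert) 40200 100 chkP_40200 i (by omega) (by omega)
            · skip
              rcases Nat.lt_or_ge i 40400 with h7 | h7
              · skip
                exact allRangeF_sound _ _ (checkPointF_eq cert) 40300 100 chkP_40300 i (by omega) (by omega)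
              · skip
                rcases Nat.lt_or_ge i 40500 with h8 | h8
                · skip
                  exact allRangeF_sound _ _ (checkPointF_eq cert) 40400 100 chkP_40400 i (by omega) (by omega)
                · skip
                  exact allRangeF_sound _ _ (checkPointF_eq cert) 40500 100 chkP_40500 i (by omega) (by omega)
        · skip
          rcases Nat.lt_or_ge i 41100 with h5 | h5
          · skip
            rcases Nat.lt_or_ge i 40800 with h6 | h6
            · skip
              rcases Nat.lt_or_ge i 40700 with h7 | h7
              · skip
                exact allRangeF_sound _ _ (checkPointF_eq cert) 40600 100 chkP_40600 i (by omega) (by omega)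
              · skip
                exact allRangeF_sound _ _ (checkPointF_eq cert) 40700 100 chkP_40700 i (by omega) (by omega)
            · skip
              rcases Nat.lt_or_ge i 40900 with h7 | h7
              · skip
                exact allRangeF_sound _ _ (checkPointF_eq cert) 40800 100 chkP_40800 i (by omega) (by omega)
              · skip
                rcases Nat.lt_or_ge i 41000 with h8 | h8
                · skip
                  exact allRangeF_sound _ _ (checkPointF_eq cert) 40900 100 chkP_40900 i (by omega) (by omega)
                · skip
                  exact allRangeF_sound _ _ (checkPointF_eq cert) 41000 100 chkP_41000 i (by omega) (by omega)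
          · skip
            rcases Nat.lt_or_ge i 41400 with h6 | h6
            · skip
              rcases Nat.lt_or_ge i 41200 with h7 | h7
              · skip
                exact allRangeF_sound _ _ (checkPointF_eq cert) 41100 100 chkP_41100 i (by omega) (by omega)
              · skip
                rcases Nat.lt_or_ge i 41300 with h8 | h8
                · skip
                  exact allRangeF_sound _ _ (checkPointF_eq cert) 41200 100 chkP_41200 i (by omega) (by omega)
                · skip
                  exact allRangeF_sound _ _ (checkPointF_eq cert) 41300 100 chkP_41300 i (by omega) (by omega)
            · skip
              rcases Nat.lt_or_ge i 41500 with h7 | h7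
              · skip
                exact allRangeF_sound _ _ (checkPointF_eq cert) 41400 100 chkP_41400 i (by omega) (by omega)
              · skip
                rcases Nat.lt_or_ge i 41600 with h8 | h8
                · skip
                  exact allRangeF_sound _ _ (checkPointF_eq cert) 41500 100 chkP_41500 i (by omega) (by omega)
                · skip
                  exact allRangeF_sound _ _ (checkPointF_eq cert) 41600 100 chkP_41600 i (by omega) (by omega)
  · skip
    rcases Nat.lt_or_ge i 45900 with h2 | h2
    · skip
      rcases Nat.lt_or_ge i 43800 with h3 | h3
      · skip
        rcases Nat.lt_or_ge i 42700 with h4 | h4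
        · skip
          rcases Nat.lt_or_ge i 42200 with h5 | h5
          · skip
            rcases Nat.lt_or_ge i 41900 with h6 | h6
            · skip
              rcases Nat.lt_or_ge i 41800 with h7 | h7
              · skip
                exact allRangeF_sound _ _ (checkPointF_eq cert) 41700 100 chkP_41700 i (by omega) (by omega)
              · skip
                exact allRangeF_sound _ _ (checkPointF_eq cert) 41800 100 chkP_41800 i (by omega) (by omega)
            · skip
              rcases Nat.lt_or_ge i 42000 with h7 | h7
              · skip
                exact allRangeF_sound _ _ (checkPointF_eq cert) 41900 100 chkP_41900 i (by omega) (by omega)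
              · skip
                rcases Nat.lt_or_ge i 42100 with h8 | h8
                · skip
                  exact allRangeF_sound _ _ (checkPointF_eq cert) 42000 100 chkP_42000 i (by omega) (by omega)
                · skip
                  exact allRangeF_sound _ _ (checkPointF_eq cert) 42100 100 chkP_42100 i (by omega) (by omega)
          · skip
            rcases Nat.lt_or_ge i 42400 with h6 | h6
            · skip
              rcases Nat.lt_or_ge i 42300 with h7 | h7
              · skip
                exact allRangeF_sound _ _ (checkPointF_eq cert) 42200 100 chkP_42200 i (by omega) (by omega)
              · skip
                exact allRangeF_sound _ _ (checkPointF_eq cert) 42300 100 chkP_42300 i (by omega) (by omega)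
            · skip
              rcases Nat.lt_or_ge i 42500 with h7 | h7
              · skip
                exact allRangeF_sound _ _ (checkPointF_eq cert) 42400 100 chkP_42400 i (by omega) (by omega)
              · skip
                rcases Nat.lt_or_ge i 42600 with h8 | h8
                · skip
                  exact allRangeF_sound _ _ (checkPointF_eq cert) 42500 100 chkP_42500 i (by omega) (by omega)
                · skip
                  exact allRangeF_sound _ _ (checkPointF_eq cert) 42600 100 chkP_42600 i (by omega) (by omega)
        · skip
          rcases Nat.lt_or_ge i 43200 with h5 | h5
          · skip
            rcases Nat.lt_or_ge i 42900 with h6 | h6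
            · skip
              rcases Nat.lt_or_ge i 42800 with h7 | h7
              · skip
                exact allRangeF_sound _ _ (checkPointF_eq cert) 42700 100 chkP_42700 i (by omega) (by omega)
              · skip
                exact allRangeF_sound _ _ (checkPointF_eq cert) 42800 100 chkP_42800 i (by omega) (by omega)
            · skip
              rcases Nat.lt_or_ge i 43000 with h7 | h7
              · skip
                exact allRangeF_sound _ _ (checkPointF_eq cert) 42900 100 chkP_42900 i (by omega) (by omega)
              · skip
                rcases Nat.lt_or_ge i 43100 with h8 | h8
                · skip
                  exact allRangeF_sound _ _ (checkPointF_eq cert) 43000 100 chkP_43000 i (by omega) (by omega)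
                · skip
                  exact allRangeF_sound _ _ (checkPointF_eq cert) 43100 100 chkP_43100 i (by omega) (by omega)
          · skip
            rcases Nat.lt_or_ge i 43500 with h6 | h6
            · skip
              rcases Nat.lt_or_ge i 43300 with h7 | h7
              · skip
                exact allRangeF_sound _ _ (checkPointF_eq cert) 43200 100 chkP_43200 i (by omega) (by omega)
              · skip
                rcases Nat.lt_or_ge i 43400 with h8 | h8
                · skip
                  exact allRangeF_sound _ _ (checkPointF_eq cert) 43300 100 chkP_43300 i (by omega) (by omega)
                · skip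
                  exact allRangeF_sound _ _ (checkPointF_eq cert) 43400 100 chkP_43400 i (by omega) (by omega)
            · skip
              rcases Nat.lt_or_ge i 43600 with h7 | h7
              · skip
                exact allRangeF_sound _ _ (checkPointF_eq cert) 43500 100 chkP_43500 i (by omega) (by omega)
              · skip
                rcases Nat.lt_or_ge i 43700 with h8 | h8
                · skip
                  exact allRangeF_sound _ _ (checkPointF_eq cert) 43600 100 chkP_43600 i (by omega) (by omega)
                · skip
                  exact allRangeF_sound _ _ (checkPointF_eq cert) 43700 100 chkP_43700 i (by omega) (by omega)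
      · skip
        rcases Nat.lt_or_ge i 44800 with h4 | h4
        · skip
          rcases Nat.lt_or_ge i 44300 with h5 | h5
          · skip
            rcases Nat.lt_or_ge i 44000 with h6 | h6
            · skip
              rcases Nat.lt_or_ge i 43900 with h7 | h7
              · skip
                exact allRangeF_sound _ _ (checkPointF_eq cert) 43800 100 chkP_43800 i (by omega) (by omega)
              · skip
                exact allRangeF_sound _ _ (checkPointF_eq cert) 43900 100 chkP_43900 i (by omega) (by omega)
            · skip
              rcases Nat.lt_or_ge i 44100 with h7 | h7
              · skip
                exact allRangeF_sound _ _ (checkPointF_eq cert) 44000 100 chkP_44000 i (by omega) (by omega)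
              · skip
                rcases Nat.lt_or_ge i 44200 with h8 | h8
                · skip
                  exact allRangeF_sound _ _ (checkPointF_eq cert) 44100 100 chkP_44100 i (by omega) (by omega)
                · skip
                  exact allRangeF_sound _ _ (checkPointF_eq cert) 44200 100 chkP_44200 i (by omega) (by omega)
          · skip
            rcases Nat.lt_or_ge i 44500 with h6 | h6
            · skip
              rcases Nat.lt_or_ge i 44400 with h7 | h7
              · skip
                exact allRangeF_sound _ _ (checkPointF_eq cert) 44300 100 chkP_44300 i (by omega) (by omega)
              · skip
                exact allRangeF_sound _ _ (checkPointF_eq cert) 44400 100 chkP_44400 i (by omega) (by omega)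
            · skip
              rcases Nat.lt_or_ge i 44600 with h7 | h7
              · skip
                exact allRangeF_sound _ _ (checkPointF_eq cert) 44500 100 chkP_44500 i (by omega) (by omega)
              · skip
                rcases Nat.lt_or_ge i 44700 with h8 | h8
                · skip
                  exact allRangeF_sound _ _ (checkPointF_eq cert) 44600 100 chkP_44600 i (by omega) (by omega)
                · skip
                  exact allRangeF_sound _ _ (checkPointF_eq cert) 44700 100 chkP_44700 i (by omega) (by omega)
        · skip
          rcases Nat.lt_or_ge i 45300 with h5 | h5
          · skip
            rcases Nat.lt_or_ge i 45000 with h6 | h6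
            · skip
              rcases Nat.lt_or_ge i 44900 with h7 | h7
              · skip
                exact allRangeF_sound _ _ (checkPointF_eq cert) 44800 100 chkP_44800 i (by omega) (by omega)
              · skip
                exact allRangeF_sound _ _ (checkPointF_eq cert) 44900 100 chkP_44900 i (by omega) (by omega)
            · skip
              rcases Nat.lt_or_ge i 45100 with h7 | h7
              · skip
                exact allRangeF_sound _ _ (checkPointF_eq cert) 45000 100 chkP_45000 i (by omega) (by omega)
              · skip
                rcases Nat.lt_or_ge i 45200 with h8 | h8
                · skip
                  exact allRangeF_sound _ _ (checkPointF_eq cert) 45100 100 chkP_45100 i (by omega) (by omega)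
                · skip
                  exact allRangeF_sound _ _ (checkPointF_eq cert) 45200 100 chkP_45200 i (by omega) (by omega)
          · skip
            rcases Nat.lt_or_ge i 45600 with h6 | h6
            · skip
              rcases Nat.lt_or_ge i 45400 with h7 | h7
              · skip
                exact allRangeF_sound _ _ (checkPointF_eq cert) 45300 100 chkP_45300 i (by omega) (by omega)
              · skip
                rcases Nat.lt_or_ge i 45500 with h8 | h8
                · skip
                  exact allRangeF_sound _ _ (checkPointF_eq cert) 45400 100 chkP_45400 i (by omega) (by omega)
                · skip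
                  exact allRangeF_sound _ _ (checkPointF_eq cert) 45500 100 chkP_45500 i (by omega) (by omega)
            · skip
              rcases Nat.lt_or_ge i 45700 with h7 | h7
              · skip
                exact allRangeF_sound _ _ (checkPointF_eq cert) 45600 100 chkP_45600 i (by omega) (by omega)
              · skip
                rcases Nat.lt_or_ge i 45800 with h8 | h8
                · skip
                  exact allRangeF_sound _ _ (checkPointF_eq cert) 45700 100 chkP_45700 i (by omega) (by omega)
                · skip
                  exact allRangeF_sound _ _ (checkPointF_eq cert) 45800 100 chkP_45800 i (by omega) (by omega)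
    · skip
      rcases Nat.lt_or_ge i 48000 with h3 | h3
      · skip
        rcases Nat.lt_or_ge i 46900 with h4 | h4
        · skip
          rcases Nat.lt_or_ge i 46400 with h5 | h5
          · skip
            rcases Nat.lt_or_ge i 46100 with h6 | h6
            · skip
              rcases Nat.lt_or_ge i 46000 with h7 | h7
              · skip
                exact allRangeF_sound _ _ (checkPointF_eq cert) 45900 100 chkP_45900 i (by omega) (by omega)
              · skip
                exact allRangeF_sound _ _ (checkPointF_eq cert) 46000 100 chkP_46000 i (by omega) (by omega)
            · skip
              rcases Nat.lt_or_ge i 46200 with h7 | h7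
              · skip
                exact allRangeF_sound _ _ (checkPointF_eq cert) 46100 100 chkP_46100 i (by omega) (by omega)
              · skip
                rcases Nat.lt_or_ge i 46300 with h8 | h8
                · skip
                  exact allRangeF_sound _ _ (checkPointF_eq cert) 46200 100 chkP_46200 i (by omega) (by omega)
                · skip
                  exact allRangeF_sound _ _ (checkPointF_eq cert) 46300 100 chkP_46300 i (by omega) (by omega)
          · skip
            rcases Nat.lt_or_ge i 46600 with h6 | h6
            · skip
              rcases Nat.lt_or_ge i 46500 with h7 | h7
              · skip
                exact allRangeF_sound _ _ (checkPointF_eq cert) 46400 100 chkP_46400 i (by omega) (by omega)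
              · skip
                exact allRangeF_sound _ _ (checkPointF_eq cert) 46500 100 chkP_46500 i (by omega) (by omega)
            · skip
              rcases Nat.lt_or_ge i 46700 with h7 | h7
              · skip
                exact allRangeF_sound _ _ (checkPointF_eq cert) 46600 100 chkP_46600 i (by omega) (by omega)
              · skip
                rcases Nat.lt_or_ge i 46800 with h8 | h8
                · skip
                  exact allRangeF_sound _ _ (checkPointF_eq cert) 46700 100 chkP_46700 i (by omega) (by omega)
                · skip
                  exact allRangeF_sound _ _ (checkPointF_eq cert) 46800 100 chkP_46800 i (by omega) (by omega)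
        · skip
          rcases Nat.lt_or_ge i 47400 with h5 | h5
          · skip
            rcases Nat.lt_or_ge i 47100 with h6 | h6
            · skip
              rcases Nat.lt_or_ge i 47000 with h7 | h7
              · skip
                exact allRangeF_sound _ _ (checkPointF_eq cert) 46900 100 chkP_46900 i (by omega) (by omega)
              · skip
                exact allRangeF_sound _ _ (checkPointF_eq cert) 47000 100 chkP_47000 i (by omega) (by omega)
            · skip
              rcases Nat.lt_or_ge i 47200 with h7 | h7
              · skip
                exact allRangeF_sound _ _ (checkPointF_eq cert) 47100 100 chkP_47100 i (by omega) (by omega)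
              · skip
                rcases Nat.lt_or_ge i 47300 with h8 | h8
                · skip
                  exact allRangeF_sound _ _ (checkPointF_eq cert) 47200 100 chkP_47200 i (by omega) (by omega)
                · skip
                  exact allRangeF_sound _ _ (checkPointF_eq cert) 47300 100 chkP_47300 i (by omega) (by omega)
          · skip
            rcases Nat.lt_or_ge i 47700 with h6 | h6
            · skip
              rcases Nat.lt_or_ge i 47500 with h7 | h7
              · skip
                exact allRangeF_sound _ _ (checkPointF_eq cert) 47400 100 chkP_47400 i (by omega) (by omega)
              · skip
                rcases Nat.lt_or_ge i 47600 with h8 | h8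
                · skip
                  exact allRangeF_sound _ _ (checkPointF_eq cert) 47500 100 chkP_47500 i (by omega) (by omega)
                · skip
                  exact allRangeF_sound _ _ (checkPointF_eq cert) 47600 100 chkP_47600 i (by omega) (by omega)
            · skip
              rcases Nat.lt_or_ge i 47800 with h7 | h7
              · skip
                exact allRangeF_sound _ _ (checkPointF_eq cert) 47700 100 chkP_47700 i (by omega) (by omega)
              · skip
                rcases Nat.lt_or_ge i 47900 with h8 | h8
                · skip
                  exact allRangeF_sound _ _ (checkPointF_eq cert) 47800 100 chkP_47800 i (by omega) (by omega)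
                · skip
                  exact allRangeF_sound _ _ (checkPointF_eq cert) 47900 100 chkP_47900 i (by omega) (by omega)
      · skip
        rcases Nat.lt_or_ge i 49000 with h4 | h4
        · skip
          rcases Nat.lt_or_ge i 48500 with h5 | h5
          · skip
            rcases Nat.lt_or_ge i 48200 with h6 | h6
            · skip
              rcases Nat.lt_or_ge i 48100 with h7 | h7
              · skip
                exact allRangeF_sound _ _ (checkPointF_eq cert) 48000 100 chkP_48000 i (by omega) (by omega)
              · skip
                exact allRangeF_sound _ _ (checkPointF_eq cert) 48100 100 chkP_48100 i (by omega) (by omega)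
            · skip
              rcases Nat.lt_or_ge i 48300 with h7 | h7
              · skip
                exact allRangeF_sound _ _ (checkPointF_eq cert) 48200 100 chkP_48200 i (by omega) (by omega)
              · skip
                rcases Nat.lt_or_ge i 48400 with h8 | h8
                · skip
                  exact allRangeF_sound _ _ (checkPointF_eq cert) 48300 100 chkP_48300 i (by omega) (by omega)
                · skip
                  exact allRangeF_sound _ _ (checkPointF_eq cert) 48400 100 chkP_48400 i (by omega) (by omega)
          · skip
            rcases Nat.lt_or_ge i 48700 with h6 | h6
            · skip
              rcases Nat.lt_or_ge i 48600 with h7 | h7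
              · skip
                exact allRangeF_sound _ _ (checkPointF_eq cert) 48500 100 chkP_48500 i (by omega) (by omega)
              · skip
                exact allRangeF_sound _ _ (checkPointF_eq cert) 48600 100 chkP_48600 i (by omega) (by omega)
            · skip
              rcases Nat.lt_or_ge i 48800 with h7 | h7
              · skip
                exact allRangeF_sound _ _ (checkPointF_eq cert) 48700 100 chkP_48700 i (by omega) (by omega)
              · skip
                rcases Nat.lt_or_ge i 48900 with h8 | h8
                · skip
                  exact allRangeF_sound _ _ (checkPointF_eq cert) 48800 100 chkP_48800 i (by omega) (by omega)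
                · skip
                  exact allRangeF_sound _ _ (checkPointF_eq cert) 48900 100 chkP_48900 i (by omega) (by omega)
        · skip
          rcases Nat.lt_or_ge i 49500 with h5 | h5
          · skip
            rcases Nat.lt_or_ge i 49200 with h6 | h6
            · skip
              rcases Nat.lt_or_ge i 49100 with h7 | h7
              · skip
                exact allRangeF_sound _ _ (checkPointF_eq cert) 49000 100 chkP_49000 i (by omega) (by omega)
              · skip
                exact allRangeF_sound _ _ (checkPointF_eq cert) 49100 100 chkP_49100 i (by omega) (by omega)
            · skip
              rcases Nat.lt_or_ge i 49300 with h7 | h7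
              · skip
                exact allRangeF_sound _ _ (checkPointF_eq cert) 49200 100 chkP_49200 i (by omega) (by omega)
              · skip
                rcases Nat.lt_or_ge i 49400 with h8 | h8
                · skip
                  exact allRangeF_sound _ _ (checkPointF_eq cert) 49300 100 chkP_49300 i (by omega) (by omega)
                · skip
                  exact allRangeF_sound _ _ (checkPointF_eq cert) 49400 100 chkP_49400 i (by omega) (by omega)
          · skip
            rcases Nat.lt_or_ge i 49800 with h6 | h6
            · skip
              rcases Nat.lt_or_ge i 49600 with h7 | h7
              · skip
                exact allRangeF_sound _ _ (checkPointF_eq cert) 49500 100 chkP_49500 i (by omega) (by omega)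
              · skip
                rcases Nat.lt_or_ge i 49700 with h8 | h8
                · skip
                  exact allRangeF_sound _ _ (checkPointF_eq cert) 49600 100 chkP_49600 i (by omega) (by omega)
                · skip
                  exact allRangeF_sound _ _ (checkPointF_eq cert) 49700 100 chkP_49700 i (by omega) (by omega)
            · skip
              rcases Nat.lt_or_ge i 49900 with h7 | h7
              · skip
                exact allRangeF_sound _ _ (checkPointF_eq cert) 49800 100 chkP_49800 i (by omega) (by omega)
              · skip
                rcases Nat.lt_or_ge i 50000 with h8 | h8
                · skip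
                  exact allRangeF_sound _ _ (checkPointF_eq cert) 49900 100 chkP_49900 i (by omega) (by omega)
                · skip
                  exact allRangeF_sound _ _ (checkPointF_eq cert) 50000 100 chkP_50000 i (by omega) (by omega)

end Cfsg.Agent.Lib.Helper28.He2Data
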