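import Cfsg.Agent.Lib.Helper28.He2Data
import Cfsg.Agent.Lib.Helper28.TCFast

set_option autoImplicit false
set_option maxRecDepth 1000000
set_option linter.all false
set_option Elab.async false

namespace Cfsg.Agent.Lib.Helper28.He2Data

open Cfsg.Agent.Lib.Helper28

theorem chkP_50100 : allRangeF (checkPointF cert) (nat_lit 50100) (nat_lit 100) = true := by decide +kernel
theorem chkP_50200 : allRangeF (checkPointF cert) (nat_lit 50200) (nat_lit 100) = true := by decide +kernel
theorem chkP_50300 : allRangeF (checkPointF cert) (nat_lit 50300) (nat_lit 100) = true := by decide +kernel
theorem chkP_50400 : allRangeF (checkPointF cert) (nat_lit 50400) (nat_lit 100) = true := by decide +kernel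
theorem chkP_50500 : allRangeF (checkPointF cert) (nat_lit 50500) (nat_lit 100) = true := by decide +kernel
theorem chkP_50600 : allRangeF (checkPointF cert) (nat_lit 50600) (nat_lit 100) = true := by decide +kernel
theorem chkP_50700 : allRangeF (checkPointF cert) (nat_lit 50700) (nat_lit 100) = true := by decide +kernel
theorem chkP_50800 : allRangeF (checkPointF cert) (nat_lit 50800) (nat_lit 100) = true := by decide +kernel
theorem chkP_50900 : allRangeF (checkPointF cert) (nat_lit 50900) (nat_lit 100) = true := by decide +kernel
theorem chkP_51000 : allRangeF (checkPointF cert) (nat_lit 51000) (nat_lit 100) = true := by decide +kernel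
theorem chkP_51100 : allRangeF (checkPointF cert) (nat_lit 51100) (nat_lit 100) = true := by decide +kernel
theorem chkP_51200 : allRangeF (checkPointF cert) (nat_lit 51200) (nat_lit 100) = true := by decide +kernel
theorem chkP_51300 : allRangeF (checkPointF cert) (nat_lit 51300) (nat_lit 100) = true := by decide +kernel
theorem chkP_51400 : allRangeF (checkPointF cert) (nat_lit 51400) (nat_lit 100) = true := by decide +kernel
theorem chkP_51500 : allRangeF (checkPointF cert) (nat_lit 51500) (nat_lit 100) = true := by decide +kernel
theorem chkP_51600 : allRangeF (checkPointF cert) (nat_lit 51600) (nat_lit 100) = true := by decide +kernel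
theorem chkP_51700 : allRangeF (checkPointF cert) (nat_lit 51700) (nat_lit 100) = true := by decide +kernel
theorem chkP_51800 : allRangeF (checkPointF cert) (nat_lit 51800) (nat_lit 100) = true := by decide +kernel
theorem chkP_51900 : allRangeF (checkPointF cert) (nat_lit 51900) (nat_lit 100) = true := by decide +kernel
theorem chkP_52000 : allRangeF (checkPointF cert) (nat_lit 52000) (nat_lit 100) = true := by decide +kernel
theorem chkP_52100 : allRangeF (checkPointF cert) (nat_lit 52100) (nat_lit 100) = true := by decide +kernel
theorem chkP_52200 : allRangeF (checkPointF cert) (nat_lit 52200) (nat_lit 100) = true := by decide +kernel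
theorem chkP_52300 : allRangeF (checkPointF cert) (nat_lit 52300) (nat_lit 100) = true := by decide +kernel
theorem chkP_52400 : allRangeF (checkPointF cert) (nat_lit 52400) (nat_lit 100) = true := by decide +kernel
theorem chkP_52500 : allRangeF (checkPointF cert) (nat_lit 52500) (nat_lit 100) = true := by decide +kernel
theorem chkP_52600 : allRangeF (checkPointF cert) (nat_lit 52600) (nat_lit 100) = true := by decide +kernel
theorem chkP_52700 : allRangeF (checkPointF cert) (nat_lit 52700) (nat_lit 100) = true := by decide +kernel
theorem chkP_52800 : allRangeF (checkPointF cert) (nat_lit 52800) (nat_lit 100) = true := by decide +kernel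
theorem chkP_52900 : allRangeF (checkPointF cert) (nat_lit 52900) (nat_lit 100) = true := by decide +kernel
theorem chkP_53000 : allRangeF (checkPointF cert) (nat_lit 53000) (nat_lit 100) = true := by decide +kernel
theorem chkP_53100 : allRangeF (checkPointF cert) (nat_lit 53100) (nat_lit 100) = true := by decide +kernel
theorem chkP_53200 : allRangeF (checkPointF cert) (nat_lit 53200) (nat_lit 100) = true := by decide +kernel
theorem chkP_53300 : allRangeF (checkPointF cert) (nat_lit 53300) (nat_lit 100) = true := by decide +kernel
theorem chkP_53400 : allRangeF (checkPointF cert) (nat_lit 53400) (nat_lit 100) = true := by decide +kernel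
theorem chkP_53500 : allRangeF (checkPointF cert) (nat_lit 53500) (nat_lit 100) = true := by decide +kernel
theorem chkP_53600 : allRangeF (checkPointF cert) (nat_lit 53600) (nat_lit 100) = true := by decide +kernel
theorem chkP_53700 : allRangeF (checkPointF cert) (nat_lit 53700) (nat_lit 100) = true := by decide +kernel
theorem chkP_53800 : allRangeF (checkPointF cert) (nat_lit 53800) (nat_lit 100) = true := by decide +kernel
theorem chkP_53900 : allRangeF (checkPointF cert) (nat_lit 53900) (nat_lit 100) = true := by decide +kernel
theorem chkP_54000 : allRangeF (checkPointF cert) (nat_lit 54000) (nat_lit 100) = true := by decide +kernel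
theorem chkP_54100 : allRangeF (checkPointF cert) (nat_lit 54100) (nat_lit 100) = true := by decide +kernel
theorem chkP_54200 : allRangeF (checkPointF cert) (nat_lit 54200) (nat_lit 100) = true := by decide +kernel
theorem chkP_54300 : allRangeF (checkPointF cert) (nat_lit 54300) (nat_lit 100) = true := by decide +kernel
theorem chkP_54400 : allRangeF (checkPointF cert) (nat_lit 54400) (nat_lit 100) = true := by decide +kernel
theorem chkP_54500 : allRangeF (checkPointF cert) (nat_lit 54500) (nat_lit 100) = true := by decide +kernel
theorem chkP_54600 : allRangeF (checkPointF cert) (nat_lit 54600) (nat_lit 100) = true := by decide +kernel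
theorem chkP_54700 : allRangeF (checkPointF cert) (nat_lit 54700) (nat_lit 100) = true := by decide +kernel
theorem chkP_54800 : allRangeF (checkPointF cert) (nat_lit 54800) (nat_lit 100) = true := by decide +kernel
theorem chkP_54900 : allRangeF (checkPointF cert) (nat_lit 54900) (nat_lit 100) = true := by decide +kernel
theorem chkP_55000 : allRangeF (checkPointF cert) (nat_lit 55000) (nat_lit 100) = true := by decide +kernel
theorem chkP_55100 : allRangeF (checkPointF cert) (nat_lit 55100) (nat_lit 100) = true := by decide +kernel
theorem chkP_55200 : allRangeF (checkPointF cert) (nat_lit 55200) (nat_lit 100) = true := by decide +kernel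
theorem chkP_55300 : allRangeF (checkPointF cert) (nat_lit 55300) (nat_lit 100) = true := by decide +kernel
theorem chkP_55400 : allRangeF (checkPointF cert) (nat_lit 55400) (nat_lit 100) = true := by decide +kernel
theorem chkP_55500 : allRangeF (checkPointF cert) (nat_lit 55500) (nat_lit 100) = true := by decide +kernel
theorem chkP_55600 : allRangeF (checkPointF cert) (nat_lit 55600) (nat_lit 100) = true := by decide +kernel
theorem chkP_55700 : allRangeF (checkPointF cert) (nat_lit 55700) (nat_lit 100) = true := by decide +kernel
theorem chkP_55800 : allRangeF (checkPointF cert) (nat_lit 55800) (nat_lit 100) = true := by decide +kernel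
theorem chkP_55900 : allRangeF (checkPointF cert) (nat_lit 55900) (nat_lit 100) = true := by decide +kernel
theorem chkP_56000 : allRangeF (checkPointF cert) (nat_lit 56000) (nat_lit 100) = true := by decide +kernel
theorem chkP_56100 : allRangeF (checkPointF cert) (nat_lit 56100) (nat_lit 100) = true := by decide +kernel
theorem chkP_56200 : allRangeF (checkPointF cert) (nat_lit 56200) (nat_lit 100) = true := by decide +kernel
theorem chkP_56300 : allRangeF (checkPointF cert) (nat_lit 56300) (nat_lit 100) = true := by decide +kernel
theorem chkP_56400 : allRangeF (checkPointF cert) (nat_lit 56400) (nat_lit 100) = true := by decide +kernel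
theorem chkP_56500 : allRangeF (checkPointF cert) (nat_lit 56500) (nat_lit 100) = true := by decide +kernel
theorem chkP_56600 : allRangeF (checkPointF cert) (nat_lit 56600) (nat_lit 100) = true := by decide +kernel
theorem chkP_56700 : allRangeF (checkPointF cert) (nat_lit 56700) (nat_lit 100) = true := by decide +kernel
theorem chkP_56800 : allRangeF (checkPointF cert) (nat_lit 56800) (nat_lit 100) = true := by decide +kernel
theorem chkP_56900 : allRangeF (checkPointF cert) (nat_lit 56900) (nat_lit 100) = true := by decide +kernel
theorem chkP_57000 : allRangeF (checkPointF cert) (nat_lit 57000) (nat_lit 100) = true := by decide +kernel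
theorem chkP_57100 : allRangeF (checkPointF cert) (nat_lit 57100) (nat_lit 100) = true := by decide +kernel
theorem chkP_57200 : allRangeF (checkPointF cert) (nat_lit 57200) (nat_lit 100) = true := by decide +kernel
theorem chkP_57300 : allRangeF (checkPointF cert) (nat_lit 57300) (nat_lit 100) = true := by decide +kernel
theorem chkP_57400 : allRangeF (checkPointF cert) (nat_lit 57400) (nat_lit 100) = true := by decide +kernel
theorem chkP_57500 : allRangeF (checkPointF cert) (nat_lit 57500) (nat_lit 100) = true := by decide +kernel
theorem chkP_57600 : allRangeF (checkPointF cert) (nat_lit 57600) (nat_lit 100) = true := by decide +kernel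
theorem chkP_57700 : allRangeF (checkPointF cert) (nat_lit 57700) (nat_lit 100) = true := by decide +kernel
theorem chkP_57800 : allRangeF (checkPointF cert) (nat_lit 57800) (nat_lit 100) = true := by decide +kernel
theorem chkP_57900 : allRangeF (checkPointF cert) (nat_lit 57900) (nat_lit 100) = true := by decide +kernel
theorem chkP_58000 : allRangeF (checkPointF cert) (nat_lit 58000) (nat_lit 100) = true := by decide +kernel
theorem chkP_58100 : allRangeF (checkPointF cert) (nat_lit 58100) (nat_lit 100) = true := by decide +kernel
theorem chkP_58200 : allRangeF (checkPointF cert) (nat_lit 58200) (nat_lit 100) = true := by decide +kernel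
theorem chkP_58300 : allRangeF (checkPointF cert) (nat_lit 58300) (nat_lit 100) = true := by decide +kernel
theorem chkP_58400 : allRangeF (checkPointF cert) (nat_lit 58400) (nat_lit 100) = true := by decide +kernel
theorem chkP_58500 : allRangeF (checkPointF cert) (nat_lit 58500) (nat_lit 100) = true := by decide +kernel
theorem chkP_58600 : allRangeF (checkPointF cert) (nat_lit 58600) (nat_lit 100) = true := by decide +kernel
theorem chkP_58700 : allRangeF (checkPointF cert) (nat_lit 58700) (nat_lit 100) = true := by decide +kernel
theorem chkP_58800 : allRangeF (checkPointF cert) (nat_lit 58800) (nat_lit 100) = true := by decide +kernel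
theorem chkP_58900 : allRangeF (checkPointF cert) (nat_lit 58900) (nat_lit 100) = true := by decide +kernel
theorem chkP_59000 : allRangeF (checkPointF cert) (nat_lit 59000) (nat_lit 100) = true := by decide +kernel
theorem chkP_59100 : allRangeF (checkPointF cert) (nat_lit 59100) (nat_lit 100) = true := by decide +kernel
theorem chkP_59200 : allRangeF (checkPointF cert) (nat_lit 59200) (nat_lit 100) = true := by decide +kernel
theorem chkP_59300 : allRangeF (checkPointF cert) (nat_lit 59300) (nat_lit 100) = true := by decide +kernel
theorem chkP_59400 : allRangeF (checkPointF cert) (nat_lit 59400) (nat_lit 100) = true := by decide +kernel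
theorem chkP_59500 : allRangeF (checkPointF cert) (nat_lit 59500) (nat_lit 100) = true := by decide +kernel
theorem chkP_59600 : allRangeF (checkPointF cert) (nat_lit 59600) (nat_lit 100) = true := by decide +kernel
theorem chkP_59700 : allRangeF (checkPointF cert) (nat_lit 59700) (nat_lit 100) = true := by decide +kernel
theorem chkP_59800 : allRangeF (checkPointF cert) (nat_lit 59800) (nat_lit 100) = true := by decide +kernel
theorem chkP_59900 : allRangeF (checkPointF cert) (nat_lit 59900) (nat_lit 100) = true := by decide +kernel
theorem chkP_60000 : allRangeF (checkPointF cert) (nat_lit 60000) (nat_lit 100) = true := by decide +kernel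
theorem chkP_60100 : allRangeF (checkPointF cert) (nat_lit 60100) (nat_lit 100) = true := by decide +kernel
theorem chkP_60200 : allRangeF (checkPointF cert) (nat_lit 60200) (nat_lit 100) = true := by decide +kernel
theorem chkP_60300 : allRangeF (checkPointF cert) (nat_lit 60300) (nat_lit 100) = true := by decide +kernel
theorem chkP_60400 : allRangeF (checkPointF cert) (nat_lit 60400) (nat_lit 100) = true := by decide +kernel
theorem chkP_60500 : allRangeF (checkPointF cert) (nat_lit 60500) (nat_lit 100) = true := by decide +kernel
theorem chkP_60600 : allRangeF (checkPointF cert) (nat_lit 60600) (nat_lit 100) = true := by decide +kernel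
theorem chkP_60700 : allRangeF (checkPointF cert) (nat_lit 60700) (nat_lit 100) = true := by decide +kernel
theorem chkP_60800 : allRangeF (checkPointF cert) (nat_lit 60800) (nat_lit 100) = true := by decide +kernel
theorem chkP_60900 : allRangeF (checkPointF cert) (nat_lit 60900) (nat_lit 100) = true := by decide +kernel
theorem chkP_61000 : allRangeF (checkPointF cert) (nat_lit 61000) (nat_lit 100) = true := by decide +kernel
theorem chkP_61100 : allRangeF (checkPointF cert) (nat_lit 61100) (nat_lit 100) = true := by decide +kernel
theorem chkP_61200 : allRangeF (checkPointF cert) (nat_lit 61200) (nat_lit 100) = true := by decide +kernel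
theorem chkP_61300 : allRangeF (checkPointF cert) (nat_lit 61300) (nat_lit 100) = true := by decide +kernel
theorem chkP_61400 : allRangeF (checkPointF cert) (nat_lit 61400) (nat_lit 100) = true := by decide +kernel
theorem chkP_61500 : allRangeF (checkPointF cert) (nat_lit 61500) (nat_lit 100) = true := by decide +kernel
theorem chkP_61600 : allRangeF (checkPointF cert) (nat_lit 61600) (nat_lit 100) = true := by decide +kernel
theorem chkP_61700 : allRangeF (checkPointF cert) (nat_lit 61700) (nat_lit 100) = true := by decide +kernel
theorem chkP_61800 : allRangeF (checkPointF cert) (nat_lit 61800) (nat_lit 100) = true := by decide +kernel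
theorem chkP_61900 : allRangeF (checkPointF cert) (nat_lit 61900) (nat_lit 100) = true := by decide +kernel
theorem chkP_62000 : allRangeF (checkPointF cert) (nat_lit 62000) (nat_lit 100) = true := by decide +kernel
theorem chkP_62100 : allRangeF (checkPointF cert) (nat_lit 62100) (nat_lit 100) = true := by decide +kernel
theorem chkP_62200 : allRangeF (checkPointF cert) (nat_lit 62200) (nat_lit 100) = true := by decide +kernel
theorem chkP_62300 : allRangeF (checkPointF cert) (nat_lit 62300) (nat_lit 100) = true := by decide +kernel
theorem chkP_62400 : allRangeF (checkPointF cert) (nat_lit 62400) (nat_lit 100) = true := by decide +kernel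
theorem chkP_62500 : allRangeF (checkPointF cert) (nat_lit 62500) (nat_lit 100) = true := by decide +kernel
theorem chkP_62600 : allRangeF (checkPointF cert) (nat_lit 62600) (nat_lit 100) = true := by decide +kernel
theorem chkP_62700 : allRangeF (checkPointF cert) (nat_lit 62700) (nat_lit 100) = true := by decide +kernel
theorem chkP_62800 : allRangeF (checkPointF cert) (nat_lit 62800) (nat_lit 100) = true := by decide +kernel
theorem chkP_62900 : allRangeF (checkPointF cert) (nat_lit 62900) (nat_lit 100) = true := by decide +kernel
theorem chkP_63000 : allRangeF (checkPointF cert) (nat_lit 63000) (nat_lit 100) = true := by decide +kernel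
theorem chkP_63100 : allRangeF (checkPointF cert) (nat_lit 63100) (nat_lit 100) = true := by decide +kernel
theorem chkP_63200 : allRangeF (checkPointF cert) (nat_lit 63200) (nat_lit 100) = true := by decide +kernel
theorem chkP_63300 : allRangeF (checkPointF cert) (nat_lit 63300) (nat_lit 100) = true := by decide +kernel
theorem chkP_63400 : allRangeF (checkPointF cert) (nat_lit 63400) (nat_lit 100) = true := by decide +kernel
theorem chkP_63500 : allRangeF (checkPointF cert) (nat_lit 63500) (nat_lit 100) = true := by decide +kernel
theorem chkP_63600 : allRangeF (checkPointF cert) (nat_lit 63600) (nat_lit 100) = true := by decide +kernel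
theorem chkP_63700 : allRangeF (checkPointF cert) (nat_lit 63700) (nat_lit 100) = true := by decide +kernel
theorem chkP_63800 : allRangeF (checkPointF cert) (nat_lit 63800) (nat_lit 100) = true := by decide +kernel
theorem chkP_63900 : allRangeF (checkPointF cert) (nat_lit 63900) (nat_lit 100) = true := by decide +kernel
theorem chkP_64000 : allRangeF (checkPointF cert) (nat_lit 64000) (nat_lit 100) = true := by decide +kernel
theorem chkP_64100 : allRangeF (checkPointF cert) (nat_lit 64100) (nat_lit 100) = true := by decide +kernel
theorem chkP_64200 : allRangeF (checkPointF cert) (nat_lit 64200) (nat_lit 100) = true := by decide +kernel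
theorem chkP_64300 : allRangeF (checkPointF cert) (nat_lit 64300) (nat_lit 100) = true := by decide +kernel
theorem chkP_64400 : allRangeF (checkPointF cert) (nat_lit 64400) (nat_lit 100) = true := by decide +kernel
theorem chkP_64500 : allRangeF (checkPointF cert) (nat_lit 64500) (nat_lit 100) = true := by decide +kernel
theorem chkP_64600 : allRangeF (checkPointF cert) (nat_lit 64600) (nat_lit 100) = true := by decide +kernel
theorem chkP_64700 : allRangeF (checkPointF cert) (nat_lit 64700) (nat_lit 100) = true := by decide +kernel
theorem chkP_64800 : allRangeF (checkPointF cert) (nat_lit 64800) (nat_lit 100) = true := by decide +kernel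
theorem chkP_64900 : allRangeF (checkPointF cert) (nat_lit 64900) (nat_lit 100) = true := by decide +kernel
theorem chkP_65000 : allRangeF (checkPointF cert) (nat_lit 65000) (nat_lit 100) = true := by decide +kernel
theorem chkP_65100 : allRangeF (checkPointF cert) (nat_lit 65100) (nat_lit 100) = true := by decide +kernel
theorem chkP_65200 : allRangeF (checkPointF cert) (nat_lit 65200) (nat_lit 100) = true := by decide +kernel
theorem chkP_65300 : allRangeF (checkPointF cert) (nat_lit 65300) (nat_lit 100) = true := by decide +kernel
theorem chkP_65400 : allRangeF (checkPointF cert) (nat_lit 65400) (nat_lit 100) = true := by decide +kernel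
theorem chkP_65500 : allRangeF (checkPointF cert) (nat_lit 65500) (nat_lit 100) = true := by decide +kernel
theorem chkP_65600 : allRangeF (checkPointF cert) (nat_lit 65600) (nat_lit 100) = true := by decide +kernel
theorem chkP_65700 : allRangeF (checkPointF cert) (nat_lit 65700) (nat_lit 100) = true := by decide +kernel
theorem chkP_65800 : allRangeF (checkPointF cert) (nat_lit 65800) (nat_lit 100) = true := by decide +kernel
theorem chkP_65900 : allRangeF (checkPointF cert) (nat_lit 65900) (nat_lit 100) = true := by decide +kernel
theorem chkP_66000 : allRangeF (checkPointF cert) (nat_lit 66000) (nat_lit 100) = true := by decide +kernel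
theorem chkP_66100 : allRangeF (checkPointF cert) (nat_lit 66100) (nat_lit 100) = true := by decide +kernel
theorem chkP_66200 : allRangeF (checkPointF cert) (nat_lit 66200) (nat_lit 100) = true := by decide +kernel
theorem chkP_66300 : allRangeF (checkPointF cert) (nat_lit 66300) (nat_lit 100) = true := by decide +kernel
theorem chkP_66400 : allRangeF (checkPointF cert) (nat_lit 66400) (nat_lit 100) = true := by decide +kernel
theorem chkP_66500 : allRangeF (checkPointF cert) (nat_lit 66500) (nat_lit 100) = true := by decide +kernel
theorem chkP_66600 : allRangeF (checkPointF cert) (nat_lit 66600) (nat_lit 100) = true := by decide +kernel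
theorem chkP_66700 : allRangeF (checkPointF cert) (nat_lit 66700) (nat_lit 100) = true := by decide +kernel

theorem ptsRange_3 : ∀ i, 50100 ≤ i → i < 66800 → checkPoint cert i = true := by
  intro i hlo hhi
  rcases Nat.lt_or_ge i 58400 with h1 | h1
  · skip
    rcases Nat.lt_or_ge i 54200 with h2 | h2
    · skip
      rcases Nat.lt_or_ge i 52100 with h3 | h3
      · skip
        rcases Nat.lt_or_ge i 51100 with h4 | h4
        · skip
          rcases Nat.lt_or_ge i 50600 with h5 | h5
          · skip
            rcases Nat.lt_or_ge i 50300 with h6 | h6
            · skip
              rcases Nat.lt_or_ge i 50200 with h7 | h7
              · skip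
                exact allRangeF_sound _ _ (checkPointF_eq cert) 50100 100 chkP_50100 i (by omega) (by omega)
              · skip
                exact allRangeF_sound _ _ (checkPointF_eq cert) 50200 100 chkP_50200 i (by omega) (by omega)
            · skip
              rcases Nat.lt_or_ge i 50400 with h7 | h7
              · skip
                exact allRangeF_sound _ _ (checkPointF_eq cert) 50300 100 chkP_50300 i (by omega) (by omega)
              · skip
                rcases Nat.lt_or_ge i 50500 with h8 | h8
                · skip
                  exact allRangeF_sound _ _ (checkPointF_eq cert) 50400 100 chkP_50400 i (by omega) (by omega)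
                · skip
                  exact allRangeF_sound _ _ (checkPointF_eq cert) 50500 100 chkP_50500 i (by omega) (by omega)
          · skip
            rcases Nat.lt_or_ge i 50800 with h6 | h6
            · skip
              rcases Nat.lt_or_ge i 50700 with h7 | h7
              · skip
                exact allRangeF_sound _ _ (checkPointF_eq cert) 50600 100 chkP_50600 i (by omega) (by omega)
              · skip
                exact allRangeF_sound _ _ (checkPointF_eq cert) 50700 100 chkP_50700 i (by omega) (by omega)
            · skip
              rcases Nat.lt_or_ge i 50900 with h7 | h7
              · skip
                exact allRangeF_sound _ _ (checkPointF_eq cert) 50800 100 chkP_50800 i (by omega) (by omega)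
              · skip
                rcases Nat.lt_or_ge i 51000 with h8 | h8
                · skip
                  exact allRangeF_sound _ _ (checkPointF_eq cert) 50900 100 chkP_50900 i (by omega) (by omega)
                · skip
                  exact allRangeF_sound _ _ (checkPointF_eq cert) 51000 100 chkP_51000 i (by omega) (by omega)
        · skip
          rcases Nat.lt_or_ge i 51600 with h5 | h5
          · skip
            rcases Nat.lt_or_ge i 51300 with h6 | h6
            · skip
              rcases Nat.lt_or_ge i 51200 with h7 | h7
              · skip
                exact allRangeF_sound _ _ (checkPointF_eq cert) 51100 100 chkP_51100 i (by omega) (by omega)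
              · skip
                exact allRangeF_sound _ _ (checkPointF_eq cert) 51200 100 chkP_51200 i (by omega) (by omega)
            · skip
              rcases Nat.lt_or_ge i 51400 with h7 | h7
              · skip
                exact allRangeF_sound _ _ (checkPointF_eq cert) 51300 100 chkP_51300 i (by omega) (by omega)
              · skip
                rcases Nat.lt_or_ge i 51500 with h8 | h8
                · skip
                  exact allRangeF_sound _ _ (checkPointF_eq cert) 51400 100 chkP_51400 i (by omega) (by omega)
                · skip
                  exact allRangeF_sound _ _ (checkPointF_eq cert) 51500 100 chkP_51500 i (by omega) (by omega)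
          · skip
            rcases Nat.lt_or_ge i 51800 with h6 | h6
            · skip
              rcases Nat.lt_or_ge i 51700 with h7 | h7
              · skip
                exact allRangeF_sound _ _ (checkPointF_eq cert) 51600 100 chkP_51600 i (by omega) (by omega)
              · skip
                exact allRangeF_sound _ _ (checkPointF_eq cert) 51700 100 chkP_51700 i (by omega) (by omega)
            · skip
              rcases Nat.lt_or_ge i 51900 with h7 | h7
              · skip
                exact allRangeF_sound _ _ (checkPointF_eq cert) 51800 100 chkP_51800 i (by omega) (by omega)
              · skip
                rcases Nat.lt_or_ge i 52000 with h8 | h8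
                · skip
                  exact allRangeF_sound _ _ (checkPointF_eq cert) 51900 100 chkP_51900 i (by omega) (by omega)
                · skip
                  exact allRangeF_sound _ _ (checkPointF_eq cert) 52000 100 chkP_52000 i (by omega) (by omega)
      · skip
        rcases Nat.lt_or_ge i 53100 with h4 | h4
        · skip
          rcases Nat.lt_or_ge i 52600 with h5 | h5
          · skip
            rcases Nat.lt_or_ge i 52300 with h6 | h6
            · skip
              rcases Nat.lt_or_ge i 52200 with h7 | h7
              · skip
                exact allRangeF_sound _ _ (checkPointF_eq cert) 52100 100 chkP_52100 i (by omega) (by omega)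
              · skip
                exact allRangeF_sound _ _ (checkPointF_eq cert) 52200 100 chkP_52200 i (by omega) (by omega)
            · skip
              rcases Nat.lt_or_ge i 52400 with h7 | h7
              · skip
                exact allRangeF_sound _ _ (checkPointF_eq cert) 52300 100 chkP_52300 i (by omega) (by omega)
              · skip
                rcases Nat.lt_or_ge i 52500 with h8 | h8
                · skip
                  exact allRangeF_sound _ _ (checkPointF_eq cert) 52400 100 chkP_52400 i (by omega) (by omega)
                · skip
                  exact allRangeF_sound _ _ (checkPointF_eq cert) 52500 100 chkP_52500 i (by omega) (by omega)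
          · skip
            rcases Nat.lt_or_ge i 52800 with h6 | h6
            · skip
              rcases Nat.lt_or_ge i 52700 with h7 | h7
              · skip
                exact allRangeF_sound _ _ (checkPointF_eq cert) 52600 100 chkP_52600 i (by omega) (by omega)
              · skip
                exact allRangeF_sound _ _ (checkPointF_eq cert) 52700 100 chkP_52700 i (by omega) (by omega)
            · skip
              rcases Nat.lt_or_ge i 52900 with h7 | h7
              · skip
                exact allRangeF_sound _ _ (checkPointF_eq cert) 52800 100 chkP_52800 i (by omega) (by omega)
              · skip
                rcases Nat.lt_or_ge i 53000 with h8 | h8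
                · skip
                  exact allRangeF_sound _ _ (checkPointF_eq cert) 52900 100 chkP_52900 i (by omega) (by omega)
                · skip
                  exact allRangeF_sound _ _ (checkPointF_eq cert) 53000 100 chkP_53000 i (by omega) (by omega)
        · skip
          rcases Nat.lt_or_ge i 53600 with h5 | h5
          · skip
            rcases Nat.lt_or_ge i 53300 with h6 | h6
            · skip
              rcases Nat.lt_or_ge i 53200 with h7 | h7
              · skip
                exact allRangeF_sound _ _ (checkPointF_eq cert) 53100 100 chkP_53100 i (by omega) (by omega)
              · skip
                exact allRangeF_sound _ _ (checkPointF_eq cert) 53200 100 chkP_53200 i (by omega) (by omega)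
            · skip
              rcases Nat.lt_or_ge i 53400 with h7 | h7
              · skip
                exact allRangeF_sound _ _ (checkPointF_eq cert) 53300 100 chkP_53300 i (by omega) (by omega)
              · skip
                rcases Nat.lt_or_ge i 53500 with h8 | h8
                · skip
                  exact allRangeF_sound _ _ (checkPointF_eq cert) 53400 100 chkP_53400 i (by omega) (by omega)
                · skip
                  exact allRangeF_sound _ _ (checkPointF_eq cert) 53500 100 chkP_53500 i (by omega) (by omega)
          · skip
            rcases Nat.lt_or_ge i 53900 with h6 | h6
            · skip
              rcases Nat.lt_or_ge i 53700 with h7 | h7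
              · skip
                exact allRangeF_sound _ _ (checkPointF_eq cert) 53600 100 chkP_53600 i (by omega) (by omega)
              · skip
                rcases Nat.lt_or_ge i 53800 with h8 | h8
                · skip
                  exact allRangeF_sound _ _ (checkPointF_eq cert) 53700 100 chkP_53700 i (by omega) (by omega)
                · skip
                  exact allRangeF_sound _ _ (checkPointF_eq cert) 53800 100 chkP_53800 i (by omega) (by omega)
            · skip
              rcases Nat.lt_or_ge i 54000 with h7 | h7
              · skip
                exact allRangeF_sound _ _ (checkPointF_eq cert) 53900 100 chkP_53900 i (by omega) (by omega)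
              · skip
                rcases Nat.lt_or_ge i 54100 with h8 | h8
                · skip
                  exact allRangeF_sound _ _ (checkPointF_eq cert) 54000 100 chkP_54000 i (by omega) (by omega)
                · skip
                  exact allRangeF_sound _ _ (checkPointF_eq cert) 54100 100 chkP_54100 i (by omega) (by omega)
    · skip
      rcases Nat.lt_or_ge i 56300 with h3 | h3
      · skip
        rcases Nat.lt_or_ge i 55200 with h4 | h4
        · skip
          rcases Nat.lt_or_ge i 54700 with h5 | h5
          · skip
            rcases Nat.lt_or_ge i 54400 with h6 | h6
            · skip
              rcases Nat.lt_or_ge i 54300 with h7 | h7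
              · skip
                exact allRangeF_sound _ _ (checkPointF_eq cert) 54200 100 chkP_54200 i (by omega) (by omega)
              · skip
                exact allRangeF_sound _ _ (checkPointF_eq cert) 54300 100 chkP_54300 i (by omega) (by omega)
            · skip
              rcases Nat.lt_or_ge i 54500 with h7 | h7
              · skip
                exact allRangeF_sound _ _ (checkPointF_eq cert) 54400 100 chkP_54400 i (by omega) (by omega)
              · skip
                rcases Nat.lt_or_ge i 54600 with h8 | h8
                · skip
                  exact allRangeF_sound _ _ (checkPointF_eq cert) 54500 100 chkP_54500 i (by omega) (by omega)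
                · skip
                  exact allRangeF_sound _ _ (checkPointF_eq cert) 54600 100 chkP_54600 i (by omega) (by omega)
          · skip
            rcases Nat.lt_or_ge i 54900 with h6 | h6
            · skip
              rcases Nat.lt_or_ge i 54800 with h7 | h7
              · skip
                exact allRangeF_sound _ _ (checkPointF_eq cert) 54700 100 chkP_54700 i (by omega) (by omega)
              · skip
                exact allRangeF_sound _ _ (checkPointF_eq cert) 54800 100 chkP_54800 i (by omega) (by omega)
            · skip
              rcases Nat.lt_or_ge i 55000 with h7 | h7
              · skip
                exact allRangeF_sound _ _ (checkPointF_eq cert) 54900 100 chkP_54900 i (by omega) (by omega)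
              · skip
                rcases Nat.lt_or_ge i 55100 with h8 | h8
                · skip
                  exact allRangeF_sound _ _ (checkPointF_eq cert) 55000 100 chkP_55000 i (by omega) (by omega)
                · skip
                  exact allRangeF_sound _ _ (checkPointF_eq cert) 55100 100 chkP_55100 i (by omega) (by omega)
        · skip
          rcases Nat.lt_or_ge i 55700 with h5 | h5
          · skip
            rcases Nat.lt_or_ge i 55400 with h6 | h6
            · skip
              rcases Nat.lt_or_ge i 55300 with h7 | h7
              · skip
                exact allRangeF_sound _ _ (checkPointF_eq cert) 55200 100 chkP_55200 i (by omega) (by omega)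
              · skip
                exact allRangeF_sound _ _ (checkPointF_eq cert) 55300 100 chkP_55300 i (by omega) (by omega)
            · skip
              rcases Nat.lt_or_ge i 55500 with h7 | h7
              · skip
                exact allRangeF_sound _ _ (checkPointF_eq cert) 55400 100 chkP_55400 i (by omega) (by omega)
              · skip
                rcases Nat.lt_or_ge i 55600 with h8 | h8
                · skip
                  exact allRangeF_sound _ _ (checkPointF_eq cert) 55500 100 chkP_55500 i (by omega) (by omega)
                · skip
                  exact allRangeF_sound _ _ (checkPointF_eq cert) 55600 100 chkP_55600 i (by omega) (by omega)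
          · skip
            rcases Nat.lt_or_ge i 56000 with h6 | h6
            · skip
              rcases Nat.lt_or_ge i 55800 with h7 | h7
              · skip
                exact allRangeF_sound _ _ (checkPointF_eq cert) 55700 100 chkP_55700 i (by omega) (by omega)
              · skip
                rcases Nat.lt_or_ge i 55900 with h8 | h8
                · skip
                  exact allRangeF_sound _ _ (checkPointF_eq cert) 55800 100 chkP_55800 i (by omega) (by omega)
                · skip
                  exact allRangeF_sound _ _ (checkPointF_eq cert) 55900 100 chkP_55900 i (by omega) (by omega)
            · skip
              rcases Nat.lt_or_ge i 56100 with h7 | h7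
              · skip
                exact allRangeF_sound _ _ (checkPointF_eq cert) 56000 100 chkP_56000 i (by omega) (by omega)
              · skip
                rcases Nat.lt_or_ge i 56200 with h8 | h8
                · skip
                  exact allRangeF_sound _ _ (checkPointF_eq cert) 56100 100 chkP_56100 i (by omega) (by omega)
                · skip
                  exact allRangeF_sound _ _ (checkPointF_eq cert) 56200 100 chkP_56200 i (by omega) (by omega)
      · skip
        rcases Nat.lt_or_ge i 57300 with h4 | h4
        · skip
          rcases Nat.lt_or_ge i 56800 with h5 | h5
          · skip
            rcases Nat.lt_or_ge i 56500 with h6 | h6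
            · skip
              rcases Nat.lt_or_ge i 56400 with h7 | h7
              · skip
                exact allRangeF_sound _ _ (checkPointF_eq cert) 56300 100 chkP_56300 i (by omega) (by omega)
              · skip
                exact allRangeF_sound _ _ (checkPointF_eq cert) 56400 100 chkP_56400 i (by omega) (by omega)
            · skip
              rcases Nat.lt_or_ge i 56600 with h7 | h7
              · skip
                exact allRangeF_sound _ _ (checkPointF_eq cert) 56500 100 chkP_56500 i (by omega) (by omega)
              · skip
                rcases Nat.lt_or_ge i 56700 with h8 | h8
                · skip
                  exact allRangeF_sound _ _ (checkPointF_eq cert) 56600 100 chkP_56600 i (by omega) (by omega)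
                · skip
                  exact allRangeF_sound _ _ (checkPointF_eq cert) 56700 100 chkP_56700 i (by omega) (by omega)
          · skip
            rcases Nat.lt_or_ge i 57000 with h6 | h6
            · skip
              rcases Nat.lt_or_ge i 56900 with h7 | h7
              · skip
                exact allRangeF_sound _ _ (checkPointF_eq cert) 56800 100 chkP_56800 i (by omega) (by omega)
              · skip
                exact allRangeF_sound _ _ (checkPointF_eq cert) 56900 100 chkP_56900 i (by omega) (by omega)
            · skip
              rcases Nat.lt_or_ge i 57100 with h7 | h7
              · skip
                exact allRangeF_sound _ _ (checkPointF_eq cert) 57000 100 chkP_57000 i (by omega) (by omega)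
              · skip
                rcases Nat.lt_or_ge i 57200 with h8 | h8
                · skip
                  exact allRangeF_sound _ _ (checkPointF_eq cert) 57100 100 chkP_57100 i (by omega) (by omega)
                · skip
                  exact allRangeF_sound _ _ (checkPointF_eq cert) 57200 100 chkP_57200 i (by omega) (by omega)
        · skip
          rcases Nat.lt_or_ge i 57800 with h5 | h5
          · skip
            rcases Nat.lt_or_ge i 57500 with h6 | h6
            · skip
              rcases Nat.lt_or_ge i 57400 with h7 | h7
              · skip
                exact allRangeF_sound _ _ (checkPointF_eq cert) 57300 100 chkP_57300 i (by omega) (by omega)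
              · skip
                exact allRangeF_sound _ _ (checkPointF_eq cert) 57400 100 chkP_57400 i (by omega) (by omega)
            · skip
              rcases Nat.lt_or_ge i 57600 with h7 | h7
              · skip
                exact allRangeF_sound _ _ (checkPointF_eq cert) 57500 100 chkP_57500 i (by omega) (by omega)
              · skip
                rcases Nat.lt_or_ge i 57700 with h8 | h8
                · skip
                  exact allRangeF_sound _ _ (checkPointF_eq cert) 57600 100 chkP_57600 i (by omega) (by omega)
                · skip
                  exact allRangeF_sound _ _ (checkPointF_eq cert) 57700 100 chkP_57700 i (by omega) (by omega)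
          · skip
            rcases Nat.lt_or_ge i 58100 with h6 | h6
            · skip
              rcases Nat.lt_or_ge i 57900 with h7 | h7
              · skip
                exact allRangeF_sound _ _ (checkPointF_eq cert) 57800 100 chkP_57800 i (by omega) (by omega)
              · skip
                rcases Nat.lt_or_ge i 58000 with h8 | h8
                · skip
                  exact allRangeF_sound _ _ (checkPointF_eq cert) 57900 100 chkP_57900 i (by omega) (by omega)
                · skip
                  exact allRangeF_sound _ _ (checkPointF_eq cert) 58000 100 chkP_58000 i (by omega) (by omega)
            · skip
              rcases Nat.lt_or_ge i 58200 with h7 | h7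
              · skip
                exact allRangeF_sound _ _ (checkPointF_eq cert) 58100 100 chkP_58100 i (by omega) (by omega)
              · skip
                rcases Nat.lt_or_ge i 58300 with h8 | h8
                · skip
                  exact allRangeF_sound _ _ (checkPointF_eq cert) 58200 100 chkP_58200 i (by omega) (by omega)
                · skip
                  exact allRangeF_sound _ _ (checkPointF_eq cert) 58300 100 chkP_58300 i (by omega) (by omega)
  · skip
    rcases Nat.lt_or_ge i 62600 with h2 | h2
    · skip
      rcases Nat.lt_or_ge i 60500 with h3 | h3
      · skip
        rcases Nat.lt_or_ge i 59400 with h4 | h4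
        · skip
          rcases Nat.lt_or_ge i 58900 with h5 | h5
          · skip
            rcases Nat.lt_or_ge i 58600 with h6 | h6
            · skip
              rcases Nat.lt_or_ge i 58500 with h7 | h7
              · skip
                exact allRangeF_sound _ _ (checkPointF_eq cert) 58400 100 chkP_58400 i (by omega) (by omega)
              · skip
                exact allRangeF_sound _ _ (checkPointF_eq cert) 58500 100 chkP_58500 i (by omega) (by omega)
            · skip
              rcases Nat.lt_or_ge i 58700 with h7 | h7
              · skip
                exact allRangeF_sound _ _ (checkPointF_eq cert) 58600 100 chkP_58600 i (by omega) (by omega)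
              · skip
                rcases Nat.lt_or_ge i 58800 with h8 | h8
                · skip
                  exact allRangeF_sound _ _ (checkPointF_eq cert) 58700 100 chkP_58700 i (by omega) (by omega)
                · skip
                  exact allRangeF_sound _ _ (checkPointF_eq cert) 58800 100 chkP_58800 i (by omega) (by omega)
          · skip
            rcases Nat.lt_or_ge i 59100 with h6 | h6
            · skip
              rcases Nat.lt_or_ge i 59000 with h7 | h7
              · skip
                exact allRangeF_sound _ _ (checkPointF_eq cert) 58900 100 chkP_58900 i (by omega) (by omega)
              · skip
                exact allRangeF_sound _ _ (checkPointF_eq cert) 59000 100 chkP_59000 i (by omega) (by omega)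
            · skip
              rcases Nat.lt_or_ge i 59200 with h7 | h7
              · skip
                exact allRangeF_sound _ _ (checkPointF_eq cert) 59100 100 chkP_59100 i (by omega) (by omega)
              · skip
                rcases Nat.lt_or_ge i 59300 with h8 | h8
                · skip
                  exact allRangeF_sound _ _ (checkPointF_eq cert) 59200 100 chkP_59200 i (by omega) (by omega)
                · skip
                  exact allRangeF_sound _ _ (checkPointF_eq cert) 59300 100 chkP_59300 i (by omega) (by omega)
        · skip
          rcases Nat.lt_or_ge i 59900 with h5 | h5
          · skip
            rcases Nat.lt_or_ge i 59600 with h6 | h6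
            · skip
              rcases Nat.lt_or_ge i 59500 with h7 | h7
              · skip
                exact allRangeF_sound _ _ (checkPointF_eq cert) 59400 100 chkP_59400 i (by omega) (by omega)
              · skip
                exact allRangeF_sound _ _ (checkPointF_eq cert) 59500 100 chkP_59500 i (by omega) (by omega)
            · skip
              rcases Nat.lt_or_ge i 59700 with h7 | h7
              · skip
                exact allRangeF_sound _ _ (checkPointF_eq cert) 59600 100 chkP_59600 i (by omega) (by omega)
              · skip
                rcases Nat.lt_or_ge i 59800 with h8 | h8
                · skip
                  exact allRangeF_sound _ _ (checkPointF_eq cert) 59700 100 chkP_59700 i (by omega) (by omega)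
                · skip
                  exact allRangeF_sound _ _ (checkPointF_eq cert) 59800 100 chkP_59800 i (by omega) (by omega)
          · skip
            rcases Nat.lt_or_ge i 60200 with h6 | h6
            · skip
              rcases Nat.lt_or_ge i 60000 with h7 | h7
              · skip
                exact allRangeF_sound _ _ (checkPointF_eq cert) 59900 100 chkP_59900 i (by omega) (by omega)
              · skip
                rcases Nat.lt_or_ge i 60100 with h8 | h8
                · skip
                  exact allRangeF_sound _ _ (checkPointF_eq cert) 60000 100 chkP_60000 i (by omega) (by omega)
                · skip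
                  exact allRangeF_sound _ _ (checkPointF_eq cert) 60100 100 chkP_60100 i (by omega) (by omega)
            · skip
              rcases Nat.lt_or_ge i 60300 with h7 | h7
              · skip
                exact allRangeF_sound _ _ (checkPointF_eq cert) 60200 100 chkP_60200 i (by omega) (by omega)
              · skip
                rcases Nat.lt_or_ge i 60400 with h8 | h8
                · skip
                  exact allRangeF_sound _ _ (checkPointF_eq cert) 60300 100 chkP_60300 i (by omega) (by omega)
                · skip
                  exact allRangeF_sound _ _ (checkPointF_eq cert) 60400 100 chkP_60400 i (by omega) (by omega)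
      · skip
        rcases Nat.lt_or_ge i 61500 with h4 | h4
        · skip
          rcases Nat.lt_or_ge i 61000 with h5 | h5
          · skip
            rcases Nat.lt_or_ge i 60700 with h6 | h6
            · skip
              rcases Nat.lt_or_ge i 60600 with h7 | h7
              · skip
                exact allRangeF_sound _ _ (checkPointF_eq cert) 60500 100 chkP_60500 i (by omega) (by omega)
              · skip
                exact allRangeF_sound _ _ (checkPointF_eq cert) 60600 100 chkP_60600 i (by omega) (by omega)
            · skip
              rcases Nat.lt_or_ge i 60800 with h7 | h7
              · skip
                exact allRangeF_sound _ _ (checkPointF_eq cert) 60700 100 chkP_60700 i (by omega) (by omega)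
              · skip
                rcases Nat.lt_or_ge i 60900 with h8 | h8
                · skip
                  exact allRangeF_sound _ _ (checkPointF_eq cert) 60800 100 chkP_60800 i (by omega) (by omega)
                · skip
                  exact allRangeF_sound _ _ (checkPointF_eq cert) 60900 100 chkP_60900 i (by omega) (by omega)
          · skip
            rcases Nat.lt_or_ge i 61200 with h6 | h6
            · skip
              rcases Nat.lt_or_ge i 61100 with h7 | h7
              · skip
                exact allRangeF_sound _ _ (checkPointF_eq cert) 61000 100 chkP_61000 i (by omega) (by omega)
              · skip
                exact allRangeF_sound _ _ (checkPointF_eq cert) 61100 100 chkP_61100 i (by omega) (by omega)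
            · skip
              rcases Nat.lt_or_ge i 61300 with h7 | h7
              · skip
                exact allRangeF_sound _ _ (checkPointF_eq cert) 61200 100 chkP_61200 i (by omega) (by omega)
              · skip
                rcases Nat.lt_or_ge i 61400 with h8 | h8
                · skip
                  exact allRangeF_sound _ _ (checkPointF_eq cert) 61300 100 chkP_61300 i (by omega) (by omega)
                · skip
                  exact allRangeF_sound _ _ (checkPointF_eq cert) 61400 100 chkP_61400 i (by omega) (by omega)
        · skip
          rcases Nat.lt_or_ge i 62000 with h5 | h5
          · skip
            rcases Nat.lt_or_ge i 61700 with h6 | h6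
            · skip
              rcases Nat.lt_or_ge i 61600 with h7 | h7
              · skip
                exact allRangeF_sound _ _ (checkPointF_eq cert) 61500 100 chkP_61500 i (by omega) (by omega)
              · skip
                exact allRangeF_sound _ _ (checkPointF_eq cert) 61600 100 chkP_61600 i (by omega) (by omega)
            · skip
              rcases Nat.lt_or_ge i 61800 with h7 | h7
              · skip
                exact allRangeF_sound _ _ (checkPointF_eq cert) 61700 100 chkP_61700 i (by omega) (by omega)
              · skip
                rcases Nat.lt_or_ge i 61900 with h8 | h8
                · skip
                  exact allRangeF_sound _ _ (checkPointF_eq cert) 61800 100 chkP_61800 i (by omega) (by omega)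
                · skip
                  exact allRangeF_sound _ _ (checkPointF_eq cert) 61900 100 chkP_61900 i (by omega) (by omega)
          · skip
            rcases Nat.lt_or_ge i 62300 with h6 | h6
            · skip
              rcases Nat.lt_or_ge i 62100 with h7 | h7
              · skip
                exact allRangeF_sound _ _ (checkPointF_eq cert) 62000 100 chkP_62000 i (by omega) (by omega)
              · skip
                rcases Nat.lt_or_ge i 62200 with h8 | h8
                · skip
                  exact allRangeF_sound _ _ (checkPointF_eq cert) 62100 100 chkP_62100 i (by omega) (by omega)
                · skip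
                  exact allRangeF_sound _ _ (checkPointF_eq cert) 62200 100 chkP_62200 i (by omega) (by omega)
            · skip
              rcases Nat.lt_or_ge i 62400 with h7 | h7
              · skip
                exact allRangeF_sound _ _ (checkPointF_eq cert) 62300 100 chkP_62300 i (by omega) (by omega)
              · skip
                rcases Nat.lt_or_ge i 62500 with h8 | h8
                · skip
                  exact allRangeF_sound _ _ (checkPointF_eq cert) 62400 100 chkP_62400 i (by omega) (by omega)
                · skip
                  exact allRangeF_sound _ _ (checkPointF_eq cert) 62500 100 chkP_62500 i (by omega) (by omega)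
    · skip
      rcases Nat.lt_or_ge i 64700 with h3 | h3
      · skip
        rcases Nat.lt_or_ge i 63600 with h4 | h4
        · skip
          rcases Nat.lt_or_ge i 63100 with h5 | h5
          · skip
            rcases Nat.lt_or_ge i 62800 with h6 | h6
            · skip
              rcases Nat.lt_or_ge i 62700 with h7 | h7
              · skip
                exact allRangeF_sound _ _ (checkPointF_eq cert) 62600 100 chkP_62600 i (by omega) (by omega)
              · skip
                exact allRangeF_sound _ _ (checkPointF_eq cert) 62700 100 chkP_62700 i (by omega) (by omega)
            · skip
              rcases Nat.lt_or_ge i 62900 with h7 | h7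
              · skip
                exact allRangeF_sound _ _ (checkPointF_eq cert) 62800 100 chkP_62800 i (by omega) (by omega)
              · skip
                rcases Nat.lt_or_ge i 63000 with h8 | h8
                · skip
                  exact allRangeF_sound _ _ (checkPointF_eq cert) 62900 100 chkP_62900 i (by omega) (by omega)
                · skip
                  exact allRangeF_sound _ _ (checkPointF_eq cert) 63000 100 chkP_63000 i (by omega) (by omega)
          · skip
            rcases Nat.lt_or_ge i 63300 with h6 | h6
            · skip
              rcases Nat.lt_or_ge i 63200 with h7 | h7
              · skip
                exact allRangeF_sound _ _ (checkPointF_eq cert) 63100 100 chkP_63100 i (by omega) (by omega)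
              · skip
                exact allRangeF_sound _ _ (checkPointF_eq cert) 63200 100 chkP_63200 i (by omega) (by omega)
            · skip
              rcases Nat.lt_or_ge i 63400 with h7 | h7
              · skip
                exact allRangeF_sound _ _ (checkPointF_eq cert) 63300 100 chkP_63300 i (by omega) (by omega)
              · skip
                rcases Nat.lt_or_ge i 63500 with h8 | h8
                · skip
                  exact allRangeF_sound _ _ (checkPointF_eq cert) 63400 100 chkP_63400 i (by omega) (by omega)
                · skip
                  exact allRangeF_sound _ _ (checkPointF_eq cert) 63500 100 chkP_63500 i (by omega) (by omega)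
        · skip
          rcases Nat.lt_or_ge i 64100 with h5 | h5
          · skip
            rcases Nat.lt_or_ge i 63800 with h6 | h6
            · skip
              rcases Nat.lt_or_ge i 63700 with h7 | h7
              · skip
                exact allRangeF_sound _ _ (checkPointF_eq cert) 63600 100 chkP_63600 i (by omega) (by omega)
              · skip
                exact allRangeF_sound _ _ (checkPointF_eq cert) 63700 100 chkP_63700 i (by omega) (by omega)
            · skip
              rcases Nat.lt_or_ge i 63900 with h7 | h7
              · skip
                exact allRangeF_sound _ _ (checkPointF_eq cert) 63800 100 chkP_63800 i (by omega) (by omega)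
              · skip
                rcases Nat.lt_or_ge i 64000 with h8 | h8
                · skip
                  exact allRangeF_sound _ _ (checkPointF_eq cert) 63900 100 chkP_63900 i (by omega) (by omega)
                · skip
                  exact allRangeF_sound _ _ (checkPointF_eq cert) 64000 100 chkP_64000 i (by omega) (by omega)
          · skip
            rcases Nat.lt_or_ge i 64400 with h6 | h6
            · skip
              rcases Nat.lt_or_ge i 64200 with h7 | h7
              · skip
                exact allRangeF_sound _ _ (checkPointF_eq cert) 64100 100 chkP_64100 i (by omega) (by omega)
              · skip
                rcases Nat.lt_or_ge i 64300 with h8 | h8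
                · skip
                  exact allRangeF_sound _ _ (checkPointF_eq cert) 64200 100 chkP_64200 i (by omega) (by omega)
                · skip
                  exact allRangeF_sound _ _ (checkPointF_eq cert) 64300 100 chkP_64300 i (by omega) (by omega)
            · skip
              rcases Nat.lt_or_ge i 64500 with h7 | h7
              · skip
                exact allRangeF_sound _ _ (checkPointF_eq cert) 64400 100 chkP_64400 i (by omega) (by omega)
              · skip
                rcases Nat.lt_or_ge i 64600 with h8 | h8
                · skip
                  exact allRangeF_sound _ _ (checkPointF_eq cert) 64500 100 chkP_64500 i (by omega) (by omega)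
                · skip
                  exact allRangeF_sound _ _ (checkPointF_eq cert) 64600 100 chkP_64600 i (by omega) (by omega)
      · skip
        rcases Nat.lt_or_ge i 65700 with h4 | h4
        · skip
          rcases Nat.lt_or_ge i 65200 with h5 | h5
          · skip
            rcases Nat.lt_or_ge i 64900 with h6 | h6
            · skip
              rcases Nat.lt_or_ge i 64800 with h7 | h7
              · skip
                exact allRangeF_sound _ _ (checkPointF_eq cert) 64700 100 chkP_64700 i (by omega) (by omega)
              · skip
                exact allRangeF_sound _ _ (checkPointF_eq cert) 64800 100 chkP_64800 i (by omega) (by omega)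
            · skip
              rcases Nat.lt_or_ge i 65000 with h7 | h7
              · skip
                exact allRangeF_sound _ _ (checkPointF_eq cert) 64900 100 chkP_64900 i (by omega) (by omega)
              · skip
                rcases Nat.lt_or_ge i 65100 with h8 | h8
                · skip
                  exact allRangeF_sound _ _ (checkPointF_eq cert) 65000 100 chkP_65000 i (by omega) (by omega)
                · skip
                  exact allRangeF_sound _ _ (checkPointF_eq cert) 65100 100 chkP_65100 i (by omega) (by omega)
          · skip
            rcases Nat.lt_or_ge i 65400 with h6 | h6
            · skip
              rcases Nat.lt_or_ge i 65300 with h7 | h7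
              · skip
                exact allRangeF_sound _ _ (checkPointF_eq cert) 65200 100 chkP_65200 i (by omega) (by omega)
              · skip
                exact allRangeF_sound _ _ (checkPointF_eq cert) 65300 100 chkP_65300 i (by omega) (by omega)
            · skip
              rcases Nat.lt_or_ge i 65500 with h7 | h7
              · skip
                exact allRangeF_sound _ _ (checkPointF_eq cert) 65400 100 chkP_65400 i (by omega) (by omega)
              · skip
                rcases Nat.lt_or_ge i 65600 with h8 | h8
                · skip
                  exact allRangeF_sound _ _ (checkPointF_eq cert) 65500 100 chkP_65500 i (by omega) (by omega)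
                · skip
                  exact allRangeF_sound _ _ (checkPointF_eq cert) 65600 100 chkP_65600 i (by omega) (by omega)
        · skip
          rcases Nat.lt_or_ge i 66200 with h5 | h5
          · skip
            rcases Nat.lt_or_ge i 65900 with h6 | h6
            · skip
              rcases Nat.lt_or_ge i 65800 with h7 | h7
              · skip
                exact allRangeF_sound _ _ (checkPointF_eq cert) 65700 100 chkP_65700 i (by omega) (by omega)
              · skip
                exact allRangeF_sound _ _ (checkPointF_eq cert) 65800 100 chkP_65800 i (by omega) (by omega)
            · skip
              rcases Nat.lt_or_ge i 66000 with h7 | h7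
              · skip
                exact allRangeF_sound _ _ (checkPointF_eq cert) 65900 100 chkP_65900 i (by omega) (by omega)
              · skip
                rcases Nat.lt_or_ge i 66100 with h8 | h8
                · skip
                  exact allRangeF_sound _ _ (checkPointF_eq cert) 66000 100 chkP_66000 i (by omega) (by omega)
                · skip
                  exact allRangeF_sound _ _ (checkPointF_eq cert) 66100 100 chkP_66100 i (by omega) (by omega)
          · skip
            rcases Nat.lt_or_ge i 66500 with h6 | h6
            · skip
              rcases Nat.lt_or_ge i 66300 with h7 | h7
              · skip
                exact allRangeF_sound _ _ (checkPointF_eq cert) 66200 100 chkP_66200 i (by omega) (by omega)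
              · skip
                rcases Nat.lt_or_ge i 66400 with h8 | h8
                · skip
                  exact allRangeF_sound _ _ (checkPointF_eq cert) 66300 100 chkP_66300 i (by omega) (by omega)
                · skip
                  exact allRangeF_sound _ _ (checkPointF_eq cert) 66400 100 chkP_66400 i (by omega) (by omega)
            · skip
              rcases Nat.lt_or_ge i 66600 with h7 | h7
              · skip
                exact allRangeF_sound _ _ (checkPointF_eq cert) 66500 100 chkP_66500 i (by omega) (by omega)
              · skip
                rcases Nat.lt_or_ge i 66700 with h8 | h8
                · skip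
                  exact allRangeF_sound _ _ (checkPointF_eq cert) 66600 100 chkP_66600 i (by omega) (by omega)
                · skip
                  exact allRangeF_sound _ _ (checkPointF_eq cert) 66700 100 chkP_66700 i (by omega) (by omega)

end Cfsg.Agent.Lib.Helper28.He2Data
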