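import Cfsg.Agent.Lib.Helper28.He2Data
import Cfsg.Agent.Lib.Helper28.TCFast

set_option autoImplicit false
set_option maxRecDepth 1000000
set_option linter.all false
set_option Elab.async false

namespace Cfsg.Agent.Lib.Helper28.He2Data

open Cfsg.Agent.Lib.Helper28

theorem chkP_66800 : allRangeF (checkPointF cert) (nat_lit 66800) (nat_lit 100) = true := by decide +kernel
theorem chkP_66900 : allRangeF (checkPointF cert) (nat_lit 66900) (nat_lit 100) = true := by decide +kernel
theorem chkP_67000 : allRangeF (checkPointF cert) (nat_lit 67000) (nat_lit 100) = true := by decide +kernel
theorem chkP_67100 : allRangeF (checkPointF cert) (nat_lit 67100) (nat_lit 100) = true := by decide +kernel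
theorem chkP_67200 : allRangeF (checkPointF cert) (nat_lit 67200) (nat_lit 100) = true := by decide +kernel
theorem chkP_67300 : allRangeF (checkPointF cert) (nat_lit 67300) (nat_lit 100) = true := by decide +kernel
theorem chkP_67400 : allRangeF (checkPointF cert) (nat_lit 67400) (nat_lit 100) = true := by decide +kernel
theorem chkP_67500 : allRangeF (checkPointF cert) (nat_lit 67500) (nat_lit 100) = true := by decide +kernel
theorem chkP_67600 : allRangeF (checkPointF cert) (nat_lit 67600) (nat_lit 100) = true := by decide +kernel
theorem chkP_67700 : allRangeF (checkPointF cert) (nat_lit 67700) (nat_lit 100) = true := by decide +kernel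
theorem chkP_67800 : allRangeF (checkPointF cert) (nat_lit 67800) (nat_lit 100) = true := by decide +kernel
theorem chkP_67900 : allRangeF (checkPointF cert) (nat_lit 67900) (nat_lit 100) = true := by decide +kernel
theorem chkP_68000 : allRangeF (checkPointF cert) (nat_lit 68000) (nat_lit 100) = true := by decide +kernel
theorem chkP_68100 : allRangeF (checkPointF cert) (nat_lit 68100) (nat_lit 100) = true := by decide +kernel
theorem chkP_68200 : allRangeF (checkPointF cert) (nat_lit 68200) (nat_lit 100) = true := by decide +kernel
theorem chkP_68300 : allRangeF (checkPointF cert) (nat_lit 68300) (nat_lit 100) = true := by decide +kernel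
theorem chkP_68400 : allRangeF (checkPointF cert) (nat_lit 68400) (nat_lit 100) = true := by decide +kernel
theorem chkP_68500 : allRangeF (checkPointF cert) (nat_lit 68500) (nat_lit 100) = true := by decide +kernel
theorem chkP_68600 : allRangeF (checkPointF cert) (nat_lit 68600) (nat_lit 100) = true := by decide +kernel
theorem chkP_68700 : allRangeF (checkPointF cert) (nat_lit 68700) (nat_lit 100) = true := by decide +kernel
theorem chkP_68800 : allRangeF (checkPointF cert) (nat_lit 68800) (nat_lit 100) = true := by decide +kernel
theorem chkP_68900 : allRangeF (checkPointF cert) (nat_lit 68900) (nat_lit 100) = true := by decide +kernel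
theorem chkP_69000 : allRangeF (checkPointF cert) (nat_lit 69000) (nat_lit 100) = true := by decide +kernel
theorem chkP_69100 : allRangeF (checkPointF cert) (nat_lit 69100) (nat_lit 100) = true := by decide +kernel
theorem chkP_69200 : allRangeF (checkPointF cert) (nat_lit 69200) (nat_lit 100) = true := by decide +kernel
theorem chkP_69300 : allRangeF (checkPointF cert) (nat_lit 69300) (nat_lit 100) = true := by decide +kernel
theorem chkP_69400 : allRangeF (checkPointF cert) (nat_lit 69400) (nat_lit 100) = true := by decide +kernel
theorem chkP_69500 : allRangeF (checkPointF cert) (nat_lit 69500) (nat_lit 100) = true := by decide +kernel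
theorem chkP_69600 : allRangeF (checkPointF cert) (nat_lit 69600) (nat_lit 100) = true := by decide +kernel
theorem chkP_69700 : allRangeF (checkPointF cert) (nat_lit 69700) (nat_lit 100) = true := by decide +kernel
theorem chkP_69800 : allRangeF (checkPointF cert) (nat_lit 69800) (nat_lit 100) = true := by decide +kernel
theorem chkP_69900 : allRangeF (checkPointF cert) (nat_lit 69900) (nat_lit 100) = true := by decide +kernel
theorem chkP_70000 : allRangeF (checkPointF cert) (nat_lit 70000) (nat_lit 100) = true := by decide +kernel
theorem chkP_70100 : allRangeF (checkPointF cert) (nat_lit 70100) (nat_lit 100) = true := by decide +kernel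
theorem chkP_70200 : allRangeF (checkPointF cert) (nat_lit 70200) (nat_lit 100) = true := by decide +kernel
theorem chkP_70300 : allRangeF (checkPointF cert) (nat_lit 70300) (nat_lit 100) = true := by decide +kernel
theorem chkP_70400 : allRangeF (checkPointF cert) (nat_lit 70400) (nat_lit 100) = true := by decide +kernel
theorem chkP_70500 : allRangeF (checkPointF cert) (nat_lit 70500) (nat_lit 100) = true := by decide +kernel
theorem chkP_70600 : allRangeF (checkPointF cert) (nat_lit 70600) (nat_lit 100) = true := by decide +kernel
theorem chkP_70700 : allRangeF (checkPointF cert) (nat_lit 70700) (nat_lit 100) = true := by decide +kernel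
theorem chkP_70800 : allRangeF (checkPointF cert) (nat_lit 70800) (nat_lit 100) = true := by decide +kernel
theorem chkP_70900 : allRangeF (checkPointF cert) (nat_lit 70900) (nat_lit 100) = true := by decide +kernel
theorem chkP_71000 : allRangeF (checkPointF cert) (nat_lit 71000) (nat_lit 100) = true := by decide +kernel
theorem chkP_71100 : allRangeF (checkPointF cert) (nat_lit 71100) (nat_lit 100) = true := by decide +kernel
theorem chkP_71200 : allRangeF (checkPointF cert) (nat_lit 71200) (nat_lit 100) = true := by decide +kernel
theorem chkP_71300 : allRangeF (checkPointF cert) (nat_lit 71300) (nat_lit 100) = true := by decide +kernel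
theorem chkP_71400 : allRangeF (checkPointF cert) (nat_lit 71400) (nat_lit 100) = true := by decide +kernel
theorem chkP_71500 : allRangeF (checkPointF cert) (nat_lit 71500) (nat_lit 100) = true := by decide +kernel
theorem chkP_71600 : allRangeF (checkPointF cert) (nat_lit 71600) (nat_lit 100) = true := by decide +kernel
theorem chkP_71700 : allRangeF (checkPointF cert) (nat_lit 71700) (nat_lit 100) = true := by decide +kernel
theorem chkP_71800 : allRangeF (checkPointF cert) (nat_lit 71800) (nat_lit 100) = true := by decide +kernel
theorem chkP_71900 : allRangeF (checkPointF cert) (nat_lit 71900) (nat_lit 100) = true := by decide +kernel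
theorem chkP_72000 : allRangeF (checkPointF cert) (nat_lit 72000) (nat_lit 100) = true := by decide +kernel
theorem chkP_72100 : allRangeF (checkPointF cert) (nat_lit 72100) (nat_lit 100) = true := by decide +kernel
theorem chkP_72200 : allRangeF (checkPointF cert) (nat_lit 72200) (nat_lit 100) = true := by decide +kernel
theorem chkP_72300 : allRangeF (checkPointF cert) (nat_lit 72300) (nat_lit 100) = true := by decide +kernel
theorem chkP_72400 : allRangeF (checkPointF cert) (nat_lit 72400) (nat_lit 100) = true := by decide +kernel
theorem chkP_72500 : allRangeF (checkPointF cert) (nat_lit 72500) (nat_lit 100) = true := by decide +kernel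
theorem chkP_72600 : allRangeF (checkPointF cert) (nat_lit 72600) (nat_lit 100) = true := by decide +kernel
theorem chkP_72700 : allRangeF (checkPointF cert) (nat_lit 72700) (nat_lit 100) = true := by decide +kernel
theorem chkP_72800 : allRangeF (checkPointF cert) (nat_lit 72800) (nat_lit 100) = true := by decide +kernel
theorem chkP_72900 : allRangeF (checkPointF cert) (nat_lit 72900) (nat_lit 100) = true := by decide +kernel
theorem chkP_73000 : allRangeF (checkPointF cert) (nat_lit 73000) (nat_lit 100) = true := by decide +kernel
theorem chkP_73100 : allRangeF (checkPointF cert) (nat_lit 73100) (nat_lit 100) = true := by decide +kernel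
theorem chkP_73200 : allRangeF (checkPointF cert) (nat_lit 73200) (nat_lit 100) = true := by decide +kernel
theorem chkP_73300 : allRangeF (checkPointF cert) (nat_lit 73300) (nat_lit 100) = true := by decide +kernel
theorem chkP_73400 : allRangeF (checkPointF cert) (nat_lit 73400) (nat_lit 100) = true := by decide +kernel
theorem chkP_73500 : allRangeF (checkPointF cert) (nat_lit 73500) (nat_lit 100) = true := by decide +kernel
theorem chkP_73600 : allRangeF (checkPointF cert) (nat_lit 73600) (nat_lit 100) = true := by decide +kernel
theorem chkP_73700 : allRangeF (checkPointF cert) (nat_lit 73700) (nat_lit 100) = true := by decide +kernel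
theorem chkP_73800 : allRangeF (checkPointF cert) (nat_lit 73800) (nat_lit 100) = true := by decide +kernel
theorem chkP_73900 : allRangeF (checkPointF cert) (nat_lit 73900) (nat_lit 100) = true := by decide +kernel
theorem chkP_74000 : allRangeF (checkPointF cert) (nat_lit 74000) (nat_lit 100) = true := by decide +kernel
theorem chkP_74100 : allRangeF (checkPointF cert) (nat_lit 74100) (nat_lit 100) = true := by decide +kernel
theorem chkP_74200 : allRangeF (checkPointF cert) (nat_lit 74200) (nat_lit 100) = true := by decide +kernel
theorem chkP_74300 : allRangeF (checkPointF cert) (nat_lit 74300) (nat_lit 100) = true := by decide +kernel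
theorem chkP_74400 : allRangeF (checkPointF cert) (nat_lit 74400) (nat_lit 100) = true := by decide +kernel
theorem chkP_74500 : allRangeF (checkPointF cert) (nat_lit 74500) (nat_lit 100) = true := by decide +kernel
theorem chkP_74600 : allRangeF (checkPointF cert) (nat_lit 74600) (nat_lit 100) = true := by decide +kernel
theorem chkP_74700 : allRangeF (checkPointF cert) (nat_lit 74700) (nat_lit 100) = true := by decide +kernel
theorem chkP_74800 : allRangeF (checkPointF cert) (nat_lit 74800) (nat_lit 100) = true := by decide +kernel
theorem chkP_74900 : allRangeF (checkPointF cert) (nat_lit 74900) (nat_lit 100) = true := by decide +kernel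
theorem chkP_75000 : allRangeF (checkPointF cert) (nat_lit 75000) (nat_lit 100) = true := by decide +kernel
theorem chkP_75100 : allRangeF (checkPointF cert) (nat_lit 75100) (nat_lit 100) = true := by decide +kernel
theorem chkP_75200 : allRangeF (checkPointF cert) (nat_lit 75200) (nat_lit 100) = true := by decide +kernel
theorem chkP_75300 : allRangeF (checkPointF cert) (nat_lit 75300) (nat_lit 100) = true := by decide +kernel
theorem chkP_75400 : allRangeF (checkPointF cert) (nat_lit 75400) (nat_lit 100) = true := by decide +kernel
theorem chkP_75500 : allRangeF (checkPointF cert) (nat_lit 75500) (nat_lit 100) = true := by decide +kernel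
theorem chkP_75600 : allRangeF (checkPointF cert) (nat_lit 75600) (nat_lit 100) = true := by decide +kernel
theorem chkP_75700 : allRangeF (checkPointF cert) (nat_lit 75700) (nat_lit 100) = true := by decide +kernel
theorem chkP_75800 : allRangeF (checkPointF cert) (nat_lit 75800) (nat_lit 100) = true := by decide +kernel
theorem chkP_75900 : allRangeF (checkPointF cert) (nat_lit 75900) (nat_lit 100) = true := by decide +kernel
theorem chkP_76000 : allRangeF (checkPointF cert) (nat_lit 76000) (nat_lit 100) = true := by decide +kernel
theorem chkP_76100 : allRangeF (checkPointF cert) (nat_lit 76100) (nat_lit 100) = true := by decide +kernel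
theorem chkP_76200 : allRangeF (checkPointF cert) (nat_lit 76200) (nat_lit 100) = true := by decide +kernel
theorem chkP_76300 : allRangeF (checkPointF cert) (nat_lit 76300) (nat_lit 100) = true := by decide +kernel
theorem chkP_76400 : allRangeF (checkPointF cert) (nat_lit 76400) (nat_lit 100) = true := by decide +kernel
theorem chkP_76500 : allRangeF (checkPointF cert) (nat_lit 76500) (nat_lit 100) = true := by decide +kernel
theorem chkP_76600 : allRangeF (checkPointF cert) (nat_lit 76600) (nat_lit 100) = true := by decide +kernel
theorem chkP_76700 : allRangeF (checkPointF cert) (nat_lit 76700) (nat_lit 100) = true := by decide +kernel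
theorem chkP_76800 : allRangeF (checkPointF cert) (nat_lit 76800) (nat_lit 100) = true := by decide +kernel
theorem chkP_76900 : allRangeF (checkPointF cert) (nat_lit 76900) (nat_lit 100) = true := by decide +kernel
theorem chkP_77000 : allRangeF (checkPointF cert) (nat_lit 77000) (nat_lit 100) = true := by decide +kernel
theorem chkP_77100 : allRangeF (checkPointF cert) (nat_lit 77100) (nat_lit 100) = true := by decide +kernel
theorem chkP_77200 : allRangeF (checkPointF cert) (nat_lit 77200) (nat_lit 100) = true := by decide +kernel
theorem chkP_77300 : allRangeF (checkPointF cert) (nat_lit 77300) (nat_lit 100) = true := by decide +kernel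
theorem chkP_77400 : allRangeF (checkPointF cert) (nat_lit 77400) (nat_lit 100) = true := by decide +kernel
theorem chkP_77500 : allRangeF (checkPointF cert) (nat_lit 77500) (nat_lit 100) = true := by decide +kernel
theorem chkP_77600 : allRangeF (checkPointF cert) (nat_lit 77600) (nat_lit 100) = true := by decide +kernel
theorem chkP_77700 : allRangeF (checkPointF cert) (nat_lit 77700) (nat_lit 100) = true := by decide +kernel
theorem chkP_77800 : allRangeF (checkPointF cert) (nat_lit 77800) (nat_lit 100) = true := by decide +kernel
theorem chkP_77900 : allRangeF (checkPointF cert) (nat_lit 77900) (nat_lit 100) = true := by decide +kernel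
theorem chkP_78000 : allRangeF (checkPointF cert) (nat_lit 78000) (nat_lit 100) = true := by decide +kernel
theorem chkP_78100 : allRangeF (checkPointF cert) (nat_lit 78100) (nat_lit 100) = true := by decide +kernel
theorem chkP_78200 : allRangeF (checkPointF cert) (nat_lit 78200) (nat_lit 100) = true := by decide +kernel
theorem chkP_78300 : allRangeF (checkPointF cert) (nat_lit 78300) (nat_lit 100) = true := by decide +kernel
theorem chkP_78400 : allRangeF (checkPointF cert) (nat_lit 78400) (nat_lit 100) = true := by decide +kernel
theorem chkP_78500 : allRangeF (checkPointF cert) (nat_lit 78500) (nat_lit 100) = true := by decide +kernel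
theorem chkP_78600 : allRangeF (checkPointF cert) (nat_lit 78600) (nat_lit 100) = true := by decide +kernel
theorem chkP_78700 : allRangeF (checkPointF cert) (nat_lit 78700) (nat_lit 100) = true := by decide +kernel
theorem chkP_78800 : allRangeF (checkPointF cert) (nat_lit 78800) (nat_lit 100) = true := by decide +kernel
theorem chkP_78900 : allRangeF (checkPointF cert) (nat_lit 78900) (nat_lit 100) = true := by decide +kernel
theorem chkP_79000 : allRangeF (checkPointF cert) (nat_lit 79000) (nat_lit 100) = true := by decide +kernel
theorem chkP_79100 : allRangeF (checkPointF cert) (nat_lit 79100) (nat_lit 100) = true := by decide +kernel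
theorem chkP_79200 : allRangeF (checkPointF cert) (nat_lit 79200) (nat_lit 100) = true := by decide +kernel
theorem chkP_79300 : allRangeF (checkPointF cert) (nat_lit 79300) (nat_lit 100) = true := by decide +kernel
theorem chkP_79400 : allRangeF (checkPointF cert) (nat_lit 79400) (nat_lit 100) = true := by decide +kernel
theorem chkP_79500 : allRangeF (checkPointF cert) (nat_lit 79500) (nat_lit 100) = true := by decide +kernel
theorem chkP_79600 : allRangeF (checkPointF cert) (nat_lit 79600) (nat_lit 100) = true := by decide +kernel
theorem chkP_79700 : allRangeF (checkPointF cert) (nat_lit 79700) (nat_lit 100) = true := by decide +kernel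
theorem chkP_79800 : allRangeF (checkPointF cert) (nat_lit 79800) (nat_lit 100) = true := by decide +kernel
theorem chkP_79900 : allRangeF (checkPointF cert) (nat_lit 79900) (nat_lit 100) = true := by decide +kernel
theorem chkP_80000 : allRangeF (checkPointF cert) (nat_lit 80000) (nat_lit 100) = true := by decide +kernel
theorem chkP_80100 : allRangeF (checkPointF cert) (nat_lit 80100) (nat_lit 100) = true := by decide +kernel
theorem chkP_80200 : allRangeF (checkPointF cert) (nat_lit 80200) (nat_lit 100) = true := by decide +kernel
theorem chkP_80300 : allRangeF (checkPointF cert) (nat_lit 80300) (nat_lit 100) = true := by decide +kernel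
theorem chkP_80400 : allRangeF (checkPointF cert) (nat_lit 80400) (nat_lit 100) = true := by decide +kernel
theorem chkP_80500 : allRangeF (checkPointF cert) (nat_lit 80500) (nat_lit 100) = true := by decide +kernel
theorem chkP_80600 : allRangeF (checkPointF cert) (nat_lit 80600) (nat_lit 100) = true := by decide +kernel
theorem chkP_80700 : allRangeF (checkPointF cert) (nat_lit 80700) (nat_lit 100) = true := by decide +kernel
theorem chkP_80800 : allRangeF (checkPointF cert) (nat_lit 80800) (nat_lit 100) = true := by decide +kernel
theorem chkP_80900 : allRangeF (checkPointF cert) (nat_lit 80900) (nat_lit 100) = true := by decide +kernel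
theorem chkP_81000 : allRangeF (checkPointF cert) (nat_lit 81000) (nat_lit 100) = true := by decide +kernel
theorem chkP_81100 : allRangeF (checkPointF cert) (nat_lit 81100) (nat_lit 100) = true := by decide +kernel
theorem chkP_81200 : allRangeF (checkPointF cert) (nat_lit 81200) (nat_lit 100) = true := by decide +kernel
theorem chkP_81300 : allRangeF (checkPointF cert) (nat_lit 81300) (nat_lit 100) = true := by decide +kernel
theorem chkP_81400 : allRangeF (checkPointF cert) (nat_lit 81400) (nat_lit 100) = true := by decide +kernel
theorem chkP_81500 : allRangeF (checkPointF cert) (nat_lit 81500) (nat_lit 100) = true := by decide +kernel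
theorem chkP_81600 : allRangeF (checkPointF cert) (nat_lit 81600) (nat_lit 100) = true := by decide +kernel
theorem chkP_81700 : allRangeF (checkPointF cert) (nat_lit 81700) (nat_lit 100) = true := by decide +kernel
theorem chkP_81800 : allRangeF (checkPointF cert) (nat_lit 81800) (nat_lit 100) = true := by decide +kernel
theorem chkP_81900 : allRangeF (checkPointF cert) (nat_lit 81900) (nat_lit 100) = true := by decide +kernel
theorem chkP_82000 : allRangeF (checkPointF cert) (nat_lit 82000) (nat_lit 100) = true := by decide +kernel
theorem chkP_82100 : allRangeF (checkPointF cert) (nat_lit 82100) (nat_lit 100) = true := by decide +kernel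
theorem chkP_82200 : allRangeF (checkPointF cert) (nat_lit 82200) (nat_lit 100) = true := by decide +kernel
theorem chkP_82300 : allRangeF (checkPointF cert) (nat_lit 82300) (nat_lit 100) = true := by decide +kernel
theorem chkP_82400 : allRangeF (checkPointF cert) (nat_lit 82400) (nat_lit 100) = true := by decide +kernel
theorem chkP_82500 : allRangeF (checkPointF cert) (nat_lit 82500) (nat_lit 100) = true := by decide +kernel
theorem chkP_82600 : allRangeF (checkPointF cert) (nat_lit 82600) (nat_lit 100) = true := by decide +kernel
theorem chkP_82700 : allRangeF (checkPointF cert) (nat_lit 82700) (nat_lit 100) = true := by decide +kernel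
theorem chkP_82800 : allRangeF (checkPointF cert) (nat_lit 82800) (nat_lit 100) = true := by decide +kernel
theorem chkP_82900 : allRangeF (checkPointF cert) (nat_lit 82900) (nat_lit 100) = true := by decide +kernel
theorem chkP_83000 : allRangeF (checkPointF cert) (nat_lit 83000) (nat_lit 100) = true := by decide +kernel
theorem chkP_83100 : allRangeF (checkPointF cert) (nat_lit 83100) (nat_lit 100) = true := by decide +kernel
theorem chkP_83200 : allRangeF (checkPointF cert) (nat_lit 83200) (nat_lit 100) = true := by decide +kernel
theorem chkP_83300 : allRangeF (checkPointF cert) (nat_lit 83300) (nat_lit 100) = true := by decide +kernel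
theorem chkP_83400 : allRangeF (checkPointF cert) (nat_lit 83400) (nat_lit 100) = true := by decide +kernel

theorem ptsRange_4 : ∀ i, 66800 ≤ i → i < 83500 → checkPoint cert i = true := by
  intro i hlo hhi
  rcases Nat.lt_or_ge i 75100 with h1 | h1
  · skip
    rcases Nat.lt_or_ge i 70900 with h2 | h2
    · skip
      rcases Nat.lt_or_ge i 68800 with h3 | h3
      · skip
        rcases Nat.lt_or_ge i 67800 with h4 | h4
        · skip
          rcases Nat.lt_or_ge i 67300 with h5 | h5
          · skip
            rcases Nat.lt_or_ge i 67000 with h6 | h6
            · skip
              rcases Nat.lt_or_ge i 66900 with h7 | h7
              · skip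
                exact allRangeF_sound _ _ (checkPointF_eq cert) 66800 100 chkP_66800 i (by omega) (by omega)
              · skip
                exact allRangeF_sound _ _ (checkPointF_eq cert) 66900 100 chkP_66900 i (by omega) (by omega)
            · skip
              rcases Nat.lt_or_ge i 67100 with h7 | h7
              · skip
                exact allRangeF_sound _ _ (checkPointF_eq cert) 67000 100 chkP_67000 i (by omega) (by omega)
              · skip
                rcases Nat.lt_or_ge i 67200 with h8 | h8
                · skip
                  exact allRangeF_sound _ _ (checkPointF_eq cert) 67100 100 chkP_67100 i (by omega) (by omega)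
                · skip
                  exact allRangeF_sound _ _ (checkPointF_eq cert) 67200 100 chkP_67200 i (by omega) (by omega)
          · skip
            rcases Nat.lt_or_ge i 67500 with h6 | h6
            · skip
              rcases Nat.lt_or_ge i 67400 with h7 | h7
              · skip
                exact allRangeF_sound _ _ (checkPointF_eq cert) 67300 100 chkP_67300 i (by omega) (by omega)
              · skip
                exact allRangeF_sound _ _ (checkPointF_eq cert) 67400 100 chkP_67400 i (by omega) (by omega)
            · skip
              rcases Nat.lt_or_ge i 67600 with h7 | h7
              · skip
                exact allRangeF_sound _ _ (checkPointF_eq cert) 67500 100 chkP_67500 i (by omega) (by omega)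
              · skip
                rcases Nat.lt_or_ge i 67700 with h8 | h8
                · skip
                  exact allRangeF_sound _ _ (checkPointF_eq cert) 67600 100 chkP_67600 i (by omega) (by omega)
                · skip
                  exact allRangeF_sound _ _ (checkPointF_eq cert) 67700 100 chkP_67700 i (by omega) (by omega)
        · skip
          rcases Nat.lt_or_ge i 68300 with h5 | h5
          · skip
            rcases Nat.lt_or_ge i 68000 with h6 | h6
            · skip
              rcases Nat.lt_or_ge i 67900 with h7 | h7
              · skip
                exact allRangeF_sound _ _ (checkPointF_eq cert) 67800 100 chkP_67800 i (by omega) (by omega)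
              · skip
                exact allRangeF_sound _ _ (checkPointF_eq cert) 67900 100 chkP_67900 i (by omega) (by omega)
            · skip
              rcases Nat.lt_or_ge i 68100 with h7 | h7
              · skip
                exact allRangeF_sound _ _ (checkPointF_eq cert) 68000 100 chkP_68000 i (by omega) (by omega)
              · skip
                rcases Nat.lt_or_ge i 68200 with h8 | h8
                · skip
                  exact allRangeF_sound _ _ (checkPointF_eq cert) 68100 100 chkP_68100 i (by omega) (by omega)
                · skip
                  exact allRangeF_sound _ _ (checkPointF_eq cert) 68200 100 chkP_68200 i (by omega) (by omega)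
          · skip
            rcases Nat.lt_or_ge i 68500 with h6 | h6
            · skip
              rcases Nat.lt_or_ge i 68400 with h7 | h7
              · skip
                exact allRangeF_sound _ _ (checkPointF_eq cert) 68300 100 chkP_68300 i (by omega) (by omega)
              · skip
                exact allRangeF_sound _ _ (checkPointF_eq cert) 68400 100 chkP_68400 i (by omega) (by omega)
            · skip
              rcases Nat.lt_or_ge i 68600 with h7 | h7
              · skip
                exact allRangeF_sound _ _ (checkPointF_eq cert) 68500 100 chkP_68500 i (by omega) (by omega)
              · skip
                rcases Nat.lt_or_ge i 68700 with h8 | h8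
                · skip
                  exact allRangeF_sound _ _ (checkPointF_eq cert) 68600 100 chkP_68600 i (by omega) (by omega)
                · skip
                  exact allRangeF_sound _ _ (checkPointF_eq cert) 68700 100 chkP_68700 i (by omega) (by omega)
      · skip
        rcases Nat.lt_or_ge i 69800 with h4 | h4
        · skip
          rcases Nat.lt_or_ge i 69300 with h5 | h5
          · skip
            rcases Nat.lt_or_ge i 69000 with h6 | h6
            · skip
              rcases Nat.lt_or_ge i 68900 with h7 | h7
              · skip
                exact allRangeF_sound _ _ (checkPointF_eq cert) 68800 100 chkP_68800 i (by omega) (by omega)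
              · skip
                exact allRangeF_sound _ _ (checkPointF_eq cert) 68900 100 chkP_68900 i (by omega) (by omega)
            · skip
              rcases Nat.lt_or_ge i 69100 with h7 | h7
              · skip
                exact allRangeF_sound _ _ (checkPointF_eq cert) 69000 100 chkP_69000 i (by omega) (by omega)
              · skip
                rcases Nat.lt_or_ge i 69200 with h8 | h8
                · skip
                  exact allRangeF_sound _ _ (checkPointF_eq cert) 69100 100 chkP_69100 i (by omega) (by omega)
                · skip
                  exact allRangeF_sound _ _ (checkPointF_eq cert) 69200 100 chkP_69200 i (by omega) (by omega)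
          · skip
            rcases Nat.lt_or_ge i 69500 with h6 | h6
            · skip
              rcases Nat.lt_or_ge i 69400 with h7 | h7
              · skip
                exact allRangeF_sound _ _ (checkPointF_eq cert) 69300 100 chkP_69300 i (by omega) (by omega)
              · skip
                exact allRangeF_sound _ _ (checkPointF_eq cert) 69400 100 chkP_69400 i (by omega) (by omega)
            · skip
              rcases Nat.lt_or_ge i 69600 with h7 | h7
              · skip
                exact allRangeF_sound _ _ (checkPointF_eq cert) 69500 100 chkP_69500 i (by omega) (by omega)
              · skip
                rcases Nat.lt_or_ge i 69700 with h8 | h8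
                · skip
                  exact allRangeF_sound _ _ (checkPointF_eq cert) 69600 100 chkP_69600 i (by omega) (by omega)
                · skip
                  exact allRangeF_sound _ _ (checkPointF_eq cert) 69700 100 chkP_69700 i (by omega) (by omega)
        · skip
          rcases Nat.lt_or_ge i 70300 with h5 | h5
          · skip
            rcases Nat.lt_or_ge i 70000 with h6 | h6
            · skip
              rcases Nat.lt_or_ge i 69900 with h7 | h7
              · skip
                exact allRangeF_sound _ _ (checkPointF_eq cert) 69800 100 chkP_69800 i (by omega) (by omega)
              · skip
                exact allRangeF_sound _ _ (checkPointF_eq cert) 69900 100 chkP_69900 i (by omega) (by omega)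
            · skip
              rcases Nat.lt_or_ge i 70100 with h7 | h7
              · skip
                exact allRangeF_sound _ _ (checkPointF_eq cert) 70000 100 chkP_70000 i (by omega) (by omega)
              · skip
                rcases Nat.lt_or_ge i 70200 with h8 | h8
                · skip
                  exact allRangeF_sound _ _ (checkPointF_eq cert) 70100 100 chkP_70100 i (by omega) (by omega)
                · skip
                  exact allRangeF_sound _ _ (checkPointF_eq cert) 70200 100 chkP_70200 i (by omega) (by omega)
          · skip
            rcases Nat.lt_or_ge i 70600 with h6 | h6
            · skip
              rcases Nat.lt_or_ge i 70400 with h7 | h7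
              · skip
                exact allRangeF_sound _ _ (checkPointF_eq cert) 70300 100 chkP_70300 i (by omega) (by omega)
              · skip
                rcases Nat.lt_or_ge i 70500 with h8 | h8
                · skip
                  exact allRangeF_sound _ _ (checkPointF_eq cert) 70400 100 chkP_70400 i (by omega) (by omega)
                · skip
                  exact allRangeF_sound _ _ (checkPointF_eq cert) 70500 100 chkP_70500 i (by omega) (by omega)
            · skip
              rcases Nat.lt_or_ge i 70700 with h7 | h7
              · skip
                exact allRangeF_sound _ _ (checkPointF_eq cert) 70600 100 chkP_70600 i (by omega) (by omega)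
              · skip
                rcases Nat.lt_or_ge i 70800 with h8 | h8
                · skip
                  exact allRangeF_sound _ _ (checkPointF_eq cert) 70700 100 chkP_70700 i (by omega) (by omega)
                · skip
                  exact allRangeF_sound _ _ (checkPointF_eq cert) 70800 100 chkP_70800 i (by omega) (by omega)
    · skip
      rcases Nat.lt_or_ge i 73000 with h3 | h3
      · skip
        rcases Nat.lt_or_ge i 71900 with h4 | h4
        · skip
          rcases Nat.lt_or_ge i 71400 with h5 | h5
          · skip
            rcases Nat.lt_or_ge i 71100 with h6 | h6
            · skip
              rcases Nat.lt_or_ge i 71000 with h7 | h7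
              · skip
                exact allRangeF_sound _ _ (checkPointF_eq cert) 70900 100 chkP_70900 i (by omega) (by omega)
              · skip
                exact allRangeF_sound _ _ (checkPointF_eq cert) 71000 100 chkP_71000 i (by omega) (by omega)
            · skip
              rcases Nat.lt_or_ge i 71200 with h7 | h7
              · skip
                exact allRangeF_sound _ _ (checkPointF_eq cert) 71100 100 chkP_71100 i (by omega) (by omega)
              · skip
                rcases Nat.lt_or_ge i 71300 with h8 | h8
                · skip
                  exact allRangeF_sound _ _ (checkPointF_eq cert) 71200 100 chkP_71200 i (by omega) (by omega)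
                · skip
                  exact allRangeF_sound _ _ (checkPointF_eq cert) 71300 100 chkP_71300 i (by omega) (by omega)
          · skip
            rcases Nat.lt_or_ge i 71600 with h6 | h6
            · skip
              rcases Nat.lt_or_ge i 71500 with h7 | h7
              · skip
                exact allRangeF_sound _ _ (checkPointF_eq cert) 71400 100 chkP_71400 i (by omega) (by omega)
              · skip
                exact allRangeF_sound _ _ (checkPointF_eq cert) 71500 100 chkP_71500 i (by omega) (by omega)
            · skip
              rcases Nat.lt_or_ge i 71700 with h7 | h7
              · skip
                exact allRangeF_sound _ _ (checkPointF_eq cert) 71600 100 chkP_71600 i (by omega) (by omega)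
              · skip
                rcases Nat.lt_or_ge i 71800 with h8 | h8
                · skip
                  exact allRangeF_sound _ _ (checkPointF_eq cert) 71700 100 chkP_71700 i (by omega) (by omega)
                · skip
                  exact allRangeF_sound _ _ (checkPointF_eq cert) 71800 100 chkP_71800 i (by omega) (by omega)
        · skip
          rcases Nat.lt_or_ge i 72400 with h5 | h5
          · skip
            rcases Nat.lt_or_ge i 72100 with h6 | h6
            · skip
              rcases Nat.lt_or_ge i 72000 with h7 | h7
              · skip
                exact allRangeF_sound _ _ (checkPointF_eq cert) 71900 100 chkP_71900 i (by omega) (by omega)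
              · skip
                exact allRangeF_sound _ _ (checkPointF_eq cert) 72000 100 chkP_72000 i (by omega) (by omega)
            · skip
              rcases Nat.lt_or_ge i 72200 with h7 | h7
              · skip
                exact allRangeF_sound _ _ (checkPointF_eq cert) 72100 100 chkP_72100 i (by omega) (by omega)
              · skip
                rcases Nat.lt_or_ge i 72300 with h8 | h8
                · skip
                  exact allRangeF_sound _ _ (checkPointF_eq cert) 72200 100 chkP_72200 i (by omega) (by omega)
                · skip
                  exact allRangeF_sound _ _ (checkPointF_eq cert) 72300 100 chkP_72300 i (by omega) (by omega)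
          · skip
            rcases Nat.lt_or_ge i 72700 with h6 | h6
            · skip
              rcases Nat.lt_or_ge i 72500 with h7 | h7
              · skip
                exact allRangeF_sound _ _ (checkPointF_eq cert) 72400 100 chkP_72400 i (by omega) (by omega)
              · skip
                rcases Nat.lt_or_ge i 72600 with h8 | h8
                · skip
                  exact allRangeF_sound _ _ (checkPointF_eq cert) 72500 100 chkP_72500 i (by omega) (by omega)
                · skip
                  exact allRangeF_sound _ _ (checkPointF_eq cert) 72600 100 chkP_72600 i (by omega) (by omega)
            · skip
              rcases Nat.lt_or_ge i 72800 with h7 | h7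
              · skip
                exact allRangeF_sound _ _ (checkPointF_eq cert) 72700 100 chkP_72700 i (by omega) (by omega)
              · skip
                rcases Nat.lt_or_ge i 72900 with h8 | h8
                · skip
                  exact allRangeF_sound _ _ (checkPointF_eq cert) 72800 100 chkP_72800 i (by omega) (by omega)
                · skip
                  exact allRangeF_sound _ _ (checkPointF_eq cert) 72900 100 chkP_72900 i (by omega) (by omega)
      · skip
        rcases Nat.lt_or_ge i 74000 with h4 | h4
        · skip
          rcases Nat.lt_or_ge i 73500 with h5 | h5
          · skip
            rcases Nat.lt_or_ge i 73200 with h6 | h6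
            · skip
              rcases Nat.lt_or_ge i 73100 with h7 | h7
              · skip
                exact allRangeF_sound _ _ (checkPointF_eq cert) 73000 100 chkP_73000 i (by omega) (by omega)
              · skip
                exact allRangeF_sound _ _ (checkPointF_eq cert) 73100 100 chkP_73100 i (by omega) (by omega)
            · skip
              rcases Nat.lt_or_ge i 73300 with h7 | h7
              · skip
                exact allRangeF_sound _ _ (checkPointF_eq cert) 73200 100 chkP_73200 i (by omega) (by omega)
              · skip
                rcases Nat.lt_or_ge i 73400 with h8 | h8
                · skip
                  exact allRangeF_sound _ _ (checkPointF_eq cert) 73300 100 chkP_73300 i (by omega) (by omega)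
                · skip
                  exact allRangeF_sound _ _ (checkPointF_eq cert) 73400 100 chkP_73400 i (by omega) (by omega)
          · skip
            rcases Nat.lt_or_ge i 73700 with h6 | h6
            · skip
              rcases Nat.lt_or_ge i 73600 with h7 | h7
              · skip
                exact allRangeF_sound _ _ (checkPointF_eq cert) 73500 100 chkP_73500 i (by omega) (by omega)
              · skip
                exact allRangeF_sound _ _ (checkPointF_eq cert) 73600 100 chkP_73600 i (by omega) (by omega)
            · skip
              rcases Nat.lt_or_ge i 73800 with h7 | h7
              · skip
                exact allRangeF_sound _ _ (checkPointF_eq cert) 73700 100 chkP_73700 i (by omega) (by omega)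
              · skip
                rcases Nat.lt_or_ge i 73900 with h8 | h8
                · skip
                  exact allRangeF_sound _ _ (checkPointF_eq cert) 73800 100 chkP_73800 i (by omega) (by omega)
                · skip
                  exact allRangeF_sound _ _ (checkPointF_eq cert) 73900 100 chkP_73900 i (by omega) (by omega)
        · skip
          rcases Nat.lt_or_ge i 74500 with h5 | h5
          · skip
            rcases Nat.lt_or_ge i 74200 with h6 | h6
            · skip
              rcases Nat.lt_or_ge i 74100 with h7 | h7
              · skip
                exact allRangeF_sound _ _ (checkPointF_eq cert) 74000 100 chkP_74000 i (by omega) (by omega)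
              · skip
                exact allRangeF_sound _ _ (checkPointF_eq cert) 74100 100 chkP_74100 i (by omega) (by omega)
            · skip
              rcases Nat.lt_or_ge i 74300 with h7 | h7
              · skip
                exact allRangeF_sound _ _ (checkPointF_eq cert) 74200 100 chkP_74200 i (by omega) (by omega)
              · skip
                rcases Nat.lt_or_ge i 74400 with h8 | h8
                · skip
                  exact allRangeF_sound _ _ (checkPointF_eq cert) 74300 100 chkP_74300 i (by omega) (by omega)
                · skip
                  exact allRangeF_sound _ _ (checkPointF_eq cert) 74400 100 chkP_74400 i (by omega) (by omega)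
          · skip
            rcases Nat.lt_or_ge i 74800 with h6 | h6
            · skip
              rcases Nat.lt_or_ge i 74600 with h7 | h7
              · skip
                exact allRangeF_sound _ _ (checkPointF_eq cert) 74500 100 chkP_74500 i (by omega) (by omega)
              · skip
                rcases Nat.lt_or_ge i 74700 with h8 | h8
                · skip
                  exact allRangeF_sound _ _ (checkPointF_eq cert) 74600 100 chkP_74600 i (by omega) (by omega)
                · skip
                  exact allRangeF_sound _ _ (checkPointF_eq cert) 74700 100 chkP_74700 i (by omega) (by omega)
            · skip
              rcases Nat.lt_or_ge i 74900 with h7 | h7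
              · skip
                exact allRangeF_sound _ _ (checkPointF_eq cert) 74800 100 chkP_74800 i (by omega) (by omega)
              · skip
                rcases Nat.lt_or_ge i 75000 with h8 | h8
                · skip
                  exact allRangeF_sound _ _ (checkPointF_eq cert) 74900 100 chkP_74900 i (by omega) (by omega)
                · skip
                  exact allRangeF_sound _ _ (checkPointF_eq cert) 75000 100 chkP_75000 i (by omega) (by omega)
  · skip
    rcases Nat.lt_or_ge i 79300 with h2 | h2
    · skip
      rcases Nat.lt_or_ge i 77200 with h3 | h3
      · skip
        rcases Nat.lt_or_ge i 76100 with h4 | h4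
        · skip
          rcases Nat.lt_or_ge i 75600 with h5 | h5
          · skip
            rcases Nat.lt_or_ge i 75300 with h6 | h6
            · skip
              rcases Nat.lt_or_ge i 75200 with h7 | h7
              · skip
                exact allRangeF_sound _ _ (checkPointF_eq cert) 75100 100 chkP_75100 i (by omega) (by omega)
              · skip
                exact allRangeF_sound _ _ (checkPointF_eq cert) 75200 100 chkP_75200 i (by omega) (by omega)
            · skip
              rcases Nat.lt_or_ge i 75400 with h7 | h7
              · skip
                exact allRangeF_sound _ _ (checkPointF_eq cert) 75300 100 chkP_75300 i (by omega) (by omega)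
              · skip
                rcases Nat.lt_or_ge i 75500 with h8 | h8
                · skip
                  exact allRangeF_sound _ _ (checkPointF_eq cert) 75400 100 chkP_75400 i (by omega) (by omega)
                · skip
                  exact allRangeF_sound _ _ (checkPointF_eq cert) 75500 100 chkP_75500 i (by omega) (by omega)
          · skip
            rcases Nat.lt_or_ge i 75800 with h6 | h6
            · skip
              rcases Nat.lt_or_ge i 75700 with h7 | h7
              · skip
                exact allRangeF_sound _ _ (checkPointF_eq cert) 75600 100 chkP_75600 i (by omega) (by omega)
              · skip
                exact allRangeF_sound _ _ (checkPointF_eq cert) 75700 100 chkP_75700 i (by omega) (by omega)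
            · skip
              rcases Nat.lt_or_ge i 75900 with h7 | h7
              · skip
                exact allRangeF_sound _ _ (checkPointF_eq cert) 75800 100 chkP_75800 i (by omega) (by omega)
              · skip
                rcases Nat.lt_or_ge i 76000 with h8 | h8
                · skip
                  exact allRangeF_sound _ _ (checkPointF_eq cert) 75900 100 chkP_75900 i (by omega) (by omega)
                · skip
                  exact allRangeF_sound _ _ (checkPointF_eq cert) 76000 100 chkP_76000 i (by omega) (by omega)
        · skip
          rcases Nat.lt_or_ge i 76600 with h5 | h5
          · skip
            rcases Nat.lt_or_ge i 76300 with h6 | h6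
            · skip
              rcases Nat.lt_or_ge i 76200 with h7 | h7
              · skip
                exact allRangeF_sound _ _ (checkPointF_eq cert) 76100 100 chkP_76100 i (by omega) (by omega)
              · skip
                exact allRangeF_sound _ _ (checkPointF_eq cert) 76200 100 chkP_76200 i (by omega) (by omega)
            · skip
              rcases Nat.lt_or_ge i 76400 with h7 | h7
              · skip
                exact allRangeF_sound _ _ (checkPointF_eq cert) 76300 100 chkP_76300 i (by omega) (by omega)
              · skip
                rcases Nat.lt_or_ge i 76500 with h8 | h8
                · skip
                  exact allRangeF_sound _ _ (checkPointF_eq cert) 76400 100 chkP_76400 i (by omega) (by omega)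
                · skip
                  exact allRangeF_sound _ _ (checkPointF_eq cert) 76500 100 chkP_76500 i (by omega) (by omega)
          · skip
            rcases Nat.lt_or_ge i 76900 with h6 | h6
            · skip
              rcases Nat.lt_or_ge i 76700 with h7 | h7
              · skip
                exact allRangeF_sound _ _ (checkPointF_eq cert) 76600 100 chkP_76600 i (by omega) (by omega)
              · skip
                rcases Nat.lt_or_ge i 76800 with h8 | h8
                · skip
                  exact allRangeF_sound _ _ (checkPointF_eq cert) 76700 100 chkP_76700 i (by omega) (by omega)
                · skip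
                  exact allRangeF_sound _ _ (checkPointF_eq cert) 76800 100 chkP_76800 i (by omega) (by omega)
            · skip
              rcases Nat.lt_or_ge i 77000 with h7 | h7
              · skip
                exact allRangeF_sound _ _ (checkPointF_eq cert) 76900 100 chkP_76900 i (by omega) (by omega)
              · skip
                rcases Nat.lt_or_ge i 77100 with h8 | h8
                · skip
                  exact allRangeF_sound _ _ (checkPointF_eq cert) 77000 100 chkP_77000 i (by omega) (by omega)
                · skip
                  exact allRangeF_sound _ _ (checkPointF_eq cert) 77100 100 chkP_77100 i (by omega) (by omega)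
      · skip
        rcases Nat.lt_or_ge i 78200 with h4 | h4
        · skip
          rcases Nat.lt_or_ge i 77700 with h5 | h5
          · skip
            rcases Nat.lt_or_ge i 77400 with h6 | h6
            · skip
              rcases Nat.lt_or_ge i 77300 with h7 | h7
              · skip
                exact allRangeF_sound _ _ (checkPointF_eq cert) 77200 100 chkP_77200 i (by omega) (by omega)
              · skip
                exact allRangeF_sound _ _ (checkPointF_eq cert) 77300 100 chkP_77300 i (by omega) (by omega)
            · skip
              rcases Nat.lt_or_ge i 77500 with h7 | h7
              · skip
                exact allRangeF_sound _ _ (checkPointF_eq cert) 77400 100 chkP_77400 i (by omega) (by omega)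
              · skip
                rcases Nat.lt_or_ge i 77600 with h8 | h8
                · skip
                  exact allRangeF_sound _ _ (checkPointF_eq cert) 77500 100 chkP_77500 i (by omega) (by omega)
                · skip
                  exact allRangeF_sound _ _ (checkPointF_eq cert) 77600 100 chkP_77600 i (by omega) (by omega)
          · skip
            rcases Nat.lt_or_ge i 77900 with h6 | h6
            · skip
              rcases Nat.lt_or_ge i 77800 with h7 | h7
              · skip
                exact allRangeF_sound _ _ (checkPointF_eq cert) 77700 100 chkP_77700 i (by omega) (by omega)
              · skip
                exact allRangeF_sound _ _ (checkPointF_eq cert) 77800 100 chkP_77800 i (by omega) (by omega)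
            · skip
              rcases Nat.lt_or_ge i 78000 with h7 | h7
              · skip
                exact allRangeF_sound _ _ (checkPointF_eq cert) 77900 100 chkP_77900 i (by omega) (by omega)
              · skip
                rcases Nat.lt_or_ge i 78100 with h8 | h8
                · skip
                  exact allRangeF_sound _ _ (checkPointF_eq cert) 78000 100 chkP_78000 i (by omega) (by omega)
                · skip
                  exact allRangeF_sound _ _ (checkPointF_eq cert) 78100 100 chkP_78100 i (by omega) (by omega)
        · skip
          rcases Nat.lt_or_ge i 78700 with h5 | h5
          · skip
            rcases Nat.lt_or_ge i 78400 with h6 | h6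
            · skip
              rcases Nat.lt_or_ge i 78300 with h7 | h7
              · skip
                exact allRangeF_sound _ _ (checkPointF_eq cert) 78200 100 chkP_78200 i (by omega) (by omega)
              · skip
                exact allRangeF_sound _ _ (checkPointF_eq cert) 78300 100 chkP_78300 i (by omega) (by omega)
            · skip
              rcases Nat.lt_or_ge i 78500 with h7 | h7
              · skip
                exact allRangeF_sound _ _ (checkPointF_eq cert) 78400 100 chkP_78400 i (by omega) (by omega)
              · skip
                rcases Nat.lt_or_ge i 78600 with h8 | h8
                · skip
                  exact allRangeF_sound _ _ (checkPointF_eq cert) 78500 100 chkP_78500 i (by omega) (by omega)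
                · skip
                  exact allRangeF_sound _ _ (checkPointF_eq cert) 78600 100 chkP_78600 i (by omega) (by omega)
          · skip
            rcases Nat.lt_or_ge i 79000 with h6 | h6
            · skip
              rcases Nat.lt_or_ge i 78800 with h7 | h7
              · skip
                exact allRangeF_sound _ _ (checkPointF_eq cert) 78700 100 chkP_78700 i (by omega) (by omega)
              · skip
                rcases Nat.lt_or_ge i 78900 with h8 | h8
                · skip
                  exact allRangeF_sound _ _ (checkPointF_eq cert) 78800 100 chkP_78800 i (by omega) (by omega)
                · skip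
                  exact allRangeF_sound _ _ (checkPointF_eq cert) 78900 100 chkP_78900 i (by omega) (by omega)
            · skip
              rcases Nat.lt_or_ge i 79100 with h7 | h7
              · skip
                exact allRangeF_sound _ _ (checkPointF_eq cert) 79000 100 chkP_79000 i (by omega) (by omega)
              · skip
                rcases Nat.lt_or_ge i 79200 with h8 | h8
                · skip
                  exact allRangeF_sound _ _ (checkPointF_eq cert) 79100 100 chkP_79100 i (by omega) (by omega)
                · skip
                  exact allRangeF_sound _ _ (checkPointF_eq cert) 79200 100 chkP_79200 i (by omega) (by omega)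
    · skip
      rcases Nat.lt_or_ge i 81400 with h3 | h3
      · skip
        rcases Nat.lt_or_ge i 80300 with h4 | h4
        · skip
          rcases Nat.lt_or_ge i 79800 with h5 | h5
          · skip
            rcases Nat.lt_or_ge i 79500 with h6 | h6
            · skip
              rcases Nat.lt_or_ge i 79400 with h7 | h7
              · skip
                exact allRangeF_sound _ _ (checkPointF_eq cert) 79300 100 chkP_79300 i (by omega) (by omega)
              · skip
                exact allRangeF_sound _ _ (checkPointF_eq cert) 79400 100 chkP_79400 i (by omega) (by omega)
            · skip
              rcases Nat.lt_or_ge i 79600 with h7 | h7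
              · skip
                exact allRangeF_sound _ _ (checkPointF_eq cert) 79500 100 chkP_79500 i (by omega) (by omega)
              · skip
                rcases Nat.lt_or_ge i 79700 with h8 | h8
                · skip
                  exact allRangeF_sound _ _ (checkPointF_eq cert) 79600 100 chkP_79600 i (by omega) (by omega)
                · skip
                  exact allRangeF_sound _ _ (checkPointF_eq cert) 79700 100 chkP_79700 i (by omega) (by omega)
          · skip
            rcases Nat.lt_or_ge i 80000 with h6 | h6
            · skip
              rcases Nat.lt_or_ge i 79900 with h7 | h7
              · skip
                exact allRangeF_sound _ _ (checkPointF_eq cert) 79800 100 chkP_79800 i (by omega) (by omega)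
              · skip
                exact allRangeF_sound _ _ (checkPointF_eq cert) 79900 100 chkP_79900 i (by omega) (by omega)
            · skip
              rcases Nat.lt_or_ge i 80100 with h7 | h7
              · skip
                exact allRangeF_sound _ _ (checkPointF_eq cert) 80000 100 chkP_80000 i (by omega) (by omega)
              · skip
                rcases Nat.lt_or_ge i 80200 with h8 | h8
                · skip
                  exact allRangeF_sound _ _ (checkPointF_eq cert) 80100 100 chkP_80100 i (by omega) (by omega)
                · skip
                  exact allRangeF_sound _ _ (checkPointF_eq cert) 80200 100 chkP_80200 i (by omega) (by omega)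
        · skip
          rcases Nat.lt_or_ge i 80800 with h5 | h5
          · skip
            rcases Nat.lt_or_ge i 80500 with h6 | h6
            · skip
              rcases Nat.lt_or_ge i 80400 with h7 | h7
              · skip
                exact allRangeF_sound _ _ (checkPointF_eq cert) 80300 100 chkP_80300 i (by omega) (by omega)
              · skip
                exact allRangeF_sound _ _ (checkPointF_eq cert) 80400 100 chkP_80400 i (by omega) (by omega)
            · skip
              rcases Nat.lt_or_ge i 80600 with h7 | h7
              · skip
                exact allRangeF_sound _ _ (checkPointF_eq cert) 80500 100 chkP_80500 i (by omega) (by omega)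
              · skip
                rcases Nat.lt_or_ge i 80700 with h8 | h8
                · skip
                  exact allRangeF_sound _ _ (checkPointF_eq cert) 80600 100 chkP_80600 i (by omega) (by omega)
                · skip
                  exact allRangeF_sound _ _ (checkPointF_eq cert) 80700 100 chkP_80700 i (by omega) (by omega)
          · skip
            rcases Nat.lt_or_ge i 81100 with h6 | h6
            · skip
              rcases Nat.lt_or_ge i 80900 with h7 | h7
              · skip
                exact allRangeF_sound _ _ (checkPointF_eq cert) 80800 100 chkP_80800 i (by omega) (by omega)
              · skip
                rcases Nat.lt_or_ge i 81000 with h8 | h8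
                · skip
                  exact allRangeF_sound _ _ (checkPointF_eq cert) 80900 100 chkP_80900 i (by omega) (by omega)
                · skip
                  exact allRangeF_sound _ _ (checkPointF_eq cert) 81000 100 chkP_81000 i (by omega) (by omega)
            · skip
              rcases Nat.lt_or_ge i 81200 with h7 | h7
              · skip
                exact allRangeF_sound _ _ (checkPointF_eq cert) 81100 100 chkP_81100 i (by omega) (by omega)
              · skip
                rcases Nat.lt_or_ge i 81300 with h8 | h8
                · skip
                  exact allRangeF_sound _ _ (checkPointF_eq cert) 81200 100 chkP_81200 i (by omega) (by omega)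
                · skip
                  exact allRangeF_sound _ _ (checkPointF_eq cert) 81300 100 chkP_81300 i (by omega) (by omega)
      · skip
        rcases Nat.lt_or_ge i 82400 with h4 | h4
        · skip
          rcases Nat.lt_or_ge i 81900 with h5 | h5
          · skip
            rcases Nat.lt_or_ge i 81600 with h6 | h6
            · skip
              rcases Nat.lt_or_ge i 81500 with h7 | h7
              · skip
                exact allRangeF_sound _ _ (checkPointF_eq cert) 81400 100 chkP_81400 i (by omega) (by omega)
              · skip
                exact allRangeF_sound _ _ (checkPointF_eq cert) 81500 100 chkP_81500 i (by omega) (by omega)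
            · skip
              rcases Nat.lt_or_ge i 81700 with h7 | h7
              · skip
                exact allRangeF_sound _ _ (checkPointF_eq cert) 81600 100 chkP_81600 i (by omega) (by omega)
              · skip
                rcases Nat.lt_or_ge i 81800 with h8 | h8
                · skip
                  exact allRangeF_sound _ _ (checkPointF_eq cert) 81700 100 chkP_81700 i (by omega) (by omega)
                · skip
                  exact allRangeF_sound _ _ (checkPointF_eq cert) 81800 100 chkP_81800 i (by omega) (by omega)
          · skip
            rcases Nat.lt_or_ge i 82100 with h6 | h6
            · skip
              rcases Nat.lt_or_ge i 82000 with h7 | h7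
              · skip
                exact allRangeF_sound _ _ (checkPointF_eq cert) 81900 100 chkP_81900 i (by omega) (by omega)
              · skip
                exact allRangeF_sound _ _ (checkPointF_eq cert) 82000 100 chkP_82000 i (by omega) (by omega)
            · skip
              rcases Nat.lt_or_ge i 82200 with h7 | h7
              · skip
                exact allRangeF_sound _ _ (checkPointF_eq cert) 82100 100 chkP_82100 i (by omega) (by omega)
              · skip
                rcases Nat.lt_or_ge i 82300 with h8 | h8
                · skip
                  exact allRangeF_sound _ _ (checkPointF_eq cert) 82200 100 chkP_82200 i (by omega) (by omega)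
                · skip
                  exact allRangeF_sound _ _ (checkPointF_eq cert) 82300 100 chkP_82300 i (by omega) (by omega)
        · skip
          rcases Nat.lt_or_ge i 82900 with h5 | h5
          · skip
            rcases Nat.lt_or_ge i 82600 with h6 | h6
            · skip
              rcases Nat.lt_or_ge i 82500 with h7 | h7
              · skip
                exact allRangeF_sound _ _ (checkPointF_eq cert) 82400 100 chkP_82400 i (by omega) (by omega)
              · skip
                exact allRangeF_sound _ _ (checkPointF_eq cert) 82500 100 chkP_82500 i (by omega) (by omega)
            · skip
              rcases Nat.lt_or_ge i 82700 with h7 | h7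
              · skip
                exact allRangeF_sound _ _ (checkPointF_eq cert) 82600 100 chkP_82600 i (by omega) (by omega)
              · skip
                rcases Nat.lt_or_ge i 82800 with h8 | h8
                · skip
                  exact allRangeF_sound _ _ (checkPointF_eq cert) 82700 100 chkP_82700 i (by omega) (by omega)
                · skip
                  exact allRangeF_sound _ _ (checkPointF_eq cert) 82800 100 chkP_82800 i (by omega) (by omega)
          · skip
            rcases Nat.lt_or_ge i 83200 with h6 | h6
            · skip
              rcases Nat.lt_or_ge i 83000 with h7 | h7
              · skip
                exact allRangeF_sound _ _ (checkPointF_eq cert) 82900 100 chkP_82900 i (by omega) (by omega)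
              · skip
                rcases Nat.lt_or_ge i 83100 with h8 | h8
                · skip
                  exact allRangeF_sound _ _ (checkPointF_eq cert) 83000 100 chkP_83000 i (by omega) (by omega)
                · skip
                  exact allRangeF_sound _ _ (checkPointF_eq cert) 83100 100 chkP_83100 i (by omega) (by omega)
            · skip
              rcases Nat.lt_or_ge i 83300 with h7 | h7
              · skip
                exact allRangeF_sound _ _ (checkPointF_eq cert) 83200 100 chkP_83200 i (by omega) (by omega)
              · skip
                rcases Nat.lt_or_ge i 83400 with h8 | h8
                · skip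
                  exact allRangeF_sound _ _ (checkPointF_eq cert) 83300 100 chkP_83300 i (by omega) (by omega)
                · skip
                  exact allRangeF_sound _ _ (checkPointF_eq cert) 83400 100 chkP_83400 i (by omega) (by omega)

end Cfsg.Agent.Lib.Helper28.He2Data
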