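import Cfsg.Agent.Lib.Helper28.He2Data
import Cfsg.Agent.Lib.Helper28.TCFast

set_option autoImplicit false
set_option maxRecDepth 1000000
set_option linter.all false
set_option Elab.async false

namespace Cfsg.Agent.Lib.Helper28.He2Data

open Cfsg.Agent.Lib.Helper28

theorem chkP_83500 : allRangeF (checkPointF cert) (nat_lit 83500) (nat_lit 100) = true := by decide +kernel
theorem chkP_83600 : allRangeF (checkPointF cert) (nat_lit 83600) (nat_lit 100) = true := by decide +kernel
theorem chkP_83700 : allRangeF (checkPointF cert) (nat_lit 83700) (nat_lit 100) = true := by decide +kernel
theorem chkP_83800 : allRangeF (checkPointF cert) (nat_lit 83800) (nat_lit 100) = true := by decide +kernel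
theorem chkP_83900 : allRangeF (checkPointF cert) (nat_lit 83900) (nat_lit 100) = true := by decide +kernel
theorem chkP_84000 : allRangeF (checkPointF cert) (nat_lit 84000) (nat_lit 100) = true := by decide +kernel
theorem chkP_84100 : allRangeF (checkPointF cert) (nat_lit 84100) (nat_lit 100) = true := by decide +kernel
theorem chkP_84200 : allRangeF (checkPointF cert) (nat_lit 84200) (nat_lit 100) = true := by decide +kernel
theorem chkP_84300 : allRangeF (checkPointF cert) (nat_lit 84300) (nat_lit 100) = true := by decide +kernel
theorem chkP_84400 : allRangeF (checkPointF cert) (nat_lit 84400) (nat_lit 100) = true := by decide +kernel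
theorem chkP_84500 : allRangeF (checkPointF cert) (nat_lit 84500) (nat_lit 100) = true := by decide +kernel
theorem chkP_84600 : allRangeF (checkPointF cert) (nat_lit 84600) (nat_lit 100) = true := by decide +kernel
theorem chkP_84700 : allRangeF (checkPointF cert) (nat_lit 84700) (nat_lit 100) = true := by decide +kernel
theorem chkP_84800 : allRangeF (checkPointF cert) (nat_lit 84800) (nat_lit 100) = true := by decide +kernel
theorem chkP_84900 : allRangeF (checkPointF cert) (nat_lit 84900) (nat_lit 100) = true := by decide +kernel
theorem chkP_85000 : allRangeF (checkPointF cert) (nat_lit 85000) (nat_lit 100) = true := by decide +kernel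
theorem chkP_85100 : allRangeF (checkPointF cert) (nat_lit 85100) (nat_lit 100) = true := by decide +kernel
theorem chkP_85200 : allRangeF (checkPointF cert) (nat_lit 85200) (nat_lit 100) = true := by decide +kernel
theorem chkP_85300 : allRangeF (checkPointF cert) (nat_lit 85300) (nat_lit 100) = true := by decide +kernel
theorem chkP_85400 : allRangeF (checkPointF cert) (nat_lit 85400) (nat_lit 100) = true := by decide +kernel
theorem chkP_85500 : allRangeF (checkPointF cert) (nat_lit 85500) (nat_lit 100) = true := by decide +kernel
theorem chkP_85600 : allRangeF (checkPointF cert) (nat_lit 85600) (nat_lit 100) = true := by decide +kernel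
theorem chkP_85700 : allRangeF (checkPointF cert) (nat_lit 85700) (nat_lit 100) = true := by decide +kernel
theorem chkP_85800 : allRangeF (checkPointF cert) (nat_lit 85800) (nat_lit 100) = true := by decide +kernel
theorem chkP_85900 : allRangeF (checkPointF cert) (nat_lit 85900) (nat_lit 100) = true := by decide +kernel
theorem chkP_86000 : allRangeF (checkPointF cert) (nat_lit 86000) (nat_lit 100) = true := by decide +kernel
theorem chkP_86100 : allRangeF (checkPointF cert) (nat_lit 86100) (nat_lit 100) = true := by decide +kernel
theorem chkP_86200 : allRangeF (checkPointF cert) (nat_lit 86200) (nat_lit 100) = true := by decide +kernel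
theorem chkP_86300 : allRangeF (checkPointF cert) (nat_lit 86300) (nat_lit 100) = true := by decide +kernel
theorem chkP_86400 : allRangeF (checkPointF cert) (nat_lit 86400) (nat_lit 100) = true := by decide +kernel
theorem chkP_86500 : allRangeF (checkPointF cert) (nat_lit 86500) (nat_lit 100) = true := by decide +kernel
theorem chkP_86600 : allRangeF (checkPointF cert) (nat_lit 86600) (nat_lit 100) = true := by decide +kernel
theorem chkP_86700 : allRangeF (checkPointF cert) (nat_lit 86700) (nat_lit 100) = true := by decide +kernel
theorem chkP_86800 : allRangeF (checkPointF cert) (nat_lit 86800) (nat_lit 100) = true := by decide +kernel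
theorem chkP_86900 : allRangeF (checkPointF cert) (nat_lit 86900) (nat_lit 100) = true := by decide +kernel
theorem chkP_87000 : allRangeF (checkPointF cert) (nat_lit 87000) (nat_lit 100) = true := by decide +kernel
theorem chkP_87100 : allRangeF (checkPointF cert) (nat_lit 87100) (nat_lit 100) = true := by decide +kernel
theorem chkP_87200 : allRangeF (checkPointF cert) (nat_lit 87200) (nat_lit 100) = true := by decide +kernel
theorem chkP_87300 : allRangeF (checkPointF cert) (nat_lit 87300) (nat_lit 100) = true := by decide +kernel
theorem chkP_87400 : allRangeF (checkPointF cert) (nat_lit 87400) (nat_lit 100) = true := by decide +kernel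
theorem chkP_87500 : allRangeF (checkPointF cert) (nat_lit 87500) (nat_lit 100) = true := by decide +kernel
theorem chkP_87600 : allRangeF (checkPointF cert) (nat_lit 87600) (nat_lit 100) = true := by decide +kernel
theorem chkP_87700 : allRangeF (checkPointF cert) (nat_lit 87700) (nat_lit 100) = true := by decide +kernel
theorem chkP_87800 : allRangeF (checkPointF cert) (nat_lit 87800) (nat_lit 100) = true := by decide +kernel
theorem chkP_87900 : allRangeF (checkPointF cert) (nat_lit 87900) (nat_lit 100) = true := by decide +kernel
theorem chkP_88000 : allRangeF (checkPointF cert) (nat_lit 88000) (nat_lit 100) = true := by decide +kernel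
theorem chkP_88100 : allRangeF (checkPointF cert) (nat_lit 88100) (nat_lit 100) = true := by decide +kernel
theorem chkP_88200 : allRangeF (checkPointF cert) (nat_lit 88200) (nat_lit 100) = true := by decide +kernel
theorem chkP_88300 : allRangeF (checkPointF cert) (nat_lit 88300) (nat_lit 100) = true := by decide +kernel
theorem chkP_88400 : allRangeF (checkPointF cert) (nat_lit 88400) (nat_lit 100) = true := by decide +kernel
theorem chkP_88500 : allRangeF (checkPointF cert) (nat_lit 88500) (nat_lit 100) = true := by decide +kernel
theorem chkP_88600 : allRangeF (checkPointF cert) (nat_lit 88600) (nat_lit 100) = true := by decide +kernel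
theorem chkP_88700 : allRangeF (checkPointF cert) (nat_lit 88700) (nat_lit 100) = true := by decide +kernel
theorem chkP_88800 : allRangeF (checkPointF cert) (nat_lit 88800) (nat_lit 100) = true := by decide +kernel
theorem chkP_88900 : allRangeF (checkPointF cert) (nat_lit 88900) (nat_lit 100) = true := by decide +kernel
theorem chkP_89000 : allRangeF (checkPointF cert) (nat_lit 89000) (nat_lit 100) = true := by decide +kernel
theorem chkP_89100 : allRangeF (checkPointF cert) (nat_lit 89100) (nat_lit 100) = true := by decide +kernel
theorem chkP_89200 : allRangeF (checkPointF cert) (nat_lit 89200) (nat_lit 100) = true := by decide +kernel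
theorem chkP_89300 : allRangeF (checkPointF cert) (nat_lit 89300) (nat_lit 100) = true := by decide +kernel
theorem chkP_89400 : allRangeF (checkPointF cert) (nat_lit 89400) (nat_lit 100) = true := by decide +kernel
theorem chkP_89500 : allRangeF (checkPointF cert) (nat_lit 89500) (nat_lit 100) = true := by decide +kernel
theorem chkP_89600 : allRangeF (checkPointF cert) (nat_lit 89600) (nat_lit 100) = true := by decide +kernel
theorem chkP_89700 : allRangeF (checkPointF cert) (nat_lit 89700) (nat_lit 100) = true := by decide +kernel
theorem chkP_89800 : allRangeF (checkPointF cert) (nat_lit 89800) (nat_lit 100) = true := by decide +kernel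
theorem chkP_89900 : allRangeF (checkPointF cert) (nat_lit 89900) (nat_lit 100) = true := by decide +kernel
theorem chkP_90000 : allRangeF (checkPointF cert) (nat_lit 90000) (nat_lit 100) = true := by decide +kernel
theorem chkP_90100 : allRangeF (checkPointF cert) (nat_lit 90100) (nat_lit 100) = true := by decide +kernel
theorem chkP_90200 : allRangeF (checkPointF cert) (nat_lit 90200) (nat_lit 100) = true := by decide +kernel
theorem chkP_90300 : allRangeF (checkPointF cert) (nat_lit 90300) (nat_lit 100) = true := by decide +kernel
theorem chkP_90400 : allRangeF (checkPointF cert) (nat_lit 90400) (nat_lit 100) = true := by decide +kernel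
theorem chkP_90500 : allRangeF (checkPointF cert) (nat_lit 90500) (nat_lit 100) = true := by decide +kernel
theorem chkP_90600 : allRangeF (checkPointF cert) (nat_lit 90600) (nat_lit 100) = true := by decide +kernel
theorem chkP_90700 : allRangeF (checkPointF cert) (nat_lit 90700) (nat_lit 100) = true := by decide +kernel
theorem chkP_90800 : allRangeF (checkPointF cert) (nat_lit 90800) (nat_lit 100) = true := by decide +kernel
theorem chkP_90900 : allRangeF (checkPointF cert) (nat_lit 90900) (nat_lit 100) = true := by decide +kernel
theorem chkP_91000 : allRangeF (checkPointF cert) (nat_lit 91000) (nat_lit 100) = true := by decide +kernel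
theorem chkP_91100 : allRangeF (checkPointF cert) (nat_lit 91100) (nat_lit 100) = true := by decide +kernel
theorem chkP_91200 : allRangeF (checkPointF cert) (nat_lit 91200) (nat_lit 100) = true := by decide +kernel
theorem chkP_91300 : allRangeF (checkPointF cert) (nat_lit 91300) (nat_lit 100) = true := by decide +kernel
theorem chkP_91400 : allRangeF (checkPointF cert) (nat_lit 91400) (nat_lit 100) = true := by decide +kernel
theorem chkP_91500 : allRangeF (checkPointF cert) (nat_lit 91500) (nat_lit 100) = true := by decide +kernel
theorem chkP_91600 : allRangeF (checkPointF cert) (nat_lit 91600) (nat_lit 100) = true := by decide +kernel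
theorem chkP_91700 : allRangeF (checkPointF cert) (nat_lit 91700) (nat_lit 100) = true := by decide +kernel
theorem chkP_91800 : allRangeF (checkPointF cert) (nat_lit 91800) (nat_lit 100) = true := by decide +kernel
theorem chkP_91900 : allRangeF (checkPointF cert) (nat_lit 91900) (nat_lit 100) = true := by decide +kernel
theorem chkP_92000 : allRangeF (checkPointF cert) (nat_lit 92000) (nat_lit 100) = true := by decide +kernel
theorem chkP_92100 : allRangeF (checkPointF cert) (nat_lit 92100) (nat_lit 100) = true := by decide +kernel
theorem chkP_92200 : allRangeF (checkPointF cert) (nat_lit 92200) (nat_lit 100) = true := by decide +kernel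
theorem chkP_92300 : allRangeF (checkPointF cert) (nat_lit 92300) (nat_lit 100) = true := by decide +kernel
theorem chkP_92400 : allRangeF (checkPointF cert) (nat_lit 92400) (nat_lit 100) = true := by decide +kernel
theorem chkP_92500 : allRangeF (checkPointF cert) (nat_lit 92500) (nat_lit 100) = true := by decide +kernel
theorem chkP_92600 : allRangeF (checkPointF cert) (nat_lit 92600) (nat_lit 100) = true := by decide +kernel
theorem chkP_92700 : allRangeF (checkPointF cert) (nat_lit 92700) (nat_lit 100) = true := by decide +kernel
theorem chkP_92800 : allRangeF (checkPointF cert) (nat_lit 92800) (nat_lit 100) = true := by decide +kernel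
theorem chkP_92900 : allRangeF (checkPointF cert) (nat_lit 92900) (nat_lit 100) = true := by decide +kernel
theorem chkP_93000 : allRangeF (checkPointF cert) (nat_lit 93000) (nat_lit 100) = true := by decide +kernel
theorem chkP_93100 : allRangeF (checkPointF cert) (nat_lit 93100) (nat_lit 100) = true := by decide +kernel
theorem chkP_93200 : allRangeF (checkPointF cert) (nat_lit 93200) (nat_lit 100) = true := by decide +kernel
theorem chkP_93300 : allRangeF (checkPointF cert) (nat_lit 93300) (nat_lit 100) = true := by decide +kernel
theorem chkP_93400 : allRangeF (checkPointF cert) (nat_lit 93400) (nat_lit 100) = true := by decide +kernel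
theorem chkP_93500 : allRangeF (checkPointF cert) (nat_lit 93500) (nat_lit 100) = true := by decide +kernel
theorem chkP_93600 : allRangeF (checkPointF cert) (nat_lit 93600) (nat_lit 100) = true := by decide +kernel
theorem chkP_93700 : allRangeF (checkPointF cert) (nat_lit 93700) (nat_lit 100) = true := by decide +kernel
theorem chkP_93800 : allRangeF (checkPointF cert) (nat_lit 93800) (nat_lit 100) = true := by decide +kernel
theorem chkP_93900 : allRangeF (checkPointF cert) (nat_lit 93900) (nat_lit 100) = true := by decide +kernel
theorem chkP_94000 : allRangeF (checkPointF cert) (nat_lit 94000) (nat_lit 100) = true := by decide +kernel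
theorem chkP_94100 : allRangeF (checkPointF cert) (nat_lit 94100) (nat_lit 100) = true := by decide +kernel
theorem chkP_94200 : allRangeF (checkPointF cert) (nat_lit 94200) (nat_lit 100) = true := by decide +kernel
theorem chkP_94300 : allRangeF (checkPointF cert) (nat_lit 94300) (nat_lit 100) = true := by decide +kernel
theorem chkP_94400 : allRangeF (checkPointF cert) (nat_lit 94400) (nat_lit 100) = true := by decide +kernel
theorem chkP_94500 : allRangeF (checkPointF cert) (nat_lit 94500) (nat_lit 100) = true := by decide +kernel
theorem chkP_94600 : allRangeF (checkPointF cert) (nat_lit 94600) (nat_lit 100) = true := by decide +kernel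
theorem chkP_94700 : allRangeF (checkPointF cert) (nat_lit 94700) (nat_lit 100) = true := by decide +kernel
theorem chkP_94800 : allRangeF (checkPointF cert) (nat_lit 94800) (nat_lit 100) = true := by decide +kernel
theorem chkP_94900 : allRangeF (checkPointF cert) (nat_lit 94900) (nat_lit 100) = true := by decide +kernel
theorem chkP_95000 : allRangeF (checkPointF cert) (nat_lit 95000) (nat_lit 100) = true := by decide +kernel
theorem chkP_95100 : allRangeF (checkPointF cert) (nat_lit 95100) (nat_lit 100) = true := by decide +kernel
theorem chkP_95200 : allRangeF (checkPointF cert) (nat_lit 95200) (nat_lit 100) = true := by decide +kernel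
theorem chkP_95300 : allRangeF (checkPointF cert) (nat_lit 95300) (nat_lit 100) = true := by decide +kernel
theorem chkP_95400 : allRangeF (checkPointF cert) (nat_lit 95400) (nat_lit 100) = true := by decide +kernel
theorem chkP_95500 : allRangeF (checkPointF cert) (nat_lit 95500) (nat_lit 100) = true := by decide +kernel
theorem chkP_95600 : allRangeF (checkPointF cert) (nat_lit 95600) (nat_lit 100) = true := by decide +kernel
theorem chkP_95700 : allRangeF (checkPointF cert) (nat_lit 95700) (nat_lit 100) = true := by decide +kernel
theorem chkP_95800 : allRangeF (checkPointF cert) (nat_lit 95800) (nat_lit 100) = true := by decide +kernel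
theorem chkP_95900 : allRangeF (checkPointF cert) (nat_lit 95900) (nat_lit 100) = true := by decide +kernel
theorem chkP_96000 : allRangeF (checkPointF cert) (nat_lit 96000) (nat_lit 100) = true := by decide +kernel
theorem chkP_96100 : allRangeF (checkPointF cert) (nat_lit 96100) (nat_lit 100) = true := by decide +kernel
theorem chkP_96200 : allRangeF (checkPointF cert) (nat_lit 96200) (nat_lit 100) = true := by decide +kernel
theorem chkP_96300 : allRangeF (checkPointF cert) (nat_lit 96300) (nat_lit 100) = true := by decide +kernel
theorem chkP_96400 : allRangeF (checkPointF cert) (nat_lit 96400) (nat_lit 100) = true := by decide +kernel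
theorem chkP_96500 : allRangeF (checkPointF cert) (nat_lit 96500) (nat_lit 100) = true := by decide +kernel
theorem chkP_96600 : allRangeF (checkPointF cert) (nat_lit 96600) (nat_lit 100) = true := by decide +kernel
theorem chkP_96700 : allRangeF (checkPointF cert) (nat_lit 96700) (nat_lit 100) = true := by decide +kernel
theorem chkP_96800 : allRangeF (checkPointF cert) (nat_lit 96800) (nat_lit 100) = true := by decide +kernel
theorem chkP_96900 : allRangeF (checkPointF cert) (nat_lit 96900) (nat_lit 100) = true := by decide +kernel
theorem chkP_97000 : allRangeF (checkPointF cert) (nat_lit 97000) (nat_lit 100) = true := by decide +kernel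
theorem chkP_97100 : allRangeF (checkPointF cert) (nat_lit 97100) (nat_lit 100) = true := by decide +kernel
theorem chkP_97200 : allRangeF (checkPointF cert) (nat_lit 97200) (nat_lit 100) = true := by decide +kernel
theorem chkP_97300 : allRangeF (checkPointF cert) (nat_lit 97300) (nat_lit 100) = true := by decide +kernel
theorem chkP_97400 : allRangeF (checkPointF cert) (nat_lit 97400) (nat_lit 100) = true := by decide +kernel
theorem chkP_97500 : allRangeF (checkPointF cert) (nat_lit 97500) (nat_lit 100) = true := by decide +kernel
theorem chkP_97600 : allRangeF (checkPointF cert) (nat_lit 97600) (nat_lit 100) = true := by decide +kernel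
theorem chkP_97700 : allRangeF (checkPointF cert) (nat_lit 97700) (nat_lit 100) = true := by decide +kernel
theorem chkP_97800 : allRangeF (checkPointF cert) (nat_lit 97800) (nat_lit 100) = true := by decide +kernel
theorem chkP_97900 : allRangeF (checkPointF cert) (nat_lit 97900) (nat_lit 100) = true := by decide +kernel
theorem chkP_98000 : allRangeF (checkPointF cert) (nat_lit 98000) (nat_lit 100) = true := by decide +kernel
theorem chkP_98100 : allRangeF (checkPointF cert) (nat_lit 98100) (nat_lit 100) = true := by decide +kernel
theorem chkP_98200 : allRangeF (checkPointF cert) (nat_lit 98200) (nat_lit 100) = true := by decide +kernel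
theorem chkP_98300 : allRangeF (checkPointF cert) (nat_lit 98300) (nat_lit 100) = true := by decide +kernel
theorem chkP_98400 : allRangeF (checkPointF cert) (nat_lit 98400) (nat_lit 100) = true := by decide +kernel
theorem chkP_98500 : allRangeF (checkPointF cert) (nat_lit 98500) (nat_lit 100) = true := by decide +kernel
theorem chkP_98600 : allRangeF (checkPointF cert) (nat_lit 98600) (nat_lit 100) = true := by decide +kernel
theorem chkP_98700 : allRangeF (checkPointF cert) (nat_lit 98700) (nat_lit 100) = true := by decide +kernel
theorem chkP_98800 : allRangeF (checkPointF cert) (nat_lit 98800) (nat_lit 100) = true := by decide +kernel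
theorem chkP_98900 : allRangeF (checkPointF cert) (nat_lit 98900) (nat_lit 100) = true := by decide +kernel
theorem chkP_99000 : allRangeF (checkPointF cert) (nat_lit 99000) (nat_lit 100) = true := by decide +kernel
theorem chkP_99100 : allRangeF (checkPointF cert) (nat_lit 99100) (nat_lit 100) = true := by decide +kernel
theorem chkP_99200 : allRangeF (checkPointF cert) (nat_lit 99200) (nat_lit 100) = true := by decide +kernel
theorem chkP_99300 : allRangeF (checkPointF cert) (nat_lit 99300) (nat_lit 100) = true := by decide +kernel
theorem chkP_99400 : allRangeF (checkPointF cert) (nat_lit 99400) (nat_lit 100) = true := by decide +kernel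
theorem chkP_99500 : allRangeF (checkPointF cert) (nat_lit 99500) (nat_lit 100) = true := by decide +kernel
theorem chkP_99600 : allRangeF (checkPointF cert) (nat_lit 99600) (nat_lit 100) = true := by decide +kernel
theorem chkP_99700 : allRangeF (checkPointF cert) (nat_lit 99700) (nat_lit 100) = true := by decide +kernel
theorem chkP_99800 : allRangeF (checkPointF cert) (nat_lit 99800) (nat_lit 100) = true := by decide +kernel
theorem chkP_99900 : allRangeF (checkPointF cert) (nat_lit 99900) (nat_lit 100) = true := by decide +kernel
theorem chkP_100000 : allRangeF (checkPointF cert) (nat_lit 100000) (nat_lit 100) = true := by decide +kernel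
theorem chkP_100100 : allRangeF (checkPointF cert) (nat_lit 100100) (nat_lit 100) = true := by decide +kernel

theorem ptsRange_5 : ∀ i, 83500 ≤ i → i < 100200 → checkPoint cert i = true := by
  intro i hlo hhi
  rcases Nat.lt_or_ge i 91800 with h1 | h1
  · skip
    rcases Nat.lt_or_ge i 87600 with h2 | h2
    · skip
      rcases Nat.lt_or_ge i 85500 with h3 | h3
      · skip
        rcases Nat.lt_or_ge i 84500 with h4 | h4
        · skip
          rcases Nat.lt_or_ge i 84000 with h5 | h5
          · skip
            rcases Nat.lt_or_ge i 83700 with h6 | h6
            · skip
              rcases Nat.lt_or_ge i 83600 with h7 | h7
              · skip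
                exact allRangeF_sound _ _ (checkPointF_eq cert) 83500 100 chkP_83500 i (by omega) (by omega)
              · skip
                exact allRangeF_sound _ _ (checkPointF_eq cert) 83600 100 chkP_83600 i (by omega) (by omega)
            · skip
              rcases Nat.lt_or_ge i 83800 with h7 | h7
              · skip
                exact allRangeF_sound _ _ (checkPointF_eq cert) 83700 100 chkP_83700 i (by omega) (by omega)
              · skip
                rcases Nat.lt_or_ge i 83900 with h8 | h8
                · skip
                  exact allRangeF_sound _ _ (checkPointF_eq cert) 83800 100 chkP_83800 i (by omega) (by omega)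
                · skip
                  exact allRangeF_sound _ _ (checkPointF_eq cert) 83900 100 chkP_83900 i (by omega) (by omega)
          · skip
            rcases Nat.lt_or_ge i 84200 with h6 | h6
            · skip
              rcases Nat.lt_or_ge i 84100 with h7 | h7
              · skip
                exact allRangeF_sound _ _ (checkPointF_eq cert) 84000 100 chkP_84000 i (by omega) (by omega)
              · skip
                exact allRangeF_sound _ _ (checkPointF_eq cert) 84100 100 chkP_84100 i (by omega) (by omega)
            · skip
              rcases Nat.lt_or_ge i 84300 with h7 | h7
              · skip
                exact allRangeF_sound _ _ (checkPointF_eq cert) 84200 100 chkP_84200 i (by omega) (by omega)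
              · skip
                rcases Nat.lt_or_ge i 84400 with h8 | h8
                · skip
                  exact allRangeF_sound _ _ (checkPointF_eq cert) 84300 100 chkP_84300 i (by omega) (by omega)
                · skip
                  exact allRangeF_sound _ _ (checkPointF_eq cert) 84400 100 chkP_84400 i (by omega) (by omega)
        · skip
          rcases Nat.lt_or_ge i 85000 with h5 | h5
          · skip
            rcases Nat.lt_or_ge i 84700 with h6 | h6
            · skip
              rcases Nat.lt_or_ge i 84600 with h7 | h7
              · skip
                exact allRangeF_sound _ _ (checkPointF_eq cert) 84500 100 chkP_84500 i (by omega) (by omega)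
              · skip
                exact allRangeF_sound _ _ (checkPointF_eq cert) 84600 100 chkP_84600 i (by omega) (by omega)
            · skip
              rcases Nat.lt_or_ge i 84800 with h7 | h7
              · skip
                exact allRangeF_sound _ _ (checkPointF_eq cert) 84700 100 chkP_84700 i (by omega) (by omega)
              · skip
                rcases Nat.lt_or_ge i 84900 with h8 | h8
                · skip
                  exact allRangeF_sound _ _ (checkPointF_eq cert) 84800 100 chkP_84800 i (by omega) (by omega)
                · skip
                  exact allRangeF_sound _ _ (checkPointF_eq cert) 84900 100 chkP_84900 i (by omega) (by omega)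
          · skip
            rcases Nat.lt_or_ge i 85200 with h6 | h6
            · skip
              rcases Nat.lt_or_ge i 85100 with h7 | h7
              · skip
                exact allRangeF_sound _ _ (checkPointF_eq cert) 85000 100 chkP_85000 i (by omega) (by omega)
              · skip
                exact allRangeF_sound _ _ (checkPointF_eq cert) 85100 100 chkP_85100 i (by omega) (by omega)
            · skip
              rcases Nat.lt_or_ge i 85300 with h7 | h7
              · skip
                exact allRangeF_sound _ _ (checkPointF_eq cert) 85200 100 chkP_85200 i (by omega) (by omega)
              · skip
                rcases Nat.lt_or_ge i 85400 with h8 | h8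
                · skip
                  exact allRangeF_sound _ _ (checkPointF_eq cert) 85300 100 chkP_85300 i (by omega) (by omega)
                · skip
                  exact allRangeF_sound _ _ (checkPointF_eq cert) 85400 100 chkP_85400 i (by omega) (by omega)
      · skip
        rcases Nat.lt_or_ge i 86500 with h4 | h4
        · skip
          rcases Nat.lt_or_ge i 86000 with h5 | h5
          · skip
            rcases Nat.lt_or_ge i 85700 with h6 | h6
            · skip
              rcases Nat.lt_or_ge i 85600 with h7 | h7
              · skip
                exact allRangeF_sound _ _ (checkPointF_eq cert) 85500 100 chkP_85500 i (by omega) (by omega)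
              · skip
                exact allRangeF_sound _ _ (checkPointF_eq cert) 85600 100 chkP_85600 i (by omega) (by omega)
            · skip
              rcases Nat.lt_or_ge i 85800 with h7 | h7
              · skip
                exact allRangeF_sound _ _ (checkPointF_eq cert) 85700 100 chkP_85700 i (by omega) (by omega)
              · skip
                rcases Nat.lt_or_ge i 85900 with h8 | h8
                · skip
                  exact allRangeF_sound _ _ (checkPointF_eq cert) 85800 100 chkP_85800 i (by omega) (by omega)
                · skip
                  exact allRangeF_sound _ _ (checkPointF_eq cert) 85900 100 chkP_85900 i (by omega) (by omega)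
          · skip
            rcases Nat.lt_or_ge i 86200 with h6 | h6
            · skip
              rcases Nat.lt_or_ge i 86100 with h7 | h7
              · skip
                exact allRangeF_sound _ _ (checkPointF_eq cert) 86000 100 chkP_86000 i (by omega) (by omega)
              · skip
                exact allRangeF_sound _ _ (checkPointF_eq cert) 86100 100 chkP_86100 i (by omega) (by omega)
            · skip
              rcases Nat.lt_or_ge i 86300 with h7 | h7
              · skip
                exact allRangeF_sound _ _ (checkPointF_eq cert) 86200 100 chkP_86200 i (by omega) (by omega)
              · skip
                rcases Nat.lt_or_ge i 86400 with h8 | h8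
                · skip
                  exact allRangeF_sound _ _ (checkPointF_eq cert) 86300 100 chkP_86300 i (by omega) (by omega)
                · skip
                  exact allRangeF_sound _ _ (checkPointF_eq cert) 86400 100 chkP_86400 i (by omega) (by omega)
        · skip
          rcases Nat.lt_or_ge i 87000 with h5 | h5
          · skip
            rcases Nat.lt_or_ge i 86700 with h6 | h6
            · skip
              rcases Nat.lt_or_ge i 86600 with h7 | h7
              · skip
                exact allRangeF_sound _ _ (checkPointF_eq cert) 86500 100 chkP_86500 i (by omega) (by omega)
              · skip
                exact allRangeF_sound _ _ (checkPointF_eq cert) 86600 100 chkP_86600 i (by omega) (by omega)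
            · skip
              rcases Nat.lt_or_ge i 86800 with h7 | h7
              · skip
                exact allRangeF_sound _ _ (checkPointF_eq cert) 86700 100 chkP_86700 i (by omega) (by omega)
              · skip
                rcases Nat.lt_or_ge i 86900 with h8 | h8
                · skip
                  exact allRangeF_sound _ _ (checkPointF_eq cert) 86800 100 chkP_86800 i (by omega) (by omega)
                · skip
                  exact allRangeF_sound _ _ (checkPointF_eq cert) 86900 100 chkP_86900 i (by omega) (by omega)
          · skip
            rcases Nat.lt_or_ge i 87300 with h6 | h6
            · skip
              rcases Nat.lt_or_ge i 87100 with h7 | h7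
              · skip
                exact allRangeF_sound _ _ (checkPointF_eq cert) 87000 100 chkP_87000 i (by omega) (by omega)
              · skip
                rcases Nat.lt_or_ge i 87200 with h8 | h8
                · skip
                  exact allRangeF_sound _ _ (checkPointF_eq cert) 87100 100 chkP_87100 i (by omega) (by omega)
                · skip
                  exact allRangeF_sound _ _ (checkPointF_eq cert) 87200 100 chkP_87200 i (by omega) (by omega)
            · skip
              rcases Nat.lt_or_ge i 87400 with h7 | h7
              · skip
                exact allRangeF_sound _ _ (checkPointF_eq cert) 87300 100 chkP_87300 i (by omega) (by omega)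
              · skip
                rcases Nat.lt_or_ge i 87500 with h8 | h8
                · skip
                  exact allRangeF_sound _ _ (checkPointF_eq cert) 87400 100 chkP_87400 i (by omega) (by omega)
                · skip
                  exact allRangeF_sound _ _ (checkPointF_eq cert) 87500 100 chkP_87500 i (by omega) (by omega)
    · skip
      rcases Nat.lt_or_ge i 89700 with h3 | h3
      · skip
        rcases Nat.lt_or_ge i 88600 with h4 | h4
        · skip
          rcases Nat.lt_or_ge i 88100 with h5 | h5
          · skip
            rcases Nat.lt_or_ge i 87800 with h6 | h6
            · skip
              rcases Nat.lt_or_ge i 87700 with h7 | h7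
              · skip
                exact allRangeF_sound _ _ (checkPointF_eq cert) 87600 100 chkP_87600 i (by omega) (by omega)
              · skip
                exact allRangeF_sound _ _ (checkPointF_eq cert) 87700 100 chkP_87700 i (by omega) (by omega)
            · skip
              rcases Nat.lt_or_ge i 87900 with h7 | h7
              · skip
                exact allRangeF_sound _ _ (checkPointF_eq cert) 87800 100 chkP_87800 i (by omega) (by omega)
              · skip
                rcases Nat.lt_or_ge i 88000 with h8 | h8
                · skip
                  exact allRangeF_sound _ _ (checkPointF_eq cert) 87900 100 chkP_87900 i (by omega) (by omega)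
                · skip
                  exact allRangeF_sound _ _ (checkPointF_eq cert) 88000 100 chkP_88000 i (by omega) (by omega)
          · skip
            rcases Nat.lt_or_ge i 88300 with h6 | h6
            · skip
              rcases Nat.lt_or_ge i 88200 with h7 | h7
              · skip
                exact allRangeF_sound _ _ (checkPointF_eq cert) 88100 100 chkP_88100 i (by omega) (by omega)
              · skip
                exact allRangeF_sound _ _ (checkPointF_eq cert) 88200 100 chkP_88200 i (by omega) (by omega)
            · skip
              rcases Nat.lt_or_ge i 88400 with h7 | h7
              · skip
                exact allRangeF_sound _ _ (checkPointF_eq cert) 88300 100 chkP_88300 i (by omega) (by omega)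
              · skip
                rcases Nat.lt_or_ge i 88500 with h8 | h8
                · skip
                  exact allRangeF_sound _ _ (checkPointF_eq cert) 88400 100 chkP_88400 i (by omega) (by omega)
                · skip
                  exact allRangeF_sound _ _ (checkPointF_eq cert) 88500 100 chkP_88500 i (by omega) (by omega)
        · skip
          rcases Nat.lt_or_ge i 89100 with h5 | h5
          · skip
            rcases Nat.lt_or_ge i 88800 with h6 | h6
            · skip
              rcases Nat.lt_or_ge i 88700 with h7 | h7
              · skip
                exact allRangeF_sound _ _ (checkPointF_eq cert) 88600 100 chkP_88600 i (by omega) (by omega)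
              · skip
                exact allRangeF_sound _ _ (checkPointF_eq cert) 88700 100 chkP_88700 i (by omega) (by omega)
            · skip
              rcases Nat.lt_or_ge i 88900 with h7 | h7
              · skip
                exact allRangeF_sound _ _ (checkPointF_eq cert) 88800 100 chkP_88800 i (by omega) (by omega)
              · skip
                rcases Nat.lt_or_ge i 89000 with h8 | h8
                · skip
                  exact allRangeF_sound _ _ (checkPointF_eq cert) 88900 100 chkP_88900 i (by omega) (by omega)
                · skip
                  exact allRangeF_sound _ _ (checkPointF_eq cert) 89000 100 chkP_89000 i (by omega) (by omega)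
          · skip
            rcases Nat.lt_or_ge i 89400 with h6 | h6
            · skip
              rcases Nat.lt_or_ge i 89200 with h7 | h7
              · skip
                exact allRangeF_sound _ _ (checkPointF_eq cert) 89100 100 chkP_89100 i (by omega) (by omega)
              · skip
                rcases Nat.lt_or_ge i 89300 with h8 | h8
                · skip
                  exact allRangeF_sound _ _ (checkPointF_eq cert) 89200 100 chkP_89200 i (by omega) (by omega)
                · skip
                  exact allRangeF_sound _ _ (checkPointF_eq cert) 89300 100 chkP_89300 i (by omega) (by omega)
            · skip
              rcases Nat.lt_or_ge i 89500 with h7 | h7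
              · skip
                exact allRangeF_sound _ _ (checkPointF_eq cert) 89400 100 chkP_89400 i (by omega) (by omega)
              · skip
                rcases Nat.lt_or_ge i 89600 with h8 | h8
                · skip
                  exact allRangeF_sound _ _ (checkPointF_eq cert) 89500 100 chkP_89500 i (by omega) (by omega)
                · skip
                  exact allRangeF_sound _ _ (checkPointF_eq cert) 89600 100 chkP_89600 i (by omega) (by omega)
      · skip
        rcases Nat.lt_or_ge i 90700 with h4 | h4
        · skip
          rcases Nat.lt_or_ge i 90200 with h5 | h5
          · skip
            rcases Nat.lt_or_ge i 89900 with h6 | h6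
            · skip
              rcases Nat.lt_or_ge i 89800 with h7 | h7
              · skip
                exact allRangeF_sound _ _ (checkPointF_eq cert) 89700 100 chkP_89700 i (by omega) (by omega)
              · skip
                exact allRangeF_sound _ _ (checkPointF_eq cert) 89800 100 chkP_89800 i (by omega) (by omega)
            · skip
              rcases Nat.lt_or_ge i 90000 with h7 | h7
              · skip
                exact allRangeF_sound _ _ (checkPointF_eq cert) 89900 100 chkP_89900 i (by omega) (by omega)
              · skip
                rcases Nat.lt_or_ge i 90100 with h8 | h8
                · skip
                  exact allRangeF_sound _ _ (checkPointF_eq cert) 90000 100 chkP_90000 i (by omega) (by omega)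
                · skip
                  exact allRangeF_sound _ _ (checkPointF_eq cert) 90100 100 chkP_90100 i (by omega) (by omega)
          · skip
            rcases Nat.lt_or_ge i 90400 with h6 | h6
            · skip
              rcases Nat.lt_or_ge i 90300 with h7 | h7
              · skip
                exact allRangeF_sound _ _ (checkPointF_eq cert) 90200 100 chkP_90200 i (by omega) (by omega)
              · skip
                exact allRangeF_sound _ _ (checkPointF_eq cert) 90300 100 chkP_90300 i (by omega) (by omega)
            · skip
              rcases Nat.lt_or_ge i 90500 with h7 | h7
              · skip
                exact allRangeF_sound _ _ (checkPointF_eq cert) 90400 100 chkP_90400 i (by omega) (by omega)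
              · skip
                rcases Nat.lt_or_ge i 90600 with h8 | h8
                · skip
                  exact allRangeF_sound _ _ (checkPointF_eq cert) 90500 100 chkP_90500 i (by omega) (by omega)
                · skip
                  exact allRangeF_sound _ _ (checkPointF_eq cert) 90600 100 chkP_90600 i (by omega) (by omega)
        · skip
          rcases Nat.lt_or_ge i 91200 with h5 | h5
          · skip
            rcases Nat.lt_or_ge i 90900 with h6 | h6
            · skip
              rcases Nat.lt_or_ge i 90800 with h7 | h7
              · skip
                exact allRangeF_sound _ _ (checkPointF_eq cert) 90700 100 chkP_90700 i (by omega) (by omega)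
              · skip
                exact allRangeF_sound _ _ (checkPointF_eq cert) 90800 100 chkP_90800 i (by omega) (by omega)
            · skip
              rcases Nat.lt_or_ge i 91000 with h7 | h7
              · skip
                exact allRangeF_sound _ _ (checkPointF_eq cert) 90900 100 chkP_90900 i (by omega) (by omega)
              · skip
                rcases Nat.lt_or_ge i 91100 with h8 | h8
                · skip
                  exact allRangeF_sound _ _ (checkPointF_eq cert) 91000 100 chkP_91000 i (by omega) (by omega)
                · skip
                  exact allRangeF_sound _ _ (checkPointF_eq cert) 91100 100 chkP_91100 i (by omega) (by omega)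
          · skip
            rcases Nat.lt_or_ge i 91500 with h6 | h6
            · skip
              rcases Nat.lt_or_ge i 91300 with h7 | h7
              · skip
                exact allRangeF_sound _ _ (checkPointF_eq cert) 91200 100 chkP_91200 i (by omega) (by omega)
              · skip
                rcases Nat.lt_or_ge i 91400 with h8 | h8
                · skip
                  exact allRangeF_sound _ _ (checkPointF_eq cert) 91300 100 chkP_91300 i (by omega) (by omega)
                · skip
                  exact allRangeF_sound _ _ (checkPointF_eq cert) 91400 100 chkP_91400 i (by omega) (by omega)
            · skip
              rcases Nat.lt_or_ge i 91600 with h7 | h7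
              · skip
                exact allRangeF_sound _ _ (checkPointF_eq cert) 91500 100 chkP_91500 i (by omega) (by omega)
              · skip
                rcases Nat.lt_or_ge i 91700 with h8 | h8
                · skip
                  exact allRangeF_sound _ _ (checkPointF_eq cert) 91600 100 chkP_91600 i (by omega) (by omega)
                · skip
                  exact allRangeF_sound _ _ (checkPointF_eq cert) 91700 100 chkP_91700 i (by omega) (by omega)
  · skip
    rcases Nat.lt_or_ge i 96000 with h2 | h2
    · skip
      rcases Nat.lt_or_ge i 93900 with h3 | h3
      · skip
        rcases Nat.lt_or_ge i 92800 with h4 | h4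
        · skip
          rcases Nat.lt_or_ge i 92300 with h5 | h5
          · skip
            rcases Nat.lt_or_ge i 92000 with h6 | h6
            · skip
              rcases Nat.lt_or_ge i 91900 with h7 | h7
              · skip
                exact allRangeF_sound _ _ (checkPointF_eq cert) 91800 100 chkP_91800 i (by omega) (by omega)
              · skip
                exact allRangeF_sound _ _ (checkPointF_eq cert) 91900 100 chkP_91900 i (by omega) (by omega)
            · skip
              rcases Nat.lt_or_ge i 92100 with h7 | h7
              · skip
                exact allRangeF_sound _ _ (checkPointF_eq cert) 92000 100 chkP_92000 i (by omega) (by omega)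
              · skip
                rcases Nat.lt_or_ge i 92200 with h8 | h8
                · skip
                  exact allRangeF_sound _ _ (checkPointF_eq cert) 92100 100 chkP_92100 i (by omega) (by omega)
                · skip
                  exact allRangeF_sound _ _ (checkPointF_eq cert) 92200 100 chkP_92200 i (by omega) (by omega)
          · skip
            rcases Nat.lt_or_ge i 92500 with h6 | h6
            · skip
              rcases Nat.lt_or_ge i 92400 with h7 | h7
              · skip
                exact allRangeF_sound _ _ (checkPointF_eq cert) 92300 100 chkP_92300 i (by omega) (by omega)
              · skip
                exact allRangeF_sound _ _ (checkPointF_eq cert) 92400 100 chkP_92400 i (by omega) (by omega)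
            · skip
              rcases Nat.lt_or_ge i 92600 with h7 | h7
              · skip
                exact allRangeF_sound _ _ (checkPointF_eq cert) 92500 100 chkP_92500 i (by omega) (by omega)
              · skip
                rcases Nat.lt_or_ge i 92700 with h8 | h8
                · skip
                  exact allRangeF_sound _ _ (checkPointF_eq cert) 92600 100 chkP_92600 i (by omega) (by omega)
                · skip
                  exact allRangeF_sound _ _ (checkPointF_eq cert) 92700 100 chkP_92700 i (by omega) (by omega)
        · skip
          rcases Nat.lt_or_ge i 93300 with h5 | h5
          · skip
            rcases Nat.lt_or_ge i 93000 with h6 | h6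
            · skip
              rcases Nat.lt_or_ge i 92900 with h7 | h7
              · skip
                exact allRangeF_sound _ _ (checkPointF_eq cert) 92800 100 chkP_92800 i (by omega) (by omega)
              · skip
                exact allRangeF_sound _ _ (checkPointF_eq cert) 92900 100 chkP_92900 i (by omega) (by omega)
            · skip
              rcases Nat.lt_or_ge i 93100 with h7 | h7
              · skip
                exact allRangeF_sound _ _ (checkPointF_eq cert) 93000 100 chkP_93000 i (by omega) (by omega)
              · skip
                rcases Nat.lt_or_ge i 93200 with h8 | h8
                · skip
                  exact allRangeF_sound _ _ (checkPointF_eq cert) 93100 100 chkP_93100 i (by omega) (by omega)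
                · skip
                  exact allRangeF_sound _ _ (checkPointF_eq cert) 93200 100 chkP_93200 i (by omega) (by omega)
          · skip
            rcases Nat.lt_or_ge i 93600 with h6 | h6
            · skip
              rcases Nat.lt_or_ge i 93400 with h7 | h7
              · skip
                exact allRangeF_sound _ _ (checkPointF_eq cert) 93300 100 chkP_93300 i (by omega) (by omega)
              · skip
                rcases Nat.lt_or_ge i 93500 with h8 | h8
                · skip
                  exact allRangeF_sound _ _ (checkPointF_eq cert) 93400 100 chkP_93400 i (by omega) (by omega)
                · skip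
                  exact allRangeF_sound _ _ (checkPointF_eq cert) 93500 100 chkP_93500 i (by omega) (by omega)
            · skip
              rcases Nat.lt_or_ge i 93700 with h7 | h7
              · skip
                exact allRangeF_sound _ _ (checkPointF_eq cert) 93600 100 chkP_93600 i (by omega) (by omega)
              · skip
                rcases Nat.lt_or_ge i 93800 with h8 | h8
                · skip
                  exact allRangeF_sound _ _ (checkPointF_eq cert) 93700 100 chkP_93700 i (by omega) (by omega)
                · skip
                  exact allRangeF_sound _ _ (checkPointF_eq cert) 93800 100 chkP_93800 i (by omega) (by omega)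
      · skip
        rcases Nat.lt_or_ge i 94900 with h4 | h4
        · skip
          rcases Nat.lt_or_ge i 94400 with h5 | h5
          · skip
            rcases Nat.lt_or_ge i 94100 with h6 | h6
            · skip
              rcases Nat.lt_or_ge i 94000 with h7 | h7
              · skip
                exact allRangeF_sound _ _ (checkPointF_eq cert) 93900 100 chkP_93900 i (by omega) (by omega)
              · skip
                exact allRangeF_sound _ _ (checkPointF_eq cert) 94000 100 chkP_94000 i (by omega) (by omega)
            · skip
              rcases Nat.lt_or_ge i 94200 with h7 | h7
              · skip
                exact allRangeF_sound _ _ (checkPointF_eq cert) 94100 100 chkP_94100 i (by omega) (by omega)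
              · skip
                rcases Nat.lt_or_ge i 94300 with h8 | h8
                · skip
                  exact allRangeF_sound _ _ (checkPointF_eq cert) 94200 100 chkP_94200 i (by omega) (by omega)
                · skip
                  exact allRangeF_sound _ _ (checkPointF_eq cert) 94300 100 chkP_94300 i (by omega) (by omega)
          · skip
            rcases Nat.lt_or_ge i 94600 with h6 | h6
            · skip
              rcases Nat.lt_or_ge i 94500 with h7 | h7
              · skip
                exact allRangeF_sound _ _ (checkPointF_eq cert) 94400 100 chkP_94400 i (by omega) (by omega)
              · skip
                exact allRangeF_sound _ _ (checkPointF_eq cert) 94500 100 chkP_94500 i (by omega) (by omega)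
            · skip
              rcases Nat.lt_or_ge i 94700 with h7 | h7
              · skip
                exact allRangeF_sound _ _ (checkPointF_eq cert) 94600 100 chkP_94600 i (by omega) (by omega)
              · skip
                rcases Nat.lt_or_ge i 94800 with h8 | h8
                · skip
                  exact allRangeF_sound _ _ (checkPointF_eq cert) 94700 100 chkP_94700 i (by omega) (by omega)
                · skip
                  exact allRangeF_sound _ _ (checkPointF_eq cert) 94800 100 chkP_94800 i (by omega) (by omega)
        · skip
          rcases Nat.lt_or_ge i 95400 with h5 | h5
          · skip
            rcases Nat.lt_or_ge i 95100 with h6 | h6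
            · skip
              rcases Nat.lt_or_ge i 95000 with h7 | h7
              · skip
                exact allRangeF_sound _ _ (checkPointF_eq cert) 94900 100 chkP_94900 i (by omega) (by omega)
              · skip
                exact allRangeF_sound _ _ (checkPointF_eq cert) 95000 100 chkP_95000 i (by omega) (by omega)
            · skip
              rcases Nat.lt_or_ge i 95200 with h7 | h7
              · skip
                exact allRangeF_sound _ _ (checkPointF_eq cert) 95100 100 chkP_95100 i (by omega) (by omega)
              · skip
                rcases Nat.lt_or_ge i 95300 with h8 | h8
                · skip
                  exact allRangeF_sound _ _ (checkPointF_eq cert) 95200 100 chkP_95200 i (by omega) (by omega)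
                · skip
                  exact allRangeF_sound _ _ (checkPointF_eq cert) 95300 100 chkP_95300 i (by omega) (by omega)
          · skip
            rcases Nat.lt_or_ge i 95700 with h6 | h6
            · skip
              rcases Nat.lt_or_ge i 95500 with h7 | h7
              · skip
                exact allRangeF_sound _ _ (checkPointF_eq cert) 95400 100 chkP_95400 i (by omega) (by omega)
              · skip
                rcases Nat.lt_or_ge i 95600 with h8 | h8
                · skip
                  exact allRangeF_sound _ _ (checkPointF_eq cert) 95500 100 chkP_95500 i (by omega) (by omega)
                · skip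
                  exact allRangeF_sound _ _ (checkPointF_eq cert) 95600 100 chkP_95600 i (by omega) (by omega)
            · skip
              rcases Nat.lt_or_ge i 95800 with h7 | h7
              · skip
                exact allRangeF_sound _ _ (checkPointF_eq cert) 95700 100 chkP_95700 i (by omega) (by omega)
              · skip
                rcases Nat.lt_or_ge i 95900 with h8 | h8
                · skip
                  exact allRangeF_sound _ _ (checkPointF_eq cert) 95800 100 chkP_95800 i (by omega) (by omega)
                · skip
                  exact allRangeF_sound _ _ (checkPointF_eq cert) 95900 100 chkP_95900 i (by omega) (by omega)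
    · skip
      rcases Nat.lt_or_ge i 98100 with h3 | h3
      · skip
        rcases Nat.lt_or_ge i 97000 with h4 | h4
        · skip
          rcases Nat.lt_or_ge i 96500 with h5 | h5
          · skip
            rcases Nat.lt_or_ge i 96200 with h6 | h6
            · skip
              rcases Nat.lt_or_ge i 96100 with h7 | h7
              · skip
                exact allRangeF_sound _ _ (checkPointF_eq cert) 96000 100 chkP_96000 i (by omega) (by omega)
              · skip
                exact allRangeF_sound _ _ (checkPointF_eq cert) 96100 100 chkP_96100 i (by omega) (by omega)
            · skip
              rcases Nat.lt_or_ge i 96300 with h7 | h7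
              · skip
                exact allRangeF_sound _ _ (checkPointF_eq cert) 96200 100 chkP_96200 i (by omega) (by omega)
              · skip
                rcases Nat.lt_or_ge i 96400 with h8 | h8
                · skip
                  exact allRangeF_sound _ _ (checkPointF_eq cert) 96300 100 chkP_96300 i (by omega) (by omega)
                · skip
                  exact allRangeF_sound _ _ (checkPointF_eq cert) 96400 100 chkP_96400 i (by omega) (by omega)
          · skip
            rcases Nat.lt_or_ge i 96700 with h6 | h6
            · skip
              rcases Nat.lt_or_ge i 96600 with h7 | h7
              · skip
                exact allRangeF_sound _ _ (checkPointF_eq cert) 96500 100 chkP_96500 i (by omega) (by omega)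
              · skip
                exact allRangeF_sound _ _ (checkPointF_eq cert) 96600 100 chkP_96600 i (by omega) (by omega)
            · skip
              rcases Nat.lt_or_ge i 96800 with h7 | h7
              · skip
                exact allRangeF_sound _ _ (checkPointF_eq cert) 96700 100 chkP_96700 i (by omega) (by omega)
              · skip
                rcases Nat.lt_or_ge i 96900 with h8 | h8
                · skip
                  exact allRangeF_sound _ _ (checkPointF_eq cert) 96800 100 chkP_96800 i (by omega) (by omega)
                · skip
                  exact allRangeF_sound _ _ (checkPointF_eq cert) 96900 100 chkP_96900 i (by omega) (by omega)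
        · skip
          rcases Nat.lt_or_ge i 97500 with h5 | h5
          · skip
            rcases Nat.lt_or_ge i 97200 with h6 | h6
            · skip
              rcases Nat.lt_or_ge i 97100 with h7 | h7
              · skip
                exact allRangeF_sound _ _ (checkPointF_eq cert) 97000 100 chkP_97000 i (by omega) (by omega)
              · skip
                exact allRangeF_sound _ _ (checkPointF_eq cert) 97100 100 chkP_97100 i (by omega) (by omega)
            · skip
              rcases Nat.lt_or_ge i 97300 with h7 | h7
              · skip
                exact allRangeF_sound _ _ (checkPointF_eq cert) 97200 100 chkP_97200 i (by omega) (by omega)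
              · skip
                rcases Nat.lt_or_ge i 97400 with h8 | h8
                · skip
                  exact allRangeF_sound _ _ (checkPointF_eq cert) 97300 100 chkP_97300 i (by omega) (by omega)
                · skip
                  exact allRangeF_sound _ _ (checkPointF_eq cert) 97400 100 chkP_97400 i (by omega) (by omega)
          · skip
            rcases Nat.lt_or_ge i 97800 with h6 | h6
            · skip
              rcases Nat.lt_or_ge i 97600 with h7 | h7
              · skip
                exact allRangeF_sound _ _ (checkPointF_eq cert) 97500 100 chkP_97500 i (by omega) (by omega)
              · skip
                rcases Nat.lt_or_ge i 97700 with h8 | h8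
                · skip
                  exact allRangeF_sound _ _ (checkPointF_eq cert) 97600 100 chkP_97600 i (by omega) (by omega)
                · skip
                  exact allRangeF_sound _ _ (checkPointF_eq cert) 97700 100 chkP_97700 i (by omega) (by omega)
            · skip
              rcases Nat.lt_or_ge i 97900 with h7 | h7
              · skip
                exact allRangeF_sound _ _ (checkPointF_eq cert) 97800 100 chkP_97800 i (by omega) (by omega)
              · skip
                rcases Nat.lt_or_ge i 98000 with h8 | h8
                · skip
                  exact allRangeF_sound _ _ (checkPointF_eq cert) 97900 100 chkP_97900 i (by omega) (by omega)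
                · skip
                  exact allRangeF_sound _ _ (checkPointF_eq cert) 98000 100 chkP_98000 i (by omega) (by omega)
      · skip
        rcases Nat.lt_or_ge i 99100 with h4 | h4
        · skip
          rcases Nat.lt_or_ge i 98600 with h5 | h5
          · skip
            rcases Nat.lt_or_ge i 98300 with h6 | h6
            · skip
              rcases Nat.lt_or_ge i 98200 with h7 | h7
              · skip
                exact allRangeF_sound _ _ (checkPointF_eq cert) 98100 100 chkP_98100 i (by omega) (by omega)
              · skip
                exact allRangeF_sound _ _ (checkPointF_eq cert) 98200 100 chkP_98200 i (by omega) (by omega)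
            · skip
              rcases Nat.lt_or_ge i 98400 with h7 | h7
              · skip
                exact allRangeF_sound _ _ (checkPointF_eq cert) 98300 100 chkP_98300 i (by omega) (by omega)
              · skip
                rcases Nat.lt_or_ge i 98500 with h8 | h8
                · skip
                  exact allRangeF_sound _ _ (checkPointF_eq cert) 98400 100 chkP_98400 i (by omega) (by omega)
                · skip
                  exact allRangeF_sound _ _ (checkPointF_eq cert) 98500 100 chkP_98500 i (by omega) (by omega)
          · skip
            rcases Nat.lt_or_ge i 98800 with h6 | h6
            · skip
              rcases Nat.lt_or_ge i 98700 with h7 | h7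
              · skip
                exact allRangeF_sound _ _ (checkPointF_eq cert) 98600 100 chkP_98600 i (by omega) (by omega)
              · skip
                exact allRangeF_sound _ _ (checkPointF_eq cert) 98700 100 chkP_98700 i (by omega) (by omega)
            · skip
              rcases Nat.lt_or_ge i 98900 with h7 | h7
              · skip
                exact allRangeF_sound _ _ (checkPointF_eq cert) 98800 100 chkP_98800 i (by omega) (by omega)
              · skip
                rcases Nat.lt_or_ge i 99000 with h8 | h8
                · skip
                  exact allRangeF_sound _ _ (checkPointF_eq cert) 98900 100 chkP_98900 i (by omega) (by omega)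
                · skip
                  exact allRangeF_sound _ _ (checkPointF_eq cert) 99000 100 chkP_99000 i (by omega) (by omega)
        · skip
          rcases Nat.lt_or_ge i 99600 with h5 | h5
          · skip
            rcases Nat.lt_or_ge i 99300 with h6 | h6
            · skip
              rcases Nat.lt_or_ge i 99200 with h7 | h7
              · skip
                exact allRangeF_sound _ _ (checkPointF_eq cert) 99100 100 chkP_99100 i (by omega) (by omega)
              · skip
                exact allRangeF_sound _ _ (checkPointF_eq cert) 99200 100 chkP_99200 i (by omega) (by omega)
            · skip
              rcases Nat.lt_or_ge i 99400 with h7 | h7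
              · skip
                exact allRangeF_sound _ _ (checkPointF_eq cert) 99300 100 chkP_99300 i (by omega) (by omega)
              · skip
                rcases Nat.lt_or_ge i 99500 with h8 | h8
                · skip
                  exact allRangeF_sound _ _ (checkPointF_eq cert) 99400 100 chkP_99400 i (by omega) (by omega)
                · skip
                  exact allRangeF_sound _ _ (checkPointF_eq cert) 99500 100 chkP_99500 i (by omega) (by omega)
          · skip
            rcases Nat.lt_or_ge i 99900 with h6 | h6
            · skip
              rcases Nat.lt_or_ge i 99700 with h7 | h7
              · skip
                exact allRangeF_sound _ _ (checkPointF_eq cert) 99600 100 chkP_99600 i (by omega) (by omega)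
              · skip
                rcases Nat.lt_or_ge i 99800 with h8 | h8
                · skip
                  exact allRangeF_sound _ _ (checkPointF_eq cert) 99700 100 chkP_99700 i (by omega) (by omega)
                · skip
                  exact allRangeF_sound _ _ (checkPointF_eq cert) 99800 100 chkP_99800 i (by omega) (by omega)
            · skip
              rcases Nat.lt_or_ge i 100000 with h7 | h7
              · skip
                exact allRangeF_sound _ _ (checkPointF_eq cert) 99900 100 chkP_99900 i (by omega) (by omega)
              · skip
                rcases Nat.lt_or_ge i 100100 with h8 | h8
                · skip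
                  exact allRangeF_sound _ _ (checkPointF_eq cert) 100000 100 chkP_100000 i (by omega) (by omega)
                · skip
                  exact allRangeF_sound _ _ (checkPointF_eq cert) 100100 100 chkP_100100 i (by omega) (by omega)

end Cfsg.Agent.Lib.Helper28.He2Data
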