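import Cfsg.Agent.Lib.Helper28.He2Data
import Cfsg.Agent.Lib.Helper28.TCFast

set_option autoImplicit false
set_option maxRecDepth 1000000
set_option linter.all false
set_option Elab.async false

namespace Cfsg.Agent.Lib.Helper28.He2Data

open Cfsg.Agent.Lib.Helper28

theorem chkP_100200 : allRangeF (checkPointF cert) (nat_lit 100200) (nat_lit 100) = true := by decide +kernel
theorem chkP_100300 : allRangeF (checkPointF cert) (nat_lit 100300) (nat_lit 100) = true := by decide +kernel
theorem chkP_100400 : allRangeF (checkPointF cert) (nat_lit 100400) (nat_lit 100) = true := by decide +kernel
theorem chkP_100500 : allRangeF (checkPointF cert) (nat_lit 100500) (nat_lit 100) = true := by decide +kernel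
theorem chkP_100600 : allRangeF (checkPointF cert) (nat_lit 100600) (nat_lit 100) = true := by decide +kernel
theorem chkP_100700 : allRangeF (checkPointF cert) (nat_lit 100700) (nat_lit 100) = true := by decide +kernel
theorem chkP_100800 : allRangeF (checkPointF cert) (nat_lit 100800) (nat_lit 100) = true := by decide +kernel
theorem chkP_100900 : allRangeF (checkPointF cert) (nat_lit 100900) (nat_lit 100) = true := by decide +kernel
theorem chkP_101000 : allRangeF (checkPointF cert) (nat_lit 101000) (nat_lit 100) = true := by decide +kernel
theorem chkP_101100 : allRangeF (checkPointF cert) (nat_lit 101100) (nat_lit 100) = true := by decide +kernel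
theorem chkP_101200 : allRangeF (checkPointF cert) (nat_lit 101200) (nat_lit 100) = true := by decide +kernel
theorem chkP_101300 : allRangeF (checkPointF cert) (nat_lit 101300) (nat_lit 100) = true := by decide +kernel
theorem chkP_101400 : allRangeF (checkPointF cert) (nat_lit 101400) (nat_lit 100) = true := by decide +kernel
theorem chkP_101500 : allRangeF (checkPointF cert) (nat_lit 101500) (nat_lit 100) = true := by decide +kernel
theorem chkP_101600 : allRangeF (checkPointF cert) (nat_lit 101600) (nat_lit 100) = true := by decide +kernel
theorem chkP_101700 : allRangeF (checkPointF cert) (nat_lit 101700) (nat_lit 100) = true := by decide +kernel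
theorem chkP_101800 : allRangeF (checkPointF cert) (nat_lit 101800) (nat_lit 100) = true := by decide +kernel
theorem chkP_101900 : allRangeF (checkPointF cert) (nat_lit 101900) (nat_lit 100) = true := by decide +kernel
theorem chkP_102000 : allRangeF (checkPointF cert) (nat_lit 102000) (nat_lit 100) = true := by decide +kernel
theorem chkP_102100 : allRangeF (checkPointF cert) (nat_lit 102100) (nat_lit 100) = true := by decide +kernel
theorem chkP_102200 : allRangeF (checkPointF cert) (nat_lit 102200) (nat_lit 100) = true := by decide +kernel
theorem chkP_102300 : allRangeF (checkPointF cert) (nat_lit 102300) (nat_lit 100) = true := by decide +kernel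
theorem chkP_102400 : allRangeF (checkPointF cert) (nat_lit 102400) (nat_lit 100) = true := by decide +kernel
theorem chkP_102500 : allRangeF (checkPointF cert) (nat_lit 102500) (nat_lit 100) = true := by decide +kernel
theorem chkP_102600 : allRangeF (checkPointF cert) (nat_lit 102600) (nat_lit 100) = true := by decide +kernel
theorem chkP_102700 : allRangeF (checkPointF cert) (nat_lit 102700) (nat_lit 100) = true := by decide +kernel
theorem chkP_102800 : allRangeF (checkPointF cert) (nat_lit 102800) (nat_lit 100) = true := by decide +kernel
theorem chkP_102900 : allRangeF (checkPointF cert) (nat_lit 102900) (nat_lit 100) = true := by decide +kernel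
theorem chkP_103000 : allRangeF (checkPointF cert) (nat_lit 103000) (nat_lit 100) = true := by decide +kernel
theorem chkP_103100 : allRangeF (checkPointF cert) (nat_lit 103100) (nat_lit 100) = true := by decide +kernel
theorem chkP_103200 : allRangeF (checkPointF cert) (nat_lit 103200) (nat_lit 100) = true := by decide +kernel
theorem chkP_103300 : allRangeF (checkPointF cert) (nat_lit 103300) (nat_lit 100) = true := by decide +kernel
theorem chkP_103400 : allRangeF (checkPointF cert) (nat_lit 103400) (nat_lit 100) = true := by decide +kernel
theorem chkP_103500 : allRangeF (checkPointF cert) (nat_lit 103500) (nat_lit 100) = true := by decide +kernel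
theorem chkP_103600 : allRangeF (checkPointF cert) (nat_lit 103600) (nat_lit 100) = true := by decide +kernel
theorem chkP_103700 : allRangeF (checkPointF cert) (nat_lit 103700) (nat_lit 100) = true := by decide +kernel
theorem chkP_103800 : allRangeF (checkPointF cert) (nat_lit 103800) (nat_lit 100) = true := by decide +kernel
theorem chkP_103900 : allRangeF (checkPointF cert) (nat_lit 103900) (nat_lit 100) = true := by decide +kernel
theorem chkP_104000 : allRangeF (checkPointF cert) (nat_lit 104000) (nat_lit 100) = true := by decide +kernel
theorem chkP_104100 : allRangeF (checkPointF cert) (nat_lit 104100) (nat_lit 100) = true := by decide +kernel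
theorem chkP_104200 : allRangeF (checkPointF cert) (nat_lit 104200) (nat_lit 100) = true := by decide +kernel
theorem chkP_104300 : allRangeF (checkPointF cert) (nat_lit 104300) (nat_lit 100) = true := by decide +kernel
theorem chkP_104400 : allRangeF (checkPointF cert) (nat_lit 104400) (nat_lit 100) = true := by decide +kernel
theorem chkP_104500 : allRangeF (checkPointF cert) (nat_lit 104500) (nat_lit 100) = true := by decide +kernel
theorem chkP_104600 : allRangeF (checkPointF cert) (nat_lit 104600) (nat_lit 100) = true := by decide +kernel
theorem chkP_104700 : allRangeF (checkPointF cert) (nat_lit 104700) (nat_lit 100) = true := by decide +kernel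
theorem chkP_104800 : allRangeF (checkPointF cert) (nat_lit 104800) (nat_lit 100) = true := by decide +kernel
theorem chkP_104900 : allRangeF (checkPointF cert) (nat_lit 104900) (nat_lit 100) = true := by decide +kernel
theorem chkP_105000 : allRangeF (checkPointF cert) (nat_lit 105000) (nat_lit 100) = true := by decide +kernel
theorem chkP_105100 : allRangeF (checkPointF cert) (nat_lit 105100) (nat_lit 100) = true := by decide +kernel
theorem chkP_105200 : allRangeF (checkPointF cert) (nat_lit 105200) (nat_lit 100) = true := by decide +kernel
theorem chkP_105300 : allRangeF (checkPointF cert) (nat_lit 105300) (nat_lit 100) = true := by decide +kernel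
theorem chkP_105400 : allRangeF (checkPointF cert) (nat_lit 105400) (nat_lit 100) = true := by decide +kernel
theorem chkP_105500 : allRangeF (checkPointF cert) (nat_lit 105500) (nat_lit 100) = true := by decide +kernel
theorem chkP_105600 : allRangeF (checkPointF cert) (nat_lit 105600) (nat_lit 100) = true := by decide +kernel
theorem chkP_105700 : allRangeF (checkPointF cert) (nat_lit 105700) (nat_lit 100) = true := by decide +kernel
theorem chkP_105800 : allRangeF (checkPointF cert) (nat_lit 105800) (nat_lit 100) = true := by decide +kernel
theorem chkP_105900 : allRangeF (checkPointF cert) (nat_lit 105900) (nat_lit 100) = true := by decide +kernel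
theorem chkP_106000 : allRangeF (checkPointF cert) (nat_lit 106000) (nat_lit 100) = true := by decide +kernel
theorem chkP_106100 : allRangeF (checkPointF cert) (nat_lit 106100) (nat_lit 100) = true := by decide +kernel
theorem chkP_106200 : allRangeF (checkPointF cert) (nat_lit 106200) (nat_lit 100) = true := by decide +kernel
theorem chkP_106300 : allRangeF (checkPointF cert) (nat_lit 106300) (nat_lit 100) = true := by decide +kernel
theorem chkP_106400 : allRangeF (checkPointF cert) (nat_lit 106400) (nat_lit 100) = true := by decide +kernel
theorem chkP_106500 : allRangeF (checkPointF cert) (nat_lit 106500) (nat_lit 100) = true := by decide +kernel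
theorem chkP_106600 : allRangeF (checkPointF cert) (nat_lit 106600) (nat_lit 100) = true := by decide +kernel
theorem chkP_106700 : allRangeF (checkPointF cert) (nat_lit 106700) (nat_lit 100) = true := by decide +kernel
theorem chkP_106800 : allRangeF (checkPointF cert) (nat_lit 106800) (nat_lit 100) = true := by decide +kernel
theorem chkP_106900 : allRangeF (checkPointF cert) (nat_lit 106900) (nat_lit 100) = true := by decide +kernel
theorem chkP_107000 : allRangeF (checkPointF cert) (nat_lit 107000) (nat_lit 100) = true := by decide +kernel
theorem chkP_107100 : allRangeF (checkPointF cert) (nat_lit 107100) (nat_lit 100) = true := by decide +kernel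
theorem chkP_107200 : allRangeF (checkPointF cert) (nat_lit 107200) (nat_lit 100) = true := by decide +kernel
theorem chkP_107300 : allRangeF (checkPointF cert) (nat_lit 107300) (nat_lit 100) = true := by decide +kernel
theorem chkP_107400 : allRangeF (checkPointF cert) (nat_lit 107400) (nat_lit 100) = true := by decide +kernel
theorem chkP_107500 : allRangeF (checkPointF cert) (nat_lit 107500) (nat_lit 100) = true := by decide +kernel
theorem chkP_107600 : allRangeF (checkPointF cert) (nat_lit 107600) (nat_lit 100) = true := by decide +kernel
theorem chkP_107700 : allRangeF (checkPointF cert) (nat_lit 107700) (nat_lit 100) = true := by decide +kernel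
theorem chkP_107800 : allRangeF (checkPointF cert) (nat_lit 107800) (nat_lit 100) = true := by decide +kernel
theorem chkP_107900 : allRangeF (checkPointF cert) (nat_lit 107900) (nat_lit 100) = true := by decide +kernel
theorem chkP_108000 : allRangeF (checkPointF cert) (nat_lit 108000) (nat_lit 100) = true := by decide +kernel
theorem chkP_108100 : allRangeF (checkPointF cert) (nat_lit 108100) (nat_lit 100) = true := by decide +kernel
theorem chkP_108200 : allRangeF (checkPointF cert) (nat_lit 108200) (nat_lit 100) = true := by decide +kernel
theorem chkP_108300 : allRangeF (checkPointF cert) (nat_lit 108300) (nat_lit 100) = true := by decide +kernel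
theorem chkP_108400 : allRangeF (checkPointF cert) (nat_lit 108400) (nat_lit 100) = true := by decide +kernel
theorem chkP_108500 : allRangeF (checkPointF cert) (nat_lit 108500) (nat_lit 100) = true := by decide +kernel
theorem chkP_108600 : allRangeF (checkPointF cert) (nat_lit 108600) (nat_lit 100) = true := by decide +kernel
theorem chkP_108700 : allRangeF (checkPointF cert) (nat_lit 108700) (nat_lit 100) = true := by decide +kernel
theorem chkP_108800 : allRangeF (checkPointF cert) (nat_lit 108800) (nat_lit 100) = true := by decide +kernel
theorem chkP_108900 : allRangeF (checkPointF cert) (nat_lit 108900) (nat_lit 100) = true := by decide +kernel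
theorem chkP_109000 : allRangeF (checkPointF cert) (nat_lit 109000) (nat_lit 100) = true := by decide +kernel
theorem chkP_109100 : allRangeF (checkPointF cert) (nat_lit 109100) (nat_lit 100) = true := by decide +kernel
theorem chkP_109200 : allRangeF (checkPointF cert) (nat_lit 109200) (nat_lit 100) = true := by decide +kernel
theorem chkP_109300 : allRangeF (checkPointF cert) (nat_lit 109300) (nat_lit 100) = true := by decide +kernel
theorem chkP_109400 : allRangeF (checkPointF cert) (nat_lit 109400) (nat_lit 100) = true := by decide +kernel
theorem chkP_109500 : allRangeF (checkPointF cert) (nat_lit 109500) (nat_lit 100) = true := by decide +kernel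
theorem chkP_109600 : allRangeF (checkPointF cert) (nat_lit 109600) (nat_lit 100) = true := by decide +kernel
theorem chkP_109700 : allRangeF (checkPointF cert) (nat_lit 109700) (nat_lit 100) = true := by decide +kernel
theorem chkP_109800 : allRangeF (checkPointF cert) (nat_lit 109800) (nat_lit 100) = true := by decide +kernel
theorem chkP_109900 : allRangeF (checkPointF cert) (nat_lit 109900) (nat_lit 100) = true := by decide +kernel
theorem chkP_110000 : allRangeF (checkPointF cert) (nat_lit 110000) (nat_lit 100) = true := by decide +kernel
theorem chkP_110100 : allRangeF (checkPointF cert) (nat_lit 110100) (nat_lit 100) = true := by decide +kernel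
theorem chkP_110200 : allRangeF (checkPointF cert) (nat_lit 110200) (nat_lit 100) = true := by decide +kernel
theorem chkP_110300 : allRangeF (checkPointF cert) (nat_lit 110300) (nat_lit 100) = true := by decide +kernel
theorem chkP_110400 : allRangeF (checkPointF cert) (nat_lit 110400) (nat_lit 100) = true := by decide +kernel
theorem chkP_110500 : allRangeF (checkPointF cert) (nat_lit 110500) (nat_lit 100) = true := by decide +kernel
theorem chkP_110600 : allRangeF (checkPointF cert) (nat_lit 110600) (nat_lit 100) = true := by decide +kernel
theorem chkP_110700 : allRangeF (checkPointF cert) (nat_lit 110700) (nat_lit 100) = true := by decide +kernel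
theorem chkP_110800 : allRangeF (checkPointF cert) (nat_lit 110800) (nat_lit 100) = true := by decide +kernel
theorem chkP_110900 : allRangeF (checkPointF cert) (nat_lit 110900) (nat_lit 100) = true := by decide +kernel
theorem chkP_111000 : allRangeF (checkPointF cert) (nat_lit 111000) (nat_lit 100) = true := by decide +kernel
theorem chkP_111100 : allRangeF (checkPointF cert) (nat_lit 111100) (nat_lit 100) = true := by decide +kernel
theorem chkP_111200 : allRangeF (checkPointF cert) (nat_lit 111200) (nat_lit 100) = true := by decide +kernel
theorem chkP_111300 : allRangeF (checkPointF cert) (nat_lit 111300) (nat_lit 100) = true := by decide +kernel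
theorem chkP_111400 : allRangeF (checkPointF cert) (nat_lit 111400) (nat_lit 100) = true := by decide +kernel
theorem chkP_111500 : allRangeF (checkPointF cert) (nat_lit 111500) (nat_lit 100) = true := by decide +kernel
theorem chkP_111600 : allRangeF (checkPointF cert) (nat_lit 111600) (nat_lit 100) = true := by decide +kernel
theorem chkP_111700 : allRangeF (checkPointF cert) (nat_lit 111700) (nat_lit 100) = true := by decide +kernel
theorem chkP_111800 : allRangeF (checkPointF cert) (nat_lit 111800) (nat_lit 100) = true := by decide +kernel
theorem chkP_111900 : allRangeF (checkPointF cert) (nat_lit 111900) (nat_lit 100) = true := by decide +kernel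
theorem chkP_112000 : allRangeF (checkPointF cert) (nat_lit 112000) (nat_lit 100) = true := by decide +kernel
theorem chkP_112100 : allRangeF (checkPointF cert) (nat_lit 112100) (nat_lit 100) = true := by decide +kernel
theorem chkP_112200 : allRangeF (checkPointF cert) (nat_lit 112200) (nat_lit 100) = true := by decide +kernel
theorem chkP_112300 : allRangeF (checkPointF cert) (nat_lit 112300) (nat_lit 100) = true := by decide +kernel
theorem chkP_112400 : allRangeF (checkPointF cert) (nat_lit 112400) (nat_lit 100) = true := by decide +kernel
theorem chkP_112500 : allRangeF (checkPointF cert) (nat_lit 112500) (nat_lit 100) = true := by decide +kernel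
theorem chkP_112600 : allRangeF (checkPointF cert) (nat_lit 112600) (nat_lit 100) = true := by decide +kernel
theorem chkP_112700 : allRangeF (checkPointF cert) (nat_lit 112700) (nat_lit 100) = true := by decide +kernel
theorem chkP_112800 : allRangeF (checkPointF cert) (nat_lit 112800) (nat_lit 100) = true := by decide +kernel
theorem chkP_112900 : allRangeF (checkPointF cert) (nat_lit 112900) (nat_lit 100) = true := by decide +kernel
theorem chkP_113000 : allRangeF (checkPointF cert) (nat_lit 113000) (nat_lit 100) = true := by decide +kernel
theorem chkP_113100 : allRangeF (checkPointF cert) (nat_lit 113100) (nat_lit 100) = true := by decide +kernel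
theorem chkP_113200 : allRangeF (checkPointF cert) (nat_lit 113200) (nat_lit 100) = true := by decide +kernel
theorem chkP_113300 : allRangeF (checkPointF cert) (nat_lit 113300) (nat_lit 100) = true := by decide +kernel
theorem chkP_113400 : allRangeF (checkPointF cert) (nat_lit 113400) (nat_lit 100) = true := by decide +kernel
theorem chkP_113500 : allRangeF (checkPointF cert) (nat_lit 113500) (nat_lit 100) = true := by decide +kernel
theorem chkP_113600 : allRangeF (checkPointF cert) (nat_lit 113600) (nat_lit 100) = true := by decide +kernel
theorem chkP_113700 : allRangeF (checkPointF cert) (nat_lit 113700) (nat_lit 100) = true := by decide +kernel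
theorem chkP_113800 : allRangeF (checkPointF cert) (nat_lit 113800) (nat_lit 100) = true := by decide +kernel
theorem chkP_113900 : allRangeF (checkPointF cert) (nat_lit 113900) (nat_lit 100) = true := by decide +kernel
theorem chkP_114000 : allRangeF (checkPointF cert) (nat_lit 114000) (nat_lit 100) = true := by decide +kernel
theorem chkP_114100 : allRangeF (checkPointF cert) (nat_lit 114100) (nat_lit 100) = true := by decide +kernel
theorem chkP_114200 : allRangeF (checkPointF cert) (nat_lit 114200) (nat_lit 100) = true := by decide +kernel
theorem chkP_114300 : allRangeF (checkPointF cert) (nat_lit 114300) (nat_lit 100) = true := by decide +kernel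
theorem chkP_114400 : allRangeF (checkPointF cert) (nat_lit 114400) (nat_lit 100) = true := by decide +kernel
theorem chkP_114500 : allRangeF (checkPointF cert) (nat_lit 114500) (nat_lit 100) = true := by decide +kernel
theorem chkP_114600 : allRangeF (checkPointF cert) (nat_lit 114600) (nat_lit 100) = true := by decide +kernel
theorem chkP_114700 : allRangeF (checkPointF cert) (nat_lit 114700) (nat_lit 100) = true := by decide +kernel
theorem chkP_114800 : allRangeF (checkPointF cert) (nat_lit 114800) (nat_lit 100) = true := by decide +kernel
theorem chkP_114900 : allRangeF (checkPointF cert) (nat_lit 114900) (nat_lit 100) = true := by decide +kernel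
theorem chkP_115000 : allRangeF (checkPointF cert) (nat_lit 115000) (nat_lit 100) = true := by decide +kernel
theorem chkP_115100 : allRangeF (checkPointF cert) (nat_lit 115100) (nat_lit 100) = true := by decide +kernel
theorem chkP_115200 : allRangeF (checkPointF cert) (nat_lit 115200) (nat_lit 100) = true := by decide +kernel
theorem chkP_115300 : allRangeF (checkPointF cert) (nat_lit 115300) (nat_lit 100) = true := by decide +kernel
theorem chkP_115400 : allRangeF (checkPointF cert) (nat_lit 115400) (nat_lit 100) = true := by decide +kernel
theorem chkP_115500 : allRangeF (checkPointF cert) (nat_lit 115500) (nat_lit 100) = true := by decide +kernel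
theorem chkP_115600 : allRangeF (checkPointF cert) (nat_lit 115600) (nat_lit 100) = true := by decide +kernel
theorem chkP_115700 : allRangeF (checkPointF cert) (nat_lit 115700) (nat_lit 100) = true := by decide +kernel
theorem chkP_115800 : allRangeF (checkPointF cert) (nat_lit 115800) (nat_lit 100) = true := by decide +kernel
theorem chkP_115900 : allRangeF (checkPointF cert) (nat_lit 115900) (nat_lit 100) = true := by decide +kernel
theorem chkP_116000 : allRangeF (checkPointF cert) (nat_lit 116000) (nat_lit 100) = true := by decide +kernel
theorem chkP_116100 : allRangeF (checkPointF cert) (nat_lit 116100) (nat_lit 100) = true := by decide +kernel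
theorem chkP_116200 : allRangeF (checkPointF cert) (nat_lit 116200) (nat_lit 100) = true := by decide +kernel
theorem chkP_116300 : allRangeF (checkPointF cert) (nat_lit 116300) (nat_lit 100) = true := by decide +kernel
theorem chkP_116400 : allRangeF (checkPointF cert) (nat_lit 116400) (nat_lit 100) = true := by decide +kernel
theorem chkP_116500 : allRangeF (checkPointF cert) (nat_lit 116500) (nat_lit 100) = true := by decide +kernel
theorem chkP_116600 : allRangeF (checkPointF cert) (nat_lit 116600) (nat_lit 100) = true := by decide +kernel
theorem chkP_116700 : allRangeF (checkPointF cert) (nat_lit 116700) (nat_lit 100) = true := by decide +kernel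
theorem chkP_116800 : allRangeF (checkPointF cert) (nat_lit 116800) (nat_lit 100) = true := by decide +kernel

theorem ptsRange_6 : ∀ i, 100200 ≤ i → i < 116900 → checkPoint cert i = true := by
  intro i hlo hhi
  rcases Nat.lt_or_ge i 108500 with h1 | h1
  · skip
    rcases Nat.lt_or_ge i 104300 with h2 | h2
    · skip
      rcases Nat.lt_or_ge i 102200 with h3 | h3
      · skip
        rcases Nat.lt_or_ge i 101200 with h4 | h4
        · skip
          rcases Nat.lt_or_ge i 100700 with h5 | h5
          · skip
            rcases Nat.lt_or_ge i 100400 with h6 | h6
            · skip
              rcases Nat.lt_or_ge i 100300 with h7 | h7
              · skip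
                exact allRangeF_sound _ _ (checkPointF_eq cert) 100200 100 chkP_100200 i (by omega) (by omega)
              · skip
                exact allRangeF_sound _ _ (checkPointF_eq cert) 100300 100 chkP_100300 i (by omega) (by omega)
            · skip
              rcases Nat.lt_or_ge i 100500 with h7 | h7
              · skip
                exact allRangeF_sound _ _ (checkPointF_eq cert) 100400 100 chkP_100400 i (by omega) (by omega)
              · skip
                rcases Nat.lt_or_ge i 100600 with h8 | h8
                · skip
                  exact allRangeF_sound _ _ (checkPointF_eq cert) 100500 100 chkP_100500 i (by omega) (by omega)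
                · skip
                  exact allRangeF_sound _ _ (checkPointF_eq cert) 100600 100 chkP_100600 i (by omega) (by omega)
          · skip
            rcases Nat.lt_or_ge i 100900 with h6 | h6
            · skip
              rcases Nat.lt_or_ge i 100800 with h7 | h7
              · skip
                exact allRangeF_sound _ _ (checkPointF_eq cert) 100700 100 chkP_100700 i (by omega) (by omega)
              · skip
                exact allRangeF_sound _ _ (checkPointF_eq cert) 100800 100 chkP_100800 i (by omega) (by omega)
            · skip
              rcases Nat.lt_or_ge i 101000 with h7 | h7
              · skip
                exact allRangeF_sound _ _ (checkPointF_eq cert) 100900 100 chkP_100900 i (by omega) (by omega)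
              · skip
                rcases Nat.lt_or_ge i 101100 with h8 | h8
                · skip
                  exact allRangeF_sound _ _ (checkPointF_eq cert) 101000 100 chkP_101000 i (by omega) (by omega)
                · skip
                  exact allRangeF_sound _ _ (checkPointF_eq cert) 101100 100 chkP_101100 i (by omega) (by omega)
        · skip
          rcases Nat.lt_or_ge i 101700 with h5 | h5
          · skip
            rcases Nat.lt_or_ge i 101400 with h6 | h6
            · skip
              rcases Nat.lt_or_ge i 101300 with h7 | h7
              · skip
                exact allRangeF_sound _ _ (checkPointF_eq cert) 101200 100 chkP_101200 i (by omega) (by omega)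
              · skip
                exact allRangeF_sound _ _ (checkPointF_eq cert) 101300 100 chkP_101300 i (by omega) (by omega)
            · skip
              rcases Nat.lt_or_ge i 101500 with h7 | h7
              · skip
                exact allRangeF_sound _ _ (checkPointF_eq cert) 101400 100 chkP_101400 i (by omega) (by omega)
              · skip
                rcases Nat.lt_or_ge i 101600 with h8 | h8
                · skip
                  exact allRangeF_sound _ _ (checkPointF_eq cert) 101500 100 chkP_101500 i (by omega) (by omega)
                · skip
                  exact allRangeF_sound _ _ (checkPointF_eq cert) 101600 100 chkP_101600 i (by omega) (by omega)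
          · skip
            rcases Nat.lt_or_ge i 101900 with h6 | h6
            · skip
              rcases Nat.lt_or_ge i 101800 with h7 | h7
              · skip
                exact allRangeF_sound _ _ (checkPointF_eq cert) 101700 100 chkP_101700 i (by omega) (by omega)
              · skip
                exact allRangeF_sound _ _ (checkPointF_eq cert) 101800 100 chkP_101800 i (by omega) (by omega)
            · skip
              rcases Nat.lt_or_ge i 102000 with h7 | h7
              · skip
                exact allRangeF_sound _ _ (checkPointF_eq cert) 101900 100 chkP_101900 i (by omega) (by omega)
              · skip
                rcases Nat.lt_or_ge i 102100 with h8 | h8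
                · skip
                  exact allRangeF_sound _ _ (checkPointF_eq cert) 102000 100 chkP_102000 i (by omega) (by omega)
                · skip
                  exact allRangeF_sound _ _ (checkPointF_eq cert) 102100 100 chkP_102100 i (by omega) (by omega)
      · skip
        rcases Nat.lt_or_ge i 103200 with h4 | h4
        · skip
          rcases Nat.lt_or_ge i 102700 with h5 | h5
          · skip
            rcases Nat.lt_or_ge i 102400 with h6 | h6
            · skip
              rcases Nat.lt_or_ge i 102300 with h7 | h7
              · skip
                exact allRangeF_sound _ _ (checkPointF_eq cert) 102200 100 chkP_102200 i (by omega) (by omega)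
              · skip
                exact allRangeF_sound _ _ (checkPointF_eq cert) 102300 100 chkP_102300 i (by omega) (by omega)
            · skip
              rcases Nat.lt_or_ge i 102500 with h7 | h7
              · skip
                exact allRangeF_sound _ _ (checkPointF_eq cert) 102400 100 chkP_102400 i (by omega) (by omega)
              · skip
                rcases Nat.lt_or_ge i 102600 with h8 | h8
                · skip
                  exact allRangeF_sound _ _ (checkPointF_eq cert) 102500 100 chkP_102500 i (by omega) (by omega)
                · skip
                  exact allRangeF_sound _ _ (checkPointF_eq cert) 102600 100 chkP_102600 i (by omega) (by omega)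
          · skip
            rcases Nat.lt_or_ge i 102900 with h6 | h6
            · skip
              rcases Nat.lt_or_ge i 102800 with h7 | h7
              · skip
                exact allRangeF_sound _ _ (checkPointF_eq cert) 102700 100 chkP_102700 i (by omega) (by omega)
              · skip
                exact allRangeF_sound _ _ (checkPointF_eq cert) 102800 100 chkP_102800 i (by omega) (by omega)
            · skip
              rcases Nat.lt_or_ge i 103000 with h7 | h7
              · skip
                exact allRangeF_sound _ _ (checkPointF_eq cert) 102900 100 chkP_102900 i (by omega) (by omega)
              · skip
                rcases Nat.lt_or_ge i 103100 with h8 | h8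
                · skip
                  exact allRangeF_sound _ _ (checkPointF_eq cert) 103000 100 chkP_103000 i (by omega) (by omega)
                · skip
                  exact allRangeF_sound _ _ (checkPointF_eq cert) 103100 100 chkP_103100 i (by omega) (by omega)
        · skip
          rcases Nat.lt_or_ge i 103700 with h5 | h5
          · skip
            rcases Nat.lt_or_ge i 103400 with h6 | h6
            · skip
              rcases Nat.lt_or_ge i 103300 with h7 | h7
              · skip
                exact allRangeF_sound _ _ (checkPointF_eq cert) 103200 100 chkP_103200 i (by omega) (by omega)
              · skip
                exact allRangeF_sound _ _ (checkPointF_eq cert) 103300 100 chkP_103300 i (by omega) (by omega)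
            · skip
              rcases Nat.lt_or_ge i 103500 with h7 | h7
              · skip
                exact allRangeF_sound _ _ (checkPointF_eq cert) 103400 100 chkP_103400 i (by omega) (by omega)
              · skip
                rcases Nat.lt_or_ge i 103600 with h8 | h8
                · skip
                  exact allRangeF_sound _ _ (checkPointF_eq cert) 103500 100 chkP_103500 i (by omega) (by omega)
                · skip
                  exact allRangeF_sound _ _ (checkPointF_eq cert) 103600 100 chkP_103600 i (by omega) (by omega)
          · skip
            rcases Nat.lt_or_ge i 104000 with h6 | h6
            · skip
              rcases Nat.lt_or_ge i 103800 with h7 | h7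
              · skip
                exact allRangeF_sound _ _ (checkPointF_eq cert) 103700 100 chkP_103700 i (by omega) (by omega)
              · skip
                rcases Nat.lt_or_ge i 103900 with h8 | h8
                · skip
                  exact allRangeF_sound _ _ (checkPointF_eq cert) 103800 100 chkP_103800 i (by omega) (by omega)
                · skip
                  exact allRangeF_sound _ _ (checkPointF_eq cert) 103900 100 chkP_103900 i (by omega) (by omega)
            · skip
              rcases Nat.lt_or_ge i 104100 with h7 | h7
              · skip
                exact allRangeF_sound _ _ (checkPointF_eq cert) 104000 100 chkP_104000 i (by omega) (by omega)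
              · skip
                rcases Nat.lt_or_ge i 104200 with h8 | h8
                · skip
                  exact allRangeF_sound _ _ (checkPointF_eq cert) 104100 100 chkP_104100 i (by omega) (by omega)
                · skip
                  exact allRangeF_sound _ _ (checkPointF_eq cert) 104200 100 chkP_104200 i (by omega) (by omega)
    · skip
      rcases Nat.lt_or_ge i 106400 with h3 | h3
      · skip
        rcases Nat.lt_or_ge i 105300 with h4 | h4
        · skip
          rcases Nat.lt_or_ge i 104800 with h5 | h5
          · skip
            rcases Nat.lt_or_ge i 104500 with h6 | h6
            · skip
              rcases Nat.lt_or_ge i 104400 with h7 | h7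
              · skip
                exact allRangeF_sound _ _ (checkPointF_eq cert) 104300 100 chkP_104300 i (by omega) (by omega)
              · skip
                exact allRangeF_sound _ _ (checkPointF_eq cert) 104400 100 chkP_104400 i (by omega) (by omega)
            · skip
              rcases Nat.lt_or_ge i 104600 with h7 | h7
              · skip
                exact allRangeF_sound _ _ (checkPointF_eq cert) 104500 100 chkP_104500 i (by omega) (by omega)
              · skip
                rcases Nat.lt_or_ge i 104700 with h8 | h8
                · skip
                  exact allRangeF_sound _ _ (checkPointF_eq cert) 104600 100 chkP_104600 i (by omega) (by omega)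
                · skip
                  exact allRangeF_sound _ _ (checkPointF_eq cert) 104700 100 chkP_104700 i (by omega) (by omega)
          · skip
            rcases Nat.lt_or_ge i 105000 with h6 | h6
            · skip
              rcases Nat.lt_or_ge i 104900 with h7 | h7
              · skip
                exact allRangeF_sound _ _ (checkPointF_eq cert) 104800 100 chkP_104800 i (by omega) (by omega)
              · skip
                exact allRangeF_sound _ _ (checkPointF_eq cert) 104900 100 chkP_104900 i (by omega) (by omega)
            · skip
              rcases Nat.lt_or_ge i 105100 with h7 | h7
              · skip
                exact allRangeF_sound _ _ (checkPointF_eq cert) 105000 100 chkP_105000 i (by omega) (by omega)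
              · skip
                rcases Nat.lt_or_ge i 105200 with h8 | h8
                · skip
                  exact allRangeF_sound _ _ (checkPointF_eq cert) 105100 100 chkP_105100 i (by omega) (by omega)
                · skip
                  exact allRangeF_sound _ _ (checkPointF_eq cert) 105200 100 chkP_105200 i (by omega) (by omega)
        · skip
          rcases Nat.lt_or_ge i 105800 with h5 | h5
          · skip
            rcases Nat.lt_or_ge i 105500 with h6 | h6
            · skip
              rcases Nat.lt_or_ge i 105400 with h7 | h7
              · skip
                exact allRangeF_sound _ _ (checkPointF_eq cert) 105300 100 chkP_105300 i (by omega) (by omega)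
              · skip
                exact allRangeF_sound _ _ (checkPointF_eq cert) 105400 100 chkP_105400 i (by omega) (by omega)
            · skip
              rcases Nat.lt_or_ge i 105600 with h7 | h7
              · skip
                exact allRangeF_sound _ _ (checkPointF_eq cert) 105500 100 chkP_105500 i (by omega) (by omega)
              · skip
                rcases Nat.lt_or_ge i 105700 with h8 | h8
                · skip
                  exact allRangeF_sound _ _ (checkPointF_eq cert) 105600 100 chkP_105600 i (by omega) (by omega)
                · skip
                  exact allRangeF_sound _ _ (checkPointF_eq cert) 105700 100 chkP_105700 i (by omega) (by omega)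
          · skip
            rcases Nat.lt_or_ge i 106100 with h6 | h6
            · skip
              rcases Nat.lt_or_ge i 105900 with h7 | h7
              · skip
                exact allRangeF_sound _ _ (checkPointF_eq cert) 105800 100 chkP_105800 i (by omega) (by omega)
              · skip
                rcases Nat.lt_or_ge i 106000 with h8 | h8
                · skip
                  exact allRangeF_sound _ _ (checkPointF_eq cert) 105900 100 chkP_105900 i (by omega) (by omega)
                · skip
                  exact allRangeF_sound _ _ (checkPointF_eq cert) 106000 100 chkP_106000 i (by omega) (by omega)
            · skip
              rcases Nat.lt_or_ge i 106200 with h7 | h7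
              · skip
                exact allRangeF_sound _ _ (checkPointF_eq cert) 106100 100 chkP_106100 i (by omega) (by omega)
              · skip
                rcases Nat.lt_or_ge i 106300 with h8 | h8
                · skip
                  exact allRangeF_sound _ _ (checkPointF_eq cert) 106200 100 chkP_106200 i (by omega) (by omega)
                · skip
                  exact allRangeF_sound _ _ (checkPointF_eq cert) 106300 100 chkP_106300 i (by omega) (by omega)
      · skip
        rcases Nat.lt_or_ge i 107400 with h4 | h4
        · skip
          rcases Nat.lt_or_ge i 106900 with h5 | h5
          · skip
            rcases Nat.lt_or_ge i 106600 with h6 | h6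
            · skip
              rcases Nat.lt_or_ge i 106500 with h7 | h7
              · skip
                exact allRangeF_sound _ _ (checkPointF_eq cert) 106400 100 chkP_106400 i (by omega) (by omega)
              · skip
                exact allRangeF_sound _ _ (checkPointF_eq cert) 106500 100 chkP_106500 i (by omega) (by omega)
            · skip
              rcases Nat.lt_or_ge i 106700 with h7 | h7
              · skip
                exact allRangeF_sound _ _ (checkPointF_eq cert) 106600 100 chkP_106600 i (by omega) (by omega)
              · skip
                rcases Nat.lt_or_ge i 106800 with h8 | h8
                · skip
                  exact allRangeF_sound _ _ (checkPointF_eq cert) 106700 100 chkP_106700 i (by omega) (by omega)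
                · skip
                  exact allRangeF_sound _ _ (checkPointF_eq cert) 106800 100 chkP_106800 i (by omega) (by omega)
          · skip
            rcases Nat.lt_or_ge i 107100 with h6 | h6
            · skip
              rcases Nat.lt_or_ge i 107000 with h7 | h7
              · skip
                exact allRangeF_sound _ _ (checkPointF_eq cert) 106900 100 chkP_106900 i (by omega) (by omega)
              · skip
                exact allRangeF_sound _ _ (checkPointF_eq cert) 107000 100 chkP_107000 i (by omega) (by omega)
            · skip
              rcases Nat.lt_or_ge i 107200 with h7 | h7
              · skip
                exact allRangeF_sound _ _ (checkPointF_eq cert) 107100 100 chkP_107100 i (by omega) (by omega)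
              · skip
                rcases Nat.lt_or_ge i 107300 with h8 | h8
                · skip
                  exact allRangeF_sound _ _ (checkPointF_eq cert) 107200 100 chkP_107200 i (by omega) (by omega)
                · skip
                  exact allRangeF_sound _ _ (checkPointF_eq cert) 107300 100 chkP_107300 i (by omega) (by omega)
        · skip
          rcases Nat.lt_or_ge i 107900 with h5 | h5
          · skip
            rcases Nat.lt_or_ge i 107600 with h6 | h6
            · skip
              rcases Nat.lt_or_ge i 107500 with h7 | h7
              · skip
                exact allRangeF_sound _ _ (checkPointF_eq cert) 107400 100 chkP_107400 i (by omega) (by omega)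
              · skip
                exact allRangeF_sound _ _ (checkPointF_eq cert) 107500 100 chkP_107500 i (by omega) (by omega)
            · skip
              rcases Nat.lt_or_ge i 107700 with h7 | h7
              · skip
                exact allRangeF_sound _ _ (checkPointF_eq cert) 107600 100 chkP_107600 i (by omega) (by omega)
              · skip
                rcases Nat.lt_or_ge i 107800 with h8 | h8
                · skip
                  exact allRangeF_sound _ _ (checkPointF_eq cert) 107700 100 chkP_107700 i (by omega) (by omega)
                · skip
                  exact allRangeF_sound _ _ (checkPointF_eq cert) 107800 100 chkP_107800 i (by omega) (by omega)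
          · skip
            rcases Nat.lt_or_ge i 108200 with h6 | h6
            · skip
              rcases Nat.lt_or_ge i 108000 with h7 | h7
              · skip
                exact allRangeF_sound _ _ (checkPointF_eq cert) 107900 100 chkP_107900 i (by omega) (by omega)
              · skip
                rcases Nat.lt_or_ge i 108100 with h8 | h8
                · skip
                  exact allRangeF_sound _ _ (checkPointF_eq cert) 108000 100 chkP_108000 i (by omega) (by omega)
                · skip
                  exact allRangeF_sound _ _ (checkPointF_eq cert) 108100 100 chkP_108100 i (by omega) (by omega)
            · skip
              rcases Nat.lt_or_ge i 108300 with h7 | h7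
              · skip
                exact allRangeF_sound _ _ (checkPointF_eq cert) 108200 100 chkP_108200 i (by omega) (by omega)
              · skip
                rcases Nat.lt_or_ge i 108400 with h8 | h8
                · skip
                  exact allRangeF_sound _ _ (checkPointF_eq cert) 108300 100 chkP_108300 i (by omega) (by omega)
                · skip
                  exact allRangeF_sound _ _ (checkPointF_eq cert) 108400 100 chkP_108400 i (by omega) (by omega)
  · skip
    rcases Nat.lt_or_ge i 112700 with h2 | h2
    · skip
      rcases Nat.lt_or_ge i 110600 with h3 | h3
      · skip
        rcases Nat.lt_or_ge i 109500 with h4 | h4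
        · skip
          rcases Nat.lt_or_ge i 109000 with h5 | h5
          · skip
            rcases Nat.lt_or_ge i 108700 with h6 | h6
            · skip
              rcases Nat.lt_or_ge i 108600 with h7 | h7
              · skip
                exact allRangeF_sound _ _ (checkPointF_eq cert) 108500 100 chkP_108500 i (by omega) (by omega)
              · skip
                exact allRangeF_sound _ _ (checkPointF_eq cert) 108600 100 chkP_108600 i (by omega) (by omega)
            · skip
              rcases Nat.lt_or_ge i 108800 with h7 | h7
              · skip
                exact allRangeF_sound _ _ (checkPointF_eq cert) 108700 100 chkP_108700 i (by omega) (by omega)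
              · skip
                rcases Nat.lt_or_ge i 108900 with h8 | h8
                · skip
                  exact allRangeF_sound _ _ (checkPointF_eq cert) 108800 100 chkP_108800 i (by omega) (by omega)
                · skip
                  exact allRangeF_sound _ _ (checkPointF_eq cert) 108900 100 chkP_108900 i (by omega) (by omega)
          · skip
            rcases Nat.lt_or_ge i 109200 with h6 | h6
            · skip
              rcases Nat.lt_or_ge i 109100 with h7 | h7
              · skip
                exact allRangeF_sound _ _ (checkPointF_eq cert) 109000 100 chkP_109000 i (by omega) (by omega)
              · skip
                exact allRangeF_sound _ _ (checkPointF_eq cert) 109100 100 chkP_109100 i (by omega) (by omega)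
            · skip
              rcases Nat.lt_or_ge i 109300 with h7 | h7
              · skip
                exact allRangeF_sound _ _ (checkPointF_eq cert) 109200 100 chkP_109200 i (by omega) (by omega)
              · skip
                rcases Nat.lt_or_ge i 109400 with h8 | h8
                · skip
                  exact allRangeF_sound _ _ (checkPointF_eq cert) 109300 100 chkP_109300 i (by omega) (by omega)
                · skip
                  exact allRangeF_sound _ _ (checkPointF_eq cert) 109400 100 chkP_109400 i (by omega) (by omega)
        · skip
          rcases Nat.lt_or_ge i 110000 with h5 | h5
          · skip
            rcases Nat.lt_or_ge i 109700 with h6 | h6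
            · skip
              rcases Nat.lt_or_ge i 109600 with h7 | h7
              · skip
                exact allRangeF_sound _ _ (checkPointF_eq cert) 109500 100 chkP_109500 i (by omega) (by omega)
              · skip
                exact allRangeF_sound _ _ (checkPointF_eq cert) 109600 100 chkP_109600 i (by omega) (by omega)
            · skip
              rcases Nat.lt_or_ge i 109800 with h7 | h7
              · skip
                exact allRangeF_sound _ _ (checkPointF_eq cert) 109700 100 chkP_109700 i (by omega) (by omega)
              · skip
                rcases Nat.lt_or_ge i 109900 with h8 | h8
                · skip
                  exact allRangeF_sound _ _ (checkPointF_eq cert) 109800 100 chkP_109800 i (by omega) (by omega)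
                · skip
                  exact allRangeF_sound _ _ (checkPointF_eq cert) 109900 100 chkP_109900 i (by omega) (by omega)
          · skip
            rcases Nat.lt_or_ge i 110300 with h6 | h6
            · skip
              rcases Nat.lt_or_ge i 110100 with h7 | h7
              · skip
                exact allRangeF_sound _ _ (checkPointF_eq cert) 110000 100 chkP_110000 i (by omega) (by omega)
              · skip
                rcases Nat.lt_or_ge i 110200 with h8 | h8
                · skip
                  exact allRangeF_sound _ _ (checkPointF_eq cert) 110100 100 chkP_110100 i (by omega) (by omega)
                · skip
                  exact allRangeF_sound _ _ (checkPointF_eq cert) 110200 100 chkP_110200 i (by omega) (by omega)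
            · skip
              rcases Nat.lt_or_ge i 110400 with h7 | h7
              · skip
                exact allRangeF_sound _ _ (checkPointF_eq cert) 110300 100 chkP_110300 i (by omega) (by omega)
              · skip
                rcases Nat.lt_or_ge i 110500 with h8 | h8
                · skip
                  exact allRangeF_sound _ _ (checkPointF_eq cert) 110400 100 chkP_110400 i (by omega) (by omega)
                · skip
                  exact allRangeF_sound _ _ (checkPointF_eq cert) 110500 100 chkP_110500 i (by omega) (by omega)
      · skip
        rcases Nat.lt_or_ge i 111600 with h4 | h4
        · skip
          rcases Nat.lt_or_ge i 111100 with h5 | h5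
          · skip
            rcases Nat.lt_or_ge i 110800 with h6 | h6
            · skip
              rcases Nat.lt_or_ge i 110700 with h7 | h7
              · skip
                exact allRangeF_sound _ _ (checkPointF_eq cert) 110600 100 chkP_110600 i (by omega) (by omega)
              · skip
                exact allRangeF_sound _ _ (checkPointF_eq cert) 110700 100 chkP_110700 i (by omega) (by omega)
            · skip
              rcases Nat.lt_or_ge i 110900 with h7 | h7
              · skip
                exact allRangeF_sound _ _ (checkPointF_eq cert) 110800 100 chkP_110800 i (by omega) (by omega)
              · skip
                rcases Nat.lt_or_ge i 111000 with h8 | h8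
                · skip
                  exact allRangeF_sound _ _ (checkPointF_eq cert) 110900 100 chkP_110900 i (by omega) (by omega)
                · skip
                  exact allRangeF_sound _ _ (checkPointF_eq cert) 111000 100 chkP_111000 i (by omega) (by omega)
          · skip
            rcases Nat.lt_or_ge i 111300 with h6 | h6
            · skip
              rcases Nat.lt_or_ge i 111200 with h7 | h7
              · skip
                exact allRangeF_sound _ _ (checkPointF_eq cert) 111100 100 chkP_111100 i (by omega) (by omega)
              · skip
                exact allRangeF_sound _ _ (checkPointF_eq cert) 111200 100 chkP_111200 i (by omega) (by omega)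
            · skip
              rcases Nat.lt_or_ge i 111400 with h7 | h7
              · skip
                exact allRangeF_sound _ _ (checkPointF_eq cert) 111300 100 chkP_111300 i (by omega) (by omega)
              · skip
                rcases Nat.lt_or_ge i 111500 with h8 | h8
                · skip
                  exact allRangeF_sound _ _ (checkPointF_eq cert) 111400 100 chkP_111400 i (by omega) (by omega)
                · skip
                  exact allRangeF_sound _ _ (checkPointF_eq cert) 111500 100 chkP_111500 i (by omega) (by omega)
        · skip
          rcases Nat.lt_or_ge i 112100 with h5 | h5
          · skip
            rcases Nat.lt_or_ge i 111800 with h6 | h6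
            · skip
              rcases Nat.lt_or_ge i 111700 with h7 | h7
              · skip
                exact allRangeF_sound _ _ (checkPointF_eq cert) 111600 100 chkP_111600 i (by omega) (by omega)
              · skip
                exact allRangeF_sound _ _ (checkPointF_eq cert) 111700 100 chkP_111700 i (by omega) (by omega)
            · skip
              rcases Nat.lt_or_ge i 111900 with h7 | h7
              · skip
                exact allRangeF_sound _ _ (checkPointF_eq cert) 111800 100 chkP_111800 i (by omega) (by omega)
              · skip
                rcases Nat.lt_or_ge i 112000 with h8 | h8
                · skip
                  exact allRangeF_sound _ _ (checkPointF_eq cert) 111900 100 chkP_111900 i (by omega) (by omega)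
                · skip
                  exact allRangeF_sound _ _ (checkPointF_eq cert) 112000 100 chkP_112000 i (by omega) (by omega)
          · skip
            rcases Nat.lt_or_ge i 112400 with h6 | h6
            · skip
              rcases Nat.lt_or_ge i 112200 with h7 | h7
              · skip
                exact allRangeF_sound _ _ (checkPointF_eq cert) 112100 100 chkP_112100 i (by omega) (by omega)
              · skip
                rcases Nat.lt_or_ge i 112300 with h8 | h8
                · skip
                  exact allRangeF_sound _ _ (checkPointF_eq cert) 112200 100 chkP_112200 i (by omega) (by omega)
                · skip
                  exact allRangeF_sound _ _ (checkPointF_eq cert) 112300 100 chkP_112300 i (by omega) (by omega)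
            · skip
              rcases Nat.lt_or_ge i 112500 with h7 | h7
              · skip
                exact allRangeF_sound _ _ (checkPointF_eq cert) 112400 100 chkP_112400 i (by omega) (by omega)
              · skip
                rcases Nat.lt_or_ge i 112600 with h8 | h8
                · skip
                  exact allRangeF_sound _ _ (checkPointF_eq cert) 112500 100 chkP_112500 i (by omega) (by omega)
                · skip
                  exact allRangeF_sound _ _ (checkPointF_eq cert) 112600 100 chkP_112600 i (by omega) (by omega)
    · skip
      rcases Nat.lt_or_ge i 114800 with h3 | h3
      · skip
        rcases Nat.lt_or_ge i 113700 with h4 | h4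
        · skip
          rcases Nat.lt_or_ge i 113200 with h5 | h5
          · skip
            rcases Nat.lt_or_ge i 112900 with h6 | h6
            · skip
              rcases Nat.lt_or_ge i 112800 with h7 | h7
              · skip
                exact allRangeF_sound _ _ (checkPointF_eq cert) 112700 100 chkP_112700 i (by omega) (by omega)
              · skip
                exact allRangeF_sound _ _ (checkPointF_eq cert) 112800 100 chkP_112800 i (by omega) (by omega)
            · skip
              rcases Nat.lt_or_ge i 113000 with h7 | h7
              · skip
                exact allRangeF_sound _ _ (checkPointF_eq cert) 112900 100 chkP_112900 i (by omega) (by omega)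
              · skip
                rcases Nat.lt_or_ge i 113100 with h8 | h8
                · skip
                  exact allRangeF_sound _ _ (checkPointF_eq cert) 113000 100 chkP_113000 i (by omega) (by omega)
                · skip
                  exact allRangeF_sound _ _ (checkPointF_eq cert) 113100 100 chkP_113100 i (by omega) (by omega)
          · skip
            rcases Nat.lt_or_ge i 113400 with h6 | h6
            · skip
              rcases Nat.lt_or_ge i 113300 with h7 | h7
              · skip
                exact allRangeF_sound _ _ (checkPointF_eq cert) 113200 100 chkP_113200 i (by omega) (by omega)
              · skip
                exact allRangeF_sound _ _ (checkPointF_eq cert) 113300 100 chkP_113300 i (by omega) (by omega)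
            · skip
              rcases Nat.lt_or_ge i 113500 with h7 | h7
              · skip
                exact allRangeF_sound _ _ (checkPointF_eq cert) 113400 100 chkP_113400 i (by omega) (by omega)
              · skip
                rcases Nat.lt_or_ge i 113600 with h8 | h8
                · skip
                  exact allRangeF_sound _ _ (checkPointF_eq cert) 113500 100 chkP_113500 i (by omega) (by omega)
                · skip
                  exact allRangeF_sound _ _ (checkPointF_eq cert) 113600 100 chkP_113600 i (by omega) (by omega)
        · skip
          rcases Nat.lt_or_ge i 114200 with h5 | h5
          · skip
            rcases Nat.lt_or_ge i 113900 with h6 | h6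
            · skip
              rcases Nat.lt_or_ge i 113800 with h7 | h7
              · skip
                exact allRangeF_sound _ _ (checkPointF_eq cert) 113700 100 chkP_113700 i (by omega) (by omega)
              · skip
                exact allRangeF_sound _ _ (checkPointF_eq cert) 113800 100 chkP_113800 i (by omega) (by omega)
            · skip
              rcases Nat.lt_or_ge i 114000 with h7 | h7
              · skip
                exact allRangeF_sound _ _ (checkPointF_eq cert) 113900 100 chkP_113900 i (by omega) (by omega)
              · skip
                rcases Nat.lt_or_ge i 114100 with h8 | h8
                · skip
                  exact allRangeF_sound _ _ (checkPointF_eq cert) 114000 100 chkP_114000 i (by omega) (by omega)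
                · skip
                  exact allRangeF_sound _ _ (checkPointF_eq cert) 114100 100 chkP_114100 i (by omega) (by omega)
          · skip
            rcases Nat.lt_or_ge i 114500 with h6 | h6
            · skip
              rcases Nat.lt_or_ge i 114300 with h7 | h7
              · skip
                exact allRangeF_sound _ _ (checkPointF_eq cert) 114200 100 chkP_114200 i (by omega) (by omega)
              · skip
                rcases Nat.lt_or_ge i 114400 with h8 | h8
                · skip
                  exact allRangeF_sound _ _ (checkPointF_eq cert) 114300 100 chkP_114300 i (by omega) (by omega)
                · skip
                  exact allRangeF_sound _ _ (checkPointF_eq cert) 114400 100 chkP_114400 i (by omega) (by omega)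
            · skip
              rcases Nat.lt_or_ge i 114600 with h7 | h7
              · skip
                exact allRangeF_sound _ _ (checkPointF_eq cert) 114500 100 chkP_114500 i (by omega) (by omega)
              · skip
                rcases Nat.lt_or_ge i 114700 with h8 | h8
                · skip
                  exact allRangeF_sound _ _ (checkPointF_eq cert) 114600 100 chkP_114600 i (by omega) (by omega)
                · skip
                  exact allRangeF_sound _ _ (checkPointF_eq cert) 114700 100 chkP_114700 i (by omega) (by omega)
      · skip
        rcases Nat.lt_or_ge i 115800 with h4 | h4
        · skip
          rcases Nat.lt_or_ge i 115300 with h5 | h5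
          · skip
            rcases Nat.lt_or_ge i 115000 with h6 | h6
            · skip
              rcases Nat.lt_or_ge i 114900 with h7 | h7
              · skip
                exact allRangeF_sound _ _ (checkPointF_eq cert) 114800 100 chkP_114800 i (by omega) (by omega)
              · skip
                exact allRangeF_sound _ _ (checkPointF_eq cert) 114900 100 chkP_114900 i (by omega) (by omega)
            · skip
              rcases Nat.lt_or_ge i 115100 with h7 | h7
              · skip
                exact allRangeF_sound _ _ (checkPointF_eq cert) 115000 100 chkP_115000 i (by omega) (by omega)
              · skip
                rcases Nat.lt_or_ge i 115200 with h8 | h8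
                · skip
                  exact allRangeF_sound _ _ (checkPointF_eq cert) 115100 100 chkP_115100 i (by omega) (by omega)
                · skip
                  exact allRangeF_sound _ _ (checkPointF_eq cert) 115200 100 chkP_115200 i (by omega) (by omega)
          · skip
            rcases Nat.lt_or_ge i 115500 with h6 | h6
            · skip
              rcases Nat.lt_or_ge i 115400 with h7 | h7
              · skip
                exact allRangeF_sound _ _ (checkPointF_eq cert) 115300 100 chkP_115300 i (by omega) (by omega)
              · skip
                exact allRangeF_sound _ _ (checkPointF_eq cert) 115400 100 chkP_115400 i (by omega) (by omega)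
            · skip
              rcases Nat.lt_or_ge i 115600 with h7 | h7
              · skip
                exact allRangeF_sound _ _ (checkPointF_eq cert) 115500 100 chkP_115500 i (by omega) (by omega)
              · skip
                rcases Nat.lt_or_ge i 115700 with h8 | h8
                · skip
                  exact allRangeF_sound _ _ (checkPointF_eq cert) 115600 100 chkP_115600 i (by omega) (by omega)
                · skip
                  exact allRangeF_sound _ _ (checkPointF_eq cert) 115700 100 chkP_115700 i (by omega) (by omega)
        · skip
          rcases Nat.lt_or_ge i 116300 with h5 | h5
          · skip
            rcases Nat.lt_or_ge i 116000 with h6 | h6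
            · skip
              rcases Nat.lt_or_ge i 115900 with h7 | h7
              · skip
                exact allRangeF_sound _ _ (checkPointF_eq cert) 115800 100 chkP_115800 i (by omega) (by omega)
              · skip
                exact allRangeF_sound _ _ (checkPointF_eq cert) 115900 100 chkP_115900 i (by omega) (by omega)
            · skip
              rcases Nat.lt_or_ge i 116100 with h7 | h7
              · skip
                exact allRangeF_sound _ _ (checkPointF_eq cert) 116000 100 chkP_116000 i (by omega) (by omega)
              · skip
                rcases Nat.lt_or_ge i 116200 with h8 | h8
                · skip
                  exact allRangeF_sound _ _ (checkPointF_eq cert) 116100 100 chkP_116100 i (by omega) (by omega)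
                · skip
                  exact allRangeF_sound _ _ (checkPointF_eq cert) 116200 100 chkP_116200 i (by omega) (by omega)
          · skip
            rcases Nat.lt_or_ge i 116600 with h6 | h6
            · skip
              rcases Nat.lt_or_ge i 116400 with h7 | h7
              · skip
                exact allRangeF_sound _ _ (checkPointF_eq cert) 116300 100 chkP_116300 i (by omega) (by omega)
              · skip
                rcases Nat.lt_or_ge i 116500 with h8 | h8
                · skip
                  exact allRangeF_sound _ _ (checkPointF_eq cert) 116400 100 chkP_116400 i (by omega) (by omega)
                · skip
                  exact allRangeF_sound _ _ (checkPointF_eq cert) 116500 100 chkP_116500 i (by omega) (by omega)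
            · skip
              rcases Nat.lt_or_ge i 116700 with h7 | h7
              · skip
                exact allRangeF_sound _ _ (checkPointF_eq cert) 116600 100 chkP_116600 i (by omega) (by omega)
              · skip
                rcases Nat.lt_or_ge i 116800 with h8 | h8
                · skip
                  exact allRangeF_sound _ _ (checkPointF_eq cert) 116700 100 chkP_116700 i (by omega) (by omega)
                · skip
                  exact allRangeF_sound _ _ (checkPointF_eq cert) 116800 100 chkP_116800 i (by omega) (by omega)

end Cfsg.Agent.Lib.Helper28.He2Data
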