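import Cfsg.Agent.Lib.Helper28.He2Data
import Cfsg.Agent.Lib.Helper28.TCFast

set_option autoImplicit false
set_option maxRecDepth 1000000
set_option linter.all false
set_option Elab.async false

namespace Cfsg.Agent.Lib.Helper28.He2Data

open Cfsg.Agent.Lib.Helper28

theorem chkP_116900 : allRangeF (checkPointF cert) (nat_lit 116900) (nat_lit 100) = true := by decide +kernel
theorem chkP_117000 : allRangeF (checkPointF cert) (nat_lit 117000) (nat_lit 100) = true := by decide +kernel
theorem chkP_117100 : allRangeF (checkPointF cert) (nat_lit 117100) (nat_lit 100) = true := by decide +kernel
theorem chkP_117200 : allRangeF (checkPointF cert) (nat_lit 117200) (nat_lit 100) = true := by decide +kernel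
theorem chkP_117300 : allRangeF (checkPointF cert) (nat_lit 117300) (nat_lit 100) = true := by decide +kernel
theorem chkP_117400 : allRangeF (checkPointF cert) (nat_lit 117400) (nat_lit 100) = true := by decide +kernel
theorem chkP_117500 : allRangeF (checkPointF cert) (nat_lit 117500) (nat_lit 100) = true := by decide +kernel
theorem chkP_117600 : allRangeF (checkPointF cert) (nat_lit 117600) (nat_lit 100) = true := by decide +kernel
theorem chkP_117700 : allRangeF (checkPointF cert) (nat_lit 117700) (nat_lit 100) = true := by decide +kernel
theorem chkP_117800 : allRangeF (checkPointF cert) (nat_lit 117800) (nat_lit 100) = true := by decide +kernel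
theorem chkP_117900 : allRangeF (checkPointF cert) (nat_lit 117900) (nat_lit 100) = true := by decide +kernel
theorem chkP_118000 : allRangeF (checkPointF cert) (nat_lit 118000) (nat_lit 100) = true := by decide +kernel
theorem chkP_118100 : allRangeF (checkPointF cert) (nat_lit 118100) (nat_lit 100) = true := by decide +kernel
theorem chkP_118200 : allRangeF (checkPointF cert) (nat_lit 118200) (nat_lit 100) = true := by decide +kernel
theorem chkP_118300 : allRangeF (checkPointF cert) (nat_lit 118300) (nat_lit 100) = true := by decide +kernel
theorem chkP_118400 : allRangeF (checkPointF cert) (nat_lit 118400) (nat_lit 100) = true := by decide +kernel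
theorem chkP_118500 : allRangeF (checkPointF cert) (nat_lit 118500) (nat_lit 100) = true := by decide +kernel
theorem chkP_118600 : allRangeF (checkPointF cert) (nat_lit 118600) (nat_lit 100) = true := by decide +kernel
theorem chkP_118700 : allRangeF (checkPointF cert) (nat_lit 118700) (nat_lit 100) = true := by decide +kernel
theorem chkP_118800 : allRangeF (checkPointF cert) (nat_lit 118800) (nat_lit 100) = true := by decide +kernel
theorem chkP_118900 : allRangeF (checkPointF cert) (nat_lit 118900) (nat_lit 100) = true := by decide +kernel
theorem chkP_119000 : allRangeF (checkPointF cert) (nat_lit 119000) (nat_lit 100) = true := by decide +kernel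
theorem chkP_119100 : allRangeF (checkPointF cert) (nat_lit 119100) (nat_lit 100) = true := by decide +kernel
theorem chkP_119200 : allRangeF (checkPointF cert) (nat_lit 119200) (nat_lit 100) = true := by decide +kernel
theorem chkP_119300 : allRangeF (checkPointF cert) (nat_lit 119300) (nat_lit 100) = true := by decide +kernel
theorem chkP_119400 : allRangeF (checkPointF cert) (nat_lit 119400) (nat_lit 100) = true := by decide +kernel
theorem chkP_119500 : allRangeF (checkPointF cert) (nat_lit 119500) (nat_lit 100) = true := by decide +kernel
theorem chkP_119600 : allRangeF (checkPointF cert) (nat_lit 119600) (nat_lit 100) = true := by decide +kernel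
theorem chkP_119700 : allRangeF (checkPointF cert) (nat_lit 119700) (nat_lit 100) = true := by decide +kernel
theorem chkP_119800 : allRangeF (checkPointF cert) (nat_lit 119800) (nat_lit 100) = true := by decide +kernel
theorem chkP_119900 : allRangeF (checkPointF cert) (nat_lit 119900) (nat_lit 100) = true := by decide +kernel
theorem chkP_120000 : allRangeF (checkPointF cert) (nat_lit 120000) (nat_lit 100) = true := by decide +kernel
theorem chkP_120100 : allRangeF (checkPointF cert) (nat_lit 120100) (nat_lit 100) = true := by decide +kernel
theorem chkP_120200 : allRangeF (checkPointF cert) (nat_lit 120200) (nat_lit 100) = true := by decide +kernel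
theorem chkP_120300 : allRangeF (checkPointF cert) (nat_lit 120300) (nat_lit 100) = true := by decide +kernel
theorem chkP_120400 : allRangeF (checkPointF cert) (nat_lit 120400) (nat_lit 100) = true := by decide +kernel
theorem chkP_120500 : allRangeF (checkPointF cert) (nat_lit 120500) (nat_lit 100) = true := by decide +kernel
theorem chkP_120600 : allRangeF (checkPointF cert) (nat_lit 120600) (nat_lit 100) = true := by decide +kernel
theorem chkP_120700 : allRangeF (checkPointF cert) (nat_lit 120700) (nat_lit 100) = true := by decide +kernel
theorem chkP_120800 : allRangeF (checkPointF cert) (nat_lit 120800) (nat_lit 100) = true := by decide +kernel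
theorem chkP_120900 : allRangeF (checkPointF cert) (nat_lit 120900) (nat_lit 100) = true := by decide +kernel
theorem chkP_121000 : allRangeF (checkPointF cert) (nat_lit 121000) (nat_lit 100) = true := by decide +kernel
theorem chkP_121100 : allRangeF (checkPointF cert) (nat_lit 121100) (nat_lit 100) = true := by decide +kernel
theorem chkP_121200 : allRangeF (checkPointF cert) (nat_lit 121200) (nat_lit 100) = true := by decide +kernel
theorem chkP_121300 : allRangeF (checkPointF cert) (nat_lit 121300) (nat_lit 100) = true := by decide +kernel
theorem chkP_121400 : allRangeF (checkPointF cert) (nat_lit 121400) (nat_lit 100) = true := by decide +kernel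
theorem chkP_121500 : allRangeF (checkPointF cert) (nat_lit 121500) (nat_lit 100) = true := by decide +kernel
theorem chkP_121600 : allRangeF (checkPointF cert) (nat_lit 121600) (nat_lit 100) = true := by decide +kernel
theorem chkP_121700 : allRangeF (checkPointF cert) (nat_lit 121700) (nat_lit 100) = true := by decide +kernel
theorem chkP_121800 : allRangeF (checkPointF cert) (nat_lit 121800) (nat_lit 100) = true := by decide +kernel
theorem chkP_121900 : allRangeF (checkPointF cert) (nat_lit 121900) (nat_lit 100) = true := by decide +kernel
theorem chkP_122000 : allRangeF (checkPointF cert) (nat_lit 122000) (nat_lit 100) = true := by decide +kernel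
theorem chkP_122100 : allRangeF (checkPointF cert) (nat_lit 122100) (nat_lit 100) = true := by decide +kernel
theorem chkP_122200 : allRangeF (checkPointF cert) (nat_lit 122200) (nat_lit 100) = true := by decide +kernel
theorem chkP_122300 : allRangeF (checkPointF cert) (nat_lit 122300) (nat_lit 100) = true := by decide +kernel
theorem chkP_122400 : allRangeF (checkPointF cert) (nat_lit 122400) (nat_lit 100) = true := by decide +kernel
theorem chkP_122500 : allRangeF (checkPointF cert) (nat_lit 122500) (nat_lit 100) = true := by decide +kernel
theorem chkP_122600 : allRangeF (checkPointF cert) (nat_lit 122600) (nat_lit 100) = true := by decide +kernel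
theorem chkP_122700 : allRangeF (checkPointF cert) (nat_lit 122700) (nat_lit 100) = true := by decide +kernel
theorem chkP_122800 : allRangeF (checkPointF cert) (nat_lit 122800) (nat_lit 100) = true := by decide +kernel
theorem chkP_122900 : allRangeF (checkPointF cert) (nat_lit 122900) (nat_lit 100) = true := by decide +kernel
theorem chkP_123000 : allRangeF (checkPointF cert) (nat_lit 123000) (nat_lit 100) = true := by decide +kernel
theorem chkP_123100 : allRangeF (checkPointF cert) (nat_lit 123100) (nat_lit 100) = true := by decide +kernel
theorem chkP_123200 : allRangeF (checkPointF cert) (nat_lit 123200) (nat_lit 100) = true := by decide +kernel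
theorem chkP_123300 : allRangeF (checkPointF cert) (nat_lit 123300) (nat_lit 100) = true := by decide +kernel
theorem chkP_123400 : allRangeF (checkPointF cert) (nat_lit 123400) (nat_lit 100) = true := by decide +kernel
theorem chkP_123500 : allRangeF (checkPointF cert) (nat_lit 123500) (nat_lit 100) = true := by decide +kernel
theorem chkP_123600 : allRangeF (checkPointF cert) (nat_lit 123600) (nat_lit 100) = true := by decide +kernel
theorem chkP_123700 : allRangeF (checkPointF cert) (nat_lit 123700) (nat_lit 100) = true := by decide +kernel
theorem chkP_123800 : allRangeF (checkPointF cert) (nat_lit 123800) (nat_lit 100) = true := by decide +kernel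
theorem chkP_123900 : allRangeF (checkPointF cert) (nat_lit 123900) (nat_lit 100) = true := by decide +kernel
theorem chkP_124000 : allRangeF (checkPointF cert) (nat_lit 124000) (nat_lit 100) = true := by decide +kernel
theorem chkP_124100 : allRangeF (checkPointF cert) (nat_lit 124100) (nat_lit 100) = true := by decide +kernel
theorem chkP_124200 : allRangeF (checkPointF cert) (nat_lit 124200) (nat_lit 100) = true := by decide +kernel
theorem chkP_124300 : allRangeF (checkPointF cert) (nat_lit 124300) (nat_lit 100) = true := by decide +kernel
theorem chkP_124400 : allRangeF (checkPointF cert) (nat_lit 124400) (nat_lit 100) = true := by decide +kernel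
theorem chkP_124500 : allRangeF (checkPointF cert) (nat_lit 124500) (nat_lit 100) = true := by decide +kernel
theorem chkP_124600 : allRangeF (checkPointF cert) (nat_lit 124600) (nat_lit 100) = true := by decide +kernel
theorem chkP_124700 : allRangeF (checkPointF cert) (nat_lit 124700) (nat_lit 100) = true := by decide +kernel
theorem chkP_124800 : allRangeF (checkPointF cert) (nat_lit 124800) (nat_lit 100) = true := by decide +kernel
theorem chkP_124900 : allRangeF (checkPointF cert) (nat_lit 124900) (nat_lit 100) = true := by decide +kernel
theorem chkP_125000 : allRangeF (checkPointF cert) (nat_lit 125000) (nat_lit 100) = true := by decide +kernel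
theorem chkP_125100 : allRangeF (checkPointF cert) (nat_lit 125100) (nat_lit 100) = true := by decide +kernel
theorem chkP_125200 : allRangeF (checkPointF cert) (nat_lit 125200) (nat_lit 100) = true := by decide +kernel
theorem chkP_125300 : allRangeF (checkPointF cert) (nat_lit 125300) (nat_lit 100) = true := by decide +kernel
theorem chkP_125400 : allRangeF (checkPointF cert) (nat_lit 125400) (nat_lit 100) = true := by decide +kernel
theorem chkP_125500 : allRangeF (checkPointF cert) (nat_lit 125500) (nat_lit 100) = true := by decide +kernel
theorem chkP_125600 : allRangeF (checkPointF cert) (nat_lit 125600) (nat_lit 100) = true := by decide +kernel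
theorem chkP_125700 : allRangeF (checkPointF cert) (nat_lit 125700) (nat_lit 100) = true := by decide +kernel
theorem chkP_125800 : allRangeF (checkPointF cert) (nat_lit 125800) (nat_lit 100) = true := by decide +kernel
theorem chkP_125900 : allRangeF (checkPointF cert) (nat_lit 125900) (nat_lit 100) = true := by decide +kernel
theorem chkP_126000 : allRangeF (checkPointF cert) (nat_lit 126000) (nat_lit 100) = true := by decide +kernel
theorem chkP_126100 : allRangeF (checkPointF cert) (nat_lit 126100) (nat_lit 100) = true := by decide +kernel
theorem chkP_126200 : allRangeF (checkPointF cert) (nat_lit 126200) (nat_lit 100) = true := by decide +kernel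
theorem chkP_126300 : allRangeF (checkPointF cert) (nat_lit 126300) (nat_lit 100) = true := by decide +kernel
theorem chkP_126400 : allRangeF (checkPointF cert) (nat_lit 126400) (nat_lit 100) = true := by decide +kernel
theorem chkP_126500 : allRangeF (checkPointF cert) (nat_lit 126500) (nat_lit 100) = true := by decide +kernel
theorem chkP_126600 : allRangeF (checkPointF cert) (nat_lit 126600) (nat_lit 100) = true := by decide +kernel
theorem chkP_126700 : allRangeF (checkPointF cert) (nat_lit 126700) (nat_lit 100) = true := by decide +kernel
theorem chkP_126800 : allRangeF (checkPointF cert) (nat_lit 126800) (nat_lit 100) = true := by decide +kernel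
theorem chkP_126900 : allRangeF (checkPointF cert) (nat_lit 126900) (nat_lit 100) = true := by decide +kernel
theorem chkP_127000 : allRangeF (checkPointF cert) (nat_lit 127000) (nat_lit 100) = true := by decide +kernel
theorem chkP_127100 : allRangeF (checkPointF cert) (nat_lit 127100) (nat_lit 100) = true := by decide +kernel
theorem chkP_127200 : allRangeF (checkPointF cert) (nat_lit 127200) (nat_lit 100) = true := by decide +kernel
theorem chkP_127300 : allRangeF (checkPointF cert) (nat_lit 127300) (nat_lit 100) = true := by decide +kernel
theorem chkP_127400 : allRangeF (checkPointF cert) (nat_lit 127400) (nat_lit 100) = true := by decide +kernel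
theorem chkP_127500 : allRangeF (checkPointF cert) (nat_lit 127500) (nat_lit 100) = true := by decide +kernel
theorem chkP_127600 : allRangeF (checkPointF cert) (nat_lit 127600) (nat_lit 100) = true := by decide +kernel
theorem chkP_127700 : allRangeF (checkPointF cert) (nat_lit 127700) (nat_lit 100) = true := by decide +kernel
theorem chkP_127800 : allRangeF (checkPointF cert) (nat_lit 127800) (nat_lit 100) = true := by decide +kernel
theorem chkP_127900 : allRangeF (checkPointF cert) (nat_lit 127900) (nat_lit 100) = true := by decide +kernel
theorem chkP_128000 : allRangeF (checkPointF cert) (nat_lit 128000) (nat_lit 100) = true := by decide +kernel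
theorem chkP_128100 : allRangeF (checkPointF cert) (nat_lit 128100) (nat_lit 100) = true := by decide +kernel
theorem chkP_128200 : allRangeF (checkPointF cert) (nat_lit 128200) (nat_lit 100) = true := by decide +kernel
theorem chkP_128300 : allRangeF (checkPointF cert) (nat_lit 128300) (nat_lit 100) = true := by decide +kernel
theorem chkP_128400 : allRangeF (checkPointF cert) (nat_lit 128400) (nat_lit 100) = true := by decide +kernel
theorem chkP_128500 : allRangeF (checkPointF cert) (nat_lit 128500) (nat_lit 100) = true := by decide +kernel
theorem chkP_128600 : allRangeF (checkPointF cert) (nat_lit 128600) (nat_lit 100) = true := by decide +kernel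
theorem chkP_128700 : allRangeF (checkPointF cert) (nat_lit 128700) (nat_lit 100) = true := by decide +kernel
theorem chkP_128800 : allRangeF (checkPointF cert) (nat_lit 128800) (nat_lit 100) = true := by decide +kernel
theorem chkP_128900 : allRangeF (checkPointF cert) (nat_lit 128900) (nat_lit 100) = true := by decide +kernel
theorem chkP_129000 : allRangeF (checkPointF cert) (nat_lit 129000) (nat_lit 100) = true := by decide +kernel
theorem chkP_129100 : allRangeF (checkPointF cert) (nat_lit 129100) (nat_lit 100) = true := by decide +kernel
theorem chkP_129200 : allRangeF (checkPointF cert) (nat_lit 129200) (nat_lit 100) = true := by decide +kernel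
theorem chkP_129300 : allRangeF (checkPointF cert) (nat_lit 129300) (nat_lit 100) = true := by decide +kernel
theorem chkP_129400 : allRangeF (checkPointF cert) (nat_lit 129400) (nat_lit 100) = true := by decide +kernel
theorem chkP_129500 : allRangeF (checkPointF cert) (nat_lit 129500) (nat_lit 100) = true := by decide +kernel
theorem chkP_129600 : allRangeF (checkPointF cert) (nat_lit 129600) (nat_lit 100) = true := by decide +kernel
theorem chkP_129700 : allRangeF (checkPointF cert) (nat_lit 129700) (nat_lit 100) = true := by decide +kernel
theorem chkP_129800 : allRangeF (checkPointF cert) (nat_lit 129800) (nat_lit 100) = true := by decide +kernel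
theorem chkP_129900 : allRangeF (checkPointF cert) (nat_lit 129900) (nat_lit 100) = true := by decide +kernel
theorem chkP_130000 : allRangeF (checkPointF cert) (nat_lit 130000) (nat_lit 100) = true := by decide +kernel
theorem chkP_130100 : allRangeF (checkPointF cert) (nat_lit 130100) (nat_lit 100) = true := by decide +kernel
theorem chkP_130200 : allRangeF (checkPointF cert) (nat_lit 130200) (nat_lit 100) = true := by decide +kernel
theorem chkP_130300 : allRangeF (checkPointF cert) (nat_lit 130300) (nat_lit 100) = true := by decide +kernel
theorem chkP_130400 : allRangeF (checkPointF cert) (nat_lit 130400) (nat_lit 100) = true := by decide +kernel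
theorem chkP_130500 : allRangeF (checkPointF cert) (nat_lit 130500) (nat_lit 100) = true := by decide +kernel
theorem chkP_130600 : allRangeF (checkPointF cert) (nat_lit 130600) (nat_lit 100) = true := by decide +kernel
theorem chkP_130700 : allRangeF (checkPointF cert) (nat_lit 130700) (nat_lit 100) = true := by decide +kernel
theorem chkP_130800 : allRangeF (checkPointF cert) (nat_lit 130800) (nat_lit 100) = true := by decide +kernel
theorem chkP_130900 : allRangeF (checkPointF cert) (nat_lit 130900) (nat_lit 100) = true := by decide +kernel
theorem chkP_131000 : allRangeF (checkPointF cert) (nat_lit 131000) (nat_lit 100) = true := by decide +kernel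
theorem chkP_131100 : allRangeF (checkPointF cert) (nat_lit 131100) (nat_lit 100) = true := by decide +kernel
theorem chkP_131200 : allRangeF (checkPointF cert) (nat_lit 131200) (nat_lit 100) = true := by decide +kernel
theorem chkP_131300 : allRangeF (checkPointF cert) (nat_lit 131300) (nat_lit 100) = true := by decide +kernel
theorem chkP_131400 : allRangeF (checkPointF cert) (nat_lit 131400) (nat_lit 100) = true := by decide +kernel
theorem chkP_131500 : allRangeF (checkPointF cert) (nat_lit 131500) (nat_lit 100) = true := by decide +kernel
theorem chkP_131600 : allRangeF (checkPointF cert) (nat_lit 131600) (nat_lit 100) = true := by decide +kernel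
theorem chkP_131700 : allRangeF (checkPointF cert) (nat_lit 131700) (nat_lit 100) = true := by decide +kernel
theorem chkP_131800 : allRangeF (checkPointF cert) (nat_lit 131800) (nat_lit 100) = true := by decide +kernel
theorem chkP_131900 : allRangeF (checkPointF cert) (nat_lit 131900) (nat_lit 100) = true := by decide +kernel
theorem chkP_132000 : allRangeF (checkPointF cert) (nat_lit 132000) (nat_lit 100) = true := by decide +kernel
theorem chkP_132100 : allRangeF (checkPointF cert) (nat_lit 132100) (nat_lit 100) = true := by decide +kernel
theorem chkP_132200 : allRangeF (checkPointF cert) (nat_lit 132200) (nat_lit 100) = true := by decide +kernel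
theorem chkP_132300 : allRangeF (checkPointF cert) (nat_lit 132300) (nat_lit 100) = true := by decide +kernel
theorem chkP_132400 : allRangeF (checkPointF cert) (nat_lit 132400) (nat_lit 100) = true := by decide +kernel
theorem chkP_132500 : allRangeF (checkPointF cert) (nat_lit 132500) (nat_lit 100) = true := by decide +kernel
theorem chkP_132600 : allRangeF (checkPointF cert) (nat_lit 132600) (nat_lit 100) = true := by decide +kernel
theorem chkP_132700 : allRangeF (checkPointF cert) (nat_lit 132700) (nat_lit 100) = true := by decide +kernel
theorem chkP_132800 : allRangeF (checkPointF cert) (nat_lit 132800) (nat_lit 100) = true := by decide +kernel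
theorem chkP_132900 : allRangeF (checkPointF cert) (nat_lit 132900) (nat_lit 100) = true := by decide +kernel
theorem chkP_133000 : allRangeF (checkPointF cert) (nat_lit 133000) (nat_lit 100) = true := by decide +kernel
theorem chkP_133100 : allRangeF (checkPointF cert) (nat_lit 133100) (nat_lit 100) = true := by decide +kernel
theorem chkP_133200 : allRangeF (checkPointF cert) (nat_lit 133200) (nat_lit 100) = true := by decide +kernel
theorem chkP_133300 : allRangeF (checkPointF cert) (nat_lit 133300) (nat_lit 100) = true := by decide +kernel
theorem chkP_133400 : allRangeF (checkPointF cert) (nat_lit 133400) (nat_lit 100) = true := by decide +kernel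
theorem chkP_133500 : allRangeF (checkPointF cert) (nat_lit 133500) (nat_lit 100) = true := by decide +kernel

theorem ptsRange_7 : ∀ i, 116900 ≤ i → i < 133600 → checkPoint cert i = true := by
  intro i hlo hhi
  rcases Nat.lt_or_ge i 125200 with h1 | h1
  · skip
    rcases Nat.lt_or_ge i 121000 with h2 | h2
    · skip
      rcases Nat.lt_or_ge i 118900 with h3 | h3
      · skip
        rcases Nat.lt_or_ge i 117900 with h4 | h4
        · skip
          rcases Nat.lt_or_ge i 117400 with h5 | h5
          · skip
            rcases Nat.lt_or_ge i 117100 with h6 | h6
            · skip
              rcases Nat.lt_or_ge i 117000 with h7 | h7
              · skip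
                exact allRangeF_sound _ _ (checkPointF_eq cert) 116900 100 chkP_116900 i (by omega) (by omega)
              · skip
                exact allRangeF_sound _ _ (checkPointF_eq cert) 117000 100 chkP_117000 i (by omega) (by omega)
            · skip
              rcases Nat.lt_or_ge i 117200 with h7 | h7
              · skip
                exact allRangeF_sound _ _ (checkPointF_eq cert) 117100 100 chkP_117100 i (by omega) (by omega)
              · skip
                rcases Nat.lt_or_ge i 117300 with h8 | h8
                · skip
                  exact allRangeF_sound _ _ (checkPointF_eq cert) 117200 100 chkP_117200 i (by omega) (by omega)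
                · skip
                  exact allRangeF_sound _ _ (checkPointF_eq cert) 117300 100 chkP_117300 i (by omega) (by omega)
          · skip
            rcases Nat.lt_or_ge i 117600 with h6 | h6
            · skip
              rcases Nat.lt_or_ge i 117500 with h7 | h7
              · skip
                exact allRangeF_sound _ _ (checkPointF_eq cert) 117400 100 chkP_117400 i (by omega) (by omega)
              · skip
                exact allRangeF_sound _ _ (checkPointF_eq cert) 117500 100 chkP_117500 i (by omega) (by omega)
            · skip
              rcases Nat.lt_or_ge i 117700 with h7 | h7
              · skip
                exact allRangeF_sound _ _ (checkPointF_eq cert) 117600 100 chkP_117600 i (by omega) (by omega)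
              · skip
                rcases Nat.lt_or_ge i 117800 with h8 | h8
                · skip
                  exact allRangeF_sound _ _ (checkPointF_eq cert) 117700 100 chkP_117700 i (by omega) (by omega)
                · skip
                  exact allRangeF_sound _ _ (checkPointF_eq cert) 117800 100 chkP_117800 i (by omega) (by omega)
        · skip
          rcases Nat.lt_or_ge i 118400 with h5 | h5
          · skip
            rcases Nat.lt_or_ge i 118100 with h6 | h6
            · skip
              rcases Nat.lt_or_ge i 118000 with h7 | h7
              · skip
                exact allRangeF_sound _ _ (checkPointF_eq cert) 117900 100 chkP_117900 i (by omega) (by omega)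
              · skip
                exact allRangeF_sound _ _ (checkPointF_eq cert) 118000 100 chkP_118000 i (by omega) (by omega)
            · skip
              rcases Nat.lt_or_ge i 118200 with h7 | h7
              · skip
                exact allRangeF_sound _ _ (checkPointF_eq cert) 118100 100 chkP_118100 i (by omega) (by omega)
              · skip
                rcases Nat.lt_or_ge i 118300 with h8 | h8
                · skip
                  exact allRangeF_sound _ _ (checkPointF_eq cert) 118200 100 chkP_118200 i (by omega) (by omega)
                · skip
                  exact allRangeF_sound _ _ (checkPointF_eq cert) 118300 100 chkP_118300 i (by omega) (by omega)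
          · skip
            rcases Nat.lt_or_ge i 118600 with h6 | h6
            · skip
              rcases Nat.lt_or_ge i 118500 with h7 | h7
              · skip
                exact allRangeF_sound _ _ (checkPointF_eq cert) 118400 100 chkP_118400 i (by omega) (by omega)
              · skip
                exact allRangeF_sound _ _ (checkPointF_eq cert) 118500 100 chkP_118500 i (by omega) (by omega)
            · skip
              rcases Nat.lt_or_ge i 118700 with h7 | h7
              · skip
                exact allRangeF_sound _ _ (checkPointF_eq cert) 118600 100 chkP_118600 i (by omega) (by omega)
              · skip
                rcases Nat.lt_or_ge i 118800 with h8 | h8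
                · skip
                  exact allRangeF_sound _ _ (checkPointF_eq cert) 118700 100 chkP_118700 i (by omega) (by omega)
                · skip
                  exact allRangeF_sound _ _ (checkPointF_eq cert) 118800 100 chkP_118800 i (by omega) (by omega)
      · skip
        rcases Nat.lt_or_ge i 119900 with h4 | h4
        · skip
          rcases Nat.lt_or_ge i 119400 with h5 | h5
          · skip
            rcases Nat.lt_or_ge i 119100 with h6 | h6
            · skip
              rcases Nat.lt_or_ge i 119000 with h7 | h7
              · skip
                exact allRangeF_sound _ _ (checkPointF_eq cert) 118900 100 chkP_118900 i (by omega) (by omega)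
              · skip
                exact allRangeF_sound _ _ (checkPointF_eq cert) 119000 100 chkP_119000 i (by omega) (by omega)
            · skip
              rcases Nat.lt_or_ge i 119200 with h7 | h7
              · skip
                exact allRangeF_sound _ _ (checkPointF_eq cert) 119100 100 chkP_119100 i (by omega) (by omega)
              · skip
                rcases Nat.lt_or_ge i 119300 with h8 | h8
                · skip
                  exact allRangeF_sound _ _ (checkPointF_eq cert) 119200 100 chkP_119200 i (by omega) (by omega)
                · skip
                  exact allRangeF_sound _ _ (checkPointF_eq cert) 119300 100 chkP_119300 i (by omega) (by omega)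
          · skip
            rcases Nat.lt_or_ge i 119600 with h6 | h6
            · skip
              rcases Nat.lt_or_ge i 119500 with h7 | h7
              · skip
                exact allRangeF_sound _ _ (checkPointF_eq cert) 119400 100 chkP_119400 i (by omega) (by omega)
              · skip
                exact allRangeF_sound _ _ (checkPointF_eq cert) 119500 100 chkP_119500 i (by omega) (by omega)
            · skip
              rcases Nat.lt_or_ge i 119700 with h7 | h7
              · skip
                exact allRangeF_sound _ _ (checkPointF_eq cert) 119600 100 chkP_119600 i (by omega) (by omega)
              · skip
                rcases Nat.lt_or_ge i 119800 with h8 | h8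
                · skip
                  exact allRangeF_sound _ _ (checkPointF_eq cert) 119700 100 chkP_119700 i (by omega) (by omega)
                · skip
                  exact allRangeF_sound _ _ (checkPointF_eq cert) 119800 100 chkP_119800 i (by omega) (by omega)
        · skip
          rcases Nat.lt_or_ge i 120400 with h5 | h5
          · skip
            rcases Nat.lt_or_ge i 120100 with h6 | h6
            · skip
              rcases Nat.lt_or_ge i 120000 with h7 | h7
              · skip
                exact allRangeF_sound _ _ (checkPointF_eq cert) 119900 100 chkP_119900 i (by omega) (by omega)
              · skip
                exact allRangeF_sound _ _ (checkPointF_eq cert) 120000 100 chkP_120000 i (by omega) (by omega)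
            · skip
              rcases Nat.lt_or_ge i 120200 with h7 | h7
              · skip
                exact allRangeF_sound _ _ (checkPointF_eq cert) 120100 100 chkP_120100 i (by omega) (by omega)
              · skip
                rcases Nat.lt_or_ge i 120300 with h8 | h8
                · skip
                  exact allRangeF_sound _ _ (checkPointF_eq cert) 120200 100 chkP_120200 i (by omega) (by omega)
                · skip
                  exact allRangeF_sound _ _ (checkPointF_eq cert) 120300 100 chkP_120300 i (by omega) (by omega)
          · skip
            rcases Nat.lt_or_ge i 120700 with h6 | h6
            · skip
              rcases Nat.lt_or_ge i 120500 with h7 | h7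
              · skip
                exact allRangeF_sound _ _ (checkPointF_eq cert) 120400 100 chkP_120400 i (by omega) (by omega)
              · skip
                rcases Nat.lt_or_ge i 120600 with h8 | h8
                · skip
                  exact allRangeF_sound _ _ (checkPointF_eq cert) 120500 100 chkP_120500 i (by omega) (by omega)
                · skip
                  exact allRangeF_sound _ _ (checkPointF_eq cert) 120600 100 chkP_120600 i (by omega) (by omega)
            · skip
              rcases Nat.lt_or_ge i 120800 with h7 | h7
              · skip
                exact allRangeF_sound _ _ (checkPointF_eq cert) 120700 100 chkP_120700 i (by omega) (by omega)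
              · skip
                rcases Nat.lt_or_ge i 120900 with h8 | h8
                · skip
                  exact allRangeF_sound _ _ (checkPointF_eq cert) 120800 100 chkP_120800 i (by omega) (by omega)
                · skip
                  exact allRangeF_sound _ _ (checkPointF_eq cert) 120900 100 chkP_120900 i (by omega) (by omega)
    · skip
      rcases Nat.lt_or_ge i 123100 with h3 | h3
      · skip
        rcases Nat.lt_or_ge i 122000 with h4 | h4
        · skip
          rcases Nat.lt_or_ge i 121500 with h5 | h5
          · skip
            rcases Nat.lt_or_ge i 121200 with h6 | h6
            · skip
              rcases Nat.lt_or_ge i 121100 with h7 | h7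
              · skip
                exact allRangeF_sound _ _ (checkPointF_eq cert) 121000 100 chkP_121000 i (by omega) (by omega)
              · skip
                exact allRangeF_sound _ _ (checkPointF_eq cert) 121100 100 chkP_121100 i (by omega) (by omega)
            · skip
              rcases Nat.lt_or_ge i 121300 with h7 | h7
              · skip
                exact allRangeF_sound _ _ (checkPointF_eq cert) 121200 100 chkP_121200 i (by omega) (by omega)
              · skip
                rcases Nat.lt_or_ge i 121400 with h8 | h8
                · skip
                  exact allRangeF_sound _ _ (checkPointF_eq cert) 121300 100 chkP_121300 i (by omega) (by omega)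
                · skip
                  exact allRangeF_sound _ _ (checkPointF_eq cert) 121400 100 chkP_121400 i (by omega) (by omega)
          · skip
            rcases Nat.lt_or_ge i 121700 with h6 | h6
            · skip
              rcases Nat.lt_or_ge i 121600 with h7 | h7
              · skip
                exact allRangeF_sound _ _ (checkPointF_eq cert) 121500 100 chkP_121500 i (by omega) (by omega)
              · skip
                exact allRangeF_sound _ _ (checkPointF_eq cert) 121600 100 chkP_121600 i (by omega) (by omega)
            · skip
              rcases Nat.lt_or_ge i 121800 with h7 | h7
              · skip
                exact allRangeF_sound _ _ (checkPointF_eq cert) 121700 100 chkP_121700 i (by omega) (by omega)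
              · skip
                rcases Nat.lt_or_ge i 121900 with h8 | h8
                · skip
                  exact allRangeF_sound _ _ (checkPointF_eq cert) 121800 100 chkP_121800 i (by omega) (by omega)
                · skip
                  exact allRangeF_sound _ _ (checkPointF_eq cert) 121900 100 chkP_121900 i (by omega) (by omega)
        · skip
          rcases Nat.lt_or_ge i 122500 with h5 | h5
          · skip
            rcases Nat.lt_or_ge i 122200 with h6 | h6
            · skip
              rcases Nat.lt_or_ge i 122100 with h7 | h7
              · skip
                exact allRangeF_sound _ _ (checkPointF_eq cert) 122000 100 chkP_122000 i (by omega) (by omega)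
              · skip
                exact allRangeF_sound _ _ (checkPointF_eq cert) 122100 100 chkP_122100 i (by omega) (by omega)
            · skip
              rcases Nat.lt_or_ge i 122300 with h7 | h7
              · skip
                exact allRangeF_sound _ _ (checkPointF_eq cert) 122200 100 chkP_122200 i (by omega) (by omega)
              · skip
                rcases Nat.lt_or_ge i 122400 with h8 | h8
                · skip
                  exact allRangeF_sound _ _ (checkPointF_eq cert) 122300 100 chkP_122300 i (by omega) (by omega)
                · skip
                  exact allRangeF_sound _ _ (checkPointF_eq cert) 122400 100 chkP_122400 i (by omega) (by omega)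
          · skip
            rcases Nat.lt_or_ge i 122800 with h6 | h6
            · skip
              rcases Nat.lt_or_ge i 122600 with h7 | h7
              · skip
                exact allRangeF_sound _ _ (checkPointF_eq cert) 122500 100 chkP_122500 i (by omega) (by omega)
              · skip
                rcases Nat.lt_or_ge i 122700 with h8 | h8
                · skip
                  exact allRangeF_sound _ _ (checkPointF_eq cert) 122600 100 chkP_122600 i (by omega) (by omega)
                · skip
                  exact allRangeF_sound _ _ (checkPointF_eq cert) 122700 100 chkP_122700 i (by omega) (by omega)
            · skip
              rcases Nat.lt_or_ge i 122900 with h7 | h7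
              · skip
                exact allRangeF_sound _ _ (checkPointF_eq cert) 122800 100 chkP_122800 i (by omega) (by omega)
              · skip
                rcases Nat.lt_or_ge i 123000 with h8 | h8
                · skip
                  exact allRangeF_sound _ _ (checkPointF_eq cert) 122900 100 chkP_122900 i (by omega) (by omega)
                · skip
                  exact allRangeF_sound _ _ (checkPointF_eq cert) 123000 100 chkP_123000 i (by omega) (by omega)
      · skip
        rcases Nat.lt_or_ge i 124100 with h4 | h4
        · skip
          rcases Nat.lt_or_ge i 123600 with h5 | h5
          · skip
            rcases Nat.lt_or_ge i 123300 with h6 | h6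
            · skip
              rcases Nat.lt_or_ge i 123200 with h7 | h7
              · skip
                exact allRangeF_sound _ _ (checkPointF_eq cert) 123100 100 chkP_123100 i (by omega) (by omega)
              · skip
                exact allRangeF_sound _ _ (checkPointF_eq cert) 123200 100 chkP_123200 i (by omega) (by omega)
            · skip
              rcases Nat.lt_or_ge i 123400 with h7 | h7
              · skip
                exact allRangeF_sound _ _ (checkPointF_eq cert) 123300 100 chkP_123300 i (by omega) (by omega)
              · skip
                rcases Nat.lt_or_ge i 123500 with h8 | h8
                · skip
                  exact allRangeF_sound _ _ (checkPointF_eq cert) 123400 100 chkP_123400 i (by omega) (by omega)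
                · skip
                  exact allRangeF_sound _ _ (checkPointF_eq cert) 123500 100 chkP_123500 i (by omega) (by omega)
          · skip
            rcases Nat.lt_or_ge i 123800 with h6 | h6
            · skip
              rcases Nat.lt_or_ge i 123700 with h7 | h7
              · skip
                exact allRangeF_sound _ _ (checkPointF_eq cert) 123600 100 chkP_123600 i (by omega) (by omega)
              · skip
                exact allRangeF_sound _ _ (checkPointF_eq cert) 123700 100 chkP_123700 i (by omega) (by omega)
            · skip
              rcases Nat.lt_or_ge i 123900 with h7 | h7
              · skip
                exact allRangeF_sound _ _ (checkPointF_eq cert) 123800 100 chkP_123800 i (by omega) (by omega)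
              · skip
                rcases Nat.lt_or_ge i 124000 with h8 | h8
                · skip
                  exact allRangeF_sound _ _ (checkPointF_eq cert) 123900 100 chkP_123900 i (by omega) (by omega)
                · skip
                  exact allRangeF_sound _ _ (checkPointF_eq cert) 124000 100 chkP_124000 i (by omega) (by omega)
        · skip
          rcases Nat.lt_or_ge i 124600 with h5 | h5
          · skip
            rcases Nat.lt_or_ge i 124300 with h6 | h6
            · skip
              rcases Nat.lt_or_ge i 124200 with h7 | h7
              · skip
                exact allRangeF_sound _ _ (checkPointF_eq cert) 124100 100 chkP_124100 i (by omega) (by omega)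
              · skip
                exact allRangeF_sound _ _ (checkPointF_eq cert) 124200 100 chkP_124200 i (by omega) (by omega)
            · skip
              rcases Nat.lt_or_ge i 124400 with h7 | h7
              · skip
                exact allRangeF_sound _ _ (checkPointF_eq cert) 124300 100 chkP_124300 i (by omega) (by omega)
              · skip
                rcases Nat.lt_or_ge i 124500 with h8 | h8
                · skip
                  exact allRangeF_sound _ _ (checkPointF_eq cert) 124400 100 chkP_124400 i (by omega) (by omega)
                · skip
                  exact allRangeF_sound _ _ (checkPointF_eq cert) 124500 100 chkP_124500 i (by omega) (by omega)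
          · skip
            rcases Nat.lt_or_ge i 124900 with h6 | h6
            · skip
              rcases Nat.lt_or_ge i 124700 with h7 | h7
              · skip
                exact allRangeF_sound _ _ (checkPointF_eq cert) 124600 100 chkP_124600 i (by omega) (by omega)
              · skip
                rcases Nat.lt_or_ge i 124800 with h8 | h8
                · skip
                  exact allRangeF_sound _ _ (checkPointF_eq cert) 124700 100 chkP_124700 i (by omega) (by omega)
                · skip
                  exact allRangeF_sound _ _ (checkPointF_eq cert) 124800 100 chkP_124800 i (by omega) (by omega)
            · skip
              rcases Nat.lt_or_ge i 125000 with h7 | h7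
              · skip
                exact allRangeF_sound _ _ (checkPointF_eq cert) 124900 100 chkP_124900 i (by omega) (by omega)
              · skip
                rcases Nat.lt_or_ge i 125100 with h8 | h8
                · skip
                  exact allRangeF_sound _ _ (checkPointF_eq cert) 125000 100 chkP_125000 i (by omega) (by omega)
                · skip
                  exact allRangeF_sound _ _ (checkPointF_eq cert) 125100 100 chkP_125100 i (by omega) (by omega)
  · skip
    rcases Nat.lt_or_ge i 129400 with h2 | h2
    · skip
      rcases Nat.lt_or_ge i 127300 with h3 | h3
      · skip
        rcases Nat.lt_or_ge i 126200 with h4 | h4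
        · skip
          rcases Nat.lt_or_ge i 125700 with h5 | h5
          · skip
            rcases Nat.lt_or_ge i 125400 with h6 | h6
            · skip
              rcases Nat.lt_or_ge i 125300 with h7 | h7
              · skip
                exact allRangeF_sound _ _ (checkPointF_eq cert) 125200 100 chkP_125200 i (by omega) (by omega)
              · skip
                exact allRangeF_sound _ _ (checkPointF_eq cert) 125300 100 chkP_125300 i (by omega) (by omega)
            · skip
              rcases Nat.lt_or_ge i 125500 with h7 | h7
              · skip
                exact allRangeF_sound _ _ (checkPointF_eq cert) 125400 100 chkP_125400 i (by omega) (by omega)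
              · skip
                rcases Nat.lt_or_ge i 125600 with h8 | h8
                · skip
                  exact allRangeF_sound _ _ (checkPointF_eq cert) 125500 100 chkP_125500 i (by omega) (by omega)
                · skip
                  exact allRangeF_sound _ _ (checkPointF_eq cert) 125600 100 chkP_125600 i (by omega) (by omega)
          · skip
            rcases Nat.lt_or_ge i 125900 with h6 | h6
            · skip
              rcases Nat.lt_or_ge i 125800 with h7 | h7
              · skip
                exact allRangeF_sound _ _ (checkPointF_eq cert) 125700 100 chkP_125700 i (by omega) (by omega)
              · skip
                exact allRangeF_sound _ _ (checkPointF_eq cert) 125800 100 chkP_125800 i (by omega) (by omega)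
            · skip
              rcases Nat.lt_or_ge i 126000 with h7 | h7
              · skip
                exact allRangeF_sound _ _ (checkPointF_eq cert) 125900 100 chkP_125900 i (by omega) (by omega)
              · skip
                rcases Nat.lt_or_ge i 126100 with h8 | h8
                · skip
                  exact allRangeF_sound _ _ (checkPointF_eq cert) 126000 100 chkP_126000 i (by omega) (by omega)
                · skip
                  exact allRangeF_sound _ _ (checkPointF_eq cert) 126100 100 chkP_126100 i (by omega) (by omega)
        · skip
          rcases Nat.lt_or_ge i 126700 with h5 | h5
          · skip
            rcases Nat.lt_or_ge i 126400 with h6 | h6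
            · skip
              rcases Nat.lt_or_ge i 126300 with h7 | h7
              · skip
                exact allRangeF_sound _ _ (checkPointF_eq cert) 126200 100 chkP_126200 i (by omega) (by omega)
              · skip
                exact allRangeF_sound _ _ (checkPointF_eq cert) 126300 100 chkP_126300 i (by omega) (by omega)
            · skip
              rcases Nat.lt_or_ge i 126500 with h7 | h7
              · skip
                exact allRangeF_sound _ _ (checkPointF_eq cert) 126400 100 chkP_126400 i (by omega) (by omega)
              · skip
                rcases Nat.lt_or_ge i 126600 with h8 | h8
                · skip
                  exact allRangeF_sound _ _ (checkPointF_eq cert) 126500 100 chkP_126500 i (by omega) (by omega)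
                · skip
                  exact allRangeF_sound _ _ (checkPointF_eq cert) 126600 100 chkP_126600 i (by omega) (by omega)
          · skip
            rcases Nat.lt_or_ge i 127000 with h6 | h6
            · skip
              rcases Nat.lt_or_ge i 126800 with h7 | h7
              · skip
                exact allRangeF_sound _ _ (checkPointF_eq cert) 126700 100 chkP_126700 i (by omega) (by omega)
              · skip
                rcases Nat.lt_or_ge i 126900 with h8 | h8
                · skip
                  exact allRangeF_sound _ _ (checkPointF_eq cert) 126800 100 chkP_126800 i (by omega) (by omega)
                · skip
                  exact allRangeF_sound _ _ (checkPointF_eq cert) 126900 100 chkP_126900 i (by omega) (by omega)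
            · skip
              rcases Nat.lt_or_ge i 127100 with h7 | h7
              · skip
                exact allRangeF_sound _ _ (checkPointF_eq cert) 127000 100 chkP_127000 i (by omega) (by omega)
              · skip
                rcases Nat.lt_or_ge i 127200 with h8 | h8
                · skip
                  exact allRangeF_sound _ _ (checkPointF_eq cert) 127100 100 chkP_127100 i (by omega) (by omega)
                · skip
                  exact allRangeF_sound _ _ (checkPointF_eq cert) 127200 100 chkP_127200 i (by omega) (by omega)
      · skip
        rcases Nat.lt_or_ge i 128300 with h4 | h4
        · skip
          rcases Nat.lt_or_ge i 127800 with h5 | h5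
          · skip
            rcases Nat.lt_or_ge i 127500 with h6 | h6
            · skip
              rcases Nat.lt_or_ge i 127400 with h7 | h7
              · skip
                exact allRangeF_sound _ _ (checkPointF_eq cert) 127300 100 chkP_127300 i (by omega) (by omega)
              · skip
                exact allRangeF_sound _ _ (checkPointF_eq cert) 127400 100 chkP_127400 i (by omega) (by omega)
            · skip
              rcases Nat.lt_or_ge i 127600 with h7 | h7
              · skip
                exact allRangeF_sound _ _ (checkPointF_eq cert) 127500 100 chkP_127500 i (by omega) (by omega)
              · skip
                rcases Nat.lt_or_ge i 127700 with h8 | h8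
                · skip
                  exact allRangeF_sound _ _ (checkPointF_eq cert) 127600 100 chkP_127600 i (by omega) (by omega)
                · skip
                  exact allRangeF_sound _ _ (checkPointF_eq cert) 127700 100 chkP_127700 i (by omega) (by omega)
          · skip
            rcases Nat.lt_or_ge i 128000 with h6 | h6
            · skip
              rcases Nat.lt_or_ge i 127900 with h7 | h7
              · skip
                exact allRangeF_sound _ _ (checkPointF_eq cert) 127800 100 chkP_127800 i (by omega) (by omega)
              · skip
                exact allRangeF_sound _ _ (checkPointF_eq cert) 127900 100 chkP_127900 i (by omega) (by omega)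
            · skip
              rcases Nat.lt_or_ge i 128100 with h7 | h7
              · skip
                exact allRangeF_sound _ _ (checkPointF_eq cert) 128000 100 chkP_128000 i (by omega) (by omega)
              · skip
                rcases Nat.lt_or_ge i 128200 with h8 | h8
                · skip
                  exact allRangeF_sound _ _ (checkPointF_eq cert) 128100 100 chkP_128100 i (by omega) (by omega)
                · skip
                  exact allRangeF_sound _ _ (checkPointF_eq cert) 128200 100 chkP_128200 i (by omega) (by omega)
        · skip
          rcases Nat.lt_or_ge i 128800 with h5 | h5
          · skip
            rcases Nat.lt_or_ge i 128500 with h6 | h6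
            · skip
              rcases Nat.lt_or_ge i 128400 with h7 | h7
              · skip
                exact allRangeF_sound _ _ (checkPointF_eq cert) 128300 100 chkP_128300 i (by omega) (by omega)
              · skip
                exact allRangeF_sound _ _ (checkPointF_eq cert) 128400 100 chkP_128400 i (by omega) (by omega)
            · skip
              rcases Nat.lt_or_ge i 128600 with h7 | h7
              · skip
                exact allRangeF_sound _ _ (checkPointF_eq cert) 128500 100 chkP_128500 i (by omega) (by omega)
              · skip
                rcases Nat.lt_or_ge i 128700 with h8 | h8
                · skip
                  exact allRangeF_sound _ _ (checkPointF_eq cert) 128600 100 chkP_128600 i (by omega) (by omega)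
                · skip
                  exact allRangeF_sound _ _ (checkPointF_eq cert) 128700 100 chkP_128700 i (by omega) (by omega)
          · skip
            rcases Nat.lt_or_ge i 129100 with h6 | h6
            · skip
              rcases Nat.lt_or_ge i 128900 with h7 | h7
              · skip
                exact allRangeF_sound _ _ (checkPointF_eq cert) 128800 100 chkP_128800 i (by omega) (by omega)
              · skip
                rcases Nat.lt_or_ge i 129000 with h8 | h8
                · skip
                  exact allRangeF_sound _ _ (checkPointF_eq cert) 128900 100 chkP_128900 i (by omega) (by omega)
                · skip
                  exact allRangeF_sound _ _ (checkPointF_eq cert) 129000 100 chkP_129000 i (by omega) (by omega)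
            · skip
              rcases Nat.lt_or_ge i 129200 with h7 | h7
              · skip
                exact allRangeF_sound _ _ (checkPointF_eq cert) 129100 100 chkP_129100 i (by omega) (by omega)
              · skip
                rcases Nat.lt_or_ge i 129300 with h8 | h8
                · skip
                  exact allRangeF_sound _ _ (checkPointF_eq cert) 129200 100 chkP_129200 i (by omega) (by omega)
                · skip
                  exact allRangeF_sound _ _ (checkPointF_eq cert) 129300 100 chkP_129300 i (by omega) (by omega)
    · skip
      rcases Nat.lt_or_ge i 131500 with h3 | h3
      · skip
        rcases Nat.lt_or_ge i 130400 with h4 | h4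
        · skip
          rcases Nat.lt_or_ge i 129900 with h5 | h5
          · skip
            rcases Nat.lt_or_ge i 129600 with h6 | h6
            · skip
              rcases Nat.lt_or_ge i 129500 with h7 | h7
              · skip
                exact allRangeF_sound _ _ (checkPointF_eq cert) 129400 100 chkP_129400 i (by omega) (by omega)
              · skip
                exact allRangeF_sound _ _ (checkPointF_eq cert) 129500 100 chkP_129500 i (by omega) (by omega)
            · skip
              rcases Nat.lt_or_ge i 129700 with h7 | h7
              · skip
                exact allRangeF_sound _ _ (checkPointF_eq cert) 129600 100 chkP_129600 i (by omega) (by omega)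
              · skip
                rcases Nat.lt_or_ge i 129800 with h8 | h8
                · skip
                  exact allRangeF_sound _ _ (checkPointF_eq cert) 129700 100 chkP_129700 i (by omega) (by omega)
                · skip
                  exact allRangeF_sound _ _ (checkPointF_eq cert) 129800 100 chkP_129800 i (by omega) (by omega)
          · skip
            rcases Nat.lt_or_ge i 130100 with h6 | h6
            · skip
              rcases Nat.lt_or_ge i 130000 with h7 | h7
              · skip
                exact allRangeF_sound _ _ (checkPointF_eq cert) 129900 100 chkP_129900 i (by omega) (by omega)
              · skip
                exact allRangeF_sound _ _ (checkPointF_eq cert) 130000 100 chkP_130000 i (by omega) (by omega)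
            · skip
              rcases Nat.lt_or_ge i 130200 with h7 | h7
              · skip
                exact allRangeF_sound _ _ (checkPointF_eq cert) 130100 100 chkP_130100 i (by omega) (by omega)
              · skip
                rcases Nat.lt_or_ge i 130300 with h8 | h8
                · skip
                  exact allRangeF_sound _ _ (checkPointF_eq cert) 130200 100 chkP_130200 i (by omega) (by omega)
                · skip
                  exact allRangeF_sound _ _ (checkPointF_eq cert) 130300 100 chkP_130300 i (by omega) (by omega)
        · skip
          rcases Nat.lt_or_ge i 130900 with h5 | h5
          · skip
            rcases Nat.lt_or_ge i 130600 with h6 | h6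
            · skip
              rcases Nat.lt_or_ge i 130500 with h7 | h7
              · skip
                exact allRangeF_sound _ _ (checkPointF_eq cert) 130400 100 chkP_130400 i (by omega) (by omega)
              · skip
                exact allRangeF_sound _ _ (checkPointF_eq cert) 130500 100 chkP_130500 i (by omega) (by omega)
            · skip
              rcases Nat.lt_or_ge i 130700 with h7 | h7
              · skip
                exact allRangeF_sound _ _ (checkPointF_eq cert) 130600 100 chkP_130600 i (by omega) (by omega)
              · skip
                rcases Nat.lt_or_ge i 130800 with h8 | h8
                · skip
                  exact allRangeF_sound _ _ (checkPointF_eq cert) 130700 100 chkP_130700 i (by omega) (by omega)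
                · skip
                  exact allRangeF_sound _ _ (checkPointF_eq cert) 130800 100 chkP_130800 i (by omega) (by omega)
          · skip
            rcases Nat.lt_or_ge i 131200 with h6 | h6
            · skip
              rcases Nat.lt_or_ge i 131000 with h7 | h7
              · skip
                exact allRangeF_sound _ _ (checkPointF_eq cert) 130900 100 chkP_130900 i (by omega) (by omega)
              · skip
                rcases Nat.lt_or_ge i 131100 with h8 | h8
                · skip
                  exact allRangeF_sound _ _ (checkPointF_eq cert) 131000 100 chkP_131000 i (by omega) (by omega)
                · skip
                  exact allRangeF_sound _ _ (checkPointF_eq cert) 131100 100 chkP_131100 i (by omega) (by omega)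
            · skip
              rcases Nat.lt_or_ge i 131300 with h7 | h7
              · skip
                exact allRangeF_sound _ _ (checkPointF_eq cert) 131200 100 chkP_131200 i (by omega) (by omega)
              · skip
                rcases Nat.lt_or_ge i 131400 with h8 | h8
                · skip
                  exact allRangeF_sound _ _ (checkPointF_eq cert) 131300 100 chkP_131300 i (by omega) (by omega)
                · skip
                  exact allRangeF_sound _ _ (checkPointF_eq cert) 131400 100 chkP_131400 i (by omega) (by omega)
      · skip
        rcases Nat.lt_or_ge i 132500 with h4 | h4
        · skip
          rcases Nat.lt_or_ge i 132000 with h5 | h5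
          · skip
            rcases Nat.lt_or_ge i 131700 with h6 | h6
            · skip
              rcases Nat.lt_or_ge i 131600 with h7 | h7
              · skip
                exact allRangeF_sound _ _ (checkPointF_eq cert) 131500 100 chkP_131500 i (by omega) (by omega)
              · skip
                exact allRangeF_sound _ _ (checkPointF_eq cert) 131600 100 chkP_131600 i (by omega) (by omega)
            · skip
              rcases Nat.lt_or_ge i 131800 with h7 | h7
              · skip
                exact allRangeF_sound _ _ (checkPointF_eq cert) 131700 100 chkP_131700 i (by omega) (by omega)
              · skip
                rcases Nat.lt_or_ge i 131900 with h8 | h8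
                · skip
                  exact allRangeF_sound _ _ (checkPointF_eq cert) 131800 100 chkP_131800 i (by omega) (by omega)
                · skip
                  exact allRangeF_sound _ _ (checkPointF_eq cert) 131900 100 chkP_131900 i (by omega) (by omega)
          · skip
            rcases Nat.lt_or_ge i 132200 with h6 | h6
            · skip
              rcases Nat.lt_or_ge i 132100 with h7 | h7
              · skip
                exact allRangeF_sound _ _ (checkPointF_eq cert) 132000 100 chkP_132000 i (by omega) (by omega)
              · skip
                exact allRangeF_sound _ _ (checkPointF_eq cert) 132100 100 chkP_132100 i (by omega) (by omega)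
            · skip
              rcases Nat.lt_or_ge i 132300 with h7 | h7
              · skip
                exact allRangeF_sound _ _ (checkPointF_eq cert) 132200 100 chkP_132200 i (by omega) (by omega)
              · skip
                rcases Nat.lt_or_ge i 132400 with h8 | h8
                · skip
                  exact allRangeF_sound _ _ (checkPointF_eq cert) 132300 100 chkP_132300 i (by omega) (by omega)
                · skip
                  exact allRangeF_sound _ _ (checkPointF_eq cert) 132400 100 chkP_132400 i (by omega) (by omega)
        · skip
          rcases Nat.lt_or_ge i 133000 with h5 | h5
          · skip
            rcases Nat.lt_or_ge i 132700 with h6 | h6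
            · skip
              rcases Nat.lt_or_ge i 132600 with h7 | h7
              · skip
                exact allRangeF_sound _ _ (checkPointF_eq cert) 132500 100 chkP_132500 i (by omega) (by omega)
              · skip
                exact allRangeF_sound _ _ (checkPointF_eq cert) 132600 100 chkP_132600 i (by omega) (by omega)
            · skip
              rcases Nat.lt_or_ge i 132800 with h7 | h7
              · skip
                exact allRangeF_sound _ _ (checkPointF_eq cert) 132700 100 chkP_132700 i (by omega) (by omega)
              · skip
                rcases Nat.lt_or_ge i 132900 with h8 | h8
                · skip
                  exact allRangeF_sound _ _ (checkPointF_eq cert) 132800 100 chkP_132800 i (by omega) (by omega)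
                · skip
                  exact allRangeF_sound _ _ (checkPointF_eq cert) 132900 100 chkP_132900 i (by omega) (by omega)
          · skip
            rcases Nat.lt_or_ge i 133300 with h6 | h6
            · skip
              rcases Nat.lt_or_ge i 133100 with h7 | h7
              · skip
                exact allRangeF_sound _ _ (checkPointF_eq cert) 133000 100 chkP_133000 i (by omega) (by omega)
              · skip
                rcases Nat.lt_or_ge i 133200 with h8 | h8
                · skip
                  exact allRangeF_sound _ _ (checkPointF_eq cert) 133100 100 chkP_133100 i (by omega) (by omega)
                · skip
                  exact allRangeF_sound _ _ (checkPointF_eq cert) 133200 100 chkP_133200 i (by omega) (by omega)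
            · skip
              rcases Nat.lt_or_ge i 133400 with h7 | h7
              · skip
                exact allRangeF_sound _ _ (checkPointF_eq cert) 133300 100 chkP_133300 i (by omega) (by omega)
              · skip
                rcases Nat.lt_or_ge i 133500 with h8 | h8
                · skip
                  exact allRangeF_sound _ _ (checkPointF_eq cert) 133400 100 chkP_133400 i (by omega) (by omega)
                · skip
                  exact allRangeF_sound _ _ (checkPointF_eq cert) 133500 100 chkP_133500 i (by omega) (by omega)

end Cfsg.Agent.Lib.Helper28.He2Data
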