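import Cfsg.Agent.Lib.Helper28.He2Data
import Cfsg.Agent.Lib.Helper28.TCFast

set_option autoImplicit false
set_option maxRecDepth 1000000
set_option linter.all false
set_option Elab.async false

namespace Cfsg.Agent.Lib.Helper28.He2Data

open Cfsg.Agent.Lib.Helper28

theorem chkP_133600 : allRangeF (checkPointF cert) (nat_lit 133600) (nat_lit 100) = true := by decide +kernel
theorem chkP_133700 : allRangeF (checkPointF cert) (nat_lit 133700) (nat_lit 100) = true := by decide +kernel
theorem chkP_133800 : allRangeF (checkPointF cert) (nat_lit 133800) (nat_lit 100) = true := by decide +kernel
theorem chkP_133900 : allRangeF (checkPointF cert) (nat_lit 133900) (nat_lit 100) = true := by decide +kernel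
theorem chkP_134000 : allRangeF (checkPointF cert) (nat_lit 134000) (nat_lit 100) = true := by decide +kernel
theorem chkP_134100 : allRangeF (checkPointF cert) (nat_lit 134100) (nat_lit 100) = true := by decide +kernel
theorem chkP_134200 : allRangeF (checkPointF cert) (nat_lit 134200) (nat_lit 100) = true := by decide +kernel
theorem chkP_134300 : allRangeF (checkPointF cert) (nat_lit 134300) (nat_lit 100) = true := by decide +kernel
theorem chkP_134400 : allRangeF (checkPointF cert) (nat_lit 134400) (nat_lit 100) = true := by decide +kernel
theorem chkP_134500 : allRangeF (checkPointF cert) (nat_lit 134500) (nat_lit 100) = true := by decide +kernel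
theorem chkP_134600 : allRangeF (checkPointF cert) (nat_lit 134600) (nat_lit 100) = true := by decide +kernel
theorem chkP_134700 : allRangeF (checkPointF cert) (nat_lit 134700) (nat_lit 100) = true := by decide +kernel
theorem chkP_134800 : allRangeF (checkPointF cert) (nat_lit 134800) (nat_lit 100) = true := by decide +kernel
theorem chkP_134900 : allRangeF (checkPointF cert) (nat_lit 134900) (nat_lit 100) = true := by decide +kernel
theorem chkP_135000 : allRangeF (checkPointF cert) (nat_lit 135000) (nat_lit 100) = true := by decide +kernel
theorem chkP_135100 : allRangeF (checkPointF cert) (nat_lit 135100) (nat_lit 100) = true := by decide +kernel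
theorem chkP_135200 : allRangeF (checkPointF cert) (nat_lit 135200) (nat_lit 100) = true := by decide +kernel
theorem chkP_135300 : allRangeF (checkPointF cert) (nat_lit 135300) (nat_lit 100) = true := by decide +kernel
theorem chkP_135400 : allRangeF (checkPointF cert) (nat_lit 135400) (nat_lit 100) = true := by decide +kernel
theorem chkP_135500 : allRangeF (checkPointF cert) (nat_lit 135500) (nat_lit 100) = true := by decide +kernel
theorem chkP_135600 : allRangeF (checkPointF cert) (nat_lit 135600) (nat_lit 100) = true := by decide +kernel
theorem chkP_135700 : allRangeF (checkPointF cert) (nat_lit 135700) (nat_lit 100) = true := by decide +kernel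
theorem chkP_135800 : allRangeF (checkPointF cert) (nat_lit 135800) (nat_lit 100) = true := by decide +kernel
theorem chkP_135900 : allRangeF (checkPointF cert) (nat_lit 135900) (nat_lit 100) = true := by decide +kernel
theorem chkP_136000 : allRangeF (checkPointF cert) (nat_lit 136000) (nat_lit 100) = true := by decide +kernel
theorem chkP_136100 : allRangeF (checkPointF cert) (nat_lit 136100) (nat_lit 100) = true := by decide +kernel
theorem chkP_136200 : allRangeF (checkPointF cert) (nat_lit 136200) (nat_lit 100) = true := by decide +kernel
theorem chkP_136300 : allRangeF (checkPointF cert) (nat_lit 136300) (nat_lit 100) = true := by decide +kernel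
theorem chkP_136400 : allRangeF (checkPointF cert) (nat_lit 136400) (nat_lit 100) = true := by decide +kernel
theorem chkP_136500 : allRangeF (checkPointF cert) (nat_lit 136500) (nat_lit 100) = true := by decide +kernel
theorem chkP_136600 : allRangeF (checkPointF cert) (nat_lit 136600) (nat_lit 100) = true := by decide +kernel
theorem chkP_136700 : allRangeF (checkPointF cert) (nat_lit 136700) (nat_lit 100) = true := by decide +kernel
theorem chkP_136800 : allRangeF (checkPointF cert) (nat_lit 136800) (nat_lit 100) = true := by decide +kernel
theorem chkP_136900 : allRangeF (checkPointF cert) (nat_lit 136900) (nat_lit 100) = true := by decide +kernel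
theorem chkP_137000 : allRangeF (checkPointF cert) (nat_lit 137000) (nat_lit 100) = true := by decide +kernel
theorem chkP_137100 : allRangeF (checkPointF cert) (nat_lit 137100) (nat_lit 100) = true := by decide +kernel
theorem chkP_137200 : allRangeF (checkPointF cert) (nat_lit 137200) (nat_lit 100) = true := by decide +kernel
theorem chkP_137300 : allRangeF (checkPointF cert) (nat_lit 137300) (nat_lit 100) = true := by decide +kernel
theorem chkP_137400 : allRangeF (checkPointF cert) (nat_lit 137400) (nat_lit 100) = true := by decide +kernel
theorem chkP_137500 : allRangeF (checkPointF cert) (nat_lit 137500) (nat_lit 100) = true := by decide +kernel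
theorem chkP_137600 : allRangeF (checkPointF cert) (nat_lit 137600) (nat_lit 100) = true := by decide +kernel
theorem chkP_137700 : allRangeF (checkPointF cert) (nat_lit 137700) (nat_lit 100) = true := by decide +kernel
theorem chkP_137800 : allRangeF (checkPointF cert) (nat_lit 137800) (nat_lit 100) = true := by decide +kernel
theorem chkP_137900 : allRangeF (checkPointF cert) (nat_lit 137900) (nat_lit 100) = true := by decide +kernel
theorem chkP_138000 : allRangeF (checkPointF cert) (nat_lit 138000) (nat_lit 100) = true := by decide +kernel
theorem chkP_138100 : allRangeF (checkPointF cert) (nat_lit 138100) (nat_lit 100) = true := by decide +kernel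
theorem chkP_138200 : allRangeF (checkPointF cert) (nat_lit 138200) (nat_lit 100) = true := by decide +kernel
theorem chkP_138300 : allRangeF (checkPointF cert) (nat_lit 138300) (nat_lit 100) = true := by decide +kernel
theorem chkP_138400 : allRangeF (checkPointF cert) (nat_lit 138400) (nat_lit 100) = true := by decide +kernel
theorem chkP_138500 : allRangeF (checkPointF cert) (nat_lit 138500) (nat_lit 100) = true := by decide +kernel
theorem chkP_138600 : allRangeF (checkPointF cert) (nat_lit 138600) (nat_lit 100) = true := by decide +kernel
theorem chkP_138700 : allRangeF (checkPointF cert) (nat_lit 138700) (nat_lit 100) = true := by decide +kernel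
theorem chkP_138800 : allRangeF (checkPointF cert) (nat_lit 138800) (nat_lit 100) = true := by decide +kernel
theorem chkP_138900 : allRangeF (checkPointF cert) (nat_lit 138900) (nat_lit 100) = true := by decide +kernel
theorem chkP_139000 : allRangeF (checkPointF cert) (nat_lit 139000) (nat_lit 100) = true := by decide +kernel
theorem chkP_139100 : allRangeF (checkPointF cert) (nat_lit 139100) (nat_lit 100) = true := by decide +kernel
theorem chkP_139200 : allRangeF (checkPointF cert) (nat_lit 139200) (nat_lit 100) = true := by decide +kernel
theorem chkP_139300 : allRangeF (checkPointF cert) (nat_lit 139300) (nat_lit 100) = true := by decide +kernel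
theorem chkP_139400 : allRangeF (checkPointF cert) (nat_lit 139400) (nat_lit 100) = true := by decide +kernel
theorem chkP_139500 : allRangeF (checkPointF cert) (nat_lit 139500) (nat_lit 100) = true := by decide +kernel
theorem chkP_139600 : allRangeF (checkPointF cert) (nat_lit 139600) (nat_lit 100) = true := by decide +kernel
theorem chkP_139700 : allRangeF (checkPointF cert) (nat_lit 139700) (nat_lit 100) = true := by decide +kernel
theorem chkP_139800 : allRangeF (checkPointF cert) (nat_lit 139800) (nat_lit 100) = true := by decide +kernel
theorem chkP_139900 : allRangeF (checkPointF cert) (nat_lit 139900) (nat_lit 100) = true := by decide +kernel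
theorem chkP_140000 : allRangeF (checkPointF cert) (nat_lit 140000) (nat_lit 100) = true := by decide +kernel
theorem chkP_140100 : allRangeF (checkPointF cert) (nat_lit 140100) (nat_lit 100) = true := by decide +kernel
theorem chkP_140200 : allRangeF (checkPointF cert) (nat_lit 140200) (nat_lit 100) = true := by decide +kernel
theorem chkP_140300 : allRangeF (checkPointF cert) (nat_lit 140300) (nat_lit 100) = true := by decide +kernel
theorem chkP_140400 : allRangeF (checkPointF cert) (nat_lit 140400) (nat_lit 100) = true := by decide +kernel
theorem chkP_140500 : allRangeF (checkPointF cert) (nat_lit 140500) (nat_lit 100) = true := by decide +kernel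
theorem chkP_140600 : allRangeF (checkPointF cert) (nat_lit 140600) (nat_lit 100) = true := by decide +kernel
theorem chkP_140700 : allRangeF (checkPointF cert) (nat_lit 140700) (nat_lit 100) = true := by decide +kernel
theorem chkP_140800 : allRangeF (checkPointF cert) (nat_lit 140800) (nat_lit 100) = true := by decide +kernel
theorem chkP_140900 : allRangeF (checkPointF cert) (nat_lit 140900) (nat_lit 100) = true := by decide +kernel
theorem chkP_141000 : allRangeF (checkPointF cert) (nat_lit 141000) (nat_lit 100) = true := by decide +kernel
theorem chkP_141100 : allRangeF (checkPointF cert) (nat_lit 141100) (nat_lit 100) = true := by decide +kernel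
theorem chkP_141200 : allRangeF (checkPointF cert) (nat_lit 141200) (nat_lit 100) = true := by decide +kernel
theorem chkP_141300 : allRangeF (checkPointF cert) (nat_lit 141300) (nat_lit 100) = true := by decide +kernel
theorem chkP_141400 : allRangeF (checkPointF cert) (nat_lit 141400) (nat_lit 100) = true := by decide +kernel
theorem chkP_141500 : allRangeF (checkPointF cert) (nat_lit 141500) (nat_lit 100) = true := by decide +kernel
theorem chkP_141600 : allRangeF (checkPointF cert) (nat_lit 141600) (nat_lit 100) = true := by decide +kernel
theorem chkP_141700 : allRangeF (checkPointF cert) (nat_lit 141700) (nat_lit 100) = true := by decide +kernel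
theorem chkP_141800 : allRangeF (checkPointF cert) (nat_lit 141800) (nat_lit 100) = true := by decide +kernel
theorem chkP_141900 : allRangeF (checkPointF cert) (nat_lit 141900) (nat_lit 100) = true := by decide +kernel
theorem chkP_142000 : allRangeF (checkPointF cert) (nat_lit 142000) (nat_lit 100) = true := by decide +kernel
theorem chkP_142100 : allRangeF (checkPointF cert) (nat_lit 142100) (nat_lit 100) = true := by decide +kernel
theorem chkP_142200 : allRangeF (checkPointF cert) (nat_lit 142200) (nat_lit 100) = true := by decide +kernel
theorem chkP_142300 : allRangeF (checkPointF cert) (nat_lit 142300) (nat_lit 100) = true := by decide +kernel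
theorem chkP_142400 : allRangeF (checkPointF cert) (nat_lit 142400) (nat_lit 100) = true := by decide +kernel
theorem chkP_142500 : allRangeF (checkPointF cert) (nat_lit 142500) (nat_lit 100) = true := by decide +kernel
theorem chkP_142600 : allRangeF (checkPointF cert) (nat_lit 142600) (nat_lit 100) = true := by decide +kernel
theorem chkP_142700 : allRangeF (checkPointF cert) (nat_lit 142700) (nat_lit 100) = true := by decide +kernel
theorem chkP_142800 : allRangeF (checkPointF cert) (nat_lit 142800) (nat_lit 100) = true := by decide +kernel
theorem chkP_142900 : allRangeF (checkPointF cert) (nat_lit 142900) (nat_lit 100) = true := by decide +kernel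
theorem chkP_143000 : allRangeF (checkPointF cert) (nat_lit 143000) (nat_lit 100) = true := by decide +kernel
theorem chkP_143100 : allRangeF (checkPointF cert) (nat_lit 143100) (nat_lit 100) = true := by decide +kernel
theorem chkP_143200 : allRangeF (checkPointF cert) (nat_lit 143200) (nat_lit 100) = true := by decide +kernel
theorem chkP_143300 : allRangeF (checkPointF cert) (nat_lit 143300) (nat_lit 100) = true := by decide +kernel
theorem chkP_143400 : allRangeF (checkPointF cert) (nat_lit 143400) (nat_lit 100) = true := by decide +kernel
theorem chkP_143500 : allRangeF (checkPointF cert) (nat_lit 143500) (nat_lit 100) = true := by decide +kernel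
theorem chkP_143600 : allRangeF (checkPointF cert) (nat_lit 143600) (nat_lit 100) = true := by decide +kernel
theorem chkP_143700 : allRangeF (checkPointF cert) (nat_lit 143700) (nat_lit 100) = true := by decide +kernel
theorem chkP_143800 : allRangeF (checkPointF cert) (nat_lit 143800) (nat_lit 100) = true := by decide +kernel
theorem chkP_143900 : allRangeF (checkPointF cert) (nat_lit 143900) (nat_lit 100) = true := by decide +kernel
theorem chkP_144000 : allRangeF (checkPointF cert) (nat_lit 144000) (nat_lit 100) = true := by decide +kernel
theorem chkP_144100 : allRangeF (checkPointF cert) (nat_lit 144100) (nat_lit 100) = true := by decide +kernel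
theorem chkP_144200 : allRangeF (checkPointF cert) (nat_lit 144200) (nat_lit 100) = true := by decide +kernel
theorem chkP_144300 : allRangeF (checkPointF cert) (nat_lit 144300) (nat_lit 100) = true := by decide +kernel
theorem chkP_144400 : allRangeF (checkPointF cert) (nat_lit 144400) (nat_lit 100) = true := by decide +kernel
theorem chkP_144500 : allRangeF (checkPointF cert) (nat_lit 144500) (nat_lit 100) = true := by decide +kernel
theorem chkP_144600 : allRangeF (checkPointF cert) (nat_lit 144600) (nat_lit 100) = true := by decide +kernel
theorem chkP_144700 : allRangeF (checkPointF cert) (nat_lit 144700) (nat_lit 100) = true := by decide +kernel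
theorem chkP_144800 : allRangeF (checkPointF cert) (nat_lit 144800) (nat_lit 100) = true := by decide +kernel
theorem chkP_144900 : allRangeF (checkPointF cert) (nat_lit 144900) (nat_lit 100) = true := by decide +kernel
theorem chkP_145000 : allRangeF (checkPointF cert) (nat_lit 145000) (nat_lit 100) = true := by decide +kernel
theorem chkP_145100 : allRangeF (checkPointF cert) (nat_lit 145100) (nat_lit 100) = true := by decide +kernel
theorem chkP_145200 : allRangeF (checkPointF cert) (nat_lit 145200) (nat_lit 100) = true := by decide +kernel
theorem chkP_145300 : allRangeF (checkPointF cert) (nat_lit 145300) (nat_lit 100) = true := by decide +kernel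
theorem chkP_145400 : allRangeF (checkPointF cert) (nat_lit 145400) (nat_lit 100) = true := by decide +kernel
theorem chkP_145500 : allRangeF (checkPointF cert) (nat_lit 145500) (nat_lit 100) = true := by decide +kernel
theorem chkP_145600 : allRangeF (checkPointF cert) (nat_lit 145600) (nat_lit 100) = true := by decide +kernel
theorem chkP_145700 : allRangeF (checkPointF cert) (nat_lit 145700) (nat_lit 100) = true := by decide +kernel
theorem chkP_145800 : allRangeF (checkPointF cert) (nat_lit 145800) (nat_lit 100) = true := by decide +kernel
theorem chkP_145900 : allRangeF (checkPointF cert) (nat_lit 145900) (nat_lit 100) = true := by decide +kernel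
theorem chkP_146000 : allRangeF (checkPointF cert) (nat_lit 146000) (nat_lit 100) = true := by decide +kernel
theorem chkP_146100 : allRangeF (checkPointF cert) (nat_lit 146100) (nat_lit 100) = true := by decide +kernel
theorem chkP_146200 : allRangeF (checkPointF cert) (nat_lit 146200) (nat_lit 100) = true := by decide +kernel
theorem chkP_146300 : allRangeF (checkPointF cert) (nat_lit 146300) (nat_lit 100) = true := by decide +kernel
theorem chkP_146400 : allRangeF (checkPointF cert) (nat_lit 146400) (nat_lit 100) = true := by decide +kernel
theorem chkP_146500 : allRangeF (checkPointF cert) (nat_lit 146500) (nat_lit 100) = true := by decide +kernel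
theorem chkP_146600 : allRangeF (checkPointF cert) (nat_lit 146600) (nat_lit 100) = true := by decide +kernel
theorem chkP_146700 : allRangeF (checkPointF cert) (nat_lit 146700) (nat_lit 100) = true := by decide +kernel
theorem chkP_146800 : allRangeF (checkPointF cert) (nat_lit 146800) (nat_lit 100) = true := by decide +kernel
theorem chkP_146900 : allRangeF (checkPointF cert) (nat_lit 146900) (nat_lit 100) = true := by decide +kernel
theorem chkP_147000 : allRangeF (checkPointF cert) (nat_lit 147000) (nat_lit 100) = true := by decide +kernel
theorem chkP_147100 : allRangeF (checkPointF cert) (nat_lit 147100) (nat_lit 100) = true := by decide +kernel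
theorem chkP_147200 : allRangeF (checkPointF cert) (nat_lit 147200) (nat_lit 100) = true := by decide +kernel
theorem chkP_147300 : allRangeF (checkPointF cert) (nat_lit 147300) (nat_lit 100) = true := by decide +kernel
theorem chkP_147400 : allRangeF (checkPointF cert) (nat_lit 147400) (nat_lit 100) = true := by decide +kernel
theorem chkP_147500 : allRangeF (checkPointF cert) (nat_lit 147500) (nat_lit 100) = true := by decide +kernel
theorem chkP_147600 : allRangeF (checkPointF cert) (nat_lit 147600) (nat_lit 100) = true := by decide +kernel
theorem chkP_147700 : allRangeF (checkPointF cert) (nat_lit 147700) (nat_lit 100) = true := by decide +kernel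
theorem chkP_147800 : allRangeF (checkPointF cert) (nat_lit 147800) (nat_lit 100) = true := by decide +kernel
theorem chkP_147900 : allRangeF (checkPointF cert) (nat_lit 147900) (nat_lit 100) = true := by decide +kernel
theorem chkP_148000 : allRangeF (checkPointF cert) (nat_lit 148000) (nat_lit 100) = true := by decide +kernel
theorem chkP_148100 : allRangeF (checkPointF cert) (nat_lit 148100) (nat_lit 100) = true := by decide +kernel
theorem chkP_148200 : allRangeF (checkPointF cert) (nat_lit 148200) (nat_lit 100) = true := by decide +kernel
theorem chkP_148300 : allRangeF (checkPointF cert) (nat_lit 148300) (nat_lit 100) = true := by decide +kernel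
theorem chkP_148400 : allRangeF (checkPointF cert) (nat_lit 148400) (nat_lit 100) = true := by decide +kernel
theorem chkP_148500 : allRangeF (checkPointF cert) (nat_lit 148500) (nat_lit 100) = true := by decide +kernel
theorem chkP_148600 : allRangeF (checkPointF cert) (nat_lit 148600) (nat_lit 100) = true := by decide +kernel
theorem chkP_148700 : allRangeF (checkPointF cert) (nat_lit 148700) (nat_lit 100) = true := by decide +kernel
theorem chkP_148800 : allRangeF (checkPointF cert) (nat_lit 148800) (nat_lit 100) = true := by decide +kernel
theorem chkP_148900 : allRangeF (checkPointF cert) (nat_lit 148900) (nat_lit 100) = true := by decide +kernel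
theorem chkP_149000 : allRangeF (checkPointF cert) (nat_lit 149000) (nat_lit 100) = true := by decide +kernel
theorem chkP_149100 : allRangeF (checkPointF cert) (nat_lit 149100) (nat_lit 100) = true := by decide +kernel
theorem chkP_149200 : allRangeF (checkPointF cert) (nat_lit 149200) (nat_lit 100) = true := by decide +kernel
theorem chkP_149300 : allRangeF (checkPointF cert) (nat_lit 149300) (nat_lit 100) = true := by decide +kernel
theorem chkP_149400 : allRangeF (checkPointF cert) (nat_lit 149400) (nat_lit 100) = true := by decide +kernel
theorem chkP_149500 : allRangeF (checkPointF cert) (nat_lit 149500) (nat_lit 100) = true := by decide +kernel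
theorem chkP_149600 : allRangeF (checkPointF cert) (nat_lit 149600) (nat_lit 100) = true := by decide +kernel
theorem chkP_149700 : allRangeF (checkPointF cert) (nat_lit 149700) (nat_lit 100) = true := by decide +kernel
theorem chkP_149800 : allRangeF (checkPointF cert) (nat_lit 149800) (nat_lit 100) = true := by decide +kernel
theorem chkP_149900 : allRangeF (checkPointF cert) (nat_lit 149900) (nat_lit 100) = true := by decide +kernel
theorem chkP_150000 : allRangeF (checkPointF cert) (nat_lit 150000) (nat_lit 100) = true := by decide +kernel
theorem chkP_150100 : allRangeF (checkPointF cert) (nat_lit 150100) (nat_lit 100) = true := by decide +kernel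
theorem chkP_150200 : allRangeF (checkPointF cert) (nat_lit 150200) (nat_lit 100) = true := by decide +kernel

theorem ptsRange_8 : ∀ i, 133600 ≤ i → i < 150300 → checkPoint cert i = true := by
  intro i hlo hhi
  rcases Nat.lt_or_ge i 141900 with h1 | h1
  · skip
    rcases Nat.lt_or_ge i 137700 with h2 | h2
    · skip
      rcases Nat.lt_or_ge i 135600 with h3 | h3
      · skip
        rcases Nat.lt_or_ge i 134600 with h4 | h4
        · skip
          rcases Nat.lt_or_ge i 134100 with h5 | h5
          · skip
            rcases Nat.lt_or_ge i 133800 with h6 | h6
            · skip
              rcases Nat.lt_or_ge i 133700 with h7 | h7
              · skip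
                exact allRangeF_sound _ _ (checkPointF_eq cert) 133600 100 chkP_133600 i (by omega) (by omega)
              · skip
                exact allRangeF_sound _ _ (checkPointF_eq cert) 133700 100 chkP_133700 i (by omega) (by omega)
            · skip
              rcases Nat.lt_or_ge i 133900 with h7 | h7
              · skip
                exact allRangeF_sound _ _ (checkPointF_eq cert) 133800 100 chkP_133800 i (by omega) (by omega)
              · skip
                rcases Nat.lt_or_ge i 134000 with h8 | h8
                · skip
                  exact allRangeF_sound _ _ (checkPointF_eq cert) 133900 100 chkP_133900 i (by omega) (by omega)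
                · skip
                  exact allRangeF_sound _ _ (checkPointF_eq cert) 134000 100 chkP_134000 i (by omega) (by omega)
          · skip
            rcases Nat.lt_or_ge i 134300 with h6 | h6
            · skip
              rcases Nat.lt_or_ge i 134200 with h7 | h7
              · skip
                exact allRangeF_sound _ _ (checkPointF_eq cert) 134100 100 chkP_134100 i (by omega) (by omega)
              · skip
                exact allRangeF_sound _ _ (checkPointF_eq cert) 134200 100 chkP_134200 i (by omega) (by omega)
            · skip
              rcases Nat.lt_or_ge i 134400 with h7 | h7
              · skip
                exact allRangeF_sound _ _ (checkPointF_eq cert) 134300 100 chkP_134300 i (by omega) (by omega)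
              · skip
                rcases Nat.lt_or_ge i 134500 with h8 | h8
                · skip
                  exact allRangeF_sound _ _ (checkPointF_eq cert) 134400 100 chkP_134400 i (by omega) (by omega)
                · skip
                  exact allRangeF_sound _ _ (checkPointF_eq cert) 134500 100 chkP_134500 i (by omega) (by omega)
        · skip
          rcases Nat.lt_or_ge i 135100 with h5 | h5
          · skip
            rcases Nat.lt_or_ge i 134800 with h6 | h6
            · skip
              rcases Nat.lt_or_ge i 134700 with h7 | h7
              · skip
                exact allRangeF_sound _ _ (checkPointF_eq cert) 134600 100 chkP_134600 i (by omega) (by omega)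
              · skip
                exact allRangeF_sound _ _ (checkPointF_eq cert) 134700 100 chkP_134700 i (by omega) (by omega)
            · skip
              rcases Nat.lt_or_ge i 134900 with h7 | h7
              · skip
                exact allRangeF_sound _ _ (checkPointF_eq cert) 134800 100 chkP_134800 i (by omega) (by omega)
              · skip
                rcases Nat.lt_or_ge i 135000 with h8 | h8
                · skip
                  exact allRangeF_sound _ _ (checkPointF_eq cert) 134900 100 chkP_134900 i (by omega) (by omega)
                · skip
                  exact allRangeF_sound _ _ (checkPointF_eq cert) 135000 100 chkP_135000 i (by omega) (by omega)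
          · skip
            rcases Nat.lt_or_ge i 135300 with h6 | h6
            · skip
              rcases Nat.lt_or_ge i 135200 with h7 | h7
              · skip
                exact allRangeF_sound _ _ (checkPointF_eq cert) 135100 100 chkP_135100 i (by omega) (by omega)
              · skip
                exact allRangeF_sound _ _ (checkPointF_eq cert) 135200 100 chkP_135200 i (by omega) (by omega)
            · skip
              rcases Nat.lt_or_ge i 135400 with h7 | h7
              · skip
                exact allRangeF_sound _ _ (checkPointF_eq cert) 135300 100 chkP_135300 i (by omega) (by omega)
              · skip
                rcases Nat.lt_or_ge i 135500 with h8 | h8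
                · skip
                  exact allRangeF_sound _ _ (checkPointF_eq cert) 135400 100 chkP_135400 i (by omega) (by omega)
                · skip
                  exact allRangeF_sound _ _ (checkPointF_eq cert) 135500 100 chkP_135500 i (by omega) (by omega)
      · skip
        rcases Nat.lt_or_ge i 136600 with h4 | h4
        · skip
          rcases Nat.lt_or_ge i 136100 with h5 | h5
          · skip
            rcases Nat.lt_or_ge i 135800 with h6 | h6
            · skip
              rcases Nat.lt_or_ge i 135700 with h7 | h7
              · skip
                exact allRangeF_sound _ _ (checkPointF_eq cert) 135600 100 chkP_135600 i (by omega) (by omega)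
              · skip
                exact allRangeF_sound _ _ (checkPointF_eq cert) 135700 100 chkP_135700 i (by omega) (by omega)
            · skip
              rcases Nat.lt_or_ge i 135900 with h7 | h7
              · skip
                exact allRangeF_sound _ _ (checkPointF_eq cert) 135800 100 chkP_135800 i (by omega) (by omega)
              · skip
                rcases Nat.lt_or_ge i 136000 with h8 | h8
                · skip
                  exact allRangeF_sound _ _ (checkPointF_eq cert) 135900 100 chkP_135900 i (by omega) (by omega)
                · skip
                  exact allRangeF_sound _ _ (checkPointF_eq cert) 136000 100 chkP_136000 i (by omega) (by omega)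
          · skip
            rcases Nat.lt_or_ge i 136300 with h6 | h6
            · skip
              rcases Nat.lt_or_ge i 136200 with h7 | h7
              · skip
                exact allRangeF_sound _ _ (checkPointF_eq cert) 136100 100 chkP_136100 i (by omega) (by omega)
              · skip
                exact allRangeF_sound _ _ (checkPointF_eq cert) 136200 100 chkP_136200 i (by omega) (by omega)
            · skip
              rcases Nat.lt_or_ge i 136400 with h7 | h7
              · skip
                exact allRangeF_sound _ _ (checkPointF_eq cert) 136300 100 chkP_136300 i (by omega) (by omega)
              · skip
                rcases Nat.lt_or_ge i 136500 with h8 | h8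
                · skip
                  exact allRangeF_sound _ _ (checkPointF_eq cert) 136400 100 chkP_136400 i (by omega) (by omega)
                · skip
                  exact allRangeF_sound _ _ (checkPointF_eq cert) 136500 100 chkP_136500 i (by omega) (by omega)
        · skip
          rcases Nat.lt_or_ge i 137100 with h5 | h5
          · skip
            rcases Nat.lt_or_ge i 136800 with h6 | h6
            · skip
              rcases Nat.lt_or_ge i 136700 with h7 | h7
              · skip
                exact allRangeF_sound _ _ (checkPointF_eq cert) 136600 100 chkP_136600 i (by omega) (by omega)
              · skip
                exact allRangeF_sound _ _ (checkPointF_eq cert) 136700 100 chkP_136700 i (by omega) (by omega)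
            · skip
              rcases Nat.lt_or_ge i 136900 with h7 | h7
              · skip
                exact allRangeF_sound _ _ (checkPointF_eq cert) 136800 100 chkP_136800 i (by omega) (by omega)
              · skip
                rcases Nat.lt_or_ge i 137000 with h8 | h8
                · skip
                  exact allRangeF_sound _ _ (checkPointF_eq cert) 136900 100 chkP_136900 i (by omega) (by omega)
                · skip
                  exact allRangeF_sound _ _ (checkPointF_eq cert) 137000 100 chkP_137000 i (by omega) (by omega)
          · skip
            rcases Nat.lt_or_ge i 137400 with h6 | h6
            · skip
              rcases Nat.lt_or_ge i 137200 with h7 | h7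
              · skip
                exact allRangeF_sound _ _ (checkPointF_eq cert) 137100 100 chkP_137100 i (by omega) (by omega)
              · skip
                rcases Nat.lt_or_ge i 137300 with h8 | h8
                · skip
                  exact allRangeF_sound _ _ (checkPointF_eq cert) 137200 100 chkP_137200 i (by omega) (by omega)
                · skip
                  exact allRangeF_sound _ _ (checkPointF_eq cert) 137300 100 chkP_137300 i (by omega) (by omega)
            · skip
              rcases Nat.lt_or_ge i 137500 with h7 | h7
              · skip
                exact allRangeF_sound _ _ (checkPointF_eq cert) 137400 100 chkP_137400 i (by omega) (by omega)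
              · skip
                rcases Nat.lt_or_ge i 137600 with h8 | h8
                · skip
                  exact allRangeF_sound _ _ (checkPointF_eq cert) 137500 100 chkP_137500 i (by omega) (by omega)
                · skip
                  exact allRangeF_sound _ _ (checkPointF_eq cert) 137600 100 chkP_137600 i (by omega) (by omega)
    · skip
      rcases Nat.lt_or_ge i 139800 with h3 | h3
      · skip
        rcases Nat.lt_or_ge i 138700 with h4 | h4
        · skip
          rcases Nat.lt_or_ge i 138200 with h5 | h5
          · skip
            rcases Nat.lt_or_ge i 137900 with h6 | h6
            · skip
              rcases Nat.lt_or_ge i 137800 with h7 | h7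
              · skip
                exact allRangeF_sound _ _ (checkPointF_eq cert) 137700 100 chkP_137700 i (by omega) (by omega)
              · skip
                exact allRangeF_sound _ _ (checkPointF_eq cert) 137800 100 chkP_137800 i (by omega) (by omega)
            · skip
              rcases Nat.lt_or_ge i 138000 with h7 | h7
              · skip
                exact allRangeF_sound _ _ (checkPointF_eq cert) 137900 100 chkP_137900 i (by omega) (by omega)
              · skip
                rcases Nat.lt_or_ge i 138100 with h8 | h8
                · skip
                  exact allRangeF_sound _ _ (checkPointF_eq cert) 138000 100 chkP_138000 i (by omega) (by omega)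
                · skip
                  exact allRangeF_sound _ _ (checkPointF_eq cert) 138100 100 chkP_138100 i (by omega) (by omega)
          · skip
            rcases Nat.lt_or_ge i 138400 with h6 | h6
            · skip
              rcases Nat.lt_or_ge i 138300 with h7 | h7
              · skip
                exact allRangeF_sound _ _ (checkPointF_eq cert) 138200 100 chkP_138200 i (by omega) (by omega)
              · skip
                exact allRangeF_sound _ _ (checkPointF_eq cert) 138300 100 chkP_138300 i (by omega) (by omega)
            · skip
              rcases Nat.lt_or_ge i 138500 with h7 | h7
              · skip
                exact allRangeF_sound _ _ (checkPointF_eq cert) 138400 100 chkP_138400 i (by omega) (by omega)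
              · skip
                rcases Nat.lt_or_ge i 138600 with h8 | h8
                · skip
                  exact allRangeF_sound _ _ (checkPointF_eq cert) 138500 100 chkP_138500 i (by omega) (by omega)
                · skip
                  exact allRangeF_sound _ _ (checkPointF_eq cert) 138600 100 chkP_138600 i (by omega) (by omega)
        · skip
          rcases Nat.lt_or_ge i 139200 with h5 | h5
          · skip
            rcases Nat.lt_or_ge i 138900 with h6 | h6
            · skip
              rcases Nat.lt_or_ge i 138800 with h7 | h7
              · skip
                exact allRangeF_sound _ _ (checkPointF_eq cert) 138700 100 chkP_138700 i (by omega) (by omega)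
              · skip
                exact allRangeF_sound _ _ (checkPointF_eq cert) 138800 100 chkP_138800 i (by omega) (by omega)
            · skip
              rcases Nat.lt_or_ge i 139000 with h7 | h7
              · skip
                exact allRangeF_sound _ _ (checkPointF_eq cert) 138900 100 chkP_138900 i (by omega) (by omega)
              · skip
                rcases Nat.lt_or_ge i 139100 with h8 | h8
                · skip
                  exact allRangeF_sound _ _ (checkPointF_eq cert) 139000 100 chkP_139000 i (by omega) (by omega)
                · skip
                  exact allRangeF_sound _ _ (checkPointF_eq cert) 139100 100 chkP_139100 i (by omega) (by omega)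
          · skip
            rcases Nat.lt_or_ge i 139500 with h6 | h6
            · skip
              rcases Nat.lt_or_ge i 139300 with h7 | h7
              · skip
                exact allRangeF_sound _ _ (checkPointF_eq cert) 139200 100 chkP_139200 i (by omega) (by omega)
              · skip
                rcases Nat.lt_or_ge i 139400 with h8 | h8
                · skip
                  exact allRangeF_sound _ _ (checkPointF_eq cert) 139300 100 chkP_139300 i (by omega) (by omega)
                · skip
                  exact allRangeF_sound _ _ (checkPointF_eq cert) 139400 100 chkP_139400 i (by omega) (by omega)
            · skip
              rcases Nat.lt_or_ge i 139600 with h7 | h7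
              · skip
                exact allRangeF_sound _ _ (checkPointF_eq cert) 139500 100 chkP_139500 i (by omega) (by omega)
              · skip
                rcases Nat.lt_or_ge i 139700 with h8 | h8
                · skip
                  exact allRangeF_sound _ _ (checkPointF_eq cert) 139600 100 chkP_139600 i (by omega) (by omega)
                · skip
                  exact allRangeF_sound _ _ (checkPointF_eq cert) 139700 100 chkP_139700 i (by omega) (by omega)
      · skip
        rcases Nat.lt_or_ge i 140800 with h4 | h4
        · skip
          rcases Nat.lt_or_ge i 140300 with h5 | h5
          · skip
            rcases Nat.lt_or_ge i 140000 with h6 | h6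
            · skip
              rcases Nat.lt_or_ge i 139900 with h7 | h7
              · skip
                exact allRangeF_sound _ _ (checkPointF_eq cert) 139800 100 chkP_139800 i (by omega) (by omega)
              · skip
                exact allRangeF_sound _ _ (checkPointF_eq cert) 139900 100 chkP_139900 i (by omega) (by omega)
            · skip
              rcases Nat.lt_or_ge i 140100 with h7 | h7
              · skip
                exact allRangeF_sound _ _ (checkPointF_eq cert) 140000 100 chkP_140000 i (by omega) (by omega)
              · skip
                rcases Nat.lt_or_ge i 140200 with h8 | h8
                · skip
                  exact allRangeF_sound _ _ (checkPointF_eq cert) 140100 100 chkP_140100 i (by omega) (by omega)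
                · skip
                  exact allRangeF_sound _ _ (checkPointF_eq cert) 140200 100 chkP_140200 i (by omega) (by omega)
          · skip
            rcases Nat.lt_or_ge i 140500 with h6 | h6
            · skip
              rcases Nat.lt_or_ge i 140400 with h7 | h7
              · skip
                exact allRangeF_sound _ _ (checkPointF_eq cert) 140300 100 chkP_140300 i (by omega) (by omega)
              · skip
                exact allRangeF_sound _ _ (checkPointF_eq cert) 140400 100 chkP_140400 i (by omega) (by omega)
            · skip
              rcases Nat.lt_or_ge i 140600 with h7 | h7
              · skip
                exact allRangeF_sound _ _ (checkPointF_eq cert) 140500 100 chkP_140500 i (by omega) (by omega)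
              · skip
                rcases Nat.lt_or_ge i 140700 with h8 | h8
                · skip
                  exact allRangeF_sound _ _ (checkPointF_eq cert) 140600 100 chkP_140600 i (by omega) (by omega)
                · skip
                  exact allRangeF_sound _ _ (checkPointF_eq cert) 140700 100 chkP_140700 i (by omega) (by omega)
        · skip
          rcases Nat.lt_or_ge i 141300 with h5 | h5
          · skip
            rcases Nat.lt_or_ge i 141000 with h6 | h6
            · skip
              rcases Nat.lt_or_ge i 140900 with h7 | h7
              · skip
                exact allRangeF_sound _ _ (checkPointF_eq cert) 140800 100 chkP_140800 i (by omega) (by omega)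
              · skip
                exact allRangeF_sound _ _ (checkPointF_eq cert) 140900 100 chkP_140900 i (by omega) (by omega)
            · skip
              rcases Nat.lt_or_ge i 141100 with h7 | h7
              · skip
                exact allRangeF_sound _ _ (checkPointF_eq cert) 141000 100 chkP_141000 i (by omega) (by omega)
              · skip
                rcases Nat.lt_or_ge i 141200 with h8 | h8
                · skip
                  exact allRangeF_sound _ _ (checkPointF_eq cert) 141100 100 chkP_141100 i (by omega) (by omega)
                · skip
                  exact allRangeF_sound _ _ (checkPointF_eq cert) 141200 100 chkP_141200 i (by omega) (by omega)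
          · skip
            rcases Nat.lt_or_ge i 141600 with h6 | h6
            · skip
              rcases Nat.lt_or_ge i 141400 with h7 | h7
              · skip
                exact allRangeF_sound _ _ (checkPointF_eq cert) 141300 100 chkP_141300 i (by omega) (by omega)
              · skip
                rcases Nat.lt_or_ge i 141500 with h8 | h8
                · skip
                  exact allRangeF_sound _ _ (checkPointF_eq cert) 141400 100 chkP_141400 i (by omega) (by omega)
                · skip
                  exact allRangeF_sound _ _ (checkPointF_eq cert) 141500 100 chkP_141500 i (by omega) (by omega)
            · skip
              rcases Nat.lt_or_ge i 141700 with h7 | h7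
              · skip
                exact allRangeF_sound _ _ (checkPointF_eq cert) 141600 100 chkP_141600 i (by omega) (by omega)
              · skip
                rcases Nat.lt_or_ge i 141800 with h8 | h8
                · skip
                  exact allRangeF_sound _ _ (checkPointF_eq cert) 141700 100 chkP_141700 i (by omega) (by omega)
                · skip
                  exact allRangeF_sound _ _ (checkPointF_eq cert) 141800 100 chkP_141800 i (by omega) (by omega)
  · skip
    rcases Nat.lt_or_ge i 146100 with h2 | h2
    · skip
      rcases Nat.lt_or_ge i 144000 with h3 | h3
      · skip
        rcases Nat.lt_or_ge i 142900 with h4 | h4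
        · skip
          rcases Nat.lt_or_ge i 142400 with h5 | h5
          · skip
            rcases Nat.lt_or_ge i 142100 with h6 | h6
            · skip
              rcases Nat.lt_or_ge i 142000 with h7 | h7
              · skip
                exact allRangeF_sound _ _ (checkPointF_eq cert) 141900 100 chkP_141900 i (by omega) (by omega)
              · skip
                exact allRangeF_sound _ _ (checkPointF_eq cert) 142000 100 chkP_142000 i (by omega) (by omega)
            · skip
              rcases Nat.lt_or_ge i 142200 with h7 | h7
              · skip
                exact allRangeF_sound _ _ (checkPointF_eq cert) 142100 100 chkP_142100 i (by omega) (by omega)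
              · skip
                rcases Nat.lt_or_ge i 142300 with h8 | h8
                · skip
                  exact allRangeF_sound _ _ (checkPointF_eq cert) 142200 100 chkP_142200 i (by omega) (by omega)
                · skip
                  exact allRangeF_sound _ _ (checkPointF_eq cert) 142300 100 chkP_142300 i (by omega) (by omega)
          · skip
            rcases Nat.lt_or_ge i 142600 with h6 | h6
            · skip
              rcases Nat.lt_or_ge i 142500 with h7 | h7
              · skip
                exact allRangeF_sound _ _ (checkPointF_eq cert) 142400 100 chkP_142400 i (by omega) (by omega)
              · skip
                exact allRangeF_sound _ _ (checkPointF_eq cert) 142500 100 chkP_142500 i (by omega) (by omega)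
            · skip
              rcases Nat.lt_or_ge i 142700 with h7 | h7
              · skip
                exact allRangeF_sound _ _ (checkPointF_eq cert) 142600 100 chkP_142600 i (by omega) (by omega)
              · skip
                rcases Nat.lt_or_ge i 142800 with h8 | h8
                · skip
                  exact allRangeF_sound _ _ (checkPointF_eq cert) 142700 100 chkP_142700 i (by omega) (by omega)
                · skip
                  exact allRangeF_sound _ _ (checkPointF_eq cert) 142800 100 chkP_142800 i (by omega) (by omega)
        · skip
          rcases Nat.lt_or_ge i 143400 with h5 | h5
          · skip
            rcases Nat.lt_or_ge i 143100 with h6 | h6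
            · skip
              rcases Nat.lt_or_ge i 143000 with h7 | h7
              · skip
                exact allRangeF_sound _ _ (checkPointF_eq cert) 142900 100 chkP_142900 i (by omega) (by omega)
              · skip
                exact allRangeF_sound _ _ (checkPointF_eq cert) 143000 100 chkP_143000 i (by omega) (by omega)
            · skip
              rcases Nat.lt_or_ge i 143200 with h7 | h7
              · skip
                exact allRangeF_sound _ _ (checkPointF_eq cert) 143100 100 chkP_143100 i (by omega) (by omega)
              · skip
                rcases Nat.lt_or_ge i 143300 with h8 | h8
                · skip
                  exact allRangeF_sound _ _ (checkPointF_eq cert) 143200 100 chkP_143200 i (by omega) (by omega)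
                · skip
                  exact allRangeF_sound _ _ (checkPointF_eq cert) 143300 100 chkP_143300 i (by omega) (by omega)
          · skip
            rcases Nat.lt_or_ge i 143700 with h6 | h6
            · skip
              rcases Nat.lt_or_ge i 143500 with h7 | h7
              · skip
                exact allRangeF_sound _ _ (checkPointF_eq cert) 143400 100 chkP_143400 i (by omega) (by omega)
              · skip
                rcases Nat.lt_or_ge i 143600 with h8 | h8
                · skip
                  exact allRangeF_sound _ _ (checkPointF_eq cert) 143500 100 chkP_143500 i (by omega) (by omega)
                · skip
                  exact allRangeF_sound _ _ (checkPointF_eq cert) 143600 100 chkP_143600 i (by omega) (by omega)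
            · skip
              rcases Nat.lt_or_ge i 143800 with h7 | h7
              · skip
                exact allRangeF_sound _ _ (checkPointF_eq cert) 143700 100 chkP_143700 i (by omega) (by omega)
              · skip
                rcases Nat.lt_or_ge i 143900 with h8 | h8
                · skip
                  exact allRangeF_sound _ _ (checkPointF_eq cert) 143800 100 chkP_143800 i (by omega) (by omega)
                · skip
                  exact allRangeF_sound _ _ (checkPointF_eq cert) 143900 100 chkP_143900 i (by omega) (by omega)
      · skip
        rcases Nat.lt_or_ge i 145000 with h4 | h4
        · skip
          rcases Nat.lt_or_ge i 144500 with h5 | h5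
          · skip
            rcases Nat.lt_or_ge i 144200 with h6 | h6
            · skip
              rcases Nat.lt_or_ge i 144100 with h7 | h7
              · skip
                exact allRangeF_sound _ _ (checkPointF_eq cert) 144000 100 chkP_144000 i (by omega) (by omega)
              · skip
                exact allRangeF_sound _ _ (checkPointF_eq cert) 144100 100 chkP_144100 i (by omega) (by omega)
            · skip
              rcases Nat.lt_or_ge i 144300 with h7 | h7
              · skip
                exact allRangeF_sound _ _ (checkPointF_eq cert) 144200 100 chkP_144200 i (by omega) (by omega)
              · skip
                rcases Nat.lt_or_ge i 144400 with h8 | h8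
                · skip
                  exact allRangeF_sound _ _ (checkPointF_eq cert) 144300 100 chkP_144300 i (by omega) (by omega)
                · skip
                  exact allRangeF_sound _ _ (checkPointF_eq cert) 144400 100 chkP_144400 i (by omega) (by omega)
          · skip
            rcases Nat.lt_or_ge i 144700 with h6 | h6
            · skip
              rcases Nat.lt_or_ge i 144600 with h7 | h7
              · skip
                exact allRangeF_sound _ _ (checkPointF_eq cert) 144500 100 chkP_144500 i (by omega) (by omega)
              · skip
                exact allRangeF_sound _ _ (checkPointF_eq cert) 144600 100 chkP_144600 i (by omega) (by omega)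
            · skip
              rcases Nat.lt_or_ge i 144800 with h7 | h7
              · skip
                exact allRangeF_sound _ _ (checkPointF_eq cert) 144700 100 chkP_144700 i (by omega) (by omega)
              · skip
                rcases Nat.lt_or_ge i 144900 with h8 | h8
                · skip
                  exact allRangeF_sound _ _ (checkPointF_eq cert) 144800 100 chkP_144800 i (by omega) (by omega)
                · skip
                  exact allRangeF_sound _ _ (checkPointF_eq cert) 144900 100 chkP_144900 i (by omega) (by omega)
        · skip
          rcases Nat.lt_or_ge i 145500 with h5 | h5
          · skip
            rcases Nat.lt_or_ge i 145200 with h6 | h6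
            · skip
              rcases Nat.lt_or_ge i 145100 with h7 | h7
              · skip
                exact allRangeF_sound _ _ (checkPointF_eq cert) 145000 100 chkP_145000 i (by omega) (by omega)
              · skip
                exact allRangeF_sound _ _ (checkPointF_eq cert) 145100 100 chkP_145100 i (by omega) (by omega)
            · skip
              rcases Nat.lt_or_ge i 145300 with h7 | h7
              · skip
                exact allRangeF_sound _ _ (checkPointF_eq cert) 145200 100 chkP_145200 i (by omega) (by omega)
              · skip
                rcases Nat.lt_or_ge i 145400 with h8 | h8
                · skip
                  exact allRangeF_sound _ _ (checkPointF_eq cert) 145300 100 chkP_145300 i (by omega) (by omega)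
                · skip
                  exact allRangeF_sound _ _ (checkPointF_eq cert) 145400 100 chkP_145400 i (by omega) (by omega)
          · skip
            rcases Nat.lt_or_ge i 145800 with h6 | h6
            · skip
              rcases Nat.lt_or_ge i 145600 with h7 | h7
              · skip
                exact allRangeF_sound _ _ (checkPointF_eq cert) 145500 100 chkP_145500 i (by omega) (by omega)
              · skip
                rcases Nat.lt_or_ge i 145700 with h8 | h8
                · skip
                  exact allRangeF_sound _ _ (checkPointF_eq cert) 145600 100 chkP_145600 i (by omega) (by omega)
                · skip
                  exact allRangeF_sound _ _ (checkPointF_eq cert) 145700 100 chkP_145700 i (by omega) (by omega)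
            · skip
              rcases Nat.lt_or_ge i 145900 with h7 | h7
              · skip
                exact allRangeF_sound _ _ (checkPointF_eq cert) 145800 100 chkP_145800 i (by omega) (by omega)
              · skip
                rcases Nat.lt_or_ge i 146000 with h8 | h8
                · skip
                  exact allRangeF_sound _ _ (checkPointF_eq cert) 145900 100 chkP_145900 i (by omega) (by omega)
                · skip
                  exact allRangeF_sound _ _ (checkPointF_eq cert) 146000 100 chkP_146000 i (by omega) (by omega)
    · skip
      rcases Nat.lt_or_ge i 148200 with h3 | h3
      · skip
        rcases Nat.lt_or_ge i 147100 with h4 | h4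
        · skip
          rcases Nat.lt_or_ge i 146600 with h5 | h5
          · skip
            rcases Nat.lt_or_ge i 146300 with h6 | h6
            · skip
              rcases Nat.lt_or_ge i 146200 with h7 | h7
              · skip
                exact allRangeF_sound _ _ (checkPointF_eq cert) 146100 100 chkP_146100 i (by omega) (by omega)
              · skip
                exact allRangeF_sound _ _ (checkPointF_eq cert) 146200 100 chkP_146200 i (by omega) (by omega)
            · skip
              rcases Nat.lt_or_ge i 146400 with h7 | h7
              · skip
                exact allRangeF_sound _ _ (checkPointF_eq cert) 146300 100 chkP_146300 i (by omega) (by omega)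
              · skip
                rcases Nat.lt_or_ge i 146500 with h8 | h8
                · skip
                  exact allRangeF_sound _ _ (checkPointF_eq cert) 146400 100 chkP_146400 i (by omega) (by omega)
                · skip
                  exact allRangeF_sound _ _ (checkPointF_eq cert) 146500 100 chkP_146500 i (by omega) (by omega)
          · skip
            rcases Nat.lt_or_ge i 146800 with h6 | h6
            · skip
              rcases Nat.lt_or_ge i 146700 with h7 | h7
              · skip
                exact allRangeF_sound _ _ (checkPointF_eq cert) 146600 100 chkP_146600 i (by omega) (by omega)
              · skip
                exact allRangeF_sound _ _ (checkPointF_eq cert) 146700 100 chkP_146700 i (by omega) (by omega)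
            · skip
              rcases Nat.lt_or_ge i 146900 with h7 | h7
              · skip
                exact allRangeF_sound _ _ (checkPointF_eq cert) 146800 100 chkP_146800 i (by omega) (by omega)
              · skip
                rcases Nat.lt_or_ge i 147000 with h8 | h8
                · skip
                  exact allRangeF_sound _ _ (checkPointF_eq cert) 146900 100 chkP_146900 i (by omega) (by omega)
                · skip
                  exact allRangeF_sound _ _ (checkPointF_eq cert) 147000 100 chkP_147000 i (by omega) (by omega)
        · skip
          rcases Nat.lt_or_ge i 147600 with h5 | h5
          · skip
            rcases Nat.lt_or_ge i 147300 with h6 | h6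
            · skip
              rcases Nat.lt_or_ge i 147200 with h7 | h7
              · skip
                exact allRangeF_sound _ _ (checkPointF_eq cert) 147100 100 chkP_147100 i (by omega) (by omega)
              · skip
                exact allRangeF_sound _ _ (checkPointF_eq cert) 147200 100 chkP_147200 i (by omega) (by omega)
            · skip
              rcases Nat.lt_or_ge i 147400 with h7 | h7
              · skip
                exact allRangeF_sound _ _ (checkPointF_eq cert) 147300 100 chkP_147300 i (by omega) (by omega)
              · skip
                rcases Nat.lt_or_ge i 147500 with h8 | h8
                · skip
                  exact allRangeF_sound _ _ (checkPointF_eq cert) 147400 100 chkP_147400 i (by omega) (by omega)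
                · skip
                  exact allRangeF_sound _ _ (checkPointF_eq cert) 147500 100 chkP_147500 i (by omega) (by omega)
          · skip
            rcases Nat.lt_or_ge i 147900 with h6 | h6
            · skip
              rcases Nat.lt_or_ge i 147700 with h7 | h7
              · skip
                exact allRangeF_sound _ _ (checkPointF_eq cert) 147600 100 chkP_147600 i (by omega) (by omega)
              · skip
                rcases Nat.lt_or_ge i 147800 with h8 | h8
                · skip
                  exact allRangeF_sound _ _ (checkPointF_eq cert) 147700 100 chkP_147700 i (by omega) (by omega)
                · skip
                  exact allRangeF_sound _ _ (checkPointF_eq cert) 147800 100 chkP_147800 i (by omega) (by omega)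
            · skip
              rcases Nat.lt_or_ge i 148000 with h7 | h7
              · skip
                exact allRangeF_sound _ _ (checkPointF_eq cert) 147900 100 chkP_147900 i (by omega) (by omega)
              · skip
                rcases Nat.lt_or_ge i 148100 with h8 | h8
                · skip
                  exact allRangeF_sound _ _ (checkPointF_eq cert) 148000 100 chkP_148000 i (by omega) (by omega)
                · skip
                  exact allRangeF_sound _ _ (checkPointF_eq cert) 148100 100 chkP_148100 i (by omega) (by omega)
      · skip
        rcases Nat.lt_or_ge i 149200 with h4 | h4
        · skip
          rcases Nat.lt_or_ge i 148700 with h5 | h5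
          · skip
            rcases Nat.lt_or_ge i 148400 with h6 | h6
            · skip
              rcases Nat.lt_or_ge i 148300 with h7 | h7
              · skip
                exact allRangeF_sound _ _ (checkPointF_eq cert) 148200 100 chkP_148200 i (by omega) (by omega)
              · skip
                exact allRangeF_sound _ _ (checkPointF_eq cert) 148300 100 chkP_148300 i (by omega) (by omega)
            · skip
              rcases Nat.lt_or_ge i 148500 with h7 | h7
              · skip
                exact allRangeF_sound _ _ (checkPointF_eq cert) 148400 100 chkP_148400 i (by omega) (by omega)
              · skip
                rcases Nat.lt_or_ge i 148600 with h8 | h8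
                · skip
                  exact allRangeF_sound _ _ (checkPointF_eq cert) 148500 100 chkP_148500 i (by omega) (by omega)
                · skip
                  exact allRangeF_sound _ _ (checkPointF_eq cert) 148600 100 chkP_148600 i (by omega) (by omega)
          · skip
            rcases Nat.lt_or_ge i 148900 with h6 | h6
            · skip
              rcases Nat.lt_or_ge i 148800 with h7 | h7
              · skip
                exact allRangeF_sound _ _ (checkPointF_eq cert) 148700 100 chkP_148700 i (by omega) (by omega)
              · skip
                exact allRangeF_sound _ _ (checkPointF_eq cert) 148800 100 chkP_148800 i (by omega) (by omega)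
            · skip
              rcases Nat.lt_or_ge i 149000 with h7 | h7
              · skip
                exact allRangeF_sound _ _ (checkPointF_eq cert) 148900 100 chkP_148900 i (by omega) (by omega)
              · skip
                rcases Nat.lt_or_ge i 149100 with h8 | h8
                · skip
                  exact allRangeF_sound _ _ (checkPointF_eq cert) 149000 100 chkP_149000 i (by omega) (by omega)
                · skip
                  exact allRangeF_sound _ _ (checkPointF_eq cert) 149100 100 chkP_149100 i (by omega) (by omega)
        · skip
          rcases Nat.lt_or_ge i 149700 with h5 | h5
          · skip
            rcases Nat.lt_or_ge i 149400 with h6 | h6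
            · skip
              rcases Nat.lt_or_ge i 149300 with h7 | h7
              · skip
                exact allRangeF_sound _ _ (checkPointF_eq cert) 149200 100 chkP_149200 i (by omega) (by omega)
              · skip
                exact allRangeF_sound _ _ (checkPointF_eq cert) 149300 100 chkP_149300 i (by omega) (by omega)
            · skip
              rcases Nat.lt_or_ge i 149500 with h7 | h7
              · skip
                exact allRangeF_sound _ _ (checkPointF_eq cert) 149400 100 chkP_149400 i (by omega) (by omega)
              · skip
                rcases Nat.lt_or_ge i 149600 with h8 | h8
                · skip
                  exact allRangeF_sound _ _ (checkPointF_eq cert) 149500 100 chkP_149500 i (by omega) (by omega)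
                · skip
                  exact allRangeF_sound _ _ (checkPointF_eq cert) 149600 100 chkP_149600 i (by omega) (by omega)
          · skip
            rcases Nat.lt_or_ge i 150000 with h6 | h6
            · skip
              rcases Nat.lt_or_ge i 149800 with h7 | h7
              · skip
                exact allRangeF_sound _ _ (checkPointF_eq cert) 149700 100 chkP_149700 i (by omega) (by omega)
              · skip
                rcases Nat.lt_or_ge i 149900 with h8 | h8
                · skip
                  exact allRangeF_sound _ _ (checkPointF_eq cert) 149800 100 chkP_149800 i (by omega) (by omega)
                · skip
                  exact allRangeF_sound _ _ (checkPointF_eq cert) 149900 100 chkP_149900 i (by omega) (by omega)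
            · skip
              rcases Nat.lt_or_ge i 150100 with h7 | h7
              · skip
                exact allRangeF_sound _ _ (checkPointF_eq cert) 150000 100 chkP_150000 i (by omega) (by omega)
              · skip
                rcases Nat.lt_or_ge i 150200 with h8 | h8
                · skip
                  exact allRangeF_sound _ _ (checkPointF_eq cert) 150100 100 chkP_150100 i (by omega) (by omega)
                · skip
                  exact allRangeF_sound _ _ (checkPointF_eq cert) 150200 100 chkP_150200 i (by omega) (by omega)

end Cfsg.Agent.Lib.Helper28.He2Data
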