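import Cfsg.Agent.Lib.Helper28.He2Data
import Cfsg.Agent.Lib.Helper28.TCFast

set_option autoImplicit false
set_option maxRecDepth 1000000
set_option linter.all false
set_option Elab.async false

namespace Cfsg.Agent.Lib.Helper28.He2Data

open Cfsg.Agent.Lib.Helper28

theorem chkP_150300 : allRangeF (checkPointF cert) (nat_lit 150300) (nat_lit 100) = true := by decide +kernel
theorem chkP_150400 : allRangeF (checkPointF cert) (nat_lit 150400) (nat_lit 100) = true := by decide +kernel
theorem chkP_150500 : allRangeF (checkPointF cert) (nat_lit 150500) (nat_lit 100) = true := by decide +kernel
theorem chkP_150600 : allRangeF (checkPointF cert) (nat_lit 150600) (nat_lit 100) = true := by decide +kernel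
theorem chkP_150700 : allRangeF (checkPointF cert) (nat_lit 150700) (nat_lit 100) = true := by decide +kernel
theorem chkP_150800 : allRangeF (checkPointF cert) (nat_lit 150800) (nat_lit 100) = true := by decide +kernel
theorem chkP_150900 : allRangeF (checkPointF cert) (nat_lit 150900) (nat_lit 100) = true := by decide +kernel
theorem chkP_151000 : allRangeF (checkPointF cert) (nat_lit 151000) (nat_lit 100) = true := by decide +kernel
theorem chkP_151100 : allRangeF (checkPointF cert) (nat_lit 151100) (nat_lit 100) = true := by decide +kernel
theorem chkP_151200 : allRangeF (checkPointF cert) (nat_lit 151200) (nat_lit 100) = true := by decide +kernel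
theorem chkP_151300 : allRangeF (checkPointF cert) (nat_lit 151300) (nat_lit 100) = true := by decide +kernel
theorem chkP_151400 : allRangeF (checkPointF cert) (nat_lit 151400) (nat_lit 100) = true := by decide +kernel
theorem chkP_151500 : allRangeF (checkPointF cert) (nat_lit 151500) (nat_lit 100) = true := by decide +kernel
theorem chkP_151600 : allRangeF (checkPointF cert) (nat_lit 151600) (nat_lit 100) = true := by decide +kernel
theorem chkP_151700 : allRangeF (checkPointF cert) (nat_lit 151700) (nat_lit 100) = true := by decide +kernel
theorem chkP_151800 : allRangeF (checkPointF cert) (nat_lit 151800) (nat_lit 100) = true := by decide +kernel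
theorem chkP_151900 : allRangeF (checkPointF cert) (nat_lit 151900) (nat_lit 100) = true := by decide +kernel
theorem chkP_152000 : allRangeF (checkPointF cert) (nat_lit 152000) (nat_lit 100) = true := by decide +kernel
theorem chkP_152100 : allRangeF (checkPointF cert) (nat_lit 152100) (nat_lit 100) = true := by decide +kernel
theorem chkP_152200 : allRangeF (checkPointF cert) (nat_lit 152200) (nat_lit 100) = true := by decide +kernel
theorem chkP_152300 : allRangeF (checkPointF cert) (nat_lit 152300) (nat_lit 100) = true := by decide +kernel
theorem chkP_152400 : allRangeF (checkPointF cert) (nat_lit 152400) (nat_lit 100) = true := by decide +kernel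
theorem chkP_152500 : allRangeF (checkPointF cert) (nat_lit 152500) (nat_lit 100) = true := by decide +kernel
theorem chkP_152600 : allRangeF (checkPointF cert) (nat_lit 152600) (nat_lit 100) = true := by decide +kernel
theorem chkP_152700 : allRangeF (checkPointF cert) (nat_lit 152700) (nat_lit 100) = true := by decide +kernel
theorem chkP_152800 : allRangeF (checkPointF cert) (nat_lit 152800) (nat_lit 100) = true := by decide +kernel
theorem chkP_152900 : allRangeF (checkPointF cert) (nat_lit 152900) (nat_lit 100) = true := by decide +kernel
theorem chkP_153000 : allRangeF (checkPointF cert) (nat_lit 153000) (nat_lit 100) = true := by decide +kernel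
theorem chkP_153100 : allRangeF (checkPointF cert) (nat_lit 153100) (nat_lit 100) = true := by decide +kernel
theorem chkP_153200 : allRangeF (checkPointF cert) (nat_lit 153200) (nat_lit 100) = true := by decide +kernel
theorem chkP_153300 : allRangeF (checkPointF cert) (nat_lit 153300) (nat_lit 100) = true := by decide +kernel
theorem chkP_153400 : allRangeF (checkPointF cert) (nat_lit 153400) (nat_lit 100) = true := by decide +kernel
theorem chkP_153500 : allRangeF (checkPointF cert) (nat_lit 153500) (nat_lit 100) = true := by decide +kernel
theorem chkP_153600 : allRangeF (checkPointF cert) (nat_lit 153600) (nat_lit 100) = true := by decide +kernel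
theorem chkP_153700 : allRangeF (checkPointF cert) (nat_lit 153700) (nat_lit 100) = true := by decide +kernel
theorem chkP_153800 : allRangeF (checkPointF cert) (nat_lit 153800) (nat_lit 100) = true := by decide +kernel
theorem chkP_153900 : allRangeF (checkPointF cert) (nat_lit 153900) (nat_lit 100) = true := by decide +kernel
theorem chkP_154000 : allRangeF (checkPointF cert) (nat_lit 154000) (nat_lit 100) = true := by decide +kernel
theorem chkP_154100 : allRangeF (checkPointF cert) (nat_lit 154100) (nat_lit 100) = true := by decide +kernel
theorem chkP_154200 : allRangeF (checkPointF cert) (nat_lit 154200) (nat_lit 100) = true := by decide +kernel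
theorem chkP_154300 : allRangeF (checkPointF cert) (nat_lit 154300) (nat_lit 100) = true := by decide +kernel
theorem chkP_154400 : allRangeF (checkPointF cert) (nat_lit 154400) (nat_lit 100) = true := by decide +kernel
theorem chkP_154500 : allRangeF (checkPointF cert) (nat_lit 154500) (nat_lit 100) = true := by decide +kernel
theorem chkP_154600 : allRangeF (checkPointF cert) (nat_lit 154600) (nat_lit 100) = true := by decide +kernel
theorem chkP_154700 : allRangeF (checkPointF cert) (nat_lit 154700) (nat_lit 100) = true := by decide +kernel
theorem chkP_154800 : allRangeF (checkPointF cert) (nat_lit 154800) (nat_lit 100) = true := by decide +kernel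
theorem chkP_154900 : allRangeF (checkPointF cert) (nat_lit 154900) (nat_lit 100) = true := by decide +kernel
theorem chkP_155000 : allRangeF (checkPointF cert) (nat_lit 155000) (nat_lit 100) = true := by decide +kernel
theorem chkP_155100 : allRangeF (checkPointF cert) (nat_lit 155100) (nat_lit 100) = true := by decide +kernel
theorem chkP_155200 : allRangeF (checkPointF cert) (nat_lit 155200) (nat_lit 100) = true := by decide +kernel
theorem chkP_155300 : allRangeF (checkPointF cert) (nat_lit 155300) (nat_lit 100) = true := by decide +kernel
theorem chkP_155400 : allRangeF (checkPointF cert) (nat_lit 155400) (nat_lit 100) = true := by decide +kernel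
theorem chkP_155500 : allRangeF (checkPointF cert) (nat_lit 155500) (nat_lit 100) = true := by decide +kernel
theorem chkP_155600 : allRangeF (checkPointF cert) (nat_lit 155600) (nat_lit 100) = true := by decide +kernel
theorem chkP_155700 : allRangeF (checkPointF cert) (nat_lit 155700) (nat_lit 100) = true := by decide +kernel
theorem chkP_155800 : allRangeF (checkPointF cert) (nat_lit 155800) (nat_lit 100) = true := by decide +kernel
theorem chkP_155900 : allRangeF (checkPointF cert) (nat_lit 155900) (nat_lit 100) = true := by decide +kernel
theorem chkP_156000 : allRangeF (checkPointF cert) (nat_lit 156000) (nat_lit 100) = true := by decide +kernel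
theorem chkP_156100 : allRangeF (checkPointF cert) (nat_lit 156100) (nat_lit 100) = true := by decide +kernel
theorem chkP_156200 : allRangeF (checkPointF cert) (nat_lit 156200) (nat_lit 100) = true := by decide +kernel
theorem chkP_156300 : allRangeF (checkPointF cert) (nat_lit 156300) (nat_lit 100) = true := by decide +kernel
theorem chkP_156400 : allRangeF (checkPointF cert) (nat_lit 156400) (nat_lit 100) = true := by decide +kernel
theorem chkP_156500 : allRangeF (checkPointF cert) (nat_lit 156500) (nat_lit 100) = true := by decide +kernel
theorem chkP_156600 : allRangeF (checkPointF cert) (nat_lit 156600) (nat_lit 100) = true := by decide +kernel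
theorem chkP_156700 : allRangeF (checkPointF cert) (nat_lit 156700) (nat_lit 100) = true := by decide +kernel
theorem chkP_156800 : allRangeF (checkPointF cert) (nat_lit 156800) (nat_lit 100) = true := by decide +kernel
theorem chkP_156900 : allRangeF (checkPointF cert) (nat_lit 156900) (nat_lit 100) = true := by decide +kernel
theorem chkP_157000 : allRangeF (checkPointF cert) (nat_lit 157000) (nat_lit 100) = true := by decide +kernel
theorem chkP_157100 : allRangeF (checkPointF cert) (nat_lit 157100) (nat_lit 100) = true := by decide +kernel
theorem chkP_157200 : allRangeF (checkPointF cert) (nat_lit 157200) (nat_lit 100) = true := by decide +kernel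
theorem chkP_157300 : allRangeF (checkPointF cert) (nat_lit 157300) (nat_lit 100) = true := by decide +kernel
theorem chkP_157400 : allRangeF (checkPointF cert) (nat_lit 157400) (nat_lit 100) = true := by decide +kernel
theorem chkP_157500 : allRangeF (checkPointF cert) (nat_lit 157500) (nat_lit 100) = true := by decide +kernel
theorem chkP_157600 : allRangeF (checkPointF cert) (nat_lit 157600) (nat_lit 100) = true := by decide +kernel
theorem chkP_157700 : allRangeF (checkPointF cert) (nat_lit 157700) (nat_lit 100) = true := by decide +kernel
theorem chkP_157800 : allRangeF (checkPointF cert) (nat_lit 157800) (nat_lit 100) = true := by decide +kernel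
theorem chkP_157900 : allRangeF (checkPointF cert) (nat_lit 157900) (nat_lit 100) = true := by decide +kernel
theorem chkP_158000 : allRangeF (checkPointF cert) (nat_lit 158000) (nat_lit 100) = true := by decide +kernel
theorem chkP_158100 : allRangeF (checkPointF cert) (nat_lit 158100) (nat_lit 100) = true := by decide +kernel
theorem chkP_158200 : allRangeF (checkPointF cert) (nat_lit 158200) (nat_lit 100) = true := by decide +kernel
theorem chkP_158300 : allRangeF (checkPointF cert) (nat_lit 158300) (nat_lit 100) = true := by decide +kernel
theorem chkP_158400 : allRangeF (checkPointF cert) (nat_lit 158400) (nat_lit 100) = true := by decide +kernel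
theorem chkP_158500 : allRangeF (checkPointF cert) (nat_lit 158500) (nat_lit 100) = true := by decide +kernel
theorem chkP_158600 : allRangeF (checkPointF cert) (nat_lit 158600) (nat_lit 100) = true := by decide +kernel
theorem chkP_158700 : allRangeF (checkPointF cert) (nat_lit 158700) (nat_lit 100) = true := by decide +kernel
theorem chkP_158800 : allRangeF (checkPointF cert) (nat_lit 158800) (nat_lit 100) = true := by decide +kernel
theorem chkP_158900 : allRangeF (checkPointF cert) (nat_lit 158900) (nat_lit 100) = true := by decide +kernel
theorem chkP_159000 : allRangeF (checkPointF cert) (nat_lit 159000) (nat_lit 100) = true := by decide +kernel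
theorem chkP_159100 : allRangeF (checkPointF cert) (nat_lit 159100) (nat_lit 100) = true := by decide +kernel
theorem chkP_159200 : allRangeF (checkPointF cert) (nat_lit 159200) (nat_lit 100) = true := by decide +kernel
theorem chkP_159300 : allRangeF (checkPointF cert) (nat_lit 159300) (nat_lit 100) = true := by decide +kernel
theorem chkP_159400 : allRangeF (checkPointF cert) (nat_lit 159400) (nat_lit 100) = true := by decide +kernel
theorem chkP_159500 : allRangeF (checkPointF cert) (nat_lit 159500) (nat_lit 100) = true := by decide +kernel
theorem chkP_159600 : allRangeF (checkPointF cert) (nat_lit 159600) (nat_lit 100) = true := by decide +kernel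
theorem chkP_159700 : allRangeF (checkPointF cert) (nat_lit 159700) (nat_lit 100) = true := by decide +kernel
theorem chkP_159800 : allRangeF (checkPointF cert) (nat_lit 159800) (nat_lit 100) = true := by decide +kernel
theorem chkP_159900 : allRangeF (checkPointF cert) (nat_lit 159900) (nat_lit 100) = true := by decide +kernel
theorem chkP_160000 : allRangeF (checkPointF cert) (nat_lit 160000) (nat_lit 100) = true := by decide +kernel
theorem chkP_160100 : allRangeF (checkPointF cert) (nat_lit 160100) (nat_lit 100) = true := by decide +kernel
theorem chkP_160200 : allRangeF (checkPointF cert) (nat_lit 160200) (nat_lit 100) = true := by decide +kernel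
theorem chkP_160300 : allRangeF (checkPointF cert) (nat_lit 160300) (nat_lit 100) = true := by decide +kernel
theorem chkP_160400 : allRangeF (checkPointF cert) (nat_lit 160400) (nat_lit 100) = true := by decide +kernel
theorem chkP_160500 : allRangeF (checkPointF cert) (nat_lit 160500) (nat_lit 100) = true := by decide +kernel
theorem chkP_160600 : allRangeF (checkPointF cert) (nat_lit 160600) (nat_lit 100) = true := by decide +kernel
theorem chkP_160700 : allRangeF (checkPointF cert) (nat_lit 160700) (nat_lit 100) = true := by decide +kernel
theorem chkP_160800 : allRangeF (checkPointF cert) (nat_lit 160800) (nat_lit 100) = true := by decide +kernel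
theorem chkP_160900 : allRangeF (checkPointF cert) (nat_lit 160900) (nat_lit 100) = true := by decide +kernel
theorem chkP_161000 : allRangeF (checkPointF cert) (nat_lit 161000) (nat_lit 100) = true := by decide +kernel
theorem chkP_161100 : allRangeF (checkPointF cert) (nat_lit 161100) (nat_lit 100) = true := by decide +kernel
theorem chkP_161200 : allRangeF (checkPointF cert) (nat_lit 161200) (nat_lit 100) = true := by decide +kernel
theorem chkP_161300 : allRangeF (checkPointF cert) (nat_lit 161300) (nat_lit 100) = true := by decide +kernel
theorem chkP_161400 : allRangeF (checkPointF cert) (nat_lit 161400) (nat_lit 100) = true := by decide +kernel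
theorem chkP_161500 : allRangeF (checkPointF cert) (nat_lit 161500) (nat_lit 100) = true := by decide +kernel
theorem chkP_161600 : allRangeF (checkPointF cert) (nat_lit 161600) (nat_lit 100) = true := by decide +kernel
theorem chkP_161700 : allRangeF (checkPointF cert) (nat_lit 161700) (nat_lit 100) = true := by decide +kernel
theorem chkP_161800 : allRangeF (checkPointF cert) (nat_lit 161800) (nat_lit 100) = true := by decide +kernel
theorem chkP_161900 : allRangeF (checkPointF cert) (nat_lit 161900) (nat_lit 100) = true := by decide +kernel
theorem chkP_162000 : allRangeF (checkPointF cert) (nat_lit 162000) (nat_lit 100) = true := by decide +kernel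
theorem chkP_162100 : allRangeF (checkPointF cert) (nat_lit 162100) (nat_lit 100) = true := by decide +kernel
theorem chkP_162200 : allRangeF (checkPointF cert) (nat_lit 162200) (nat_lit 100) = true := by decide +kernel
theorem chkP_162300 : allRangeF (checkPointF cert) (nat_lit 162300) (nat_lit 100) = true := by decide +kernel
theorem chkP_162400 : allRangeF (checkPointF cert) (nat_lit 162400) (nat_lit 100) = true := by decide +kernel
theorem chkP_162500 : allRangeF (checkPointF cert) (nat_lit 162500) (nat_lit 100) = true := by decide +kernel
theorem chkP_162600 : allRangeF (checkPointF cert) (nat_lit 162600) (nat_lit 100) = true := by decide +kernel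
theorem chkP_162700 : allRangeF (checkPointF cert) (nat_lit 162700) (nat_lit 100) = true := by decide +kernel
theorem chkP_162800 : allRangeF (checkPointF cert) (nat_lit 162800) (nat_lit 100) = true := by decide +kernel
theorem chkP_162900 : allRangeF (checkPointF cert) (nat_lit 162900) (nat_lit 100) = true := by decide +kernel
theorem chkP_163000 : allRangeF (checkPointF cert) (nat_lit 163000) (nat_lit 100) = true := by decide +kernel
theorem chkP_163100 : allRangeF (checkPointF cert) (nat_lit 163100) (nat_lit 100) = true := by decide +kernel
theorem chkP_163200 : allRangeF (checkPointF cert) (nat_lit 163200) (nat_lit 100) = true := by decide +kernel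
theorem chkP_163300 : allRangeF (checkPointF cert) (nat_lit 163300) (nat_lit 100) = true := by decide +kernel
theorem chkP_163400 : allRangeF (checkPointF cert) (nat_lit 163400) (nat_lit 100) = true := by decide +kernel
theorem chkP_163500 : allRangeF (checkPointF cert) (nat_lit 163500) (nat_lit 100) = true := by decide +kernel
theorem chkP_163600 : allRangeF (checkPointF cert) (nat_lit 163600) (nat_lit 100) = true := by decide +kernel
theorem chkP_163700 : allRangeF (checkPointF cert) (nat_lit 163700) (nat_lit 100) = true := by decide +kernel
theorem chkP_163800 : allRangeF (checkPointF cert) (nat_lit 163800) (nat_lit 100) = true := by decide +kernel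
theorem chkP_163900 : allRangeF (checkPointF cert) (nat_lit 163900) (nat_lit 100) = true := by decide +kernel
theorem chkP_164000 : allRangeF (checkPointF cert) (nat_lit 164000) (nat_lit 100) = true := by decide +kernel
theorem chkP_164100 : allRangeF (checkPointF cert) (nat_lit 164100) (nat_lit 100) = true := by decide +kernel
theorem chkP_164200 : allRangeF (checkPointF cert) (nat_lit 164200) (nat_lit 100) = true := by decide +kernel
theorem chkP_164300 : allRangeF (checkPointF cert) (nat_lit 164300) (nat_lit 100) = true := by decide +kernel
theorem chkP_164400 : allRangeF (checkPointF cert) (nat_lit 164400) (nat_lit 100) = true := by decide +kernel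
theorem chkP_164500 : allRangeF (checkPointF cert) (nat_lit 164500) (nat_lit 100) = true := by decide +kernel
theorem chkP_164600 : allRangeF (checkPointF cert) (nat_lit 164600) (nat_lit 100) = true := by decide +kernel
theorem chkP_164700 : allRangeF (checkPointF cert) (nat_lit 164700) (nat_lit 100) = true := by decide +kernel
theorem chkP_164800 : allRangeF (checkPointF cert) (nat_lit 164800) (nat_lit 100) = true := by decide +kernel
theorem chkP_164900 : allRangeF (checkPointF cert) (nat_lit 164900) (nat_lit 100) = true := by decide +kernel
theorem chkP_165000 : allRangeF (checkPointF cert) (nat_lit 165000) (nat_lit 100) = true := by decide +kernel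
theorem chkP_165100 : allRangeF (checkPointF cert) (nat_lit 165100) (nat_lit 100) = true := by decide +kernel
theorem chkP_165200 : allRangeF (checkPointF cert) (nat_lit 165200) (nat_lit 100) = true := by decide +kernel
theorem chkP_165300 : allRangeF (checkPointF cert) (nat_lit 165300) (nat_lit 100) = true := by decide +kernel
theorem chkP_165400 : allRangeF (checkPointF cert) (nat_lit 165400) (nat_lit 100) = true := by decide +kernel
theorem chkP_165500 : allRangeF (checkPointF cert) (nat_lit 165500) (nat_lit 100) = true := by decide +kernel
theorem chkP_165600 : allRangeF (checkPointF cert) (nat_lit 165600) (nat_lit 100) = true := by decide +kernel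
theorem chkP_165700 : allRangeF (checkPointF cert) (nat_lit 165700) (nat_lit 100) = true := by decide +kernel
theorem chkP_165800 : allRangeF (checkPointF cert) (nat_lit 165800) (nat_lit 100) = true := by decide +kernel
theorem chkP_165900 : allRangeF (checkPointF cert) (nat_lit 165900) (nat_lit 100) = true := by decide +kernel
theorem chkP_166000 : allRangeF (checkPointF cert) (nat_lit 166000) (nat_lit 100) = true := by decide +kernel
theorem chkP_166100 : allRangeF (checkPointF cert) (nat_lit 166100) (nat_lit 100) = true := by decide +kernel
theorem chkP_166200 : allRangeF (checkPointF cert) (nat_lit 166200) (nat_lit 100) = true := by decide +kernel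
theorem chkP_166300 : allRangeF (checkPointF cert) (nat_lit 166300) (nat_lit 100) = true := by decide +kernel
theorem chkP_166400 : allRangeF (checkPointF cert) (nat_lit 166400) (nat_lit 100) = true := by decide +kernel
theorem chkP_166500 : allRangeF (checkPointF cert) (nat_lit 166500) (nat_lit 100) = true := by decide +kernel
theorem chkP_166600 : allRangeF (checkPointF cert) (nat_lit 166600) (nat_lit 100) = true := by decide +kernel
theorem chkP_166700 : allRangeF (checkPointF cert) (nat_lit 166700) (nat_lit 100) = true := by decide +kernel
theorem chkP_166800 : allRangeF (checkPointF cert) (nat_lit 166800) (nat_lit 100) = true := by decide +kernel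
theorem chkP_166900 : allRangeF (checkPointF cert) (nat_lit 166900) (nat_lit 100) = true := by decide +kernel

theorem ptsRange_9 : ∀ i, 150300 ≤ i → i < 167000 → checkPoint cert i = true := by
  intro i hlo hhi
  rcases Nat.lt_or_ge i 158600 with h1 | h1
  · skip
    rcases Nat.lt_or_ge i 154400 with h2 | h2
    · skip
      rcases Nat.lt_or_ge i 152300 with h3 | h3
      · skip
        rcases Nat.lt_or_ge i 151300 with h4 | h4
        · skip
          rcases Nat.lt_or_ge i 150800 with h5 | h5
          · skip
            rcases Nat.lt_or_ge i 150500 with h6 | h6
            · skip
              rcases Nat.lt_or_ge i 150400 with h7 | h7
              · skip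
                exact allRangeF_sound _ _ (checkPointF_eq cert) 150300 100 chkP_150300 i (by omega) (by omega)
              · skip
                exact allRangeF_sound _ _ (checkPointF_eq cert) 150400 100 chkP_150400 i (by omega) (by omega)
            · skip
              rcases Nat.lt_or_ge i 150600 with h7 | h7
              · skip
                exact allRangeF_sound _ _ (checkPointF_eq cert) 150500 100 chkP_150500 i (by omega) (by omega)
              · skip
                rcases Nat.lt_or_ge i 150700 with h8 | h8
                · skip
                  exact allRangeF_sound _ _ (checkPointF_eq cert) 150600 100 chkP_150600 i (by omega) (by omega)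
                · skip
                  exact allRangeF_sound _ _ (checkPointF_eq cert) 150700 100 chkP_150700 i (by omega) (by omega)
          · skip
            rcases Nat.lt_or_ge i 151000 with h6 | h6
            · skip
              rcases Nat.lt_or_ge i 150900 with h7 | h7
              · skip
                exact allRangeF_sound _ _ (checkPointF_eq cert) 150800 100 chkP_150800 i (by omega) (by omega)
              · skip
                exact allRangeF_sound _ _ (checkPointF_eq cert) 150900 100 chkP_150900 i (by omega) (by omega)
            · skip
              rcases Nat.lt_or_ge i 151100 with h7 | h7
              · skip
                exact allRangeF_sound _ _ (checkPointF_eq cert) 151000 100 chkP_151000 i (by omega) (by omega)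
              · skip
                rcases Nat.lt_or_ge i 151200 with h8 | h8
                · skip
                  exact allRangeF_sound _ _ (checkPointF_eq cert) 151100 100 chkP_151100 i (by omega) (by omega)
                · skip
                  exact allRangeF_sound _ _ (checkPointF_eq cert) 151200 100 chkP_151200 i (by omega) (by omega)
        · skip
          rcases Nat.lt_or_ge i 151800 with h5 | h5
          · skip
            rcases Nat.lt_or_ge i 151500 with h6 | h6
            · skip
              rcases Nat.lt_or_ge i 151400 with h7 | h7
              · skip
                exact allRangeF_sound _ _ (checkPointF_eq cert) 151300 100 chkP_151300 i (by omega) (by omega)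
              · skip
                exact allRangeF_sound _ _ (checkPointF_eq cert) 151400 100 chkP_151400 i (by omega) (by omega)
            · skip
              rcases Nat.lt_or_ge i 151600 with h7 | h7
              · skip
                exact allRangeF_sound _ _ (checkPointF_eq cert) 151500 100 chkP_151500 i (by omega) (by omega)
              · skip
                rcases Nat.lt_or_ge i 151700 with h8 | h8
                · skip
                  exact allRangeF_sound _ _ (checkPointF_eq cert) 151600 100 chkP_151600 i (by omega) (by omega)
                · skip
                  exact allRangeF_sound _ _ (checkPointF_eq cert) 151700 100 chkP_151700 i (by omega) (by omega)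
          · skip
            rcases Nat.lt_or_ge i 152000 with h6 | h6
            · skip
              rcases Nat.lt_or_ge i 151900 with h7 | h7
              · skip
                exact allRangeF_sound _ _ (checkPointF_eq cert) 151800 100 chkP_151800 i (by omega) (by omega)
              · skip
                exact allRangeF_sound _ _ (checkPointF_eq cert) 151900 100 chkP_151900 i (by omega) (by omega)
            · skip
              rcases Nat.lt_or_ge i 152100 with h7 | h7
              · skip
                exact allRangeF_sound _ _ (checkPointF_eq cert) 152000 100 chkP_152000 i (by omega) (by omega)
              · skip
                rcases Nat.lt_or_ge i 152200 with h8 | h8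
                · skip
                  exact allRangeF_sound _ _ (checkPointF_eq cert) 152100 100 chkP_152100 i (by omega) (by omega)
                · skip
                  exact allRangeF_sound _ _ (checkPointF_eq cert) 152200 100 chkP_152200 i (by omega) (by omega)
      · skip
        rcases Nat.lt_or_ge i 153300 with h4 | h4
        · skip
          rcases Nat.lt_or_ge i 152800 with h5 | h5
          · skip
            rcases Nat.lt_or_ge i 152500 with h6 | h6
            · skip
              rcases Nat.lt_or_ge i 152400 with h7 | h7
              · skip
                exact allRangeF_sound _ _ (checkPointF_eq cert) 152300 100 chkP_152300 i (by omega) (by omega)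
              · skip
                exact allRangeF_sound _ _ (checkPointF_eq cert) 152400 100 chkP_152400 i (by omega) (by omega)
            · skip
              rcases Nat.lt_or_ge i 152600 with h7 | h7
              · skip
                exact allRangeF_sound _ _ (checkPointF_eq cert) 152500 100 chkP_152500 i (by omega) (by omega)
              · skip
                rcases Nat.lt_or_ge i 152700 with h8 | h8
                · skip
                  exact allRangeF_sound _ _ (checkPointF_eq cert) 152600 100 chkP_152600 i (by omega) (by omega)
                · skip
                  exact allRangeF_sound _ _ (checkPointF_eq cert) 152700 100 chkP_152700 i (by omega) (by omega)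
          · skip
            rcases Nat.lt_or_ge i 153000 with h6 | h6
            · skip
              rcases Nat.lt_or_ge i 152900 with h7 | h7
              · skip
                exact allRangeF_sound _ _ (checkPointF_eq cert) 152800 100 chkP_152800 i (by omega) (by omega)
              · skip
                exact allRangeF_sound _ _ (checkPointF_eq cert) 152900 100 chkP_152900 i (by omega) (by omega)
            · skip
              rcases Nat.lt_or_ge i 153100 with h7 | h7
              · skip
                exact allRangeF_sound _ _ (checkPointF_eq cert) 153000 100 chkP_153000 i (by omega) (by omega)
              · skip
                rcases Nat.lt_or_ge i 153200 with h8 | h8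
                · skip
                  exact allRangeF_sound _ _ (checkPointF_eq cert) 153100 100 chkP_153100 i (by omega) (by omega)
                · skip
                  exact allRangeF_sound _ _ (checkPointF_eq cert) 153200 100 chkP_153200 i (by omega) (by omega)
        · skip
          rcases Nat.lt_or_ge i 153800 with h5 | h5
          · skip
            rcases Nat.lt_or_ge i 153500 with h6 | h6
            · skip
              rcases Nat.lt_or_ge i 153400 with h7 | h7
              · skip
                exact allRangeF_sound _ _ (checkPointF_eq cert) 153300 100 chkP_153300 i (by omega) (by omega)
              · skip
                exact allRangeF_sound _ _ (checkPointF_eq cert) 153400 100 chkP_153400 i (by omega) (by omega)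
            · skip
              rcases Nat.lt_or_ge i 153600 with h7 | h7
              · skip
                exact allRangeF_sound _ _ (checkPointF_eq cert) 153500 100 chkP_153500 i (by omega) (by omega)
              · skip
                rcases Nat.lt_or_ge i 153700 with h8 | h8
                · skip
                  exact allRangeF_sound _ _ (checkPointF_eq cert) 153600 100 chkP_153600 i (by omega) (by omega)
                · skip
                  exact allRangeF_sound _ _ (checkPointF_eq cert) 153700 100 chkP_153700 i (by omega) (by omega)
          · skip
            rcases Nat.lt_or_ge i 154100 with h6 | h6
            · skip
              rcases Nat.lt_or_ge i 153900 with h7 | h7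
              · skip
                exact allRangeF_sound _ _ (checkPointF_eq cert) 153800 100 chkP_153800 i (by omega) (by omega)
              · skip
                rcases Nat.lt_or_ge i 154000 with h8 | h8
                · skip
                  exact allRangeF_sound _ _ (checkPointF_eq cert) 153900 100 chkP_153900 i (by omega) (by omega)
                · skip
                  exact allRangeF_sound _ _ (checkPointF_eq cert) 154000 100 chkP_154000 i (by omega) (by omega)
            · skip
              rcases Nat.lt_or_ge i 154200 with h7 | h7
              · skip
                exact allRangeF_sound _ _ (checkPointF_eq cert) 154100 100 chkP_154100 i (by omega) (by omega)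
              · skip
                rcases Nat.lt_or_ge i 154300 with h8 | h8
                · skip
                  exact allRangeF_sound _ _ (checkPointF_eq cert) 154200 100 chkP_154200 i (by omega) (by omega)
                · skip
                  exact allRangeF_sound _ _ (checkPointF_eq cert) 154300 100 chkP_154300 i (by omega) (by omega)
    · skip
      rcases Nat.lt_or_ge i 156500 with h3 | h3
      · skip
        rcases Nat.lt_or_ge i 155400 with h4 | h4
        · skip
          rcases Nat.lt_or_ge i 154900 with h5 | h5
          · skip
            rcases Nat.lt_or_ge i 154600 with h6 | h6
            · skip
              rcases Nat.lt_or_ge i 154500 with h7 | h7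
              · skip
                exact allRangeF_sound _ _ (checkPointF_eq cert) 154400 100 chkP_154400 i (by omega) (by omega)
              · skip
                exact allRangeF_sound _ _ (checkPointF_eq cert) 154500 100 chkP_154500 i (by omega) (by omega)
            · skip
              rcases Nat.lt_or_ge i 154700 with h7 | h7
              · skip
                exact allRangeF_sound _ _ (checkPointF_eq cert) 154600 100 chkP_154600 i (by omega) (by omega)
              · skip
                rcases Nat.lt_or_ge i 154800 with h8 | h8
                · skip
                  exact allRangeF_sound _ _ (checkPointF_eq cert) 154700 100 chkP_154700 i (by omega) (by omega)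
                · skip
                  exact allRangeF_sound _ _ (checkPointF_eq cert) 154800 100 chkP_154800 i (by omega) (by omega)
          · skip
            rcases Nat.lt_or_ge i 155100 with h6 | h6
            · skip
              rcases Nat.lt_or_ge i 155000 with h7 | h7
              · skip
                exact allRangeF_sound _ _ (checkPointF_eq cert) 154900 100 chkP_154900 i (by omega) (by omega)
              · skip
                exact allRangeF_sound _ _ (checkPointF_eq cert) 155000 100 chkP_155000 i (by omega) (by omega)
            · skip
              rcases Nat.lt_or_ge i 155200 with h7 | h7
              · skip
                exact allRangeF_sound _ _ (checkPointF_eq cert) 155100 100 chkP_155100 i (by omega) (by omega)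
              · skip
                rcases Nat.lt_or_ge i 155300 with h8 | h8
                · skip
                  exact allRangeF_sound _ _ (checkPointF_eq cert) 155200 100 chkP_155200 i (by omega) (by omega)
                · skip
                  exact allRangeF_sound _ _ (checkPointF_eq cert) 155300 100 chkP_155300 i (by omega) (by omega)
        · skip
          rcases Nat.lt_or_ge i 155900 with h5 | h5
          · skip
            rcases Nat.lt_or_ge i 155600 with h6 | h6
            · skip
              rcases Nat.lt_or_ge i 155500 with h7 | h7
              · skip
                exact allRangeF_sound _ _ (checkPointF_eq cert) 155400 100 chkP_155400 i (by omega) (by omega)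
              · skip
                exact allRangeF_sound _ _ (checkPointF_eq cert) 155500 100 chkP_155500 i (by omega) (by omega)
            · skip
              rcases Nat.lt_or_ge i 155700 with h7 | h7
              · skip
                exact allRangeF_sound _ _ (checkPointF_eq cert) 155600 100 chkP_155600 i (by omega) (by omega)
              · skip
                rcases Nat.lt_or_ge i 155800 with h8 | h8
                · skip
                  exact allRangeF_sound _ _ (checkPointF_eq cert) 155700 100 chkP_155700 i (by omega) (by omega)
                · skip
                  exact allRangeF_sound _ _ (checkPointF_eq cert) 155800 100 chkP_155800 i (by omega) (by omega)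
          · skip
            rcases Nat.lt_or_ge i 156200 with h6 | h6
            · skip
              rcases Nat.lt_or_ge i 156000 with h7 | h7
              · skip
                exact allRangeF_sound _ _ (checkPointF_eq cert) 155900 100 chkP_155900 i (by omega) (by omega)
              · skip
                rcases Nat.lt_or_ge i 156100 with h8 | h8
                · skip
                  exact allRangeF_sound _ _ (checkPointF_eq cert) 156000 100 chkP_156000 i (by omega) (by omega)
                · skip
                  exact allRangeF_sound _ _ (checkPointF_eq cert) 156100 100 chkP_156100 i (by omega) (by omega)
            · skip
              rcases Nat.lt_or_ge i 156300 with h7 | h7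
              · skip
                exact allRangeF_sound _ _ (checkPointF_eq cert) 156200 100 chkP_156200 i (by omega) (by omega)
              · skip
                rcases Nat.lt_or_ge i 156400 with h8 | h8
                · skip
                  exact allRangeF_sound _ _ (checkPointF_eq cert) 156300 100 chkP_156300 i (by omega) (by omega)
                · skip
                  exact allRangeF_sound _ _ (checkPointF_eq cert) 156400 100 chkP_156400 i (by omega) (by omega)
      · skip
        rcases Nat.lt_or_ge i 157500 with h4 | h4
        · skip
          rcases Nat.lt_or_ge i 157000 with h5 | h5
          · skip
            rcases Nat.lt_or_ge i 156700 with h6 | h6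
            · skip
              rcases Nat.lt_or_ge i 156600 with h7 | h7
              · skip
                exact allRangeF_sound _ _ (checkPointF_eq cert) 156500 100 chkP_156500 i (by omega) (by omega)
              · skip
                exact allRangeF_sound _ _ (checkPointF_eq cert) 156600 100 chkP_156600 i (by omega) (by omega)
            · skip
              rcases Nat.lt_or_ge i 156800 with h7 | h7
              · skip
                exact allRangeF_sound _ _ (checkPointF_eq cert) 156700 100 chkP_156700 i (by omega) (by omega)
              · skip
                rcases Nat.lt_or_ge i 156900 with h8 | h8
                · skip
                  exact allRangeF_sound _ _ (checkPointF_eq cert) 156800 100 chkP_156800 i (by omega) (by omega)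
                · skip
                  exact allRangeF_sound _ _ (checkPointF_eq cert) 156900 100 chkP_156900 i (by omega) (by omega)
          · skip
            rcases Nat.lt_or_ge i 157200 with h6 | h6
            · skip
              rcases Nat.lt_or_ge i 157100 with h7 | h7
              · skip
                exact allRangeF_sound _ _ (checkPointF_eq cert) 157000 100 chkP_157000 i (by omega) (by omega)
              · skip
                exact allRangeF_sound _ _ (checkPointF_eq cert) 157100 100 chkP_157100 i (by omega) (by omega)
            · skip
              rcases Nat.lt_or_ge i 157300 with h7 | h7
              · skip
                exact allRangeF_sound _ _ (checkPointF_eq cert) 157200 100 chkP_157200 i (by omega) (by omega)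
              · skip
                rcases Nat.lt_or_ge i 157400 with h8 | h8
                · skip
                  exact allRangeF_sound _ _ (checkPointF_eq cert) 157300 100 chkP_157300 i (by omega) (by omega)
                · skip
                  exact allRangeF_sound _ _ (checkPointF_eq cert) 157400 100 chkP_157400 i (by omega) (by omega)
        · skip
          rcases Nat.lt_or_ge i 158000 with h5 | h5
          · skip
            rcases Nat.lt_or_ge i 157700 with h6 | h6
            · skip
              rcases Nat.lt_or_ge i 157600 with h7 | h7
              · skip
                exact allRangeF_sound _ _ (checkPointF_eq cert) 157500 100 chkP_157500 i (by omega) (by omega)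
              · skip
                exact allRangeF_sound _ _ (checkPointF_eq cert) 157600 100 chkP_157600 i (by omega) (by omega)
            · skip
              rcases Nat.lt_or_ge i 157800 with h7 | h7
              · skip
                exact allRangeF_sound _ _ (checkPointF_eq cert) 157700 100 chkP_157700 i (by omega) (by omega)
              · skip
                rcases Nat.lt_or_ge i 157900 with h8 | h8
                · skip
                  exact allRangeF_sound _ _ (checkPointF_eq cert) 157800 100 chkP_157800 i (by omega) (by omega)
                · skip
                  exact allRangeF_sound _ _ (checkPointF_eq cert) 157900 100 chkP_157900 i (by omega) (by omega)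
          · skip
            rcases Nat.lt_or_ge i 158300 with h6 | h6
            · skip
              rcases Nat.lt_or_ge i 158100 with h7 | h7
              · skip
                exact allRangeF_sound _ _ (checkPointF_eq cert) 158000 100 chkP_158000 i (by omega) (by omega)
              · skip
                rcases Nat.lt_or_ge i 158200 with h8 | h8
                · skip
                  exact allRangeF_sound _ _ (checkPointF_eq cert) 158100 100 chkP_158100 i (by omega) (by omega)
                · skip
                  exact allRangeF_sound _ _ (checkPointF_eq cert) 158200 100 chkP_158200 i (by omega) (by omega)
            · skip
              rcases Nat.lt_or_ge i 158400 with h7 | h7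
              · skip
                exact allRangeF_sound _ _ (checkPointF_eq cert) 158300 100 chkP_158300 i (by omega) (by omega)
              · skip
                rcases Nat.lt_or_ge i 158500 with h8 | h8
                · skip
                  exact allRangeF_sound _ _ (checkPointF_eq cert) 158400 100 chkP_158400 i (by omega) (by omega)
                · skip
                  exact allRangeF_sound _ _ (checkPointF_eq cert) 158500 100 chkP_158500 i (by omega) (by omega)
  · skip
    rcases Nat.lt_or_ge i 162800 with h2 | h2
    · skip
      rcases Nat.lt_or_ge i 160700 with h3 | h3
      · skip
        rcases Nat.lt_or_ge i 159600 with h4 | h4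
        · skip
          rcases Nat.lt_or_ge i 159100 with h5 | h5
          · skip
            rcases Nat.lt_or_ge i 158800 with h6 | h6
            · skip
              rcases Nat.lt_or_ge i 158700 with h7 | h7
              · skip
                exact allRangeF_sound _ _ (checkPointF_eq cert) 158600 100 chkP_158600 i (by omega) (by omega)
              · skip
                exact allRangeF_sound _ _ (checkPointF_eq cert) 158700 100 chkP_158700 i (by omega) (by omega)
            · skip
              rcases Nat.lt_or_ge i 158900 with h7 | h7
              · skip
                exact allRangeF_sound _ _ (checkPointF_eq cert) 158800 100 chkP_158800 i (by omega) (by omega)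
              · skip
                rcases Nat.lt_or_ge i 159000 with h8 | h8
                · skip
                  exact allRangeF_sound _ _ (checkPointF_eq cert) 158900 100 chkP_158900 i (by omega) (by omega)
                · skip
                  exact allRangeF_sound _ _ (checkPointF_eq cert) 159000 100 chkP_159000 i (by omega) (by omega)
          · skip
            rcases Nat.lt_or_ge i 159300 with h6 | h6
            · skip
              rcases Nat.lt_or_ge i 159200 with h7 | h7
              · skip
                exact allRangeF_sound _ _ (checkPointF_eq cert) 159100 100 chkP_159100 i (by omega) (by omega)
              · skip
                exact allRangeF_sound _ _ (checkPointF_eq cert) 159200 100 chkP_159200 i (by omega) (by omega)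
            · skip
              rcases Nat.lt_or_ge i 159400 with h7 | h7
              · skip
                exact allRangeF_sound _ _ (checkPointF_eq cert) 159300 100 chkP_159300 i (by omega) (by omega)
              · skip
                rcases Nat.lt_or_ge i 159500 with h8 | h8
                · skip
                  exact allRangeF_sound _ _ (checkPointF_eq cert) 159400 100 chkP_159400 i (by omega) (by omega)
                · skip
                  exact allRangeF_sound _ _ (checkPointF_eq cert) 159500 100 chkP_159500 i (by omega) (by omega)
        · skip
          rcases Nat.lt_or_ge i 160100 with h5 | h5
          · skip
            rcases Nat.lt_or_ge i 159800 with h6 | h6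
            · skip
              rcases Nat.lt_or_ge i 159700 with h7 | h7
              · skip
                exact allRangeF_sound _ _ (checkPointF_eq cert) 159600 100 chkP_159600 i (by omega) (by omega)
              · skip
                exact allRangeF_sound _ _ (checkPointF_eq cert) 159700 100 chkP_159700 i (by omega) (by omega)
            · skip
              rcases Nat.lt_or_ge i 159900 with h7 | h7
              · skip
                exact allRangeF_sound _ _ (checkPointF_eq cert) 159800 100 chkP_159800 i (by omega) (by omega)
              · skip
                rcases Nat.lt_or_ge i 160000 with h8 | h8
                · skip
                  exact allRangeF_sound _ _ (checkPointF_eq cert) 159900 100 chkP_159900 i (by omega) (by omega)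
                · skip
                  exact allRangeF_sound _ _ (checkPointF_eq cert) 160000 100 chkP_160000 i (by omega) (by omega)
          · skip
            rcases Nat.lt_or_ge i 160400 with h6 | h6
            · skip
              rcases Nat.lt_or_ge i 160200 with h7 | h7
              · skip
                exact allRangeF_sound _ _ (checkPointF_eq cert) 160100 100 chkP_160100 i (by omega) (by omega)
              · skip
                rcases Nat.lt_or_ge i 160300 with h8 | h8
                · skip
                  exact allRangeF_sound _ _ (checkPointF_eq cert) 160200 100 chkP_160200 i (by omega) (by omega)
                · skip
                  exact allRangeF_sound _ _ (checkPointF_eq cert) 160300 100 chkP_160300 i (by omega) (by omega)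
            · skip
              rcases Nat.lt_or_ge i 160500 with h7 | h7
              · skip
                exact allRangeF_sound _ _ (checkPointF_eq cert) 160400 100 chkP_160400 i (by omega) (by omega)
              · skip
                rcases Nat.lt_or_ge i 160600 with h8 | h8
                · skip
                  exact allRangeF_sound _ _ (checkPointF_eq cert) 160500 100 chkP_160500 i (by omega) (by omega)
                · skip
                  exact allRangeF_sound _ _ (checkPointF_eq cert) 160600 100 chkP_160600 i (by omega) (by omega)
      · skip
        rcases Nat.lt_or_ge i 161700 with h4 | h4
        · skip
          rcases Nat.lt_or_ge i 161200 with h5 | h5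
          · skip
            rcases Nat.lt_or_ge i 160900 with h6 | h6
            · skip
              rcases Nat.lt_or_ge i 160800 with h7 | h7
              · skip
                exact allRangeF_sound _ _ (checkPointF_eq cert) 160700 100 chkP_160700 i (by omega) (by omega)
              · skip
                exact allRangeF_sound _ _ (checkPointF_eq cert) 160800 100 chkP_160800 i (by omega) (by omega)
            · skip
              rcases Nat.lt_or_ge i 161000 with h7 | h7
              · skip
                exact allRangeF_sound _ _ (checkPointF_eq cert) 160900 100 chkP_160900 i (by omega) (by omega)
              · skip
                rcases Nat.lt_or_ge i 161100 with h8 | h8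
                · skip
                  exact allRangeF_sound _ _ (checkPointF_eq cert) 161000 100 chkP_161000 i (by omega) (by omega)
                · skip
                  exact allRangeF_sound _ _ (checkPointF_eq cert) 161100 100 chkP_161100 i (by omega) (by omega)
          · skip
            rcases Nat.lt_or_ge i 161400 with h6 | h6
            · skip
              rcases Nat.lt_or_ge i 161300 with h7 | h7
              · skip
                exact allRangeF_sound _ _ (checkPointF_eq cert) 161200 100 chkP_161200 i (by omega) (by omega)
              · skip
                exact allRangeF_sound _ _ (checkPointF_eq cert) 161300 100 chkP_161300 i (by omega) (by omega)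
            · skip
              rcases Nat.lt_or_ge i 161500 with h7 | h7
              · skip
                exact allRangeF_sound _ _ (checkPointF_eq cert) 161400 100 chkP_161400 i (by omega) (by omega)
              · skip
                rcases Nat.lt_or_ge i 161600 with h8 | h8
                · skip
                  exact allRangeF_sound _ _ (checkPointF_eq cert) 161500 100 chkP_161500 i (by omega) (by omega)
                · skip
                  exact allRangeF_sound _ _ (checkPointF_eq cert) 161600 100 chkP_161600 i (by omega) (by omega)
        · skip
          rcases Nat.lt_or_ge i 162200 with h5 | h5
          · skip
            rcases Nat.lt_or_ge i 161900 with h6 | h6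
            · skip
              rcases Nat.lt_or_ge i 161800 with h7 | h7
              · skip
                exact allRangeF_sound _ _ (checkPointF_eq cert) 161700 100 chkP_161700 i (by omega) (by omega)
              · skip
                exact allRangeF_sound _ _ (checkPointF_eq cert) 161800 100 chkP_161800 i (by omega) (by omega)
            · skip
              rcases Nat.lt_or_ge i 162000 with h7 | h7
              · skip
                exact allRangeF_sound _ _ (checkPointF_eq cert) 161900 100 chkP_161900 i (by omega) (by omega)
              · skip
                rcases Nat.lt_or_ge i 162100 with h8 | h8
                · skip
                  exact allRangeF_sound _ _ (checkPointF_eq cert) 162000 100 chkP_162000 i (by omega) (by omega)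
                · skip
                  exact allRangeF_sound _ _ (checkPointF_eq cert) 162100 100 chkP_162100 i (by omega) (by omega)
          · skip
            rcases Nat.lt_or_ge i 162500 with h6 | h6
            · skip
              rcases Nat.lt_or_ge i 162300 with h7 | h7
              · skip
                exact allRangeF_sound _ _ (checkPointF_eq cert) 162200 100 chkP_162200 i (by omega) (by omega)
              · skip
                rcases Nat.lt_or_ge i 162400 with h8 | h8
                · skip
                  exact allRangeF_sound _ _ (checkPointF_eq cert) 162300 100 chkP_162300 i (by omega) (by omega)
                · skip
                  exact allRangeF_sound _ _ (checkPointF_eq cert) 162400 100 chkP_162400 i (by omega) (by omega)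
            · skip
              rcases Nat.lt_or_ge i 162600 with h7 | h7
              · skip
                exact allRangeF_sound _ _ (checkPointF_eq cert) 162500 100 chkP_162500 i (by omega) (by omega)
              · skip
                rcases Nat.lt_or_ge i 162700 with h8 | h8
                · skip
                  exact allRangeF_sound _ _ (checkPointF_eq cert) 162600 100 chkP_162600 i (by omega) (by omega)
                · skip
                  exact allRangeF_sound _ _ (checkPointF_eq cert) 162700 100 chkP_162700 i (by omega) (by omega)
    · skip
      rcases Nat.lt_or_ge i 164900 with h3 | h3
      · skip
        rcases Nat.lt_or_ge i 163800 with h4 | h4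
        · skip
          rcases Nat.lt_or_ge i 163300 with h5 | h5
          · skip
            rcases Nat.lt_or_ge i 163000 with h6 | h6
            · skip
              rcases Nat.lt_or_ge i 162900 with h7 | h7
              · skip
                exact allRangeF_sound _ _ (checkPointF_eq cert) 162800 100 chkP_162800 i (by omega) (by omega)
              · skip
                exact allRangeF_sound _ _ (checkPointF_eq cert) 162900 100 chkP_162900 i (by omega) (by omega)
            · skip
              rcases Nat.lt_or_ge i 163100 with h7 | h7
              · skip
                exact allRangeF_sound _ _ (checkPointF_eq cert) 163000 100 chkP_163000 i (by omega) (by omega)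
              · skip
                rcases Nat.lt_or_ge i 163200 with h8 | h8
                · skip
                  exact allRangeF_sound _ _ (checkPointF_eq cert) 163100 100 chkP_163100 i (by omega) (by omega)
                · skip
                  exact allRangeF_sound _ _ (checkPointF_eq cert) 163200 100 chkP_163200 i (by omega) (by omega)
          · skip
            rcases Nat.lt_or_ge i 163500 with h6 | h6
            · skip
              rcases Nat.lt_or_ge i 163400 with h7 | h7
              · skip
                exact allRangeF_sound _ _ (checkPointF_eq cert) 163300 100 chkP_163300 i (by omega) (by omega)
              · skip
                exact allRangeF_sound _ _ (checkPointF_eq cert) 163400 100 chkP_163400 i (by omega) (by omega)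
            · skip
              rcases Nat.lt_or_ge i 163600 with h7 | h7
              · skip
                exact allRangeF_sound _ _ (checkPointF_eq cert) 163500 100 chkP_163500 i (by omega) (by omega)
              · skip
                rcases Nat.lt_or_ge i 163700 with h8 | h8
                · skip
                  exact allRangeF_sound _ _ (checkPointF_eq cert) 163600 100 chkP_163600 i (by omega) (by omega)
                · skip
                  exact allRangeF_sound _ _ (checkPointF_eq cert) 163700 100 chkP_163700 i (by omega) (by omega)
        · skip
          rcases Nat.lt_or_ge i 164300 with h5 | h5
          · skip
            rcases Nat.lt_or_ge i 164000 with h6 | h6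
            · skip
              rcases Nat.lt_or_ge i 163900 with h7 | h7
              · skip
                exact allRangeF_sound _ _ (checkPointF_eq cert) 163800 100 chkP_163800 i (by omega) (by omega)
              · skip
                exact allRangeF_sound _ _ (checkPointF_eq cert) 163900 100 chkP_163900 i (by omega) (by omega)
            · skip
              rcases Nat.lt_or_ge i 164100 with h7 | h7
              · skip
                exact allRangeF_sound _ _ (checkPointF_eq cert) 164000 100 chkP_164000 i (by omega) (by omega)
              · skip
                rcases Nat.lt_or_ge i 164200 with h8 | h8
                · skip
                  exact allRangeF_sound _ _ (checkPointF_eq cert) 164100 100 chkP_164100 i (by omega) (by omega)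
                · skip
                  exact allRangeF_sound _ _ (checkPointF_eq cert) 164200 100 chkP_164200 i (by omega) (by omega)
          · skip
            rcases Nat.lt_or_ge i 164600 with h6 | h6
            · skip
              rcases Nat.lt_or_ge i 164400 with h7 | h7
              · skip
                exact allRangeF_sound _ _ (checkPointF_eq cert) 164300 100 chkP_164300 i (by omega) (by omega)
              · skip
                rcases Nat.lt_or_ge i 164500 with h8 | h8
                · skip
                  exact allRangeF_sound _ _ (checkPointF_eq cert) 164400 100 chkP_164400 i (by omega) (by omega)
                · skip
                  exact allRangeF_sound _ _ (checkPointF_eq cert) 164500 100 chkP_164500 i (by omega) (by omega)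
            · skip
              rcases Nat.lt_or_ge i 164700 with h7 | h7
              · skip
                exact allRangeF_sound _ _ (checkPointF_eq cert) 164600 100 chkP_164600 i (by omega) (by omega)
              · skip
                rcases Nat.lt_or_ge i 164800 with h8 | h8
                · skip
                  exact allRangeF_sound _ _ (checkPointF_eq cert) 164700 100 chkP_164700 i (by omega) (by omega)
                · skip
                  exact allRangeF_sound _ _ (checkPointF_eq cert) 164800 100 chkP_164800 i (by omega) (by omega)
      · skip
        rcases Nat.lt_or_ge i 165900 with h4 | h4
        · skip
          rcases Nat.lt_or_ge i 165400 with h5 | h5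
          · skip
            rcases Nat.lt_or_ge i 165100 with h6 | h6
            · skip
              rcases Nat.lt_or_ge i 165000 with h7 | h7
              · skip
                exact allRangeF_sound _ _ (checkPointF_eq cert) 164900 100 chkP_164900 i (by omega) (by omega)
              · skip
                exact allRangeF_sound _ _ (checkPointF_eq cert) 165000 100 chkP_165000 i (by omega) (by omega)
            · skip
              rcases Nat.lt_or_ge i 165200 with h7 | h7
              · skip
                exact allRangeF_sound _ _ (checkPointF_eq cert) 165100 100 chkP_165100 i (by omega) (by omega)
              · skip
                rcases Nat.lt_or_ge i 165300 with h8 | h8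
                · skip
                  exact allRangeF_sound _ _ (checkPointF_eq cert) 165200 100 chkP_165200 i (by omega) (by omega)
                · skip
                  exact allRangeF_sound _ _ (checkPointF_eq cert) 165300 100 chkP_165300 i (by omega) (by omega)
          · skip
            rcases Nat.lt_or_ge i 165600 with h6 | h6
            · skip
              rcases Nat.lt_or_ge i 165500 with h7 | h7
              · skip
                exact allRangeF_sound _ _ (checkPointF_eq cert) 165400 100 chkP_165400 i (by omega) (by omega)
              · skip
                exact allRangeF_sound _ _ (checkPointF_eq cert) 165500 100 chkP_165500 i (by omega) (by omega)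
            · skip
              rcases Nat.lt_or_ge i 165700 with h7 | h7
              · skip
                exact allRangeF_sound _ _ (checkPointF_eq cert) 165600 100 chkP_165600 i (by omega) (by omega)
              · skip
                rcases Nat.lt_or_ge i 165800 with h8 | h8
                · skip
                  exact allRangeF_sound _ _ (checkPointF_eq cert) 165700 100 chkP_165700 i (by omega) (by omega)
                · skip
                  exact allRangeF_sound _ _ (checkPointF_eq cert) 165800 100 chkP_165800 i (by omega) (by omega)
        · skip
          rcases Nat.lt_or_ge i 166400 with h5 | h5
          · skip
            rcases Nat.lt_or_ge i 166100 with h6 | h6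
            · skip
              rcases Nat.lt_or_ge i 166000 with h7 | h7
              · skip
                exact allRangeF_sound _ _ (checkPointF_eq cert) 165900 100 chkP_165900 i (by omega) (by omega)
              · skip
                exact allRangeF_sound _ _ (checkPointF_eq cert) 166000 100 chkP_166000 i (by omega) (by omega)
            · skip
              rcases Nat.lt_or_ge i 166200 with h7 | h7
              · skip
                exact allRangeF_sound _ _ (checkPointF_eq cert) 166100 100 chkP_166100 i (by omega) (by omega)
              · skip
                rcases Nat.lt_or_ge i 166300 with h8 | h8
                · skip
                  exact allRangeF_sound _ _ (checkPointF_eq cert) 166200 100 chkP_166200 i (by omega) (by omega)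
                · skip
                  exact allRangeF_sound _ _ (checkPointF_eq cert) 166300 100 chkP_166300 i (by omega) (by omega)
          · skip
            rcases Nat.lt_or_ge i 166700 with h6 | h6
            · skip
              rcases Nat.lt_or_ge i 166500 with h7 | h7
              · skip
                exact allRangeF_sound _ _ (checkPointF_eq cert) 166400 100 chkP_166400 i (by omega) (by omega)
              · skip
                rcases Nat.lt_or_ge i 166600 with h8 | h8
                · skip
                  exact allRangeF_sound _ _ (checkPointF_eq cert) 166500 100 chkP_166500 i (by omega) (by omega)
                · skip
                  exact allRangeF_sound _ _ (checkPointF_eq cert) 166600 100 chkP_166600 i (by omega) (by omega)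
            · skip
              rcases Nat.lt_or_ge i 166800 with h7 | h7
              · skip
                exact allRangeF_sound _ _ (checkPointF_eq cert) 166700 100 chkP_166700 i (by omega) (by omega)
              · skip
                rcases Nat.lt_or_ge i 166900 with h8 | h8
                · skip
                  exact allRangeF_sound _ _ (checkPointF_eq cert) 166800 100 chkP_166800 i (by omega) (by omega)
                · skip
                  exact allRangeF_sound _ _ (checkPointF_eq cert) 166900 100 chkP_166900 i (by omega) (by omega)

end Cfsg.Agent.Lib.Helper28.He2Data
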