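import Cfsg.Agent.Lib.Helper28.He2ChkP0
import Cfsg.Agent.Lib.Helper28.He2ChkP1
import Cfsg.Agent.Lib.Helper28.He2ChkP2
import Cfsg.Agent.Lib.Helper28.He2ChkP3
import Cfsg.Agent.Lib.Helper28.He2ChkP4
import Cfsg.Agent.Lib.Helper28.He2ChkP5
import Cfsg.Agent.Lib.Helper28.He2ChkP6
import Cfsg.Agent.Lib.Helper28.He2ChkP7
import Cfsg.Agent.Lib.Helper28.He2ChkP8
import Cfsg.Agent.Lib.Helper28.He2ChkP9
import Cfsg.Agent.Lib.Helper28.He2ChkP10
import Cfsg.Agent.Lib.Helper28.He2ChkP11
import Cfsg.Agent.Lib.Helper28.He2ChkP12
import Cfsg.Agent.Lib.Helper28.He2ChkP13
import Cfsg.Agent.Lib.Helper28.He2ChkP14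
import Cfsg.Agent.Lib.Helper28.He2ChkP15
import Cfsg.Agent.Lib.Helper28.He2ChkF0
import Cfsg.Agent.Lib.Helper28.He2ChkF1
import Cfsg.Agent.Lib.Helper28.He2ChkF2
import Cfsg.Agent.Lib.Helper28.He2ChkF3
import Cfsg.Agent.Lib.Helper28.He2ChkF4
import Cfsg.Agent.Lib.Helper28.He2ChkF5
import Cfsg.Agent.Lib.Helper28.He2ChkF6
import Cfsg.Agent.Lib.Helper28.He2ChkF7
import Cfsg.Agent.Lib.Helper28.He2ChkF8
import Cfsg.Agent.Lib.Helper28.He2ChkF9
import Cfsg.Agent.Lib.Helper28.He2ChkF10
import Cfsg.Agent.Lib.Helper28.He2ChkF11
import Cfsg.Agent.Lib.Helper28.He2ChkF12
import Cfsg.Agent.Lib.Helper28.He2ChkF13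
import Cfsg.Agent.Lib.Helper28.He2ChkF14
import Cfsg.Agent.Lib.Helper28.He2ChkF15
import Cfsg.Agent.Lib.Helper28.TCOrbit

set_option autoImplicit false
set_option maxRecDepth 1000000
set_option linter.all false
set_option Elab.async false

namespace Cfsg.Agent.Lib.Helper28.He2Data

open Cfsg.Agent.Lib.Helper28

theorem chkG : checkGlobal cert = true := by decide +kernel

theorem chkR2 : checkRels2 cert = true := by decide +kernel

theorem facts_ok : ∀ i, i < cert.nF → checkFact cert i = true := by
  intro i hi
  have hn : cert.nF = 1877928 := rfl
  rw [hn] at hi
  rcases Nat.lt_or_ge i 944000 with h1 | h1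
  · skip
    rcases Nat.lt_or_ge i 472000 with h2 | h2
    · skip
      rcases Nat.lt_or_ge i 236000 with h3 | h3
      · skip
        rcases Nat.lt_or_ge i 118000 with h4 | h4
        · skip
          exact factsRange_0 i (by omega) (by omega)
        · skip
          exact factsRange_1 i (by omega) (by omega)
      · skip
        rcases Nat.lt_or_ge i 354000 with h4 | h4
        · skip
          exact factsRange_2 i (by omega) (by omega)
        · skip
          exact factsRange_3 i (by omega) (by omega)
    · skip
      rcases Nat.lt_or_ge i 708000 with h3 | h3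
      · skip
        rcases Nat.lt_or_ge i 590000 with h4 | h4
        · skip
          exact factsRange_4 i (by omega) (by omega)
        · skip
          exact factsRange_5 i (by omega) (by omega)
      · skip
        rcases Nat.lt_or_ge i 826000 with h4 | h4
        · skip
          exact factsRange_6 i (by omega) (by omega)
        · skip
          exact factsRange_7 i (by omega) (by omega)
  · skip
    rcases Nat.lt_or_ge i 1416000 with h2 | h2
    · skip
      rcases Nat.lt_or_ge i 1180000 with h3 | h3
      · skip
        rcases Nat.lt_or_ge i 1062000 with h4 | h4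
        · skip
          exact factsRange_8 i (by omega) (by omega)
        · skip
          exact factsRange_9 i (by omega) (by omega)
      · skip
        rcases Nat.lt_or_ge i 1298000 with h4 | h4
        · skip
          exact factsRange_10 i (by omega) (by omega)
        · skip
          exact factsRange_11 i (by omega) (by omega)
    · skip
      rcases Nat.lt_or_ge i 1652000 with h3 | h3
      · skip
        rcases Nat.lt_or_ge i 1534000 with h4 | h4
        · skip
          exact factsRange_12 i (by omega) (by omega)
        · skip
          exact factsRange_13 i (by omega) (by omega)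
      · skip
        rcases Nat.lt_or_ge i 1770000 with h4 | h4
        · skip
          exact factsRange_14 i (by omega) (by omega)
        · skip
          exact factsRange_15 i (by omega) (by omega)

theorem pts_ok : ∀ p, p < cert.n → checkPoint cert p = true := by
  intro i hi
  have hn : cert.n = 266560 := rfl
  rw [hn] at hi
  rcases Nat.lt_or_ge i 133600 with h1 | h1
  · skip
    rcases Nat.lt_or_ge i 66800 with h2 | h2
    · skip
      rcases Nat.lt_or_ge i 33400 with h3 | h3
      · skip
        rcases Nat.lt_or_ge i 16700 with h4 | h4
        · skip
          exact ptsRange_0 i (by omega) (by omega)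
        · skip
          exact ptsRange_1 i (by omega) (by omega)
      · skip
        rcases Nat.lt_or_ge i 50100 with h4 | h4
        · skip
          exact ptsRange_2 i (by omega) (by omega)
        · skip
          exact ptsRange_3 i (by omega) (by omega)
    · skip
      rcases Nat.lt_or_ge i 100200 with h3 | h3
      · skip
        rcases Nat.lt_or_ge i 83500 with h4 | h4
        · skip
          exact ptsRange_4 i (by omega) (by omega)
        · skip
          exact ptsRange_5 i (by omega) (by omega)
      · skip
        rcases Nat.lt_or_ge i 116900 with h4 | h4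
        · skip
          exact ptsRange_6 i (by omega) (by omega)
        · skip
          exact ptsRange_7 i (by omega) (by omega)
  · skip
    rcases Nat.lt_or_ge i 200400 with h2 | h2
    · skip
      rcases Nat.lt_or_ge i 167000 with h3 | h3
      · skip
        rcases Nat.lt_or_ge i 150300 with h4 | h4
        · skip
          exact ptsRange_8 i (by omega) (by omega)
        · skip
          exact ptsRange_9 i (by omega) (by omega)
      · skip
        rcases Nat.lt_or_ge i 183700 with h4 | h4
        · skip
          exact ptsRange_10 i (by omega) (by omega)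
        · skip
          exact ptsRange_11 i (by omega) (by omega)
    · skip
      rcases Nat.lt_or_ge i 233800 with h3 | h3
      · skip
        rcases Nat.lt_or_ge i 217100 with h4 | h4
        · skip
          exact ptsRange_12 i (by omega) (by omega)
        · skip
          exact ptsRange_13 i (by omega) (by omega)
      · skip
        rcases Nat.lt_or_ge i 250500 with h4 | h4
        · skip
          exact ptsRange_14 i (by omega) (by omega)
        · skip
          exact ptsRange_15 i (by omega) (by omega)


end Cfsg.Agent.Lib.Helper28.He2Data
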