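import Cfsg.Agent.Lib.Helper28.TCIndex

set_option autoImplicit false

namespace Cfsg.Agent.Lib.Helper28

theorem map_evw {G K : Type*} [Group G] [Group K] (f : G →* K) (gam : Nat → G) (w : List Nat) :
    f (evw gam w) = evw (fun i => f (gam i)) w := by
  induction w with
  | nil => simp [evw]
  | cons l w ih =>
    simp only [evw, map_mul, ih]
    congr 1
    unfold letG
    cases Nat.beq (l % 2) 0 <;> simp

/-- word in the free group -/
def wordF {α : Type*} (genOf : Nat → α) (w : List Nat) : FreeGroup α :=
  evw (fun i => FreeGroup.of (genOf i)) w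

section Perm

variable (C : Cert)

def stepFun (l : Nat) (p : Nat) : Nat := if p < C.n then tstep C p l else p

theorem stepFun_inv (hpts : ∀ p, p < C.n → checkPoint C p = true) (l : Nat) (hl : l < 2 * C.k)
    (p : Nat) : stepFun C (flipL l) (stepFun C l p) = p := by
  unfold stepFun
  by_cases hp : p < C.n
  · have hcp := hpts p hp
    simp only [checkPoint, Bool.and_eq_true] at hcp
    obtain ⟨h1, -, -, -⟩ := hcp
    have hq := p1_lt C p l hl h1
    simp only [hp, if_true, hq]
    exact p1_inv C p l hl h1
  · simp [hp]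

/-- the permutation of ℕ attached to generator `i` (identity if `i ≥ k`) -/
noncomputable def permOf (hpts : ∀ p, p < C.n → checkPoint C p = true) (i : Nat) : Equiv.Perm ℕ :=
  if hi : i < C.k then
    { toFun := stepFun C (2 * i)
      invFun := stepFun C (2 * i + 1)
      left_inv := by
        intro p
        have := stepFun_inv C hpts (2 * i) (by omega) p
        rwa [flipL_even'] at this
      right_inv := by
        intro p
        have := stepFun_inv C hpts (2 * i + 1) (by omega) p
        rwa [flipL_odd'] at this }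
  else 1

theorem permOf_apply (hpts : ∀ p, p < C.n → checkPoint C p = true) (i : Nat) (hi : i < C.k)
    (p : Nat) (hp : p < C.n) : permOf C hpts i p = tstep C p (2 * i) := by
  unfold permOf
  simp only [hi, dif_pos]
  show stepFun C (2 * i) p = _
  simp [stepFun, hp]

theorem permOf_apply_ge (hpts : ∀ p, p < C.n → checkPoint C p = true) (i : Nat)
    (p : Nat) (hp : ¬ p < C.n) : permOf C hpts i p = p := by
  unfold permOf
  by_cases hi : i < C.k
  · simp only [hi, dif_pos]
    show stepFun C (2 * i) p = _
    simp [stepFun, hp]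
  · simp [hi]

theorem evw_perm_ge (hpts : ∀ p, p < C.n → checkPoint C p = true) (w : List Nat)
    (p : Nat) (hp : ¬ p < C.n) : evw (fun i => (permOf C hpts i)⁻¹) w p = p := by
  induction w with
  | nil => simp [evw]
  | cons l w ih =>
    simp only [evw, Equiv.Perm.coe_mul, Function.comp_apply, ih]
    unfold letG
    cases Nat.beq (l % 2) 0
    · simp only [cond_false, inv_inv]
      exact permOf_apply_ge C hpts _ p hp
    · simp only [cond_true]
      rw [Equiv.Perm.inv_eq_iff_eq]
      exact (permOf_apply_ge C hpts _ p hp).symm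

theorem evw_perm_eq_one (hpts : ∀ p, p < C.n → checkPoint C p = true)
    (w : List Nat) (hw : ∀ l ∈ w, l < 2 * C.k) (hfix : ∀ p, p < C.n → walkT C p w = p) :
    evw (fun i => (permOf C hpts i)⁻¹) w = 1 := by
  have key : ∀ p, (evw (fun i => (permOf C hpts i)⁻¹) w)⁻¹ p = p := by
    intro p
    by_cases hp : p < C.n
    · have := (rN_word C (fun i => (permOf C hpts i)⁻¹) (MonoidHom.id _)
        (by
          intro i hi q hq
          simp only [rN, MonoidHom.id_apply, inv_inv]
          exact permOf_apply C hpts i hi q hq) hpts w hw p hp).1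
      simp only [rN, MonoidHom.id_apply] at this
      rw [this, hfix p hp]
    · rw [Equiv.Perm.inv_eq_iff_eq]
      exact (evw_perm_ge C hpts w p hp).symm
  have : (evw (fun i => (permOf C hpts i)⁻¹) w)⁻¹ = 1 := by
    ext p; simp [key p]
  simpa using this

end Perm

theorem presented_setup {α : Type*} (rels : Set (FreeGroup α)) (S : Set (FreeGroup α)) (C : Cert)
    (genOf : Nat → α) (idx : α → Nat)
    (hidx : ∀ a, idx a < C.k ∧ genOf (idx a) = a) (hgi : ∀ i, i < C.k → idx (genOf i) = i)
    (hrel1 : ∀ r ∈ rels, ∃ w ∈ C.rels, r = wordF genOf w)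
    (hrel2 : ∀ w ∈ C.rels, wordF genOf w ∈ rels)
    (hsub1 : ∀ s ∈ S, ∃ w ∈ C.subs, s = wordF genOf w)
    (hsub2 : ∀ w ∈ C.subs, wordF genOf w ∈ S)
    (hr2 : checkRels2 C = true)
    (hfacts : ∀ i, i < C.nF → checkFact C i = true)
    (hpts : ∀ p, p < C.n → checkPoint C p = true)
    (hglob : checkGlobal C = true) :
    ∃ φ : PresentedGroup rels →* Equiv.Perm ℕ,
      Setup C ((Subgroup.closure S).map (PresentedGroup.mk rels))
        (fun i => PresentedGroup.of (genOf i)) φ := by
  have hglob' := hglob
  simp only [checkGlobal, Bool.and_eq_true] at hglob'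
  obtain ⟨-, -, -, -, hlet⟩ := hglob'
  have hletters : ∀ w ∈ C.rels ++ C.subs, ∀ l ∈ w, l < 2 * C.k := by
    intro w hw l hl
    have := allLetters_sound _ _ (allList_sound _ _ hlet w hw) l hl
    simpa [Nat.blt] using this
  -- the permutation representation
  let f : α → Equiv.Perm ℕ := fun a => (permOf C hpts (idx a))⁻¹
  have hfg : ∀ i, i < C.k → f (genOf i) = (permOf C hpts i)⁻¹ := by
    intro i hi
    show (permOf C hpts (idx (genOf i)))⁻¹ = _
    rw [hgi i hi]
  have hlift : ∀ w : List Nat, (∀ l ∈ w, l < 2 * C.k) →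
      FreeGroup.lift f (wordF genOf w) = evw (fun i => (permOf C hpts i)⁻¹) w := by
    intro w hw
    unfold wordF
    rw [map_evw]
    induction w with
    | nil => simp [evw]
    | cons l w ih =>
      have hl : l < 2 * C.k := hw l (by simp)
      have ih' := ih (fun l' hl' => hw l' (by simp [hl']))
      simp only [evw, ih']
      congr 1
      unfold letG
      simp only [FreeGroup.lift_apply_of]
      rw [hfg (l / 2) (by omega)]
  have hf : ∀ r ∈ rels, FreeGroup.lift f r = 1 := by
    intro r hr
    obtain ⟨w, hw, rfl⟩ := hrel1 r hr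
    have hwl := hletters w (by simp [hw])
    rw [hlift w hwl]
    apply evw_perm_eq_one C hpts w hwl
    intro p hp
    have hcp := hpts p hp
    simp only [checkPoint, Bool.and_eq_true] at hcp
    obtain ⟨-, h2, -, -⟩ := hcp
    exact Nat.eq_of_beq_eq_true (allList_sound _ _ h2 w hw)
  let φ : PresentedGroup rels →* Equiv.Perm ℕ := PresentedGroup.toGroup hf
  let gam : Nat → PresentedGroup rels := fun i => PresentedGroup.of (genOf i)
  have hmk : ∀ w, PresentedGroup.mk rels (wordF genOf w) = evw gam w := by
    intro w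
    unfold wordF
    rw [map_evw]
    rfl
  refine ⟨φ, ⟨?_, ?_, ?_, ?_, ?_, hr2, hfacts, hpts, hglob⟩⟩
  · intro i hi p hp
    show (φ (PresentedGroup.of (genOf i)))⁻¹ p = _
    have : φ (PresentedGroup.of (genOf i)) = f (genOf i) := PresentedGroup.toGroup.of hf
    rw [this, hfg i hi, inv_inv]
    exact permOf_apply C hpts i hi p hp
  · rw [eq_top_iff, ← PresentedGroup.closure_range_of]
    apply Subgroup.closure_mono
    rintro _ ⟨a, rfl⟩
    exact ⟨idx a, (hidx a).1, by show PresentedGroup.of (genOf (idx a)) = _; rw [(hidx a).2]⟩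
  · intro w hw
    rw [← hmk]
    exact PresentedGroup.one_of_mem (hrel2 w hw)
  · intro w hw
    rw [← hmk]
    exact Subgroup.mem_map_of_mem _ (Subgroup.subset_closure (hsub2 w hw))
  · rw [MonoidHom.map_closure, Subgroup.closure_le]
    rintro _ ⟨s, hs, rfl⟩
    obtain ⟨w, hw, rfl⟩ := hsub1 s hs
    apply Subgroup.subset_closure
    exact ⟨w, hw, hmk w⟩


theorem presented_setup_conj {α : Type*} (rels : Set (FreeGroup α)) (S : Set (FreeGroup α)) (C : Cert)
    (genOf : Nat → α) (idx : α → Nat)
    (hidx : ∀ a, idx a < C.k ∧ genOf (idx a) = a) (hgi : ∀ i, i < C.k → idx (genOf i) = i)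
    (hrel1 : ∀ r ∈ rels, ∃ w ∈ C.rels, ∃ g : FreeGroup α, r = g⁻¹ * wordF genOf w * g)
    (hrel2 : ∀ w ∈ C.rels, PresentedGroup.mk rels (wordF genOf w) = 1)
    (hsub1 : ∀ s ∈ S, ∃ w ∈ C.subs, s = wordF genOf w)
    (hsub2 : ∀ w ∈ C.subs, wordF genOf w ∈ S)
    (hr2 : checkRels2 C = true)
    (hfacts : ∀ i, i < C.nF → checkFact C i = true)
    (hpts : ∀ p, p < C.n → checkPoint C p = true)
    (hglob : checkGlobal C = true) :
    ∃ φ : PresentedGroup rels →* Equiv.Perm ℕ,
      Setup C ((Subgroup.closure S).map (PresentedGroup.mk rels))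
        (fun i => PresentedGroup.of (genOf i)) φ := by
  have hglob' := hglob
  simp only [checkGlobal, Bool.and_eq_true] at hglob'
  obtain ⟨-, -, -, -, hlet⟩ := hglob'
  have hletters : ∀ w ∈ C.rels ++ C.subs, ∀ l ∈ w, l < 2 * C.k := by
    intro w hw l hl
    have := allLetters_sound _ _ (allList_sound _ _ hlet w hw) l hl
    simpa [Nat.blt] using this
  -- the permutation representation
  let f : α → Equiv.Perm ℕ := fun a => (permOf C hpts (idx a))⁻¹
  have hfg : ∀ i, i < C.k → f (genOf i) = (permOf C hpts i)⁻¹ := by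
    intro i hi
    show (permOf C hpts (idx (genOf i)))⁻¹ = _
    rw [hgi i hi]
  have hlift : ∀ w : List Nat, (∀ l ∈ w, l < 2 * C.k) →
      FreeGroup.lift f (wordF genOf w) = evw (fun i => (permOf C hpts i)⁻¹) w := by
    intro w hw
    unfold wordF
    rw [map_evw]
    induction w with
    | nil => simp [evw]
    | cons l w ih =>
      have hl : l < 2 * C.k := hw l (by simp)
      have ih' := ih (fun l' hl' => hw l' (by simp [hl']))
      simp only [evw, ih']
      congr 1
      unfold letG
      simp only [FreeGroup.lift_apply_of]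
      rw [hfg (l / 2) (by omega)]
  have hf : ∀ r ∈ rels, FreeGroup.lift f r = 1 := by
    intro r hr
    obtain ⟨w, hw, g, rfl⟩ := hrel1 r hr
    have hwl := hletters w (by simp [hw])
    rw [map_mul, map_mul, hlift w hwl]
    suffices h1 : evw (fun i => (permOf C hpts i)⁻¹) w = 1 by
      rw [h1, mul_one, ← map_mul, inv_mul_cancel, map_one]
    apply evw_perm_eq_one C hpts w hwl
    intro p hp
    have hcp := hpts p hp
    simp only [checkPoint, Bool.and_eq_true] at hcp
    obtain ⟨-, h2, -, -⟩ := hcp
    exact Nat.eq_of_beq_eq_true (allList_sound _ _ h2 w hw)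
  let φ : PresentedGroup rels →* Equiv.Perm ℕ := PresentedGroup.toGroup hf
  let gam : Nat → PresentedGroup rels := fun i => PresentedGroup.of (genOf i)
  have hmk : ∀ w, PresentedGroup.mk rels (wordF genOf w) = evw gam w := by
    intro w
    unfold wordF
    rw [map_evw]
    rfl
  refine ⟨φ, ⟨?_, ?_, ?_, ?_, ?_, hr2, hfacts, hpts, hglob⟩⟩
  · intro i hi p hp
    show (φ (PresentedGroup.of (genOf i)))⁻¹ p = _
    have : φ (PresentedGroup.of (genOf i)) = f (genOf i) := PresentedGroup.toGroup.of hf
    rw [this, hfg i hi, inv_inv]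
    exact permOf_apply C hpts i hi p hp
  · rw [eq_top_iff, ← PresentedGroup.closure_range_of]
    apply Subgroup.closure_mono
    rintro _ ⟨a, rfl⟩
    exact ⟨idx a, (hidx a).1, by show PresentedGroup.of (genOf (idx a)) = _; rw [(hidx a).2]⟩
  · intro w hw
    rw [← hmk]
    exact hrel2 w hw
  · intro w hw
    rw [← hmk]
    exact Subgroup.mem_map_of_mem _ (Subgroup.subset_closure (hsub2 w hw))
  · rw [MonoidHom.map_closure, Subgroup.closure_le]
    rintro _ ⟨s, hs, rfl⟩
    obtain ⟨w, hw, rfl⟩ := hsub1 s hs
    apply Subgroup.subset_closure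
    exact ⟨w, hw, hmk w⟩


end Cfsg.Agent.Lib.Helper28
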