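import Cfsg.Agent.Lib.Helper28.HePData
import Cfsg.Agent.Lib.Helper28.TCFastF

set_option autoImplicit false
set_option maxRecDepth 1000000
set_option linter.all false
set_option Elab.async false

namespace Cfsg.Agent.Lib.Helper28.HePData

open Cfsg.Agent.Lib.Helper28

theorem chkF_84000 : allRangeF (checkFactF cert) (nat_lit 84000) (nat_lit 1000) = true := by decide +kernel
theorem chkF_85000 : allRangeF (checkFactF cert) (nat_lit 85000) (nat_lit 1000) = true := by decide +kernel
theorem chkF_86000 : allRangeF (checkFactF cert) (nat_lit 86000) (nat_lit 1000) = true := by decide +kernel
theorem chkF_87000 : allRangeF (checkFactF cert) (nat_lit 87000) (nat_lit 1000) = true := by decide +kernel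
theorem chkF_88000 : allRangeF (checkFactF cert) (nat_lit 88000) (nat_lit 1000) = true := by decide +kernel
theorem chkF_89000 : allRangeF (checkFactF cert) (nat_lit 89000) (nat_lit 1000) = true := by decide +kernel
theorem chkF_90000 : allRangeF (checkFactF cert) (nat_lit 90000) (nat_lit 1000) = true := by decide +kernel
theorem chkF_91000 : allRangeF (checkFactF cert) (nat_lit 91000) (nat_lit 1000) = true := by decide +kernel
theorem chkF_92000 : allRangeF (checkFactF cert) (nat_lit 92000) (nat_lit 1000) = true := by decide +kernel
theorem chkF_93000 : allRangeF (checkFactF cert) (nat_lit 93000) (nat_lit 1000) = true := by decide +kernel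
theorem chkF_94000 : allRangeF (checkFactF cert) (nat_lit 94000) (nat_lit 1000) = true := by decide +kernel
theorem chkF_95000 : allRangeF (checkFactF cert) (nat_lit 95000) (nat_lit 1000) = true := by decide +kernel
theorem chkF_96000 : allRangeF (checkFactF cert) (nat_lit 96000) (nat_lit 1000) = true := by decide +kernel
theorem chkF_97000 : allRangeF (checkFactF cert) (nat_lit 97000) (nat_lit 1000) = true := by decide +kernel
theorem chkF_98000 : allRangeF (checkFactF cert) (nat_lit 98000) (nat_lit 1000) = true := by decide +kernel
theorem chkF_99000 : allRangeF (checkFactF cert) (nat_lit 99000) (nat_lit 1000) = true := by decide +kernel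
theorem chkF_100000 : allRangeF (checkFactF cert) (nat_lit 100000) (nat_lit 1000) = true := by decide +kernel
theorem chkF_101000 : allRangeF (checkFactF cert) (nat_lit 101000) (nat_lit 1000) = true := by decide +kernel
theorem chkF_102000 : allRangeF (checkFactF cert) (nat_lit 102000) (nat_lit 1000) = true := by decide +kernel
theorem chkF_103000 : allRangeF (checkFactF cert) (nat_lit 103000) (nat_lit 1000) = true := by decide +kernel
theorem chkF_104000 : allRangeF (checkFactF cert) (nat_lit 104000) (nat_lit 1000) = true := by decide +kernel
theorem chkF_105000 : allRangeF (checkFactF cert) (nat_lit 105000) (nat_lit 1000) = true := by decide +kernel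
theorem chkF_106000 : allRangeF (checkFactF cert) (nat_lit 106000) (nat_lit 1000) = true := by decide +kernel
theorem chkF_107000 : allRangeF (checkFactF cert) (nat_lit 107000) (nat_lit 1000) = true := by decide +kernel
theorem chkF_108000 : allRangeF (checkFactF cert) (nat_lit 108000) (nat_lit 1000) = true := by decide +kernel
theorem chkF_109000 : allRangeF (checkFactF cert) (nat_lit 109000) (nat_lit 1000) = true := by decide +kernel
theorem chkF_110000 : allRangeF (checkFactF cert) (nat_lit 110000) (nat_lit 1000) = true := by decide +kernel
theorem chkF_111000 : allRangeF (checkFactF cert) (nat_lit 111000) (nat_lit 1000) = true := by decide +kernel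
theorem chkF_112000 : allRangeF (checkFactF cert) (nat_lit 112000) (nat_lit 1000) = true := by decide +kernel
theorem chkF_113000 : allRangeF (checkFactF cert) (nat_lit 113000) (nat_lit 1000) = true := by decide +kernel
theorem chkF_114000 : allRangeF (checkFactF cert) (nat_lit 114000) (nat_lit 1000) = true := by decide +kernel
theorem chkF_115000 : allRangeF (checkFactF cert) (nat_lit 115000) (nat_lit 1000) = true := by decide +kernel
theorem chkF_116000 : allRangeF (checkFactF cert) (nat_lit 116000) (nat_lit 1000) = true := by decide +kernel
theorem chkF_117000 : allRangeF (checkFactF cert) (nat_lit 117000) (nat_lit 1000) = true := by decide +kernel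
theorem chkF_118000 : allRangeF (checkFactF cert) (nat_lit 118000) (nat_lit 1000) = true := by decide +kernel
theorem chkF_119000 : allRangeF (checkFactF cert) (nat_lit 119000) (nat_lit 1000) = true := by decide +kernel
theorem chkF_120000 : allRangeF (checkFactF cert) (nat_lit 120000) (nat_lit 1000) = true := by decide +kernel
theorem chkF_121000 : allRangeF (checkFactF cert) (nat_lit 121000) (nat_lit 1000) = true := by decide +kernel
theorem chkF_122000 : allRangeF (checkFactF cert) (nat_lit 122000) (nat_lit 1000) = true := by decide +kernel
theorem chkF_123000 : allRangeF (checkFactF cert) (nat_lit 123000) (nat_lit 1000) = true := by decide +kernel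
theorem chkF_124000 : allRangeF (checkFactF cert) (nat_lit 124000) (nat_lit 1000) = true := by decide +kernel
theorem chkF_125000 : allRangeF (checkFactF cert) (nat_lit 125000) (nat_lit 1000) = true := by decide +kernel
theorem chkF_126000 : allRangeF (checkFactF cert) (nat_lit 126000) (nat_lit 1000) = true := by decide +kernel
theorem chkF_127000 : allRangeF (checkFactF cert) (nat_lit 127000) (nat_lit 1000) = true := by decide +kernel
theorem chkF_128000 : allRangeF (checkFactF cert) (nat_lit 128000) (nat_lit 1000) = true := by decide +kernel
theorem chkF_129000 : allRangeF (checkFactF cert) (nat_lit 129000) (nat_lit 1000) = true := by decide +kernel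
theorem chkF_130000 : allRangeF (checkFactF cert) (nat_lit 130000) (nat_lit 1000) = true := by decide +kernel
theorem chkF_131000 : allRangeF (checkFactF cert) (nat_lit 131000) (nat_lit 1000) = true := by decide +kernel
theorem chkF_132000 : allRangeF (checkFactF cert) (nat_lit 132000) (nat_lit 1000) = true := by decide +kernel
theorem chkF_133000 : allRangeF (checkFactF cert) (nat_lit 133000) (nat_lit 1000) = true := by decide +kernel
theorem chkF_134000 : allRangeF (checkFactF cert) (nat_lit 134000) (nat_lit 1000) = true := by decide +kernel
theorem chkF_135000 : allRangeF (checkFactF cert) (nat_lit 135000) (nat_lit 1000) = true := by decide +kernel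
theorem chkF_136000 : allRangeF (checkFactF cert) (nat_lit 136000) (nat_lit 1000) = true := by decide +kernel
theorem chkF_137000 : allRangeF (checkFactF cert) (nat_lit 137000) (nat_lit 1000) = true := by decide +kernel
theorem chkF_138000 : allRangeF (checkFactF cert) (nat_lit 138000) (nat_lit 1000) = true := by decide +kernel
theorem chkF_139000 : allRangeF (checkFactF cert) (nat_lit 139000) (nat_lit 1000) = true := by decide +kernel
theorem chkF_140000 : allRangeF (checkFactF cert) (nat_lit 140000) (nat_lit 1000) = true := by decide +kernel
theorem chkF_141000 : allRangeF (checkFactF cert) (nat_lit 141000) (nat_lit 1000) = true := by decide +kernel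
theorem chkF_142000 : allRangeF (checkFactF cert) (nat_lit 142000) (nat_lit 1000) = true := by decide +kernel
theorem chkF_143000 : allRangeF (checkFactF cert) (nat_lit 143000) (nat_lit 1000) = true := by decide +kernel
theorem chkF_144000 : allRangeF (checkFactF cert) (nat_lit 144000) (nat_lit 1000) = true := by decide +kernel
theorem chkF_145000 : allRangeF (checkFactF cert) (nat_lit 145000) (nat_lit 1000) = true := by decide +kernel
theorem chkF_146000 : allRangeF (checkFactF cert) (nat_lit 146000) (nat_lit 1000) = true := by decide +kernel
theorem chkF_147000 : allRangeF (checkFactF cert) (nat_lit 147000) (nat_lit 1000) = true := by decide +kernel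
theorem chkF_148000 : allRangeF (checkFactF cert) (nat_lit 148000) (nat_lit 1000) = true := by decide +kernel
theorem chkF_149000 : allRangeF (checkFactF cert) (nat_lit 149000) (nat_lit 1000) = true := by decide +kernel
theorem chkF_150000 : allRangeF (checkFactF cert) (nat_lit 150000) (nat_lit 1000) = true := by decide +kernel
theorem chkF_151000 : allRangeF (checkFactF cert) (nat_lit 151000) (nat_lit 1000) = true := by decide +kernel
theorem chkF_152000 : allRangeF (checkFactF cert) (nat_lit 152000) (nat_lit 1000) = true := by decide +kernel
theorem chkF_153000 : allRangeF (checkFactF cert) (nat_lit 153000) (nat_lit 1000) = true := by decide +kernel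
theorem chkF_154000 : allRangeF (checkFactF cert) (nat_lit 154000) (nat_lit 1000) = true := by decide +kernel
theorem chkF_155000 : allRangeF (checkFactF cert) (nat_lit 155000) (nat_lit 1000) = true := by decide +kernel
theorem chkF_156000 : allRangeF (checkFactF cert) (nat_lit 156000) (nat_lit 1000) = true := by decide +kernel
theorem chkF_157000 : allRangeF (checkFactF cert) (nat_lit 157000) (nat_lit 1000) = true := by decide +kernel
theorem chkF_158000 : allRangeF (checkFactF cert) (nat_lit 158000) (nat_lit 1000) = true := by decide +kernel
theorem chkF_159000 : allRangeF (checkFactF cert) (nat_lit 159000) (nat_lit 1000) = true := by decide +kernel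
theorem chkF_160000 : allRangeF (checkFactF cert) (nat_lit 160000) (nat_lit 1000) = true := by decide +kernel
theorem chkF_161000 : allRangeF (checkFactF cert) (nat_lit 161000) (nat_lit 1000) = true := by decide +kernel
theorem chkF_162000 : allRangeF (checkFactF cert) (nat_lit 162000) (nat_lit 1000) = true := by decide +kernel
theorem chkF_163000 : allRangeF (checkFactF cert) (nat_lit 163000) (nat_lit 1000) = true := by decide +kernel
theorem chkF_164000 : allRangeF (checkFactF cert) (nat_lit 164000) (nat_lit 1000) = true := by decide +kernel
theorem chkF_165000 : allRangeF (checkFactF cert) (nat_lit 165000) (nat_lit 1000) = true := by decide +kernel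
theorem chkF_166000 : allRangeF (checkFactF cert) (nat_lit 166000) (nat_lit 951) = true := by decide +kernel

theorem factsRange_1 : ∀ i, 84000 ≤ i → i < 166951 → checkFact cert i = true := by
  intro i hlo hhi
  rcases Nat.lt_or_ge i 125000 with h1 | h1
  · skip
    rcases Nat.lt_or_ge i 104000 with h2 | h2
    · skip
      rcases Nat.lt_or_ge i 94000 with h3 | h3
      · skip
        rcases Nat.lt_or_ge i 89000 with h4 | h4
        · skip
          rcases Nat.lt_or_ge i 86000 with h5 | h5
          · skip
            rcases Nat.lt_or_ge i 85000 with h6 | h6
            · skip
              exact allRangeF_sound _ _ (checkFactF_eq cert) 84000 1000 chkF_84000 i (by omega) (by omega)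
            · skip
              exact allRangeF_sound _ _ (checkFactF_eq cert) 85000 1000 chkF_85000 i (by omega) (by omega)
          · skip
            rcases Nat.lt_or_ge i 87000 with h6 | h6
            · skip
              exact allRangeF_sound _ _ (checkFactF_eq cert) 86000 1000 chkF_86000 i (by omega) (by omega)
            · skip
              rcases Nat.lt_or_ge i 88000 with h7 | h7
              · skip
                exact allRangeF_sound _ _ (checkFactF_eq cert) 87000 1000 chkF_87000 i (by omega) (by omega)
              · skip
                exact allRangeF_sound _ _ (checkFactF_eq cert) 88000 1000 chkF_88000 i (by omega) (by omega)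
        · skip
          rcases Nat.lt_or_ge i 91000 with h5 | h5
          · skip
            rcases Nat.lt_or_ge i 90000 with h6 | h6
            · skip
              exact allRangeF_sound _ _ (checkFactF_eq cert) 89000 1000 chkF_89000 i (by omega) (by omega)
            · skip
              exact allRangeF_sound _ _ (checkFactF_eq cert) 90000 1000 chkF_90000 i (by omega) (by omega)
          · skip
            rcases Nat.lt_or_ge i 92000 with h6 | h6
            · skip
              exact allRangeF_sound _ _ (checkFactF_eq cert) 91000 1000 chkF_91000 i (by omega) (by omega)
            · skip
              rcases Nat.lt_or_ge i 93000 with h7 | h7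
              · skip
                exact allRangeF_sound _ _ (checkFactF_eq cert) 92000 1000 chkF_92000 i (by omega) (by omega)
              · skip
                exact allRangeF_sound _ _ (checkFactF_eq cert) 93000 1000 chkF_93000 i (by omega) (by omega)
      · skip
        rcases Nat.lt_or_ge i 99000 with h4 | h4
        · skip
          rcases Nat.lt_or_ge i 96000 with h5 | h5
          · skip
            rcases Nat.lt_or_ge i 95000 with h6 | h6
            · skip
              exact allRangeF_sound _ _ (checkFactF_eq cert) 94000 1000 chkF_94000 i (by omega) (by omega)
            · skip
              exact allRangeF_sound _ _ (checkFactF_eq cert) 95000 1000 chkF_95000 i (by omega) (by omega)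
          · skip
            rcases Nat.lt_or_ge i 97000 with h6 | h6
            · skip
              exact allRangeF_sound _ _ (checkFactF_eq cert) 96000 1000 chkF_96000 i (by omega) (by omega)
            · skip
              rcases Nat.lt_or_ge i 98000 with h7 | h7
              · skip
                exact allRangeF_sound _ _ (checkFactF_eq cert) 97000 1000 chkF_97000 i (by omega) (by omega)
              · skip
                exact allRangeF_sound _ _ (checkFactF_eq cert) 98000 1000 chkF_98000 i (by omega) (by omega)
        · skip
          rcases Nat.lt_or_ge i 101000 with h5 | h5
          · skip
            rcases Nat.lt_or_ge i 100000 with h6 | h6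
            · skip
              exact allRangeF_sound _ _ (checkFactF_eq cert) 99000 1000 chkF_99000 i (by omega) (by omega)
            · skip
              exact allRangeF_sound _ _ (checkFactF_eq cert) 100000 1000 chkF_100000 i (by omega) (by omega)
          · skip
            rcases Nat.lt_or_ge i 102000 with h6 | h6
            · skip
              exact allRangeF_sound _ _ (checkFactF_eq cert) 101000 1000 chkF_101000 i (by omega) (by omega)
            · skip
              rcases Nat.lt_or_ge i 103000 with h7 | h7
              · skip
                exact allRangeF_sound _ _ (checkFactF_eq cert) 102000 1000 chkF_102000 i (by omega) (by omega)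
              · skip
                exact allRangeF_sound _ _ (checkFactF_eq cert) 103000 1000 chkF_103000 i (by omega) (by omega)
    · skip
      rcases Nat.lt_or_ge i 114000 with h3 | h3
      · skip
        rcases Nat.lt_or_ge i 109000 with h4 | h4
        · skip
          rcases Nat.lt_or_ge i 106000 with h5 | h5
          · skip
            rcases Nat.lt_or_ge i 105000 with h6 | h6
            · skip
              exact allRangeF_sound _ _ (checkFactF_eq cert) 104000 1000 chkF_104000 i (by omega) (by omega)
            · skip
              exact allRangeF_sound _ _ (checkFactF_eq cert) 105000 1000 chkF_105000 i (by omega) (by omega)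
          · skip
            rcases Nat.lt_or_ge i 107000 with h6 | h6
            · skip
              exact allRangeF_sound _ _ (checkFactF_eq cert) 106000 1000 chkF_106000 i (by omega) (by omega)
            · skip
              rcases Nat.lt_or_ge i 108000 with h7 | h7
              · skip
                exact allRangeF_sound _ _ (checkFactF_eq cert) 107000 1000 chkF_107000 i (by omega) (by omega)
              · skip
                exact allRangeF_sound _ _ (checkFactF_eq cert) 108000 1000 chkF_108000 i (by omega) (by omega)
        · skip
          rcases Nat.lt_or_ge i 111000 with h5 | h5
          · skip
            rcases Nat.lt_or_ge i 110000 with h6 | h6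
            · skip
              exact allRangeF_sound _ _ (checkFactF_eq cert) 109000 1000 chkF_109000 i (by omega) (by omega)
            · skip
              exact allRangeF_sound _ _ (checkFactF_eq cert) 110000 1000 chkF_110000 i (by omega) (by omega)
          · skip
            rcases Nat.lt_or_ge i 112000 with h6 | h6
            · skip
              exact allRangeF_sound _ _ (checkFactF_eq cert) 111000 1000 chkF_111000 i (by omega) (by omega)
            · skip
              rcases Nat.lt_or_ge i 113000 with h7 | h7
              · skip
                exact allRangeF_sound _ _ (checkFactF_eq cert) 112000 1000 chkF_112000 i (by omega) (by omega)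
              · skip
                exact allRangeF_sound _ _ (checkFactF_eq cert) 113000 1000 chkF_113000 i (by omega) (by omega)
      · skip
        rcases Nat.lt_or_ge i 119000 with h4 | h4
        · skip
          rcases Nat.lt_or_ge i 116000 with h5 | h5
          · skip
            rcases Nat.lt_or_ge i 115000 with h6 | h6
            · skip
              exact allRangeF_sound _ _ (checkFactF_eq cert) 114000 1000 chkF_114000 i (by omega) (by omega)
            · skip
              exact allRangeF_sound _ _ (checkFactF_eq cert) 115000 1000 chkF_115000 i (by omega) (by omega)
          · skip
            rcases Nat.lt_or_ge i 117000 with h6 | h6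
            · skip
              exact allRangeF_sound _ _ (checkFactF_eq cert) 116000 1000 chkF_116000 i (by omega) (by omega)
            · skip
              rcases Nat.lt_or_ge i 118000 with h7 | h7
              · skip
                exact allRangeF_sound _ _ (checkFactF_eq cert) 117000 1000 chkF_117000 i (by omega) (by omega)
              · skip
                exact allRangeF_sound _ _ (checkFactF_eq cert) 118000 1000 chkF_118000 i (by omega) (by omega)
        · skip
          rcases Nat.lt_or_ge i 122000 with h5 | h5
          · skip
            rcases Nat.lt_or_ge i 120000 with h6 | h6
            · skip
              exact allRangeF_sound _ _ (checkFactF_eq cert) 119000 1000 chkF_119000 i (by omega) (by omega)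
            · skip
              rcases Nat.lt_or_ge i 121000 with h7 | h7
              · skip
                exact allRangeF_sound _ _ (checkFactF_eq cert) 120000 1000 chkF_120000 i (by omega) (by omega)
              · skip
                exact allRangeF_sound _ _ (checkFactF_eq cert) 121000 1000 chkF_121000 i (by omega) (by omega)
          · skip
            rcases Nat.lt_or_ge i 123000 with h6 | h6
            · skip
              exact allRangeF_sound _ _ (checkFactF_eq cert) 122000 1000 chkF_122000 i (by omega) (by omega)
            · skip
              rcases Nat.lt_or_ge i 124000 with h7 | h7
              · skip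
                exact allRangeF_sound _ _ (checkFactF_eq cert) 123000 1000 chkF_123000 i (by omega) (by omega)
              · skip
                exact allRangeF_sound _ _ (checkFactF_eq cert) 124000 1000 chkF_124000 i (by omega) (by omega)
  · skip
    rcases Nat.lt_or_ge i 146000 with h2 | h2
    · skip
      rcases Nat.lt_or_ge i 135000 with h3 | h3
      · skip
        rcases Nat.lt_or_ge i 130000 with h4 | h4
        · skip
          rcases Nat.lt_or_ge i 127000 with h5 | h5
          · skip
            rcases Nat.lt_or_ge i 126000 with h6 | h6
            · skip
              exact allRangeF_sound _ _ (checkFactF_eq cert) 125000 1000 chkF_125000 i (by omega) (by omega)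
            · skip
              exact allRangeF_sound _ _ (checkFactF_eq cert) 126000 1000 chkF_126000 i (by omega) (by omega)
          · skip
            rcases Nat.lt_or_ge i 128000 with h6 | h6
            · skip
              exact allRangeF_sound _ _ (checkFactF_eq cert) 127000 1000 chkF_127000 i (by omega) (by omega)
            · skip
              rcases Nat.lt_or_ge i 129000 with h7 | h7
              · skip
                exact allRangeF_sound _ _ (checkFactF_eq cert) 128000 1000 chkF_128000 i (by omega) (by omega)
              · skip
                exact allRangeF_sound _ _ (checkFactF_eq cert) 129000 1000 chkF_129000 i (by omega) (by omega)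
        · skip
          rcases Nat.lt_or_ge i 132000 with h5 | h5
          · skip
            rcases Nat.lt_or_ge i 131000 with h6 | h6
            · skip
              exact allRangeF_sound _ _ (checkFactF_eq cert) 130000 1000 chkF_130000 i (by omega) (by omega)
            · skip
              exact allRangeF_sound _ _ (checkFactF_eq cert) 131000 1000 chkF_131000 i (by omega) (by omega)
          · skip
            rcases Nat.lt_or_ge i 133000 with h6 | h6
            · skip
              exact allRangeF_sound _ _ (checkFactF_eq cert) 132000 1000 chkF_132000 i (by omega) (by omega)
            · skip
              rcases Nat.lt_or_ge i 134000 with h7 | h7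
              · skip
                exact allRangeF_sound _ _ (checkFactF_eq cert) 133000 1000 chkF_133000 i (by omega) (by omega)
              · skip
                exact allRangeF_sound _ _ (checkFactF_eq cert) 134000 1000 chkF_134000 i (by omega) (by omega)
      · skip
        rcases Nat.lt_or_ge i 140000 with h4 | h4
        · skip
          rcases Nat.lt_or_ge i 137000 with h5 | h5
          · skip
            rcases Nat.lt_or_ge i 136000 with h6 | h6
            · skip
              exact allRangeF_sound _ _ (checkFactF_eq cert) 135000 1000 chkF_135000 i (by omega) (by omega)
            · skip
              exact allRangeF_sound _ _ (checkFactF_eq cert) 136000 1000 chkF_136000 i (by omega) (by omega)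
          · skip
            rcases Nat.lt_or_ge i 138000 with h6 | h6
            · skip
              exact allRangeF_sound _ _ (checkFactF_eq cert) 137000 1000 chkF_137000 i (by omega) (by omega)
            · skip
              rcases Nat.lt_or_ge i 139000 with h7 | h7
              · skip
                exact allRangeF_sound _ _ (checkFactF_eq cert) 138000 1000 chkF_138000 i (by omega) (by omega)
              · skip
                exact allRangeF_sound _ _ (checkFactF_eq cert) 139000 1000 chkF_139000 i (by omega) (by omega)
        · skip
          rcases Nat.lt_or_ge i 143000 with h5 | h5
          · skip
            rcases Nat.lt_or_ge i 141000 with h6 | h6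
            · skip
              exact allRangeF_sound _ _ (checkFactF_eq cert) 140000 1000 chkF_140000 i (by omega) (by omega)
            · skip
              rcases Nat.lt_or_ge i 142000 with h7 | h7
              · skip
                exact allRangeF_sound _ _ (checkFactF_eq cert) 141000 1000 chkF_141000 i (by omega) (by omega)
              · skip
                exact allRangeF_sound _ _ (checkFactF_eq cert) 142000 1000 chkF_142000 i (by omega) (by omega)
          · skip
            rcases Nat.lt_or_ge i 144000 with h6 | h6
            · skip
              exact allRangeF_sound _ _ (checkFactF_eq cert) 143000 1000 chkF_143000 i (by omega) (by omega)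
            · skip
              rcases Nat.lt_or_ge i 145000 with h7 | h7
              · skip
                exact allRangeF_sound _ _ (checkFactF_eq cert) 144000 1000 chkF_144000 i (by omega) (by omega)
              · skip
                exact allRangeF_sound _ _ (checkFactF_eq cert) 145000 1000 chkF_145000 i (by omega) (by omega)
    · skip
      rcases Nat.lt_or_ge i 156000 with h3 | h3
      · skip
        rcases Nat.lt_or_ge i 151000 with h4 | h4
        · skip
          rcases Nat.lt_or_ge i 148000 with h5 | h5
          · skip
            rcases Nat.lt_or_ge i 147000 with h6 | h6
            · skip
              exact allRangeF_sound _ _ (checkFactF_eq cert) 146000 1000 chkF_146000 i (by omega) (by omega)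
            · skip
              exact allRangeF_sound _ _ (checkFactF_eq cert) 147000 1000 chkF_147000 i (by omega) (by omega)
          · skip
            rcases Nat.lt_or_ge i 149000 with h6 | h6
            · skip
              exact allRangeF_sound _ _ (checkFactF_eq cert) 148000 1000 chkF_148000 i (by omega) (by omega)
            · skip
              rcases Nat.lt_or_ge i 150000 with h7 | h7
              · skip
                exact allRangeF_sound _ _ (checkFactF_eq cert) 149000 1000 chkF_149000 i (by omega) (by omega)
              · skip
                exact allRangeF_sound _ _ (checkFactF_eq cert) 150000 1000 chkF_150000 i (by omega) (by omega)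
        · skip
          rcases Nat.lt_or_ge i 153000 with h5 | h5
          · skip
            rcases Nat.lt_or_ge i 152000 with h6 | h6
            · skip
              exact allRangeF_sound _ _ (checkFactF_eq cert) 151000 1000 chkF_151000 i (by omega) (by omega)
            · skip
              exact allRangeF_sound _ _ (checkFactF_eq cert) 152000 1000 chkF_152000 i (by omega) (by omega)
          · skip
            rcases Nat.lt_or_ge i 154000 with h6 | h6
            · skip
              exact allRangeF_sound _ _ (checkFactF_eq cert) 153000 1000 chkF_153000 i (by omega) (by omega)
            · skip
              rcases Nat.lt_or_ge i 155000 with h7 | h7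
              · skip
                exact allRangeF_sound _ _ (checkFactF_eq cert) 154000 1000 chkF_154000 i (by omega) (by omega)
              · skip
                exact allRangeF_sound _ _ (checkFactF_eq cert) 155000 1000 chkF_155000 i (by omega) (by omega)
      · skip
        rcases Nat.lt_or_ge i 161000 with h4 | h4
        · skip
          rcases Nat.lt_or_ge i 158000 with h5 | h5
          · skip
            rcases Nat.lt_or_ge i 157000 with h6 | h6
            · skip
              exact allRangeF_sound _ _ (checkFactF_eq cert) 156000 1000 chkF_156000 i (by omega) (by omega)
            · skip
              exact allRangeF_sound _ _ (checkFactF_eq cert) 157000 1000 chkF_157000 i (by omega) (by omega)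
          · skip
            rcases Nat.lt_or_ge i 159000 with h6 | h6
            · skip
              exact allRangeF_sound _ _ (checkFactF_eq cert) 158000 1000 chkF_158000 i (by omega) (by omega)
            · skip
              rcases Nat.lt_or_ge i 160000 with h7 | h7
              · skip
                exact allRangeF_sound _ _ (checkFactF_eq cert) 159000 1000 chkF_159000 i (by omega) (by omega)
              · skip
                exact allRangeF_sound _ _ (checkFactF_eq cert) 160000 1000 chkF_160000 i (by omega) (by omega)
        · skip
          rcases Nat.lt_or_ge i 164000 with h5 | h5
          · skip
            rcases Nat.lt_or_ge i 162000 with h6 | h6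
            · skip
              exact allRangeF_sound _ _ (checkFactF_eq cert) 161000 1000 chkF_161000 i (by omega) (by omega)
            · skip
              rcases Nat.lt_or_ge i 163000 with h7 | h7
              · skip
                exact allRangeF_sound _ _ (checkFactF_eq cert) 162000 1000 chkF_162000 i (by omega) (by omega)
              · skip
                exact allRangeF_sound _ _ (checkFactF_eq cert) 163000 1000 chkF_163000 i (by omega) (by omega)
          · skip
            rcases Nat.lt_or_ge i 165000 with h6 | h6
            · skip
              exact allRangeF_sound _ _ (checkFactF_eq cert) 164000 1000 chkF_164000 i (by omega) (by omega)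
            · skip
              rcases Nat.lt_or_ge i 166000 with h7 | h7
              · skip
                exact allRangeF_sound _ _ (checkFactF_eq cert) 165000 1000 chkF_165000 i (by omega) (by omega)
              · skip
                exact allRangeF_sound _ _ (checkFactF_eq cert) 166000 951 chkF_166000 i (by omega) (by omega)

end Cfsg.Agent.Lib.Helper28.HePData
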