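import Cfsg.Agent.Lib.Helper28.PSetup
import Cfsg.Agent.Lib.Helper7.SubOrbit3

set_option autoImplicit false
set_option linter.all false

/-! Three-level stabiliser chain bound from table walks. -/

namespace Cfsg.Agent.Lib.Helper28.PChain

open Cfsg.Agent.Lib.Helper28 Cfsg.Agent.Lib.Helper28.PSetup

variable {C : Cert} {G : Type*} [Group G] {H : Subgroup G} {gam : ℕ → G}
  {φ : G →* Equiv.Perm ℕ}

theorem chain3 (hS : Setup C H gam φ) [Finite H] (horb : ∀ p, p < C.n → checkOrb C p = true)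
    (r1 : ℕ) (hr1 : r1 < C.n) (hroot : C.ORK r1 = 0) (s1 : ℕ)
    (hcnt : countLab C.ORB (C.ORB r1) C.n = s1)
    (x2 x3 : ℕ) (hx2 : x2 < C.n) (hx3 : x3 < C.n)
    (ws2 ws3 : List (List ℕ)) (imgs2 imgs3 : List ℕ)
    (hlet : ∀ w ∈ ws2 ++ ws3, ∀ l ∈ w, l < 2 * C.k)
    (hfix0 : ∀ w ∈ ws2 ++ ws3, walkT C 0 w = 0)
    (hfix1 : ∀ w ∈ ws2 ++ ws3, walkT C r1 w = r1)
    (hfix2 : ∀ w ∈ ws3, walkT C x2 w = x2)
    (himg2 : ws2.map (walkT C x2) = imgs2) (hnd2 : imgs2.Nodup)
    (himg3 : ws3.map (walkT C x3) = imgs3) (hnd3 : imgs3.Nodup) :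
    s1 * ws2.length * ws3.length ≤ Nat.card H ∧
    (Nat.card H ≤ s1 * ws2.length * ws3.length →
      ∀ g ∈ H, g • psi C H gam r1 = psi C H gam r1 → g • psi C H gam x2 = psi C H gam x2 →
        g • psi C H gam x3 = psi C H gam x3 → g = 1) := by
  have hs1 : (MulAction.orbit H (psi C H gam r1)).ncard = s1 := by
    rw [hS.orbit_ncard horb r1 hr1 hroot]; exact hcnt
  let L2 : List G := ws2.map (fun w => (evw gam w)⁻¹)
  let L3 : List G := ws3.map (fun w => (evw gam w)⁻¹)
  have hmemH : ∀ w ∈ ws2 ++ ws3, (evw gam w)⁻¹ ∈ H := fun w hw =>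
    H.inv_mem (mem_of_fix0 hS w (hlet w hw) (hfix0 w hw))
  have hf1 : ∀ w ∈ ws2 ++ ws3, (evw gam w)⁻¹ • psi C H gam r1 = psi C H gam r1 := by
    intro w hw
    rw [(act_word hS w (hlet w hw) r1 hr1).1, hfix1 w hw]
  have hf2 : ∀ w ∈ ws3, (evw gam w)⁻¹ • psi C H gam x2 = psi C H gam x2 := by
    intro w hw
    rw [(act_word hS w (hlet w (List.mem_append_right _ hw)) x2 hx2).1, hfix2 w hw]
  have nodup_of : ∀ (ws : List (List ℕ)) (x : ℕ) (hx : x < C.n) (imgs : List ℕ),
      (∀ w ∈ ws, ∀ l ∈ w, l < 2 * C.k) → ws.map (walkT C x) = imgs → imgs.Nodup →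
      ((ws.map (fun w => (evw gam w)⁻¹)).map (fun g => g • psi C H gam x)).Nodup := by
    intro ws x hx imgs hl himg hnd
    have h1 : (ws.map (fun w => (evw gam w)⁻¹)).map (fun g => g • psi C H gam x)
        = imgs.map (psi C H gam) := by
      rw [List.map_map, ← himg, List.map_map]
      apply List.map_congr_left
      intro w hw
      exact (act_word hS w (hl w hw) x hx).1
    rw [h1]
    apply List.Nodup.map_on _ hnd
    intro a ha b hb hab
    have hlt : ∀ c ∈ imgs, c < C.n := by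
      intro c hc
      rw [← himg] at hc
      obtain ⟨w, hw, rfl⟩ := List.mem_map.mp hc
      exact (act_word hS w (hl w hw) x hx).2
    exact hS.psi_injOn (hlt a ha) (hlt b hb) hab
  have h := Cfsg.Agent.Lib.Helper7.SubOrbit3.chain_bound3 H (psi C H gam r1) (psi C H gam x2)
    (psi C H gam x3) s1 hs1 L2 L3
    (by
      intro g hg
      obtain ⟨w, hw, rfl⟩ := List.mem_map.mp hg
      exact ⟨hmemH w (List.mem_append_left _ hw), hf1 w (List.mem_append_left _ hw)⟩)
    (nodup_of ws2 x2 hx2 imgs2 (fun w hw => hlet w (List.mem_append_left _ hw)) himg2 hnd2)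
    (by
      intro g hg
      obtain ⟨w, hw, rfl⟩ := List.mem_map.mp hg
      exact ⟨hmemH w (List.mem_append_right _ hw), hf1 w (List.mem_append_right _ hw), hf2 w hw⟩)
    (nodup_of ws3 x3 hx3 imgs3 (fun w hw => hlet w (List.mem_append_right _ hw)) himg3 hnd3)
  have hl2 : L2.length = ws2.length := List.length_map _
  have hl3 : L3.length = ws3.length := List.length_map _
  rw [hl2, hl3] at h
  exact h

end Cfsg.Agent.Lib.Helper28.PChain
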