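import Cfsg.Prelude.Def_Spor_He
import Cfsg.Agent.Lib.Helper28.TCPresented
import Cfsg.Agent.Lib.Helper28.TCOrbit

set_option autoImplicit false
set_option linter.all false

namespace Cfsg.Agent.Lib.Helper28.HeGlue

open Cfsg Cfsg.Spor Cfsg.Agent.Lib.Helper28

def genOf : Nat → He.Gen
  | 0 => .a | 1 => .b | 2 => .c | 3 => .d | 4 => .e | 5 => .f | _ => .g

def idx : He.Gen → Nat
  | .a => 0 | .b => 1 | .c => 2 | .d => 3 | .e => 4 | .f => 5 | .g => 6

def relsL : List (List Nat) := [[0, 0], [0, 2, 0, 2, 0, 2, 0, 2], [0, 4, 0, 4], [0, 6, 0, 6], [0, 8, 0, 8], [0, 10, 0, 10], [0, 12, 0, 12], [2, 0, 2, 0, 2, 0, 2, 0], [2, 2], [2, 4, 2, 4, 2, 4], [2, 6, 2, 6], [2, 8, 2, 8], [2, 10, 2, 10], [2, 12, 2, 12], [4, 0, 4, 0], [4, 2, 4, 2, 4, 2], [4, 4], [4, 6, 4, 6, 4, 6, 4, 6, 4, 6, 4, 6, 4, 6, 4, 6, 4, 6, 4, 6], [4, 8, 4, 8], [4, 10, 4, 10], [4, 12, 4, 12], [6, 0, 6, 0], [6, 2, 6, 2], [6, 4, 6, 4, 6, 4, 6,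 4, 6, 4, 6, 4, 6, 4, 6, 4, 6, 4, 6, 4], [6, 6], [6, 8, 6, 8, 6, 8], [6, 10, 6, 10, 6, 10], [6, 12, 6, 12, 6, 12], [8, 0, 8, 0], [8, 2, 8, 2], [8, 4, 8, 4], [8, 6, 8, 6, 8, 6], [8, 8], [8, 10, 8, 10], [8, 12, 8, 12], [10, 0, 10, 0], [10, 2, 10, 2], [10, 4, 10, 4], [10, 6, 10, 6, 10, 6], [10, 8, 10, 8], [10, 10], [10, 12, 10, 12, 10, 12, 10, 12], [12, 0, 12, 0], [12, 2, 12, 2], [12, 4, 12, 4], [12, 6, 12, 6, 12, 6], [12, 8, 12, 8], [12, 10, 12, 10, 12, 10, 12, 10], [12, 12], [8, 13, 11, 13, 11], [8, 5, 3, 1, 5, 3, 1, 5, 3, 1], [0, 7, 5, 7, 5, 7, 5, 7, 5, 7, 5], [4, 6, 10, 12, 4, 6, 10, 12, 4, 6, 10, 12, 4, 6, 10, 12]]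

abbrev relSet : Set (FreeGroup He.Gen) := coxRelators He.edges ∪ {r | r ∈ He.extra}

theorem hidx : ∀ x : He.Gen, idx x < 7 ∧ genOf (idx x) = x := by
  intro x; cases x <;> exact ⟨by decide, rfl⟩

theorem hgi : ∀ i, i < 7 → idx (genOf i) = i := by
  intro i hi
  interval_cases i <;> rfl

theorem node_mem (x : He.Gen) : x ∈ coxNodes He.edges := by
  cases x <;> decide

theorem cox_word (x y : He.Gen) :
    (FreeGroup.of x * FreeGroup.of y) ^ coxLabel He.edges x y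
      = wordF genOf (relsL.getD (7 * idx x + idx y) []) := by
  cases x <;> cases y <;> rfl

theorem idx_lt (x : He.Gen) : idx x < 7 := (hidx x).1

set_option maxRecDepth 100000 in
theorem extra_word (j : Nat) (hj : j < 4) :
    He.extra.getD j 1 = wordF genOf (relsL.getD (49 + j) []) := by
  interval_cases j <;> rfl

theorem hrel1 : ∀ r ∈ relSet, ∃ w ∈ relsL, r = wordF genOf w := by
  intro r hr
  rcases hr with ⟨x, _, y, _, rfl⟩ | hr
  · refine ⟨relsL.getD (7 * idx x + idx y) [], ?_, cox_word x y⟩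
    apply getD_mem_of_lt
    have := idx_lt x; have := idx_lt y
    show 7 * idx x + idx y < 53
    omega
  · have hr' : r ∈ He.extra := hr
    obtain ⟨j, hj, rfl⟩ := List.mem_iff_getElem.mp hr'
    have hj' : j < 4 := hj
    refine ⟨relsL.getD (49 + j) [], ?_, ?_⟩
    · apply getD_mem_of_lt
      show 49 + j < 53
      omega
    · rw [← extra_word j hj', List.getD_eq_getElem _ _ hj]

theorem hrel2 : ∀ w ∈ relsL, wordF genOf w ∈ relSet := by
  intro w hw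
  obtain ⟨j, hj, rfl⟩ := List.mem_iff_getElem.mp hw
  have hj' : j < 53 := hj
  rw [← List.getD_eq_getElem relsL [] hj]
  by_cases hc : j < 49
  · left
    refine ⟨genOf (j / 7), node_mem _, genOf (j % 7), node_mem _, ?_⟩
    rw [cox_word, hgi (j / 7) (by omega), hgi (j % 7) (Nat.mod_lt _ (by omega))]
    congr 2
    omega
  · right
    have h5 : j - 49 < 4 := by omega
    have := extra_word (j - 49) h5
    have hjj : 49 + (j - 49) = j := by omega
    rw [hjj] at this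
    rw [← this, List.getD_eq_getElem _ _ (by exact h5)]
    exact List.getElem_mem _

end Cfsg.Agent.Lib.Helper28.HeGlue
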