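import Cfsg.Agent.Lib.Helper28.PGen
import Cfsg.Agent.Lib.Helper28.PChain
import Cfsg.Agent.Lib.Helper28.HeGlueR
import Cfsg.Agent.Lib.Helper28.He2Chk
import Cfsg.Agent.Lib.Helper28.HePChk
import Cfsg.Agent.Lib.Helper28.HeOrbChk
import Cfsg.Agent.S1683

set_option autoImplicit false
set_option linter.all false

namespace Cfsg.Agent.Lib.Helper28.HeOrder

open Cfsg Cfsg.Spor Cfsg.Agent.Lib.Helper28 Cfsg.Agent.Lib.Helper28.PGen
open Cfsg.Agent.Lib.Helper28.HeOrbChk

set_option maxRecDepth 100000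

/-- the presented Held group -/
abbrev G : Type := PresentedGroup HeGlueR.relSet

/-- the subgroup `⟨a, c, d, e, f, (ab)^2, (bcde)^7⟩` of index 2058 -/
noncomputable abbrev H2 : Subgroup G :=
  (Subgroup.closure Cfsg.Agent.S1683.subS).map (PresentedGroup.mk HeGlue.relSet)

noncomputable abbrev gamA : ℕ → G := fun i => PresentedGroup.of (HeGlue.genOf i)

noncomputable abbrev gamB : ℕ → G := fun i => PresentedGroup.of (HeGlueR.genOf i)

noncomputable abbrev certA : Cert := HeData.cert

/-- generators of the subgroup `3.S7 = ⟨a, b, c, d, e⟩` -/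
abbrev SK : Set (FreeGroup He.Gen) := {He.a, He.b, He.c, He.d, He.e}

noncomputable abbrev K5 : Subgroup G :=
  (Subgroup.closure SK).map (PresentedGroup.mk HeGlueR.relSet)

theorem rels_eqB : He2Data.cert.rels = HeGlueR.relsL := by decide

theorem hsub1B : ∀ s ∈ SK, ∃ w ∈ He2Data.cert.subs, s = wordF HeGlueR.genOf w := by
  intro s hs
  simp only [SK, Set.mem_insert_iff, Set.mem_singleton_iff] at hs
  rcases hs with rfl | rfl | rfl | rfl | rfl
  · exact ⟨[0], by decide, rfl⟩
  · exact ⟨[2], by decide, rfl⟩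
  · exact ⟨[4], by decide, rfl⟩
  · exact ⟨[6], by decide, rfl⟩
  · exact ⟨[8], by decide, rfl⟩

theorem hsub2B : ∀ w ∈ He2Data.cert.subs, wordF HeGlueR.genOf w ∈ SK := by
  intro w hw
  have hw' : w ∈ [[0], [2], [4], [6], [8]] := hw
  simp only [List.mem_cons, List.not_mem_nil, or_false] at hw'
  rcases hw' with rfl | rfl | rfl | rfl | rfl
  · exact Or.inl rfl
  · exact Or.inr (Or.inl rfl)
  · exact Or.inr (Or.inr (Or.inl rfl))
  · exact Or.inr (Or.inr (Or.inr (Or.inl rfl)))
  · exact Or.inr (Or.inr (Or.inr (Or.inr rfl)))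

theorem setupB : ∃ φ : G →* Equiv.Perm ℕ, Setup He2Data.cert K5 gamB φ :=
  presented_setup_conj HeGlueR.relSet SK He2Data.cert HeGlueR.genOf HeGlueR.idx HeGlueR.hidx HeGlueR.hgi
    (by rw [rels_eqB]; exact HeGlueR.hrel1) (by rw [rels_eqB]; exact HeGlueR.hrel2) hsub1B hsub2B
    He2Data.chkR2 He2Data.facts_ok He2Data.pts_ok He2Data.chkG

/-- relators of the sub-presentation on `a, …, e` (with `f = g = 1`) -/
noncomputable abbrev RP : List (List Nat) := HePData.rels

theorem cardP : Finite (PG HeGlueR.genOf RP) ∧ Nat.card (PG HeGlueR.genOf RP) = 15120 :=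
  card_of_trivial HeGlueR.genOf HeGlueR.idx RP HePData.cert HeGlueR.hidx HeGlueR.hgi rfl rfl
    HePData.chkR2 HePData.facts_ok HePData.pts_ok HePData.chkG

/-- images of the generators of the sub-presentation (`f` and `g` are sent to 1) -/
noncomputable def fP : He.Gen → G :=
  fun x => if x = He.Gen.f ∨ x = He.Gen.g then 1 else PresentedGroup.of x

theorem keyP : ∀ w ∈ RP, w = [10] ∨ w = [12] ∨ (w ∈ HeGlueR.relsL ∧ ∀ l ∈ w, l / 2 < 5) := by decide

theorem genOf_lt5 (i : ℕ) (hi : i < 5) :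
    ¬ (HeGlueR.genOf i = He.Gen.f ∨ HeGlueR.genOf i = He.Gen.g) := by
  interval_cases i <;> simp [HeGlueR.genOf]

theorem hP : ∀ w ∈ RP, evw (fun i => fP (HeGlueR.genOf i)) w = 1 := by
  intro w hw
  rcases keyP w hw with rfl | rfl | ⟨hr, hl⟩
  · simp [evw, letG, fP, HeGlueR.genOf]
  · simp [evw, letG, fP, HeGlueR.genOf]
  · rw [evw_congr' _ gamB w]
    · rw [mk_wordF']
      exact HeGlueR.hrel2 w hr
    · intro l hlw
      show fP _ = _
      unfold fP
      rw [if_neg (genOf_lt5 _ (hl l hlw))]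

theorem hK5 : K5 ≤ Subgroup.closure (Set.range fP) := by
  show (Subgroup.closure SK).map (PresentedGroup.mk HeGlueR.relSet) ≤ _
  rw [MonoidHom.map_closure]
  apply Subgroup.closure_mono
  rintro _ ⟨s, hs, rfl⟩
  simp only [SK, Set.mem_insert_iff, Set.mem_singleton_iff] at hs
  rcases hs with rfl | rfl | rfl | rfl | rfl
  · exact ⟨He.Gen.a, by unfold fP; rw [if_neg (by decide)]; rfl⟩
  · exact ⟨He.Gen.b, by unfold fP; rw [if_neg (by decide)]; rfl⟩
  · exact ⟨He.Gen.c, by unfold fP; rw [if_neg (by decide)]; rfl⟩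
  · exact ⟨He.Gen.d, by unfold fP; rw [if_neg (by decide)]; rfl⟩
  · exact ⟨He.Gen.e, by unfold fP; rw [if_neg (by decide)]; rfl⟩

theorem cardK5_le : Finite K5 ∧ Nat.card K5 ≤ 15120 := by
  haveI := cardP.1
  have h := card_le_of_lift HeGlueR.genOf RP fP hP K5 hK5
  rw [cardP.2] at h
  exact h

theorem cardG_le : Finite G ∧ Nat.card G ≤ 4030387200 := by
  obtain ⟨φ, hS⟩ := setupB
  haveI := cardK5_le.1
  obtain ⟨hfin, hcard⟩ := card_of_setup' hS
  refine ⟨hfin, ?_⟩
  have hn : He2Data.cert.n = 266560 := rfl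
  rw [hcard, hn]
  have := cardK5_le.2
  omega

section WithSetup

variable {φ : G →* Equiv.Perm ℕ} (hS : Setup certA H2 gamA φ)

include hS

theorem chainA : 1958400 ≤ Nat.card H2 ∧
    (Nat.card H2 ≤ 1958400 →
      ∀ g ∈ H2, g • psi certA H2 gamA 1 = psi certA H2 gamA 1 →
        g • psi certA H2 gamA 28 = psi certA H2 gamA 28 →
        g • psi certA H2 gamA 5 = psi certA H2 gamA 5 → g = 1) := by
  haveI := cardG_le.1
  have hk : certA.k = 7 := rfl
  have hall := fun w hw => allList_sound _ _ ws_fix01 w hw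
  have h := PChain.chain3 hS HeData.orb_ok 1 (by decide) root1.1 1360
    (by rw [root1.2]; exact cnt1) 28 5 (by decide) (by decide) ws2 ws3 imgs2 imgs3
    (by
      intro w hw l hl
      have := allLetters_sound _ _ (allList_sound _ _ ws_letters w hw) l hl
      rw [hk]
      simpa [Nat.blt] using this)
    (by
      intro w hw
      have := hall w hw
      simp only [Bool.and_eq_true] at this
      exact Nat.eq_of_beq_eq_true this.1)
    (by
      intro w hw
      have := hall w hw
      simp only [Bool.and_eq_true] at this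
      exact Nat.eq_of_beq_eq_true this.2)
    (by
      intro w hw
      exact Nat.eq_of_beq_eq_true (allList_sound _ _ ws3_fix2 w hw))
    (eqList_eq _ _ ws2_imgs) imgs2_nodup (eqList_eq _ _ ws3_imgs) imgs3_nodup
  rw [ws2_length, ws3_length] at h
  exact h

theorem cardG : Nat.card G = 4030387200 ∧ Nat.card H2 = 1958400 := by
  haveI := cardG_le.1
  have h1 : Nat.card H2 * H2.index = Nat.card G := Subgroup.card_mul_index H2
  have h2 : H2.index = 2058 := hS.index_eq
  have h3 := (chainA hS).1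
  have h4 := cardG_le.2
  rw [h2] at h1
  constructor <;> omega

/-- an element of `H2` fixing three suitable cosets is trivial -/
theorem trivial3 : ∀ g ∈ H2, g • psi certA H2 gamA 1 = psi certA H2 gamA 1 →
    g • psi certA H2 gamA 28 = psi certA H2 gamA 28 →
    g • psi certA H2 gamA 5 = psi certA H2 gamA 5 → g = 1 :=
  (chainA hS).2 (by rw [(cardG hS).2])

end WithSetup

end Cfsg.Agent.Lib.Helper28.HeOrder
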