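import Cfsg.Agent.Lib.Helper28.Sp44Q
import Cfsg.Agent.Lib.Helper28.SpAlphaChk
import Cfsg.Agent.Lib.Helper28.HeOrder

set_option autoImplicit false
set_option linter.all false
set_option maxRecDepth 100000

/-! The presented group `Q` embeds in the presented Held group, inside the subgroup of index 2058. -/

namespace Cfsg.Agent.Lib.Helper28.Sp44Alpha

open Cfsg Cfsg.Spor Cfsg.Agent.Lib.Helper28 Cfsg.Agent.Lib.Helper28.PGen
open Cfsg.Agent.Lib.Helper28.Sp44Q Cfsg.Agent.Lib.Helper28.SpAlphaChk
open Cfsg.Agent.Lib.Helper28.HeOrder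

theorem evw_subst {K : Type*} [Group K] (gam : ℕ → K) (w : List ℕ) :
    evw gam (subst w) = evw (fun i => evw gam (gw i)) w := by
  induction w with
  | nil => rfl
  | cons l w ih =>
    rw [subst, evw_append, ih]
    show _ = letG _ l * _
    congr 1
    unfold letG
    rcases Nat.mod_two_eq_zero_or_one l with h | h
    · simp [h]
    · simp [h, evw_invw, beq_one_zero]

/-- images of the six generators in the Held group -/
noncomputable def fα : Gen → G := fun x => evw gamA (gw x.val)

theorem hfun : (fun i => fα (genOf i)) = fun i => evw gamA (gw i) := by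
  funext i
  show evw gamA (gw ((Fin.ofNat 6 i).val)) = _
  congr 1
  show gwL.getD ((i % 6) % 6) [] = gwL.getD (i % 6) []
  rw [Nat.mod_mod]

theorem gw_mem : ∀ x : Fin 6, gw x.val ∈ gwL := by decide

section WithSetup

variable {φ : G →* Equiv.Perm ℕ} (hS : Setup certA H2 gamA φ)

include hS

theorem word_one (v : List ℕ) (hl : allLetters (fun l => Nat.blt l 14) v = true)
    (hf : fix4 v = true) : evw gamA v = 1 := by
  have hk : certA.k = 7 := rfl
  have hlet : ∀ l ∈ v, l < 2 * certA.k := by
    intro l hlv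
    have := allLetters_sound _ _ hl l hlv
    rw [hk]
    simpa [Nat.blt] using this
  simp only [fix4, Bool.and_eq_true] at hf
  obtain ⟨⟨⟨h0, h1⟩, h28⟩, h5⟩ := hf
  have hmem : evw gamA v ∈ H2 := PSetup.mem_of_fix0 hS v hlet (Nat.eq_of_beq_eq_true h0)
  exact trivial3 hS _ hmem
    (PSetup.act_word' hS v hlet 1 (by decide) (Nat.eq_of_beq_eq_true h1))
    (PSetup.act_word' hS v hlet 28 (by decide) (Nat.eq_of_beq_eq_true h28))
    (PSetup.act_word' hS v hlet 5 (by decide) (Nat.eq_of_beq_eq_true h5))

theorem hα : ∀ w ∈ RQ, evw (fun i => fα (genOf i)) w = 1 := by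
  intro w hw
  rw [hfun, ← evw_subst]
  exact word_one hS _ (allList_sound _ _ rel_letters w hw) (allList_sound _ _ rel_fix w hw)

/-- the homomorphism from `Q` to the Held group -/
noncomputable def α : Q →* G := liftP genOf RQ fα (hα hS)

theorem α_of (x : Gen) : α hS (PresentedGroup.of x) = fα x := liftP_of genOf RQ fα (hα hS) x

theorem fα_mem (x : Gen) : fα x ∈ H2 := by
  have hk : certA.k = 7 := rfl
  have hm := gw_mem x
  apply PSetup.mem_of_fix0 hS
  · intro l hl
    have := allLetters_sound _ _ (allList_sound _ _ gw_letters _ hm) l hl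
    rw [hk]
    simpa [Nat.blt] using this
  · exact Nat.eq_of_beq_eq_true (allList_sound _ _ gw_fix0 _ hm)

theorem range_le : (α hS).range ≤ H2 := by
  unfold α
  rw [liftP_range, Subgroup.closure_le]
  rintro _ ⟨x, rfl⟩
  exact fα_mem hS x

theorem fα0_ne : fα 0 ≠ 1 := by
  intro h
  have hk : certA.k = 7 := rfl
  have h1 := PSetup.act_word hS [4] (by decide) 1 (by decide)
  have e : fα 0 = evw gamA [4] := rfl
  rw [← e, h, inv_one, one_smul] at h1
  have h2 := hS.psi_injOn (by decide) h1.2 h1.1
  have h3 := c_moves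
  rw [← h2] at h3
  exact absurd h3 (by decide)

theorem α_injective (hs : IsSimpleGroup Q) : Function.Injective (α hS) := by
  rw [← MonoidHom.ker_eq_bot_iff]
  rcases hs.eq_bot_or_eq_top_of_normal (α hS).ker (MonoidHom.normal_ker _) with h | h
  · exact h
  · exfalso
    have : (PresentedGroup.of (0 : Gen) : Q) ∈ (α hS).ker := by rw [h]; trivial
    rw [MonoidHom.mem_ker, α_of] at this
    exact fα0_ne hS this

end WithSetup

end Cfsg.Agent.Lib.Helper28.Sp44Alpha
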