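import Cfsg.Agent.Lib.Helper28.CeChk
import Cfsg.Agent.Lib.Helper28.CeIncA
import Cfsg.Agent.Lib.Helper28.CeIncB
import Cfsg.Agent.Lib.Helper28.CeIncC
import Cfsg.Agent.Lib.Helper28.CePChk
import Cfsg.Agent.Lib.Helper28.Sp44Alpha
import Cfsg.Agent.Lib.Helper93.CentSL5

set_option autoImplicit false
set_option linter.all false
set_option maxRecDepth 1000000

/-! The centraliser of the involution `e` of the presented Held group is isomorphic to the
centraliser of a transvection in `SL(5, 2)`: both are isomorphic to a presented group `P` of order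
`21504` on four involutions. -/

namespace Cfsg.Agent.Lib.Helper28.CeMain

open Cfsg Cfsg.Spor Cfsg.Agent.Lib.Helper28 Cfsg.Agent.Lib.Helper28.PGen
open Cfsg.Agent.Lib.Helper28.HeMultGen Cfsg.Agent.Lib.Helper28.CeGen
open Cfsg.Agent.Lib.Helper28.CeData Cfsg.Agent.Lib.Helper28.CeDefs Cfsg.Agent.Lib.Helper28.CeChk
open Cfsg.Agent.Lib.Helper28.CeMat Cfsg.Agent.Lib.Helper28.CeInc
open Cfsg.Agent.Lib.Helper28.HeOrder

/-- the relators of `P` -/
noncomputable abbrev RP : List (List Nat) := CePData.rels

/-- the presented group on four involutions -/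
abbrev P : Type := PG genOf RP

noncomputable abbrev gamP : ℕ → P := fun i => PresentedGroup.of (genOf i)

theorem cardP : Finite P ∧ Nat.card P = 21504 :=
  card_of_trivial genOf idx RP CePData.cert hidx hgi rfl rfl
    CePData.chkR2 CePData.facts_ok CePData.pts_ok CePData.chkG

theorem rel_lt8 : ∀ w ∈ RP, ∀ l ∈ w, l < 8 := by
  intro w hw l hl
  have := allLetters_sound _ _ (allList_sound _ _ rel_lt w hw) l hl
  simpa [Nat.blt] using this

theorem wA_lt (i : ℕ) : ∀ l ∈ wA i, l < 8 := unpack_lt 6 2 4 (by omega) _

theorem wB_lt (i : ℕ) : ∀ l ∈ wB i, l < 8 := unpack_lt 6 2 4 (by omega) _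

theorem wC_lt (i : ℕ) : ∀ l ∈ wC i, l < 14 := unpack_lt 6 3 7 (by omega) _

/-! ### letters of substituted and inverted words -/

theorem flipL_lt (m l : ℕ) (hm : m % 2 = 0) (hl : l < m) : flipL l < m := by
  rcases Nat.mod_two_eq_zero_or_one l with h | h
  · rw [flipL_even l h]; omega
  · rw [flipL_odd l h]; omega

theorem invw_lt (m : ℕ) (hm : m % 2 = 0) (v : List ℕ) (hv : ∀ l ∈ v, l < m) :
    ∀ l ∈ invw v, l < m := by
  induction v with
  | nil => intro l hl; simp [invw] at hl
  | cons a v ih =>
    intro l hl
    simp only [invw, List.mem_append, List.mem_singleton] at hl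
    rcases hl with hl | rfl
    · exact ih (fun l' hl' => hv l' (by simp [hl'])) l hl
    · exact flipL_lt m a hm (hv a (by simp))

theorem getD_lt (L : List (List ℕ)) (m : ℕ) (hL : ∀ v ∈ L, ∀ l ∈ v, l < m) (i : ℕ) :
    ∀ l ∈ L.getD i [], l < m := by
  intro l hl
  by_cases hi : i < L.length
  · rw [List.getD_eq_getElem _ _ hi] at hl
    exact hL _ (List.getElem_mem hi) l hl
  · rw [List.getD_eq_default _ _ (by omega)] at hl
    simp at hl

theorem substL_lt (L : List (List ℕ)) (m : ℕ) (hm : m % 2 = 0) (hL : ∀ v ∈ L, ∀ l ∈ v, l < m)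
    (w : List ℕ) : ∀ l ∈ substL L w, l < m := by
  induction w with
  | nil => intro l hl; simp [substL] at hl
  | cons a w ih =>
    intro l hl
    simp only [substL, List.mem_append] at hl
    rcases hl with hl | hl
    · cases h : Nat.beq (a % 2) 0
      · rw [h] at hl
        exact invw_lt m hm _ (getD_lt L m hL _) l hl
      · rw [h] at hl
        exact getD_lt L m hL _ l hl
    · exact ih l hl

theorem gwL_lt : ∀ v ∈ CeData.gwL, ∀ l ∈ v, l < 14 := by
  intro v hv l hl
  have := allLetters_sound _ _ (allList_sound _ _ gw_letters v hv) l hl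
  simpa [Nat.blt] using this

/-! ### the Held group side -/

/-- the four generators of the centraliser, indexed by numbers -/
noncomputable def gHe : ℕ → G := fun i => evw gamA (CeData.gwL.getD i [])

noncomputable def fα : Gen → G := fun x => gHe x.val

theorem evw_fα (w : List ℕ) (hw : ∀ l ∈ w, l < 8) :
    evw (fun i => fα (genOf i)) w = evw gamA (substL CeData.gwL w) := by
  rw [evw_substL]
  apply evw_congr'
  intro l hl
  show gHe ((genOf (l / 2)).val) = gHe (l / 2)
  congr 1
  show l / 2 % 4 = l / 2
  have := hw l hl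
  exact Nat.mod_eq_of_lt (by omega)

/-- the involution `e` -/
noncomputable def zHe : G := gamA 4

section WithSetup

variable {φ : G →* Equiv.Perm ℕ} (hS : Setup certA H2 gamA φ)

include hS

theorem hα : ∀ w ∈ RP, evw (fun i => fα (genOf i)) w = 1 := by
  intro w hw
  rw [evw_fα w (rel_lt8 w hw)]
  exact Sp44Alpha.word_one hS _ (allList_sound _ _ rel_letters w hw)
    (allList_sound _ _ rel_fix w hw)

/-- the homomorphism from `P` to the Held group -/
noncomputable def α : P →* G := liftP genOf RP fα (hα hS)

theorem α_evw (w : List ℕ) (hw : ∀ l ∈ w, l < 8) :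
    α hS (evw gamP w) = evw gamA (substL CeData.gwL w) := by
  rw [map_evw, ← evw_fα w hw]
  apply evw_congr'
  intro l _
  exact liftP_of genOf RP fα (hα hS) _

/-- equal elements have equal codes -/
theorem code_eq (v1 v2 : List ℕ) (h1 : ∀ l ∈ v1, l < 14) (h2 : ∀ l ∈ v2, l < 14)
    (h : evw gamA v1 = evw gamA v2) : codeHe v1 = codeHe v2 := by
  have hk : certA.k = 7 := rfl
  have hn : certA.n = 2058 := rfl
  have key : ∀ p, p < 2058 → walkT certA p v1 = walkT certA p v2 := by
    intro p hp
    have e1 := PSetup.act_word hS v1 (by rw [hk]; exact h1) p (by rw [hn]; exact hp)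
    have e2 := PSetup.act_word hS v2 (by rw [hk]; exact h2) p (by rw [hn]; exact hp)
    rw [h] at e1
    exact hS.psi_injOn e1.2 e2.2 (e1.1.symm.trans e2.1)
  unfold codeHe
  show ((walkT certA 0 v1 * 4096 + walkT certA 1 v1) * 4096 + walkT certA 28 v1) * 4096 +
    walkT certA 5 v1 = ((walkT certA 0 v2 * 4096 + walkT certA 1 v2) * 4096 + walkT certA 28 v2) * 4096 +
    walkT certA 5 v2
  rw [key 0 (by omega), key 1 (by omega), key 28 (by omega), key 5 (by omega)]

/-- the image of `P` has at least `21504` elements -/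
theorem card_range_ge : 21504 ≤ Nat.card (α hS).range := by
  haveI := cardG_le.1
  have h := card_ge_of_codes ((α hS).range : Set G) (Set.toFinite _)
    (fun i => evw gamA (substL CeData.gwL (wA i))) cA 21504
    (fun i _ => ⟨evw gamP (wA i), α_evw hS (wA i) (wA_lt i)⟩)
    (fun i j _ _ h => code_eq hS _ _ (substL_lt _ 14 (by omega) gwL_lt _)
      (substL_lt _ 14 (by omega) gwL_lt _) h)
    incA_all
  exact h

theorem α_injective : Function.Injective (α hS) := by
  haveI := cardP.1
  have hs : Function.Surjective (α hS).rangeRestrict := (α hS).rangeRestrict_surjective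
  have hle : Nat.card P ≤ Nat.card (α hS).range := by rw [cardP.2]; exact card_range_ge hS
  have hb := hs.bijective_of_nat_card_le hle
  intro a b hab
  apply hb.1
  exact Subtype.ext hab

theorem card_range : Nat.card (α hS).range = 21504 := by
  haveI := cardP.1
  have h1 := card_range_ge hS
  have h2 : Nat.card (α hS).range ≤ Nat.card P :=
    Nat.card_le_card_of_surjective (α hS).rangeRestrict (α hS).rangeRestrict_surjective
  rw [cardP.2] at h2
  omega

/-- the generators commute with the involution -/
theorem comm_gen (x : Gen) : fα x * zHe = zHe * fα x := by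
  have hm : [2 * x.val, 8, 2 * x.val + 1, 9] ∈ commW := by revert x; decide
  have h := Sp44Alpha.word_one hS _ (allList_sound _ _ comm_letters _ hm)
    (allList_sound _ _ comm_fix _ hm)
  rw [evw_substL] at h
  have hx : x.val < 4 := x.isLt
  have e0 : (CeData.gwL ++ [[8]]).getD x.val [] = CeData.gwL.getD x.val [] := by
    have hl : CeData.gwL.length = 4 := rfl
    rw [List.getD_eq_getElem _ _ (by simp [hl]; omega), List.getD_eq_getElem _ _ (by omega)]
    exact List.getElem_append_left (by omega)
  have e4 : (CeData.gwL ++ [[8]]).getD 4 [] = [8] := rfl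
  have a1 : 2 * x.val % 2 = 0 := by omega
  have a2 : 2 * x.val / 2 = x.val := by omega
  have a3 : (2 * x.val + 1) % 2 = 1 := by omega
  have a4 : (2 * x.val + 1) / 2 = x.val := by omega
  have ez : evw gamA [8] = zHe := by simp [evw, letG, zHe]
  simp only [evw, letG, a1, a2, a3, a4, beq_one_zero, e0, e4, ez, Nat.beq_refl, cond_true,
    cond_false, mul_one] at h
  have h8 : Nat.beq (8 % 2) 0 = true := rfl
  have h9 : Nat.beq (9 % 2) 0 = false := rfl
  have d8 : 8 / 2 = 4 := rfl
  have d9 : 9 / 2 = 4 := rfl
  simp only [h8, h9, d8, d9, e4, ez, cond_true, cond_false] at h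
  show gHe x.val * zHe = zHe * gHe x.val
  have h' : gHe x.val * zHe * (gHe x.val)⁻¹ * zHe⁻¹ = 1 := by
    simpa [gHe, mul_assoc] using h
  calc gHe x.val * zHe = (gHe x.val * zHe * (gHe x.val)⁻¹ * zHe⁻¹) * zHe * gHe x.val := by group
    _ = zHe * gHe x.val := by rw [h', one_mul]

theorem range_le : (α hS).range ≤ Subgroup.centralizer ({zHe} : Set G) := by
  unfold α
  rw [liftP_range, Subgroup.closure_le]
  rintro _ ⟨x, rfl⟩
  rw [SetLike.mem_coe, Subgroup.mem_centralizer_singleton_iff]
  exact comm_gen hS x

/-- the conjugacy class of the involution has at least `94000` elements -/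
theorem card_class_ge : 94000 ≤ Nat.card {y : G | IsConj y zHe} := by
  haveI := cardG_le.1
  have ez : evw gamA [8] = zHe := by simp [evw, letG, zHe]
  have hcw : ∀ i, ∀ l ∈ cwC i, l < 14 := by
    intro i l hl
    unfold cwC at hl
    rw [List.mem_append, List.mem_cons] at hl
    rcases hl with hl | rfl | hl
    · exact invw_lt 14 (by omega) _ (wC_lt i) l hl
    · omega
    · exact wC_lt i l hl
  refine card_ge_of_codes {y : G | IsConj y zHe} (Set.toFinite _)
    (fun i => evw gamA (cwC i)) cC 94000 ?_
    (fun i j _ _ h => code_eq hS _ _ (hcw i) (hcw j) h) incC_all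
  intro i _
  show IsConj (evw gamA (cwC i)) zHe
  rw [isConj_iff]
  refine ⟨evw gamA (wC i), ?_⟩
  unfold cwC
  rw [evw_append, evw_invw]
  have : evw gamA (8 :: wC i) = zHe * evw gamA (wC i) := by
    show letG gamA 8 * evw gamA (wC i) = _
    congr 1
  rw [this]
  group

theorem card_cent_le : Nat.card (Subgroup.centralizer ({zHe} : Set G)) ≤ 42876 := by
  haveI := cardG_le.1
  have h := card_centralizer_mul_le zHe 94000 (card_class_ge hS)
  rw [(cardG hS).1] at h
  by_contra hc
  rw [not_le] at hc
  have : 94000 * 42877 ≤ 94000 * Nat.card (Subgroup.centralizer ({zHe} : Set G)) :=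
    Nat.mul_le_mul_left _ hc
  omega

theorem range_eq : (α hS).range = Subgroup.centralizer ({zHe} : Set G) := by
  haveI := cardG_le.1
  have hle := range_le hS
  have hdvd : Nat.card (α hS).range ∣ Nat.card (Subgroup.centralizer ({zHe} : Set G)) :=
    Subgroup.card_dvd_of_le hle
  rw [card_range hS] at hdvd
  obtain ⟨m, hm⟩ := hdvd
  have h2 := card_cent_le hS
  have hpos : 0 < Nat.card (Subgroup.centralizer ({zHe} : Set G)) := Nat.card_pos
  have hm1 : m = 1 := by
    rcases m with _ | _ | m
    · omega
    · rfl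
    · rw [hm] at h2; omega
  rw [hm1, mul_one] at hm
  exact Subgroup.eq_of_le_of_card_ge hle (by rw [hm, card_range hS])

theorem zHe_order : orderOf zHe = 2 := by
  have hk : certA.k = 7 := rfl
  apply orderOf_eq_prime
  · have h := Sp44Alpha.word_one hS [8, 8] (by decide) (by decide +kernel)
    rw [pow_two]
    simpa [evw, letG, zHe] using h
  · intro h
    have h1 := PSetup.act_word hS [8] (by decide) 5 (by decide)
    have e : evw gamA [8] = zHe := by simp [evw, letG, zHe]
    rw [e, h, inv_one, one_smul] at h1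
    have h2 := hS.psi_injOn (by decide) h1.2 h1.1
    have h3 := e_moves
    rw [← h2] at h3
    exact absurd h3 (by decide)

/-- the isomorphism from `P` to the centraliser of the involution -/
noncomputable def equivHe : P ≃* Subgroup.centralizer ({zHe} : Set G) :=
  (MonoidHom.ofInjective (α_injective hS)).trans (MulEquiv.subgroupCongr (range_eq hS))

end WithSetup

/-! ### the matrix side -/

/-- the four matrices, indexed by numbers -/
def gM : ℕ → SL5 := fun i => B (Fin.ofNat 4 i)

theorem hβ : ∀ w ∈ RP, evw (fun i => B (genOf i)) w = 1 := by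
  intro w hw
  have hf := allList_sound _ _ rel_mat w hw
  simp only [Bool.and_eq_true] at hf
  obtain ⟨⟨⟨⟨h1, h2⟩, h4⟩, h8⟩, h16⟩ := hf
  apply CeMat.word_one gM (fun _ => rfl) w (rel_lt8 w hw)
  intro s
  fin_cases s
  · exact Nat.eq_of_beq_eq_true h1
  · exact Nat.eq_of_beq_eq_true h2
  · exact Nat.eq_of_beq_eq_true h4
  · exact Nat.eq_of_beq_eq_true h8
  · exact Nat.eq_of_beq_eq_true h16

/-- the homomorphism from `P` to the special linear group -/
noncomputable def β : P →* SL5 := liftP genOf RP B hβ

theorem β_evw (w : List ℕ) : β (evw gamP w) = evw gM w := by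
  rw [map_evw]
  apply evw_congr'
  intro l _
  exact liftP_of genOf RP B hβ _

theorem card_rangeβ_ge : 21504 ≤ Nat.card β.range := by
  have h := card_ge_of_codes (β.range : Set SL5) (Set.toFinite _)
    (fun i => evw gM (wB i)) cB 21504
    (fun i _ => ⟨evw gamP (wB i), β_evw (wB i)⟩)
    (fun i j _ _ h => codeM_eq_of_evw_eq gM (fun _ => rfl) _ _ (wB_lt i) (wB_lt j) h)
    incB_all
  exact h

theorem β_injective : Function.Injective β := by
  haveI := cardP.1
  have hs : Function.Surjective β.rangeRestrict := β.rangeRestrict_surjective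
  have hle : Nat.card P ≤ Nat.card β.range := by rw [cardP.2]; exact card_rangeβ_ge
  have hb := hs.bijective_of_nat_card_le hle
  intro a b hab
  apply hb.1
  exact Subtype.ext hab

theorem rangeβ_le (s : SL5) (hs : (s : M5) = Matrix.transvection 0 1 1) :
    β.range ≤ Subgroup.centralizer ({s} : Set SL5) := by
  unfold β
  rw [liftP_range, Subgroup.closure_le]
  rintro _ ⟨x, rfl⟩
  rw [SetLike.mem_coe, Subgroup.mem_centralizer_singleton_iff]
  apply Subtype.ext
  rw [Matrix.SpecialLinearGroup.coe_mul, Matrix.SpecialLinearGroup.coe_mul, hs]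
  exact Bmat_comm x

theorem rangeβ_eq (s : SL5) (hs : (s : M5) = Matrix.transvection 0 1 1) :
    β.range = Subgroup.centralizer ({s} : Set SL5) := by
  have hle := rangeβ_le s hs
  apply Subgroup.eq_of_le_of_card_ge hle
  have h1 := Cfsg.Agent.Lib.Helper93.CentSL5.card_centralizer_le (s := s) hs
  exact le_trans h1 card_rangeβ_ge

/-- the isomorphism from `P` to the centraliser of the transvection -/
noncomputable def equivM (s : SL5) (hs : (s : M5) = Matrix.transvection 0 1 1) :
    P ≃* Subgroup.centralizer ({s} : Set SL5) :=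
  (MonoidHom.ofInjective β_injective).trans (MulEquiv.subgroupCongr (rangeβ_eq s hs))

end Cfsg.Agent.Lib.Helper28.CeMain
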