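import Cfsg.Agent.Lib.Helper28.Fi22aData
import Cfsg.Agent.Lib.Helper28.TCSound

set_option autoImplicit false
set_option maxRecDepth 1000000
set_option linter.all false
set_option Elab.async false

namespace Cfsg.Agent.Lib.Helper28.Fi22aData

open Cfsg.Agent.Lib.Helper28

theorem chkF_2000 : allRange (checkFact cert) 2000 2000 = true := by decide +kernel
theorem chkF_8000 : allRange (checkFact cert) 8000 2000 = true := by decide +kernel
theorem chkF_14000 : allRange (checkFact cert) 14000 2000 = true := by decide +kernel
theorem chkF_20000 : allRange (checkFact cert) 20000 2000 = true := by decide +kernel
theorem chkF_26000 : allRange (checkFact cert) 26000 2000 = true := by decide +kernel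
theorem chkP_0 : allRange (fun p => checkPoint cert p && checkOrb cert p) 0 100 = true := by decide +kernel
theorem chkP_300 : allRange (fun p => checkPoint cert p && checkOrb cert p) 300 100 = true := by decide +kernel
theorem chkP_600 : allRange (fun p => checkPoint cert p && checkOrb cert p) 600 100 = true := by decide +kernel
theorem chkP_900 : allRange (fun p => checkPoint cert p && checkOrb cert p) 900 100 = true := by decide +kernel
theorem chkP_1200 : allRange (fun p => checkPoint cert p && checkOrb cert p) 1200 100 = true := by decide +kernel
theorem chkP_1500 : allRange (fun p => checkPoint cert p && checkOrb cert p) 1500 100 = true := by decide +kernel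
theorem chkP_1800 : allRange (fun p => checkPoint cert p && checkOrb cert p) 1800 100 = true := by decide +kernel
theorem chkP_2100 : allRange (fun p => checkPoint cert p && checkOrb cert p) 2100 100 = true := by decide +kernel
theorem chkP_2400 : allRange (fun p => checkPoint cert p && checkOrb cert p) 2400 100 = true := by decide +kernel
theorem chkP_2700 : allRange (fun p => checkPoint cert p && checkOrb cert p) 2700 100 = true := by decide +kernel
theorem chkP_3000 : allRange (fun p => checkPoint cert p && checkOrb cert p) 3000 100 = true := by decide +kernel
theorem chkP_3300 : allRange (fun p => checkPoint cert p && checkOrb cert p) 3300 100 = true := by decide +kernel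

end Cfsg.Agent.Lib.Helper28.Fi22aData
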