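import Cfsg.Agent.Lib.Helper28.Fi22aData
import Cfsg.Agent.Lib.Helper28.TCSound

set_option autoImplicit false
set_option maxRecDepth 1000000
set_option linter.all false
set_option Elab.async false

namespace Cfsg.Agent.Lib.Helper28.Fi22aData

open Cfsg.Agent.Lib.Helper28

theorem chkF_0 : allRange (checkFact cert) 0 2000 = true := by decide +kernel
theorem chkF_6000 : allRange (checkFact cert) 6000 2000 = true := by decide +kernel
theorem chkF_12000 : allRange (checkFact cert) 12000 2000 = true := by decide +kernel
theorem chkF_18000 : allRange (checkFact cert) 18000 2000 = true := by decide +kernel
theorem chkF_24000 : allRange (checkFact cert) 24000 2000 = true := by decide +kernel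
theorem chkF_30000 : allRange (checkFact cert) 30000 1726 = true := by decide +kernel
theorem chkP_200 : allRange (fun p => checkPoint cert p && checkOrb cert p) 200 100 = true := by decide +kernel
theorem chkP_500 : allRange (fun p => checkPoint cert p && checkOrb cert p) 500 100 = true := by decide +kernel
theorem chkP_800 : allRange (fun p => checkPoint cert p && checkOrb cert p) 800 100 = true := by decide +kernel
theorem chkP_1100 : allRange (fun p => checkPoint cert p && checkOrb cert p) 1100 100 = true := by decide +kernel
theorem chkP_1400 : allRange (fun p => checkPoint cert p && checkOrb cert p) 1400 100 = true := by decide +kernel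
theorem chkP_1700 : allRange (fun p => checkPoint cert p && checkOrb cert p) 1700 100 = true := by decide +kernel
theorem chkP_2000 : allRange (fun p => checkPoint cert p && checkOrb cert p) 2000 100 = true := by decide +kernel
theorem chkP_2300 : allRange (fun p => checkPoint cert p && checkOrb cert p) 2300 100 = true := by decide +kernel
theorem chkP_2600 : allRange (fun p => checkPoint cert p && checkOrb cert p) 2600 100 = true := by decide +kernel
theorem chkP_2900 : allRange (fun p => checkPoint cert p && checkOrb cert p) 2900 100 = true := by decide +kernel
theorem chkP_3200 : allRange (fun p => checkPoint cert p && checkOrb cert p) 3200 100 = true := by decide +kernel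
theorem chkP_3500 : allRange (fun p => checkPoint cert p && checkOrb cert p) 3500 10 = true := by decide +kernel

end Cfsg.Agent.Lib.Helper28.Fi22aData
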