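import Cfsg.Agent.Lib.Helper28.Fi22bData
import Cfsg.Agent.Lib.Helper28.TCSound

set_option autoImplicit false
set_option maxRecDepth 1000000
set_option linter.all false
set_option Elab.async false

namespace Cfsg.Agent.Lib.Helper28.Fi22bData

open Cfsg.Agent.Lib.Helper28

theorem chkF_2000 : allRange (checkFact cert) 2000 2000 = true := by decide +kernel
theorem chkF_10000 : allRange (checkFact cert) 10000 2000 = true := by decide +kernel
theorem chkF_18000 : allRange (checkFact cert) 18000 2000 = true := by decide +kernel
theorem chkF_26000 : allRange (checkFact cert) 26000 2000 = true := by decide +kernel
theorem chkF_34000 : allRange (checkFact cert) 34000 2000 = true := by decide +kernel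
theorem chkF_42000 : allRange (checkFact cert) 42000 2000 = true := by decide +kernel
theorem chkF_50000 : allRange (checkFact cert) 50000 2000 = true := by decide +kernel
theorem chkF_58000 : allRange (checkFact cert) 58000 2000 = true := by decide +kernel
theorem chkF_66000 : allRange (checkFact cert) 66000 2000 = true := by decide +kernel
theorem chkF_74000 : allRange (checkFact cert) 74000 2000 = true := by decide +kernel
theorem chkF_82000 : allRange (checkFact cert) 82000 2000 = true := by decide +kernel
theorem chkF_90000 : allRange (checkFact cert) 90000 2000 = true := by decide +kernel
theorem chkF_98000 : allRange (checkFact cert) 98000 2000 = true := by decide +kernel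
theorem chkF_106000 : allRange (checkFact cert) 106000 2000 = true := by decide +kernel
theorem chkF_114000 : allRange (checkFact cert) 114000 2000 = true := by decide +kernel
theorem chkF_122000 : allRange (checkFact cert) 122000 2000 = true := by decide +kernel
theorem chkF_130000 : allRange (checkFact cert) 130000 2000 = true := by decide +kernel
theorem chkP_100 : allRange (fun p => checkPoint cert p && checkOrb cert p) 100 100 = true := by decide +kernel
theorem chkP_500 : allRange (fun p => checkPoint cert p && checkOrb cert p) 500 100 = true := by decide +kernel
theorem chkP_900 : allRange (fun p => checkPoint cert p && checkOrb cert p) 900 100 = true := by decide +kernel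
theorem chkP_1300 : allRange (fun p => checkPoint cert p && checkOrb cert p) 1300 100 = true := by decide +kernel
theorem chkP_1700 : allRange (fun p => checkPoint cert p && checkOrb cert p) 1700 100 = true := by decide +kernel
theorem chkP_2100 : allRange (fun p => checkPoint cert p && checkOrb cert p) 2100 100 = true := by decide +kernel
theorem chkP_2500 : allRange (fun p => checkPoint cert p && checkOrb cert p) 2500 100 = true := by decide +kernel
theorem chkP_2900 : allRange (fun p => checkPoint cert p && checkOrb cert p) 2900 100 = true := by decide +kernel
theorem chkP_3300 : allRange (fun p => checkPoint cert p && checkOrb cert p) 3300 100 = true := by decide +kernel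
theorem chkP_3700 : allRange (fun p => checkPoint cert p && checkOrb cert p) 3700 100 = true := by decide +kernel
theorem chkP_4100 : allRange (fun p => checkPoint cert p && checkOrb cert p) 4100 100 = true := by decide +kernel
theorem chkP_4500 : allRange (fun p => checkPoint cert p && checkOrb cert p) 4500 100 = true := by decide +kernel
theorem chkP_4900 : allRange (fun p => checkPoint cert p && checkOrb cert p) 4900 100 = true := by decide +kernel
theorem chkP_5300 : allRange (fun p => checkPoint cert p && checkOrb cert p) 5300 100 = true := by decide +kernel
theorem chkP_5700 : allRange (fun p => checkPoint cert p && checkOrb cert p) 5700 100 = true := by decide +kernel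
theorem chkP_6100 : allRange (fun p => checkPoint cert p && checkOrb cert p) 6100 100 = true := by decide +kernel
theorem chkP_6500 : allRange (fun p => checkPoint cert p && checkOrb cert p) 6500 100 = true := by decide +kernel
theorem chkP_6900 : allRange (fun p => checkPoint cert p && checkOrb cert p) 6900 100 = true := by decide +kernel
theorem chkP_7300 : allRange (fun p => checkPoint cert p && checkOrb cert p) 7300 100 = true := by decide +kernel
theorem chkP_7700 : allRange (fun p => checkPoint cert p && checkOrb cert p) 7700 100 = true := by decide +kernel
theorem chkP_8100 : allRange (fun p => checkPoint cert p && checkOrb cert p) 8100 100 = true := by decide +kernel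
theorem chkP_8500 : allRange (fun p => checkPoint cert p && checkOrb cert p) 8500 100 = true := by decide +kernel
theorem chkP_8900 : allRange (fun p => checkPoint cert p && checkOrb cert p) 8900 100 = true := by decide +kernel
theorem chkP_9300 : allRange (fun p => checkPoint cert p && checkOrb cert p) 9300 100 = true := by decide +kernel
theorem chkP_9700 : allRange (fun p => checkPoint cert p && checkOrb cert p) 9700 100 = true := by decide +kernel
theorem chkP_10100 : allRange (fun p => checkPoint cert p && checkOrb cert p) 10100 100 = true := by decide +kernel
theorem chkP_10500 : allRange (fun p => checkPoint cert p && checkOrb cert p) 10500 100 = true := by decide +kernel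
theorem chkP_10900 : allRange (fun p => checkPoint cert p && checkOrb cert p) 10900 100 = true := by decide +kernel
theorem chkP_11300 : allRange (fun p => checkPoint cert p && checkOrb cert p) 11300 100 = true := by decide +kernel
theorem chkP_11700 : allRange (fun p => checkPoint cert p && checkOrb cert p) 11700 100 = true := by decide +kernel
theorem chkP_12100 : allRange (fun p => checkPoint cert p && checkOrb cert p) 12100 100 = true := by decide +kernel
theorem chkP_12500 : allRange (fun p => checkPoint cert p && checkOrb cert p) 12500 100 = true := by decide +kernel
theorem chkP_12900 : allRange (fun p => checkPoint cert p && checkOrb cert p) 12900 100 = true := by decide +kernel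
theorem chkP_13300 : allRange (fun p => checkPoint cert p && checkOrb cert p) 13300 100 = true := by decide +kernel
theorem chkP_13700 : allRange (fun p => checkPoint cert p && checkOrb cert p) 13700 100 = true := by decide +kernel

end Cfsg.Agent.Lib.Helper28.Fi22bData
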