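import Cfsg.Agent.Lib.Helper28.Fi22bData
import Cfsg.Agent.Lib.Helper28.TCSound

set_option autoImplicit false
set_option maxRecDepth 1000000
set_option linter.all false
set_option Elab.async false

namespace Cfsg.Agent.Lib.Helper28.Fi22bData

open Cfsg.Agent.Lib.Helper28

theorem chkF_4000 : allRange (checkFact cert) 4000 2000 = true := by decide +kernel
theorem chkF_12000 : allRange (checkFact cert) 12000 2000 = true := by decide +kernel
theorem chkF_20000 : allRange (checkFact cert) 20000 2000 = true := by decide +kernel
theorem chkF_28000 : allRange (checkFact cert) 28000 2000 = true := by decide +kernel
theorem chkF_36000 : allRange (checkFact cert) 36000 2000 = true := by decide +kernel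
theorem chkF_44000 : allRange (checkFact cert) 44000 2000 = true := by decide +kernel
theorem chkF_52000 : allRange (checkFact cert) 52000 2000 = true := by decide +kernel
theorem chkF_60000 : allRange (checkFact cert) 60000 2000 = true := by decide +kernel
theorem chkF_68000 : allRange (checkFact cert) 68000 2000 = true := by decide +kernel
theorem chkF_76000 : allRange (checkFact cert) 76000 2000 = true := by decide +kernel
theorem chkF_84000 : allRange (checkFact cert) 84000 2000 = true := by decide +kernel
theorem chkF_92000 : allRange (checkFact cert) 92000 2000 = true := by decide +kernel
theorem chkF_100000 : allRange (checkFact cert) 100000 2000 = true := by decide +kernel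
theorem chkF_108000 : allRange (checkFact cert) 108000 2000 = true := by decide +kernel
theorem chkF_116000 : allRange (checkFact cert) 116000 2000 = true := by decide +kernel
theorem chkF_124000 : allRange (checkFact cert) 124000 2000 = true := by decide +kernel
theorem chkF_132000 : allRange (checkFact cert) 132000 2000 = true := by decide +kernel
theorem chkP_200 : allRange (fun p => checkPoint cert p && checkOrb cert p) 200 100 = true := by decide +kernel
theorem chkP_600 : allRange (fun p => checkPoint cert p && checkOrb cert p) 600 100 = true := by decide +kernel
theorem chkP_1000 : allRange (fun p => checkPoint cert p && checkOrb cert p) 1000 100 = true := by decide +kernel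
theorem chkP_1400 : allRange (fun p => checkPoint cert p && checkOrb cert p) 1400 100 = true := by decide +kernel
theorem chkP_1800 : allRange (fun p => checkPoint cert p && checkOrb cert p) 1800 100 = true := by decide +kernel
theorem chkP_2200 : allRange (fun p => checkPoint cert p && checkOrb cert p) 2200 100 = true := by decide +kernel
theorem chkP_2600 : allRange (fun p => checkPoint cert p && checkOrb cert p) 2600 100 = true := by decide +kernel
theorem chkP_3000 : allRange (fun p => checkPoint cert p && checkOrb cert p) 3000 100 = true := by decide +kernel
theorem chkP_3400 : allRange (fun p => checkPoint cert p && checkOrb cert p) 3400 100 = true := by decide +kernel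
theorem chkP_3800 : allRange (fun p => checkPoint cert p && checkOrb cert p) 3800 100 = true := by decide +kernel
theorem chkP_4200 : allRange (fun p => checkPoint cert p && checkOrb cert p) 4200 100 = true := by decide +kernel
theorem chkP_4600 : allRange (fun p => checkPoint cert p && checkOrb cert p) 4600 100 = true := by decide +kernel
theorem chkP_5000 : allRange (fun p => checkPoint cert p && checkOrb cert p) 5000 100 = true := by decide +kernel
theorem chkP_5400 : allRange (fun p => checkPoint cert p && checkOrb cert p) 5400 100 = true := by decide +kernel
theorem chkP_5800 : allRange (fun p => checkPoint cert p && checkOrb cert p) 5800 100 = true := by decide +kernel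
theorem chkP_6200 : allRange (fun p => checkPoint cert p && checkOrb cert p) 6200 100 = true := by decide +kernel
theorem chkP_6600 : allRange (fun p => checkPoint cert p && checkOrb cert p) 6600 100 = true := by decide +kernel
theorem chkP_7000 : allRange (fun p => checkPoint cert p && checkOrb cert p) 7000 100 = true := by decide +kernel
theorem chkP_7400 : allRange (fun p => checkPoint cert p && checkOrb cert p) 7400 100 = true := by decide +kernel
theorem chkP_7800 : allRange (fun p => checkPoint cert p && checkOrb cert p) 7800 100 = true := by decide +kernel
theorem chkP_8200 : allRange (fun p => checkPoint cert p && checkOrb cert p) 8200 100 = true := by decide +kernel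
theorem chkP_8600 : allRange (fun p => checkPoint cert p && checkOrb cert p) 8600 100 = true := by decide +kernel
theorem chkP_9000 : allRange (fun p => checkPoint cert p && checkOrb cert p) 9000 100 = true := by decide +kernel
theorem chkP_9400 : allRange (fun p => checkPoint cert p && checkOrb cert p) 9400 100 = true := by decide +kernel
theorem chkP_9800 : allRange (fun p => checkPoint cert p && checkOrb cert p) 9800 100 = true := by decide +kernel
theorem chkP_10200 : allRange (fun p => checkPoint cert p && checkOrb cert p) 10200 100 = true := by decide +kernel
theorem chkP_10600 : allRange (fun p => checkPoint cert p && checkOrb cert p) 10600 100 = true := by decide +kernel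
theorem chkP_11000 : allRange (fun p => checkPoint cert p && checkOrb cert p) 11000 100 = true := by decide +kernel
theorem chkP_11400 : allRange (fun p => checkPoint cert p && checkOrb cert p) 11400 100 = true := by decide +kernel
theorem chkP_11800 : allRange (fun p => checkPoint cert p && checkOrb cert p) 11800 100 = true := by decide +kernel
theorem chkP_12200 : allRange (fun p => checkPoint cert p && checkOrb cert p) 12200 100 = true := by decide +kernel
theorem chkP_12600 : allRange (fun p => checkPoint cert p && checkOrb cert p) 12600 100 = true := by decide +kernel
theorem chkP_13000 : allRange (fun p => checkPoint cert p && checkOrb cert p) 13000 100 = true := by decide +kernel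
theorem chkP_13400 : allRange (fun p => checkPoint cert p && checkOrb cert p) 13400 100 = true := by decide +kernel
theorem chkP_13800 : allRange (fun p => checkPoint cert p && checkOrb cert p) 13800 100 = true := by decide +kernel

end Cfsg.Agent.Lib.Helper28.Fi22bData
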