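import Cfsg.Agent.Lib.Helper28.Fi22bData
import Cfsg.Agent.Lib.Helper28.TCSound

set_option autoImplicit false
set_option maxRecDepth 1000000
set_option linter.all false
set_option Elab.async false

namespace Cfsg.Agent.Lib.Helper28.Fi22bData

open Cfsg.Agent.Lib.Helper28

theorem chkF_6000 : allRange (checkFact cert) 6000 2000 = true := by decide +kernel
theorem chkF_14000 : allRange (checkFact cert) 14000 2000 = true := by decide +kernel
theorem chkF_22000 : allRange (checkFact cert) 22000 2000 = true := by decide +kernel
theorem chkF_30000 : allRange (checkFact cert) 30000 2000 = true := by decide +kernel
theorem chkF_38000 : allRange (checkFact cert) 38000 2000 = true := by decide +kernel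
theorem chkF_46000 : allRange (checkFact cert) 46000 2000 = true := by decide +kernel
theorem chkF_54000 : allRange (checkFact cert) 54000 2000 = true := by decide +kernel
theorem chkF_62000 : allRange (checkFact cert) 62000 2000 = true := by decide +kernel
theorem chkF_70000 : allRange (checkFact cert) 70000 2000 = true := by decide +kernel
theorem chkF_78000 : allRange (checkFact cert) 78000 2000 = true := by decide +kernel
theorem chkF_86000 : allRange (checkFact cert) 86000 2000 = true := by decide +kernel
theorem chkF_94000 : allRange (checkFact cert) 94000 2000 = true := by decide +kernel
theorem chkF_102000 : allRange (checkFact cert) 102000 2000 = true := by decide +kernel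
theorem chkF_110000 : allRange (checkFact cert) 110000 2000 = true := by decide +kernel
theorem chkF_118000 : allRange (checkFact cert) 118000 2000 = true := by decide +kernel
theorem chkF_126000 : allRange (checkFact cert) 126000 2000 = true := by decide +kernel
theorem chkF_134000 : allRange (checkFact cert) 134000 1601 = true := by decide +kernel
theorem chkP_300 : allRange (fun p => checkPoint cert p && checkOrb cert p) 300 100 = true := by decide +kernel
theorem chkP_700 : allRange (fun p => checkPoint cert p && checkOrb cert p) 700 100 = true := by decide +kernel
theorem chkP_1100 : allRange (fun p => checkPoint cert p && checkOrb cert p) 1100 100 = true := by decide +kernel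
theorem chkP_1500 : allRange (fun p => checkPoint cert p && checkOrb cert p) 1500 100 = true := by decide +kernel
theorem chkP_1900 : allRange (fun p => checkPoint cert p && checkOrb cert p) 1900 100 = true := by decide +kernel
theorem chkP_2300 : allRange (fun p => checkPoint cert p && checkOrb cert p) 2300 100 = true := by decide +kernel
theorem chkP_2700 : allRange (fun p => checkPoint cert p && checkOrb cert p) 2700 100 = true := by decide +kernel
theorem chkP_3100 : allRange (fun p => checkPoint cert p && checkOrb cert p) 3100 100 = true := by decide +kernel
theorem chkP_3500 : allRange (fun p => checkPoint cert p && checkOrb cert p) 3500 100 = true := by decide +kernel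
theorem chkP_3900 : allRange (fun p => checkPoint cert p && checkOrb cert p) 3900 100 = true := by decide +kernel
theorem chkP_4300 : allRange (fun p => checkPoint cert p && checkOrb cert p) 4300 100 = true := by decide +kernel
theorem chkP_4700 : allRange (fun p => checkPoint cert p && checkOrb cert p) 4700 100 = true := by decide +kernel
theorem chkP_5100 : allRange (fun p => checkPoint cert p && checkOrb cert p) 5100 100 = true := by decide +kernel
theorem chkP_5500 : allRange (fun p => checkPoint cert p && checkOrb cert p) 5500 100 = true := by decide +kernel
theorem chkP_5900 : allRange (fun p => checkPoint cert p && checkOrb cert p) 5900 100 = true := by decide +kernel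
theorem chkP_6300 : allRange (fun p => checkPoint cert p && checkOrb cert p) 6300 100 = true := by decide +kernel
theorem chkP_6700 : allRange (fun p => checkPoint cert p && checkOrb cert p) 6700 100 = true := by decide +kernel
theorem chkP_7100 : allRange (fun p => checkPoint cert p && checkOrb cert p) 7100 100 = true := by decide +kernel
theorem chkP_7500 : allRange (fun p => checkPoint cert p && checkOrb cert p) 7500 100 = true := by decide +kernel
theorem chkP_7900 : allRange (fun p => checkPoint cert p && checkOrb cert p) 7900 100 = true := by decide +kernel
theorem chkP_8300 : allRange (fun p => checkPoint cert p && checkOrb cert p) 8300 100 = true := by decide +kernel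
theorem chkP_8700 : allRange (fun p => checkPoint cert p && checkOrb cert p) 8700 100 = true := by decide +kernel
theorem chkP_9100 : allRange (fun p => checkPoint cert p && checkOrb cert p) 9100 100 = true := by decide +kernel
theorem chkP_9500 : allRange (fun p => checkPoint cert p && checkOrb cert p) 9500 100 = true := by decide +kernel
theorem chkP_9900 : allRange (fun p => checkPoint cert p && checkOrb cert p) 9900 100 = true := by decide +kernel
theorem chkP_10300 : allRange (fun p => checkPoint cert p && checkOrb cert p) 10300 100 = true := by decide +kernel
theorem chkP_10700 : allRange (fun p => checkPoint cert p && checkOrb cert p) 10700 100 = true := by decide +kernel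
theorem chkP_11100 : allRange (fun p => checkPoint cert p && checkOrb cert p) 11100 100 = true := by decide +kernel
theorem chkP_11500 : allRange (fun p => checkPoint cert p && checkOrb cert p) 11500 100 = true := by decide +kernel
theorem chkP_11900 : allRange (fun p => checkPoint cert p && checkOrb cert p) 11900 100 = true := by decide +kernel
theorem chkP_12300 : allRange (fun p => checkPoint cert p && checkOrb cert p) 12300 100 = true := by decide +kernel
theorem chkP_12700 : allRange (fun p => checkPoint cert p && checkOrb cert p) 12700 100 = true := by decide +kernel
theorem chkP_13100 : allRange (fun p => checkPoint cert p && checkOrb cert p) 13100 100 = true := by decide +kernel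
theorem chkP_13500 : allRange (fun p => checkPoint cert p && checkOrb cert p) 13500 100 = true := by decide +kernel
theorem chkP_13900 : allRange (fun p => checkPoint cert p && checkOrb cert p) 13900 100 = true := by decide +kernel

end Cfsg.Agent.Lib.Helper28.Fi22bData
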