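import Cfsg.Agent.Lib.Helper28.Fi22bData
import Cfsg.Agent.Lib.Helper28.TCSound

set_option autoImplicit false
set_option maxRecDepth 1000000
set_option linter.all false
set_option Elab.async false

namespace Cfsg.Agent.Lib.Helper28.Fi22bData

open Cfsg.Agent.Lib.Helper28

theorem chkF_0 : allRange (checkFact cert) 0 2000 = true := by decide +kernel
theorem chkF_8000 : allRange (checkFact cert) 8000 2000 = true := by decide +kernel
theorem chkF_16000 : allRange (checkFact cert) 16000 2000 = true := by decide +kernel
theorem chkF_24000 : allRange (checkFact cert) 24000 2000 = true := by decide +kernel
theorem chkF_32000 : allRange (checkFact cert) 32000 2000 = true := by decide +kernel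
theorem chkF_40000 : allRange (checkFact cert) 40000 2000 = true := by decide +kernel
theorem chkF_48000 : allRange (checkFact cert) 48000 2000 = true := by decide +kernel
theorem chkF_56000 : allRange (checkFact cert) 56000 2000 = true := by decide +kernel
theorem chkF_64000 : allRange (checkFact cert) 64000 2000 = true := by decide +kernel
theorem chkF_72000 : allRange (checkFact cert) 72000 2000 = true := by decide +kernel
theorem chkF_80000 : allRange (checkFact cert) 80000 2000 = true := by decide +kernel
theorem chkF_88000 : allRange (checkFact cert) 88000 2000 = true := by decide +kernel
theorem chkF_96000 : allRange (checkFact cert) 96000 2000 = true := by decide +kernel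
theorem chkF_104000 : allRange (checkFact cert) 104000 2000 = true := by decide +kernel
theorem chkF_112000 : allRange (checkFact cert) 112000 2000 = true := by decide +kernel
theorem chkF_120000 : allRange (checkFact cert) 120000 2000 = true := by decide +kernel
theorem chkF_128000 : allRange (checkFact cert) 128000 2000 = true := by decide +kernel
theorem chkP_0 : allRange (fun p => checkPoint cert p && checkOrb cert p) 0 100 = true := by decide +kernel
theorem chkP_400 : allRange (fun p => checkPoint cert p && checkOrb cert p) 400 100 = true := by decide +kernel
theorem chkP_800 : allRange (fun p => checkPoint cert p && checkOrb cert p) 800 100 = true := by decide +kernel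
theorem chkP_1200 : allRange (fun p => checkPoint cert p && checkOrb cert p) 1200 100 = true := by decide +kernel
theorem chkP_1600 : allRange (fun p => checkPoint cert p && checkOrb cert p) 1600 100 = true := by decide +kernel
theorem chkP_2000 : allRange (fun p => checkPoint cert p && checkOrb cert p) 2000 100 = true := by decide +kernel
theorem chkP_2400 : allRange (fun p => checkPoint cert p && checkOrb cert p) 2400 100 = true := by decide +kernel
theorem chkP_2800 : allRange (fun p => checkPoint cert p && checkOrb cert p) 2800 100 = true := by decide +kernel
theorem chkP_3200 : allRange (fun p => checkPoint cert p && checkOrb cert p) 3200 100 = true := by decide +kernel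
theorem chkP_3600 : allRange (fun p => checkPoint cert p && checkOrb cert p) 3600 100 = true := by decide +kernel
theorem chkP_4000 : allRange (fun p => checkPoint cert p && checkOrb cert p) 4000 100 = true := by decide +kernel
theorem chkP_4400 : allRange (fun p => checkPoint cert p && checkOrb cert p) 4400 100 = true := by decide +kernel
theorem chkP_4800 : allRange (fun p => checkPoint cert p && checkOrb cert p) 4800 100 = true := by decide +kernel
theorem chkP_5200 : allRange (fun p => checkPoint cert p && checkOrb cert p) 5200 100 = true := by decide +kernel
theorem chkP_5600 : allRange (fun p => checkPoint cert p && checkOrb cert p) 5600 100 = true := by decide +kernel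
theorem chkP_6000 : allRange (fun p => checkPoint cert p && checkOrb cert p) 6000 100 = true := by decide +kernel
theorem chkP_6400 : allRange (fun p => checkPoint cert p && checkOrb cert p) 6400 100 = true := by decide +kernel
theorem chkP_6800 : allRange (fun p => checkPoint cert p && checkOrb cert p) 6800 100 = true := by decide +kernel
theorem chkP_7200 : allRange (fun p => checkPoint cert p && checkOrb cert p) 7200 100 = true := by decide +kernel
theorem chkP_7600 : allRange (fun p => checkPoint cert p && checkOrb cert p) 7600 100 = true := by decide +kernel
theorem chkP_8000 : allRange (fun p => checkPoint cert p && checkOrb cert p) 8000 100 = true := by decide +kernel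
theorem chkP_8400 : allRange (fun p => checkPoint cert p && checkOrb cert p) 8400 100 = true := by decide +kernel
theorem chkP_8800 : allRange (fun p => checkPoint cert p && checkOrb cert p) 8800 100 = true := by decide +kernel
theorem chkP_9200 : allRange (fun p => checkPoint cert p && checkOrb cert p) 9200 100 = true := by decide +kernel
theorem chkP_9600 : allRange (fun p => checkPoint cert p && checkOrb cert p) 9600 100 = true := by decide +kernel
theorem chkP_10000 : allRange (fun p => checkPoint cert p && checkOrb cert p) 10000 100 = true := by decide +kernel
theorem chkP_10400 : allRange (fun p => checkPoint cert p && checkOrb cert p) 10400 100 = true := by decide +kernel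
theorem chkP_10800 : allRange (fun p => checkPoint cert p && checkOrb cert p) 10800 100 = true := by decide +kernel
theorem chkP_11200 : allRange (fun p => checkPoint cert p && checkOrb cert p) 11200 100 = true := by decide +kernel
theorem chkP_11600 : allRange (fun p => checkPoint cert p && checkOrb cert p) 11600 100 = true := by decide +kernel
theorem chkP_12000 : allRange (fun p => checkPoint cert p && checkOrb cert p) 12000 100 = true := by decide +kernel
theorem chkP_12400 : allRange (fun p => checkPoint cert p && checkOrb cert p) 12400 100 = true := by decide +kernel
theorem chkP_12800 : allRange (fun p => checkPoint cert p && checkOrb cert p) 12800 100 = true := by decide +kernel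
theorem chkP_13200 : allRange (fun p => checkPoint cert p && checkOrb cert p) 13200 100 = true := by decide +kernel
theorem chkP_13600 : allRange (fun p => checkPoint cert p && checkOrb cert p) 13600 100 = true := by decide +kernel
theorem chkP_14000 : allRange (fun p => checkPoint cert p && checkOrb cert p) 14000 80 = true := by decide +kernel

end Cfsg.Agent.Lib.Helper28.Fi22bData
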