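import Cfsg.Agent.Lib.Helper28.Fi23Data
import Cfsg.Agent.Lib.Helper28.TCSound

set_option autoImplicit false
set_option maxRecDepth 1000000
set_option linter.all false
set_option Elab.async false

namespace Cfsg.Agent.Lib.Helper28.Fi23Data

open Cfsg.Agent.Lib.Helper28

theorem chkF_2000 : allRange (checkFact cert) 2000 2000 = true := by decide +kernel
theorem chkF_22000 : allRange (checkFact cert) 22000 2000 = true := by decide +kernel
theorem chkF_42000 : allRange (checkFact cert) 42000 2000 = true := by decide +kernel
theorem chkF_62000 : allRange (checkFact cert) 62000 2000 = true := by decide +kernel
theorem chkF_82000 : allRange (checkFact cert) 82000 2000 = true := by decide +kernel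
theorem chkF_102000 : allRange (checkFact cert) 102000 2000 = true := by decide +kernel
theorem chkF_122000 : allRange (checkFact cert) 122000 2000 = true := by decide +kernel
theorem chkF_142000 : allRange (checkFact cert) 142000 2000 = true := by decide +kernel
theorem chkF_162000 : allRange (checkFact cert) 162000 2000 = true := by decide +kernel
theorem chkF_182000 : allRange (checkFact cert) 182000 2000 = true := by decide +kernel
theorem chkF_202000 : allRange (checkFact cert) 202000 2000 = true := by decide +kernel
theorem chkF_222000 : allRange (checkFact cert) 222000 2000 = true := by decide +kernel
theorem chkF_242000 : allRange (checkFact cert) 242000 2000 = true := by decide +kernel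
theorem chkF_262000 : allRange (checkFact cert) 262000 2000 = true := by decide +kernel
theorem chkF_282000 : allRange (checkFact cert) 282000 2000 = true := by decide +kernel
theorem chkF_302000 : allRange (checkFact cert) 302000 2000 = true := by decide +kernel
theorem chkF_322000 : allRange (checkFact cert) 322000 2000 = true := by decide +kernel
theorem chkF_342000 : allRange (checkFact cert) 342000 2000 = true := by decide +kernel
theorem chkF_362000 : allRange (checkFact cert) 362000 2000 = true := by decide +kernel
theorem chkP_300 : allRange (fun p => checkPoint cert p && checkOrb cert p) 300 100 = true := by decide +kernel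
theorem chkP_1300 : allRange (fun p => checkPoint cert p && checkOrb cert p) 1300 100 = true := by decide +kernel
theorem chkP_2300 : allRange (fun p => checkPoint cert p && checkOrb cert p) 2300 100 = true := by decide +kernel
theorem chkP_3300 : allRange (fun p => checkPoint cert p && checkOrb cert p) 3300 100 = true := by decide +kernel
theorem chkP_4300 : allRange (fun p => checkPoint cert p && checkOrb cert p) 4300 100 = true := by decide +kernel
theorem chkP_5300 : allRange (fun p => checkPoint cert p && checkOrb cert p) 5300 100 = true := by decide +kernel
theorem chkP_6300 : allRange (fun p => checkPoint cert p && checkOrb cert p) 6300 100 = true := by decide +kernel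
theorem chkP_7300 : allRange (fun p => checkPoint cert p && checkOrb cert p) 7300 100 = true := by decide +kernel
theorem chkP_8300 : allRange (fun p => checkPoint cert p && checkOrb cert p) 8300 100 = true := by decide +kernel
theorem chkP_9300 : allRange (fun p => checkPoint cert p && checkOrb cert p) 9300 100 = true := by decide +kernel
theorem chkP_10300 : allRange (fun p => checkPoint cert p && checkOrb cert p) 10300 100 = true := by decide +kernel
theorem chkP_11300 : allRange (fun p => checkPoint cert p && checkOrb cert p) 11300 100 = true := by decide +kernel
theorem chkP_12300 : allRange (fun p => checkPoint cert p && checkOrb cert p) 12300 100 = true := by decide +kernel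
theorem chkP_13300 : allRange (fun p => checkPoint cert p && checkOrb cert p) 13300 100 = true := by decide +kernel
theorem chkP_14300 : allRange (fun p => checkPoint cert p && checkOrb cert p) 14300 100 = true := by decide +kernel
theorem chkP_15300 : allRange (fun p => checkPoint cert p && checkOrb cert p) 15300 100 = true := by decide +kernel
theorem chkP_16300 : allRange (fun p => checkPoint cert p && checkOrb cert p) 16300 100 = true := by decide +kernel
theorem chkP_17300 : allRange (fun p => checkPoint cert p && checkOrb cert p) 17300 100 = true := by decide +kernel
theorem chkP_18300 : allRange (fun p => checkPoint cert p && checkOrb cert p) 18300 100 = true := by decide +kernel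
theorem chkP_19300 : allRange (fun p => checkPoint cert p && checkOrb cert p) 19300 100 = true := by decide +kernel
theorem chkP_20300 : allRange (fun p => checkPoint cert p && checkOrb cert p) 20300 100 = true := by decide +kernel
theorem chkP_21300 : allRange (fun p => checkPoint cert p && checkOrb cert p) 21300 100 = true := by decide +kernel
theorem chkP_22300 : allRange (fun p => checkPoint cert p && checkOrb cert p) 22300 100 = true := by decide +kernel
theorem chkP_23300 : allRange (fun p => checkPoint cert p && checkOrb cert p) 23300 100 = true := by decide +kernel
theorem chkP_24300 : allRange (fun p => checkPoint cert p && checkOrb cert p) 24300 100 = true := by decide +kernel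
theorem chkP_25300 : allRange (fun p => checkPoint cert p && checkOrb cert p) 25300 100 = true := by decide +kernel
theorem chkP_26300 : allRange (fun p => checkPoint cert p && checkOrb cert p) 26300 100 = true := by decide +kernel
theorem chkP_27300 : allRange (fun p => checkPoint cert p && checkOrb cert p) 27300 100 = true := by decide +kernel
theorem chkP_28300 : allRange (fun p => checkPoint cert p && checkOrb cert p) 28300 100 = true := by decide +kernel
theorem chkP_29300 : allRange (fun p => checkPoint cert p && checkOrb cert p) 29300 100 = true := by decide +kernel
theorem chkP_30300 : allRange (fun p => checkPoint cert p && checkOrb cert p) 30300 100 = true := by decide +kernel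
theorem chkP_31300 : allRange (fun p => checkPoint cert p && checkOrb cert p) 31300 100 = true := by decide +kernel

end Cfsg.Agent.Lib.Helper28.Fi23Data
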