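import Cfsg.Agent.Lib.Helper28.Fi23Data
import Cfsg.Agent.Lib.Helper28.TCSound

set_option autoImplicit false
set_option maxRecDepth 1000000
set_option linter.all false
set_option Elab.async false

namespace Cfsg.Agent.Lib.Helper28.Fi23Data

open Cfsg.Agent.Lib.Helper28

theorem chkF_4000 : allRange (checkFact cert) 4000 2000 = true := by decide +kernel
theorem chkF_24000 : allRange (checkFact cert) 24000 2000 = true := by decide +kernel
theorem chkF_44000 : allRange (checkFact cert) 44000 2000 = true := by decide +kernel
theorem chkF_64000 : allRange (checkFact cert) 64000 2000 = true := by decide +kernel
theorem chkF_84000 : allRange (checkFact cert) 84000 2000 = true := by decide +kernel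
theorem chkF_104000 : allRange (checkFact cert) 104000 2000 = true := by decide +kernel
theorem chkF_124000 : allRange (checkFact cert) 124000 2000 = true := by decide +kernel
theorem chkF_144000 : allRange (checkFact cert) 144000 2000 = true := by decide +kernel
theorem chkF_164000 : allRange (checkFact cert) 164000 2000 = true := by decide +kernel
theorem chkF_184000 : allRange (checkFact cert) 184000 2000 = true := by decide +kernel
theorem chkF_204000 : allRange (checkFact cert) 204000 2000 = true := by decide +kernel
theorem chkF_224000 : allRange (checkFact cert) 224000 2000 = true := by decide +kernel
theorem chkF_244000 : allRange (checkFact cert) 244000 2000 = true := by decide +kernel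
theorem chkF_264000 : allRange (checkFact cert) 264000 2000 = true := by decide +kernel
theorem chkF_284000 : allRange (checkFact cert) 284000 2000 = true := by decide +kernel
theorem chkF_304000 : allRange (checkFact cert) 304000 2000 = true := by decide +kernel
theorem chkF_324000 : allRange (checkFact cert) 324000 2000 = true := by decide +kernel
theorem chkF_344000 : allRange (checkFact cert) 344000 2000 = true := by decide +kernel
theorem chkF_364000 : allRange (checkFact cert) 364000 2000 = true := by decide +kernel
theorem chkP_400 : allRange (fun p => checkPoint cert p && checkOrb cert p) 400 100 = true := by decide +kernel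
theorem chkP_1400 : allRange (fun p => checkPoint cert p && checkOrb cert p) 1400 100 = true := by decide +kernel
theorem chkP_2400 : allRange (fun p => checkPoint cert p && checkOrb cert p) 2400 100 = true := by decide +kernel
theorem chkP_3400 : allRange (fun p => checkPoint cert p && checkOrb cert p) 3400 100 = true := by decide +kernel
theorem chkP_4400 : allRange (fun p => checkPoint cert p && checkOrb cert p) 4400 100 = true := by decide +kernel
theorem chkP_5400 : allRange (fun p => checkPoint cert p && checkOrb cert p) 5400 100 = true := by decide +kernel
theorem chkP_6400 : allRange (fun p => checkPoint cert p && checkOrb cert p) 6400 100 = true := by decide +kernel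
theorem chkP_7400 : allRange (fun p => checkPoint cert p && checkOrb cert p) 7400 100 = true := by decide +kernel
theorem chkP_8400 : allRange (fun p => checkPoint cert p && checkOrb cert p) 8400 100 = true := by decide +kernel
theorem chkP_9400 : allRange (fun p => checkPoint cert p && checkOrb cert p) 9400 100 = true := by decide +kernel
theorem chkP_10400 : allRange (fun p => checkPoint cert p && checkOrb cert p) 10400 100 = true := by decide +kernel
theorem chkP_11400 : allRange (fun p => checkPoint cert p && checkOrb cert p) 11400 100 = true := by decide +kernel
theorem chkP_12400 : allRange (fun p => checkPoint cert p && checkOrb cert p) 12400 100 = true := by decide +kernel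
theorem chkP_13400 : allRange (fun p => checkPoint cert p && checkOrb cert p) 13400 100 = true := by decide +kernel
theorem chkP_14400 : allRange (fun p => checkPoint cert p && checkOrb cert p) 14400 100 = true := by decide +kernel
theorem chkP_15400 : allRange (fun p => checkPoint cert p && checkOrb cert p) 15400 100 = true := by decide +kernel
theorem chkP_16400 : allRange (fun p => checkPoint cert p && checkOrb cert p) 16400 100 = true := by decide +kernel
theorem chkP_17400 : allRange (fun p => checkPoint cert p && checkOrb cert p) 17400 100 = true := by decide +kernel
theorem chkP_18400 : allRange (fun p => checkPoint cert p && checkOrb cert p) 18400 100 = true := by decide +kernel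
theorem chkP_19400 : allRange (fun p => checkPoint cert p && checkOrb cert p) 19400 100 = true := by decide +kernel
theorem chkP_20400 : allRange (fun p => checkPoint cert p && checkOrb cert p) 20400 100 = true := by decide +kernel
theorem chkP_21400 : allRange (fun p => checkPoint cert p && checkOrb cert p) 21400 100 = true := by decide +kernel
theorem chkP_22400 : allRange (fun p => checkPoint cert p && checkOrb cert p) 22400 100 = true := by decide +kernel
theorem chkP_23400 : allRange (fun p => checkPoint cert p && checkOrb cert p) 23400 100 = true := by decide +kernel
theorem chkP_24400 : allRange (fun p => checkPoint cert p && checkOrb cert p) 24400 100 = true := by decide +kernel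
theorem chkP_25400 : allRange (fun p => checkPoint cert p && checkOrb cert p) 25400 100 = true := by decide +kernel
theorem chkP_26400 : allRange (fun p => checkPoint cert p && checkOrb cert p) 26400 100 = true := by decide +kernel
theorem chkP_27400 : allRange (fun p => checkPoint cert p && checkOrb cert p) 27400 100 = true := by decide +kernel
theorem chkP_28400 : allRange (fun p => checkPoint cert p && checkOrb cert p) 28400 100 = true := by decide +kernel
theorem chkP_29400 : allRange (fun p => checkPoint cert p && checkOrb cert p) 29400 100 = true := by decide +kernel
theorem chkP_30400 : allRange (fun p => checkPoint cert p && checkOrb cert p) 30400 100 = true := by decide +kernel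
theorem chkP_31400 : allRange (fun p => checkPoint cert p && checkOrb cert p) 31400 100 = true := by decide +kernel

end Cfsg.Agent.Lib.Helper28.Fi23Data
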