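import Cfsg.Agent.Lib.Helper28.Fi23Data
import Cfsg.Agent.Lib.Helper28.TCSound

set_option autoImplicit false
set_option maxRecDepth 1000000
set_option linter.all false
set_option Elab.async false

namespace Cfsg.Agent.Lib.Helper28.Fi23Data

open Cfsg.Agent.Lib.Helper28

theorem chkF_6000 : allRange (checkFact cert) 6000 2000 = true := by decide +kernel
theorem chkF_26000 : allRange (checkFact cert) 26000 2000 = true := by decide +kernel
theorem chkF_46000 : allRange (checkFact cert) 46000 2000 = true := by decide +kernel
theorem chkF_66000 : allRange (checkFact cert) 66000 2000 = true := by decide +kernel
theorem chkF_86000 : allRange (checkFact cert) 86000 2000 = true := by decide +kernel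
theorem chkF_106000 : allRange (checkFact cert) 106000 2000 = true := by decide +kernel
theorem chkF_126000 : allRange (checkFact cert) 126000 2000 = true := by decide +kernel
theorem chkF_146000 : allRange (checkFact cert) 146000 2000 = true := by decide +kernel
theorem chkF_166000 : allRange (checkFact cert) 166000 2000 = true := by decide +kernel
theorem chkF_186000 : allRange (checkFact cert) 186000 2000 = true := by decide +kernel
theorem chkF_206000 : allRange (checkFact cert) 206000 2000 = true := by decide +kernel
theorem chkF_226000 : allRange (checkFact cert) 226000 2000 = true := by decide +kernel
theorem chkF_246000 : allRange (checkFact cert) 246000 2000 = true := by decide +kernel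
theorem chkF_266000 : allRange (checkFact cert) 266000 2000 = true := by decide +kernel
theorem chkF_286000 : allRange (checkFact cert) 286000 2000 = true := by decide +kernel
theorem chkF_306000 : allRange (checkFact cert) 306000 2000 = true := by decide +kernel
theorem chkF_326000 : allRange (checkFact cert) 326000 2000 = true := by decide +kernel
theorem chkF_346000 : allRange (checkFact cert) 346000 2000 = true := by decide +kernel
theorem chkF_366000 : allRange (checkFact cert) 366000 2000 = true := by decide +kernel
theorem chkP_500 : allRange (fun p => checkPoint cert p && checkOrb cert p) 500 100 = true := by decide +kernel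
theorem chkP_1500 : allRange (fun p => checkPoint cert p && checkOrb cert p) 1500 100 = true := by decide +kernel
theorem chkP_2500 : allRange (fun p => checkPoint cert p && checkOrb cert p) 2500 100 = true := by decide +kernel
theorem chkP_3500 : allRange (fun p => checkPoint cert p && checkOrb cert p) 3500 100 = true := by decide +kernel
theorem chkP_4500 : allRange (fun p => checkPoint cert p && checkOrb cert p) 4500 100 = true := by decide +kernel
theorem chkP_5500 : allRange (fun p => checkPoint cert p && checkOrb cert p) 5500 100 = true := by decide +kernel
theorem chkP_6500 : allRange (fun p => checkPoint cert p && checkOrb cert p) 6500 100 = true := by decide +kernel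
theorem chkP_7500 : allRange (fun p => checkPoint cert p && checkOrb cert p) 7500 100 = true := by decide +kernel
theorem chkP_8500 : allRange (fun p => checkPoint cert p && checkOrb cert p) 8500 100 = true := by decide +kernel
theorem chkP_9500 : allRange (fun p => checkPoint cert p && checkOrb cert p) 9500 100 = true := by decide +kernel
theorem chkP_10500 : allRange (fun p => checkPoint cert p && checkOrb cert p) 10500 100 = true := by decide +kernel
theorem chkP_11500 : allRange (fun p => checkPoint cert p && checkOrb cert p) 11500 100 = true := by decide +kernel
theorem chkP_12500 : allRange (fun p => checkPoint cert p && checkOrb cert p) 12500 100 = true := by decide +kernel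
theorem chkP_13500 : allRange (fun p => checkPoint cert p && checkOrb cert p) 13500 100 = true := by decide +kernel
theorem chkP_14500 : allRange (fun p => checkPoint cert p && checkOrb cert p) 14500 100 = true := by decide +kernel
theorem chkP_15500 : allRange (fun p => checkPoint cert p && checkOrb cert p) 15500 100 = true := by decide +kernel
theorem chkP_16500 : allRange (fun p => checkPoint cert p && checkOrb cert p) 16500 100 = true := by decide +kernel
theorem chkP_17500 : allRange (fun p => checkPoint cert p && checkOrb cert p) 17500 100 = true := by decide +kernel
theorem chkP_18500 : allRange (fun p => checkPoint cert p && checkOrb cert p) 18500 100 = true := by decide +kernel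
theorem chkP_19500 : allRange (fun p => checkPoint cert p && checkOrb cert p) 19500 100 = true := by decide +kernel
theorem chkP_20500 : allRange (fun p => checkPoint cert p && checkOrb cert p) 20500 100 = true := by decide +kernel
theorem chkP_21500 : allRange (fun p => checkPoint cert p && checkOrb cert p) 21500 100 = true := by decide +kernel
theorem chkP_22500 : allRange (fun p => checkPoint cert p && checkOrb cert p) 22500 100 = true := by decide +kernel
theorem chkP_23500 : allRange (fun p => checkPoint cert p && checkOrb cert p) 23500 100 = true := by decide +kernel
theorem chkP_24500 : allRange (fun p => checkPoint cert p && checkOrb cert p) 24500 100 = true := by decide +kernel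
theorem chkP_25500 : allRange (fun p => checkPoint cert p && checkOrb cert p) 25500 100 = true := by decide +kernel
theorem chkP_26500 : allRange (fun p => checkPoint cert p && checkOrb cert p) 26500 100 = true := by decide +kernel
theorem chkP_27500 : allRange (fun p => checkPoint cert p && checkOrb cert p) 27500 100 = true := by decide +kernel
theorem chkP_28500 : allRange (fun p => checkPoint cert p && checkOrb cert p) 28500 100 = true := by decide +kernel
theorem chkP_29500 : allRange (fun p => checkPoint cert p && checkOrb cert p) 29500 100 = true := by decide +kernel
theorem chkP_30500 : allRange (fun p => checkPoint cert p && checkOrb cert p) 30500 100 = true := by decide +kernel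
theorem chkP_31500 : allRange (fun p => checkPoint cert p && checkOrb cert p) 31500 100 = true := by decide +kernel

end Cfsg.Agent.Lib.Helper28.Fi23Data
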