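import Cfsg.Agent.Lib.Helper28.Fi23Data
import Cfsg.Agent.Lib.Helper28.TCSound

set_option autoImplicit false
set_option maxRecDepth 1000000
set_option linter.all false
set_option Elab.async false

namespace Cfsg.Agent.Lib.Helper28.Fi23Data

open Cfsg.Agent.Lib.Helper28

theorem chkF_8000 : allRange (checkFact cert) 8000 2000 = true := by decide +kernel
theorem chkF_28000 : allRange (checkFact cert) 28000 2000 = true := by decide +kernel
theorem chkF_48000 : allRange (checkFact cert) 48000 2000 = true := by decide +kernel
theorem chkF_68000 : allRange (checkFact cert) 68000 2000 = true := by decide +kernel
theorem chkF_88000 : allRange (checkFact cert) 88000 2000 = true := by decide +kernel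
theorem chkF_108000 : allRange (checkFact cert) 108000 2000 = true := by decide +kernel
theorem chkF_128000 : allRange (checkFact cert) 128000 2000 = true := by decide +kernel
theorem chkF_148000 : allRange (checkFact cert) 148000 2000 = true := by decide +kernel
theorem chkF_168000 : allRange (checkFact cert) 168000 2000 = true := by decide +kernel
theorem chkF_188000 : allRange (checkFact cert) 188000 2000 = true := by decide +kernel
theorem chkF_208000 : allRange (checkFact cert) 208000 2000 = true := by decide +kernel
theorem chkF_228000 : allRange (checkFact cert) 228000 2000 = true := by decide +kernel
theorem chkF_248000 : allRange (checkFact cert) 248000 2000 = true := by decide +kernel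
theorem chkF_268000 : allRange (checkFact cert) 268000 2000 = true := by decide +kernel
theorem chkF_288000 : allRange (checkFact cert) 288000 2000 = true := by decide +kernel
theorem chkF_308000 : allRange (checkFact cert) 308000 2000 = true := by decide +kernel
theorem chkF_328000 : allRange (checkFact cert) 328000 2000 = true := by decide +kernel
theorem chkF_348000 : allRange (checkFact cert) 348000 2000 = true := by decide +kernel
theorem chkF_368000 : allRange (checkFact cert) 368000 2000 = true := by decide +kernel
theorem chkP_600 : allRange (fun p => checkPoint cert p && checkOrb cert p) 600 100 = true := by decide +kernel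
theorem chkP_1600 : allRange (fun p => checkPoint cert p && checkOrb cert p) 1600 100 = true := by decide +kernel
theorem chkP_2600 : allRange (fun p => checkPoint cert p && checkOrb cert p) 2600 100 = true := by decide +kernel
theorem chkP_3600 : allRange (fun p => checkPoint cert p && checkOrb cert p) 3600 100 = true := by decide +kernel
theorem chkP_4600 : allRange (fun p => checkPoint cert p && checkOrb cert p) 4600 100 = true := by decide +kernel
theorem chkP_5600 : allRange (fun p => checkPoint cert p && checkOrb cert p) 5600 100 = true := by decide +kernel
theorem chkP_6600 : allRange (fun p => checkPoint cert p && checkOrb cert p) 6600 100 = true := by decide +kernel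
theorem chkP_7600 : allRange (fun p => checkPoint cert p && checkOrb cert p) 7600 100 = true := by decide +kernel
theorem chkP_8600 : allRange (fun p => checkPoint cert p && checkOrb cert p) 8600 100 = true := by decide +kernel
theorem chkP_9600 : allRange (fun p => checkPoint cert p && checkOrb cert p) 9600 100 = true := by decide +kernel
theorem chkP_10600 : allRange (fun p => checkPoint cert p && checkOrb cert p) 10600 100 = true := by decide +kernel
theorem chkP_11600 : allRange (fun p => checkPoint cert p && checkOrb cert p) 11600 100 = true := by decide +kernel
theorem chkP_12600 : allRange (fun p => checkPoint cert p && checkOrb cert p) 12600 100 = true := by decide +kernel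
theorem chkP_13600 : allRange (fun p => checkPoint cert p && checkOrb cert p) 13600 100 = true := by decide +kernel
theorem chkP_14600 : allRange (fun p => checkPoint cert p && checkOrb cert p) 14600 100 = true := by decide +kernel
theorem chkP_15600 : allRange (fun p => checkPoint cert p && checkOrb cert p) 15600 100 = true := by decide +kernel
theorem chkP_16600 : allRange (fun p => checkPoint cert p && checkOrb cert p) 16600 100 = true := by decide +kernel
theorem chkP_17600 : allRange (fun p => checkPoint cert p && checkOrb cert p) 17600 100 = true := by decide +kernel
theorem chkP_18600 : allRange (fun p => checkPoint cert p && checkOrb cert p) 18600 100 = true := by decide +kernel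
theorem chkP_19600 : allRange (fun p => checkPoint cert p && checkOrb cert p) 19600 100 = true := by decide +kernel
theorem chkP_20600 : allRange (fun p => checkPoint cert p && checkOrb cert p) 20600 100 = true := by decide +kernel
theorem chkP_21600 : allRange (fun p => checkPoint cert p && checkOrb cert p) 21600 100 = true := by decide +kernel
theorem chkP_22600 : allRange (fun p => checkPoint cert p && checkOrb cert p) 22600 100 = true := by decide +kernel
theorem chkP_23600 : allRange (fun p => checkPoint cert p && checkOrb cert p) 23600 100 = true := by decide +kernel
theorem chkP_24600 : allRange (fun p => checkPoint cert p && checkOrb cert p) 24600 100 = true := by decide +kernel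
theorem chkP_25600 : allRange (fun p => checkPoint cert p && checkOrb cert p) 25600 100 = true := by decide +kernel
theorem chkP_26600 : allRange (fun p => checkPoint cert p && checkOrb cert p) 26600 100 = true := by decide +kernel
theorem chkP_27600 : allRange (fun p => checkPoint cert p && checkOrb cert p) 27600 100 = true := by decide +kernel
theorem chkP_28600 : allRange (fun p => checkPoint cert p && checkOrb cert p) 28600 100 = true := by decide +kernel
theorem chkP_29600 : allRange (fun p => checkPoint cert p && checkOrb cert p) 29600 100 = true := by decide +kernel
theorem chkP_30600 : allRange (fun p => checkPoint cert p && checkOrb cert p) 30600 100 = true := by decide +kernel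
theorem chkP_31600 : allRange (fun p => checkPoint cert p && checkOrb cert p) 31600 71 = true := by decide +kernel

end Cfsg.Agent.Lib.Helper28.Fi23Data
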