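import Cfsg.Agent.Lib.Helper28.Fi23Data
import Cfsg.Agent.Lib.Helper28.TCSound

set_option autoImplicit false
set_option maxRecDepth 1000000
set_option linter.all false
set_option Elab.async false

namespace Cfsg.Agent.Lib.Helper28.Fi23Data

open Cfsg.Agent.Lib.Helper28

theorem chkF_10000 : allRange (checkFact cert) 10000 2000 = true := by decide +kernel
theorem chkF_30000 : allRange (checkFact cert) 30000 2000 = true := by decide +kernel
theorem chkF_50000 : allRange (checkFact cert) 50000 2000 = true := by decide +kernel
theorem chkF_70000 : allRange (checkFact cert) 70000 2000 = true := by decide +kernel
theorem chkF_90000 : allRange (checkFact cert) 90000 2000 = true := by decide +kernel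
theorem chkF_110000 : allRange (checkFact cert) 110000 2000 = true := by decide +kernel
theorem chkF_130000 : allRange (checkFact cert) 130000 2000 = true := by decide +kernel
theorem chkF_150000 : allRange (checkFact cert) 150000 2000 = true := by decide +kernel
theorem chkF_170000 : allRange (checkFact cert) 170000 2000 = true := by decide +kernel
theorem chkF_190000 : allRange (checkFact cert) 190000 2000 = true := by decide +kernel
theorem chkF_210000 : allRange (checkFact cert) 210000 2000 = true := by decide +kernel
theorem chkF_230000 : allRange (checkFact cert) 230000 2000 = true := by decide +kernel
theorem chkF_250000 : allRange (checkFact cert) 250000 2000 = true := by decide +kernel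
theorem chkF_270000 : allRange (checkFact cert) 270000 2000 = true := by decide +kernel
theorem chkF_290000 : allRange (checkFact cert) 290000 2000 = true := by decide +kernel
theorem chkF_310000 : allRange (checkFact cert) 310000 2000 = true := by decide +kernel
theorem chkF_330000 : allRange (checkFact cert) 330000 2000 = true := by decide +kernel
theorem chkF_350000 : allRange (checkFact cert) 350000 2000 = true := by decide +kernel
theorem chkF_370000 : allRange (checkFact cert) 370000 2000 = true := by decide +kernel
theorem chkP_700 : allRange (fun p => checkPoint cert p && checkOrb cert p) 700 100 = true := by decide +kernel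
theorem chkP_1700 : allRange (fun p => checkPoint cert p && checkOrb cert p) 1700 100 = true := by decide +kernel
theorem chkP_2700 : allRange (fun p => checkPoint cert p && checkOrb cert p) 2700 100 = true := by decide +kernel
theorem chkP_3700 : allRange (fun p => checkPoint cert p && checkOrb cert p) 3700 100 = true := by decide +kernel
theorem chkP_4700 : allRange (fun p => checkPoint cert p && checkOrb cert p) 4700 100 = true := by decide +kernel
theorem chkP_5700 : allRange (fun p => checkPoint cert p && checkOrb cert p) 5700 100 = true := by decide +kernel
theorem chkP_6700 : allRange (fun p => checkPoint cert p && checkOrb cert p) 6700 100 = true := by decide +kernel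
theorem chkP_7700 : allRange (fun p => checkPoint cert p && checkOrb cert p) 7700 100 = true := by decide +kernel
theorem chkP_8700 : allRange (fun p => checkPoint cert p && checkOrb cert p) 8700 100 = true := by decide +kernel
theorem chkP_9700 : allRange (fun p => checkPoint cert p && checkOrb cert p) 9700 100 = true := by decide +kernel
theorem chkP_10700 : allRange (fun p => checkPoint cert p && checkOrb cert p) 10700 100 = true := by decide +kernel
theorem chkP_11700 : allRange (fun p => checkPoint cert p && checkOrb cert p) 11700 100 = true := by decide +kernel
theorem chkP_12700 : allRange (fun p => checkPoint cert p && checkOrb cert p) 12700 100 = true := by decide +kernel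
theorem chkP_13700 : allRange (fun p => checkPoint cert p && checkOrb cert p) 13700 100 = true := by decide +kernel
theorem chkP_14700 : allRange (fun p => checkPoint cert p && checkOrb cert p) 14700 100 = true := by decide +kernel
theorem chkP_15700 : allRange (fun p => checkPoint cert p && checkOrb cert p) 15700 100 = true := by decide +kernel
theorem chkP_16700 : allRange (fun p => checkPoint cert p && checkOrb cert p) 16700 100 = true := by decide +kernel
theorem chkP_17700 : allRange (fun p => checkPoint cert p && checkOrb cert p) 17700 100 = true := by decide +kernel
theorem chkP_18700 : allRange (fun p => checkPoint cert p && checkOrb cert p) 18700 100 = true := by decide +kernel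
theorem chkP_19700 : allRange (fun p => checkPoint cert p && checkOrb cert p) 19700 100 = true := by decide +kernel
theorem chkP_20700 : allRange (fun p => checkPoint cert p && checkOrb cert p) 20700 100 = true := by decide +kernel
theorem chkP_21700 : allRange (fun p => checkPoint cert p && checkOrb cert p) 21700 100 = true := by decide +kernel
theorem chkP_22700 : allRange (fun p => checkPoint cert p && checkOrb cert p) 22700 100 = true := by decide +kernel
theorem chkP_23700 : allRange (fun p => checkPoint cert p && checkOrb cert p) 23700 100 = true := by decide +kernel
theorem chkP_24700 : allRange (fun p => checkPoint cert p && checkOrb cert p) 24700 100 = true := by decide +kernel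
theorem chkP_25700 : allRange (fun p => checkPoint cert p && checkOrb cert p) 25700 100 = true := by decide +kernel
theorem chkP_26700 : allRange (fun p => checkPoint cert p && checkOrb cert p) 26700 100 = true := by decide +kernel
theorem chkP_27700 : allRange (fun p => checkPoint cert p && checkOrb cert p) 27700 100 = true := by decide +kernel
theorem chkP_28700 : allRange (fun p => checkPoint cert p && checkOrb cert p) 28700 100 = true := by decide +kernel
theorem chkP_29700 : allRange (fun p => checkPoint cert p && checkOrb cert p) 29700 100 = true := by decide +kernel
theorem chkP_30700 : allRange (fun p => checkPoint cert p && checkOrb cert p) 30700 100 = true := by decide +kernel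

end Cfsg.Agent.Lib.Helper28.Fi23Data
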