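import Cfsg.Agent.Lib.Helper28.Fi23Data
import Cfsg.Agent.Lib.Helper28.TCSound

set_option autoImplicit false
set_option maxRecDepth 1000000
set_option linter.all false
set_option Elab.async false

namespace Cfsg.Agent.Lib.Helper28.Fi23Data

open Cfsg.Agent.Lib.Helper28

theorem chkF_12000 : allRange (checkFact cert) 12000 2000 = true := by decide +kernel
theorem chkF_32000 : allRange (checkFact cert) 32000 2000 = true := by decide +kernel
theorem chkF_52000 : allRange (checkFact cert) 52000 2000 = true := by decide +kernel
theorem chkF_72000 : allRange (checkFact cert) 72000 2000 = true := by decide +kernel
theorem chkF_92000 : allRange (checkFact cert) 92000 2000 = true := by decide +kernel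
theorem chkF_112000 : allRange (checkFact cert) 112000 2000 = true := by decide +kernel
theorem chkF_132000 : allRange (checkFact cert) 132000 2000 = true := by decide +kernel
theorem chkF_152000 : allRange (checkFact cert) 152000 2000 = true := by decide +kernel
theorem chkF_172000 : allRange (checkFact cert) 172000 2000 = true := by decide +kernel
theorem chkF_192000 : allRange (checkFact cert) 192000 2000 = true := by decide +kernel
theorem chkF_212000 : allRange (checkFact cert) 212000 2000 = true := by decide +kernel
theorem chkF_232000 : allRange (checkFact cert) 232000 2000 = true := by decide +kernel
theorem chkF_252000 : allRange (checkFact cert) 252000 2000 = true := by decide +kernel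
theorem chkF_272000 : allRange (checkFact cert) 272000 2000 = true := by decide +kernel
theorem chkF_292000 : allRange (checkFact cert) 292000 2000 = true := by decide +kernel
theorem chkF_312000 : allRange (checkFact cert) 312000 2000 = true := by decide +kernel
theorem chkF_332000 : allRange (checkFact cert) 332000 2000 = true := by decide +kernel
theorem chkF_352000 : allRange (checkFact cert) 352000 2000 = true := by decide +kernel
theorem chkF_372000 : allRange (checkFact cert) 372000 2000 = true := by decide +kernel
theorem chkP_800 : allRange (fun p => checkPoint cert p && checkOrb cert p) 800 100 = true := by decide +kernel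
theorem chkP_1800 : allRange (fun p => checkPoint cert p && checkOrb cert p) 1800 100 = true := by decide +kernel
theorem chkP_2800 : allRange (fun p => checkPoint cert p && checkOrb cert p) 2800 100 = true := by decide +kernel
theorem chkP_3800 : allRange (fun p => checkPoint cert p && checkOrb cert p) 3800 100 = true := by decide +kernel
theorem chkP_4800 : allRange (fun p => checkPoint cert p && checkOrb cert p) 4800 100 = true := by decide +kernel
theorem chkP_5800 : allRange (fun p => checkPoint cert p && checkOrb cert p) 5800 100 = true := by decide +kernel
theorem chkP_6800 : allRange (fun p => checkPoint cert p && checkOrb cert p) 6800 100 = true := by decide +kernel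
theorem chkP_7800 : allRange (fun p => checkPoint cert p && checkOrb cert p) 7800 100 = true := by decide +kernel
theorem chkP_8800 : allRange (fun p => checkPoint cert p && checkOrb cert p) 8800 100 = true := by decide +kernel
theorem chkP_9800 : allRange (fun p => checkPoint cert p && checkOrb cert p) 9800 100 = true := by decide +kernel
theorem chkP_10800 : allRange (fun p => checkPoint cert p && checkOrb cert p) 10800 100 = true := by decide +kernel
theorem chkP_11800 : allRange (fun p => checkPoint cert p && checkOrb cert p) 11800 100 = true := by decide +kernel
theorem chkP_12800 : allRange (fun p => checkPoint cert p && checkOrb cert p) 12800 100 = true := by decide +kernel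
theorem chkP_13800 : allRange (fun p => checkPoint cert p && checkOrb cert p) 13800 100 = true := by decide +kernel
theorem chkP_14800 : allRange (fun p => checkPoint cert p && checkOrb cert p) 14800 100 = true := by decide +kernel
theorem chkP_15800 : allRange (fun p => checkPoint cert p && checkOrb cert p) 15800 100 = true := by decide +kernel
theorem chkP_16800 : allRange (fun p => checkPoint cert p && checkOrb cert p) 16800 100 = true := by decide +kernel
theorem chkP_17800 : allRange (fun p => checkPoint cert p && checkOrb cert p) 17800 100 = true := by decide +kernel
theorem chkP_18800 : allRange (fun p => checkPoint cert p && checkOrb cert p) 18800 100 = true := by decide +kernel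
theorem chkP_19800 : allRange (fun p => checkPoint cert p && checkOrb cert p) 19800 100 = true := by decide +kernel
theorem chkP_20800 : allRange (fun p => checkPoint cert p && checkOrb cert p) 20800 100 = true := by decide +kernel
theorem chkP_21800 : allRange (fun p => checkPoint cert p && checkOrb cert p) 21800 100 = true := by decide +kernel
theorem chkP_22800 : allRange (fun p => checkPoint cert p && checkOrb cert p) 22800 100 = true := by decide +kernel
theorem chkP_23800 : allRange (fun p => checkPoint cert p && checkOrb cert p) 23800 100 = true := by decide +kernel
theorem chkP_24800 : allRange (fun p => checkPoint cert p && checkOrb cert p) 24800 100 = true := by decide +kernel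
theorem chkP_25800 : allRange (fun p => checkPoint cert p && checkOrb cert p) 25800 100 = true := by decide +kernel
theorem chkP_26800 : allRange (fun p => checkPoint cert p && checkOrb cert p) 26800 100 = true := by decide +kernel
theorem chkP_27800 : allRange (fun p => checkPoint cert p && checkOrb cert p) 27800 100 = true := by decide +kernel
theorem chkP_28800 : allRange (fun p => checkPoint cert p && checkOrb cert p) 28800 100 = true := by decide +kernel
theorem chkP_29800 : allRange (fun p => checkPoint cert p && checkOrb cert p) 29800 100 = true := by decide +kernel
theorem chkP_30800 : allRange (fun p => checkPoint cert p && checkOrb cert p) 30800 100 = true := by decide +kernel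

end Cfsg.Agent.Lib.Helper28.Fi23Data
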