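import Cfsg.Agent.Lib.Helper28.Fi23Data
import Cfsg.Agent.Lib.Helper28.TCSound

set_option autoImplicit false
set_option maxRecDepth 1000000
set_option linter.all false
set_option Elab.async false

namespace Cfsg.Agent.Lib.Helper28.Fi23Data

open Cfsg.Agent.Lib.Helper28

theorem chkF_14000 : allRange (checkFact cert) 14000 2000 = true := by decide +kernel
theorem chkF_34000 : allRange (checkFact cert) 34000 2000 = true := by decide +kernel
theorem chkF_54000 : allRange (checkFact cert) 54000 2000 = true := by decide +kernel
theorem chkF_74000 : allRange (checkFact cert) 74000 2000 = true := by decide +kernel
theorem chkF_94000 : allRange (checkFact cert) 94000 2000 = true := by decide +kernel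
theorem chkF_114000 : allRange (checkFact cert) 114000 2000 = true := by decide +kernel
theorem chkF_134000 : allRange (checkFact cert) 134000 2000 = true := by decide +kernel
theorem chkF_154000 : allRange (checkFact cert) 154000 2000 = true := by decide +kernel
theorem chkF_174000 : allRange (checkFact cert) 174000 2000 = true := by decide +kernel
theorem chkF_194000 : allRange (checkFact cert) 194000 2000 = true := by decide +kernel
theorem chkF_214000 : allRange (checkFact cert) 214000 2000 = true := by decide +kernel
theorem chkF_234000 : allRange (checkFact cert) 234000 2000 = true := by decide +kernel
theorem chkF_254000 : allRange (checkFact cert) 254000 2000 = true := by decide +kernel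
theorem chkF_274000 : allRange (checkFact cert) 274000 2000 = true := by decide +kernel
theorem chkF_294000 : allRange (checkFact cert) 294000 2000 = true := by decide +kernel
theorem chkF_314000 : allRange (checkFact cert) 314000 2000 = true := by decide +kernel
theorem chkF_334000 : allRange (checkFact cert) 334000 2000 = true := by decide +kernel
theorem chkF_354000 : allRange (checkFact cert) 354000 2000 = true := by decide +kernel
theorem chkF_374000 : allRange (checkFact cert) 374000 70 = true := by decide +kernel
theorem chkP_900 : allRange (fun p => checkPoint cert p && checkOrb cert p) 900 100 = true := by decide +kernel
theorem chkP_1900 : allRange (fun p => checkPoint cert p && checkOrb cert p) 1900 100 = true := by decide +kernel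
theorem chkP_2900 : allRange (fun p => checkPoint cert p && checkOrb cert p) 2900 100 = true := by decide +kernel
theorem chkP_3900 : allRange (fun p => checkPoint cert p && checkOrb cert p) 3900 100 = true := by decide +kernel
theorem chkP_4900 : allRange (fun p => checkPoint cert p && checkOrb cert p) 4900 100 = true := by decide +kernel
theorem chkP_5900 : allRange (fun p => checkPoint cert p && checkOrb cert p) 5900 100 = true := by decide +kernel
theorem chkP_6900 : allRange (fun p => checkPoint cert p && checkOrb cert p) 6900 100 = true := by decide +kernel
theorem chkP_7900 : allRange (fun p => checkPoint cert p && checkOrb cert p) 7900 100 = true := by decide +kernel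
theorem chkP_8900 : allRange (fun p => checkPoint cert p && checkOrb cert p) 8900 100 = true := by decide +kernel
theorem chkP_9900 : allRange (fun p => checkPoint cert p && checkOrb cert p) 9900 100 = true := by decide +kernel
theorem chkP_10900 : allRange (fun p => checkPoint cert p && checkOrb cert p) 10900 100 = true := by decide +kernel
theorem chkP_11900 : allRange (fun p => checkPoint cert p && checkOrb cert p) 11900 100 = true := by decide +kernel
theorem chkP_12900 : allRange (fun p => checkPoint cert p && checkOrb cert p) 12900 100 = true := by decide +kernel
theorem chkP_13900 : allRange (fun p => checkPoint cert p && checkOrb cert p) 13900 100 = true := by decide +kernel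
theorem chkP_14900 : allRange (fun p => checkPoint cert p && checkOrb cert p) 14900 100 = true := by decide +kernel
theorem chkP_15900 : allRange (fun p => checkPoint cert p && checkOrb cert p) 15900 100 = true := by decide +kernel
theorem chkP_16900 : allRange (fun p => checkPoint cert p && checkOrb cert p) 16900 100 = true := by decide +kernel
theorem chkP_17900 : allRange (fun p => checkPoint cert p && checkOrb cert p) 17900 100 = true := by decide +kernel
theorem chkP_18900 : allRange (fun p => checkPoint cert p && checkOrb cert p) 18900 100 = true := by decide +kernel
theorem chkP_19900 : allRange (fun p => checkPoint cert p && checkOrb cert p) 19900 100 = true := by decide +kernel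
theorem chkP_20900 : allRange (fun p => checkPoint cert p && checkOrb cert p) 20900 100 = true := by decide +kernel
theorem chkP_21900 : allRange (fun p => checkPoint cert p && checkOrb cert p) 21900 100 = true := by decide +kernel
theorem chkP_22900 : allRange (fun p => checkPoint cert p && checkOrb cert p) 22900 100 = true := by decide +kernel
theorem chkP_23900 : allRange (fun p => checkPoint cert p && checkOrb cert p) 23900 100 = true := by decide +kernel
theorem chkP_24900 : allRange (fun p => checkPoint cert p && checkOrb cert p) 24900 100 = true := by decide +kernel
theorem chkP_25900 : allRange (fun p => checkPoint cert p && checkOrb cert p) 25900 100 = true := by decide +kernel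
theorem chkP_26900 : allRange (fun p => checkPoint cert p && checkOrb cert p) 26900 100 = true := by decide +kernel
theorem chkP_27900 : allRange (fun p => checkPoint cert p && checkOrb cert p) 27900 100 = true := by decide +kernel
theorem chkP_28900 : allRange (fun p => checkPoint cert p && checkOrb cert p) 28900 100 = true := by decide +kernel
theorem chkP_29900 : allRange (fun p => checkPoint cert p && checkOrb cert p) 29900 100 = true := by decide +kernel
theorem chkP_30900 : allRange (fun p => checkPoint cert p && checkOrb cert p) 30900 100 = true := by decide +kernel

end Cfsg.Agent.Lib.Helper28.Fi23Data
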