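import Cfsg.Agent.Lib.Helper28.Fi23Data
import Cfsg.Agent.Lib.Helper28.TCSound

set_option autoImplicit false
set_option maxRecDepth 1000000
set_option linter.all false
set_option Elab.async false

namespace Cfsg.Agent.Lib.Helper28.Fi23Data

open Cfsg.Agent.Lib.Helper28

theorem chkF_16000 : allRange (checkFact cert) 16000 2000 = true := by decide +kernel
theorem chkF_36000 : allRange (checkFact cert) 36000 2000 = true := by decide +kernel
theorem chkF_56000 : allRange (checkFact cert) 56000 2000 = true := by decide +kernel
theorem chkF_76000 : allRange (checkFact cert) 76000 2000 = true := by decide +kernel
theorem chkF_96000 : allRange (checkFact cert) 96000 2000 = true := by decide +kernel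
theorem chkF_116000 : allRange (checkFact cert) 116000 2000 = true := by decide +kernel
theorem chkF_136000 : allRange (checkFact cert) 136000 2000 = true := by decide +kernel
theorem chkF_156000 : allRange (checkFact cert) 156000 2000 = true := by decide +kernel
theorem chkF_176000 : allRange (checkFact cert) 176000 2000 = true := by decide +kernel
theorem chkF_196000 : allRange (checkFact cert) 196000 2000 = true := by decide +kernel
theorem chkF_216000 : allRange (checkFact cert) 216000 2000 = true := by decide +kernel
theorem chkF_236000 : allRange (checkFact cert) 236000 2000 = true := by decide +kernel
theorem chkF_256000 : allRange (checkFact cert) 256000 2000 = true := by decide +kernel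
theorem chkF_276000 : allRange (checkFact cert) 276000 2000 = true := by decide +kernel
theorem chkF_296000 : allRange (checkFact cert) 296000 2000 = true := by decide +kernel
theorem chkF_316000 : allRange (checkFact cert) 316000 2000 = true := by decide +kernel
theorem chkF_336000 : allRange (checkFact cert) 336000 2000 = true := by decide +kernel
theorem chkF_356000 : allRange (checkFact cert) 356000 2000 = true := by decide +kernel
theorem chkP_0 : allRange (fun p => checkPoint cert p && checkOrb cert p) 0 100 = true := by decide +kernel
theorem chkP_1000 : allRange (fun p => checkPoint cert p && checkOrb cert p) 1000 100 = true := by decide +kernel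
theorem chkP_2000 : allRange (fun p => checkPoint cert p && checkOrb cert p) 2000 100 = true := by decide +kernel
theorem chkP_3000 : allRange (fun p => checkPoint cert p && checkOrb cert p) 3000 100 = true := by decide +kernel
theorem chkP_4000 : allRange (fun p => checkPoint cert p && checkOrb cert p) 4000 100 = true := by decide +kernel
theorem chkP_5000 : allRange (fun p => checkPoint cert p && checkOrb cert p) 5000 100 = true := by decide +kernel
theorem chkP_6000 : allRange (fun p => checkPoint cert p && checkOrb cert p) 6000 100 = true := by decide +kernel
theorem chkP_7000 : allRange (fun p => checkPoint cert p && checkOrb cert p) 7000 100 = true := by decide +kernel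
theorem chkP_8000 : allRange (fun p => checkPoint cert p && checkOrb cert p) 8000 100 = true := by decide +kernel
theorem chkP_9000 : allRange (fun p => checkPoint cert p && checkOrb cert p) 9000 100 = true := by decide +kernel
theorem chkP_10000 : allRange (fun p => checkPoint cert p && checkOrb cert p) 10000 100 = true := by decide +kernel
theorem chkP_11000 : allRange (fun p => checkPoint cert p && checkOrb cert p) 11000 100 = true := by decide +kernel
theorem chkP_12000 : allRange (fun p => checkPoint cert p && checkOrb cert p) 12000 100 = true := by decide +kernel
theorem chkP_13000 : allRange (fun p => checkPoint cert p && checkOrb cert p) 13000 100 = true := by decide +kernel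
theorem chkP_14000 : allRange (fun p => checkPoint cert p && checkOrb cert p) 14000 100 = true := by decide +kernel
theorem chkP_15000 : allRange (fun p => checkPoint cert p && checkOrb cert p) 15000 100 = true := by decide +kernel
theorem chkP_16000 : allRange (fun p => checkPoint cert p && checkOrb cert p) 16000 100 = true := by decide +kernel
theorem chkP_17000 : allRange (fun p => checkPoint cert p && checkOrb cert p) 17000 100 = true := by decide +kernel
theorem chkP_18000 : allRange (fun p => checkPoint cert p && checkOrb cert p) 18000 100 = true := by decide +kernel
theorem chkP_19000 : allRange (fun p => checkPoint cert p && checkOrb cert p) 19000 100 = true := by decide +kernel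
theorem chkP_20000 : allRange (fun p => checkPoint cert p && checkOrb cert p) 20000 100 = true := by decide +kernel
theorem chkP_21000 : allRange (fun p => checkPoint cert p && checkOrb cert p) 21000 100 = true := by decide +kernel
theorem chkP_22000 : allRange (fun p => checkPoint cert p && checkOrb cert p) 22000 100 = true := by decide +kernel
theorem chkP_23000 : allRange (fun p => checkPoint cert p && checkOrb cert p) 23000 100 = true := by decide +kernel
theorem chkP_24000 : allRange (fun p => checkPoint cert p && checkOrb cert p) 24000 100 = true := by decide +kernel
theorem chkP_25000 : allRange (fun p => checkPoint cert p && checkOrb cert p) 25000 100 = true := by decide +kernel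
theorem chkP_26000 : allRange (fun p => checkPoint cert p && checkOrb cert p) 26000 100 = true := by decide +kernel
theorem chkP_27000 : allRange (fun p => checkPoint cert p && checkOrb cert p) 27000 100 = true := by decide +kernel
theorem chkP_28000 : allRange (fun p => checkPoint cert p && checkOrb cert p) 28000 100 = true := by decide +kernel
theorem chkP_29000 : allRange (fun p => checkPoint cert p && checkOrb cert p) 29000 100 = true := by decide +kernel
theorem chkP_30000 : allRange (fun p => checkPoint cert p && checkOrb cert p) 30000 100 = true := by decide +kernel
theorem chkP_31000 : allRange (fun p => checkPoint cert p && checkOrb cert p) 31000 100 = true := by decide +kernel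

end Cfsg.Agent.Lib.Helper28.Fi23Data
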