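import Cfsg.Agent.Lib.Helper28.Fi23Data
import Cfsg.Agent.Lib.Helper28.TCSound

set_option autoImplicit false
set_option maxRecDepth 1000000
set_option linter.all false
set_option Elab.async false

namespace Cfsg.Agent.Lib.Helper28.Fi23Data

open Cfsg.Agent.Lib.Helper28

theorem chkF_18000 : allRange (checkFact cert) 18000 2000 = true := by decide +kernel
theorem chkF_38000 : allRange (checkFact cert) 38000 2000 = true := by decide +kernel
theorem chkF_58000 : allRange (checkFact cert) 58000 2000 = true := by decide +kernel
theorem chkF_78000 : allRange (checkFact cert) 78000 2000 = true := by decide +kernel
theorem chkF_98000 : allRange (checkFact cert) 98000 2000 = true := by decide +kernel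
theorem chkF_118000 : allRange (checkFact cert) 118000 2000 = true := by decide +kernel
theorem chkF_138000 : allRange (checkFact cert) 138000 2000 = true := by decide +kernel
theorem chkF_158000 : allRange (checkFact cert) 158000 2000 = true := by decide +kernel
theorem chkF_178000 : allRange (checkFact cert) 178000 2000 = true := by decide +kernel
theorem chkF_198000 : allRange (checkFact cert) 198000 2000 = true := by decide +kernel
theorem chkF_218000 : allRange (checkFact cert) 218000 2000 = true := by decide +kernel
theorem chkF_238000 : allRange (checkFact cert) 238000 2000 = true := by decide +kernel
theorem chkF_258000 : allRange (checkFact cert) 258000 2000 = true := by decide +kernel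
theorem chkF_278000 : allRange (checkFact cert) 278000 2000 = true := by decide +kernel
theorem chkF_298000 : allRange (checkFact cert) 298000 2000 = true := by decide +kernel
theorem chkF_318000 : allRange (checkFact cert) 318000 2000 = true := by decide +kernel
theorem chkF_338000 : allRange (checkFact cert) 338000 2000 = true := by decide +kernel
theorem chkF_358000 : allRange (checkFact cert) 358000 2000 = true := by decide +kernel
theorem chkP_100 : allRange (fun p => checkPoint cert p && checkOrb cert p) 100 100 = true := by decide +kernel
theorem chkP_1100 : allRange (fun p => checkPoint cert p && checkOrb cert p) 1100 100 = true := by decide +kernel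
theorem chkP_2100 : allRange (fun p => checkPoint cert p && checkOrb cert p) 2100 100 = true := by decide +kernel
theorem chkP_3100 : allRange (fun p => checkPoint cert p && checkOrb cert p) 3100 100 = true := by decide +kernel
theorem chkP_4100 : allRange (fun p => checkPoint cert p && checkOrb cert p) 4100 100 = true := by decide +kernel
theorem chkP_5100 : allRange (fun p => checkPoint cert p && checkOrb cert p) 5100 100 = true := by decide +kernel
theorem chkP_6100 : allRange (fun p => checkPoint cert p && checkOrb cert p) 6100 100 = true := by decide +kernel
theorem chkP_7100 : allRange (fun p => checkPoint cert p && checkOrb cert p) 7100 100 = true := by decide +kernel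
theorem chkP_8100 : allRange (fun p => checkPoint cert p && checkOrb cert p) 8100 100 = true := by decide +kernel
theorem chkP_9100 : allRange (fun p => checkPoint cert p && checkOrb cert p) 9100 100 = true := by decide +kernel
theorem chkP_10100 : allRange (fun p => checkPoint cert p && checkOrb cert p) 10100 100 = true := by decide +kernel
theorem chkP_11100 : allRange (fun p => checkPoint cert p && checkOrb cert p) 11100 100 = true := by decide +kernel
theorem chkP_12100 : allRange (fun p => checkPoint cert p && checkOrb cert p) 12100 100 = true := by decide +kernel
theorem chkP_13100 : allRange (fun p => checkPoint cert p && checkOrb cert p) 13100 100 = true := by decide +kernel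
theorem chkP_14100 : allRange (fun p => checkPoint cert p && checkOrb cert p) 14100 100 = true := by decide +kernel
theorem chkP_15100 : allRange (fun p => checkPoint cert p && checkOrb cert p) 15100 100 = true := by decide +kernel
theorem chkP_16100 : allRange (fun p => checkPoint cert p && checkOrb cert p) 16100 100 = true := by decide +kernel
theorem chkP_17100 : allRange (fun p => checkPoint cert p && checkOrb cert p) 17100 100 = true := by decide +kernel
theorem chkP_18100 : allRange (fun p => checkPoint cert p && checkOrb cert p) 18100 100 = true := by decide +kernel
theorem chkP_19100 : allRange (fun p => checkPoint cert p && checkOrb cert p) 19100 100 = true := by decide +kernel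
theorem chkP_20100 : allRange (fun p => checkPoint cert p && checkOrb cert p) 20100 100 = true := by decide +kernel
theorem chkP_21100 : allRange (fun p => checkPoint cert p && checkOrb cert p) 21100 100 = true := by decide +kernel
theorem chkP_22100 : allRange (fun p => checkPoint cert p && checkOrb cert p) 22100 100 = true := by decide +kernel
theorem chkP_23100 : allRange (fun p => checkPoint cert p && checkOrb cert p) 23100 100 = true := by decide +kernel
theorem chkP_24100 : allRange (fun p => checkPoint cert p && checkOrb cert p) 24100 100 = true := by decide +kernel
theorem chkP_25100 : allRange (fun p => checkPoint cert p && checkOrb cert p) 25100 100 = true := by decide +kernel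
theorem chkP_26100 : allRange (fun p => checkPoint cert p && checkOrb cert p) 26100 100 = true := by decide +kernel
theorem chkP_27100 : allRange (fun p => checkPoint cert p && checkOrb cert p) 27100 100 = true := by decide +kernel
theorem chkP_28100 : allRange (fun p => checkPoint cert p && checkOrb cert p) 28100 100 = true := by decide +kernel
theorem chkP_29100 : allRange (fun p => checkPoint cert p && checkOrb cert p) 29100 100 = true := by decide +kernel
theorem chkP_30100 : allRange (fun p => checkPoint cert p && checkOrb cert p) 30100 100 = true := by decide +kernel
theorem chkP_31100 : allRange (fun p => checkPoint cert p && checkOrb cert p) 31100 100 = true := by decide +kernel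

end Cfsg.Agent.Lib.Helper28.Fi23Data
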