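import Cfsg.Agent.Lib.Helper28.Fi23Data
import Cfsg.Agent.Lib.Helper28.TCSound

set_option autoImplicit false
set_option maxRecDepth 1000000
set_option linter.all false
set_option Elab.async false

namespace Cfsg.Agent.Lib.Helper28.Fi23Data

open Cfsg.Agent.Lib.Helper28

theorem chkF_0 : allRange (checkFact cert) 0 2000 = true := by decide +kernel
theorem chkF_20000 : allRange (checkFact cert) 20000 2000 = true := by decide +kernel
theorem chkF_40000 : allRange (checkFact cert) 40000 2000 = true := by decide +kernel
theorem chkF_60000 : allRange (checkFact cert) 60000 2000 = true := by decide +kernel
theorem chkF_80000 : allRange (checkFact cert) 80000 2000 = true := by decide +kernel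
theorem chkF_100000 : allRange (checkFact cert) 100000 2000 = true := by decide +kernel
theorem chkF_120000 : allRange (checkFact cert) 120000 2000 = true := by decide +kernel
theorem chkF_140000 : allRange (checkFact cert) 140000 2000 = true := by decide +kernel
theorem chkF_160000 : allRange (checkFact cert) 160000 2000 = true := by decide +kernel
theorem chkF_180000 : allRange (checkFact cert) 180000 2000 = true := by decide +kernel
theorem chkF_200000 : allRange (checkFact cert) 200000 2000 = true := by decide +kernel
theorem chkF_220000 : allRange (checkFact cert) 220000 2000 = true := by decide +kernel
theorem chkF_240000 : allRange (checkFact cert) 240000 2000 = true := by decide +kernel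
theorem chkF_260000 : allRange (checkFact cert) 260000 2000 = true := by decide +kernel
theorem chkF_280000 : allRange (checkFact cert) 280000 2000 = true := by decide +kernel
theorem chkF_300000 : allRange (checkFact cert) 300000 2000 = true := by decide +kernel
theorem chkF_320000 : allRange (checkFact cert) 320000 2000 = true := by decide +kernel
theorem chkF_340000 : allRange (checkFact cert) 340000 2000 = true := by decide +kernel
theorem chkF_360000 : allRange (checkFact cert) 360000 2000 = true := by decide +kernel
theorem chkP_200 : allRange (fun p => checkPoint cert p && checkOrb cert p) 200 100 = true := by decide +kernel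
theorem chkP_1200 : allRange (fun p => checkPoint cert p && checkOrb cert p) 1200 100 = true := by decide +kernel
theorem chkP_2200 : allRange (fun p => checkPoint cert p && checkOrb cert p) 2200 100 = true := by decide +kernel
theorem chkP_3200 : allRange (fun p => checkPoint cert p && checkOrb cert p) 3200 100 = true := by decide +kernel
theorem chkP_4200 : allRange (fun p => checkPoint cert p && checkOrb cert p) 4200 100 = true := by decide +kernel
theorem chkP_5200 : allRange (fun p => checkPoint cert p && checkOrb cert p) 5200 100 = true := by decide +kernel
theorem chkP_6200 : allRange (fun p => checkPoint cert p && checkOrb cert p) 6200 100 = true := by decide +kernel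
theorem chkP_7200 : allRange (fun p => checkPoint cert p && checkOrb cert p) 7200 100 = true := by decide +kernel
theorem chkP_8200 : allRange (fun p => checkPoint cert p && checkOrb cert p) 8200 100 = true := by decide +kernel
theorem chkP_9200 : allRange (fun p => checkPoint cert p && checkOrb cert p) 9200 100 = true := by decide +kernel
theorem chkP_10200 : allRange (fun p => checkPoint cert p && checkOrb cert p) 10200 100 = true := by decide +kernel
theorem chkP_11200 : allRange (fun p => checkPoint cert p && checkOrb cert p) 11200 100 = true := by decide +kernel
theorem chkP_12200 : allRange (fun p => checkPoint cert p && checkOrb cert p) 12200 100 = true := by decide +kernel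
theorem chkP_13200 : allRange (fun p => checkPoint cert p && checkOrb cert p) 13200 100 = true := by decide +kernel
theorem chkP_14200 : allRange (fun p => checkPoint cert p && checkOrb cert p) 14200 100 = true := by decide +kernel
theorem chkP_15200 : allRange (fun p => checkPoint cert p && checkOrb cert p) 15200 100 = true := by decide +kernel
theorem chkP_16200 : allRange (fun p => checkPoint cert p && checkOrb cert p) 16200 100 = true := by decide +kernel
theorem chkP_17200 : allRange (fun p => checkPoint cert p && checkOrb cert p) 17200 100 = true := by decide +kernel
theorem chkP_18200 : allRange (fun p => checkPoint cert p && checkOrb cert p) 18200 100 = true := by decide +kernel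
theorem chkP_19200 : allRange (fun p => checkPoint cert p && checkOrb cert p) 19200 100 = true := by decide +kernel
theorem chkP_20200 : allRange (fun p => checkPoint cert p && checkOrb cert p) 20200 100 = true := by decide +kernel
theorem chkP_21200 : allRange (fun p => checkPoint cert p && checkOrb cert p) 21200 100 = true := by decide +kernel
theorem chkP_22200 : allRange (fun p => checkPoint cert p && checkOrb cert p) 22200 100 = true := by decide +kernel
theorem chkP_23200 : allRange (fun p => checkPoint cert p && checkOrb cert p) 23200 100 = true := by decide +kernel
theorem chkP_24200 : allRange (fun p => checkPoint cert p && checkOrb cert p) 24200 100 = true := by decide +kernel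
theorem chkP_25200 : allRange (fun p => checkPoint cert p && checkOrb cert p) 25200 100 = true := by decide +kernel
theorem chkP_26200 : allRange (fun p => checkPoint cert p && checkOrb cert p) 26200 100 = true := by decide +kernel
theorem chkP_27200 : allRange (fun p => checkPoint cert p && checkOrb cert p) 27200 100 = true := by decide +kernel
theorem chkP_28200 : allRange (fun p => checkPoint cert p && checkOrb cert p) 28200 100 = true := by decide +kernel
theorem chkP_29200 : allRange (fun p => checkPoint cert p && checkOrb cert p) 29200 100 = true := by decide +kernel
theorem chkP_30200 : allRange (fun p => checkPoint cert p && checkOrb cert p) 30200 100 = true := by decide +kernel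
theorem chkP_31200 : allRange (fun p => checkPoint cert p && checkOrb cert p) 31200 100 = true := by decide +kernel

end Cfsg.Agent.Lib.Helper28.Fi23Data
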