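import Cfsg.Agent.Lib.Helper28.Fi24Data
import Cfsg.Agent.Lib.Helper28.TCFastFB

set_option autoImplicit false
set_option maxRecDepth 1000000
set_option linter.all false
set_option Elab.async false

namespace Cfsg.Agent.Lib.Helper28.Fi24Data

open Cfsg.Agent.Lib.Helper28B

theorem chkF_990000 : allRangeF (checkFactF cert) (nat_lit 990000) (nat_lit 1000) = true := by decide +kernel
theorem chkF_991000 : allRangeF (checkFactF cert) (nat_lit 991000) (nat_lit 1000) = true := by decide +kernel
theorem chkF_992000 : allRangeF (checkFactF cert) (nat_lit 992000) (nat_lit 1000) = true := by decide +kernel
theorem chkF_993000 : allRangeF (checkFactF cert) (nat_lit 993000) (nat_lit 1000) = true := by decide +kernel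
theorem chkF_994000 : allRangeF (checkFactF cert) (nat_lit 994000) (nat_lit 1000) = true := by decide +kernel
theorem chkF_995000 : allRangeF (checkFactF cert) (nat_lit 995000) (nat_lit 1000) = true := by decide +kernel
theorem chkF_996000 : allRangeF (checkFactF cert) (nat_lit 996000) (nat_lit 1000) = true := by decide +kernel
theorem chkF_997000 : allRangeF (checkFactF cert) (nat_lit 997000) (nat_lit 1000) = true := by decide +kernel
theorem chkF_998000 : allRangeF (checkFactF cert) (nat_lit 998000) (nat_lit 1000) = true := by decide +kernel
theorem chkF_999000 : allRangeF (checkFactF cert) (nat_lit 999000) (nat_lit 1000) = true := by decide +kernel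
theorem chkF_1000000 : allRangeF (checkFactF cert) (nat_lit 1000000) (nat_lit 1000) = true := by decide +kernel
theorem chkF_1001000 : allRangeF (checkFactF cert) (nat_lit 1001000) (nat_lit 1000) = true := by decide +kernel
theorem chkF_1002000 : allRangeF (checkFactF cert) (nat_lit 1002000) (nat_lit 1000) = true := by decide +kernel
theorem chkF_1003000 : allRangeF (checkFactF cert) (nat_lit 1003000) (nat_lit 1000) = true := by decide +kernel
theorem chkF_1004000 : allRangeF (checkFactF cert) (nat_lit 1004000) (nat_lit 1000) = true := by decide +kernel
theorem chkF_1005000 : allRangeF (checkFactF cert) (nat_lit 1005000) (nat_lit 1000) = true := by decide +kernel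
theorem chkF_1006000 : allRangeF (checkFactF cert) (nat_lit 1006000) (nat_lit 1000) = true := by decide +kernel
theorem chkF_1007000 : allRangeF (checkFactF cert) (nat_lit 1007000) (nat_lit 1000) = true := by decide +kernel
theorem chkF_1008000 : allRangeF (checkFactF cert) (nat_lit 1008000) (nat_lit 1000) = true := by decide +kernel
theorem chkF_1009000 : allRangeF (checkFactF cert) (nat_lit 1009000) (nat_lit 1000) = true := by decide +kernel
theorem chkF_1010000 : allRangeF (checkFactF cert) (nat_lit 1010000) (nat_lit 1000) = true := by decide +kernel
theorem chkF_1011000 : allRangeF (checkFactF cert) (nat_lit 1011000) (nat_lit 1000) = true := by decide +kernel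
theorem chkF_1012000 : allRangeF (checkFactF cert) (nat_lit 1012000) (nat_lit 1000) = true := by decide +kernel
theorem chkF_1013000 : allRangeF (checkFactF cert) (nat_lit 1013000) (nat_lit 1000) = true := by decide +kernel
theorem chkF_1014000 : allRangeF (checkFactF cert) (nat_lit 1014000) (nat_lit 1000) = true := by decide +kernel
theorem chkF_1015000 : allRangeF (checkFactF cert) (nat_lit 1015000) (nat_lit 1000) = true := by decide +kernel
theorem chkF_1016000 : allRangeF (checkFactF cert) (nat_lit 1016000) (nat_lit 1000) = true := by decide +kernel
theorem chkF_1017000 : allRangeF (checkFactF cert) (nat_lit 1017000) (nat_lit 1000) = true := by decide +kernel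
theorem chkF_1018000 : allRangeF (checkFactF cert) (nat_lit 1018000) (nat_lit 1000) = true := by decide +kernel
theorem chkF_1019000 : allRangeF (checkFactF cert) (nat_lit 1019000) (nat_lit 1000) = true := by decide +kernel
theorem chkF_1020000 : allRangeF (checkFactF cert) (nat_lit 1020000) (nat_lit 1000) = true := by decide +kernel
theorem chkF_1021000 : allRangeF (checkFactF cert) (nat_lit 1021000) (nat_lit 1000) = true := by decide +kernel
theorem chkF_1022000 : allRangeF (checkFactF cert) (nat_lit 1022000) (nat_lit 1000) = true := by decide +kernel
theorem chkF_1023000 : allRangeF (checkFactF cert) (nat_lit 1023000) (nat_lit 1000) = true := by decide +kernel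
theorem chkF_1024000 : allRangeF (checkFactF cert) (nat_lit 1024000) (nat_lit 1000) = true := by decide +kernel
theorem chkF_1025000 : allRangeF (checkFactF cert) (nat_lit 1025000) (nat_lit 1000) = true := by decide +kernel
theorem chkF_1026000 : allRangeF (checkFactF cert) (nat_lit 1026000) (nat_lit 1000) = true := by decide +kernel
theorem chkF_1027000 : allRangeF (checkFactF cert) (nat_lit 1027000) (nat_lit 1000) = true := by decide +kernel
theorem chkF_1028000 : allRangeF (checkFactF cert) (nat_lit 1028000) (nat_lit 1000) = true := by decide +kernel
theorem chkF_1029000 : allRangeF (checkFactF cert) (nat_lit 1029000) (nat_lit 1000) = true := by decide +kernel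
theorem chkF_1030000 : allRangeF (checkFactF cert) (nat_lit 1030000) (nat_lit 1000) = true := by decide +kernel
theorem chkF_1031000 : allRangeF (checkFactF cert) (nat_lit 1031000) (nat_lit 1000) = true := by decide +kernel
theorem chkF_1032000 : allRangeF (checkFactF cert) (nat_lit 1032000) (nat_lit 1000) = true := by decide +kernel
theorem chkF_1033000 : allRangeF (checkFactF cert) (nat_lit 1033000) (nat_lit 1000) = true := by decide +kernel
theorem chkF_1034000 : allRangeF (checkFactF cert) (nat_lit 1034000) (nat_lit 1000) = true := by decide +kernel
theorem chkF_1035000 : allRangeF (checkFactF cert) (nat_lit 1035000) (nat_lit 1000) = true := by decide +kernel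
theorem chkF_1036000 : allRangeF (checkFactF cert) (nat_lit 1036000) (nat_lit 1000) = true := by decide +kernel
theorem chkF_1037000 : allRangeF (checkFactF cert) (nat_lit 1037000) (nat_lit 1000) = true := by decide +kernel
theorem chkF_1038000 : allRangeF (checkFactF cert) (nat_lit 1038000) (nat_lit 1000) = true := by decide +kernel
theorem chkF_1039000 : allRangeF (checkFactF cert) (nat_lit 1039000) (nat_lit 1000) = true := by decide +kernel
theorem chkF_1040000 : allRangeF (checkFactF cert) (nat_lit 1040000) (nat_lit 1000) = true := by decide +kernel
theorem chkF_1041000 : allRangeF (checkFactF cert) (nat_lit 1041000) (nat_lit 1000) = true := by decide +kernel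
theorem chkF_1042000 : allRangeF (checkFactF cert) (nat_lit 1042000) (nat_lit 1000) = true := by decide +kernel
theorem chkF_1043000 : allRangeF (checkFactF cert) (nat_lit 1043000) (nat_lit 1000) = true := by decide +kernel
theorem chkF_1044000 : allRangeF (checkFactF cert) (nat_lit 1044000) (nat_lit 1000) = true := by decide +kernel
theorem chkF_1045000 : allRangeF (checkFactF cert) (nat_lit 1045000) (nat_lit 1000) = true := by decide +kernel
theorem chkF_1046000 : allRangeF (checkFactF cert) (nat_lit 1046000) (nat_lit 1000) = true := by decide +kernel
theorem chkF_1047000 : allRangeF (checkFactF cert) (nat_lit 1047000) (nat_lit 1000) = true := by decide +kernel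
theorem chkF_1048000 : allRangeF (checkFactF cert) (nat_lit 1048000) (nat_lit 1000) = true := by decide +kernel
theorem chkF_1049000 : allRangeF (checkFactF cert) (nat_lit 1049000) (nat_lit 1000) = true := by decide +kernel
theorem chkF_1050000 : allRangeF (checkFactF cert) (nat_lit 1050000) (nat_lit 1000) = true := by decide +kernel
theorem chkF_1051000 : allRangeF (checkFactF cert) (nat_lit 1051000) (nat_lit 1000) = true := by decide +kernel
theorem chkF_1052000 : allRangeF (checkFactF cert) (nat_lit 1052000) (nat_lit 1000) = true := by decide +kernel
theorem chkF_1053000 : allRangeF (checkFactF cert) (nat_lit 1053000) (nat_lit 1000) = true := by decide +kernel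
theorem chkF_1054000 : allRangeF (checkFactF cert) (nat_lit 1054000) (nat_lit 1000) = true := by decide +kernel
theorem chkF_1055000 : allRangeF (checkFactF cert) (nat_lit 1055000) (nat_lit 1000) = true := by decide +kernel
theorem chkF_1056000 : allRangeF (checkFactF cert) (nat_lit 1056000) (nat_lit 1000) = true := by decide +kernel
theorem chkF_1057000 : allRangeF (checkFactF cert) (nat_lit 1057000) (nat_lit 1000) = true := by decide +kernel
theorem chkF_1058000 : allRangeF (checkFactF cert) (nat_lit 1058000) (nat_lit 1000) = true := by decide +kernel
theorem chkF_1059000 : allRangeF (checkFactF cert) (nat_lit 1059000) (nat_lit 1000) = true := by decide +kernel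
theorem chkF_1060000 : allRangeF (checkFactF cert) (nat_lit 1060000) (nat_lit 1000) = true := by decide +kernel
theorem chkF_1061000 : allRangeF (checkFactF cert) (nat_lit 1061000) (nat_lit 1000) = true := by decide +kernel
theorem chkF_1062000 : allRangeF (checkFactF cert) (nat_lit 1062000) (nat_lit 1000) = true := by decide +kernel
theorem chkF_1063000 : allRangeF (checkFactF cert) (nat_lit 1063000) (nat_lit 1000) = true := by decide +kernel
theorem chkF_1064000 : allRangeF (checkFactF cert) (nat_lit 1064000) (nat_lit 1000) = true := by decide +kernel
theorem chkF_1065000 : allRangeF (checkFactF cert) (nat_lit 1065000) (nat_lit 1000) = true := by decide +kernel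
theorem chkF_1066000 : allRangeF (checkFactF cert) (nat_lit 1066000) (nat_lit 1000) = true := by decide +kernel
theorem chkF_1067000 : allRangeF (checkFactF cert) (nat_lit 1067000) (nat_lit 1000) = true := by decide +kernel
theorem chkF_1068000 : allRangeF (checkFactF cert) (nat_lit 1068000) (nat_lit 1000) = true := by decide +kernel
theorem chkF_1069000 : allRangeF (checkFactF cert) (nat_lit 1069000) (nat_lit 1000) = true := by decide +kernel
theorem chkF_1070000 : allRangeF (checkFactF cert) (nat_lit 1070000) (nat_lit 1000) = true := by decide +kernel
theorem chkF_1071000 : allRangeF (checkFactF cert) (nat_lit 1071000) (nat_lit 1000) = true := by decide +kernel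
theorem chkF_1072000 : allRangeF (checkFactF cert) (nat_lit 1072000) (nat_lit 1000) = true := by decide +kernel
theorem chkF_1073000 : allRangeF (checkFactF cert) (nat_lit 1073000) (nat_lit 1000) = true := by decide +kernel
theorem chkF_1074000 : allRangeF (checkFactF cert) (nat_lit 1074000) (nat_lit 1000) = true := by decide +kernel
theorem chkF_1075000 : allRangeF (checkFactF cert) (nat_lit 1075000) (nat_lit 1000) = true := by decide +kernel
theorem chkF_1076000 : allRangeF (checkFactF cert) (nat_lit 1076000) (nat_lit 1000) = true := by decide +kernel
theorem chkF_1077000 : allRangeF (checkFactF cert) (nat_lit 1077000) (nat_lit 1000) = true := by decide +kernel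
theorem chkF_1078000 : allRangeF (checkFactF cert) (nat_lit 1078000) (nat_lit 1000) = true := by decide +kernel
theorem chkF_1079000 : allRangeF (checkFactF cert) (nat_lit 1079000) (nat_lit 1000) = true := by decide +kernel
theorem chkF_1080000 : allRangeF (checkFactF cert) (nat_lit 1080000) (nat_lit 1000) = true := by decide +kernel
theorem chkF_1081000 : allRangeF (checkFactF cert) (nat_lit 1081000) (nat_lit 1000) = true := by decide +kernel
theorem chkF_1082000 : allRangeF (checkFactF cert) (nat_lit 1082000) (nat_lit 1000) = true := by decide +kernel
theorem chkF_1083000 : allRangeF (checkFactF cert) (nat_lit 1083000) (nat_lit 1000) = true := by decide +kernel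
theorem chkF_1084000 : allRangeF (checkFactF cert) (nat_lit 1084000) (nat_lit 1000) = true := by decide +kernel
theorem chkF_1085000 : allRangeF (checkFactF cert) (nat_lit 1085000) (nat_lit 1000) = true := by decide +kernel
theorem chkF_1086000 : allRangeF (checkFactF cert) (nat_lit 1086000) (nat_lit 1000) = true := by decide +kernel
theorem chkF_1087000 : allRangeF (checkFactF cert) (nat_lit 1087000) (nat_lit 1000) = true := by decide +kernel
theorem chkF_1088000 : allRangeF (checkFactF cert) (nat_lit 1088000) (nat_lit 1000) = true := by decide +kernel

theorem factsRange_10 : ∀ i, 990000 ≤ i → i < 1089000 → checkFact cert i = true := by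
  intro i hlo hhi
  rcases Nat.lt_or_ge i 1039000 with h1 | h1
  · skip
    rcases Nat.lt_or_ge i 1014000 with h2 | h2
    · skip
      rcases Nat.lt_or_ge i 1002000 with h3 | h3
      · skip
        rcases Nat.lt_or_ge i 996000 with h4 | h4
        · skip
          rcases Nat.lt_or_ge i 993000 with h5 | h5
          · skip
            rcases Nat.lt_or_ge i 991000 with h6 | h6
            · skip
              exact allRangeF_sound _ _ (checkFactF_eq cert) 990000 1000 chkF_990000 i (by omega) (by omega)
            · skip
              rcases Nat.lt_or_ge i 992000 with h7 | h7
              · skip
                exact allRangeF_sound _ _ (checkFactF_eq cert) 991000 1000 chkF_991000 i (by omega) (by omega)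
              · skip
                exact allRangeF_sound _ _ (checkFactF_eq cert) 992000 1000 chkF_992000 i (by omega) (by omega)
          · skip
            rcases Nat.lt_or_ge i 994000 with h6 | h6
            · skip
              exact allRangeF_sound _ _ (checkFactF_eq cert) 993000 1000 chkF_993000 i (by omega) (by omega)
            · skip
              rcases Nat.lt_or_ge i 995000 with h7 | h7
              · skip
                exact allRangeF_sound _ _ (checkFactF_eq cert) 994000 1000 chkF_994000 i (by omega) (by omega)
              · skip
                exact allRangeF_sound _ _ (checkFactF_eq cert) 995000 1000 chkF_995000 i (by omega) (by omega)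
        · skip
          rcases Nat.lt_or_ge i 999000 with h5 | h5
          · skip
            rcases Nat.lt_or_ge i 997000 with h6 | h6
            · skip
              exact allRangeF_sound _ _ (checkFactF_eq cert) 996000 1000 chkF_996000 i (by omega) (by omega)
            · skip
              rcases Nat.lt_or_ge i 998000 with h7 | h7
              · skip
                exact allRangeF_sound _ _ (checkFactF_eq cert) 997000 1000 chkF_997000 i (by omega) (by omega)
              · skip
                exact allRangeF_sound _ _ (checkFactF_eq cert) 998000 1000 chkF_998000 i (by omega) (by omega)
          · skip
            rcases Nat.lt_or_ge i 1000000 with h6 | h6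
            · skip
              exact allRangeF_sound _ _ (checkFactF_eq cert) 999000 1000 chkF_999000 i (by omega) (by omega)
            · skip
              rcases Nat.lt_or_ge i 1001000 with h7 | h7
              · skip
                exact allRangeF_sound _ _ (checkFactF_eq cert) 1000000 1000 chkF_1000000 i (by omega) (by omega)
              · skip
                exact allRangeF_sound _ _ (checkFactF_eq cert) 1001000 1000 chkF_1001000 i (by omega) (by omega)
      · skip
        rcases Nat.lt_or_ge i 1008000 with h4 | h4
        · skip
          rcases Nat.lt_or_ge i 1005000 with h5 | h5
          · skip
            rcases Nat.lt_or_ge i 1003000 with h6 | h6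
            · skip
              exact allRangeF_sound _ _ (checkFactF_eq cert) 1002000 1000 chkF_1002000 i (by omega) (by omega)
            · skip
              rcases Nat.lt_or_ge i 1004000 with h7 | h7
              · skip
                exact allRangeF_sound _ _ (checkFactF_eq cert) 1003000 1000 chkF_1003000 i (by omega) (by omega)
              · skip
                exact allRangeF_sound _ _ (checkFactF_eq cert) 1004000 1000 chkF_1004000 i (by omega) (by omega)
          · skip
            rcases Nat.lt_or_ge i 1006000 with h6 | h6
            · skip
              exact allRangeF_sound _ _ (checkFactF_eq cert) 1005000 1000 chkF_1005000 i (by omega) (by omega)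
            · skip
              rcases Nat.lt_or_ge i 1007000 with h7 | h7
              · skip
                exact allRangeF_sound _ _ (checkFactF_eq cert) 1006000 1000 chkF_1006000 i (by omega) (by omega)
              · skip
                exact allRangeF_sound _ _ (checkFactF_eq cert) 1007000 1000 chkF_1007000 i (by omega) (by omega)
        · skip
          rcases Nat.lt_or_ge i 1011000 with h5 | h5
          · skip
            rcases Nat.lt_or_ge i 1009000 with h6 | h6
            · skip
              exact allRangeF_sound _ _ (checkFactF_eq cert) 1008000 1000 chkF_1008000 i (by omega) (by omega)
            · skip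
              rcases Nat.lt_or_ge i 1010000 with h7 | h7
              · skip
                exact allRangeF_sound _ _ (checkFactF_eq cert) 1009000 1000 chkF_1009000 i (by omega) (by omega)
              · skip
                exact allRangeF_sound _ _ (checkFactF_eq cert) 1010000 1000 chkF_1010000 i (by omega) (by omega)
          · skip
            rcases Nat.lt_or_ge i 1012000 with h6 | h6
            · skip
              exact allRangeF_sound _ _ (checkFactF_eq cert) 1011000 1000 chkF_1011000 i (by omega) (by omega)
            · skip
              rcases Nat.lt_or_ge i 1013000 with h7 | h7
              · skip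
                exact allRangeF_sound _ _ (checkFactF_eq cert) 1012000 1000 chkF_1012000 i (by omega) (by omega)
              · skip
                exact allRangeF_sound _ _ (checkFactF_eq cert) 1013000 1000 chkF_1013000 i (by omega) (by omega)
    · skip
      rcases Nat.lt_or_ge i 1026000 with h3 | h3
      · skip
        rcases Nat.lt_or_ge i 1020000 with h4 | h4
        · skip
          rcases Nat.lt_or_ge i 1017000 with h5 | h5
          · skip
            rcases Nat.lt_or_ge i 1015000 with h6 | h6
            · skip
              exact allRangeF_sound _ _ (checkFactF_eq cert) 1014000 1000 chkF_1014000 i (by omega) (by omega)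
            · skip
              rcases Nat.lt_or_ge i 1016000 with h7 | h7
              · skip
                exact allRangeF_sound _ _ (checkFactF_eq cert) 1015000 1000 chkF_1015000 i (by omega) (by omega)
              · skip
                exact allRangeF_sound _ _ (checkFactF_eq cert) 1016000 1000 chkF_1016000 i (by omega) (by omega)
          · skip
            rcases Nat.lt_or_ge i 1018000 with h6 | h6
            · skip
              exact allRangeF_sound _ _ (checkFactF_eq cert) 1017000 1000 chkF_1017000 i (by omega) (by omega)
            · skip
              rcases Nat.lt_or_ge i 1019000 with h7 | h7
              · skip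
                exact allRangeF_sound _ _ (checkFactF_eq cert) 1018000 1000 chkF_1018000 i (by omega) (by omega)
              · skip
                exact allRangeF_sound _ _ (checkFactF_eq cert) 1019000 1000 chkF_1019000 i (by omega) (by omega)
        · skip
          rcases Nat.lt_or_ge i 1023000 with h5 | h5
          · skip
            rcases Nat.lt_or_ge i 1021000 with h6 | h6
            · skip
              exact allRangeF_sound _ _ (checkFactF_eq cert) 1020000 1000 chkF_1020000 i (by omega) (by omega)
            · skip
              rcases Nat.lt_or_ge i 1022000 with h7 | h7
              · skip
                exact allRangeF_sound _ _ (checkFactF_eq cert) 1021000 1000 chkF_1021000 i (by omega) (by omega)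
              · skip
                exact allRangeF_sound _ _ (checkFactF_eq cert) 1022000 1000 chkF_1022000 i (by omega) (by omega)
          · skip
            rcases Nat.lt_or_ge i 1024000 with h6 | h6
            · skip
              exact allRangeF_sound _ _ (checkFactF_eq cert) 1023000 1000 chkF_1023000 i (by omega) (by omega)
            · skip
              rcases Nat.lt_or_ge i 1025000 with h7 | h7
              · skip
                exact allRangeF_sound _ _ (checkFactF_eq cert) 1024000 1000 chkF_1024000 i (by omega) (by omega)
              · skip
                exact allRangeF_sound _ _ (checkFactF_eq cert) 1025000 1000 chkF_1025000 i (by omega) (by omega)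
      · skip
        rcases Nat.lt_or_ge i 1032000 with h4 | h4
        · skip
          rcases Nat.lt_or_ge i 1029000 with h5 | h5
          · skip
            rcases Nat.lt_or_ge i 1027000 with h6 | h6
            · skip
              exact allRangeF_sound _ _ (checkFactF_eq cert) 1026000 1000 chkF_1026000 i (by omega) (by omega)
            · skip
              rcases Nat.lt_or_ge i 1028000 with h7 | h7
              · skip
                exact allRangeF_sound _ _ (checkFactF_eq cert) 1027000 1000 chkF_1027000 i (by omega) (by omega)
              · skip
                exact allRangeF_sound _ _ (checkFactF_eq cert) 1028000 1000 chkF_1028000 i (by omega) (by omega)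
          · skip
            rcases Nat.lt_or_ge i 1030000 with h6 | h6
            · skip
              exact allRangeF_sound _ _ (checkFactF_eq cert) 1029000 1000 chkF_1029000 i (by omega) (by omega)
            · skip
              rcases Nat.lt_or_ge i 1031000 with h7 | h7
              · skip
                exact allRangeF_sound _ _ (checkFactF_eq cert) 1030000 1000 chkF_1030000 i (by omega) (by omega)
              · skip
                exact allRangeF_sound _ _ (checkFactF_eq cert) 1031000 1000 chkF_1031000 i (by omega) (by omega)
        · skip
          rcases Nat.lt_or_ge i 1035000 with h5 | h5
          · skip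
            rcases Nat.lt_or_ge i 1033000 with h6 | h6
            · skip
              exact allRangeF_sound _ _ (checkFactF_eq cert) 1032000 1000 chkF_1032000 i (by omega) (by omega)
            · skip
              rcases Nat.lt_or_ge i 1034000 with h7 | h7
              · skip
                exact allRangeF_sound _ _ (checkFactF_eq cert) 1033000 1000 chkF_1033000 i (by omega) (by omega)
              · skip
                exact allRangeF_sound _ _ (checkFactF_eq cert) 1034000 1000 chkF_1034000 i (by omega) (by omega)
          · skip
            rcases Nat.lt_or_ge i 1037000 with h6 | h6
            · skip
              rcases Nat.lt_or_ge i 1036000 with h7 | h7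
              · skip
                exact allRangeF_sound _ _ (checkFactF_eq cert) 1035000 1000 chkF_1035000 i (by omega) (by omega)
              · skip
                exact allRangeF_sound _ _ (checkFactF_eq cert) 1036000 1000 chkF_1036000 i (by omega) (by omega)
            · skip
              rcases Nat.lt_or_ge i 1038000 with h7 | h7
              · skip
                exact allRangeF_sound _ _ (checkFactF_eq cert) 1037000 1000 chkF_1037000 i (by omega) (by omega)
              · skip
                exact allRangeF_sound _ _ (checkFactF_eq cert) 1038000 1000 chkF_1038000 i (by omega) (by omega)
  · skip
    rcases Nat.lt_or_ge i 1064000 with h2 | h2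
    · skip
      rcases Nat.lt_or_ge i 1051000 with h3 | h3
      · skip
        rcases Nat.lt_or_ge i 1045000 with h4 | h4
        · skip
          rcases Nat.lt_or_ge i 1042000 with h5 | h5
          · skip
            rcases Nat.lt_or_ge i 1040000 with h6 | h6
            · skip
              exact allRangeF_sound _ _ (checkFactF_eq cert) 1039000 1000 chkF_1039000 i (by omega) (by omega)
            · skip
              rcases Nat.lt_or_ge i 1041000 with h7 | h7
              · skip
                exact allRangeF_sound _ _ (checkFactF_eq cert) 1040000 1000 chkF_1040000 i (by omega) (by omega)
              · skip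
                exact allRangeF_sound _ _ (checkFactF_eq cert) 1041000 1000 chkF_1041000 i (by omega) (by omega)
          · skip
            rcases Nat.lt_or_ge i 1043000 with h6 | h6
            · skip
              exact allRangeF_sound _ _ (checkFactF_eq cert) 1042000 1000 chkF_1042000 i (by omega) (by omega)
            · skip
              rcases Nat.lt_or_ge i 1044000 with h7 | h7
              · skip
                exact allRangeF_sound _ _ (checkFactF_eq cert) 1043000 1000 chkF_1043000 i (by omega) (by omega)
              · skip
                exact allRangeF_sound _ _ (checkFactF_eq cert) 1044000 1000 chkF_1044000 i (by omega) (by omega)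
        · skip
          rcases Nat.lt_or_ge i 1048000 with h5 | h5
          · skip
            rcases Nat.lt_or_ge i 1046000 with h6 | h6
            · skip
              exact allRangeF_sound _ _ (checkFactF_eq cert) 1045000 1000 chkF_1045000 i (by omega) (by omega)
            · skip
              rcases Nat.lt_or_ge i 1047000 with h7 | h7
              · skip
                exact allRangeF_sound _ _ (checkFactF_eq cert) 1046000 1000 chkF_1046000 i (by omega) (by omega)
              · skip
                exact allRangeF_sound _ _ (checkFactF_eq cert) 1047000 1000 chkF_1047000 i (by omega) (by omega)
          · skip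
            rcases Nat.lt_or_ge i 1049000 with h6 | h6
            · skip
              exact allRangeF_sound _ _ (checkFactF_eq cert) 1048000 1000 chkF_1048000 i (by omega) (by omega)
            · skip
              rcases Nat.lt_or_ge i 1050000 with h7 | h7
              · skip
                exact allRangeF_sound _ _ (checkFactF_eq cert) 1049000 1000 chkF_1049000 i (by omega) (by omega)
              · skip
                exact allRangeF_sound _ _ (checkFactF_eq cert) 1050000 1000 chkF_1050000 i (by omega) (by omega)
      · skip
        rcases Nat.lt_or_ge i 1057000 with h4 | h4
        · skip
          rcases Nat.lt_or_ge i 1054000 with h5 | h5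
          · skip
            rcases Nat.lt_or_ge i 1052000 with h6 | h6
            · skip
              exact allRangeF_sound _ _ (checkFactF_eq cert) 1051000 1000 chkF_1051000 i (by omega) (by omega)
            · skip
              rcases Nat.lt_or_ge i 1053000 with h7 | h7
              · skip
                exact allRangeF_sound _ _ (checkFactF_eq cert) 1052000 1000 chkF_1052000 i (by omega) (by omega)
              · skip
                exact allRangeF_sound _ _ (checkFactF_eq cert) 1053000 1000 chkF_1053000 i (by omega) (by omega)
          · skip
            rcases Nat.lt_or_ge i 1055000 with h6 | h6
            · skip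
              exact allRangeF_sound _ _ (checkFactF_eq cert) 1054000 1000 chkF_1054000 i (by omega) (by omega)
            · skip
              rcases Nat.lt_or_ge i 1056000 with h7 | h7
              · skip
                exact allRangeF_sound _ _ (checkFactF_eq cert) 1055000 1000 chkF_1055000 i (by omega) (by omega)
              · skip
                exact allRangeF_sound _ _ (checkFactF_eq cert) 1056000 1000 chkF_1056000 i (by omega) (by omega)
        · skip
          rcases Nat.lt_or_ge i 1060000 with h5 | h5
          · skip
            rcases Nat.lt_or_ge i 1058000 with h6 | h6
            · skip
              exact allRangeF_sound _ _ (checkFactF_eq cert) 1057000 1000 chkF_1057000 i (by omega) (by omega)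
            · skip
              rcases Nat.lt_or_ge i 1059000 with h7 | h7
              · skip
                exact allRangeF_sound _ _ (checkFactF_eq cert) 1058000 1000 chkF_1058000 i (by omega) (by omega)
              · skip
                exact allRangeF_sound _ _ (checkFactF_eq cert) 1059000 1000 chkF_1059000 i (by omega) (by omega)
          · skip
            rcases Nat.lt_or_ge i 1062000 with h6 | h6
            · skip
              rcases Nat.lt_or_ge i 1061000 with h7 | h7
              · skip
                exact allRangeF_sound _ _ (checkFactF_eq cert) 1060000 1000 chkF_1060000 i (by omega) (by omega)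
              · skip
                exact allRangeF_sound _ _ (checkFactF_eq cert) 1061000 1000 chkF_1061000 i (by omega) (by omega)
            · skip
              rcases Nat.lt_or_ge i 1063000 with h7 | h7
              · skip
                exact allRangeF_sound _ _ (checkFactF_eq cert) 1062000 1000 chkF_1062000 i (by omega) (by omega)
              · skip
                exact allRangeF_sound _ _ (checkFactF_eq cert) 1063000 1000 chkF_1063000 i (by omega) (by omega)
    · skip
      rcases Nat.lt_or_ge i 1076000 with h3 | h3
      · skip
        rcases Nat.lt_or_ge i 1070000 with h4 | h4
        · skip
          rcases Nat.lt_or_ge i 1067000 with h5 | h5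
          · skip
            rcases Nat.lt_or_ge i 1065000 with h6 | h6
            · skip
              exact allRangeF_sound _ _ (checkFactF_eq cert) 1064000 1000 chkF_1064000 i (by omega) (by omega)
            · skip
              rcases Nat.lt_or_ge i 1066000 with h7 | h7
              · skip
                exact allRangeF_sound _ _ (checkFactF_eq cert) 1065000 1000 chkF_1065000 i (by omega) (by omega)
              · skip
                exact allRangeF_sound _ _ (checkFactF_eq cert) 1066000 1000 chkF_1066000 i (by omega) (by omega)
          · skip
            rcases Nat.lt_or_ge i 1068000 with h6 | h6
            · skip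
              exact allRangeF_sound _ _ (checkFactF_eq cert) 1067000 1000 chkF_1067000 i (by omega) (by omega)
            · skip
              rcases Nat.lt_or_ge i 1069000 with h7 | h7
              · skip
                exact allRangeF_sound _ _ (checkFactF_eq cert) 1068000 1000 chkF_1068000 i (by omega) (by omega)
              · skip
                exact allRangeF_sound _ _ (checkFactF_eq cert) 1069000 1000 chkF_1069000 i (by omega) (by omega)
        · skip
          rcases Nat.lt_or_ge i 1073000 with h5 | h5
          · skip
            rcases Nat.lt_or_ge i 1071000 with h6 | h6
            · skip
              exact allRangeF_sound _ _ (checkFactF_eq cert) 1070000 1000 chkF_1070000 i (by omega) (by omega)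
            · skip
              rcases Nat.lt_or_ge i 1072000 with h7 | h7
              · skip
                exact allRangeF_sound _ _ (checkFactF_eq cert) 1071000 1000 chkF_1071000 i (by omega) (by omega)
              · skip
                exact allRangeF_sound _ _ (checkFactF_eq cert) 1072000 1000 chkF_1072000 i (by omega) (by omega)
          · skip
            rcases Nat.lt_or_ge i 1074000 with h6 | h6
            · skip
              exact allRangeF_sound _ _ (checkFactF_eq cert) 1073000 1000 chkF_1073000 i (by omega) (by omega)
            · skip
              rcases Nat.lt_or_ge i 1075000 with h7 | h7
              · skip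
                exact allRangeF_sound _ _ (checkFactF_eq cert) 1074000 1000 chkF_1074000 i (by omega) (by omega)
              · skip
                exact allRangeF_sound _ _ (checkFactF_eq cert) 1075000 1000 chkF_1075000 i (by omega) (by omega)
      · skip
        rcases Nat.lt_or_ge i 1082000 with h4 | h4
        · skip
          rcases Nat.lt_or_ge i 1079000 with h5 | h5
          · skip
            rcases Nat.lt_or_ge i 1077000 with h6 | h6
            · skip
              exact allRangeF_sound _ _ (checkFactF_eq cert) 1076000 1000 chkF_1076000 i (by omega) (by omega)
            · skip
              rcases Nat.lt_or_ge i 1078000 with h7 | h7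
              · skip
                exact allRangeF_sound _ _ (checkFactF_eq cert) 1077000 1000 chkF_1077000 i (by omega) (by omega)
              · skip
                exact allRangeF_sound _ _ (checkFactF_eq cert) 1078000 1000 chkF_1078000 i (by omega) (by omega)
          · skip
            rcases Nat.lt_or_ge i 1080000 with h6 | h6
            · skip
              exact allRangeF_sound _ _ (checkFactF_eq cert) 1079000 1000 chkF_1079000 i (by omega) (by omega)
            · skip
              rcases Nat.lt_or_ge i 1081000 with h7 | h7
              · skip
                exact allRangeF_sound _ _ (checkFactF_eq cert) 1080000 1000 chkF_1080000 i (by omega) (by omega)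
              · skip
                exact allRangeF_sound _ _ (checkFactF_eq cert) 1081000 1000 chkF_1081000 i (by omega) (by omega)
        · skip
          rcases Nat.lt_or_ge i 1085000 with h5 | h5
          · skip
            rcases Nat.lt_or_ge i 1083000 with h6 | h6
            · skip
              exact allRangeF_sound _ _ (checkFactF_eq cert) 1082000 1000 chkF_1082000 i (by omega) (by omega)
            · skip
              rcases Nat.lt_or_ge i 1084000 with h7 | h7
              · skip
                exact allRangeF_sound _ _ (checkFactF_eq cert) 1083000 1000 chkF_1083000 i (by omega) (by omega)
              · skip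
                exact allRangeF_sound _ _ (checkFactF_eq cert) 1084000 1000 chkF_1084000 i (by omega) (by omega)
          · skip
            rcases Nat.lt_or_ge i 1087000 with h6 | h6
            · skip
              rcases Nat.lt_or_ge i 1086000 with h7 | h7
              · skip
                exact allRangeF_sound _ _ (checkFactF_eq cert) 1085000 1000 chkF_1085000 i (by omega) (by omega)
              · skip
                exact allRangeF_sound _ _ (checkFactF_eq cert) 1086000 1000 chkF_1086000 i (by omega) (by omega)
            · skip
              rcases Nat.lt_or_ge i 1088000 with h7 | h7
              · skip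
                exact allRangeF_sound _ _ (checkFactF_eq cert) 1087000 1000 chkF_1087000 i (by omega) (by omega)
              · skip
                exact allRangeF_sound _ _ (checkFactF_eq cert) 1088000 1000 chkF_1088000 i (by omega) (by omega)

end Cfsg.Agent.Lib.Helper28.Fi24Data
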