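import Cfsg.Agent.Lib.Helper28.Fi24Data
import Cfsg.Agent.Lib.Helper28.TCFastFB

set_option autoImplicit false
set_option maxRecDepth 1000000
set_option linter.all false
set_option Elab.async false

namespace Cfsg.Agent.Lib.Helper28.Fi24Data

open Cfsg.Agent.Lib.Helper28B

theorem chkF_1089000 : allRangeF (checkFactF cert) (nat_lit 1089000) (nat_lit 1000) = true := by decide +kernel
theorem chkF_1090000 : allRangeF (checkFactF cert) (nat_lit 1090000) (nat_lit 1000) = true := by decide +kernel
theorem chkF_1091000 : allRangeF (checkFactF cert) (nat_lit 1091000) (nat_lit 1000) = true := by decide +kernel
theorem chkF_1092000 : allRangeF (checkFactF cert) (nat_lit 1092000) (nat_lit 1000) = true := by decide +kernel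
theorem chkF_1093000 : allRangeF (checkFactF cert) (nat_lit 1093000) (nat_lit 1000) = true := by decide +kernel
theorem chkF_1094000 : allRangeF (checkFactF cert) (nat_lit 1094000) (nat_lit 1000) = true := by decide +kernel
theorem chkF_1095000 : allRangeF (checkFactF cert) (nat_lit 1095000) (nat_lit 1000) = true := by decide +kernel
theorem chkF_1096000 : allRangeF (checkFactF cert) (nat_lit 1096000) (nat_lit 1000) = true := by decide +kernel
theorem chkF_1097000 : allRangeF (checkFactF cert) (nat_lit 1097000) (nat_lit 1000) = true := by decide +kernel
theorem chkF_1098000 : allRangeF (checkFactF cert) (nat_lit 1098000) (nat_lit 1000) = true := by decide +kernel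
theorem chkF_1099000 : allRangeF (checkFactF cert) (nat_lit 1099000) (nat_lit 1000) = true := by decide +kernel
theorem chkF_1100000 : allRangeF (checkFactF cert) (nat_lit 1100000) (nat_lit 1000) = true := by decide +kernel
theorem chkF_1101000 : allRangeF (checkFactF cert) (nat_lit 1101000) (nat_lit 1000) = true := by decide +kernel
theorem chkF_1102000 : allRangeF (checkFactF cert) (nat_lit 1102000) (nat_lit 1000) = true := by decide +kernel
theorem chkF_1103000 : allRangeF (checkFactF cert) (nat_lit 1103000) (nat_lit 1000) = true := by decide +kernel
theorem chkF_1104000 : allRangeF (checkFactF cert) (nat_lit 1104000) (nat_lit 1000) = true := by decide +kernel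
theorem chkF_1105000 : allRangeF (checkFactF cert) (nat_lit 1105000) (nat_lit 1000) = true := by decide +kernel
theorem chkF_1106000 : allRangeF (checkFactF cert) (nat_lit 1106000) (nat_lit 1000) = true := by decide +kernel
theorem chkF_1107000 : allRangeF (checkFactF cert) (nat_lit 1107000) (nat_lit 1000) = true := by decide +kernel
theorem chkF_1108000 : allRangeF (checkFactF cert) (nat_lit 1108000) (nat_lit 1000) = true := by decide +kernel
theorem chkF_1109000 : allRangeF (checkFactF cert) (nat_lit 1109000) (nat_lit 1000) = true := by decide +kernel
theorem chkF_1110000 : allRangeF (checkFactF cert) (nat_lit 1110000) (nat_lit 1000) = true := by decide +kernel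
theorem chkF_1111000 : allRangeF (checkFactF cert) (nat_lit 1111000) (nat_lit 1000) = true := by decide +kernel
theorem chkF_1112000 : allRangeF (checkFactF cert) (nat_lit 1112000) (nat_lit 1000) = true := by decide +kernel
theorem chkF_1113000 : allRangeF (checkFactF cert) (nat_lit 1113000) (nat_lit 1000) = true := by decide +kernel
theorem chkF_1114000 : allRangeF (checkFactF cert) (nat_lit 1114000) (nat_lit 1000) = true := by decide +kernel
theorem chkF_1115000 : allRangeF (checkFactF cert) (nat_lit 1115000) (nat_lit 1000) = true := by decide +kernel
theorem chkF_1116000 : allRangeF (checkFactF cert) (nat_lit 1116000) (nat_lit 1000) = true := by decide +kernel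
theorem chkF_1117000 : allRangeF (checkFactF cert) (nat_lit 1117000) (nat_lit 1000) = true := by decide +kernel
theorem chkF_1118000 : allRangeF (checkFactF cert) (nat_lit 1118000) (nat_lit 1000) = true := by decide +kernel
theorem chkF_1119000 : allRangeF (checkFactF cert) (nat_lit 1119000) (nat_lit 1000) = true := by decide +kernel
theorem chkF_1120000 : allRangeF (checkFactF cert) (nat_lit 1120000) (nat_lit 1000) = true := by decide +kernel
theorem chkF_1121000 : allRangeF (checkFactF cert) (nat_lit 1121000) (nat_lit 1000) = true := by decide +kernel
theorem chkF_1122000 : allRangeF (checkFactF cert) (nat_lit 1122000) (nat_lit 1000) = true := by decide +kernel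
theorem chkF_1123000 : allRangeF (checkFactF cert) (nat_lit 1123000) (nat_lit 1000) = true := by decide +kernel
theorem chkF_1124000 : allRangeF (checkFactF cert) (nat_lit 1124000) (nat_lit 1000) = true := by decide +kernel
theorem chkF_1125000 : allRangeF (checkFactF cert) (nat_lit 1125000) (nat_lit 1000) = true := by decide +kernel
theorem chkF_1126000 : allRangeF (checkFactF cert) (nat_lit 1126000) (nat_lit 1000) = true := by decide +kernel
theorem chkF_1127000 : allRangeF (checkFactF cert) (nat_lit 1127000) (nat_lit 1000) = true := by decide +kernel
theorem chkF_1128000 : allRangeF (checkFactF cert) (nat_lit 1128000) (nat_lit 1000) = true := by decide +kernel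
theorem chkF_1129000 : allRangeF (checkFactF cert) (nat_lit 1129000) (nat_lit 1000) = true := by decide +kernel
theorem chkF_1130000 : allRangeF (checkFactF cert) (nat_lit 1130000) (nat_lit 1000) = true := by decide +kernel
theorem chkF_1131000 : allRangeF (checkFactF cert) (nat_lit 1131000) (nat_lit 1000) = true := by decide +kernel
theorem chkF_1132000 : allRangeF (checkFactF cert) (nat_lit 1132000) (nat_lit 1000) = true := by decide +kernel
theorem chkF_1133000 : allRangeF (checkFactF cert) (nat_lit 1133000) (nat_lit 1000) = true := by decide +kernel
theorem chkF_1134000 : allRangeF (checkFactF cert) (nat_lit 1134000) (nat_lit 1000) = true := by decide +kernel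
theorem chkF_1135000 : allRangeF (checkFactF cert) (nat_lit 1135000) (nat_lit 1000) = true := by decide +kernel
theorem chkF_1136000 : allRangeF (checkFactF cert) (nat_lit 1136000) (nat_lit 1000) = true := by decide +kernel
theorem chkF_1137000 : allRangeF (checkFactF cert) (nat_lit 1137000) (nat_lit 1000) = true := by decide +kernel
theorem chkF_1138000 : allRangeF (checkFactF cert) (nat_lit 1138000) (nat_lit 1000) = true := by decide +kernel
theorem chkF_1139000 : allRangeF (checkFactF cert) (nat_lit 1139000) (nat_lit 1000) = true := by decide +kernel
theorem chkF_1140000 : allRangeF (checkFactF cert) (nat_lit 1140000) (nat_lit 1000) = true := by decide +kernel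
theorem chkF_1141000 : allRangeF (checkFactF cert) (nat_lit 1141000) (nat_lit 1000) = true := by decide +kernel
theorem chkF_1142000 : allRangeF (checkFactF cert) (nat_lit 1142000) (nat_lit 1000) = true := by decide +kernel
theorem chkF_1143000 : allRangeF (checkFactF cert) (nat_lit 1143000) (nat_lit 1000) = true := by decide +kernel
theorem chkF_1144000 : allRangeF (checkFactF cert) (nat_lit 1144000) (nat_lit 1000) = true := by decide +kernel
theorem chkF_1145000 : allRangeF (checkFactF cert) (nat_lit 1145000) (nat_lit 1000) = true := by decide +kernel
theorem chkF_1146000 : allRangeF (checkFactF cert) (nat_lit 1146000) (nat_lit 1000) = true := by decide +kernel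
theorem chkF_1147000 : allRangeF (checkFactF cert) (nat_lit 1147000) (nat_lit 1000) = true := by decide +kernel
theorem chkF_1148000 : allRangeF (checkFactF cert) (nat_lit 1148000) (nat_lit 1000) = true := by decide +kernel
theorem chkF_1149000 : allRangeF (checkFactF cert) (nat_lit 1149000) (nat_lit 1000) = true := by decide +kernel
theorem chkF_1150000 : allRangeF (checkFactF cert) (nat_lit 1150000) (nat_lit 1000) = true := by decide +kernel
theorem chkF_1151000 : allRangeF (checkFactF cert) (nat_lit 1151000) (nat_lit 1000) = true := by decide +kernel
theorem chkF_1152000 : allRangeF (checkFactF cert) (nat_lit 1152000) (nat_lit 1000) = true := by decide +kernel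
theorem chkF_1153000 : allRangeF (checkFactF cert) (nat_lit 1153000) (nat_lit 1000) = true := by decide +kernel
theorem chkF_1154000 : allRangeF (checkFactF cert) (nat_lit 1154000) (nat_lit 1000) = true := by decide +kernel
theorem chkF_1155000 : allRangeF (checkFactF cert) (nat_lit 1155000) (nat_lit 1000) = true := by decide +kernel
theorem chkF_1156000 : allRangeF (checkFactF cert) (nat_lit 1156000) (nat_lit 1000) = true := by decide +kernel
theorem chkF_1157000 : allRangeF (checkFactF cert) (nat_lit 1157000) (nat_lit 1000) = true := by decide +kernel
theorem chkF_1158000 : allRangeF (checkFactF cert) (nat_lit 1158000) (nat_lit 1000) = true := by decide +kernel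
theorem chkF_1159000 : allRangeF (checkFactF cert) (nat_lit 1159000) (nat_lit 1000) = true := by decide +kernel
theorem chkF_1160000 : allRangeF (checkFactF cert) (nat_lit 1160000) (nat_lit 1000) = true := by decide +kernel
theorem chkF_1161000 : allRangeF (checkFactF cert) (nat_lit 1161000) (nat_lit 1000) = true := by decide +kernel
theorem chkF_1162000 : allRangeF (checkFactF cert) (nat_lit 1162000) (nat_lit 1000) = true := by decide +kernel
theorem chkF_1163000 : allRangeF (checkFactF cert) (nat_lit 1163000) (nat_lit 1000) = true := by decide +kernel
theorem chkF_1164000 : allRangeF (checkFactF cert) (nat_lit 1164000) (nat_lit 1000) = true := by decide +kernel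
theorem chkF_1165000 : allRangeF (checkFactF cert) (nat_lit 1165000) (nat_lit 1000) = true := by decide +kernel
theorem chkF_1166000 : allRangeF (checkFactF cert) (nat_lit 1166000) (nat_lit 1000) = true := by decide +kernel
theorem chkF_1167000 : allRangeF (checkFactF cert) (nat_lit 1167000) (nat_lit 1000) = true := by decide +kernel
theorem chkF_1168000 : allRangeF (checkFactF cert) (nat_lit 1168000) (nat_lit 1000) = true := by decide +kernel
theorem chkF_1169000 : allRangeF (checkFactF cert) (nat_lit 1169000) (nat_lit 1000) = true := by decide +kernel
theorem chkF_1170000 : allRangeF (checkFactF cert) (nat_lit 1170000) (nat_lit 1000) = true := by decide +kernel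
theorem chkF_1171000 : allRangeF (checkFactF cert) (nat_lit 1171000) (nat_lit 1000) = true := by decide +kernel
theorem chkF_1172000 : allRangeF (checkFactF cert) (nat_lit 1172000) (nat_lit 1000) = true := by decide +kernel
theorem chkF_1173000 : allRangeF (checkFactF cert) (nat_lit 1173000) (nat_lit 1000) = true := by decide +kernel
theorem chkF_1174000 : allRangeF (checkFactF cert) (nat_lit 1174000) (nat_lit 1000) = true := by decide +kernel
theorem chkF_1175000 : allRangeF (checkFactF cert) (nat_lit 1175000) (nat_lit 1000) = true := by decide +kernel
theorem chkF_1176000 : allRangeF (checkFactF cert) (nat_lit 1176000) (nat_lit 1000) = true := by decide +kernel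
theorem chkF_1177000 : allRangeF (checkFactF cert) (nat_lit 1177000) (nat_lit 1000) = true := by decide +kernel
theorem chkF_1178000 : allRangeF (checkFactF cert) (nat_lit 1178000) (nat_lit 1000) = true := by decide +kernel
theorem chkF_1179000 : allRangeF (checkFactF cert) (nat_lit 1179000) (nat_lit 1000) = true := by decide +kernel
theorem chkF_1180000 : allRangeF (checkFactF cert) (nat_lit 1180000) (nat_lit 1000) = true := by decide +kernel
theorem chkF_1181000 : allRangeF (checkFactF cert) (nat_lit 1181000) (nat_lit 1000) = true := by decide +kernel
theorem chkF_1182000 : allRangeF (checkFactF cert) (nat_lit 1182000) (nat_lit 1000) = true := by decide +kernel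
theorem chkF_1183000 : allRangeF (checkFactF cert) (nat_lit 1183000) (nat_lit 1000) = true := by decide +kernel
theorem chkF_1184000 : allRangeF (checkFactF cert) (nat_lit 1184000) (nat_lit 1000) = true := by decide +kernel
theorem chkF_1185000 : allRangeF (checkFactF cert) (nat_lit 1185000) (nat_lit 1000) = true := by decide +kernel
theorem chkF_1186000 : allRangeF (checkFactF cert) (nat_lit 1186000) (nat_lit 1000) = true := by decide +kernel
theorem chkF_1187000 : allRangeF (checkFactF cert) (nat_lit 1187000) (nat_lit 1000) = true := by decide +kernel

theorem factsRange_11 : ∀ i, 1089000 ≤ i → i < 1188000 → checkFact cert i = true := by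
  intro i hlo hhi
  rcases Nat.lt_or_ge i 1138000 with h1 | h1
  · skip
    rcases Nat.lt_or_ge i 1113000 with h2 | h2
    · skip
      rcases Nat.lt_or_ge i 1101000 with h3 | h3
      · skip
        rcases Nat.lt_or_ge i 1095000 with h4 | h4
        · skip
          rcases Nat.lt_or_ge i 1092000 with h5 | h5
          · skip
            rcases Nat.lt_or_ge i 1090000 with h6 | h6
            · skip
              exact allRangeF_sound _ _ (checkFactF_eq cert) 1089000 1000 chkF_1089000 i (by omega) (by omega)
            · skip
              rcases Nat.lt_or_ge i 1091000 with h7 | h7
              · skip
                exact allRangeF_sound _ _ (checkFactF_eq cert) 1090000 1000 chkF_1090000 i (by omega) (by omega)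
              · skip
                exact allRangeF_sound _ _ (checkFactF_eq cert) 1091000 1000 chkF_1091000 i (by omega) (by omega)
          · skip
            rcases Nat.lt_or_ge i 1093000 with h6 | h6
            · skip
              exact allRangeF_sound _ _ (checkFactF_eq cert) 1092000 1000 chkF_1092000 i (by omega) (by omega)
            · skip
              rcases Nat.lt_or_ge i 1094000 with h7 | h7
              · skip
                exact allRangeF_sound _ _ (checkFactF_eq cert) 1093000 1000 chkF_1093000 i (by omega) (by omega)
              · skip
                exact allRangeF_sound _ _ (checkFactF_eq cert) 1094000 1000 chkF_1094000 i (by omega) (by omega)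
        · skip
          rcases Nat.lt_or_ge i 1098000 with h5 | h5
          · skip
            rcases Nat.lt_or_ge i 1096000 with h6 | h6
            · skip
              exact allRangeF_sound _ _ (checkFactF_eq cert) 1095000 1000 chkF_1095000 i (by omega) (by omega)
            · skip
              rcases Nat.lt_or_ge i 1097000 with h7 | h7
              · skip
                exact allRangeF_sound _ _ (checkFactF_eq cert) 1096000 1000 chkF_1096000 i (by omega) (by omega)
              · skip
                exact allRangeF_sound _ _ (checkFactF_eq cert) 1097000 1000 chkF_1097000 i (by omega) (by omega)
          · skip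
            rcases Nat.lt_or_ge i 1099000 with h6 | h6
            · skip
              exact allRangeF_sound _ _ (checkFactF_eq cert) 1098000 1000 chkF_1098000 i (by omega) (by omega)
            · skip
              rcases Nat.lt_or_ge i 1100000 with h7 | h7
              · skip
                exact allRangeF_sound _ _ (checkFactF_eq cert) 1099000 1000 chkF_1099000 i (by omega) (by omega)
              · skip
                exact allRangeF_sound _ _ (checkFactF_eq cert) 1100000 1000 chkF_1100000 i (by omega) (by omega)
      · skip
        rcases Nat.lt_or_ge i 1107000 with h4 | h4
        · skip
          rcases Nat.lt_or_ge i 1104000 with h5 | h5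
          · skip
            rcases Nat.lt_or_ge i 1102000 with h6 | h6
            · skip
              exact allRangeF_sound _ _ (checkFactF_eq cert) 1101000 1000 chkF_1101000 i (by omega) (by omega)
            · skip
              rcases Nat.lt_or_ge i 1103000 with h7 | h7
              · skip
                exact allRangeF_sound _ _ (checkFactF_eq cert) 1102000 1000 chkF_1102000 i (by omega) (by omega)
              · skip
                exact allRangeF_sound _ _ (checkFactF_eq cert) 1103000 1000 chkF_1103000 i (by omega) (by omega)
          · skip
            rcases Nat.lt_or_ge i 1105000 with h6 | h6
            · skip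
              exact allRangeF_sound _ _ (checkFactF_eq cert) 1104000 1000 chkF_1104000 i (by omega) (by omega)
            · skip
              rcases Nat.lt_or_ge i 1106000 with h7 | h7
              · skip
                exact allRangeF_sound _ _ (checkFactF_eq cert) 1105000 1000 chkF_1105000 i (by omega) (by omega)
              · skip
                exact allRangeF_sound _ _ (checkFactF_eq cert) 1106000 1000 chkF_1106000 i (by omega) (by omega)
        · skip
          rcases Nat.lt_or_ge i 1110000 with h5 | h5
          · skip
            rcases Nat.lt_or_ge i 1108000 with h6 | h6
            · skip
              exact allRangeF_sound _ _ (checkFactF_eq cert) 1107000 1000 chkF_1107000 i (by omega) (by omega)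
            · skip
              rcases Nat.lt_or_ge i 1109000 with h7 | h7
              · skip
                exact allRangeF_sound _ _ (checkFactF_eq cert) 1108000 1000 chkF_1108000 i (by omega) (by omega)
              · skip
                exact allRangeF_sound _ _ (checkFactF_eq cert) 1109000 1000 chkF_1109000 i (by omega) (by omega)
          · skip
            rcases Nat.lt_or_ge i 1111000 with h6 | h6
            · skip
              exact allRangeF_sound _ _ (checkFactF_eq cert) 1110000 1000 chkF_1110000 i (by omega) (by omega)
            · skip
              rcases Nat.lt_or_ge i 1112000 with h7 | h7
              · skip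
                exact allRangeF_sound _ _ (checkFactF_eq cert) 1111000 1000 chkF_1111000 i (by omega) (by omega)
              · skip
                exact allRangeF_sound _ _ (checkFactF_eq cert) 1112000 1000 chkF_1112000 i (by omega) (by omega)
    · skip
      rcases Nat.lt_or_ge i 1125000 with h3 | h3
      · skip
        rcases Nat.lt_or_ge i 1119000 with h4 | h4
        · skip
          rcases Nat.lt_or_ge i 1116000 with h5 | h5
          · skip
            rcases Nat.lt_or_ge i 1114000 with h6 | h6
            · skip
              exact allRangeF_sound _ _ (checkFactF_eq cert) 1113000 1000 chkF_1113000 i (by omega) (by omega)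
            · skip
              rcases Nat.lt_or_ge i 1115000 with h7 | h7
              · skip
                exact allRangeF_sound _ _ (checkFactF_eq cert) 1114000 1000 chkF_1114000 i (by omega) (by omega)
              · skip
                exact allRangeF_sound _ _ (checkFactF_eq cert) 1115000 1000 chkF_1115000 i (by omega) (by omega)
          · skip
            rcases Nat.lt_or_ge i 1117000 with h6 | h6
            · skip
              exact allRangeF_sound _ _ (checkFactF_eq cert) 1116000 1000 chkF_1116000 i (by omega) (by omega)
            · skip
              rcases Nat.lt_or_ge i 1118000 with h7 | h7
              · skip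
                exact allRangeF_sound _ _ (checkFactF_eq cert) 1117000 1000 chkF_1117000 i (by omega) (by omega)
              · skip
                exact allRangeF_sound _ _ (checkFactF_eq cert) 1118000 1000 chkF_1118000 i (by omega) (by omega)
        · skip
          rcases Nat.lt_or_ge i 1122000 with h5 | h5
          · skip
            rcases Nat.lt_or_ge i 1120000 with h6 | h6
            · skip
              exact allRangeF_sound _ _ (checkFactF_eq cert) 1119000 1000 chkF_1119000 i (by omega) (by omega)
            · skip
              rcases Nat.lt_or_ge i 1121000 with h7 | h7
              · skip
                exact allRangeF_sound _ _ (checkFactF_eq cert) 1120000 1000 chkF_1120000 i (by omega) (by omega)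
              · skip
                exact allRangeF_sound _ _ (checkFactF_eq cert) 1121000 1000 chkF_1121000 i (by omega) (by omega)
          · skip
            rcases Nat.lt_or_ge i 1123000 with h6 | h6
            · skip
              exact allRangeF_sound _ _ (checkFactF_eq cert) 1122000 1000 chkF_1122000 i (by omega) (by omega)
            · skip
              rcases Nat.lt_or_ge i 1124000 with h7 | h7
              · skip
                exact allRangeF_sound _ _ (checkFactF_eq cert) 1123000 1000 chkF_1123000 i (by omega) (by omega)
              · skip
                exact allRangeF_sound _ _ (checkFactF_eq cert) 1124000 1000 chkF_1124000 i (by omega) (by omega)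
      · skip
        rcases Nat.lt_or_ge i 1131000 with h4 | h4
        · skip
          rcases Nat.lt_or_ge i 1128000 with h5 | h5
          · skip
            rcases Nat.lt_or_ge i 1126000 with h6 | h6
            · skip
              exact allRangeF_sound _ _ (checkFactF_eq cert) 1125000 1000 chkF_1125000 i (by omega) (by omega)
            · skip
              rcases Nat.lt_or_ge i 1127000 with h7 | h7
              · skip
                exact allRangeF_sound _ _ (checkFactF_eq cert) 1126000 1000 chkF_1126000 i (by omega) (by omega)
              · skip
                exact allRangeF_sound _ _ (checkFactF_eq cert) 1127000 1000 chkF_1127000 i (by omega) (by omega)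
          · skip
            rcases Nat.lt_or_ge i 1129000 with h6 | h6
            · skip
              exact allRangeF_sound _ _ (checkFactF_eq cert) 1128000 1000 chkF_1128000 i (by omega) (by omega)
            · skip
              rcases Nat.lt_or_ge i 1130000 with h7 | h7
              · skip
                exact allRangeF_sound _ _ (checkFactF_eq cert) 1129000 1000 chkF_1129000 i (by omega) (by omega)
              · skip
                exact allRangeF_sound _ _ (checkFactF_eq cert) 1130000 1000 chkF_1130000 i (by omega) (by omega)
        · skip
          rcases Nat.lt_or_ge i 1134000 with h5 | h5
          · skip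
            rcases Nat.lt_or_ge i 1132000 with h6 | h6
            · skip
              exact allRangeF_sound _ _ (checkFactF_eq cert) 1131000 1000 chkF_1131000 i (by omega) (by omega)
            · skip
              rcases Nat.lt_or_ge i 1133000 with h7 | h7
              · skip
                exact allRangeF_sound _ _ (checkFactF_eq cert) 1132000 1000 chkF_1132000 i (by omega) (by omega)
              · skip
                exact allRangeF_sound _ _ (checkFactF_eq cert) 1133000 1000 chkF_1133000 i (by omega) (by omega)
          · skip
            rcases Nat.lt_or_ge i 1136000 with h6 | h6
            · skip
              rcases Nat.lt_or_ge i 1135000 with h7 | h7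
              · skip
                exact allRangeF_sound _ _ (checkFactF_eq cert) 1134000 1000 chkF_1134000 i (by omega) (by omega)
              · skip
                exact allRangeF_sound _ _ (checkFactF_eq cert) 1135000 1000 chkF_1135000 i (by omega) (by omega)
            · skip
              rcases Nat.lt_or_ge i 1137000 with h7 | h7
              · skip
                exact allRangeF_sound _ _ (checkFactF_eq cert) 1136000 1000 chkF_1136000 i (by omega) (by omega)
              · skip
                exact allRangeF_sound _ _ (checkFactF_eq cert) 1137000 1000 chkF_1137000 i (by omega) (by omega)
  · skip
    rcases Nat.lt_or_ge i 1163000 with h2 | h2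
    · skip
      rcases Nat.lt_or_ge i 1150000 with h3 | h3
      · skip
        rcases Nat.lt_or_ge i 1144000 with h4 | h4
        · skip
          rcases Nat.lt_or_ge i 1141000 with h5 | h5
          · skip
            rcases Nat.lt_or_ge i 1139000 with h6 | h6
            · skip
              exact allRangeF_sound _ _ (checkFactF_eq cert) 1138000 1000 chkF_1138000 i (by omega) (by omega)
            · skip
              rcases Nat.lt_or_ge i 1140000 with h7 | h7
              · skip
                exact allRangeF_sound _ _ (checkFactF_eq cert) 1139000 1000 chkF_1139000 i (by omega) (by omega)
              · skip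
                exact allRangeF_sound _ _ (checkFactF_eq cert) 1140000 1000 chkF_1140000 i (by omega) (by omega)
          · skip
            rcases Nat.lt_or_ge i 1142000 with h6 | h6
            · skip
              exact allRangeF_sound _ _ (checkFactF_eq cert) 1141000 1000 chkF_1141000 i (by omega) (by omega)
            · skip
              rcases Nat.lt_or_ge i 1143000 with h7 | h7
              · skip
                exact allRangeF_sound _ _ (checkFactF_eq cert) 1142000 1000 chkF_1142000 i (by omega) (by omega)
              · skip
                exact allRangeF_sound _ _ (checkFactF_eq cert) 1143000 1000 chkF_1143000 i (by omega) (by omega)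
        · skip
          rcases Nat.lt_or_ge i 1147000 with h5 | h5
          · skip
            rcases Nat.lt_or_ge i 1145000 with h6 | h6
            · skip
              exact allRangeF_sound _ _ (checkFactF_eq cert) 1144000 1000 chkF_1144000 i (by omega) (by omega)
            · skip
              rcases Nat.lt_or_ge i 1146000 with h7 | h7
              · skip
                exact allRangeF_sound _ _ (checkFactF_eq cert) 1145000 1000 chkF_1145000 i (by omega) (by omega)
              · skip
                exact allRangeF_sound _ _ (checkFactF_eq cert) 1146000 1000 chkF_1146000 i (by omega) (by omega)
          · skip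
            rcases Nat.lt_or_ge i 1148000 with h6 | h6
            · skip
              exact allRangeF_sound _ _ (checkFactF_eq cert) 1147000 1000 chkF_1147000 i (by omega) (by omega)
            · skip
              rcases Nat.lt_or_ge i 1149000 with h7 | h7
              · skip
                exact allRangeF_sound _ _ (checkFactF_eq cert) 1148000 1000 chkF_1148000 i (by omega) (by omega)
              · skip
                exact allRangeF_sound _ _ (checkFactF_eq cert) 1149000 1000 chkF_1149000 i (by omega) (by omega)
      · skip
        rcases Nat.lt_or_ge i 1156000 with h4 | h4
        · skip
          rcases Nat.lt_or_ge i 1153000 with h5 | h5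
          · skip
            rcases Nat.lt_or_ge i 1151000 with h6 | h6
            · skip
              exact allRangeF_sound _ _ (checkFactF_eq cert) 1150000 1000 chkF_1150000 i (by omega) (by omega)
            · skip
              rcases Nat.lt_or_ge i 1152000 with h7 | h7
              · skip
                exact allRangeF_sound _ _ (checkFactF_eq cert) 1151000 1000 chkF_1151000 i (by omega) (by omega)
              · skip
                exact allRangeF_sound _ _ (checkFactF_eq cert) 1152000 1000 chkF_1152000 i (by omega) (by omega)
          · skip
            rcases Nat.lt_or_ge i 1154000 with h6 | h6
            · skip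
              exact allRangeF_sound _ _ (checkFactF_eq cert) 1153000 1000 chkF_1153000 i (by omega) (by omega)
            · skip
              rcases Nat.lt_or_ge i 1155000 with h7 | h7
              · skip
                exact allRangeF_sound _ _ (checkFactF_eq cert) 1154000 1000 chkF_1154000 i (by omega) (by omega)
              · skip
                exact allRangeF_sound _ _ (checkFactF_eq cert) 1155000 1000 chkF_1155000 i (by omega) (by omega)
        · skip
          rcases Nat.lt_or_ge i 1159000 with h5 | h5
          · skip
            rcases Nat.lt_or_ge i 1157000 with h6 | h6
            · skip
              exact allRangeF_sound _ _ (checkFactF_eq cert) 1156000 1000 chkF_1156000 i (by omega) (by omega)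
            · skip
              rcases Nat.lt_or_ge i 1158000 with h7 | h7
              · skip
                exact allRangeF_sound _ _ (checkFactF_eq cert) 1157000 1000 chkF_1157000 i (by omega) (by omega)
              · skip
                exact allRangeF_sound _ _ (checkFactF_eq cert) 1158000 1000 chkF_1158000 i (by omega) (by omega)
          · skip
            rcases Nat.lt_or_ge i 1161000 with h6 | h6
            · skip
              rcases Nat.lt_or_ge i 1160000 with h7 | h7
              · skip
                exact allRangeF_sound _ _ (checkFactF_eq cert) 1159000 1000 chkF_1159000 i (by omega) (by omega)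
              · skip
                exact allRangeF_sound _ _ (checkFactF_eq cert) 1160000 1000 chkF_1160000 i (by omega) (by omega)
            · skip
              rcases Nat.lt_or_ge i 1162000 with h7 | h7
              · skip
                exact allRangeF_sound _ _ (checkFactF_eq cert) 1161000 1000 chkF_1161000 i (by omega) (by omega)
              · skip
                exact allRangeF_sound _ _ (checkFactF_eq cert) 1162000 1000 chkF_1162000 i (by omega) (by omega)
    · skip
      rcases Nat.lt_or_ge i 1175000 with h3 | h3
      · skip
        rcases Nat.lt_or_ge i 1169000 with h4 | h4
        · skip
          rcases Nat.lt_or_ge i 1166000 with h5 | h5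
          · skip
            rcases Nat.lt_or_ge i 1164000 with h6 | h6
            · skip
              exact allRangeF_sound _ _ (checkFactF_eq cert) 1163000 1000 chkF_1163000 i (by omega) (by omega)
            · skip
              rcases Nat.lt_or_ge i 1165000 with h7 | h7
              · skip
                exact allRangeF_sound _ _ (checkFactF_eq cert) 1164000 1000 chkF_1164000 i (by omega) (by omega)
              · skip
                exact allRangeF_sound _ _ (checkFactF_eq cert) 1165000 1000 chkF_1165000 i (by omega) (by omega)
          · skip
            rcases Nat.lt_or_ge i 1167000 with h6 | h6
            · skip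
              exact allRangeF_sound _ _ (checkFactF_eq cert) 1166000 1000 chkF_1166000 i (by omega) (by omega)
            · skip
              rcases Nat.lt_or_ge i 1168000 with h7 | h7
              · skip
                exact allRangeF_sound _ _ (checkFactF_eq cert) 1167000 1000 chkF_1167000 i (by omega) (by omega)
              · skip
                exact allRangeF_sound _ _ (checkFactF_eq cert) 1168000 1000 chkF_1168000 i (by omega) (by omega)
        · skip
          rcases Nat.lt_or_ge i 1172000 with h5 | h5
          · skip
            rcases Nat.lt_or_ge i 1170000 with h6 | h6
            · skip
              exact allRangeF_sound _ _ (checkFactF_eq cert) 1169000 1000 chkF_1169000 i (by omega) (by omega)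
            · skip
              rcases Nat.lt_or_ge i 1171000 with h7 | h7
              · skip
                exact allRangeF_sound _ _ (checkFactF_eq cert) 1170000 1000 chkF_1170000 i (by omega) (by omega)
              · skip
                exact allRangeF_sound _ _ (checkFactF_eq cert) 1171000 1000 chkF_1171000 i (by omega) (by omega)
          · skip
            rcases Nat.lt_or_ge i 1173000 with h6 | h6
            · skip
              exact allRangeF_sound _ _ (checkFactF_eq cert) 1172000 1000 chkF_1172000 i (by omega) (by omega)
            · skip
              rcases Nat.lt_or_ge i 1174000 with h7 | h7
              · skip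
                exact allRangeF_sound _ _ (checkFactF_eq cert) 1173000 1000 chkF_1173000 i (by omega) (by omega)
              · skip
                exact allRangeF_sound _ _ (checkFactF_eq cert) 1174000 1000 chkF_1174000 i (by omega) (by omega)
      · skip
        rcases Nat.lt_or_ge i 1181000 with h4 | h4
        · skip
          rcases Nat.lt_or_ge i 1178000 with h5 | h5
          · skip
            rcases Nat.lt_or_ge i 1176000 with h6 | h6
            · skip
              exact allRangeF_sound _ _ (checkFactF_eq cert) 1175000 1000 chkF_1175000 i (by omega) (by omega)
            · skip
              rcases Nat.lt_or_ge i 1177000 with h7 | h7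
              · skip
                exact allRangeF_sound _ _ (checkFactF_eq cert) 1176000 1000 chkF_1176000 i (by omega) (by omega)
              · skip
                exact allRangeF_sound _ _ (checkFactF_eq cert) 1177000 1000 chkF_1177000 i (by omega) (by omega)
          · skip
            rcases Nat.lt_or_ge i 1179000 with h6 | h6
            · skip
              exact allRangeF_sound _ _ (checkFactF_eq cert) 1178000 1000 chkF_1178000 i (by omega) (by omega)
            · skip
              rcases Nat.lt_or_ge i 1180000 with h7 | h7
              · skip
                exact allRangeF_sound _ _ (checkFactF_eq cert) 1179000 1000 chkF_1179000 i (by omega) (by omega)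
              · skip
                exact allRangeF_sound _ _ (checkFactF_eq cert) 1180000 1000 chkF_1180000 i (by omega) (by omega)
        · skip
          rcases Nat.lt_or_ge i 1184000 with h5 | h5
          · skip
            rcases Nat.lt_or_ge i 1182000 with h6 | h6
            · skip
              exact allRangeF_sound _ _ (checkFactF_eq cert) 1181000 1000 chkF_1181000 i (by omega) (by omega)
            · skip
              rcases Nat.lt_or_ge i 1183000 with h7 | h7
              · skip
                exact allRangeF_sound _ _ (checkFactF_eq cert) 1182000 1000 chkF_1182000 i (by omega) (by omega)
              · skip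
                exact allRangeF_sound _ _ (checkFactF_eq cert) 1183000 1000 chkF_1183000 i (by omega) (by omega)
          · skip
            rcases Nat.lt_or_ge i 1186000 with h6 | h6
            · skip
              rcases Nat.lt_or_ge i 1185000 with h7 | h7
              · skip
                exact allRangeF_sound _ _ (checkFactF_eq cert) 1184000 1000 chkF_1184000 i (by omega) (by omega)
              · skip
                exact allRangeF_sound _ _ (checkFactF_eq cert) 1185000 1000 chkF_1185000 i (by omega) (by omega)
            · skip
              rcases Nat.lt_or_ge i 1187000 with h7 | h7
              · skip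
                exact allRangeF_sound _ _ (checkFactF_eq cert) 1186000 1000 chkF_1186000 i (by omega) (by omega)
              · skip
                exact allRangeF_sound _ _ (checkFactF_eq cert) 1187000 1000 chkF_1187000 i (by omega) (by omega)

end Cfsg.Agent.Lib.Helper28.Fi24Data
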