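import Cfsg.Agent.Lib.Helper28.Fi24Data
import Cfsg.Agent.Lib.Helper28.TCFastFB

set_option autoImplicit false
set_option maxRecDepth 1000000
set_option linter.all false
set_option Elab.async false

namespace Cfsg.Agent.Lib.Helper28.Fi24Data

open Cfsg.Agent.Lib.Helper28B

theorem chkF_1188000 : allRangeF (checkFactF cert) (nat_lit 1188000) (nat_lit 1000) = true := by decide +kernel
theorem chkF_1189000 : allRangeF (checkFactF cert) (nat_lit 1189000) (nat_lit 1000) = true := by decide +kernel
theorem chkF_1190000 : allRangeF (checkFactF cert) (nat_lit 1190000) (nat_lit 1000) = true := by decide +kernel
theorem chkF_1191000 : allRangeF (checkFactF cert) (nat_lit 1191000) (nat_lit 1000) = true := by decide +kernel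
theorem chkF_1192000 : allRangeF (checkFactF cert) (nat_lit 1192000) (nat_lit 1000) = true := by decide +kernel
theorem chkF_1193000 : allRangeF (checkFactF cert) (nat_lit 1193000) (nat_lit 1000) = true := by decide +kernel
theorem chkF_1194000 : allRangeF (checkFactF cert) (nat_lit 1194000) (nat_lit 1000) = true := by decide +kernel
theorem chkF_1195000 : allRangeF (checkFactF cert) (nat_lit 1195000) (nat_lit 1000) = true := by decide +kernel
theorem chkF_1196000 : allRangeF (checkFactF cert) (nat_lit 1196000) (nat_lit 1000) = true := by decide +kernel
theorem chkF_1197000 : allRangeF (checkFactF cert) (nat_lit 1197000) (nat_lit 1000) = true := by decide +kernel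
theorem chkF_1198000 : allRangeF (checkFactF cert) (nat_lit 1198000) (nat_lit 1000) = true := by decide +kernel
theorem chkF_1199000 : allRangeF (checkFactF cert) (nat_lit 1199000) (nat_lit 1000) = true := by decide +kernel
theorem chkF_1200000 : allRangeF (checkFactF cert) (nat_lit 1200000) (nat_lit 1000) = true := by decide +kernel
theorem chkF_1201000 : allRangeF (checkFactF cert) (nat_lit 1201000) (nat_lit 1000) = true := by decide +kernel
theorem chkF_1202000 : allRangeF (checkFactF cert) (nat_lit 1202000) (nat_lit 1000) = true := by decide +kernel
theorem chkF_1203000 : allRangeF (checkFactF cert) (nat_lit 1203000) (nat_lit 1000) = true := by decide +kernel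
theorem chkF_1204000 : allRangeF (checkFactF cert) (nat_lit 1204000) (nat_lit 1000) = true := by decide +kernel
theorem chkF_1205000 : allRangeF (checkFactF cert) (nat_lit 1205000) (nat_lit 1000) = true := by decide +kernel
theorem chkF_1206000 : allRangeF (checkFactF cert) (nat_lit 1206000) (nat_lit 1000) = true := by decide +kernel
theorem chkF_1207000 : allRangeF (checkFactF cert) (nat_lit 1207000) (nat_lit 1000) = true := by decide +kernel
theorem chkF_1208000 : allRangeF (checkFactF cert) (nat_lit 1208000) (nat_lit 1000) = true := by decide +kernel
theorem chkF_1209000 : allRangeF (checkFactF cert) (nat_lit 1209000) (nat_lit 1000) = true := by decide +kernel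
theorem chkF_1210000 : allRangeF (checkFactF cert) (nat_lit 1210000) (nat_lit 1000) = true := by decide +kernel
theorem chkF_1211000 : allRangeF (checkFactF cert) (nat_lit 1211000) (nat_lit 1000) = true := by decide +kernel
theorem chkF_1212000 : allRangeF (checkFactF cert) (nat_lit 1212000) (nat_lit 1000) = true := by decide +kernel
theorem chkF_1213000 : allRangeF (checkFactF cert) (nat_lit 1213000) (nat_lit 1000) = true := by decide +kernel
theorem chkF_1214000 : allRangeF (checkFactF cert) (nat_lit 1214000) (nat_lit 1000) = true := by decide +kernel
theorem chkF_1215000 : allRangeF (checkFactF cert) (nat_lit 1215000) (nat_lit 1000) = true := by decide +kernel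
theorem chkF_1216000 : allRangeF (checkFactF cert) (nat_lit 1216000) (nat_lit 1000) = true := by decide +kernel
theorem chkF_1217000 : allRangeF (checkFactF cert) (nat_lit 1217000) (nat_lit 1000) = true := by decide +kernel
theorem chkF_1218000 : allRangeF (checkFactF cert) (nat_lit 1218000) (nat_lit 1000) = true := by decide +kernel
theorem chkF_1219000 : allRangeF (checkFactF cert) (nat_lit 1219000) (nat_lit 1000) = true := by decide +kernel
theorem chkF_1220000 : allRangeF (checkFactF cert) (nat_lit 1220000) (nat_lit 1000) = true := by decide +kernel
theorem chkF_1221000 : allRangeF (checkFactF cert) (nat_lit 1221000) (nat_lit 1000) = true := by decide +kernel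
theorem chkF_1222000 : allRangeF (checkFactF cert) (nat_lit 1222000) (nat_lit 1000) = true := by decide +kernel
theorem chkF_1223000 : allRangeF (checkFactF cert) (nat_lit 1223000) (nat_lit 1000) = true := by decide +kernel
theorem chkF_1224000 : allRangeF (checkFactF cert) (nat_lit 1224000) (nat_lit 1000) = true := by decide +kernel
theorem chkF_1225000 : allRangeF (checkFactF cert) (nat_lit 1225000) (nat_lit 1000) = true := by decide +kernel
theorem chkF_1226000 : allRangeF (checkFactF cert) (nat_lit 1226000) (nat_lit 1000) = true := by decide +kernel
theorem chkF_1227000 : allRangeF (checkFactF cert) (nat_lit 1227000) (nat_lit 1000) = true := by decide +kernel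
theorem chkF_1228000 : allRangeF (checkFactF cert) (nat_lit 1228000) (nat_lit 1000) = true := by decide +kernel
theorem chkF_1229000 : allRangeF (checkFactF cert) (nat_lit 1229000) (nat_lit 1000) = true := by decide +kernel
theorem chkF_1230000 : allRangeF (checkFactF cert) (nat_lit 1230000) (nat_lit 1000) = true := by decide +kernel
theorem chkF_1231000 : allRangeF (checkFactF cert) (nat_lit 1231000) (nat_lit 1000) = true := by decide +kernel
theorem chkF_1232000 : allRangeF (checkFactF cert) (nat_lit 1232000) (nat_lit 1000) = true := by decide +kernel
theorem chkF_1233000 : allRangeF (checkFactF cert) (nat_lit 1233000) (nat_lit 1000) = true := by decide +kernel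
theorem chkF_1234000 : allRangeF (checkFactF cert) (nat_lit 1234000) (nat_lit 1000) = true := by decide +kernel
theorem chkF_1235000 : allRangeF (checkFactF cert) (nat_lit 1235000) (nat_lit 1000) = true := by decide +kernel
theorem chkF_1236000 : allRangeF (checkFactF cert) (nat_lit 1236000) (nat_lit 1000) = true := by decide +kernel
theorem chkF_1237000 : allRangeF (checkFactF cert) (nat_lit 1237000) (nat_lit 1000) = true := by decide +kernel
theorem chkF_1238000 : allRangeF (checkFactF cert) (nat_lit 1238000) (nat_lit 1000) = true := by decide +kernel
theorem chkF_1239000 : allRangeF (checkFactF cert) (nat_lit 1239000) (nat_lit 1000) = true := by decide +kernel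
theorem chkF_1240000 : allRangeF (checkFactF cert) (nat_lit 1240000) (nat_lit 1000) = true := by decide +kernel
theorem chkF_1241000 : allRangeF (checkFactF cert) (nat_lit 1241000) (nat_lit 1000) = true := by decide +kernel
theorem chkF_1242000 : allRangeF (checkFactF cert) (nat_lit 1242000) (nat_lit 1000) = true := by decide +kernel
theorem chkF_1243000 : allRangeF (checkFactF cert) (nat_lit 1243000) (nat_lit 1000) = true := by decide +kernel
theorem chkF_1244000 : allRangeF (checkFactF cert) (nat_lit 1244000) (nat_lit 1000) = true := by decide +kernel
theorem chkF_1245000 : allRangeF (checkFactF cert) (nat_lit 1245000) (nat_lit 1000) = true := by decide +kernel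
theorem chkF_1246000 : allRangeF (checkFactF cert) (nat_lit 1246000) (nat_lit 1000) = true := by decide +kernel
theorem chkF_1247000 : allRangeF (checkFactF cert) (nat_lit 1247000) (nat_lit 1000) = true := by decide +kernel
theorem chkF_1248000 : allRangeF (checkFactF cert) (nat_lit 1248000) (nat_lit 1000) = true := by decide +kernel
theorem chkF_1249000 : allRangeF (checkFactF cert) (nat_lit 1249000) (nat_lit 1000) = true := by decide +kernel
theorem chkF_1250000 : allRangeF (checkFactF cert) (nat_lit 1250000) (nat_lit 1000) = true := by decide +kernel
theorem chkF_1251000 : allRangeF (checkFactF cert) (nat_lit 1251000) (nat_lit 1000) = true := by decide +kernel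
theorem chkF_1252000 : allRangeF (checkFactF cert) (nat_lit 1252000) (nat_lit 1000) = true := by decide +kernel
theorem chkF_1253000 : allRangeF (checkFactF cert) (nat_lit 1253000) (nat_lit 1000) = true := by decide +kernel
theorem chkF_1254000 : allRangeF (checkFactF cert) (nat_lit 1254000) (nat_lit 1000) = true := by decide +kernel
theorem chkF_1255000 : allRangeF (checkFactF cert) (nat_lit 1255000) (nat_lit 1000) = true := by decide +kernel
theorem chkF_1256000 : allRangeF (checkFactF cert) (nat_lit 1256000) (nat_lit 1000) = true := by decide +kernel
theorem chkF_1257000 : allRangeF (checkFactF cert) (nat_lit 1257000) (nat_lit 1000) = true := by decide +kernel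
theorem chkF_1258000 : allRangeF (checkFactF cert) (nat_lit 1258000) (nat_lit 1000) = true := by decide +kernel
theorem chkF_1259000 : allRangeF (checkFactF cert) (nat_lit 1259000) (nat_lit 1000) = true := by decide +kernel
theorem chkF_1260000 : allRangeF (checkFactF cert) (nat_lit 1260000) (nat_lit 1000) = true := by decide +kernel
theorem chkF_1261000 : allRangeF (checkFactF cert) (nat_lit 1261000) (nat_lit 1000) = true := by decide +kernel
theorem chkF_1262000 : allRangeF (checkFactF cert) (nat_lit 1262000) (nat_lit 1000) = true := by decide +kernel
theorem chkF_1263000 : allRangeF (checkFactF cert) (nat_lit 1263000) (nat_lit 1000) = true := by decide +kernel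
theorem chkF_1264000 : allRangeF (checkFactF cert) (nat_lit 1264000) (nat_lit 1000) = true := by decide +kernel
theorem chkF_1265000 : allRangeF (checkFactF cert) (nat_lit 1265000) (nat_lit 1000) = true := by decide +kernel
theorem chkF_1266000 : allRangeF (checkFactF cert) (nat_lit 1266000) (nat_lit 1000) = true := by decide +kernel
theorem chkF_1267000 : allRangeF (checkFactF cert) (nat_lit 1267000) (nat_lit 1000) = true := by decide +kernel
theorem chkF_1268000 : allRangeF (checkFactF cert) (nat_lit 1268000) (nat_lit 1000) = true := by decide +kernel
theorem chkF_1269000 : allRangeF (checkFactF cert) (nat_lit 1269000) (nat_lit 1000) = true := by decide +kernel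
theorem chkF_1270000 : allRangeF (checkFactF cert) (nat_lit 1270000) (nat_lit 1000) = true := by decide +kernel
theorem chkF_1271000 : allRangeF (checkFactF cert) (nat_lit 1271000) (nat_lit 1000) = true := by decide +kernel
theorem chkF_1272000 : allRangeF (checkFactF cert) (nat_lit 1272000) (nat_lit 1000) = true := by decide +kernel
theorem chkF_1273000 : allRangeF (checkFactF cert) (nat_lit 1273000) (nat_lit 1000) = true := by decide +kernel
theorem chkF_1274000 : allRangeF (checkFactF cert) (nat_lit 1274000) (nat_lit 1000) = true := by decide +kernel
theorem chkF_1275000 : allRangeF (checkFactF cert) (nat_lit 1275000) (nat_lit 1000) = true := by decide +kernel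
theorem chkF_1276000 : allRangeF (checkFactF cert) (nat_lit 1276000) (nat_lit 1000) = true := by decide +kernel
theorem chkF_1277000 : allRangeF (checkFactF cert) (nat_lit 1277000) (nat_lit 1000) = true := by decide +kernel
theorem chkF_1278000 : allRangeF (checkFactF cert) (nat_lit 1278000) (nat_lit 1000) = true := by decide +kernel
theorem chkF_1279000 : allRangeF (checkFactF cert) (nat_lit 1279000) (nat_lit 1000) = true := by decide +kernel
theorem chkF_1280000 : allRangeF (checkFactF cert) (nat_lit 1280000) (nat_lit 1000) = true := by decide +kernel
theorem chkF_1281000 : allRangeF (checkFactF cert) (nat_lit 1281000) (nat_lit 1000) = true := by decide +kernel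
theorem chkF_1282000 : allRangeF (checkFactF cert) (nat_lit 1282000) (nat_lit 1000) = true := by decide +kernel
theorem chkF_1283000 : allRangeF (checkFactF cert) (nat_lit 1283000) (nat_lit 1000) = true := by decide +kernel
theorem chkF_1284000 : allRangeF (checkFactF cert) (nat_lit 1284000) (nat_lit 1000) = true := by decide +kernel
theorem chkF_1285000 : allRangeF (checkFactF cert) (nat_lit 1285000) (nat_lit 1000) = true := by decide +kernel
theorem chkF_1286000 : allRangeF (checkFactF cert) (nat_lit 1286000) (nat_lit 1000) = true := by decide +kernel

theorem factsRange_12 : ∀ i, 1188000 ≤ i → i < 1287000 → checkFact cert i = true := by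
  intro i hlo hhi
  rcases Nat.lt_or_ge i 1237000 with h1 | h1
  · skip
    rcases Nat.lt_or_ge i 1212000 with h2 | h2
    · skip
      rcases Nat.lt_or_ge i 1200000 with h3 | h3
      · skip
        rcases Nat.lt_or_ge i 1194000 with h4 | h4
        · skip
          rcases Nat.lt_or_ge i 1191000 with h5 | h5
          · skip
            rcases Nat.lt_or_ge i 1189000 with h6 | h6
            · skip
              exact allRangeF_sound _ _ (checkFactF_eq cert) 1188000 1000 chkF_1188000 i (by omega) (by omega)
            · skip
              rcases Nat.lt_or_ge i 1190000 with h7 | h7
              · skip
                exact allRangeF_sound _ _ (checkFactF_eq cert) 1189000 1000 chkF_1189000 i (by omega) (by omega)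
              · skip
                exact allRangeF_sound _ _ (checkFactF_eq cert) 1190000 1000 chkF_1190000 i (by omega) (by omega)
          · skip
            rcases Nat.lt_or_ge i 1192000 with h6 | h6
            · skip
              exact allRangeF_sound _ _ (checkFactF_eq cert) 1191000 1000 chkF_1191000 i (by omega) (by omega)
            · skip
              rcases Nat.lt_or_ge i 1193000 with h7 | h7
              · skip
                exact allRangeF_sound _ _ (checkFactF_eq cert) 1192000 1000 chkF_1192000 i (by omega) (by omega)
              · skip
                exact allRangeF_sound _ _ (checkFactF_eq cert) 1193000 1000 chkF_1193000 i (by omega) (by omega)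
        · skip
          rcases Nat.lt_or_ge i 1197000 with h5 | h5
          · skip
            rcases Nat.lt_or_ge i 1195000 with h6 | h6
            · skip
              exact allRangeF_sound _ _ (checkFactF_eq cert) 1194000 1000 chkF_1194000 i (by omega) (by omega)
            · skip
              rcases Nat.lt_or_ge i 1196000 with h7 | h7
              · skip
                exact allRangeF_sound _ _ (checkFactF_eq cert) 1195000 1000 chkF_1195000 i (by omega) (by omega)
              · skip
                exact allRangeF_sound _ _ (checkFactF_eq cert) 1196000 1000 chkF_1196000 i (by omega) (by omega)
          · skip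
            rcases Nat.lt_or_ge i 1198000 with h6 | h6
            · skip
              exact allRangeF_sound _ _ (checkFactF_eq cert) 1197000 1000 chkF_1197000 i (by omega) (by omega)
            · skip
              rcases Nat.lt_or_ge i 1199000 with h7 | h7
              · skip
                exact allRangeF_sound _ _ (checkFactF_eq cert) 1198000 1000 chkF_1198000 i (by omega) (by omega)
              · skip
                exact allRangeF_sound _ _ (checkFactF_eq cert) 1199000 1000 chkF_1199000 i (by omega) (by omega)
      · skip
        rcases Nat.lt_or_ge i 1206000 with h4 | h4
        · skip
          rcases Nat.lt_or_ge i 1203000 with h5 | h5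
          · skip
            rcases Nat.lt_or_ge i 1201000 with h6 | h6
            · skip
              exact allRangeF_sound _ _ (checkFactF_eq cert) 1200000 1000 chkF_1200000 i (by omega) (by omega)
            · skip
              rcases Nat.lt_or_ge i 1202000 with h7 | h7
              · skip
                exact allRangeF_sound _ _ (checkFactF_eq cert) 1201000 1000 chkF_1201000 i (by omega) (by omega)
              · skip
                exact allRangeF_sound _ _ (checkFactF_eq cert) 1202000 1000 chkF_1202000 i (by omega) (by omega)
          · skip
            rcases Nat.lt_or_ge i 1204000 with h6 | h6
            · skip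
              exact allRangeF_sound _ _ (checkFactF_eq cert) 1203000 1000 chkF_1203000 i (by omega) (by omega)
            · skip
              rcases Nat.lt_or_ge i 1205000 with h7 | h7
              · skip
                exact allRangeF_sound _ _ (checkFactF_eq cert) 1204000 1000 chkF_1204000 i (by omega) (by omega)
              · skip
                exact allRangeF_sound _ _ (checkFactF_eq cert) 1205000 1000 chkF_1205000 i (by omega) (by omega)
        · skip
          rcases Nat.lt_or_ge i 1209000 with h5 | h5
          · skip
            rcases Nat.lt_or_ge i 1207000 with h6 | h6
            · skip
              exact allRangeF_sound _ _ (checkFactF_eq cert) 1206000 1000 chkF_1206000 i (by omega) (by omega)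
            · skip
              rcases Nat.lt_or_ge i 1208000 with h7 | h7
              · skip
                exact allRangeF_sound _ _ (checkFactF_eq cert) 1207000 1000 chkF_1207000 i (by omega) (by omega)
              · skip
                exact allRangeF_sound _ _ (checkFactF_eq cert) 1208000 1000 chkF_1208000 i (by omega) (by omega)
          · skip
            rcases Nat.lt_or_ge i 1210000 with h6 | h6
            · skip
              exact allRangeF_sound _ _ (checkFactF_eq cert) 1209000 1000 chkF_1209000 i (by omega) (by omega)
            · skip
              rcases Nat.lt_or_ge i 1211000 with h7 | h7
              · skip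
                exact allRangeF_sound _ _ (checkFactF_eq cert) 1210000 1000 chkF_1210000 i (by omega) (by omega)
              · skip
                exact allRangeF_sound _ _ (checkFactF_eq cert) 1211000 1000 chkF_1211000 i (by omega) (by omega)
    · skip
      rcases Nat.lt_or_ge i 1224000 with h3 | h3
      · skip
        rcases Nat.lt_or_ge i 1218000 with h4 | h4
        · skip
          rcases Nat.lt_or_ge i 1215000 with h5 | h5
          · skip
            rcases Nat.lt_or_ge i 1213000 with h6 | h6
            · skip
              exact allRangeF_sound _ _ (checkFactF_eq cert) 1212000 1000 chkF_1212000 i (by omega) (by omega)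
            · skip
              rcases Nat.lt_or_ge i 1214000 with h7 | h7
              · skip
                exact allRangeF_sound _ _ (checkFactF_eq cert) 1213000 1000 chkF_1213000 i (by omega) (by omega)
              · skip
                exact allRangeF_sound _ _ (checkFactF_eq cert) 1214000 1000 chkF_1214000 i (by omega) (by omega)
          · skip
            rcases Nat.lt_or_ge i 1216000 with h6 | h6
            · skip
              exact allRangeF_sound _ _ (checkFactF_eq cert) 1215000 1000 chkF_1215000 i (by omega) (by omega)
            · skip
              rcases Nat.lt_or_ge i 1217000 with h7 | h7
              · skip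
                exact allRangeF_sound _ _ (checkFactF_eq cert) 1216000 1000 chkF_1216000 i (by omega) (by omega)
              · skip
                exact allRangeF_sound _ _ (checkFactF_eq cert) 1217000 1000 chkF_1217000 i (by omega) (by omega)
        · skip
          rcases Nat.lt_or_ge i 1221000 with h5 | h5
          · skip
            rcases Nat.lt_or_ge i 1219000 with h6 | h6
            · skip
              exact allRangeF_sound _ _ (checkFactF_eq cert) 1218000 1000 chkF_1218000 i (by omega) (by omega)
            · skip
              rcases Nat.lt_or_ge i 1220000 with h7 | h7
              · skip
                exact allRangeF_sound _ _ (checkFactF_eq cert) 1219000 1000 chkF_1219000 i (by omega) (by omega)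
              · skip
                exact allRangeF_sound _ _ (checkFactF_eq cert) 1220000 1000 chkF_1220000 i (by omega) (by omega)
          · skip
            rcases Nat.lt_or_ge i 1222000 with h6 | h6
            · skip
              exact allRangeF_sound _ _ (checkFactF_eq cert) 1221000 1000 chkF_1221000 i (by omega) (by omega)
            · skip
              rcases Nat.lt_or_ge i 1223000 with h7 | h7
              · skip
                exact allRangeF_sound _ _ (checkFactF_eq cert) 1222000 1000 chkF_1222000 i (by omega) (by omega)
              · skip
                exact allRangeF_sound _ _ (checkFactF_eq cert) 1223000 1000 chkF_1223000 i (by omega) (by omega)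
      · skip
        rcases Nat.lt_or_ge i 1230000 with h4 | h4
        · skip
          rcases Nat.lt_or_ge i 1227000 with h5 | h5
          · skip
            rcases Nat.lt_or_ge i 1225000 with h6 | h6
            · skip
              exact allRangeF_sound _ _ (checkFactF_eq cert) 1224000 1000 chkF_1224000 i (by omega) (by omega)
            · skip
              rcases Nat.lt_or_ge i 1226000 with h7 | h7
              · skip
                exact allRangeF_sound _ _ (checkFactF_eq cert) 1225000 1000 chkF_1225000 i (by omega) (by omega)
              · skip
                exact allRangeF_sound _ _ (checkFactF_eq cert) 1226000 1000 chkF_1226000 i (by omega) (by omega)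
          · skip
            rcases Nat.lt_or_ge i 1228000 with h6 | h6
            · skip
              exact allRangeF_sound _ _ (checkFactF_eq cert) 1227000 1000 chkF_1227000 i (by omega) (by omega)
            · skip
              rcases Nat.lt_or_ge i 1229000 with h7 | h7
              · skip
                exact allRangeF_sound _ _ (checkFactF_eq cert) 1228000 1000 chkF_1228000 i (by omega) (by omega)
              · skip
                exact allRangeF_sound _ _ (checkFactF_eq cert) 1229000 1000 chkF_1229000 i (by omega) (by omega)
        · skip
          rcases Nat.lt_or_ge i 1233000 with h5 | h5
          · skip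
            rcases Nat.lt_or_ge i 1231000 with h6 | h6
            · skip
              exact allRangeF_sound _ _ (checkFactF_eq cert) 1230000 1000 chkF_1230000 i (by omega) (by omega)
            · skip
              rcases Nat.lt_or_ge i 1232000 with h7 | h7
              · skip
                exact allRangeF_sound _ _ (checkFactF_eq cert) 1231000 1000 chkF_1231000 i (by omega) (by omega)
              · skip
                exact allRangeF_sound _ _ (checkFactF_eq cert) 1232000 1000 chkF_1232000 i (by omega) (by omega)
          · skip
            rcases Nat.lt_or_ge i 1235000 with h6 | h6
            · skip
              rcases Nat.lt_or_ge i 1234000 with h7 | h7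
              · skip
                exact allRangeF_sound _ _ (checkFactF_eq cert) 1233000 1000 chkF_1233000 i (by omega) (by omega)
              · skip
                exact allRangeF_sound _ _ (checkFactF_eq cert) 1234000 1000 chkF_1234000 i (by omega) (by omega)
            · skip
              rcases Nat.lt_or_ge i 1236000 with h7 | h7
              · skip
                exact allRangeF_sound _ _ (checkFactF_eq cert) 1235000 1000 chkF_1235000 i (by omega) (by omega)
              · skip
                exact allRangeF_sound _ _ (checkFactF_eq cert) 1236000 1000 chkF_1236000 i (by omega) (by omega)
  · skip
    rcases Nat.lt_or_ge i 1262000 with h2 | h2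
    · skip
      rcases Nat.lt_or_ge i 1249000 with h3 | h3
      · skip
        rcases Nat.lt_or_ge i 1243000 with h4 | h4
        · skip
          rcases Nat.lt_or_ge i 1240000 with h5 | h5
          · skip
            rcases Nat.lt_or_ge i 1238000 with h6 | h6
            · skip
              exact allRangeF_sound _ _ (checkFactF_eq cert) 1237000 1000 chkF_1237000 i (by omega) (by omega)
            · skip
              rcases Nat.lt_or_ge i 1239000 with h7 | h7
              · skip
                exact allRangeF_sound _ _ (checkFactF_eq cert) 1238000 1000 chkF_1238000 i (by omega) (by omega)
              · skip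
                exact allRangeF_sound _ _ (checkFactF_eq cert) 1239000 1000 chkF_1239000 i (by omega) (by omega)
          · skip
            rcases Nat.lt_or_ge i 1241000 with h6 | h6
            · skip
              exact allRangeF_sound _ _ (checkFactF_eq cert) 1240000 1000 chkF_1240000 i (by omega) (by omega)
            · skip
              rcases Nat.lt_or_ge i 1242000 with h7 | h7
              · skip
                exact allRangeF_sound _ _ (checkFactF_eq cert) 1241000 1000 chkF_1241000 i (by omega) (by omega)
              · skip
                exact allRangeF_sound _ _ (checkFactF_eq cert) 1242000 1000 chkF_1242000 i (by omega) (by omega)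
        · skip
          rcases Nat.lt_or_ge i 1246000 with h5 | h5
          · skip
            rcases Nat.lt_or_ge i 1244000 with h6 | h6
            · skip
              exact allRangeF_sound _ _ (checkFactF_eq cert) 1243000 1000 chkF_1243000 i (by omega) (by omega)
            · skip
              rcases Nat.lt_or_ge i 1245000 with h7 | h7
              · skip
                exact allRangeF_sound _ _ (checkFactF_eq cert) 1244000 1000 chkF_1244000 i (by omega) (by omega)
              · skip
                exact allRangeF_sound _ _ (checkFactF_eq cert) 1245000 1000 chkF_1245000 i (by omega) (by omega)
          · skip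
            rcases Nat.lt_or_ge i 1247000 with h6 | h6
            · skip
              exact allRangeF_sound _ _ (checkFactF_eq cert) 1246000 1000 chkF_1246000 i (by omega) (by omega)
            · skip
              rcases Nat.lt_or_ge i 1248000 with h7 | h7
              · skip
                exact allRangeF_sound _ _ (checkFactF_eq cert) 1247000 1000 chkF_1247000 i (by omega) (by omega)
              · skip
                exact allRangeF_sound _ _ (checkFactF_eq cert) 1248000 1000 chkF_1248000 i (by omega) (by omega)
      · skip
        rcases Nat.lt_or_ge i 1255000 with h4 | h4
        · skip
          rcases Nat.lt_or_ge i 1252000 with h5 | h5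
          · skip
            rcases Nat.lt_or_ge i 1250000 with h6 | h6
            · skip
              exact allRangeF_sound _ _ (checkFactF_eq cert) 1249000 1000 chkF_1249000 i (by omega) (by omega)
            · skip
              rcases Nat.lt_or_ge i 1251000 with h7 | h7
              · skip
                exact allRangeF_sound _ _ (checkFactF_eq cert) 1250000 1000 chkF_1250000 i (by omega) (by omega)
              · skip
                exact allRangeF_sound _ _ (checkFactF_eq cert) 1251000 1000 chkF_1251000 i (by omega) (by omega)
          · skip
            rcases Nat.lt_or_ge i 1253000 with h6 | h6
            · skip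
              exact allRangeF_sound _ _ (checkFactF_eq cert) 1252000 1000 chkF_1252000 i (by omega) (by omega)
            · skip
              rcases Nat.lt_or_ge i 1254000 with h7 | h7
              · skip
                exact allRangeF_sound _ _ (checkFactF_eq cert) 1253000 1000 chkF_1253000 i (by omega) (by omega)
              · skip
                exact allRangeF_sound _ _ (checkFactF_eq cert) 1254000 1000 chkF_1254000 i (by omega) (by omega)
        · skip
          rcases Nat.lt_or_ge i 1258000 with h5 | h5
          · skip
            rcases Nat.lt_or_ge i 1256000 with h6 | h6
            · skip
              exact allRangeF_sound _ _ (checkFactF_eq cert) 1255000 1000 chkF_1255000 i (by omega) (by omega)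
            · skip
              rcases Nat.lt_or_ge i 1257000 with h7 | h7
              · skip
                exact allRangeF_sound _ _ (checkFactF_eq cert) 1256000 1000 chkF_1256000 i (by omega) (by omega)
              · skip
                exact allRangeF_sound _ _ (checkFactF_eq cert) 1257000 1000 chkF_1257000 i (by omega) (by omega)
          · skip
            rcases Nat.lt_or_ge i 1260000 with h6 | h6
            · skip
              rcases Nat.lt_or_ge i 1259000 with h7 | h7
              · skip
                exact allRangeF_sound _ _ (checkFactF_eq cert) 1258000 1000 chkF_1258000 i (by omega) (by omega)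
              · skip
                exact allRangeF_sound _ _ (checkFactF_eq cert) 1259000 1000 chkF_1259000 i (by omega) (by omega)
            · skip
              rcases Nat.lt_or_ge i 1261000 with h7 | h7
              · skip
                exact allRangeF_sound _ _ (checkFactF_eq cert) 1260000 1000 chkF_1260000 i (by omega) (by omega)
              · skip
                exact allRangeF_sound _ _ (checkFactF_eq cert) 1261000 1000 chkF_1261000 i (by omega) (by omega)
    · skip
      rcases Nat.lt_or_ge i 1274000 with h3 | h3
      · skip
        rcases Nat.lt_or_ge i 1268000 with h4 | h4
        · skip
          rcases Nat.lt_or_ge i 1265000 with h5 | h5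
          · skip
            rcases Nat.lt_or_ge i 1263000 with h6 | h6
            · skip
              exact allRangeF_sound _ _ (checkFactF_eq cert) 1262000 1000 chkF_1262000 i (by omega) (by omega)
            · skip
              rcases Nat.lt_or_ge i 1264000 with h7 | h7
              · skip
                exact allRangeF_sound _ _ (checkFactF_eq cert) 1263000 1000 chkF_1263000 i (by omega) (by omega)
              · skip
                exact allRangeF_sound _ _ (checkFactF_eq cert) 1264000 1000 chkF_1264000 i (by omega) (by omega)
          · skip
            rcases Nat.lt_or_ge i 1266000 with h6 | h6
            · skip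
              exact allRangeF_sound _ _ (checkFactF_eq cert) 1265000 1000 chkF_1265000 i (by omega) (by omega)
            · skip
              rcases Nat.lt_or_ge i 1267000 with h7 | h7
              · skip
                exact allRangeF_sound _ _ (checkFactF_eq cert) 1266000 1000 chkF_1266000 i (by omega) (by omega)
              · skip
                exact allRangeF_sound _ _ (checkFactF_eq cert) 1267000 1000 chkF_1267000 i (by omega) (by omega)
        · skip
          rcases Nat.lt_or_ge i 1271000 with h5 | h5
          · skip
            rcases Nat.lt_or_ge i 1269000 with h6 | h6
            · skip
              exact allRangeF_sound _ _ (checkFactF_eq cert) 1268000 1000 chkF_1268000 i (by omega) (by omega)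
            · skip
              rcases Nat.lt_or_ge i 1270000 with h7 | h7
              · skip
                exact allRangeF_sound _ _ (checkFactF_eq cert) 1269000 1000 chkF_1269000 i (by omega) (by omega)
              · skip
                exact allRangeF_sound _ _ (checkFactF_eq cert) 1270000 1000 chkF_1270000 i (by omega) (by omega)
          · skip
            rcases Nat.lt_or_ge i 1272000 with h6 | h6
            · skip
              exact allRangeF_sound _ _ (checkFactF_eq cert) 1271000 1000 chkF_1271000 i (by omega) (by omega)
            · skip
              rcases Nat.lt_or_ge i 1273000 with h7 | h7
              · skip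
                exact allRangeF_sound _ _ (checkFactF_eq cert) 1272000 1000 chkF_1272000 i (by omega) (by omega)
              · skip
                exact allRangeF_sound _ _ (checkFactF_eq cert) 1273000 1000 chkF_1273000 i (by omega) (by omega)
      · skip
        rcases Nat.lt_or_ge i 1280000 with h4 | h4
        · skip
          rcases Nat.lt_or_ge i 1277000 with h5 | h5
          · skip
            rcases Nat.lt_or_ge i 1275000 with h6 | h6
            · skip
              exact allRangeF_sound _ _ (checkFactF_eq cert) 1274000 1000 chkF_1274000 i (by omega) (by omega)
            · skip
              rcases Nat.lt_or_ge i 1276000 with h7 | h7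
              · skip
                exact allRangeF_sound _ _ (checkFactF_eq cert) 1275000 1000 chkF_1275000 i (by omega) (by omega)
              · skip
                exact allRangeF_sound _ _ (checkFactF_eq cert) 1276000 1000 chkF_1276000 i (by omega) (by omega)
          · skip
            rcases Nat.lt_or_ge i 1278000 with h6 | h6
            · skip
              exact allRangeF_sound _ _ (checkFactF_eq cert) 1277000 1000 chkF_1277000 i (by omega) (by omega)
            · skip
              rcases Nat.lt_or_ge i 1279000 with h7 | h7
              · skip
                exact allRangeF_sound _ _ (checkFactF_eq cert) 1278000 1000 chkF_1278000 i (by omega) (by omega)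
              · skip
                exact allRangeF_sound _ _ (checkFactF_eq cert) 1279000 1000 chkF_1279000 i (by omega) (by omega)
        · skip
          rcases Nat.lt_or_ge i 1283000 with h5 | h5
          · skip
            rcases Nat.lt_or_ge i 1281000 with h6 | h6
            · skip
              exact allRangeF_sound _ _ (checkFactF_eq cert) 1280000 1000 chkF_1280000 i (by omega) (by omega)
            · skip
              rcases Nat.lt_or_ge i 1282000 with h7 | h7
              · skip
                exact allRangeF_sound _ _ (checkFactF_eq cert) 1281000 1000 chkF_1281000 i (by omega) (by omega)
              · skip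
                exact allRangeF_sound _ _ (checkFactF_eq cert) 1282000 1000 chkF_1282000 i (by omega) (by omega)
          · skip
            rcases Nat.lt_or_ge i 1285000 with h6 | h6
            · skip
              rcases Nat.lt_or_ge i 1284000 with h7 | h7
              · skip
                exact allRangeF_sound _ _ (checkFactF_eq cert) 1283000 1000 chkF_1283000 i (by omega) (by omega)
              · skip
                exact allRangeF_sound _ _ (checkFactF_eq cert) 1284000 1000 chkF_1284000 i (by omega) (by omega)
            · skip
              rcases Nat.lt_or_ge i 1286000 with h7 | h7
              · skip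
                exact allRangeF_sound _ _ (checkFactF_eq cert) 1285000 1000 chkF_1285000 i (by omega) (by omega)
              · skip
                exact allRangeF_sound _ _ (checkFactF_eq cert) 1286000 1000 chkF_1286000 i (by omega) (by omega)

end Cfsg.Agent.Lib.Helper28.Fi24Data
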