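import Cfsg.Agent.Lib.Helper28.Fi24Data
import Cfsg.Agent.Lib.Helper28.TCFastFB

set_option autoImplicit false
set_option maxRecDepth 1000000
set_option linter.all false
set_option Elab.async false

namespace Cfsg.Agent.Lib.Helper28.Fi24Data

open Cfsg.Agent.Lib.Helper28B

theorem chkF_1386000 : allRangeF (checkFactF cert) (nat_lit 1386000) (nat_lit 1000) = true := by decide +kernel
theorem chkF_1387000 : allRangeF (checkFactF cert) (nat_lit 1387000) (nat_lit 1000) = true := by decide +kernel
theorem chkF_1388000 : allRangeF (checkFactF cert) (nat_lit 1388000) (nat_lit 1000) = true := by decide +kernel
theorem chkF_1389000 : allRangeF (checkFactF cert) (nat_lit 1389000) (nat_lit 1000) = true := by decide +kernel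
theorem chkF_1390000 : allRangeF (checkFactF cert) (nat_lit 1390000) (nat_lit 1000) = true := by decide +kernel
theorem chkF_1391000 : allRangeF (checkFactF cert) (nat_lit 1391000) (nat_lit 1000) = true := by decide +kernel
theorem chkF_1392000 : allRangeF (checkFactF cert) (nat_lit 1392000) (nat_lit 1000) = true := by decide +kernel
theorem chkF_1393000 : allRangeF (checkFactF cert) (nat_lit 1393000) (nat_lit 1000) = true := by decide +kernel
theorem chkF_1394000 : allRangeF (checkFactF cert) (nat_lit 1394000) (nat_lit 1000) = true := by decide +kernel
theorem chkF_1395000 : allRangeF (checkFactF cert) (nat_lit 1395000) (nat_lit 1000) = true := by decide +kernel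
theorem chkF_1396000 : allRangeF (checkFactF cert) (nat_lit 1396000) (nat_lit 1000) = true := by decide +kernel
theorem chkF_1397000 : allRangeF (checkFactF cert) (nat_lit 1397000) (nat_lit 1000) = true := by decide +kernel
theorem chkF_1398000 : allRangeF (checkFactF cert) (nat_lit 1398000) (nat_lit 1000) = true := by decide +kernel
theorem chkF_1399000 : allRangeF (checkFactF cert) (nat_lit 1399000) (nat_lit 1000) = true := by decide +kernel
theorem chkF_1400000 : allRangeF (checkFactF cert) (nat_lit 1400000) (nat_lit 1000) = true := by decide +kernel
theorem chkF_1401000 : allRangeF (checkFactF cert) (nat_lit 1401000) (nat_lit 1000) = true := by decide +kernel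
theorem chkF_1402000 : allRangeF (checkFactF cert) (nat_lit 1402000) (nat_lit 1000) = true := by decide +kernel
theorem chkF_1403000 : allRangeF (checkFactF cert) (nat_lit 1403000) (nat_lit 1000) = true := by decide +kernel
theorem chkF_1404000 : allRangeF (checkFactF cert) (nat_lit 1404000) (nat_lit 1000) = true := by decide +kernel
theorem chkF_1405000 : allRangeF (checkFactF cert) (nat_lit 1405000) (nat_lit 1000) = true := by decide +kernel
theorem chkF_1406000 : allRangeF (checkFactF cert) (nat_lit 1406000) (nat_lit 1000) = true := by decide +kernel
theorem chkF_1407000 : allRangeF (checkFactF cert) (nat_lit 1407000) (nat_lit 1000) = true := by decide +kernel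
theorem chkF_1408000 : allRangeF (checkFactF cert) (nat_lit 1408000) (nat_lit 1000) = true := by decide +kernel
theorem chkF_1409000 : allRangeF (checkFactF cert) (nat_lit 1409000) (nat_lit 1000) = true := by decide +kernel
theorem chkF_1410000 : allRangeF (checkFactF cert) (nat_lit 1410000) (nat_lit 1000) = true := by decide +kernel
theorem chkF_1411000 : allRangeF (checkFactF cert) (nat_lit 1411000) (nat_lit 1000) = true := by decide +kernel
theorem chkF_1412000 : allRangeF (checkFactF cert) (nat_lit 1412000) (nat_lit 1000) = true := by decide +kernel
theorem chkF_1413000 : allRangeF (checkFactF cert) (nat_lit 1413000) (nat_lit 1000) = true := by decide +kernel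
theorem chkF_1414000 : allRangeF (checkFactF cert) (nat_lit 1414000) (nat_lit 1000) = true := by decide +kernel
theorem chkF_1415000 : allRangeF (checkFactF cert) (nat_lit 1415000) (nat_lit 1000) = true := by decide +kernel
theorem chkF_1416000 : allRangeF (checkFactF cert) (nat_lit 1416000) (nat_lit 1000) = true := by decide +kernel
theorem chkF_1417000 : allRangeF (checkFactF cert) (nat_lit 1417000) (nat_lit 1000) = true := by decide +kernel
theorem chkF_1418000 : allRangeF (checkFactF cert) (nat_lit 1418000) (nat_lit 1000) = true := by decide +kernel
theorem chkF_1419000 : allRangeF (checkFactF cert) (nat_lit 1419000) (nat_lit 1000) = true := by decide +kernel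
theorem chkF_1420000 : allRangeF (checkFactF cert) (nat_lit 1420000) (nat_lit 1000) = true := by decide +kernel
theorem chkF_1421000 : allRangeF (checkFactF cert) (nat_lit 1421000) (nat_lit 1000) = true := by decide +kernel
theorem chkF_1422000 : allRangeF (checkFactF cert) (nat_lit 1422000) (nat_lit 1000) = true := by decide +kernel
theorem chkF_1423000 : allRangeF (checkFactF cert) (nat_lit 1423000) (nat_lit 1000) = true := by decide +kernel
theorem chkF_1424000 : allRangeF (checkFactF cert) (nat_lit 1424000) (nat_lit 1000) = true := by decide +kernel
theorem chkF_1425000 : allRangeF (checkFactF cert) (nat_lit 1425000) (nat_lit 1000) = true := by decide +kernel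
theorem chkF_1426000 : allRangeF (checkFactF cert) (nat_lit 1426000) (nat_lit 1000) = true := by decide +kernel
theorem chkF_1427000 : allRangeF (checkFactF cert) (nat_lit 1427000) (nat_lit 1000) = true := by decide +kernel
theorem chkF_1428000 : allRangeF (checkFactF cert) (nat_lit 1428000) (nat_lit 1000) = true := by decide +kernel
theorem chkF_1429000 : allRangeF (checkFactF cert) (nat_lit 1429000) (nat_lit 1000) = true := by decide +kernel
theorem chkF_1430000 : allRangeF (checkFactF cert) (nat_lit 1430000) (nat_lit 1000) = true := by decide +kernel
theorem chkF_1431000 : allRangeF (checkFactF cert) (nat_lit 1431000) (nat_lit 1000) = true := by decide +kernel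
theorem chkF_1432000 : allRangeF (checkFactF cert) (nat_lit 1432000) (nat_lit 1000) = true := by decide +kernel
theorem chkF_1433000 : allRangeF (checkFactF cert) (nat_lit 1433000) (nat_lit 1000) = true := by decide +kernel
theorem chkF_1434000 : allRangeF (checkFactF cert) (nat_lit 1434000) (nat_lit 1000) = true := by decide +kernel
theorem chkF_1435000 : allRangeF (checkFactF cert) (nat_lit 1435000) (nat_lit 1000) = true := by decide +kernel
theorem chkF_1436000 : allRangeF (checkFactF cert) (nat_lit 1436000) (nat_lit 1000) = true := by decide +kernel
theorem chkF_1437000 : allRangeF (checkFactF cert) (nat_lit 1437000) (nat_lit 1000) = true := by decide +kernel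
theorem chkF_1438000 : allRangeF (checkFactF cert) (nat_lit 1438000) (nat_lit 1000) = true := by decide +kernel
theorem chkF_1439000 : allRangeF (checkFactF cert) (nat_lit 1439000) (nat_lit 1000) = true := by decide +kernel
theorem chkF_1440000 : allRangeF (checkFactF cert) (nat_lit 1440000) (nat_lit 1000) = true := by decide +kernel
theorem chkF_1441000 : allRangeF (checkFactF cert) (nat_lit 1441000) (nat_lit 1000) = true := by decide +kernel
theorem chkF_1442000 : allRangeF (checkFactF cert) (nat_lit 1442000) (nat_lit 1000) = true := by decide +kernel
theorem chkF_1443000 : allRangeF (checkFactF cert) (nat_lit 1443000) (nat_lit 1000) = true := by decide +kernel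
theorem chkF_1444000 : allRangeF (checkFactF cert) (nat_lit 1444000) (nat_lit 1000) = true := by decide +kernel
theorem chkF_1445000 : allRangeF (checkFactF cert) (nat_lit 1445000) (nat_lit 1000) = true := by decide +kernel
theorem chkF_1446000 : allRangeF (checkFactF cert) (nat_lit 1446000) (nat_lit 1000) = true := by decide +kernel
theorem chkF_1447000 : allRangeF (checkFactF cert) (nat_lit 1447000) (nat_lit 1000) = true := by decide +kernel
theorem chkF_1448000 : allRangeF (checkFactF cert) (nat_lit 1448000) (nat_lit 1000) = true := by decide +kernel
theorem chkF_1449000 : allRangeF (checkFactF cert) (nat_lit 1449000) (nat_lit 1000) = true := by decide +kernel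
theorem chkF_1450000 : allRangeF (checkFactF cert) (nat_lit 1450000) (nat_lit 1000) = true := by decide +kernel
theorem chkF_1451000 : allRangeF (checkFactF cert) (nat_lit 1451000) (nat_lit 1000) = true := by decide +kernel
theorem chkF_1452000 : allRangeF (checkFactF cert) (nat_lit 1452000) (nat_lit 1000) = true := by decide +kernel
theorem chkF_1453000 : allRangeF (checkFactF cert) (nat_lit 1453000) (nat_lit 1000) = true := by decide +kernel
theorem chkF_1454000 : allRangeF (checkFactF cert) (nat_lit 1454000) (nat_lit 1000) = true := by decide +kernel
theorem chkF_1455000 : allRangeF (checkFactF cert) (nat_lit 1455000) (nat_lit 1000) = true := by decide +kernel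
theorem chkF_1456000 : allRangeF (checkFactF cert) (nat_lit 1456000) (nat_lit 1000) = true := by decide +kernel
theorem chkF_1457000 : allRangeF (checkFactF cert) (nat_lit 1457000) (nat_lit 1000) = true := by decide +kernel
theorem chkF_1458000 : allRangeF (checkFactF cert) (nat_lit 1458000) (nat_lit 1000) = true := by decide +kernel
theorem chkF_1459000 : allRangeF (checkFactF cert) (nat_lit 1459000) (nat_lit 1000) = true := by decide +kernel
theorem chkF_1460000 : allRangeF (checkFactF cert) (nat_lit 1460000) (nat_lit 1000) = true := by decide +kernel
theorem chkF_1461000 : allRangeF (checkFactF cert) (nat_lit 1461000) (nat_lit 1000) = true := by decide +kernel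
theorem chkF_1462000 : allRangeF (checkFactF cert) (nat_lit 1462000) (nat_lit 1000) = true := by decide +kernel
theorem chkF_1463000 : allRangeF (checkFactF cert) (nat_lit 1463000) (nat_lit 1000) = true := by decide +kernel
theorem chkF_1464000 : allRangeF (checkFactF cert) (nat_lit 1464000) (nat_lit 1000) = true := by decide +kernel
theorem chkF_1465000 : allRangeF (checkFactF cert) (nat_lit 1465000) (nat_lit 1000) = true := by decide +kernel
theorem chkF_1466000 : allRangeF (checkFactF cert) (nat_lit 1466000) (nat_lit 1000) = true := by decide +kernel
theorem chkF_1467000 : allRangeF (checkFactF cert) (nat_lit 1467000) (nat_lit 1000) = true := by decide +kernel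
theorem chkF_1468000 : allRangeF (checkFactF cert) (nat_lit 1468000) (nat_lit 1000) = true := by decide +kernel
theorem chkF_1469000 : allRangeF (checkFactF cert) (nat_lit 1469000) (nat_lit 1000) = true := by decide +kernel
theorem chkF_1470000 : allRangeF (checkFactF cert) (nat_lit 1470000) (nat_lit 1000) = true := by decide +kernel
theorem chkF_1471000 : allRangeF (checkFactF cert) (nat_lit 1471000) (nat_lit 1000) = true := by decide +kernel
theorem chkF_1472000 : allRangeF (checkFactF cert) (nat_lit 1472000) (nat_lit 1000) = true := by decide +kernel
theorem chkF_1473000 : allRangeF (checkFactF cert) (nat_lit 1473000) (nat_lit 1000) = true := by decide +kernel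
theorem chkF_1474000 : allRangeF (checkFactF cert) (nat_lit 1474000) (nat_lit 1000) = true := by decide +kernel
theorem chkF_1475000 : allRangeF (checkFactF cert) (nat_lit 1475000) (nat_lit 1000) = true := by decide +kernel
theorem chkF_1476000 : allRangeF (checkFactF cert) (nat_lit 1476000) (nat_lit 1000) = true := by decide +kernel
theorem chkF_1477000 : allRangeF (checkFactF cert) (nat_lit 1477000) (nat_lit 1000) = true := by decide +kernel
theorem chkF_1478000 : allRangeF (checkFactF cert) (nat_lit 1478000) (nat_lit 1000) = true := by decide +kernel
theorem chkF_1479000 : allRangeF (checkFactF cert) (nat_lit 1479000) (nat_lit 1000) = true := by decide +kernel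
theorem chkF_1480000 : allRangeF (checkFactF cert) (nat_lit 1480000) (nat_lit 1000) = true := by decide +kernel
theorem chkF_1481000 : allRangeF (checkFactF cert) (nat_lit 1481000) (nat_lit 1000) = true := by decide +kernel
theorem chkF_1482000 : allRangeF (checkFactF cert) (nat_lit 1482000) (nat_lit 1000) = true := by decide +kernel
theorem chkF_1483000 : allRangeF (checkFactF cert) (nat_lit 1483000) (nat_lit 1000) = true := by decide +kernel
theorem chkF_1484000 : allRangeF (checkFactF cert) (nat_lit 1484000) (nat_lit 1000) = true := by decide +kernel

theorem factsRange_14 : ∀ i, 1386000 ≤ i → i < 1485000 → checkFact cert i = true := by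
  intro i hlo hhi
  rcases Nat.lt_or_ge i 1435000 with h1 | h1
  · skip
    rcases Nat.lt_or_ge i 1410000 with h2 | h2
    · skip
      rcases Nat.lt_or_ge i 1398000 with h3 | h3
      · skip
        rcases Nat.lt_or_ge i 1392000 with h4 | h4
        · skip
          rcases Nat.lt_or_ge i 1389000 with h5 | h5
          · skip
            rcases Nat.lt_or_ge i 1387000 with h6 | h6
            · skip
              exact allRangeF_sound _ _ (checkFactF_eq cert) 1386000 1000 chkF_1386000 i (by omega) (by omega)
            · skip
              rcases Nat.lt_or_ge i 1388000 with h7 | h7
              · skip
                exact allRangeF_sound _ _ (checkFactF_eq cert) 1387000 1000 chkF_1387000 i (by omega) (by omega)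
              · skip
                exact allRangeF_sound _ _ (checkFactF_eq cert) 1388000 1000 chkF_1388000 i (by omega) (by omega)
          · skip
            rcases Nat.lt_or_ge i 1390000 with h6 | h6
            · skip
              exact allRangeF_sound _ _ (checkFactF_eq cert) 1389000 1000 chkF_1389000 i (by omega) (by omega)
            · skip
              rcases Nat.lt_or_ge i 1391000 with h7 | h7
              · skip
                exact allRangeF_sound _ _ (checkFactF_eq cert) 1390000 1000 chkF_1390000 i (by omega) (by omega)
              · skip
                exact allRangeF_sound _ _ (checkFactF_eq cert) 1391000 1000 chkF_1391000 i (by omega) (by omega)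
        · skip
          rcases Nat.lt_or_ge i 1395000 with h5 | h5
          · skip
            rcases Nat.lt_or_ge i 1393000 with h6 | h6
            · skip
              exact allRangeF_sound _ _ (checkFactF_eq cert) 1392000 1000 chkF_1392000 i (by omega) (by omega)
            · skip
              rcases Nat.lt_or_ge i 1394000 with h7 | h7
              · skip
                exact allRangeF_sound _ _ (checkFactF_eq cert) 1393000 1000 chkF_1393000 i (by omega) (by omega)
              · skip
                exact allRangeF_sound _ _ (checkFactF_eq cert) 1394000 1000 chkF_1394000 i (by omega) (by omega)
          · skip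
            rcases Nat.lt_or_ge i 1396000 with h6 | h6
            · skip
              exact allRangeF_sound _ _ (checkFactF_eq cert) 1395000 1000 chkF_1395000 i (by omega) (by omega)
            · skip
              rcases Nat.lt_or_ge i 1397000 with h7 | h7
              · skip
                exact allRangeF_sound _ _ (checkFactF_eq cert) 1396000 1000 chkF_1396000 i (by omega) (by omega)
              · skip
                exact allRangeF_sound _ _ (checkFactF_eq cert) 1397000 1000 chkF_1397000 i (by omega) (by omega)
      · skip
        rcases Nat.lt_or_ge i 1404000 with h4 | h4
        · skip
          rcases Nat.lt_or_ge i 1401000 with h5 | h5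
          · skip
            rcases Nat.lt_or_ge i 1399000 with h6 | h6
            · skip
              exact allRangeF_sound _ _ (checkFactF_eq cert) 1398000 1000 chkF_1398000 i (by omega) (by omega)
            · skip
              rcases Nat.lt_or_ge i 1400000 with h7 | h7
              · skip
                exact allRangeF_sound _ _ (checkFactF_eq cert) 1399000 1000 chkF_1399000 i (by omega) (by omega)
              · skip
                exact allRangeF_sound _ _ (checkFactF_eq cert) 1400000 1000 chkF_1400000 i (by omega) (by omega)
          · skip
            rcases Nat.lt_or_ge i 1402000 with h6 | h6
            · skip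
              exact allRangeF_sound _ _ (checkFactF_eq cert) 1401000 1000 chkF_1401000 i (by omega) (by omega)
            · skip
              rcases Nat.lt_or_ge i 1403000 with h7 | h7
              · skip
                exact allRangeF_sound _ _ (checkFactF_eq cert) 1402000 1000 chkF_1402000 i (by omega) (by omega)
              · skip
                exact allRangeF_sound _ _ (checkFactF_eq cert) 1403000 1000 chkF_1403000 i (by omega) (by omega)
        · skip
          rcases Nat.lt_or_ge i 1407000 with h5 | h5
          · skip
            rcases Nat.lt_or_ge i 1405000 with h6 | h6
            · skip
              exact allRangeF_sound _ _ (checkFactF_eq cert) 1404000 1000 chkF_1404000 i (by omega) (by omega)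
            · skip
              rcases Nat.lt_or_ge i 1406000 with h7 | h7
              · skip
                exact allRangeF_sound _ _ (checkFactF_eq cert) 1405000 1000 chkF_1405000 i (by omega) (by omega)
              · skip
                exact allRangeF_sound _ _ (checkFactF_eq cert) 1406000 1000 chkF_1406000 i (by omega) (by omega)
          · skip
            rcases Nat.lt_or_ge i 1408000 with h6 | h6
            · skip
              exact allRangeF_sound _ _ (checkFactF_eq cert) 1407000 1000 chkF_1407000 i (by omega) (by omega)
            · skip
              rcases Nat.lt_or_ge i 1409000 with h7 | h7
              · skip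
                exact allRangeF_sound _ _ (checkFactF_eq cert) 1408000 1000 chkF_1408000 i (by omega) (by omega)
              · skip
                exact allRangeF_sound _ _ (checkFactF_eq cert) 1409000 1000 chkF_1409000 i (by omega) (by omega)
    · skip
      rcases Nat.lt_or_ge i 1422000 with h3 | h3
      · skip
        rcases Nat.lt_or_ge i 1416000 with h4 | h4
        · skip
          rcases Nat.lt_or_ge i 1413000 with h5 | h5
          · skip
            rcases Nat.lt_or_ge i 1411000 with h6 | h6
            · skip
              exact allRangeF_sound _ _ (checkFactF_eq cert) 1410000 1000 chkF_1410000 i (by omega) (by omega)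
            · skip
              rcases Nat.lt_or_ge i 1412000 with h7 | h7
              · skip
                exact allRangeF_sound _ _ (checkFactF_eq cert) 1411000 1000 chkF_1411000 i (by omega) (by omega)
              · skip
                exact allRangeF_sound _ _ (checkFactF_eq cert) 1412000 1000 chkF_1412000 i (by omega) (by omega)
          · skip
            rcases Nat.lt_or_ge i 1414000 with h6 | h6
            · skip
              exact allRangeF_sound _ _ (checkFactF_eq cert) 1413000 1000 chkF_1413000 i (by omega) (by omega)
            · skip
              rcases Nat.lt_or_ge i 1415000 with h7 | h7
              · skip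
                exact allRangeF_sound _ _ (checkFactF_eq cert) 1414000 1000 chkF_1414000 i (by omega) (by omega)
              · skip
                exact allRangeF_sound _ _ (checkFactF_eq cert) 1415000 1000 chkF_1415000 i (by omega) (by omega)
        · skip
          rcases Nat.lt_or_ge i 1419000 with h5 | h5
          · skip
            rcases Nat.lt_or_ge i 1417000 with h6 | h6
            · skip
              exact allRangeF_sound _ _ (checkFactF_eq cert) 1416000 1000 chkF_1416000 i (by omega) (by omega)
            · skip
              rcases Nat.lt_or_ge i 1418000 with h7 | h7
              · skip
                exact allRangeF_sound _ _ (checkFactF_eq cert) 1417000 1000 chkF_1417000 i (by omega) (by omega)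
              · skip
                exact allRangeF_sound _ _ (checkFactF_eq cert) 1418000 1000 chkF_1418000 i (by omega) (by omega)
          · skip
            rcases Nat.lt_or_ge i 1420000 with h6 | h6
            · skip
              exact allRangeF_sound _ _ (checkFactF_eq cert) 1419000 1000 chkF_1419000 i (by omega) (by omega)
            · skip
              rcases Nat.lt_or_ge i 1421000 with h7 | h7
              · skip
                exact allRangeF_sound _ _ (checkFactF_eq cert) 1420000 1000 chkF_1420000 i (by omega) (by omega)
              · skip
                exact allRangeF_sound _ _ (checkFactF_eq cert) 1421000 1000 chkF_1421000 i (by omega) (by omega)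
      · skip
        rcases Nat.lt_or_ge i 1428000 with h4 | h4
        · skip
          rcases Nat.lt_or_ge i 1425000 with h5 | h5
          · skip
            rcases Nat.lt_or_ge i 1423000 with h6 | h6
            · skip
              exact allRangeF_sound _ _ (checkFactF_eq cert) 1422000 1000 chkF_1422000 i (by omega) (by omega)
            · skip
              rcases Nat.lt_or_ge i 1424000 with h7 | h7
              · skip
                exact allRangeF_sound _ _ (checkFactF_eq cert) 1423000 1000 chkF_1423000 i (by omega) (by omega)
              · skip
                exact allRangeF_sound _ _ (checkFactF_eq cert) 1424000 1000 chkF_1424000 i (by omega) (by omega)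
          · skip
            rcases Nat.lt_or_ge i 1426000 with h6 | h6
            · skip
              exact allRangeF_sound _ _ (checkFactF_eq cert) 1425000 1000 chkF_1425000 i (by omega) (by omega)
            · skip
              rcases Nat.lt_or_ge i 1427000 with h7 | h7
              · skip
                exact allRangeF_sound _ _ (checkFactF_eq cert) 1426000 1000 chkF_1426000 i (by omega) (by omega)
              · skip
                exact allRangeF_sound _ _ (checkFactF_eq cert) 1427000 1000 chkF_1427000 i (by omega) (by omega)
        · skip
          rcases Nat.lt_or_ge i 1431000 with h5 | h5
          · skip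
            rcases Nat.lt_or_ge i 1429000 with h6 | h6
            · skip
              exact allRangeF_sound _ _ (checkFactF_eq cert) 1428000 1000 chkF_1428000 i (by omega) (by omega)
            · skip
              rcases Nat.lt_or_ge i 1430000 with h7 | h7
              · skip
                exact allRangeF_sound _ _ (checkFactF_eq cert) 1429000 1000 chkF_1429000 i (by omega) (by omega)
              · skip
                exact allRangeF_sound _ _ (checkFactF_eq cert) 1430000 1000 chkF_1430000 i (by omega) (by omega)
          · skip
            rcases Nat.lt_or_ge i 1433000 with h6 | h6
            · skip
              rcases Nat.lt_or_ge i 1432000 with h7 | h7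
              · skip
                exact allRangeF_sound _ _ (checkFactF_eq cert) 1431000 1000 chkF_1431000 i (by omega) (by omega)
              · skip
                exact allRangeF_sound _ _ (checkFactF_eq cert) 1432000 1000 chkF_1432000 i (by omega) (by omega)
            · skip
              rcases Nat.lt_or_ge i 1434000 with h7 | h7
              · skip
                exact allRangeF_sound _ _ (checkFactF_eq cert) 1433000 1000 chkF_1433000 i (by omega) (by omega)
              · skip
                exact allRangeF_sound _ _ (checkFactF_eq cert) 1434000 1000 chkF_1434000 i (by omega) (by omega)
  · skip
    rcases Nat.lt_or_ge i 1460000 with h2 | h2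
    · skip
      rcases Nat.lt_or_ge i 1447000 with h3 | h3
      · skip
        rcases Nat.lt_or_ge i 1441000 with h4 | h4
        · skip
          rcases Nat.lt_or_ge i 1438000 with h5 | h5
          · skip
            rcases Nat.lt_or_ge i 1436000 with h6 | h6
            · skip
              exact allRangeF_sound _ _ (checkFactF_eq cert) 1435000 1000 chkF_1435000 i (by omega) (by omega)
            · skip
              rcases Nat.lt_or_ge i 1437000 with h7 | h7
              · skip
                exact allRangeF_sound _ _ (checkFactF_eq cert) 1436000 1000 chkF_1436000 i (by omega) (by omega)
              · skip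
                exact allRangeF_sound _ _ (checkFactF_eq cert) 1437000 1000 chkF_1437000 i (by omega) (by omega)
          · skip
            rcases Nat.lt_or_ge i 1439000 with h6 | h6
            · skip
              exact allRangeF_sound _ _ (checkFactF_eq cert) 1438000 1000 chkF_1438000 i (by omega) (by omega)
            · skip
              rcases Nat.lt_or_ge i 1440000 with h7 | h7
              · skip
                exact allRangeF_sound _ _ (checkFactF_eq cert) 1439000 1000 chkF_1439000 i (by omega) (by omega)
              · skip
                exact allRangeF_sound _ _ (checkFactF_eq cert) 1440000 1000 chkF_1440000 i (by omega) (by omega)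
        · skip
          rcases Nat.lt_or_ge i 1444000 with h5 | h5
          · skip
            rcases Nat.lt_or_ge i 1442000 with h6 | h6
            · skip
              exact allRangeF_sound _ _ (checkFactF_eq cert) 1441000 1000 chkF_1441000 i (by omega) (by omega)
            · skip
              rcases Nat.lt_or_ge i 1443000 with h7 | h7
              · skip
                exact allRangeF_sound _ _ (checkFactF_eq cert) 1442000 1000 chkF_1442000 i (by omega) (by omega)
              · skip
                exact allRangeF_sound _ _ (checkFactF_eq cert) 1443000 1000 chkF_1443000 i (by omega) (by omega)
          · skip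
            rcases Nat.lt_or_ge i 1445000 with h6 | h6
            · skip
              exact allRangeF_sound _ _ (checkFactF_eq cert) 1444000 1000 chkF_1444000 i (by omega) (by omega)
            · skip
              rcases Nat.lt_or_ge i 1446000 with h7 | h7
              · skip
                exact allRangeF_sound _ _ (checkFactF_eq cert) 1445000 1000 chkF_1445000 i (by omega) (by omega)
              · skip
                exact allRangeF_sound _ _ (checkFactF_eq cert) 1446000 1000 chkF_1446000 i (by omega) (by omega)
      · skip
        rcases Nat.lt_or_ge i 1453000 with h4 | h4
        · skip
          rcases Nat.lt_or_ge i 1450000 with h5 | h5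
          · skip
            rcases Nat.lt_or_ge i 1448000 with h6 | h6
            · skip
              exact allRangeF_sound _ _ (checkFactF_eq cert) 1447000 1000 chkF_1447000 i (by omega) (by omega)
            · skip
              rcases Nat.lt_or_ge i 1449000 with h7 | h7
              · skip
                exact allRangeF_sound _ _ (checkFactF_eq cert) 1448000 1000 chkF_1448000 i (by omega) (by omega)
              · skip
                exact allRangeF_sound _ _ (checkFactF_eq cert) 1449000 1000 chkF_1449000 i (by omega) (by omega)
          · skip
            rcases Nat.lt_or_ge i 1451000 with h6 | h6
            · skip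
              exact allRangeF_sound _ _ (checkFactF_eq cert) 1450000 1000 chkF_1450000 i (by omega) (by omega)
            · skip
              rcases Nat.lt_or_ge i 1452000 with h7 | h7
              · skip
                exact allRangeF_sound _ _ (checkFactF_eq cert) 1451000 1000 chkF_1451000 i (by omega) (by omega)
              · skip
                exact allRangeF_sound _ _ (checkFactF_eq cert) 1452000 1000 chkF_1452000 i (by omega) (by omega)
        · skip
          rcases Nat.lt_or_ge i 1456000 with h5 | h5
          · skip
            rcases Nat.lt_or_ge i 1454000 with h6 | h6
            · skip
              exact allRangeF_sound _ _ (checkFactF_eq cert) 1453000 1000 chkF_1453000 i (by omega) (by omega)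
            · skip
              rcases Nat.lt_or_ge i 1455000 with h7 | h7
              · skip
                exact allRangeF_sound _ _ (checkFactF_eq cert) 1454000 1000 chkF_1454000 i (by omega) (by omega)
              · skip
                exact allRangeF_sound _ _ (checkFactF_eq cert) 1455000 1000 chkF_1455000 i (by omega) (by omega)
          · skip
            rcases Nat.lt_or_ge i 1458000 with h6 | h6
            · skip
              rcases Nat.lt_or_ge i 1457000 with h7 | h7
              · skip
                exact allRangeF_sound _ _ (checkFactF_eq cert) 1456000 1000 chkF_1456000 i (by omega) (by omega)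
              · skip
                exact allRangeF_sound _ _ (checkFactF_eq cert) 1457000 1000 chkF_1457000 i (by omega) (by omega)
            · skip
              rcases Nat.lt_or_ge i 1459000 with h7 | h7
              · skip
                exact allRangeF_sound _ _ (checkFactF_eq cert) 1458000 1000 chkF_1458000 i (by omega) (by omega)
              · skip
                exact allRangeF_sound _ _ (checkFactF_eq cert) 1459000 1000 chkF_1459000 i (by omega) (by omega)
    · skip
      rcases Nat.lt_or_ge i 1472000 with h3 | h3
      · skip
        rcases Nat.lt_or_ge i 1466000 with h4 | h4
        · skip
          rcases Nat.lt_or_ge i 1463000 with h5 | h5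
          · skip
            rcases Nat.lt_or_ge i 1461000 with h6 | h6
            · skip
              exact allRangeF_sound _ _ (checkFactF_eq cert) 1460000 1000 chkF_1460000 i (by omega) (by omega)
            · skip
              rcases Nat.lt_or_ge i 1462000 with h7 | h7
              · skip
                exact allRangeF_sound _ _ (checkFactF_eq cert) 1461000 1000 chkF_1461000 i (by omega) (by omega)
              · skip
                exact allRangeF_sound _ _ (checkFactF_eq cert) 1462000 1000 chkF_1462000 i (by omega) (by omega)
          · skip
            rcases Nat.lt_or_ge i 1464000 with h6 | h6
            · skip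
              exact allRangeF_sound _ _ (checkFactF_eq cert) 1463000 1000 chkF_1463000 i (by omega) (by omega)
            · skip
              rcases Nat.lt_or_ge i 1465000 with h7 | h7
              · skip
                exact allRangeF_sound _ _ (checkFactF_eq cert) 1464000 1000 chkF_1464000 i (by omega) (by omega)
              · skip
                exact allRangeF_sound _ _ (checkFactF_eq cert) 1465000 1000 chkF_1465000 i (by omega) (by omega)
        · skip
          rcases Nat.lt_or_ge i 1469000 with h5 | h5
          · skip
            rcases Nat.lt_or_ge i 1467000 with h6 | h6
            · skip
              exact allRangeF_sound _ _ (checkFactF_eq cert) 1466000 1000 chkF_1466000 i (by omega) (by omega)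
            · skip
              rcases Nat.lt_or_ge i 1468000 with h7 | h7
              · skip
                exact allRangeF_sound _ _ (checkFactF_eq cert) 1467000 1000 chkF_1467000 i (by omega) (by omega)
              · skip
                exact allRangeF_sound _ _ (checkFactF_eq cert) 1468000 1000 chkF_1468000 i (by omega) (by omega)
          · skip
            rcases Nat.lt_or_ge i 1470000 with h6 | h6
            · skip
              exact allRangeF_sound _ _ (checkFactF_eq cert) 1469000 1000 chkF_1469000 i (by omega) (by omega)
            · skip
              rcases Nat.lt_or_ge i 1471000 with h7 | h7
              · skip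
                exact allRangeF_sound _ _ (checkFactF_eq cert) 1470000 1000 chkF_1470000 i (by omega) (by omega)
              · skip
                exact allRangeF_sound _ _ (checkFactF_eq cert) 1471000 1000 chkF_1471000 i (by omega) (by omega)
      · skip
        rcases Nat.lt_or_ge i 1478000 with h4 | h4
        · skip
          rcases Nat.lt_or_ge i 1475000 with h5 | h5
          · skip
            rcases Nat.lt_or_ge i 1473000 with h6 | h6
            · skip
              exact allRangeF_sound _ _ (checkFactF_eq cert) 1472000 1000 chkF_1472000 i (by omega) (by omega)
            · skip
              rcases Nat.lt_or_ge i 1474000 with h7 | h7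
              · skip
                exact allRangeF_sound _ _ (checkFactF_eq cert) 1473000 1000 chkF_1473000 i (by omega) (by omega)
              · skip
                exact allRangeF_sound _ _ (checkFactF_eq cert) 1474000 1000 chkF_1474000 i (by omega) (by omega)
          · skip
            rcases Nat.lt_or_ge i 1476000 with h6 | h6
            · skip
              exact allRangeF_sound _ _ (checkFactF_eq cert) 1475000 1000 chkF_1475000 i (by omega) (by omega)
            · skip
              rcases Nat.lt_or_ge i 1477000 with h7 | h7
              · skip
                exact allRangeF_sound _ _ (checkFactF_eq cert) 1476000 1000 chkF_1476000 i (by omega) (by omega)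
              · skip
                exact allRangeF_sound _ _ (checkFactF_eq cert) 1477000 1000 chkF_1477000 i (by omega) (by omega)
        · skip
          rcases Nat.lt_or_ge i 1481000 with h5 | h5
          · skip
            rcases Nat.lt_or_ge i 1479000 with h6 | h6
            · skip
              exact allRangeF_sound _ _ (checkFactF_eq cert) 1478000 1000 chkF_1478000 i (by omega) (by omega)
            · skip
              rcases Nat.lt_or_ge i 1480000 with h7 | h7
              · skip
                exact allRangeF_sound _ _ (checkFactF_eq cert) 1479000 1000 chkF_1479000 i (by omega) (by omega)
              · skip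
                exact allRangeF_sound _ _ (checkFactF_eq cert) 1480000 1000 chkF_1480000 i (by omega) (by omega)
          · skip
            rcases Nat.lt_or_ge i 1483000 with h6 | h6
            · skip
              rcases Nat.lt_or_ge i 1482000 with h7 | h7
              · skip
                exact allRangeF_sound _ _ (checkFactF_eq cert) 1481000 1000 chkF_1481000 i (by omega) (by omega)
              · skip
                exact allRangeF_sound _ _ (checkFactF_eq cert) 1482000 1000 chkF_1482000 i (by omega) (by omega)
            · skip
              rcases Nat.lt_or_ge i 1484000 with h7 | h7
              · skip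
                exact allRangeF_sound _ _ (checkFactF_eq cert) 1483000 1000 chkF_1483000 i (by omega) (by omega)
              · skip
                exact allRangeF_sound _ _ (checkFactF_eq cert) 1484000 1000 chkF_1484000 i (by omega) (by omega)

end Cfsg.Agent.Lib.Helper28.Fi24Data
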