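import Cfsg.Agent.Lib.Helper28.Fi24Data
import Cfsg.Agent.Lib.Helper28.TCFastFB

set_option autoImplicit false
set_option maxRecDepth 1000000
set_option linter.all false
set_option Elab.async false

namespace Cfsg.Agent.Lib.Helper28.Fi24Data

open Cfsg.Agent.Lib.Helper28B

theorem chkF_1485000 : allRangeF (checkFactF cert) (nat_lit 1485000) (nat_lit 1000) = true := by decide +kernel
theorem chkF_1486000 : allRangeF (checkFactF cert) (nat_lit 1486000) (nat_lit 1000) = true := by decide +kernel
theorem chkF_1487000 : allRangeF (checkFactF cert) (nat_lit 1487000) (nat_lit 1000) = true := by decide +kernel
theorem chkF_1488000 : allRangeF (checkFactF cert) (nat_lit 1488000) (nat_lit 1000) = true := by decide +kernel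
theorem chkF_1489000 : allRangeF (checkFactF cert) (nat_lit 1489000) (nat_lit 1000) = true := by decide +kernel
theorem chkF_1490000 : allRangeF (checkFactF cert) (nat_lit 1490000) (nat_lit 1000) = true := by decide +kernel
theorem chkF_1491000 : allRangeF (checkFactF cert) (nat_lit 1491000) (nat_lit 1000) = true := by decide +kernel
theorem chkF_1492000 : allRangeF (checkFactF cert) (nat_lit 1492000) (nat_lit 1000) = true := by decide +kernel
theorem chkF_1493000 : allRangeF (checkFactF cert) (nat_lit 1493000) (nat_lit 1000) = true := by decide +kernel
theorem chkF_1494000 : allRangeF (checkFactF cert) (nat_lit 1494000) (nat_lit 1000) = true := by decide +kernel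
theorem chkF_1495000 : allRangeF (checkFactF cert) (nat_lit 1495000) (nat_lit 1000) = true := by decide +kernel
theorem chkF_1496000 : allRangeF (checkFactF cert) (nat_lit 1496000) (nat_lit 1000) = true := by decide +kernel
theorem chkF_1497000 : allRangeF (checkFactF cert) (nat_lit 1497000) (nat_lit 1000) = true := by decide +kernel
theorem chkF_1498000 : allRangeF (checkFactF cert) (nat_lit 1498000) (nat_lit 1000) = true := by decide +kernel
theorem chkF_1499000 : allRangeF (checkFactF cert) (nat_lit 1499000) (nat_lit 1000) = true := by decide +kernel
theorem chkF_1500000 : allRangeF (checkFactF cert) (nat_lit 1500000) (nat_lit 1000) = true := by decide +kernel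
theorem chkF_1501000 : allRangeF (checkFactF cert) (nat_lit 1501000) (nat_lit 1000) = true := by decide +kernel
theorem chkF_1502000 : allRangeF (checkFactF cert) (nat_lit 1502000) (nat_lit 1000) = true := by decide +kernel
theorem chkF_1503000 : allRangeF (checkFactF cert) (nat_lit 1503000) (nat_lit 1000) = true := by decide +kernel
theorem chkF_1504000 : allRangeF (checkFactF cert) (nat_lit 1504000) (nat_lit 1000) = true := by decide +kernel
theorem chkF_1505000 : allRangeF (checkFactF cert) (nat_lit 1505000) (nat_lit 1000) = true := by decide +kernel
theorem chkF_1506000 : allRangeF (checkFactF cert) (nat_lit 1506000) (nat_lit 1000) = true := by decide +kernel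
theorem chkF_1507000 : allRangeF (checkFactF cert) (nat_lit 1507000) (nat_lit 1000) = true := by decide +kernel
theorem chkF_1508000 : allRangeF (checkFactF cert) (nat_lit 1508000) (nat_lit 1000) = true := by decide +kernel
theorem chkF_1509000 : allRangeF (checkFactF cert) (nat_lit 1509000) (nat_lit 1000) = true := by decide +kernel
theorem chkF_1510000 : allRangeF (checkFactF cert) (nat_lit 1510000) (nat_lit 1000) = true := by decide +kernel
theorem chkF_1511000 : allRangeF (checkFactF cert) (nat_lit 1511000) (nat_lit 1000) = true := by decide +kernel
theorem chkF_1512000 : allRangeF (checkFactF cert) (nat_lit 1512000) (nat_lit 1000) = true := by decide +kernel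
theorem chkF_1513000 : allRangeF (checkFactF cert) (nat_lit 1513000) (nat_lit 1000) = true := by decide +kernel
theorem chkF_1514000 : allRangeF (checkFactF cert) (nat_lit 1514000) (nat_lit 1000) = true := by decide +kernel
theorem chkF_1515000 : allRangeF (checkFactF cert) (nat_lit 1515000) (nat_lit 1000) = true := by decide +kernel
theorem chkF_1516000 : allRangeF (checkFactF cert) (nat_lit 1516000) (nat_lit 1000) = true := by decide +kernel
theorem chkF_1517000 : allRangeF (checkFactF cert) (nat_lit 1517000) (nat_lit 1000) = true := by decide +kernel
theorem chkF_1518000 : allRangeF (checkFactF cert) (nat_lit 1518000) (nat_lit 1000) = true := by decide +kernel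
theorem chkF_1519000 : allRangeF (checkFactF cert) (nat_lit 1519000) (nat_lit 1000) = true := by decide +kernel
theorem chkF_1520000 : allRangeF (checkFactF cert) (nat_lit 1520000) (nat_lit 1000) = true := by decide +kernel
theorem chkF_1521000 : allRangeF (checkFactF cert) (nat_lit 1521000) (nat_lit 1000) = true := by decide +kernel
theorem chkF_1522000 : allRangeF (checkFactF cert) (nat_lit 1522000) (nat_lit 1000) = true := by decide +kernel
theorem chkF_1523000 : allRangeF (checkFactF cert) (nat_lit 1523000) (nat_lit 1000) = true := by decide +kernel
theorem chkF_1524000 : allRangeF (checkFactF cert) (nat_lit 1524000) (nat_lit 1000) = true := by decide +kernel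
theorem chkF_1525000 : allRangeF (checkFactF cert) (nat_lit 1525000) (nat_lit 1000) = true := by decide +kernel
theorem chkF_1526000 : allRangeF (checkFactF cert) (nat_lit 1526000) (nat_lit 1000) = true := by decide +kernel
theorem chkF_1527000 : allRangeF (checkFactF cert) (nat_lit 1527000) (nat_lit 1000) = true := by decide +kernel
theorem chkF_1528000 : allRangeF (checkFactF cert) (nat_lit 1528000) (nat_lit 1000) = true := by decide +kernel
theorem chkF_1529000 : allRangeF (checkFactF cert) (nat_lit 1529000) (nat_lit 1000) = true := by decide +kernel
theorem chkF_1530000 : allRangeF (checkFactF cert) (nat_lit 1530000) (nat_lit 1000) = true := by decide +kernel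
theorem chkF_1531000 : allRangeF (checkFactF cert) (nat_lit 1531000) (nat_lit 1000) = true := by decide +kernel
theorem chkF_1532000 : allRangeF (checkFactF cert) (nat_lit 1532000) (nat_lit 1000) = true := by decide +kernel
theorem chkF_1533000 : allRangeF (checkFactF cert) (nat_lit 1533000) (nat_lit 1000) = true := by decide +kernel
theorem chkF_1534000 : allRangeF (checkFactF cert) (nat_lit 1534000) (nat_lit 1000) = true := by decide +kernel
theorem chkF_1535000 : allRangeF (checkFactF cert) (nat_lit 1535000) (nat_lit 1000) = true := by decide +kernel
theorem chkF_1536000 : allRangeF (checkFactF cert) (nat_lit 1536000) (nat_lit 1000) = true := by decide +kernel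
theorem chkF_1537000 : allRangeF (checkFactF cert) (nat_lit 1537000) (nat_lit 1000) = true := by decide +kernel
theorem chkF_1538000 : allRangeF (checkFactF cert) (nat_lit 1538000) (nat_lit 1000) = true := by decide +kernel
theorem chkF_1539000 : allRangeF (checkFactF cert) (nat_lit 1539000) (nat_lit 1000) = true := by decide +kernel
theorem chkF_1540000 : allRangeF (checkFactF cert) (nat_lit 1540000) (nat_lit 1000) = true := by decide +kernel
theorem chkF_1541000 : allRangeF (checkFactF cert) (nat_lit 1541000) (nat_lit 1000) = true := by decide +kernel
theorem chkF_1542000 : allRangeF (checkFactF cert) (nat_lit 1542000) (nat_lit 1000) = true := by decide +kernel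
theorem chkF_1543000 : allRangeF (checkFactF cert) (nat_lit 1543000) (nat_lit 1000) = true := by decide +kernel
theorem chkF_1544000 : allRangeF (checkFactF cert) (nat_lit 1544000) (nat_lit 1000) = true := by decide +kernel
theorem chkF_1545000 : allRangeF (checkFactF cert) (nat_lit 1545000) (nat_lit 1000) = true := by decide +kernel
theorem chkF_1546000 : allRangeF (checkFactF cert) (nat_lit 1546000) (nat_lit 1000) = true := by decide +kernel
theorem chkF_1547000 : allRangeF (checkFactF cert) (nat_lit 1547000) (nat_lit 1000) = true := by decide +kernel
theorem chkF_1548000 : allRangeF (checkFactF cert) (nat_lit 1548000) (nat_lit 1000) = true := by decide +kernel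
theorem chkF_1549000 : allRangeF (checkFactF cert) (nat_lit 1549000) (nat_lit 1000) = true := by decide +kernel
theorem chkF_1550000 : allRangeF (checkFactF cert) (nat_lit 1550000) (nat_lit 1000) = true := by decide +kernel
theorem chkF_1551000 : allRangeF (checkFactF cert) (nat_lit 1551000) (nat_lit 1000) = true := by decide +kernel
theorem chkF_1552000 : allRangeF (checkFactF cert) (nat_lit 1552000) (nat_lit 1000) = true := by decide +kernel
theorem chkF_1553000 : allRangeF (checkFactF cert) (nat_lit 1553000) (nat_lit 1000) = true := by decide +kernel
theorem chkF_1554000 : allRangeF (checkFactF cert) (nat_lit 1554000) (nat_lit 1000) = true := by decide +kernel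
theorem chkF_1555000 : allRangeF (checkFactF cert) (nat_lit 1555000) (nat_lit 1000) = true := by decide +kernel
theorem chkF_1556000 : allRangeF (checkFactF cert) (nat_lit 1556000) (nat_lit 1000) = true := by decide +kernel
theorem chkF_1557000 : allRangeF (checkFactF cert) (nat_lit 1557000) (nat_lit 1000) = true := by decide +kernel
theorem chkF_1558000 : allRangeF (checkFactF cert) (nat_lit 1558000) (nat_lit 1000) = true := by decide +kernel
theorem chkF_1559000 : allRangeF (checkFactF cert) (nat_lit 1559000) (nat_lit 1000) = true := by decide +kernel
theorem chkF_1560000 : allRangeF (checkFactF cert) (nat_lit 1560000) (nat_lit 1000) = true := by decide +kernel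
theorem chkF_1561000 : allRangeF (checkFactF cert) (nat_lit 1561000) (nat_lit 1000) = true := by decide +kernel
theorem chkF_1562000 : allRangeF (checkFactF cert) (nat_lit 1562000) (nat_lit 1000) = true := by decide +kernel
theorem chkF_1563000 : allRangeF (checkFactF cert) (nat_lit 1563000) (nat_lit 1000) = true := by decide +kernel
theorem chkF_1564000 : allRangeF (checkFactF cert) (nat_lit 1564000) (nat_lit 1000) = true := by decide +kernel
theorem chkF_1565000 : allRangeF (checkFactF cert) (nat_lit 1565000) (nat_lit 1000) = true := by decide +kernel
theorem chkF_1566000 : allRangeF (checkFactF cert) (nat_lit 1566000) (nat_lit 1000) = true := by decide +kernel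
theorem chkF_1567000 : allRangeF (checkFactF cert) (nat_lit 1567000) (nat_lit 1000) = true := by decide +kernel
theorem chkF_1568000 : allRangeF (checkFactF cert) (nat_lit 1568000) (nat_lit 1000) = true := by decide +kernel
theorem chkF_1569000 : allRangeF (checkFactF cert) (nat_lit 1569000) (nat_lit 1000) = true := by decide +kernel
theorem chkF_1570000 : allRangeF (checkFactF cert) (nat_lit 1570000) (nat_lit 1000) = true := by decide +kernel
theorem chkF_1571000 : allRangeF (checkFactF cert) (nat_lit 1571000) (nat_lit 1000) = true := by decide +kernel
theorem chkF_1572000 : allRangeF (checkFactF cert) (nat_lit 1572000) (nat_lit 1000) = true := by decide +kernel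
theorem chkF_1573000 : allRangeF (checkFactF cert) (nat_lit 1573000) (nat_lit 1000) = true := by decide +kernel
theorem chkF_1574000 : allRangeF (checkFactF cert) (nat_lit 1574000) (nat_lit 1000) = true := by decide +kernel
theorem chkF_1575000 : allRangeF (checkFactF cert) (nat_lit 1575000) (nat_lit 1000) = true := by decide +kernel
theorem chkF_1576000 : allRangeF (checkFactF cert) (nat_lit 1576000) (nat_lit 1000) = true := by decide +kernel
theorem chkF_1577000 : allRangeF (checkFactF cert) (nat_lit 1577000) (nat_lit 1000) = true := by decide +kernel
theorem chkF_1578000 : allRangeF (checkFactF cert) (nat_lit 1578000) (nat_lit 1000) = true := by decide +kernel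
theorem chkF_1579000 : allRangeF (checkFactF cert) (nat_lit 1579000) (nat_lit 1000) = true := by decide +kernel
theorem chkF_1580000 : allRangeF (checkFactF cert) (nat_lit 1580000) (nat_lit 1000) = true := by decide +kernel
theorem chkF_1581000 : allRangeF (checkFactF cert) (nat_lit 1581000) (nat_lit 1000) = true := by decide +kernel
theorem chkF_1582000 : allRangeF (checkFactF cert) (nat_lit 1582000) (nat_lit 1000) = true := by decide +kernel
theorem chkF_1583000 : allRangeF (checkFactF cert) (nat_lit 1583000) (nat_lit 1000) = true := by decide +kernel

theorem factsRange_15 : ∀ i, 1485000 ≤ i → i < 1584000 → checkFact cert i = true := by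
  intro i hlo hhi
  rcases Nat.lt_or_ge i 1534000 with h1 | h1
  · skip
    rcases Nat.lt_or_ge i 1509000 with h2 | h2
    · skip
      rcases Nat.lt_or_ge i 1497000 with h3 | h3
      · skip
        rcases Nat.lt_or_ge i 1491000 with h4 | h4
        · skip
          rcases Nat.lt_or_ge i 1488000 with h5 | h5
          · skip
            rcases Nat.lt_or_ge i 1486000 with h6 | h6
            · skip
              exact allRangeF_sound _ _ (checkFactF_eq cert) 1485000 1000 chkF_1485000 i (by omega) (by omega)
            · skip
              rcases Nat.lt_or_ge i 1487000 with h7 | h7
              · skip
                exact allRangeF_sound _ _ (checkFactF_eq cert) 1486000 1000 chkF_1486000 i (by omega) (by omega)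
              · skip
                exact allRangeF_sound _ _ (checkFactF_eq cert) 1487000 1000 chkF_1487000 i (by omega) (by omega)
          · skip
            rcases Nat.lt_or_ge i 1489000 with h6 | h6
            · skip
              exact allRangeF_sound _ _ (checkFactF_eq cert) 1488000 1000 chkF_1488000 i (by omega) (by omega)
            · skip
              rcases Nat.lt_or_ge i 1490000 with h7 | h7
              · skip
                exact allRangeF_sound _ _ (checkFactF_eq cert) 1489000 1000 chkF_1489000 i (by omega) (by omega)
              · skip
                exact allRangeF_sound _ _ (checkFactF_eq cert) 1490000 1000 chkF_1490000 i (by omega) (by omega)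
        · skip
          rcases Nat.lt_or_ge i 1494000 with h5 | h5
          · skip
            rcases Nat.lt_or_ge i 1492000 with h6 | h6
            · skip
              exact allRangeF_sound _ _ (checkFactF_eq cert) 1491000 1000 chkF_1491000 i (by omega) (by omega)
            · skip
              rcases Nat.lt_or_ge i 1493000 with h7 | h7
              · skip
                exact allRangeF_sound _ _ (checkFactF_eq cert) 1492000 1000 chkF_1492000 i (by omega) (by omega)
              · skip
                exact allRangeF_sound _ _ (checkFactF_eq cert) 1493000 1000 chkF_1493000 i (by omega) (by omega)
          · skip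
            rcases Nat.lt_or_ge i 1495000 with h6 | h6
            · skip
              exact allRangeF_sound _ _ (checkFactF_eq cert) 1494000 1000 chkF_1494000 i (by omega) (by omega)
            · skip
              rcases Nat.lt_or_ge i 1496000 with h7 | h7
              · skip
                exact allRangeF_sound _ _ (checkFactF_eq cert) 1495000 1000 chkF_1495000 i (by omega) (by omega)
              · skip
                exact allRangeF_sound _ _ (checkFactF_eq cert) 1496000 1000 chkF_1496000 i (by omega) (by omega)
      · skip
        rcases Nat.lt_or_ge i 1503000 with h4 | h4
        · skip
          rcases Nat.lt_or_ge i 1500000 with h5 | h5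
          · skip
            rcases Nat.lt_or_ge i 1498000 with h6 | h6
            · skip
              exact allRangeF_sound _ _ (checkFactF_eq cert) 1497000 1000 chkF_1497000 i (by omega) (by omega)
            · skip
              rcases Nat.lt_or_ge i 1499000 with h7 | h7
              · skip
                exact allRangeF_sound _ _ (checkFactF_eq cert) 1498000 1000 chkF_1498000 i (by omega) (by omega)
              · skip
                exact allRangeF_sound _ _ (checkFactF_eq cert) 1499000 1000 chkF_1499000 i (by omega) (by omega)
          · skip
            rcases Nat.lt_or_ge i 1501000 with h6 | h6
            · skip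
              exact allRangeF_sound _ _ (checkFactF_eq cert) 1500000 1000 chkF_1500000 i (by omega) (by omega)
            · skip
              rcases Nat.lt_or_ge i 1502000 with h7 | h7
              · skip
                exact allRangeF_sound _ _ (checkFactF_eq cert) 1501000 1000 chkF_1501000 i (by omega) (by omega)
              · skip
                exact allRangeF_sound _ _ (checkFactF_eq cert) 1502000 1000 chkF_1502000 i (by omega) (by omega)
        · skip
          rcases Nat.lt_or_ge i 1506000 with h5 | h5
          · skip
            rcases Nat.lt_or_ge i 1504000 with h6 | h6
            · skip
              exact allRangeF_sound _ _ (checkFactF_eq cert) 1503000 1000 chkF_1503000 i (by omega) (by omega)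
            · skip
              rcases Nat.lt_or_ge i 1505000 with h7 | h7
              · skip
                exact allRangeF_sound _ _ (checkFactF_eq cert) 1504000 1000 chkF_1504000 i (by omega) (by omega)
              · skip
                exact allRangeF_sound _ _ (checkFactF_eq cert) 1505000 1000 chkF_1505000 i (by omega) (by omega)
          · skip
            rcases Nat.lt_or_ge i 1507000 with h6 | h6
            · skip
              exact allRangeF_sound _ _ (checkFactF_eq cert) 1506000 1000 chkF_1506000 i (by omega) (by omega)
            · skip
              rcases Nat.lt_or_ge i 1508000 with h7 | h7
              · skip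
                exact allRangeF_sound _ _ (checkFactF_eq cert) 1507000 1000 chkF_1507000 i (by omega) (by omega)
              · skip
                exact allRangeF_sound _ _ (checkFactF_eq cert) 1508000 1000 chkF_1508000 i (by omega) (by omega)
    · skip
      rcases Nat.lt_or_ge i 1521000 with h3 | h3
      · skip
        rcases Nat.lt_or_ge i 1515000 with h4 | h4
        · skip
          rcases Nat.lt_or_ge i 1512000 with h5 | h5
          · skip
            rcases Nat.lt_or_ge i 1510000 with h6 | h6
            · skip
              exact allRangeF_sound _ _ (checkFactF_eq cert) 1509000 1000 chkF_1509000 i (by omega) (by omega)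
            · skip
              rcases Nat.lt_or_ge i 1511000 with h7 | h7
              · skip
                exact allRangeF_sound _ _ (checkFactF_eq cert) 1510000 1000 chkF_1510000 i (by omega) (by omega)
              · skip
                exact allRangeF_sound _ _ (checkFactF_eq cert) 1511000 1000 chkF_1511000 i (by omega) (by omega)
          · skip
            rcases Nat.lt_or_ge i 1513000 with h6 | h6
            · skip
              exact allRangeF_sound _ _ (checkFactF_eq cert) 1512000 1000 chkF_1512000 i (by omega) (by omega)
            · skip
              rcases Nat.lt_or_ge i 1514000 with h7 | h7
              · skip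
                exact allRangeF_sound _ _ (checkFactF_eq cert) 1513000 1000 chkF_1513000 i (by omega) (by omega)
              · skip
                exact allRangeF_sound _ _ (checkFactF_eq cert) 1514000 1000 chkF_1514000 i (by omega) (by omega)
        · skip
          rcases Nat.lt_or_ge i 1518000 with h5 | h5
          · skip
            rcases Nat.lt_or_ge i 1516000 with h6 | h6
            · skip
              exact allRangeF_sound _ _ (checkFactF_eq cert) 1515000 1000 chkF_1515000 i (by omega) (by omega)
            · skip
              rcases Nat.lt_or_ge i 1517000 with h7 | h7
              · skip
                exact allRangeF_sound _ _ (checkFactF_eq cert) 1516000 1000 chkF_1516000 i (by omega) (by omega)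
              · skip
                exact allRangeF_sound _ _ (checkFactF_eq cert) 1517000 1000 chkF_1517000 i (by omega) (by omega)
          · skip
            rcases Nat.lt_or_ge i 1519000 with h6 | h6
            · skip
              exact allRangeF_sound _ _ (checkFactF_eq cert) 1518000 1000 chkF_1518000 i (by omega) (by omega)
            · skip
              rcases Nat.lt_or_ge i 1520000 with h7 | h7
              · skip
                exact allRangeF_sound _ _ (checkFactF_eq cert) 1519000 1000 chkF_1519000 i (by omega) (by omega)
              · skip
                exact allRangeF_sound _ _ (checkFactF_eq cert) 1520000 1000 chkF_1520000 i (by omega) (by omega)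
      · skip
        rcases Nat.lt_or_ge i 1527000 with h4 | h4
        · skip
          rcases Nat.lt_or_ge i 1524000 with h5 | h5
          · skip
            rcases Nat.lt_or_ge i 1522000 with h6 | h6
            · skip
              exact allRangeF_sound _ _ (checkFactF_eq cert) 1521000 1000 chkF_1521000 i (by omega) (by omega)
            · skip
              rcases Nat.lt_or_ge i 1523000 with h7 | h7
              · skip
                exact allRangeF_sound _ _ (checkFactF_eq cert) 1522000 1000 chkF_1522000 i (by omega) (by omega)
              · skip
                exact allRangeF_sound _ _ (checkFactF_eq cert) 1523000 1000 chkF_1523000 i (by omega) (by omega)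
          · skip
            rcases Nat.lt_or_ge i 1525000 with h6 | h6
            · skip
              exact allRangeF_sound _ _ (checkFactF_eq cert) 1524000 1000 chkF_1524000 i (by omega) (by omega)
            · skip
              rcases Nat.lt_or_ge i 1526000 with h7 | h7
              · skip
                exact allRangeF_sound _ _ (checkFactF_eq cert) 1525000 1000 chkF_1525000 i (by omega) (by omega)
              · skip
                exact allRangeF_sound _ _ (checkFactF_eq cert) 1526000 1000 chkF_1526000 i (by omega) (by omega)
        · skip
          rcases Nat.lt_or_ge i 1530000 with h5 | h5
          · skip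
            rcases Nat.lt_or_ge i 1528000 with h6 | h6
            · skip
              exact allRangeF_sound _ _ (checkFactF_eq cert) 1527000 1000 chkF_1527000 i (by omega) (by omega)
            · skip
              rcases Nat.lt_or_ge i 1529000 with h7 | h7
              · skip
                exact allRangeF_sound _ _ (checkFactF_eq cert) 1528000 1000 chkF_1528000 i (by omega) (by omega)
              · skip
                exact allRangeF_sound _ _ (checkFactF_eq cert) 1529000 1000 chkF_1529000 i (by omega) (by omega)
          · skip
            rcases Nat.lt_or_ge i 1532000 with h6 | h6
            · skip
              rcases Nat.lt_or_ge i 1531000 with h7 | h7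
              · skip
                exact allRangeF_sound _ _ (checkFactF_eq cert) 1530000 1000 chkF_1530000 i (by omega) (by omega)
              · skip
                exact allRangeF_sound _ _ (checkFactF_eq cert) 1531000 1000 chkF_1531000 i (by omega) (by omega)
            · skip
              rcases Nat.lt_or_ge i 1533000 with h7 | h7
              · skip
                exact allRangeF_sound _ _ (checkFactF_eq cert) 1532000 1000 chkF_1532000 i (by omega) (by omega)
              · skip
                exact allRangeF_sound _ _ (checkFactF_eq cert) 1533000 1000 chkF_1533000 i (by omega) (by omega)
  · skip
    rcases Nat.lt_or_ge i 1559000 with h2 | h2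
    · skip
      rcases Nat.lt_or_ge i 1546000 with h3 | h3
      · skip
        rcases Nat.lt_or_ge i 1540000 with h4 | h4
        · skip
          rcases Nat.lt_or_ge i 1537000 with h5 | h5
          · skip
            rcases Nat.lt_or_ge i 1535000 with h6 | h6
            · skip
              exact allRangeF_sound _ _ (checkFactF_eq cert) 1534000 1000 chkF_1534000 i (by omega) (by omega)
            · skip
              rcases Nat.lt_or_ge i 1536000 with h7 | h7
              · skip
                exact allRangeF_sound _ _ (checkFactF_eq cert) 1535000 1000 chkF_1535000 i (by omega) (by omega)
              · skip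
                exact allRangeF_sound _ _ (checkFactF_eq cert) 1536000 1000 chkF_1536000 i (by omega) (by omega)
          · skip
            rcases Nat.lt_or_ge i 1538000 with h6 | h6
            · skip
              exact allRangeF_sound _ _ (checkFactF_eq cert) 1537000 1000 chkF_1537000 i (by omega) (by omega)
            · skip
              rcases Nat.lt_or_ge i 1539000 with h7 | h7
              · skip
                exact allRangeF_sound _ _ (checkFactF_eq cert) 1538000 1000 chkF_1538000 i (by omega) (by omega)
              · skip
                exact allRangeF_sound _ _ (checkFactF_eq cert) 1539000 1000 chkF_1539000 i (by omega) (by omega)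
        · skip
          rcases Nat.lt_or_ge i 1543000 with h5 | h5
          · skip
            rcases Nat.lt_or_ge i 1541000 with h6 | h6
            · skip
              exact allRangeF_sound _ _ (checkFactF_eq cert) 1540000 1000 chkF_1540000 i (by omega) (by omega)
            · skip
              rcases Nat.lt_or_ge i 1542000 with h7 | h7
              · skip
                exact allRangeF_sound _ _ (checkFactF_eq cert) 1541000 1000 chkF_1541000 i (by omega) (by omega)
              · skip
                exact allRangeF_sound _ _ (checkFactF_eq cert) 1542000 1000 chkF_1542000 i (by omega) (by omega)
          · skip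
            rcases Nat.lt_or_ge i 1544000 with h6 | h6
            · skip
              exact allRangeF_sound _ _ (checkFactF_eq cert) 1543000 1000 chkF_1543000 i (by omega) (by omega)
            · skip
              rcases Nat.lt_or_ge i 1545000 with h7 | h7
              · skip
                exact allRangeF_sound _ _ (checkFactF_eq cert) 1544000 1000 chkF_1544000 i (by omega) (by omega)
              · skip
                exact allRangeF_sound _ _ (checkFactF_eq cert) 1545000 1000 chkF_1545000 i (by omega) (by omega)
      · skip
        rcases Nat.lt_or_ge i 1552000 with h4 | h4
        · skip
          rcases Nat.lt_or_ge i 1549000 with h5 | h5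
          · skip
            rcases Nat.lt_or_ge i 1547000 with h6 | h6
            · skip
              exact allRangeF_sound _ _ (checkFactF_eq cert) 1546000 1000 chkF_1546000 i (by omega) (by omega)
            · skip
              rcases Nat.lt_or_ge i 1548000 with h7 | h7
              · skip
                exact allRangeF_sound _ _ (checkFactF_eq cert) 1547000 1000 chkF_1547000 i (by omega) (by omega)
              · skip
                exact allRangeF_sound _ _ (checkFactF_eq cert) 1548000 1000 chkF_1548000 i (by omega) (by omega)
          · skip
            rcases Nat.lt_or_ge i 1550000 with h6 | h6
            · skip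
              exact allRangeF_sound _ _ (checkFactF_eq cert) 1549000 1000 chkF_1549000 i (by omega) (by omega)
            · skip
              rcases Nat.lt_or_ge i 1551000 with h7 | h7
              · skip
                exact allRangeF_sound _ _ (checkFactF_eq cert) 1550000 1000 chkF_1550000 i (by omega) (by omega)
              · skip
                exact allRangeF_sound _ _ (checkFactF_eq cert) 1551000 1000 chkF_1551000 i (by omega) (by omega)
        · skip
          rcases Nat.lt_or_ge i 1555000 with h5 | h5
          · skip
            rcases Nat.lt_or_ge i 1553000 with h6 | h6
            · skip
              exact allRangeF_sound _ _ (checkFactF_eq cert) 1552000 1000 chkF_1552000 i (by omega) (by omega)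
            · skip
              rcases Nat.lt_or_ge i 1554000 with h7 | h7
              · skip
                exact allRangeF_sound _ _ (checkFactF_eq cert) 1553000 1000 chkF_1553000 i (by omega) (by omega)
              · skip
                exact allRangeF_sound _ _ (checkFactF_eq cert) 1554000 1000 chkF_1554000 i (by omega) (by omega)
          · skip
            rcases Nat.lt_or_ge i 1557000 with h6 | h6
            · skip
              rcases Nat.lt_or_ge i 1556000 with h7 | h7
              · skip
                exact allRangeF_sound _ _ (checkFactF_eq cert) 1555000 1000 chkF_1555000 i (by omega) (by omega)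
              · skip
                exact allRangeF_sound _ _ (checkFactF_eq cert) 1556000 1000 chkF_1556000 i (by omega) (by omega)
            · skip
              rcases Nat.lt_or_ge i 1558000 with h7 | h7
              · skip
                exact allRangeF_sound _ _ (checkFactF_eq cert) 1557000 1000 chkF_1557000 i (by omega) (by omega)
              · skip
                exact allRangeF_sound _ _ (checkFactF_eq cert) 1558000 1000 chkF_1558000 i (by omega) (by omega)
    · skip
      rcases Nat.lt_or_ge i 1571000 with h3 | h3
      · skip
        rcases Nat.lt_or_ge i 1565000 with h4 | h4
        · skip
          rcases Nat.lt_or_ge i 1562000 with h5 | h5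
          · skip
            rcases Nat.lt_or_ge i 1560000 with h6 | h6
            · skip
              exact allRangeF_sound _ _ (checkFactF_eq cert) 1559000 1000 chkF_1559000 i (by omega) (by omega)
            · skip
              rcases Nat.lt_or_ge i 1561000 with h7 | h7
              · skip
                exact allRangeF_sound _ _ (checkFactF_eq cert) 1560000 1000 chkF_1560000 i (by omega) (by omega)
              · skip
                exact allRangeF_sound _ _ (checkFactF_eq cert) 1561000 1000 chkF_1561000 i (by omega) (by omega)
          · skip
            rcases Nat.lt_or_ge i 1563000 with h6 | h6
            · skip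
              exact allRangeF_sound _ _ (checkFactF_eq cert) 1562000 1000 chkF_1562000 i (by omega) (by omega)
            · skip
              rcases Nat.lt_or_ge i 1564000 with h7 | h7
              · skip
                exact allRangeF_sound _ _ (checkFactF_eq cert) 1563000 1000 chkF_1563000 i (by omega) (by omega)
              · skip
                exact allRangeF_sound _ _ (checkFactF_eq cert) 1564000 1000 chkF_1564000 i (by omega) (by omega)
        · skip
          rcases Nat.lt_or_ge i 1568000 with h5 | h5
          · skip
            rcases Nat.lt_or_ge i 1566000 with h6 | h6
            · skip
              exact allRangeF_sound _ _ (checkFactF_eq cert) 1565000 1000 chkF_1565000 i (by omega) (by omega)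
            · skip
              rcases Nat.lt_or_ge i 1567000 with h7 | h7
              · skip
                exact allRangeF_sound _ _ (checkFactF_eq cert) 1566000 1000 chkF_1566000 i (by omega) (by omega)
              · skip
                exact allRangeF_sound _ _ (checkFactF_eq cert) 1567000 1000 chkF_1567000 i (by omega) (by omega)
          · skip
            rcases Nat.lt_or_ge i 1569000 with h6 | h6
            · skip
              exact allRangeF_sound _ _ (checkFactF_eq cert) 1568000 1000 chkF_1568000 i (by omega) (by omega)
            · skip
              rcases Nat.lt_or_ge i 1570000 with h7 | h7
              · skip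
                exact allRangeF_sound _ _ (checkFactF_eq cert) 1569000 1000 chkF_1569000 i (by omega) (by omega)
              · skip
                exact allRangeF_sound _ _ (checkFactF_eq cert) 1570000 1000 chkF_1570000 i (by omega) (by omega)
      · skip
        rcases Nat.lt_or_ge i 1577000 with h4 | h4
        · skip
          rcases Nat.lt_or_ge i 1574000 with h5 | h5
          · skip
            rcases Nat.lt_or_ge i 1572000 with h6 | h6
            · skip
              exact allRangeF_sound _ _ (checkFactF_eq cert) 1571000 1000 chkF_1571000 i (by omega) (by omega)
            · skip
              rcases Nat.lt_or_ge i 1573000 with h7 | h7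
              · skip
                exact allRangeF_sound _ _ (checkFactF_eq cert) 1572000 1000 chkF_1572000 i (by omega) (by omega)
              · skip
                exact allRangeF_sound _ _ (checkFactF_eq cert) 1573000 1000 chkF_1573000 i (by omega) (by omega)
          · skip
            rcases Nat.lt_or_ge i 1575000 with h6 | h6
            · skip
              exact allRangeF_sound _ _ (checkFactF_eq cert) 1574000 1000 chkF_1574000 i (by omega) (by omega)
            · skip
              rcases Nat.lt_or_ge i 1576000 with h7 | h7
              · skip
                exact allRangeF_sound _ _ (checkFactF_eq cert) 1575000 1000 chkF_1575000 i (by omega) (by omega)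
              · skip
                exact allRangeF_sound _ _ (checkFactF_eq cert) 1576000 1000 chkF_1576000 i (by omega) (by omega)
        · skip
          rcases Nat.lt_or_ge i 1580000 with h5 | h5
          · skip
            rcases Nat.lt_or_ge i 1578000 with h6 | h6
            · skip
              exact allRangeF_sound _ _ (checkFactF_eq cert) 1577000 1000 chkF_1577000 i (by omega) (by omega)
            · skip
              rcases Nat.lt_or_ge i 1579000 with h7 | h7
              · skip
                exact allRangeF_sound _ _ (checkFactF_eq cert) 1578000 1000 chkF_1578000 i (by omega) (by omega)
              · skip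
                exact allRangeF_sound _ _ (checkFactF_eq cert) 1579000 1000 chkF_1579000 i (by omega) (by omega)
          · skip
            rcases Nat.lt_or_ge i 1582000 with h6 | h6
            · skip
              rcases Nat.lt_or_ge i 1581000 with h7 | h7
              · skip
                exact allRangeF_sound _ _ (checkFactF_eq cert) 1580000 1000 chkF_1580000 i (by omega) (by omega)
              · skip
                exact allRangeF_sound _ _ (checkFactF_eq cert) 1581000 1000 chkF_1581000 i (by omega) (by omega)
            · skip
              rcases Nat.lt_or_ge i 1583000 with h7 | h7
              · skip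
                exact allRangeF_sound _ _ (checkFactF_eq cert) 1582000 1000 chkF_1582000 i (by omega) (by omega)
              · skip
                exact allRangeF_sound _ _ (checkFactF_eq cert) 1583000 1000 chkF_1583000 i (by omega) (by omega)

end Cfsg.Agent.Lib.Helper28.Fi24Data
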