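import Cfsg.Agent.Lib.Helper28.Fi24Data
import Cfsg.Agent.Lib.Helper28.TCFastFB

set_option autoImplicit false
set_option maxRecDepth 1000000
set_option linter.all false
set_option Elab.async false

namespace Cfsg.Agent.Lib.Helper28.Fi24Data

open Cfsg.Agent.Lib.Helper28B

theorem chkF_1584000 : allRangeF (checkFactF cert) (nat_lit 1584000) (nat_lit 1000) = true := by decide +kernel
theorem chkF_1585000 : allRangeF (checkFactF cert) (nat_lit 1585000) (nat_lit 1000) = true := by decide +kernel
theorem chkF_1586000 : allRangeF (checkFactF cert) (nat_lit 1586000) (nat_lit 1000) = true := by decide +kernel
theorem chkF_1587000 : allRangeF (checkFactF cert) (nat_lit 1587000) (nat_lit 1000) = true := by decide +kernel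
theorem chkF_1588000 : allRangeF (checkFactF cert) (nat_lit 1588000) (nat_lit 1000) = true := by decide +kernel
theorem chkF_1589000 : allRangeF (checkFactF cert) (nat_lit 1589000) (nat_lit 1000) = true := by decide +kernel
theorem chkF_1590000 : allRangeF (checkFactF cert) (nat_lit 1590000) (nat_lit 1000) = true := by decide +kernel
theorem chkF_1591000 : allRangeF (checkFactF cert) (nat_lit 1591000) (nat_lit 1000) = true := by decide +kernel
theorem chkF_1592000 : allRangeF (checkFactF cert) (nat_lit 1592000) (nat_lit 1000) = true := by decide +kernel
theorem chkF_1593000 : allRangeF (checkFactF cert) (nat_lit 1593000) (nat_lit 1000) = true := by decide +kernel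
theorem chkF_1594000 : allRangeF (checkFactF cert) (nat_lit 1594000) (nat_lit 1000) = true := by decide +kernel
theorem chkF_1595000 : allRangeF (checkFactF cert) (nat_lit 1595000) (nat_lit 1000) = true := by decide +kernel
theorem chkF_1596000 : allRangeF (checkFactF cert) (nat_lit 1596000) (nat_lit 1000) = true := by decide +kernel
theorem chkF_1597000 : allRangeF (checkFactF cert) (nat_lit 1597000) (nat_lit 1000) = true := by decide +kernel
theorem chkF_1598000 : allRangeF (checkFactF cert) (nat_lit 1598000) (nat_lit 1000) = true := by decide +kernel
theorem chkF_1599000 : allRangeF (checkFactF cert) (nat_lit 1599000) (nat_lit 1000) = true := by decide +kernel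
theorem chkF_1600000 : allRangeF (checkFactF cert) (nat_lit 1600000) (nat_lit 1000) = true := by decide +kernel
theorem chkF_1601000 : allRangeF (checkFactF cert) (nat_lit 1601000) (nat_lit 1000) = true := by decide +kernel
theorem chkF_1602000 : allRangeF (checkFactF cert) (nat_lit 1602000) (nat_lit 1000) = true := by decide +kernel
theorem chkF_1603000 : allRangeF (checkFactF cert) (nat_lit 1603000) (nat_lit 1000) = true := by decide +kernel
theorem chkF_1604000 : allRangeF (checkFactF cert) (nat_lit 1604000) (nat_lit 1000) = true := by decide +kernel
theorem chkF_1605000 : allRangeF (checkFactF cert) (nat_lit 1605000) (nat_lit 1000) = true := by decide +kernel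
theorem chkF_1606000 : allRangeF (checkFactF cert) (nat_lit 1606000) (nat_lit 1000) = true := by decide +kernel
theorem chkF_1607000 : allRangeF (checkFactF cert) (nat_lit 1607000) (nat_lit 1000) = true := by decide +kernel
theorem chkF_1608000 : allRangeF (checkFactF cert) (nat_lit 1608000) (nat_lit 1000) = true := by decide +kernel
theorem chkF_1609000 : allRangeF (checkFactF cert) (nat_lit 1609000) (nat_lit 1000) = true := by decide +kernel
theorem chkF_1610000 : allRangeF (checkFactF cert) (nat_lit 1610000) (nat_lit 1000) = true := by decide +kernel
theorem chkF_1611000 : allRangeF (checkFactF cert) (nat_lit 1611000) (nat_lit 1000) = true := by decide +kernel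
theorem chkF_1612000 : allRangeF (checkFactF cert) (nat_lit 1612000) (nat_lit 1000) = true := by decide +kernel
theorem chkF_1613000 : allRangeF (checkFactF cert) (nat_lit 1613000) (nat_lit 1000) = true := by decide +kernel
theorem chkF_1614000 : allRangeF (checkFactF cert) (nat_lit 1614000) (nat_lit 1000) = true := by decide +kernel
theorem chkF_1615000 : allRangeF (checkFactF cert) (nat_lit 1615000) (nat_lit 1000) = true := by decide +kernel
theorem chkF_1616000 : allRangeF (checkFactF cert) (nat_lit 1616000) (nat_lit 1000) = true := by decide +kernel
theorem chkF_1617000 : allRangeF (checkFactF cert) (nat_lit 1617000) (nat_lit 1000) = true := by decide +kernel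
theorem chkF_1618000 : allRangeF (checkFactF cert) (nat_lit 1618000) (nat_lit 1000) = true := by decide +kernel
theorem chkF_1619000 : allRangeF (checkFactF cert) (nat_lit 1619000) (nat_lit 1000) = true := by decide +kernel
theorem chkF_1620000 : allRangeF (checkFactF cert) (nat_lit 1620000) (nat_lit 1000) = true := by decide +kernel
theorem chkF_1621000 : allRangeF (checkFactF cert) (nat_lit 1621000) (nat_lit 1000) = true := by decide +kernel
theorem chkF_1622000 : allRangeF (checkFactF cert) (nat_lit 1622000) (nat_lit 1000) = true := by decide +kernel
theorem chkF_1623000 : allRangeF (checkFactF cert) (nat_lit 1623000) (nat_lit 1000) = true := by decide +kernel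
theorem chkF_1624000 : allRangeF (checkFactF cert) (nat_lit 1624000) (nat_lit 1000) = true := by decide +kernel
theorem chkF_1625000 : allRangeF (checkFactF cert) (nat_lit 1625000) (nat_lit 1000) = true := by decide +kernel
theorem chkF_1626000 : allRangeF (checkFactF cert) (nat_lit 1626000) (nat_lit 1000) = true := by decide +kernel
theorem chkF_1627000 : allRangeF (checkFactF cert) (nat_lit 1627000) (nat_lit 1000) = true := by decide +kernel
theorem chkF_1628000 : allRangeF (checkFactF cert) (nat_lit 1628000) (nat_lit 1000) = true := by decide +kernel
theorem chkF_1629000 : allRangeF (checkFactF cert) (nat_lit 1629000) (nat_lit 1000) = true := by decide +kernel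
theorem chkF_1630000 : allRangeF (checkFactF cert) (nat_lit 1630000) (nat_lit 1000) = true := by decide +kernel
theorem chkF_1631000 : allRangeF (checkFactF cert) (nat_lit 1631000) (nat_lit 1000) = true := by decide +kernel
theorem chkF_1632000 : allRangeF (checkFactF cert) (nat_lit 1632000) (nat_lit 1000) = true := by decide +kernel
theorem chkF_1633000 : allRangeF (checkFactF cert) (nat_lit 1633000) (nat_lit 1000) = true := by decide +kernel
theorem chkF_1634000 : allRangeF (checkFactF cert) (nat_lit 1634000) (nat_lit 1000) = true := by decide +kernel
theorem chkF_1635000 : allRangeF (checkFactF cert) (nat_lit 1635000) (nat_lit 1000) = true := by decide +kernel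
theorem chkF_1636000 : allRangeF (checkFactF cert) (nat_lit 1636000) (nat_lit 1000) = true := by decide +kernel
theorem chkF_1637000 : allRangeF (checkFactF cert) (nat_lit 1637000) (nat_lit 1000) = true := by decide +kernel
theorem chkF_1638000 : allRangeF (checkFactF cert) (nat_lit 1638000) (nat_lit 1000) = true := by decide +kernel
theorem chkF_1639000 : allRangeF (checkFactF cert) (nat_lit 1639000) (nat_lit 1000) = true := by decide +kernel
theorem chkF_1640000 : allRangeF (checkFactF cert) (nat_lit 1640000) (nat_lit 1000) = true := by decide +kernel
theorem chkF_1641000 : allRangeF (checkFactF cert) (nat_lit 1641000) (nat_lit 1000) = true := by decide +kernel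
theorem chkF_1642000 : allRangeF (checkFactF cert) (nat_lit 1642000) (nat_lit 1000) = true := by decide +kernel
theorem chkF_1643000 : allRangeF (checkFactF cert) (nat_lit 1643000) (nat_lit 1000) = true := by decide +kernel
theorem chkF_1644000 : allRangeF (checkFactF cert) (nat_lit 1644000) (nat_lit 1000) = true := by decide +kernel
theorem chkF_1645000 : allRangeF (checkFactF cert) (nat_lit 1645000) (nat_lit 1000) = true := by decide +kernel
theorem chkF_1646000 : allRangeF (checkFactF cert) (nat_lit 1646000) (nat_lit 1000) = true := by decide +kernel
theorem chkF_1647000 : allRangeF (checkFactF cert) (nat_lit 1647000) (nat_lit 1000) = true := by decide +kernel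
theorem chkF_1648000 : allRangeF (checkFactF cert) (nat_lit 1648000) (nat_lit 1000) = true := by decide +kernel
theorem chkF_1649000 : allRangeF (checkFactF cert) (nat_lit 1649000) (nat_lit 1000) = true := by decide +kernel
theorem chkF_1650000 : allRangeF (checkFactF cert) (nat_lit 1650000) (nat_lit 1000) = true := by decide +kernel
theorem chkF_1651000 : allRangeF (checkFactF cert) (nat_lit 1651000) (nat_lit 1000) = true := by decide +kernel
theorem chkF_1652000 : allRangeF (checkFactF cert) (nat_lit 1652000) (nat_lit 1000) = true := by decide +kernel
theorem chkF_1653000 : allRangeF (checkFactF cert) (nat_lit 1653000) (nat_lit 1000) = true := by decide +kernel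
theorem chkF_1654000 : allRangeF (checkFactF cert) (nat_lit 1654000) (nat_lit 1000) = true := by decide +kernel
theorem chkF_1655000 : allRangeF (checkFactF cert) (nat_lit 1655000) (nat_lit 1000) = true := by decide +kernel
theorem chkF_1656000 : allRangeF (checkFactF cert) (nat_lit 1656000) (nat_lit 1000) = true := by decide +kernel
theorem chkF_1657000 : allRangeF (checkFactF cert) (nat_lit 1657000) (nat_lit 1000) = true := by decide +kernel
theorem chkF_1658000 : allRangeF (checkFactF cert) (nat_lit 1658000) (nat_lit 1000) = true := by decide +kernel
theorem chkF_1659000 : allRangeF (checkFactF cert) (nat_lit 1659000) (nat_lit 1000) = true := by decide +kernel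
theorem chkF_1660000 : allRangeF (checkFactF cert) (nat_lit 1660000) (nat_lit 1000) = true := by decide +kernel
theorem chkF_1661000 : allRangeF (checkFactF cert) (nat_lit 1661000) (nat_lit 1000) = true := by decide +kernel
theorem chkF_1662000 : allRangeF (checkFactF cert) (nat_lit 1662000) (nat_lit 1000) = true := by decide +kernel
theorem chkF_1663000 : allRangeF (checkFactF cert) (nat_lit 1663000) (nat_lit 1000) = true := by decide +kernel
theorem chkF_1664000 : allRangeF (checkFactF cert) (nat_lit 1664000) (nat_lit 1000) = true := by decide +kernel
theorem chkF_1665000 : allRangeF (checkFactF cert) (nat_lit 1665000) (nat_lit 1000) = true := by decide +kernel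
theorem chkF_1666000 : allRangeF (checkFactF cert) (nat_lit 1666000) (nat_lit 1000) = true := by decide +kernel
theorem chkF_1667000 : allRangeF (checkFactF cert) (nat_lit 1667000) (nat_lit 1000) = true := by decide +kernel
theorem chkF_1668000 : allRangeF (checkFactF cert) (nat_lit 1668000) (nat_lit 1000) = true := by decide +kernel
theorem chkF_1669000 : allRangeF (checkFactF cert) (nat_lit 1669000) (nat_lit 1000) = true := by decide +kernel
theorem chkF_1670000 : allRangeF (checkFactF cert) (nat_lit 1670000) (nat_lit 1000) = true := by decide +kernel
theorem chkF_1671000 : allRangeF (checkFactF cert) (nat_lit 1671000) (nat_lit 1000) = true := by decide +kernel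
theorem chkF_1672000 : allRangeF (checkFactF cert) (nat_lit 1672000) (nat_lit 1000) = true := by decide +kernel
theorem chkF_1673000 : allRangeF (checkFactF cert) (nat_lit 1673000) (nat_lit 1000) = true := by decide +kernel
theorem chkF_1674000 : allRangeF (checkFactF cert) (nat_lit 1674000) (nat_lit 1000) = true := by decide +kernel
theorem chkF_1675000 : allRangeF (checkFactF cert) (nat_lit 1675000) (nat_lit 1000) = true := by decide +kernel
theorem chkF_1676000 : allRangeF (checkFactF cert) (nat_lit 1676000) (nat_lit 1000) = true := by decide +kernel
theorem chkF_1677000 : allRangeF (checkFactF cert) (nat_lit 1677000) (nat_lit 1000) = true := by decide +kernel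
theorem chkF_1678000 : allRangeF (checkFactF cert) (nat_lit 1678000) (nat_lit 1000) = true := by decide +kernel
theorem chkF_1679000 : allRangeF (checkFactF cert) (nat_lit 1679000) (nat_lit 1000) = true := by decide +kernel
theorem chkF_1680000 : allRangeF (checkFactF cert) (nat_lit 1680000) (nat_lit 1000) = true := by decide +kernel
theorem chkF_1681000 : allRangeF (checkFactF cert) (nat_lit 1681000) (nat_lit 1000) = true := by decide +kernel
theorem chkF_1682000 : allRangeF (checkFactF cert) (nat_lit 1682000) (nat_lit 1000) = true := by decide +kernel

theorem factsRange_16 : ∀ i, 1584000 ≤ i → i < 1683000 → checkFact cert i = true := by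
  intro i hlo hhi
  rcases Nat.lt_or_ge i 1633000 with h1 | h1
  · skip
    rcases Nat.lt_or_ge i 1608000 with h2 | h2
    · skip
      rcases Nat.lt_or_ge i 1596000 with h3 | h3
      · skip
        rcases Nat.lt_or_ge i 1590000 with h4 | h4
        · skip
          rcases Nat.lt_or_ge i 1587000 with h5 | h5
          · skip
            rcases Nat.lt_or_ge i 1585000 with h6 | h6
            · skip
              exact allRangeF_sound _ _ (checkFactF_eq cert) 1584000 1000 chkF_1584000 i (by omega) (by omega)
            · skip
              rcases Nat.lt_or_ge i 1586000 with h7 | h7
              · skip
                exact allRangeF_sound _ _ (checkFactF_eq cert) 1585000 1000 chkF_1585000 i (by omega) (by omega)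
              · skip
                exact allRangeF_sound _ _ (checkFactF_eq cert) 1586000 1000 chkF_1586000 i (by omega) (by omega)
          · skip
            rcases Nat.lt_or_ge i 1588000 with h6 | h6
            · skip
              exact allRangeF_sound _ _ (checkFactF_eq cert) 1587000 1000 chkF_1587000 i (by omega) (by omega)
            · skip
              rcases Nat.lt_or_ge i 1589000 with h7 | h7
              · skip
                exact allRangeF_sound _ _ (checkFactF_eq cert) 1588000 1000 chkF_1588000 i (by omega) (by omega)
              · skip
                exact allRangeF_sound _ _ (checkFactF_eq cert) 1589000 1000 chkF_1589000 i (by omega) (by omega)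
        · skip
          rcases Nat.lt_or_ge i 1593000 with h5 | h5
          · skip
            rcases Nat.lt_or_ge i 1591000 with h6 | h6
            · skip
              exact allRangeF_sound _ _ (checkFactF_eq cert) 1590000 1000 chkF_1590000 i (by omega) (by omega)
            · skip
              rcases Nat.lt_or_ge i 1592000 with h7 | h7
              · skip
                exact allRangeF_sound _ _ (checkFactF_eq cert) 1591000 1000 chkF_1591000 i (by omega) (by omega)
              · skip
                exact allRangeF_sound _ _ (checkFactF_eq cert) 1592000 1000 chkF_1592000 i (by omega) (by omega)
          · skip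
            rcases Nat.lt_or_ge i 1594000 with h6 | h6
            · skip
              exact allRangeF_sound _ _ (checkFactF_eq cert) 1593000 1000 chkF_1593000 i (by omega) (by omega)
            · skip
              rcases Nat.lt_or_ge i 1595000 with h7 | h7
              · skip
                exact allRangeF_sound _ _ (checkFactF_eq cert) 1594000 1000 chkF_1594000 i (by omega) (by omega)
              · skip
                exact allRangeF_sound _ _ (checkFactF_eq cert) 1595000 1000 chkF_1595000 i (by omega) (by omega)
      · skip
        rcases Nat.lt_or_ge i 1602000 with h4 | h4
        · skip
          rcases Nat.lt_or_ge i 1599000 with h5 | h5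
          · skip
            rcases Nat.lt_or_ge i 1597000 with h6 | h6
            · skip
              exact allRangeF_sound _ _ (checkFactF_eq cert) 1596000 1000 chkF_1596000 i (by omega) (by omega)
            · skip
              rcases Nat.lt_or_ge i 1598000 with h7 | h7
              · skip
                exact allRangeF_sound _ _ (checkFactF_eq cert) 1597000 1000 chkF_1597000 i (by omega) (by omega)
              · skip
                exact allRangeF_sound _ _ (checkFactF_eq cert) 1598000 1000 chkF_1598000 i (by omega) (by omega)
          · skip
            rcases Nat.lt_or_ge i 1600000 with h6 | h6
            · skip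
              exact allRangeF_sound _ _ (checkFactF_eq cert) 1599000 1000 chkF_1599000 i (by omega) (by omega)
            · skip
              rcases Nat.lt_or_ge i 1601000 with h7 | h7
              · skip
                exact allRangeF_sound _ _ (checkFactF_eq cert) 1600000 1000 chkF_1600000 i (by omega) (by omega)
              · skip
                exact allRangeF_sound _ _ (checkFactF_eq cert) 1601000 1000 chkF_1601000 i (by omega) (by omega)
        · skip
          rcases Nat.lt_or_ge i 1605000 with h5 | h5
          · skip
            rcases Nat.lt_or_ge i 1603000 with h6 | h6
            · skip
              exact allRangeF_sound _ _ (checkFactF_eq cert) 1602000 1000 chkF_1602000 i (by omega) (by omega)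
            · skip
              rcases Nat.lt_or_ge i 1604000 with h7 | h7
              · skip
                exact allRangeF_sound _ _ (checkFactF_eq cert) 1603000 1000 chkF_1603000 i (by omega) (by omega)
              · skip
                exact allRangeF_sound _ _ (checkFactF_eq cert) 1604000 1000 chkF_1604000 i (by omega) (by omega)
          · skip
            rcases Nat.lt_or_ge i 1606000 with h6 | h6
            · skip
              exact allRangeF_sound _ _ (checkFactF_eq cert) 1605000 1000 chkF_1605000 i (by omega) (by omega)
            · skip
              rcases Nat.lt_or_ge i 1607000 with h7 | h7
              · skip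
                exact allRangeF_sound _ _ (checkFactF_eq cert) 1606000 1000 chkF_1606000 i (by omega) (by omega)
              · skip
                exact allRangeF_sound _ _ (checkFactF_eq cert) 1607000 1000 chkF_1607000 i (by omega) (by omega)
    · skip
      rcases Nat.lt_or_ge i 1620000 with h3 | h3
      · skip
        rcases Nat.lt_or_ge i 1614000 with h4 | h4
        · skip
          rcases Nat.lt_or_ge i 1611000 with h5 | h5
          · skip
            rcases Nat.lt_or_ge i 1609000 with h6 | h6
            · skip
              exact allRangeF_sound _ _ (checkFactF_eq cert) 1608000 1000 chkF_1608000 i (by omega) (by omega)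
            · skip
              rcases Nat.lt_or_ge i 1610000 with h7 | h7
              · skip
                exact allRangeF_sound _ _ (checkFactF_eq cert) 1609000 1000 chkF_1609000 i (by omega) (by omega)
              · skip
                exact allRangeF_sound _ _ (checkFactF_eq cert) 1610000 1000 chkF_1610000 i (by omega) (by omega)
          · skip
            rcases Nat.lt_or_ge i 1612000 with h6 | h6
            · skip
              exact allRangeF_sound _ _ (checkFactF_eq cert) 1611000 1000 chkF_1611000 i (by omega) (by omega)
            · skip
              rcases Nat.lt_or_ge i 1613000 with h7 | h7
              · skip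
                exact allRangeF_sound _ _ (checkFactF_eq cert) 1612000 1000 chkF_1612000 i (by omega) (by omega)
              · skip
                exact allRangeF_sound _ _ (checkFactF_eq cert) 1613000 1000 chkF_1613000 i (by omega) (by omega)
        · skip
          rcases Nat.lt_or_ge i 1617000 with h5 | h5
          · skip
            rcases Nat.lt_or_ge i 1615000 with h6 | h6
            · skip
              exact allRangeF_sound _ _ (checkFactF_eq cert) 1614000 1000 chkF_1614000 i (by omega) (by omega)
            · skip
              rcases Nat.lt_or_ge i 1616000 with h7 | h7
              · skip
                exact allRangeF_sound _ _ (checkFactF_eq cert) 1615000 1000 chkF_1615000 i (by omega) (by omega)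
              · skip
                exact allRangeF_sound _ _ (checkFactF_eq cert) 1616000 1000 chkF_1616000 i (by omega) (by omega)
          · skip
            rcases Nat.lt_or_ge i 1618000 with h6 | h6
            · skip
              exact allRangeF_sound _ _ (checkFactF_eq cert) 1617000 1000 chkF_1617000 i (by omega) (by omega)
            · skip
              rcases Nat.lt_or_ge i 1619000 with h7 | h7
              · skip
                exact allRangeF_sound _ _ (checkFactF_eq cert) 1618000 1000 chkF_1618000 i (by omega) (by omega)
              · skip
                exact allRangeF_sound _ _ (checkFactF_eq cert) 1619000 1000 chkF_1619000 i (by omega) (by omega)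
      · skip
        rcases Nat.lt_or_ge i 1626000 with h4 | h4
        · skip
          rcases Nat.lt_or_ge i 1623000 with h5 | h5
          · skip
            rcases Nat.lt_or_ge i 1621000 with h6 | h6
            · skip
              exact allRangeF_sound _ _ (checkFactF_eq cert) 1620000 1000 chkF_1620000 i (by omega) (by omega)
            · skip
              rcases Nat.lt_or_ge i 1622000 with h7 | h7
              · skip
                exact allRangeF_sound _ _ (checkFactF_eq cert) 1621000 1000 chkF_1621000 i (by omega) (by omega)
              · skip
                exact allRangeF_sound _ _ (checkFactF_eq cert) 1622000 1000 chkF_1622000 i (by omega) (by omega)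
          · skip
            rcases Nat.lt_or_ge i 1624000 with h6 | h6
            · skip
              exact allRangeF_sound _ _ (checkFactF_eq cert) 1623000 1000 chkF_1623000 i (by omega) (by omega)
            · skip
              rcases Nat.lt_or_ge i 1625000 with h7 | h7
              · skip
                exact allRangeF_sound _ _ (checkFactF_eq cert) 1624000 1000 chkF_1624000 i (by omega) (by omega)
              · skip
                exact allRangeF_sound _ _ (checkFactF_eq cert) 1625000 1000 chkF_1625000 i (by omega) (by omega)
        · skip
          rcases Nat.lt_or_ge i 1629000 with h5 | h5
          · skip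
            rcases Nat.lt_or_ge i 1627000 with h6 | h6
            · skip
              exact allRangeF_sound _ _ (checkFactF_eq cert) 1626000 1000 chkF_1626000 i (by omega) (by omega)
            · skip
              rcases Nat.lt_or_ge i 1628000 with h7 | h7
              · skip
                exact allRangeF_sound _ _ (checkFactF_eq cert) 1627000 1000 chkF_1627000 i (by omega) (by omega)
              · skip
                exact allRangeF_sound _ _ (checkFactF_eq cert) 1628000 1000 chkF_1628000 i (by omega) (by omega)
          · skip
            rcases Nat.lt_or_ge i 1631000 with h6 | h6
            · skip
              rcases Nat.lt_or_ge i 1630000 with h7 | h7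
              · skip
                exact allRangeF_sound _ _ (checkFactF_eq cert) 1629000 1000 chkF_1629000 i (by omega) (by omega)
              · skip
                exact allRangeF_sound _ _ (checkFactF_eq cert) 1630000 1000 chkF_1630000 i (by omega) (by omega)
            · skip
              rcases Nat.lt_or_ge i 1632000 with h7 | h7
              · skip
                exact allRangeF_sound _ _ (checkFactF_eq cert) 1631000 1000 chkF_1631000 i (by omega) (by omega)
              · skip
                exact allRangeF_sound _ _ (checkFactF_eq cert) 1632000 1000 chkF_1632000 i (by omega) (by omega)
  · skip
    rcases Nat.lt_or_ge i 1658000 with h2 | h2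
    · skip
      rcases Nat.lt_or_ge i 1645000 with h3 | h3
      · skip
        rcases Nat.lt_or_ge i 1639000 with h4 | h4
        · skip
          rcases Nat.lt_or_ge i 1636000 with h5 | h5
          · skip
            rcases Nat.lt_or_ge i 1634000 with h6 | h6
            · skip
              exact allRangeF_sound _ _ (checkFactF_eq cert) 1633000 1000 chkF_1633000 i (by omega) (by omega)
            · skip
              rcases Nat.lt_or_ge i 1635000 with h7 | h7
              · skip
                exact allRangeF_sound _ _ (checkFactF_eq cert) 1634000 1000 chkF_1634000 i (by omega) (by omega)
              · skip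
                exact allRangeF_sound _ _ (checkFactF_eq cert) 1635000 1000 chkF_1635000 i (by omega) (by omega)
          · skip
            rcases Nat.lt_or_ge i 1637000 with h6 | h6
            · skip
              exact allRangeF_sound _ _ (checkFactF_eq cert) 1636000 1000 chkF_1636000 i (by omega) (by omega)
            · skip
              rcases Nat.lt_or_ge i 1638000 with h7 | h7
              · skip
                exact allRangeF_sound _ _ (checkFactF_eq cert) 1637000 1000 chkF_1637000 i (by omega) (by omega)
              · skip
                exact allRangeF_sound _ _ (checkFactF_eq cert) 1638000 1000 chkF_1638000 i (by omega) (by omega)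
        · skip
          rcases Nat.lt_or_ge i 1642000 with h5 | h5
          · skip
            rcases Nat.lt_or_ge i 1640000 with h6 | h6
            · skip
              exact allRangeF_sound _ _ (checkFactF_eq cert) 1639000 1000 chkF_1639000 i (by omega) (by omega)
            · skip
              rcases Nat.lt_or_ge i 1641000 with h7 | h7
              · skip
                exact allRangeF_sound _ _ (checkFactF_eq cert) 1640000 1000 chkF_1640000 i (by omega) (by omega)
              · skip
                exact allRangeF_sound _ _ (checkFactF_eq cert) 1641000 1000 chkF_1641000 i (by omega) (by omega)
          · skip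
            rcases Nat.lt_or_ge i 1643000 with h6 | h6
            · skip
              exact allRangeF_sound _ _ (checkFactF_eq cert) 1642000 1000 chkF_1642000 i (by omega) (by omega)
            · skip
              rcases Nat.lt_or_ge i 1644000 with h7 | h7
              · skip
                exact allRangeF_sound _ _ (checkFactF_eq cert) 1643000 1000 chkF_1643000 i (by omega) (by omega)
              · skip
                exact allRangeF_sound _ _ (checkFactF_eq cert) 1644000 1000 chkF_1644000 i (by omega) (by omega)
      · skip
        rcases Nat.lt_or_ge i 1651000 with h4 | h4
        · skip
          rcases Nat.lt_or_ge i 1648000 with h5 | h5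
          · skip
            rcases Nat.lt_or_ge i 1646000 with h6 | h6
            · skip
              exact allRangeF_sound _ _ (checkFactF_eq cert) 1645000 1000 chkF_1645000 i (by omega) (by omega)
            · skip
              rcases Nat.lt_or_ge i 1647000 with h7 | h7
              · skip
                exact allRangeF_sound _ _ (checkFactF_eq cert) 1646000 1000 chkF_1646000 i (by omega) (by omega)
              · skip
                exact allRangeF_sound _ _ (checkFactF_eq cert) 1647000 1000 chkF_1647000 i (by omega) (by omega)
          · skip
            rcases Nat.lt_or_ge i 1649000 with h6 | h6
            · skip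
              exact allRangeF_sound _ _ (checkFactF_eq cert) 1648000 1000 chkF_1648000 i (by omega) (by omega)
            · skip
              rcases Nat.lt_or_ge i 1650000 with h7 | h7
              · skip
                exact allRangeF_sound _ _ (checkFactF_eq cert) 1649000 1000 chkF_1649000 i (by omega) (by omega)
              · skip
                exact allRangeF_sound _ _ (checkFactF_eq cert) 1650000 1000 chkF_1650000 i (by omega) (by omega)
        · skip
          rcases Nat.lt_or_ge i 1654000 with h5 | h5
          · skip
            rcases Nat.lt_or_ge i 1652000 with h6 | h6
            · skip
              exact allRangeF_sound _ _ (checkFactF_eq cert) 1651000 1000 chkF_1651000 i (by omega) (by omega)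
            · skip
              rcases Nat.lt_or_ge i 1653000 with h7 | h7
              · skip
                exact allRangeF_sound _ _ (checkFactF_eq cert) 1652000 1000 chkF_1652000 i (by omega) (by omega)
              · skip
                exact allRangeF_sound _ _ (checkFactF_eq cert) 1653000 1000 chkF_1653000 i (by omega) (by omega)
          · skip
            rcases Nat.lt_or_ge i 1656000 with h6 | h6
            · skip
              rcases Nat.lt_or_ge i 1655000 with h7 | h7
              · skip
                exact allRangeF_sound _ _ (checkFactF_eq cert) 1654000 1000 chkF_1654000 i (by omega) (by omega)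
              · skip
                exact allRangeF_sound _ _ (checkFactF_eq cert) 1655000 1000 chkF_1655000 i (by omega) (by omega)
            · skip
              rcases Nat.lt_or_ge i 1657000 with h7 | h7
              · skip
                exact allRangeF_sound _ _ (checkFactF_eq cert) 1656000 1000 chkF_1656000 i (by omega) (by omega)
              · skip
                exact allRangeF_sound _ _ (checkFactF_eq cert) 1657000 1000 chkF_1657000 i (by omega) (by omega)
    · skip
      rcases Nat.lt_or_ge i 1670000 with h3 | h3
      · skip
        rcases Nat.lt_or_ge i 1664000 with h4 | h4
        · skip
          rcases Nat.lt_or_ge i 1661000 with h5 | h5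
          · skip
            rcases Nat.lt_or_ge i 1659000 with h6 | h6
            · skip
              exact allRangeF_sound _ _ (checkFactF_eq cert) 1658000 1000 chkF_1658000 i (by omega) (by omega)
            · skip
              rcases Nat.lt_or_ge i 1660000 with h7 | h7
              · skip
                exact allRangeF_sound _ _ (checkFactF_eq cert) 1659000 1000 chkF_1659000 i (by omega) (by omega)
              · skip
                exact allRangeF_sound _ _ (checkFactF_eq cert) 1660000 1000 chkF_1660000 i (by omega) (by omega)
          · skip
            rcases Nat.lt_or_ge i 1662000 with h6 | h6
            · skip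
              exact allRangeF_sound _ _ (checkFactF_eq cert) 1661000 1000 chkF_1661000 i (by omega) (by omega)
            · skip
              rcases Nat.lt_or_ge i 1663000 with h7 | h7
              · skip
                exact allRangeF_sound _ _ (checkFactF_eq cert) 1662000 1000 chkF_1662000 i (by omega) (by omega)
              · skip
                exact allRangeF_sound _ _ (checkFactF_eq cert) 1663000 1000 chkF_1663000 i (by omega) (by omega)
        · skip
          rcases Nat.lt_or_ge i 1667000 with h5 | h5
          · skip
            rcases Nat.lt_or_ge i 1665000 with h6 | h6
            · skip
              exact allRangeF_sound _ _ (checkFactF_eq cert) 1664000 1000 chkF_1664000 i (by omega) (by omega)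
            · skip
              rcases Nat.lt_or_ge i 1666000 with h7 | h7
              · skip
                exact allRangeF_sound _ _ (checkFactF_eq cert) 1665000 1000 chkF_1665000 i (by omega) (by omega)
              · skip
                exact allRangeF_sound _ _ (checkFactF_eq cert) 1666000 1000 chkF_1666000 i (by omega) (by omega)
          · skip
            rcases Nat.lt_or_ge i 1668000 with h6 | h6
            · skip
              exact allRangeF_sound _ _ (checkFactF_eq cert) 1667000 1000 chkF_1667000 i (by omega) (by omega)
            · skip
              rcases Nat.lt_or_ge i 1669000 with h7 | h7
              · skip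
                exact allRangeF_sound _ _ (checkFactF_eq cert) 1668000 1000 chkF_1668000 i (by omega) (by omega)
              · skip
                exact allRangeF_sound _ _ (checkFactF_eq cert) 1669000 1000 chkF_1669000 i (by omega) (by omega)
      · skip
        rcases Nat.lt_or_ge i 1676000 with h4 | h4
        · skip
          rcases Nat.lt_or_ge i 1673000 with h5 | h5
          · skip
            rcases Nat.lt_or_ge i 1671000 with h6 | h6
            · skip
              exact allRangeF_sound _ _ (checkFactF_eq cert) 1670000 1000 chkF_1670000 i (by omega) (by omega)
            · skip
              rcases Nat.lt_or_ge i 1672000 with h7 | h7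
              · skip
                exact allRangeF_sound _ _ (checkFactF_eq cert) 1671000 1000 chkF_1671000 i (by omega) (by omega)
              · skip
                exact allRangeF_sound _ _ (checkFactF_eq cert) 1672000 1000 chkF_1672000 i (by omega) (by omega)
          · skip
            rcases Nat.lt_or_ge i 1674000 with h6 | h6
            · skip
              exact allRangeF_sound _ _ (checkFactF_eq cert) 1673000 1000 chkF_1673000 i (by omega) (by omega)
            · skip
              rcases Nat.lt_or_ge i 1675000 with h7 | h7
              · skip
                exact allRangeF_sound _ _ (checkFactF_eq cert) 1674000 1000 chkF_1674000 i (by omega) (by omega)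
              · skip
                exact allRangeF_sound _ _ (checkFactF_eq cert) 1675000 1000 chkF_1675000 i (by omega) (by omega)
        · skip
          rcases Nat.lt_or_ge i 1679000 with h5 | h5
          · skip
            rcases Nat.lt_or_ge i 1677000 with h6 | h6
            · skip
              exact allRangeF_sound _ _ (checkFactF_eq cert) 1676000 1000 chkF_1676000 i (by omega) (by omega)
            · skip
              rcases Nat.lt_or_ge i 1678000 with h7 | h7
              · skip
                exact allRangeF_sound _ _ (checkFactF_eq cert) 1677000 1000 chkF_1677000 i (by omega) (by omega)
              · skip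
                exact allRangeF_sound _ _ (checkFactF_eq cert) 1678000 1000 chkF_1678000 i (by omega) (by omega)
          · skip
            rcases Nat.lt_or_ge i 1681000 with h6 | h6
            · skip
              rcases Nat.lt_or_ge i 1680000 with h7 | h7
              · skip
                exact allRangeF_sound _ _ (checkFactF_eq cert) 1679000 1000 chkF_1679000 i (by omega) (by omega)
              · skip
                exact allRangeF_sound _ _ (checkFactF_eq cert) 1680000 1000 chkF_1680000 i (by omega) (by omega)
            · skip
              rcases Nat.lt_or_ge i 1682000 with h7 | h7
              · skip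
                exact allRangeF_sound _ _ (checkFactF_eq cert) 1681000 1000 chkF_1681000 i (by omega) (by omega)
              · skip
                exact allRangeF_sound _ _ (checkFactF_eq cert) 1682000 1000 chkF_1682000 i (by omega) (by omega)

end Cfsg.Agent.Lib.Helper28.Fi24Data
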