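import Cfsg.Agent.Lib.Helper28.Fi24Data
import Cfsg.Agent.Lib.Helper28.TCFastFB

set_option autoImplicit false
set_option maxRecDepth 1000000
set_option linter.all false
set_option Elab.async false

namespace Cfsg.Agent.Lib.Helper28.Fi24Data

open Cfsg.Agent.Lib.Helper28B

theorem chkF_1683000 : allRangeF (checkFactF cert) (nat_lit 1683000) (nat_lit 1000) = true := by decide +kernel
theorem chkF_1684000 : allRangeF (checkFactF cert) (nat_lit 1684000) (nat_lit 1000) = true := by decide +kernel
theorem chkF_1685000 : allRangeF (checkFactF cert) (nat_lit 1685000) (nat_lit 1000) = true := by decide +kernel
theorem chkF_1686000 : allRangeF (checkFactF cert) (nat_lit 1686000) (nat_lit 1000) = true := by decide +kernel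
theorem chkF_1687000 : allRangeF (checkFactF cert) (nat_lit 1687000) (nat_lit 1000) = true := by decide +kernel
theorem chkF_1688000 : allRangeF (checkFactF cert) (nat_lit 1688000) (nat_lit 1000) = true := by decide +kernel
theorem chkF_1689000 : allRangeF (checkFactF cert) (nat_lit 1689000) (nat_lit 1000) = true := by decide +kernel
theorem chkF_1690000 : allRangeF (checkFactF cert) (nat_lit 1690000) (nat_lit 1000) = true := by decide +kernel
theorem chkF_1691000 : allRangeF (checkFactF cert) (nat_lit 1691000) (nat_lit 1000) = true := by decide +kernel
theorem chkF_1692000 : allRangeF (checkFactF cert) (nat_lit 1692000) (nat_lit 1000) = true := by decide +kernel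
theorem chkF_1693000 : allRangeF (checkFactF cert) (nat_lit 1693000) (nat_lit 1000) = true := by decide +kernel
theorem chkF_1694000 : allRangeF (checkFactF cert) (nat_lit 1694000) (nat_lit 1000) = true := by decide +kernel
theorem chkF_1695000 : allRangeF (checkFactF cert) (nat_lit 1695000) (nat_lit 1000) = true := by decide +kernel
theorem chkF_1696000 : allRangeF (checkFactF cert) (nat_lit 1696000) (nat_lit 1000) = true := by decide +kernel
theorem chkF_1697000 : allRangeF (checkFactF cert) (nat_lit 1697000) (nat_lit 1000) = true := by decide +kernel
theorem chkF_1698000 : allRangeF (checkFactF cert) (nat_lit 1698000) (nat_lit 1000) = true := by decide +kernel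
theorem chkF_1699000 : allRangeF (checkFactF cert) (nat_lit 1699000) (nat_lit 1000) = true := by decide +kernel
theorem chkF_1700000 : allRangeF (checkFactF cert) (nat_lit 1700000) (nat_lit 1000) = true := by decide +kernel
theorem chkF_1701000 : allRangeF (checkFactF cert) (nat_lit 1701000) (nat_lit 1000) = true := by decide +kernel
theorem chkF_1702000 : allRangeF (checkFactF cert) (nat_lit 1702000) (nat_lit 1000) = true := by decide +kernel
theorem chkF_1703000 : allRangeF (checkFactF cert) (nat_lit 1703000) (nat_lit 1000) = true := by decide +kernel
theorem chkF_1704000 : allRangeF (checkFactF cert) (nat_lit 1704000) (nat_lit 1000) = true := by decide +kernel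
theorem chkF_1705000 : allRangeF (checkFactF cert) (nat_lit 1705000) (nat_lit 1000) = true := by decide +kernel
theorem chkF_1706000 : allRangeF (checkFactF cert) (nat_lit 1706000) (nat_lit 1000) = true := by decide +kernel
theorem chkF_1707000 : allRangeF (checkFactF cert) (nat_lit 1707000) (nat_lit 1000) = true := by decide +kernel
theorem chkF_1708000 : allRangeF (checkFactF cert) (nat_lit 1708000) (nat_lit 1000) = true := by decide +kernel
theorem chkF_1709000 : allRangeF (checkFactF cert) (nat_lit 1709000) (nat_lit 1000) = true := by decide +kernel
theorem chkF_1710000 : allRangeF (checkFactF cert) (nat_lit 1710000) (nat_lit 1000) = true := by decide +kernel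
theorem chkF_1711000 : allRangeF (checkFactF cert) (nat_lit 1711000) (nat_lit 1000) = true := by decide +kernel
theorem chkF_1712000 : allRangeF (checkFactF cert) (nat_lit 1712000) (nat_lit 1000) = true := by decide +kernel
theorem chkF_1713000 : allRangeF (checkFactF cert) (nat_lit 1713000) (nat_lit 1000) = true := by decide +kernel
theorem chkF_1714000 : allRangeF (checkFactF cert) (nat_lit 1714000) (nat_lit 1000) = true := by decide +kernel
theorem chkF_1715000 : allRangeF (checkFactF cert) (nat_lit 1715000) (nat_lit 1000) = true := by decide +kernel
theorem chkF_1716000 : allRangeF (checkFactF cert) (nat_lit 1716000) (nat_lit 1000) = true := by decide +kernel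
theorem chkF_1717000 : allRangeF (checkFactF cert) (nat_lit 1717000) (nat_lit 1000) = true := by decide +kernel
theorem chkF_1718000 : allRangeF (checkFactF cert) (nat_lit 1718000) (nat_lit 1000) = true := by decide +kernel
theorem chkF_1719000 : allRangeF (checkFactF cert) (nat_lit 1719000) (nat_lit 1000) = true := by decide +kernel
theorem chkF_1720000 : allRangeF (checkFactF cert) (nat_lit 1720000) (nat_lit 1000) = true := by decide +kernel
theorem chkF_1721000 : allRangeF (checkFactF cert) (nat_lit 1721000) (nat_lit 1000) = true := by decide +kernel
theorem chkF_1722000 : allRangeF (checkFactF cert) (nat_lit 1722000) (nat_lit 1000) = true := by decide +kernel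
theorem chkF_1723000 : allRangeF (checkFactF cert) (nat_lit 1723000) (nat_lit 1000) = true := by decide +kernel
theorem chkF_1724000 : allRangeF (checkFactF cert) (nat_lit 1724000) (nat_lit 1000) = true := by decide +kernel
theorem chkF_1725000 : allRangeF (checkFactF cert) (nat_lit 1725000) (nat_lit 1000) = true := by decide +kernel
theorem chkF_1726000 : allRangeF (checkFactF cert) (nat_lit 1726000) (nat_lit 1000) = true := by decide +kernel
theorem chkF_1727000 : allRangeF (checkFactF cert) (nat_lit 1727000) (nat_lit 1000) = true := by decide +kernel
theorem chkF_1728000 : allRangeF (checkFactF cert) (nat_lit 1728000) (nat_lit 1000) = true := by decide +kernel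
theorem chkF_1729000 : allRangeF (checkFactF cert) (nat_lit 1729000) (nat_lit 1000) = true := by decide +kernel
theorem chkF_1730000 : allRangeF (checkFactF cert) (nat_lit 1730000) (nat_lit 1000) = true := by decide +kernel
theorem chkF_1731000 : allRangeF (checkFactF cert) (nat_lit 1731000) (nat_lit 1000) = true := by decide +kernel
theorem chkF_1732000 : allRangeF (checkFactF cert) (nat_lit 1732000) (nat_lit 1000) = true := by decide +kernel
theorem chkF_1733000 : allRangeF (checkFactF cert) (nat_lit 1733000) (nat_lit 1000) = true := by decide +kernel
theorem chkF_1734000 : allRangeF (checkFactF cert) (nat_lit 1734000) (nat_lit 1000) = true := by decide +kernel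
theorem chkF_1735000 : allRangeF (checkFactF cert) (nat_lit 1735000) (nat_lit 1000) = true := by decide +kernel
theorem chkF_1736000 : allRangeF (checkFactF cert) (nat_lit 1736000) (nat_lit 1000) = true := by decide +kernel
theorem chkF_1737000 : allRangeF (checkFactF cert) (nat_lit 1737000) (nat_lit 1000) = true := by decide +kernel
theorem chkF_1738000 : allRangeF (checkFactF cert) (nat_lit 1738000) (nat_lit 1000) = true := by decide +kernel
theorem chkF_1739000 : allRangeF (checkFactF cert) (nat_lit 1739000) (nat_lit 1000) = true := by decide +kernel
theorem chkF_1740000 : allRangeF (checkFactF cert) (nat_lit 1740000) (nat_lit 1000) = true := by decide +kernel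
theorem chkF_1741000 : allRangeF (checkFactF cert) (nat_lit 1741000) (nat_lit 1000) = true := by decide +kernel
theorem chkF_1742000 : allRangeF (checkFactF cert) (nat_lit 1742000) (nat_lit 1000) = true := by decide +kernel
theorem chkF_1743000 : allRangeF (checkFactF cert) (nat_lit 1743000) (nat_lit 1000) = true := by decide +kernel
theorem chkF_1744000 : allRangeF (checkFactF cert) (nat_lit 1744000) (nat_lit 1000) = true := by decide +kernel
theorem chkF_1745000 : allRangeF (checkFactF cert) (nat_lit 1745000) (nat_lit 1000) = true := by decide +kernel
theorem chkF_1746000 : allRangeF (checkFactF cert) (nat_lit 1746000) (nat_lit 1000) = true := by decide +kernel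
theorem chkF_1747000 : allRangeF (checkFactF cert) (nat_lit 1747000) (nat_lit 1000) = true := by decide +kernel
theorem chkF_1748000 : allRangeF (checkFactF cert) (nat_lit 1748000) (nat_lit 1000) = true := by decide +kernel
theorem chkF_1749000 : allRangeF (checkFactF cert) (nat_lit 1749000) (nat_lit 1000) = true := by decide +kernel
theorem chkF_1750000 : allRangeF (checkFactF cert) (nat_lit 1750000) (nat_lit 1000) = true := by decide +kernel
theorem chkF_1751000 : allRangeF (checkFactF cert) (nat_lit 1751000) (nat_lit 1000) = true := by decide +kernel
theorem chkF_1752000 : allRangeF (checkFactF cert) (nat_lit 1752000) (nat_lit 1000) = true := by decide +kernel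
theorem chkF_1753000 : allRangeF (checkFactF cert) (nat_lit 1753000) (nat_lit 1000) = true := by decide +kernel
theorem chkF_1754000 : allRangeF (checkFactF cert) (nat_lit 1754000) (nat_lit 1000) = true := by decide +kernel
theorem chkF_1755000 : allRangeF (checkFactF cert) (nat_lit 1755000) (nat_lit 1000) = true := by decide +kernel
theorem chkF_1756000 : allRangeF (checkFactF cert) (nat_lit 1756000) (nat_lit 1000) = true := by decide +kernel
theorem chkF_1757000 : allRangeF (checkFactF cert) (nat_lit 1757000) (nat_lit 1000) = true := by decide +kernel
theorem chkF_1758000 : allRangeF (checkFactF cert) (nat_lit 1758000) (nat_lit 1000) = true := by decide +kernel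
theorem chkF_1759000 : allRangeF (checkFactF cert) (nat_lit 1759000) (nat_lit 1000) = true := by decide +kernel
theorem chkF_1760000 : allRangeF (checkFactF cert) (nat_lit 1760000) (nat_lit 1000) = true := by decide +kernel
theorem chkF_1761000 : allRangeF (checkFactF cert) (nat_lit 1761000) (nat_lit 1000) = true := by decide +kernel
theorem chkF_1762000 : allRangeF (checkFactF cert) (nat_lit 1762000) (nat_lit 1000) = true := by decide +kernel
theorem chkF_1763000 : allRangeF (checkFactF cert) (nat_lit 1763000) (nat_lit 1000) = true := by decide +kernel
theorem chkF_1764000 : allRangeF (checkFactF cert) (nat_lit 1764000) (nat_lit 1000) = true := by decide +kernel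
theorem chkF_1765000 : allRangeF (checkFactF cert) (nat_lit 1765000) (nat_lit 1000) = true := by decide +kernel
theorem chkF_1766000 : allRangeF (checkFactF cert) (nat_lit 1766000) (nat_lit 1000) = true := by decide +kernel
theorem chkF_1767000 : allRangeF (checkFactF cert) (nat_lit 1767000) (nat_lit 1000) = true := by decide +kernel
theorem chkF_1768000 : allRangeF (checkFactF cert) (nat_lit 1768000) (nat_lit 1000) = true := by decide +kernel
theorem chkF_1769000 : allRangeF (checkFactF cert) (nat_lit 1769000) (nat_lit 1000) = true := by decide +kernel
theorem chkF_1770000 : allRangeF (checkFactF cert) (nat_lit 1770000) (nat_lit 1000) = true := by decide +kernel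
theorem chkF_1771000 : allRangeF (checkFactF cert) (nat_lit 1771000) (nat_lit 1000) = true := by decide +kernel
theorem chkF_1772000 : allRangeF (checkFactF cert) (nat_lit 1772000) (nat_lit 1000) = true := by decide +kernel
theorem chkF_1773000 : allRangeF (checkFactF cert) (nat_lit 1773000) (nat_lit 1000) = true := by decide +kernel
theorem chkF_1774000 : allRangeF (checkFactF cert) (nat_lit 1774000) (nat_lit 1000) = true := by decide +kernel
theorem chkF_1775000 : allRangeF (checkFactF cert) (nat_lit 1775000) (nat_lit 1000) = true := by decide +kernel
theorem chkF_1776000 : allRangeF (checkFactF cert) (nat_lit 1776000) (nat_lit 1000) = true := by decide +kernel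
theorem chkF_1777000 : allRangeF (checkFactF cert) (nat_lit 1777000) (nat_lit 1000) = true := by decide +kernel
theorem chkF_1778000 : allRangeF (checkFactF cert) (nat_lit 1778000) (nat_lit 1000) = true := by decide +kernel
theorem chkF_1779000 : allRangeF (checkFactF cert) (nat_lit 1779000) (nat_lit 1000) = true := by decide +kernel
theorem chkF_1780000 : allRangeF (checkFactF cert) (nat_lit 1780000) (nat_lit 1000) = true := by decide +kernel
theorem chkF_1781000 : allRangeF (checkFactF cert) (nat_lit 1781000) (nat_lit 1000) = true := by decide +kernel

theorem factsRange_17 : ∀ i, 1683000 ≤ i → i < 1782000 → checkFact cert i = true := by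
  intro i hlo hhi
  rcases Nat.lt_or_ge i 1732000 with h1 | h1
  · skip
    rcases Nat.lt_or_ge i 1707000 with h2 | h2
    · skip
      rcases Nat.lt_or_ge i 1695000 with h3 | h3
      · skip
        rcases Nat.lt_or_ge i 1689000 with h4 | h4
        · skip
          rcases Nat.lt_or_ge i 1686000 with h5 | h5
          · skip
            rcases Nat.lt_or_ge i 1684000 with h6 | h6
            · skip
              exact allRangeF_sound _ _ (checkFactF_eq cert) 1683000 1000 chkF_1683000 i (by omega) (by omega)
            · skip
              rcases Nat.lt_or_ge i 1685000 with h7 | h7
              · skip
                exact allRangeF_sound _ _ (checkFactF_eq cert) 1684000 1000 chkF_1684000 i (by omega) (by omega)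
              · skip
                exact allRangeF_sound _ _ (checkFactF_eq cert) 1685000 1000 chkF_1685000 i (by omega) (by omega)
          · skip
            rcases Nat.lt_or_ge i 1687000 with h6 | h6
            · skip
              exact allRangeF_sound _ _ (checkFactF_eq cert) 1686000 1000 chkF_1686000 i (by omega) (by omega)
            · skip
              rcases Nat.lt_or_ge i 1688000 with h7 | h7
              · skip
                exact allRangeF_sound _ _ (checkFactF_eq cert) 1687000 1000 chkF_1687000 i (by omega) (by omega)
              · skip
                exact allRangeF_sound _ _ (checkFactF_eq cert) 1688000 1000 chkF_1688000 i (by omega) (by omega)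
        · skip
          rcases Nat.lt_or_ge i 1692000 with h5 | h5
          · skip
            rcases Nat.lt_or_ge i 1690000 with h6 | h6
            · skip
              exact allRangeF_sound _ _ (checkFactF_eq cert) 1689000 1000 chkF_1689000 i (by omega) (by omega)
            · skip
              rcases Nat.lt_or_ge i 1691000 with h7 | h7
              · skip
                exact allRangeF_sound _ _ (checkFactF_eq cert) 1690000 1000 chkF_1690000 i (by omega) (by omega)
              · skip
                exact allRangeF_sound _ _ (checkFactF_eq cert) 1691000 1000 chkF_1691000 i (by omega) (by omega)
          · skip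
            rcases Nat.lt_or_ge i 1693000 with h6 | h6
            · skip
              exact allRangeF_sound _ _ (checkFactF_eq cert) 1692000 1000 chkF_1692000 i (by omega) (by omega)
            · skip
              rcases Nat.lt_or_ge i 1694000 with h7 | h7
              · skip
                exact allRangeF_sound _ _ (checkFactF_eq cert) 1693000 1000 chkF_1693000 i (by omega) (by omega)
              · skip
                exact allRangeF_sound _ _ (checkFactF_eq cert) 1694000 1000 chkF_1694000 i (by omega) (by omega)
      · skip
        rcases Nat.lt_or_ge i 1701000 with h4 | h4
        · skip
          rcases Nat.lt_or_ge i 1698000 with h5 | h5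
          · skip
            rcases Nat.lt_or_ge i 1696000 with h6 | h6
            · skip
              exact allRangeF_sound _ _ (checkFactF_eq cert) 1695000 1000 chkF_1695000 i (by omega) (by omega)
            · skip
              rcases Nat.lt_or_ge i 1697000 with h7 | h7
              · skip
                exact allRangeF_sound _ _ (checkFactF_eq cert) 1696000 1000 chkF_1696000 i (by omega) (by omega)
              · skip
                exact allRangeF_sound _ _ (checkFactF_eq cert) 1697000 1000 chkF_1697000 i (by omega) (by omega)
          · skip
            rcases Nat.lt_or_ge i 1699000 with h6 | h6
            · skip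
              exact allRangeF_sound _ _ (checkFactF_eq cert) 1698000 1000 chkF_1698000 i (by omega) (by omega)
            · skip
              rcases Nat.lt_or_ge i 1700000 with h7 | h7
              · skip
                exact allRangeF_sound _ _ (checkFactF_eq cert) 1699000 1000 chkF_1699000 i (by omega) (by omega)
              · skip
                exact allRangeF_sound _ _ (checkFactF_eq cert) 1700000 1000 chkF_1700000 i (by omega) (by omega)
        · skip
          rcases Nat.lt_or_ge i 1704000 with h5 | h5
          · skip
            rcases Nat.lt_or_ge i 1702000 with h6 | h6
            · skip
              exact allRangeF_sound _ _ (checkFactF_eq cert) 1701000 1000 chkF_1701000 i (by omega) (by omega)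
            · skip
              rcases Nat.lt_or_ge i 1703000 with h7 | h7
              · skip
                exact allRangeF_sound _ _ (checkFactF_eq cert) 1702000 1000 chkF_1702000 i (by omega) (by omega)
              · skip
                exact allRangeF_sound _ _ (checkFactF_eq cert) 1703000 1000 chkF_1703000 i (by omega) (by omega)
          · skip
            rcases Nat.lt_or_ge i 1705000 with h6 | h6
            · skip
              exact allRangeF_sound _ _ (checkFactF_eq cert) 1704000 1000 chkF_1704000 i (by omega) (by omega)
            · skip
              rcases Nat.lt_or_ge i 1706000 with h7 | h7
              · skip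
                exact allRangeF_sound _ _ (checkFactF_eq cert) 1705000 1000 chkF_1705000 i (by omega) (by omega)
              · skip
                exact allRangeF_sound _ _ (checkFactF_eq cert) 1706000 1000 chkF_1706000 i (by omega) (by omega)
    · skip
      rcases Nat.lt_or_ge i 1719000 with h3 | h3
      · skip
        rcases Nat.lt_or_ge i 1713000 with h4 | h4
        · skip
          rcases Nat.lt_or_ge i 1710000 with h5 | h5
          · skip
            rcases Nat.lt_or_ge i 1708000 with h6 | h6
            · skip
              exact allRangeF_sound _ _ (checkFactF_eq cert) 1707000 1000 chkF_1707000 i (by omega) (by omega)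
            · skip
              rcases Nat.lt_or_ge i 1709000 with h7 | h7
              · skip
                exact allRangeF_sound _ _ (checkFactF_eq cert) 1708000 1000 chkF_1708000 i (by omega) (by omega)
              · skip
                exact allRangeF_sound _ _ (checkFactF_eq cert) 1709000 1000 chkF_1709000 i (by omega) (by omega)
          · skip
            rcases Nat.lt_or_ge i 1711000 with h6 | h6
            · skip
              exact allRangeF_sound _ _ (checkFactF_eq cert) 1710000 1000 chkF_1710000 i (by omega) (by omega)
            · skip
              rcases Nat.lt_or_ge i 1712000 with h7 | h7
              · skip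
                exact allRangeF_sound _ _ (checkFactF_eq cert) 1711000 1000 chkF_1711000 i (by omega) (by omega)
              · skip
                exact allRangeF_sound _ _ (checkFactF_eq cert) 1712000 1000 chkF_1712000 i (by omega) (by omega)
        · skip
          rcases Nat.lt_or_ge i 1716000 with h5 | h5
          · skip
            rcases Nat.lt_or_ge i 1714000 with h6 | h6
            · skip
              exact allRangeF_sound _ _ (checkFactF_eq cert) 1713000 1000 chkF_1713000 i (by omega) (by omega)
            · skip
              rcases Nat.lt_or_ge i 1715000 with h7 | h7
              · skip
                exact allRangeF_sound _ _ (checkFactF_eq cert) 1714000 1000 chkF_1714000 i (by omega) (by omega)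
              · skip
                exact allRangeF_sound _ _ (checkFactF_eq cert) 1715000 1000 chkF_1715000 i (by omega) (by omega)
          · skip
            rcases Nat.lt_or_ge i 1717000 with h6 | h6
            · skip
              exact allRangeF_sound _ _ (checkFactF_eq cert) 1716000 1000 chkF_1716000 i (by omega) (by omega)
            · skip
              rcases Nat.lt_or_ge i 1718000 with h7 | h7
              · skip
                exact allRangeF_sound _ _ (checkFactF_eq cert) 1717000 1000 chkF_1717000 i (by omega) (by omega)
              · skip
                exact allRangeF_sound _ _ (checkFactF_eq cert) 1718000 1000 chkF_1718000 i (by omega) (by omega)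
      · skip
        rcases Nat.lt_or_ge i 1725000 with h4 | h4
        · skip
          rcases Nat.lt_or_ge i 1722000 with h5 | h5
          · skip
            rcases Nat.lt_or_ge i 1720000 with h6 | h6
            · skip
              exact allRangeF_sound _ _ (checkFactF_eq cert) 1719000 1000 chkF_1719000 i (by omega) (by omega)
            · skip
              rcases Nat.lt_or_ge i 1721000 with h7 | h7
              · skip
                exact allRangeF_sound _ _ (checkFactF_eq cert) 1720000 1000 chkF_1720000 i (by omega) (by omega)
              · skip
                exact allRangeF_sound _ _ (checkFactF_eq cert) 1721000 1000 chkF_1721000 i (by omega) (by omega)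
          · skip
            rcases Nat.lt_or_ge i 1723000 with h6 | h6
            · skip
              exact allRangeF_sound _ _ (checkFactF_eq cert) 1722000 1000 chkF_1722000 i (by omega) (by omega)
            · skip
              rcases Nat.lt_or_ge i 1724000 with h7 | h7
              · skip
                exact allRangeF_sound _ _ (checkFactF_eq cert) 1723000 1000 chkF_1723000 i (by omega) (by omega)
              · skip
                exact allRangeF_sound _ _ (checkFactF_eq cert) 1724000 1000 chkF_1724000 i (by omega) (by omega)
        · skip
          rcases Nat.lt_or_ge i 1728000 with h5 | h5
          · skip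
            rcases Nat.lt_or_ge i 1726000 with h6 | h6
            · skip
              exact allRangeF_sound _ _ (checkFactF_eq cert) 1725000 1000 chkF_1725000 i (by omega) (by omega)
            · skip
              rcases Nat.lt_or_ge i 1727000 with h7 | h7
              · skip
                exact allRangeF_sound _ _ (checkFactF_eq cert) 1726000 1000 chkF_1726000 i (by omega) (by omega)
              · skip
                exact allRangeF_sound _ _ (checkFactF_eq cert) 1727000 1000 chkF_1727000 i (by omega) (by omega)
          · skip
            rcases Nat.lt_or_ge i 1730000 with h6 | h6
            · skip
              rcases Nat.lt_or_ge i 1729000 with h7 | h7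
              · skip
                exact allRangeF_sound _ _ (checkFactF_eq cert) 1728000 1000 chkF_1728000 i (by omega) (by omega)
              · skip
                exact allRangeF_sound _ _ (checkFactF_eq cert) 1729000 1000 chkF_1729000 i (by omega) (by omega)
            · skip
              rcases Nat.lt_or_ge i 1731000 with h7 | h7
              · skip
                exact allRangeF_sound _ _ (checkFactF_eq cert) 1730000 1000 chkF_1730000 i (by omega) (by omega)
              · skip
                exact allRangeF_sound _ _ (checkFactF_eq cert) 1731000 1000 chkF_1731000 i (by omega) (by omega)
  · skip
    rcases Nat.lt_or_ge i 1757000 with h2 | h2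
    · skip
      rcases Nat.lt_or_ge i 1744000 with h3 | h3
      · skip
        rcases Nat.lt_or_ge i 1738000 with h4 | h4
        · skip
          rcases Nat.lt_or_ge i 1735000 with h5 | h5
          · skip
            rcases Nat.lt_or_ge i 1733000 with h6 | h6
            · skip
              exact allRangeF_sound _ _ (checkFactF_eq cert) 1732000 1000 chkF_1732000 i (by omega) (by omega)
            · skip
              rcases Nat.lt_or_ge i 1734000 with h7 | h7
              · skip
                exact allRangeF_sound _ _ (checkFactF_eq cert) 1733000 1000 chkF_1733000 i (by omega) (by omega)
              · skip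
                exact allRangeF_sound _ _ (checkFactF_eq cert) 1734000 1000 chkF_1734000 i (by omega) (by omega)
          · skip
            rcases Nat.lt_or_ge i 1736000 with h6 | h6
            · skip
              exact allRangeF_sound _ _ (checkFactF_eq cert) 1735000 1000 chkF_1735000 i (by omega) (by omega)
            · skip
              rcases Nat.lt_or_ge i 1737000 with h7 | h7
              · skip
                exact allRangeF_sound _ _ (checkFactF_eq cert) 1736000 1000 chkF_1736000 i (by omega) (by omega)
              · skip
                exact allRangeF_sound _ _ (checkFactF_eq cert) 1737000 1000 chkF_1737000 i (by omega) (by omega)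
        · skip
          rcases Nat.lt_or_ge i 1741000 with h5 | h5
          · skip
            rcases Nat.lt_or_ge i 1739000 with h6 | h6
            · skip
              exact allRangeF_sound _ _ (checkFactF_eq cert) 1738000 1000 chkF_1738000 i (by omega) (by omega)
            · skip
              rcases Nat.lt_or_ge i 1740000 with h7 | h7
              · skip
                exact allRangeF_sound _ _ (checkFactF_eq cert) 1739000 1000 chkF_1739000 i (by omega) (by omega)
              · skip
                exact allRangeF_sound _ _ (checkFactF_eq cert) 1740000 1000 chkF_1740000 i (by omega) (by omega)
          · skip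
            rcases Nat.lt_or_ge i 1742000 with h6 | h6
            · skip
              exact allRangeF_sound _ _ (checkFactF_eq cert) 1741000 1000 chkF_1741000 i (by omega) (by omega)
            · skip
              rcases Nat.lt_or_ge i 1743000 with h7 | h7
              · skip
                exact allRangeF_sound _ _ (checkFactF_eq cert) 1742000 1000 chkF_1742000 i (by omega) (by omega)
              · skip
                exact allRangeF_sound _ _ (checkFactF_eq cert) 1743000 1000 chkF_1743000 i (by omega) (by omega)
      · skip
        rcases Nat.lt_or_ge i 1750000 with h4 | h4
        · skip
          rcases Nat.lt_or_ge i 1747000 with h5 | h5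
          · skip
            rcases Nat.lt_or_ge i 1745000 with h6 | h6
            · skip
              exact allRangeF_sound _ _ (checkFactF_eq cert) 1744000 1000 chkF_1744000 i (by omega) (by omega)
            · skip
              rcases Nat.lt_or_ge i 1746000 with h7 | h7
              · skip
                exact allRangeF_sound _ _ (checkFactF_eq cert) 1745000 1000 chkF_1745000 i (by omega) (by omega)
              · skip
                exact allRangeF_sound _ _ (checkFactF_eq cert) 1746000 1000 chkF_1746000 i (by omega) (by omega)
          · skip
            rcases Nat.lt_or_ge i 1748000 with h6 | h6
            · skip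
              exact allRangeF_sound _ _ (checkFactF_eq cert) 1747000 1000 chkF_1747000 i (by omega) (by omega)
            · skip
              rcases Nat.lt_or_ge i 1749000 with h7 | h7
              · skip
                exact allRangeF_sound _ _ (checkFactF_eq cert) 1748000 1000 chkF_1748000 i (by omega) (by omega)
              · skip
                exact allRangeF_sound _ _ (checkFactF_eq cert) 1749000 1000 chkF_1749000 i (by omega) (by omega)
        · skip
          rcases Nat.lt_or_ge i 1753000 with h5 | h5
          · skip
            rcases Nat.lt_or_ge i 1751000 with h6 | h6
            · skip
              exact allRangeF_sound _ _ (checkFactF_eq cert) 1750000 1000 chkF_1750000 i (by omega) (by omega)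
            · skip
              rcases Nat.lt_or_ge i 1752000 with h7 | h7
              · skip
                exact allRangeF_sound _ _ (checkFactF_eq cert) 1751000 1000 chkF_1751000 i (by omega) (by omega)
              · skip
                exact allRangeF_sound _ _ (checkFactF_eq cert) 1752000 1000 chkF_1752000 i (by omega) (by omega)
          · skip
            rcases Nat.lt_or_ge i 1755000 with h6 | h6
            · skip
              rcases Nat.lt_or_ge i 1754000 with h7 | h7
              · skip
                exact allRangeF_sound _ _ (checkFactF_eq cert) 1753000 1000 chkF_1753000 i (by omega) (by omega)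
              · skip
                exact allRangeF_sound _ _ (checkFactF_eq cert) 1754000 1000 chkF_1754000 i (by omega) (by omega)
            · skip
              rcases Nat.lt_or_ge i 1756000 with h7 | h7
              · skip
                exact allRangeF_sound _ _ (checkFactF_eq cert) 1755000 1000 chkF_1755000 i (by omega) (by omega)
              · skip
                exact allRangeF_sound _ _ (checkFactF_eq cert) 1756000 1000 chkF_1756000 i (by omega) (by omega)
    · skip
      rcases Nat.lt_or_ge i 1769000 with h3 | h3
      · skip
        rcases Nat.lt_or_ge i 1763000 with h4 | h4
        · skip
          rcases Nat.lt_or_ge i 1760000 with h5 | h5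
          · skip
            rcases Nat.lt_or_ge i 1758000 with h6 | h6
            · skip
              exact allRangeF_sound _ _ (checkFactF_eq cert) 1757000 1000 chkF_1757000 i (by omega) (by omega)
            · skip
              rcases Nat.lt_or_ge i 1759000 with h7 | h7
              · skip
                exact allRangeF_sound _ _ (checkFactF_eq cert) 1758000 1000 chkF_1758000 i (by omega) (by omega)
              · skip
                exact allRangeF_sound _ _ (checkFactF_eq cert) 1759000 1000 chkF_1759000 i (by omega) (by omega)
          · skip
            rcases Nat.lt_or_ge i 1761000 with h6 | h6
            · skip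
              exact allRangeF_sound _ _ (checkFactF_eq cert) 1760000 1000 chkF_1760000 i (by omega) (by omega)
            · skip
              rcases Nat.lt_or_ge i 1762000 with h7 | h7
              · skip
                exact allRangeF_sound _ _ (checkFactF_eq cert) 1761000 1000 chkF_1761000 i (by omega) (by omega)
              · skip
                exact allRangeF_sound _ _ (checkFactF_eq cert) 1762000 1000 chkF_1762000 i (by omega) (by omega)
        · skip
          rcases Nat.lt_or_ge i 1766000 with h5 | h5
          · skip
            rcases Nat.lt_or_ge i 1764000 with h6 | h6
            · skip
              exact allRangeF_sound _ _ (checkFactF_eq cert) 1763000 1000 chkF_1763000 i (by omega) (by omega)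
            · skip
              rcases Nat.lt_or_ge i 1765000 with h7 | h7
              · skip
                exact allRangeF_sound _ _ (checkFactF_eq cert) 1764000 1000 chkF_1764000 i (by omega) (by omega)
              · skip
                exact allRangeF_sound _ _ (checkFactF_eq cert) 1765000 1000 chkF_1765000 i (by omega) (by omega)
          · skip
            rcases Nat.lt_or_ge i 1767000 with h6 | h6
            · skip
              exact allRangeF_sound _ _ (checkFactF_eq cert) 1766000 1000 chkF_1766000 i (by omega) (by omega)
            · skip
              rcases Nat.lt_or_ge i 1768000 with h7 | h7
              · skip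
                exact allRangeF_sound _ _ (checkFactF_eq cert) 1767000 1000 chkF_1767000 i (by omega) (by omega)
              · skip
                exact allRangeF_sound _ _ (checkFactF_eq cert) 1768000 1000 chkF_1768000 i (by omega) (by omega)
      · skip
        rcases Nat.lt_or_ge i 1775000 with h4 | h4
        · skip
          rcases Nat.lt_or_ge i 1772000 with h5 | h5
          · skip
            rcases Nat.lt_or_ge i 1770000 with h6 | h6
            · skip
              exact allRangeF_sound _ _ (checkFactF_eq cert) 1769000 1000 chkF_1769000 i (by omega) (by omega)
            · skip
              rcases Nat.lt_or_ge i 1771000 with h7 | h7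
              · skip
                exact allRangeF_sound _ _ (checkFactF_eq cert) 1770000 1000 chkF_1770000 i (by omega) (by omega)
              · skip
                exact allRangeF_sound _ _ (checkFactF_eq cert) 1771000 1000 chkF_1771000 i (by omega) (by omega)
          · skip
            rcases Nat.lt_or_ge i 1773000 with h6 | h6
            · skip
              exact allRangeF_sound _ _ (checkFactF_eq cert) 1772000 1000 chkF_1772000 i (by omega) (by omega)
            · skip
              rcases Nat.lt_or_ge i 1774000 with h7 | h7
              · skip
                exact allRangeF_sound _ _ (checkFactF_eq cert) 1773000 1000 chkF_1773000 i (by omega) (by omega)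
              · skip
                exact allRangeF_sound _ _ (checkFactF_eq cert) 1774000 1000 chkF_1774000 i (by omega) (by omega)
        · skip
          rcases Nat.lt_or_ge i 1778000 with h5 | h5
          · skip
            rcases Nat.lt_or_ge i 1776000 with h6 | h6
            · skip
              exact allRangeF_sound _ _ (checkFactF_eq cert) 1775000 1000 chkF_1775000 i (by omega) (by omega)
            · skip
              rcases Nat.lt_or_ge i 1777000 with h7 | h7
              · skip
                exact allRangeF_sound _ _ (checkFactF_eq cert) 1776000 1000 chkF_1776000 i (by omega) (by omega)
              · skip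
                exact allRangeF_sound _ _ (checkFactF_eq cert) 1777000 1000 chkF_1777000 i (by omega) (by omega)
          · skip
            rcases Nat.lt_or_ge i 1780000 with h6 | h6
            · skip
              rcases Nat.lt_or_ge i 1779000 with h7 | h7
              · skip
                exact allRangeF_sound _ _ (checkFactF_eq cert) 1778000 1000 chkF_1778000 i (by omega) (by omega)
              · skip
                exact allRangeF_sound _ _ (checkFactF_eq cert) 1779000 1000 chkF_1779000 i (by omega) (by omega)
            · skip
              rcases Nat.lt_or_ge i 1781000 with h7 | h7
              · skip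
                exact allRangeF_sound _ _ (checkFactF_eq cert) 1780000 1000 chkF_1780000 i (by omega) (by omega)
              · skip
                exact allRangeF_sound _ _ (checkFactF_eq cert) 1781000 1000 chkF_1781000 i (by omega) (by omega)

end Cfsg.Agent.Lib.Helper28.Fi24Data
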