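import Cfsg.Agent.Lib.Helper28.Fi24Data
import Cfsg.Agent.Lib.Helper28.TCFastFB

set_option autoImplicit false
set_option maxRecDepth 1000000
set_option linter.all false
set_option Elab.async false

namespace Cfsg.Agent.Lib.Helper28.Fi24Data

open Cfsg.Agent.Lib.Helper28B

theorem chkF_1782000 : allRangeF (checkFactF cert) (nat_lit 1782000) (nat_lit 1000) = true := by decide +kernel
theorem chkF_1783000 : allRangeF (checkFactF cert) (nat_lit 1783000) (nat_lit 1000) = true := by decide +kernel
theorem chkF_1784000 : allRangeF (checkFactF cert) (nat_lit 1784000) (nat_lit 1000) = true := by decide +kernel
theorem chkF_1785000 : allRangeF (checkFactF cert) (nat_lit 1785000) (nat_lit 1000) = true := by decide +kernel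
theorem chkF_1786000 : allRangeF (checkFactF cert) (nat_lit 1786000) (nat_lit 1000) = true := by decide +kernel
theorem chkF_1787000 : allRangeF (checkFactF cert) (nat_lit 1787000) (nat_lit 1000) = true := by decide +kernel
theorem chkF_1788000 : allRangeF (checkFactF cert) (nat_lit 1788000) (nat_lit 1000) = true := by decide +kernel
theorem chkF_1789000 : allRangeF (checkFactF cert) (nat_lit 1789000) (nat_lit 1000) = true := by decide +kernel
theorem chkF_1790000 : allRangeF (checkFactF cert) (nat_lit 1790000) (nat_lit 1000) = true := by decide +kernel
theorem chkF_1791000 : allRangeF (checkFactF cert) (nat_lit 1791000) (nat_lit 1000) = true := by decide +kernel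
theorem chkF_1792000 : allRangeF (checkFactF cert) (nat_lit 1792000) (nat_lit 1000) = true := by decide +kernel
theorem chkF_1793000 : allRangeF (checkFactF cert) (nat_lit 1793000) (nat_lit 1000) = true := by decide +kernel
theorem chkF_1794000 : allRangeF (checkFactF cert) (nat_lit 1794000) (nat_lit 1000) = true := by decide +kernel
theorem chkF_1795000 : allRangeF (checkFactF cert) (nat_lit 1795000) (nat_lit 1000) = true := by decide +kernel
theorem chkF_1796000 : allRangeF (checkFactF cert) (nat_lit 1796000) (nat_lit 1000) = true := by decide +kernel
theorem chkF_1797000 : allRangeF (checkFactF cert) (nat_lit 1797000) (nat_lit 1000) = true := by decide +kernel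
theorem chkF_1798000 : allRangeF (checkFactF cert) (nat_lit 1798000) (nat_lit 1000) = true := by decide +kernel
theorem chkF_1799000 : allRangeF (checkFactF cert) (nat_lit 1799000) (nat_lit 1000) = true := by decide +kernel
theorem chkF_1800000 : allRangeF (checkFactF cert) (nat_lit 1800000) (nat_lit 1000) = true := by decide +kernel
theorem chkF_1801000 : allRangeF (checkFactF cert) (nat_lit 1801000) (nat_lit 1000) = true := by decide +kernel
theorem chkF_1802000 : allRangeF (checkFactF cert) (nat_lit 1802000) (nat_lit 1000) = true := by decide +kernel
theorem chkF_1803000 : allRangeF (checkFactF cert) (nat_lit 1803000) (nat_lit 1000) = true := by decide +kernel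
theorem chkF_1804000 : allRangeF (checkFactF cert) (nat_lit 1804000) (nat_lit 1000) = true := by decide +kernel
theorem chkF_1805000 : allRangeF (checkFactF cert) (nat_lit 1805000) (nat_lit 1000) = true := by decide +kernel
theorem chkF_1806000 : allRangeF (checkFactF cert) (nat_lit 1806000) (nat_lit 1000) = true := by decide +kernel
theorem chkF_1807000 : allRangeF (checkFactF cert) (nat_lit 1807000) (nat_lit 1000) = true := by decide +kernel
theorem chkF_1808000 : allRangeF (checkFactF cert) (nat_lit 1808000) (nat_lit 1000) = true := by decide +kernel
theorem chkF_1809000 : allRangeF (checkFactF cert) (nat_lit 1809000) (nat_lit 1000) = true := by decide +kernel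
theorem chkF_1810000 : allRangeF (checkFactF cert) (nat_lit 1810000) (nat_lit 1000) = true := by decide +kernel
theorem chkF_1811000 : allRangeF (checkFactF cert) (nat_lit 1811000) (nat_lit 1000) = true := by decide +kernel
theorem chkF_1812000 : allRangeF (checkFactF cert) (nat_lit 1812000) (nat_lit 1000) = true := by decide +kernel
theorem chkF_1813000 : allRangeF (checkFactF cert) (nat_lit 1813000) (nat_lit 1000) = true := by decide +kernel
theorem chkF_1814000 : allRangeF (checkFactF cert) (nat_lit 1814000) (nat_lit 1000) = true := by decide +kernel
theorem chkF_1815000 : allRangeF (checkFactF cert) (nat_lit 1815000) (nat_lit 1000) = true := by decide +kernel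
theorem chkF_1816000 : allRangeF (checkFactF cert) (nat_lit 1816000) (nat_lit 1000) = true := by decide +kernel
theorem chkF_1817000 : allRangeF (checkFactF cert) (nat_lit 1817000) (nat_lit 1000) = true := by decide +kernel
theorem chkF_1818000 : allRangeF (checkFactF cert) (nat_lit 1818000) (nat_lit 1000) = true := by decide +kernel
theorem chkF_1819000 : allRangeF (checkFactF cert) (nat_lit 1819000) (nat_lit 1000) = true := by decide +kernel
theorem chkF_1820000 : allRangeF (checkFactF cert) (nat_lit 1820000) (nat_lit 1000) = true := by decide +kernel
theorem chkF_1821000 : allRangeF (checkFactF cert) (nat_lit 1821000) (nat_lit 1000) = true := by decide +kernel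
theorem chkF_1822000 : allRangeF (checkFactF cert) (nat_lit 1822000) (nat_lit 1000) = true := by decide +kernel
theorem chkF_1823000 : allRangeF (checkFactF cert) (nat_lit 1823000) (nat_lit 1000) = true := by decide +kernel
theorem chkF_1824000 : allRangeF (checkFactF cert) (nat_lit 1824000) (nat_lit 1000) = true := by decide +kernel
theorem chkF_1825000 : allRangeF (checkFactF cert) (nat_lit 1825000) (nat_lit 1000) = true := by decide +kernel
theorem chkF_1826000 : allRangeF (checkFactF cert) (nat_lit 1826000) (nat_lit 1000) = true := by decide +kernel
theorem chkF_1827000 : allRangeF (checkFactF cert) (nat_lit 1827000) (nat_lit 1000) = true := by decide +kernel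
theorem chkF_1828000 : allRangeF (checkFactF cert) (nat_lit 1828000) (nat_lit 1000) = true := by decide +kernel
theorem chkF_1829000 : allRangeF (checkFactF cert) (nat_lit 1829000) (nat_lit 1000) = true := by decide +kernel
theorem chkF_1830000 : allRangeF (checkFactF cert) (nat_lit 1830000) (nat_lit 1000) = true := by decide +kernel
theorem chkF_1831000 : allRangeF (checkFactF cert) (nat_lit 1831000) (nat_lit 1000) = true := by decide +kernel
theorem chkF_1832000 : allRangeF (checkFactF cert) (nat_lit 1832000) (nat_lit 1000) = true := by decide +kernel
theorem chkF_1833000 : allRangeF (checkFactF cert) (nat_lit 1833000) (nat_lit 1000) = true := by decide +kernel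
theorem chkF_1834000 : allRangeF (checkFactF cert) (nat_lit 1834000) (nat_lit 1000) = true := by decide +kernel
theorem chkF_1835000 : allRangeF (checkFactF cert) (nat_lit 1835000) (nat_lit 1000) = true := by decide +kernel
theorem chkF_1836000 : allRangeF (checkFactF cert) (nat_lit 1836000) (nat_lit 1000) = true := by decide +kernel
theorem chkF_1837000 : allRangeF (checkFactF cert) (nat_lit 1837000) (nat_lit 1000) = true := by decide +kernel
theorem chkF_1838000 : allRangeF (checkFactF cert) (nat_lit 1838000) (nat_lit 1000) = true := by decide +kernel
theorem chkF_1839000 : allRangeF (checkFactF cert) (nat_lit 1839000) (nat_lit 1000) = true := by decide +kernel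
theorem chkF_1840000 : allRangeF (checkFactF cert) (nat_lit 1840000) (nat_lit 1000) = true := by decide +kernel
theorem chkF_1841000 : allRangeF (checkFactF cert) (nat_lit 1841000) (nat_lit 1000) = true := by decide +kernel
theorem chkF_1842000 : allRangeF (checkFactF cert) (nat_lit 1842000) (nat_lit 1000) = true := by decide +kernel
theorem chkF_1843000 : allRangeF (checkFactF cert) (nat_lit 1843000) (nat_lit 1000) = true := by decide +kernel
theorem chkF_1844000 : allRangeF (checkFactF cert) (nat_lit 1844000) (nat_lit 1000) = true := by decide +kernel
theorem chkF_1845000 : allRangeF (checkFactF cert) (nat_lit 1845000) (nat_lit 1000) = true := by decide +kernel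
theorem chkF_1846000 : allRangeF (checkFactF cert) (nat_lit 1846000) (nat_lit 1000) = true := by decide +kernel
theorem chkF_1847000 : allRangeF (checkFactF cert) (nat_lit 1847000) (nat_lit 1000) = true := by decide +kernel
theorem chkF_1848000 : allRangeF (checkFactF cert) (nat_lit 1848000) (nat_lit 1000) = true := by decide +kernel
theorem chkF_1849000 : allRangeF (checkFactF cert) (nat_lit 1849000) (nat_lit 1000) = true := by decide +kernel
theorem chkF_1850000 : allRangeF (checkFactF cert) (nat_lit 1850000) (nat_lit 1000) = true := by decide +kernel
theorem chkF_1851000 : allRangeF (checkFactF cert) (nat_lit 1851000) (nat_lit 1000) = true := by decide +kernel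
theorem chkF_1852000 : allRangeF (checkFactF cert) (nat_lit 1852000) (nat_lit 1000) = true := by decide +kernel
theorem chkF_1853000 : allRangeF (checkFactF cert) (nat_lit 1853000) (nat_lit 1000) = true := by decide +kernel
theorem chkF_1854000 : allRangeF (checkFactF cert) (nat_lit 1854000) (nat_lit 1000) = true := by decide +kernel
theorem chkF_1855000 : allRangeF (checkFactF cert) (nat_lit 1855000) (nat_lit 1000) = true := by decide +kernel
theorem chkF_1856000 : allRangeF (checkFactF cert) (nat_lit 1856000) (nat_lit 1000) = true := by decide +kernel
theorem chkF_1857000 : allRangeF (checkFactF cert) (nat_lit 1857000) (nat_lit 1000) = true := by decide +kernel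
theorem chkF_1858000 : allRangeF (checkFactF cert) (nat_lit 1858000) (nat_lit 1000) = true := by decide +kernel
theorem chkF_1859000 : allRangeF (checkFactF cert) (nat_lit 1859000) (nat_lit 1000) = true := by decide +kernel
theorem chkF_1860000 : allRangeF (checkFactF cert) (nat_lit 1860000) (nat_lit 1000) = true := by decide +kernel
theorem chkF_1861000 : allRangeF (checkFactF cert) (nat_lit 1861000) (nat_lit 1000) = true := by decide +kernel
theorem chkF_1862000 : allRangeF (checkFactF cert) (nat_lit 1862000) (nat_lit 1000) = true := by decide +kernel
theorem chkF_1863000 : allRangeF (checkFactF cert) (nat_lit 1863000) (nat_lit 1000) = true := by decide +kernel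
theorem chkF_1864000 : allRangeF (checkFactF cert) (nat_lit 1864000) (nat_lit 1000) = true := by decide +kernel
theorem chkF_1865000 : allRangeF (checkFactF cert) (nat_lit 1865000) (nat_lit 1000) = true := by decide +kernel
theorem chkF_1866000 : allRangeF (checkFactF cert) (nat_lit 1866000) (nat_lit 1000) = true := by decide +kernel
theorem chkF_1867000 : allRangeF (checkFactF cert) (nat_lit 1867000) (nat_lit 1000) = true := by decide +kernel
theorem chkF_1868000 : allRangeF (checkFactF cert) (nat_lit 1868000) (nat_lit 1000) = true := by decide +kernel
theorem chkF_1869000 : allRangeF (checkFactF cert) (nat_lit 1869000) (nat_lit 1000) = true := by decide +kernel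
theorem chkF_1870000 : allRangeF (checkFactF cert) (nat_lit 1870000) (nat_lit 1000) = true := by decide +kernel
theorem chkF_1871000 : allRangeF (checkFactF cert) (nat_lit 1871000) (nat_lit 1000) = true := by decide +kernel
theorem chkF_1872000 : allRangeF (checkFactF cert) (nat_lit 1872000) (nat_lit 1000) = true := by decide +kernel
theorem chkF_1873000 : allRangeF (checkFactF cert) (nat_lit 1873000) (nat_lit 1000) = true := by decide +kernel
theorem chkF_1874000 : allRangeF (checkFactF cert) (nat_lit 1874000) (nat_lit 1000) = true := by decide +kernel
theorem chkF_1875000 : allRangeF (checkFactF cert) (nat_lit 1875000) (nat_lit 1000) = true := by decide +kernel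
theorem chkF_1876000 : allRangeF (checkFactF cert) (nat_lit 1876000) (nat_lit 1000) = true := by decide +kernel
theorem chkF_1877000 : allRangeF (checkFactF cert) (nat_lit 1877000) (nat_lit 1000) = true := by decide +kernel
theorem chkF_1878000 : allRangeF (checkFactF cert) (nat_lit 1878000) (nat_lit 1000) = true := by decide +kernel
theorem chkF_1879000 : allRangeF (checkFactF cert) (nat_lit 1879000) (nat_lit 1000) = true := by decide +kernel
theorem chkF_1880000 : allRangeF (checkFactF cert) (nat_lit 1880000) (nat_lit 1000) = true := by decide +kernel

theorem factsRange_18 : ∀ i, 1782000 ≤ i → i < 1881000 → checkFact cert i = true := by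
  intro i hlo hhi
  rcases Nat.lt_or_ge i 1831000 with h1 | h1
  · skip
    rcases Nat.lt_or_ge i 1806000 with h2 | h2
    · skip
      rcases Nat.lt_or_ge i 1794000 with h3 | h3
      · skip
        rcases Nat.lt_or_ge i 1788000 with h4 | h4
        · skip
          rcases Nat.lt_or_ge i 1785000 with h5 | h5
          · skip
            rcases Nat.lt_or_ge i 1783000 with h6 | h6
            · skip
              exact allRangeF_sound _ _ (checkFactF_eq cert) 1782000 1000 chkF_1782000 i (by omega) (by omega)
            · skip
              rcases Nat.lt_or_ge i 1784000 with h7 | h7
              · skip
                exact allRangeF_sound _ _ (checkFactF_eq cert) 1783000 1000 chkF_1783000 i (by omega) (by omega)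
              · skip
                exact allRangeF_sound _ _ (checkFactF_eq cert) 1784000 1000 chkF_1784000 i (by omega) (by omega)
          · skip
            rcases Nat.lt_or_ge i 1786000 with h6 | h6
            · skip
              exact allRangeF_sound _ _ (checkFactF_eq cert) 1785000 1000 chkF_1785000 i (by omega) (by omega)
            · skip
              rcases Nat.lt_or_ge i 1787000 with h7 | h7
              · skip
                exact allRangeF_sound _ _ (checkFactF_eq cert) 1786000 1000 chkF_1786000 i (by omega) (by omega)
              · skip
                exact allRangeF_sound _ _ (checkFactF_eq cert) 1787000 1000 chkF_1787000 i (by omega) (by omega)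
        · skip
          rcases Nat.lt_or_ge i 1791000 with h5 | h5
          · skip
            rcases Nat.lt_or_ge i 1789000 with h6 | h6
            · skip
              exact allRangeF_sound _ _ (checkFactF_eq cert) 1788000 1000 chkF_1788000 i (by omega) (by omega)
            · skip
              rcases Nat.lt_or_ge i 1790000 with h7 | h7
              · skip
                exact allRangeF_sound _ _ (checkFactF_eq cert) 1789000 1000 chkF_1789000 i (by omega) (by omega)
              · skip
                exact allRangeF_sound _ _ (checkFactF_eq cert) 1790000 1000 chkF_1790000 i (by omega) (by omega)
          · skip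
            rcases Nat.lt_or_ge i 1792000 with h6 | h6
            · skip
              exact allRangeF_sound _ _ (checkFactF_eq cert) 1791000 1000 chkF_1791000 i (by omega) (by omega)
            · skip
              rcases Nat.lt_or_ge i 1793000 with h7 | h7
              · skip
                exact allRangeF_sound _ _ (checkFactF_eq cert) 1792000 1000 chkF_1792000 i (by omega) (by omega)
              · skip
                exact allRangeF_sound _ _ (checkFactF_eq cert) 1793000 1000 chkF_1793000 i (by omega) (by omega)
      · skip
        rcases Nat.lt_or_ge i 1800000 with h4 | h4
        · skip
          rcases Nat.lt_or_ge i 1797000 with h5 | h5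
          · skip
            rcases Nat.lt_or_ge i 1795000 with h6 | h6
            · skip
              exact allRangeF_sound _ _ (checkFactF_eq cert) 1794000 1000 chkF_1794000 i (by omega) (by omega)
            · skip
              rcases Nat.lt_or_ge i 1796000 with h7 | h7
              · skip
                exact allRangeF_sound _ _ (checkFactF_eq cert) 1795000 1000 chkF_1795000 i (by omega) (by omega)
              · skip
                exact allRangeF_sound _ _ (checkFactF_eq cert) 1796000 1000 chkF_1796000 i (by omega) (by omega)
          · skip
            rcases Nat.lt_or_ge i 1798000 with h6 | h6
            · skip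
              exact allRangeF_sound _ _ (checkFactF_eq cert) 1797000 1000 chkF_1797000 i (by omega) (by omega)
            · skip
              rcases Nat.lt_or_ge i 1799000 with h7 | h7
              · skip
                exact allRangeF_sound _ _ (checkFactF_eq cert) 1798000 1000 chkF_1798000 i (by omega) (by omega)
              · skip
                exact allRangeF_sound _ _ (checkFactF_eq cert) 1799000 1000 chkF_1799000 i (by omega) (by omega)
        · skip
          rcases Nat.lt_or_ge i 1803000 with h5 | h5
          · skip
            rcases Nat.lt_or_ge i 1801000 with h6 | h6
            · skip
              exact allRangeF_sound _ _ (checkFactF_eq cert) 1800000 1000 chkF_1800000 i (by omega) (by omega)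
            · skip
              rcases Nat.lt_or_ge i 1802000 with h7 | h7
              · skip
                exact allRangeF_sound _ _ (checkFactF_eq cert) 1801000 1000 chkF_1801000 i (by omega) (by omega)
              · skip
                exact allRangeF_sound _ _ (checkFactF_eq cert) 1802000 1000 chkF_1802000 i (by omega) (by omega)
          · skip
            rcases Nat.lt_or_ge i 1804000 with h6 | h6
            · skip
              exact allRangeF_sound _ _ (checkFactF_eq cert) 1803000 1000 chkF_1803000 i (by omega) (by omega)
            · skip
              rcases Nat.lt_or_ge i 1805000 with h7 | h7
              · skip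
                exact allRangeF_sound _ _ (checkFactF_eq cert) 1804000 1000 chkF_1804000 i (by omega) (by omega)
              · skip
                exact allRangeF_sound _ _ (checkFactF_eq cert) 1805000 1000 chkF_1805000 i (by omega) (by omega)
    · skip
      rcases Nat.lt_or_ge i 1818000 with h3 | h3
      · skip
        rcases Nat.lt_or_ge i 1812000 with h4 | h4
        · skip
          rcases Nat.lt_or_ge i 1809000 with h5 | h5
          · skip
            rcases Nat.lt_or_ge i 1807000 with h6 | h6
            · skip
              exact allRangeF_sound _ _ (checkFactF_eq cert) 1806000 1000 chkF_1806000 i (by omega) (by omega)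
            · skip
              rcases Nat.lt_or_ge i 1808000 with h7 | h7
              · skip
                exact allRangeF_sound _ _ (checkFactF_eq cert) 1807000 1000 chkF_1807000 i (by omega) (by omega)
              · skip
                exact allRangeF_sound _ _ (checkFactF_eq cert) 1808000 1000 chkF_1808000 i (by omega) (by omega)
          · skip
            rcases Nat.lt_or_ge i 1810000 with h6 | h6
            · skip
              exact allRangeF_sound _ _ (checkFactF_eq cert) 1809000 1000 chkF_1809000 i (by omega) (by omega)
            · skip
              rcases Nat.lt_or_ge i 1811000 with h7 | h7
              · skip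
                exact allRangeF_sound _ _ (checkFactF_eq cert) 1810000 1000 chkF_1810000 i (by omega) (by omega)
              · skip
                exact allRangeF_sound _ _ (checkFactF_eq cert) 1811000 1000 chkF_1811000 i (by omega) (by omega)
        · skip
          rcases Nat.lt_or_ge i 1815000 with h5 | h5
          · skip
            rcases Nat.lt_or_ge i 1813000 with h6 | h6
            · skip
              exact allRangeF_sound _ _ (checkFactF_eq cert) 1812000 1000 chkF_1812000 i (by omega) (by omega)
            · skip
              rcases Nat.lt_or_ge i 1814000 with h7 | h7
              · skip
                exact allRangeF_sound _ _ (checkFactF_eq cert) 1813000 1000 chkF_1813000 i (by omega) (by omega)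
              · skip
                exact allRangeF_sound _ _ (checkFactF_eq cert) 1814000 1000 chkF_1814000 i (by omega) (by omega)
          · skip
            rcases Nat.lt_or_ge i 1816000 with h6 | h6
            · skip
              exact allRangeF_sound _ _ (checkFactF_eq cert) 1815000 1000 chkF_1815000 i (by omega) (by omega)
            · skip
              rcases Nat.lt_or_ge i 1817000 with h7 | h7
              · skip
                exact allRangeF_sound _ _ (checkFactF_eq cert) 1816000 1000 chkF_1816000 i (by omega) (by omega)
              · skip
                exact allRangeF_sound _ _ (checkFactF_eq cert) 1817000 1000 chkF_1817000 i (by omega) (by omega)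
      · skip
        rcases Nat.lt_or_ge i 1824000 with h4 | h4
        · skip
          rcases Nat.lt_or_ge i 1821000 with h5 | h5
          · skip
            rcases Nat.lt_or_ge i 1819000 with h6 | h6
            · skip
              exact allRangeF_sound _ _ (checkFactF_eq cert) 1818000 1000 chkF_1818000 i (by omega) (by omega)
            · skip
              rcases Nat.lt_or_ge i 1820000 with h7 | h7
              · skip
                exact allRangeF_sound _ _ (checkFactF_eq cert) 1819000 1000 chkF_1819000 i (by omega) (by omega)
              · skip
                exact allRangeF_sound _ _ (checkFactF_eq cert) 1820000 1000 chkF_1820000 i (by omega) (by omega)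
          · skip
            rcases Nat.lt_or_ge i 1822000 with h6 | h6
            · skip
              exact allRangeF_sound _ _ (checkFactF_eq cert) 1821000 1000 chkF_1821000 i (by omega) (by omega)
            · skip
              rcases Nat.lt_or_ge i 1823000 with h7 | h7
              · skip
                exact allRangeF_sound _ _ (checkFactF_eq cert) 1822000 1000 chkF_1822000 i (by omega) (by omega)
              · skip
                exact allRangeF_sound _ _ (checkFactF_eq cert) 1823000 1000 chkF_1823000 i (by omega) (by omega)
        · skip
          rcases Nat.lt_or_ge i 1827000 with h5 | h5
          · skip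
            rcases Nat.lt_or_ge i 1825000 with h6 | h6
            · skip
              exact allRangeF_sound _ _ (checkFactF_eq cert) 1824000 1000 chkF_1824000 i (by omega) (by omega)
            · skip
              rcases Nat.lt_or_ge i 1826000 with h7 | h7
              · skip
                exact allRangeF_sound _ _ (checkFactF_eq cert) 1825000 1000 chkF_1825000 i (by omega) (by omega)
              · skip
                exact allRangeF_sound _ _ (checkFactF_eq cert) 1826000 1000 chkF_1826000 i (by omega) (by omega)
          · skip
            rcases Nat.lt_or_ge i 1829000 with h6 | h6
            · skip
              rcases Nat.lt_or_ge i 1828000 with h7 | h7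
              · skip
                exact allRangeF_sound _ _ (checkFactF_eq cert) 1827000 1000 chkF_1827000 i (by omega) (by omega)
              · skip
                exact allRangeF_sound _ _ (checkFactF_eq cert) 1828000 1000 chkF_1828000 i (by omega) (by omega)
            · skip
              rcases Nat.lt_or_ge i 1830000 with h7 | h7
              · skip
                exact allRangeF_sound _ _ (checkFactF_eq cert) 1829000 1000 chkF_1829000 i (by omega) (by omega)
              · skip
                exact allRangeF_sound _ _ (checkFactF_eq cert) 1830000 1000 chkF_1830000 i (by omega) (by omega)
  · skip
    rcases Nat.lt_or_ge i 1856000 with h2 | h2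
    · skip
      rcases Nat.lt_or_ge i 1843000 with h3 | h3
      · skip
        rcases Nat.lt_or_ge i 1837000 with h4 | h4
        · skip
          rcases Nat.lt_or_ge i 1834000 with h5 | h5
          · skip
            rcases Nat.lt_or_ge i 1832000 with h6 | h6
            · skip
              exact allRangeF_sound _ _ (checkFactF_eq cert) 1831000 1000 chkF_1831000 i (by omega) (by omega)
            · skip
              rcases Nat.lt_or_ge i 1833000 with h7 | h7
              · skip
                exact allRangeF_sound _ _ (checkFactF_eq cert) 1832000 1000 chkF_1832000 i (by omega) (by omega)
              · skip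
                exact allRangeF_sound _ _ (checkFactF_eq cert) 1833000 1000 chkF_1833000 i (by omega) (by omega)
          · skip
            rcases Nat.lt_or_ge i 1835000 with h6 | h6
            · skip
              exact allRangeF_sound _ _ (checkFactF_eq cert) 1834000 1000 chkF_1834000 i (by omega) (by omega)
            · skip
              rcases Nat.lt_or_ge i 1836000 with h7 | h7
              · skip
                exact allRangeF_sound _ _ (checkFactF_eq cert) 1835000 1000 chkF_1835000 i (by omega) (by omega)
              · skip
                exact allRangeF_sound _ _ (checkFactF_eq cert) 1836000 1000 chkF_1836000 i (by omega) (by omega)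
        · skip
          rcases Nat.lt_or_ge i 1840000 with h5 | h5
          · skip
            rcases Nat.lt_or_ge i 1838000 with h6 | h6
            · skip
              exact allRangeF_sound _ _ (checkFactF_eq cert) 1837000 1000 chkF_1837000 i (by omega) (by omega)
            · skip
              rcases Nat.lt_or_ge i 1839000 with h7 | h7
              · skip
                exact allRangeF_sound _ _ (checkFactF_eq cert) 1838000 1000 chkF_1838000 i (by omega) (by omega)
              · skip
                exact allRangeF_sound _ _ (checkFactF_eq cert) 1839000 1000 chkF_1839000 i (by omega) (by omega)
          · skip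
            rcases Nat.lt_or_ge i 1841000 with h6 | h6
            · skip
              exact allRangeF_sound _ _ (checkFactF_eq cert) 1840000 1000 chkF_1840000 i (by omega) (by omega)
            · skip
              rcases Nat.lt_or_ge i 1842000 with h7 | h7
              · skip
                exact allRangeF_sound _ _ (checkFactF_eq cert) 1841000 1000 chkF_1841000 i (by omega) (by omega)
              · skip
                exact allRangeF_sound _ _ (checkFactF_eq cert) 1842000 1000 chkF_1842000 i (by omega) (by omega)
      · skip
        rcases Nat.lt_or_ge i 1849000 with h4 | h4
        · skip
          rcases Nat.lt_or_ge i 1846000 with h5 | h5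
          · skip
            rcases Nat.lt_or_ge i 1844000 with h6 | h6
            · skip
              exact allRangeF_sound _ _ (checkFactF_eq cert) 1843000 1000 chkF_1843000 i (by omega) (by omega)
            · skip
              rcases Nat.lt_or_ge i 1845000 with h7 | h7
              · skip
                exact allRangeF_sound _ _ (checkFactF_eq cert) 1844000 1000 chkF_1844000 i (by omega) (by omega)
              · skip
                exact allRangeF_sound _ _ (checkFactF_eq cert) 1845000 1000 chkF_1845000 i (by omega) (by omega)
          · skip
            rcases Nat.lt_or_ge i 1847000 with h6 | h6
            · skip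
              exact allRangeF_sound _ _ (checkFactF_eq cert) 1846000 1000 chkF_1846000 i (by omega) (by omega)
            · skip
              rcases Nat.lt_or_ge i 1848000 with h7 | h7
              · skip
                exact allRangeF_sound _ _ (checkFactF_eq cert) 1847000 1000 chkF_1847000 i (by omega) (by omega)
              · skip
                exact allRangeF_sound _ _ (checkFactF_eq cert) 1848000 1000 chkF_1848000 i (by omega) (by omega)
        · skip
          rcases Nat.lt_or_ge i 1852000 with h5 | h5
          · skip
            rcases Nat.lt_or_ge i 1850000 with h6 | h6
            · skip
              exact allRangeF_sound _ _ (checkFactF_eq cert) 1849000 1000 chkF_1849000 i (by omega) (by omega)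
            · skip
              rcases Nat.lt_or_ge i 1851000 with h7 | h7
              · skip
                exact allRangeF_sound _ _ (checkFactF_eq cert) 1850000 1000 chkF_1850000 i (by omega) (by omega)
              · skip
                exact allRangeF_sound _ _ (checkFactF_eq cert) 1851000 1000 chkF_1851000 i (by omega) (by omega)
          · skip
            rcases Nat.lt_or_ge i 1854000 with h6 | h6
            · skip
              rcases Nat.lt_or_ge i 1853000 with h7 | h7
              · skip
                exact allRangeF_sound _ _ (checkFactF_eq cert) 1852000 1000 chkF_1852000 i (by omega) (by omega)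
              · skip
                exact allRangeF_sound _ _ (checkFactF_eq cert) 1853000 1000 chkF_1853000 i (by omega) (by omega)
            · skip
              rcases Nat.lt_or_ge i 1855000 with h7 | h7
              · skip
                exact allRangeF_sound _ _ (checkFactF_eq cert) 1854000 1000 chkF_1854000 i (by omega) (by omega)
              · skip
                exact allRangeF_sound _ _ (checkFactF_eq cert) 1855000 1000 chkF_1855000 i (by omega) (by omega)
    · skip
      rcases Nat.lt_or_ge i 1868000 with h3 | h3
      · skip
        rcases Nat.lt_or_ge i 1862000 with h4 | h4
        · skip
          rcases Nat.lt_or_ge i 1859000 with h5 | h5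
          · skip
            rcases Nat.lt_or_ge i 1857000 with h6 | h6
            · skip
              exact allRangeF_sound _ _ (checkFactF_eq cert) 1856000 1000 chkF_1856000 i (by omega) (by omega)
            · skip
              rcases Nat.lt_or_ge i 1858000 with h7 | h7
              · skip
                exact allRangeF_sound _ _ (checkFactF_eq cert) 1857000 1000 chkF_1857000 i (by omega) (by omega)
              · skip
                exact allRangeF_sound _ _ (checkFactF_eq cert) 1858000 1000 chkF_1858000 i (by omega) (by omega)
          · skip
            rcases Nat.lt_or_ge i 1860000 with h6 | h6
            · skip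
              exact allRangeF_sound _ _ (checkFactF_eq cert) 1859000 1000 chkF_1859000 i (by omega) (by omega)
            · skip
              rcases Nat.lt_or_ge i 1861000 with h7 | h7
              · skip
                exact allRangeF_sound _ _ (checkFactF_eq cert) 1860000 1000 chkF_1860000 i (by omega) (by omega)
              · skip
                exact allRangeF_sound _ _ (checkFactF_eq cert) 1861000 1000 chkF_1861000 i (by omega) (by omega)
        · skip
          rcases Nat.lt_or_ge i 1865000 with h5 | h5
          · skip
            rcases Nat.lt_or_ge i 1863000 with h6 | h6
            · skip
              exact allRangeF_sound _ _ (checkFactF_eq cert) 1862000 1000 chkF_1862000 i (by omega) (by omega)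
            · skip
              rcases Nat.lt_or_ge i 1864000 with h7 | h7
              · skip
                exact allRangeF_sound _ _ (checkFactF_eq cert) 1863000 1000 chkF_1863000 i (by omega) (by omega)
              · skip
                exact allRangeF_sound _ _ (checkFactF_eq cert) 1864000 1000 chkF_1864000 i (by omega) (by omega)
          · skip
            rcases Nat.lt_or_ge i 1866000 with h6 | h6
            · skip
              exact allRangeF_sound _ _ (checkFactF_eq cert) 1865000 1000 chkF_1865000 i (by omega) (by omega)
            · skip
              rcases Nat.lt_or_ge i 1867000 with h7 | h7
              · skip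
                exact allRangeF_sound _ _ (checkFactF_eq cert) 1866000 1000 chkF_1866000 i (by omega) (by omega)
              · skip
                exact allRangeF_sound _ _ (checkFactF_eq cert) 1867000 1000 chkF_1867000 i (by omega) (by omega)
      · skip
        rcases Nat.lt_or_ge i 1874000 with h4 | h4
        · skip
          rcases Nat.lt_or_ge i 1871000 with h5 | h5
          · skip
            rcases Nat.lt_or_ge i 1869000 with h6 | h6
            · skip
              exact allRangeF_sound _ _ (checkFactF_eq cert) 1868000 1000 chkF_1868000 i (by omega) (by omega)
            · skip
              rcases Nat.lt_or_ge i 1870000 with h7 | h7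
              · skip
                exact allRangeF_sound _ _ (checkFactF_eq cert) 1869000 1000 chkF_1869000 i (by omega) (by omega)
              · skip
                exact allRangeF_sound _ _ (checkFactF_eq cert) 1870000 1000 chkF_1870000 i (by omega) (by omega)
          · skip
            rcases Nat.lt_or_ge i 1872000 with h6 | h6
            · skip
              exact allRangeF_sound _ _ (checkFactF_eq cert) 1871000 1000 chkF_1871000 i (by omega) (by omega)
            · skip
              rcases Nat.lt_or_ge i 1873000 with h7 | h7
              · skip
                exact allRangeF_sound _ _ (checkFactF_eq cert) 1872000 1000 chkF_1872000 i (by omega) (by omega)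
              · skip
                exact allRangeF_sound _ _ (checkFactF_eq cert) 1873000 1000 chkF_1873000 i (by omega) (by omega)
        · skip
          rcases Nat.lt_or_ge i 1877000 with h5 | h5
          · skip
            rcases Nat.lt_or_ge i 1875000 with h6 | h6
            · skip
              exact allRangeF_sound _ _ (checkFactF_eq cert) 1874000 1000 chkF_1874000 i (by omega) (by omega)
            · skip
              rcases Nat.lt_or_ge i 1876000 with h7 | h7
              · skip
                exact allRangeF_sound _ _ (checkFactF_eq cert) 1875000 1000 chkF_1875000 i (by omega) (by omega)
              · skip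
                exact allRangeF_sound _ _ (checkFactF_eq cert) 1876000 1000 chkF_1876000 i (by omega) (by omega)
          · skip
            rcases Nat.lt_or_ge i 1879000 with h6 | h6
            · skip
              rcases Nat.lt_or_ge i 1878000 with h7 | h7
              · skip
                exact allRangeF_sound _ _ (checkFactF_eq cert) 1877000 1000 chkF_1877000 i (by omega) (by omega)
              · skip
                exact allRangeF_sound _ _ (checkFactF_eq cert) 1878000 1000 chkF_1878000 i (by omega) (by omega)
            · skip
              rcases Nat.lt_or_ge i 1880000 with h7 | h7
              · skip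
                exact allRangeF_sound _ _ (checkFactF_eq cert) 1879000 1000 chkF_1879000 i (by omega) (by omega)
              · skip
                exact allRangeF_sound _ _ (checkFactF_eq cert) 1880000 1000 chkF_1880000 i (by omega) (by omega)

end Cfsg.Agent.Lib.Helper28.Fi24Data
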