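import Cfsg.Agent.Lib.Helper28.Fi24Data
import Cfsg.Agent.Lib.Helper28.TCFastFB

set_option autoImplicit false
set_option maxRecDepth 1000000
set_option linter.all false
set_option Elab.async false

namespace Cfsg.Agent.Lib.Helper28.Fi24Data

open Cfsg.Agent.Lib.Helper28B

theorem chkF_198000 : allRangeF (checkFactF cert) (nat_lit 198000) (nat_lit 1000) = true := by decide +kernel
theorem chkF_199000 : allRangeF (checkFactF cert) (nat_lit 199000) (nat_lit 1000) = true := by decide +kernel
theorem chkF_200000 : allRangeF (checkFactF cert) (nat_lit 200000) (nat_lit 1000) = true := by decide +kernel
theorem chkF_201000 : allRangeF (checkFactF cert) (nat_lit 201000) (nat_lit 1000) = true := by decide +kernel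
theorem chkF_202000 : allRangeF (checkFactF cert) (nat_lit 202000) (nat_lit 1000) = true := by decide +kernel
theorem chkF_203000 : allRangeF (checkFactF cert) (nat_lit 203000) (nat_lit 1000) = true := by decide +kernel
theorem chkF_204000 : allRangeF (checkFactF cert) (nat_lit 204000) (nat_lit 1000) = true := by decide +kernel
theorem chkF_205000 : allRangeF (checkFactF cert) (nat_lit 205000) (nat_lit 1000) = true := by decide +kernel
theorem chkF_206000 : allRangeF (checkFactF cert) (nat_lit 206000) (nat_lit 1000) = true := by decide +kernel
theorem chkF_207000 : allRangeF (checkFactF cert) (nat_lit 207000) (nat_lit 1000) = true := by decide +kernel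
theorem chkF_208000 : allRangeF (checkFactF cert) (nat_lit 208000) (nat_lit 1000) = true := by decide +kernel
theorem chkF_209000 : allRangeF (checkFactF cert) (nat_lit 209000) (nat_lit 1000) = true := by decide +kernel
theorem chkF_210000 : allRangeF (checkFactF cert) (nat_lit 210000) (nat_lit 1000) = true := by decide +kernel
theorem chkF_211000 : allRangeF (checkFactF cert) (nat_lit 211000) (nat_lit 1000) = true := by decide +kernel
theorem chkF_212000 : allRangeF (checkFactF cert) (nat_lit 212000) (nat_lit 1000) = true := by decide +kernel
theorem chkF_213000 : allRangeF (checkFactF cert) (nat_lit 213000) (nat_lit 1000) = true := by decide +kernel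
theorem chkF_214000 : allRangeF (checkFactF cert) (nat_lit 214000) (nat_lit 1000) = true := by decide +kernel
theorem chkF_215000 : allRangeF (checkFactF cert) (nat_lit 215000) (nat_lit 1000) = true := by decide +kernel
theorem chkF_216000 : allRangeF (checkFactF cert) (nat_lit 216000) (nat_lit 1000) = true := by decide +kernel
theorem chkF_217000 : allRangeF (checkFactF cert) (nat_lit 217000) (nat_lit 1000) = true := by decide +kernel
theorem chkF_218000 : allRangeF (checkFactF cert) (nat_lit 218000) (nat_lit 1000) = true := by decide +kernel
theorem chkF_219000 : allRangeF (checkFactF cert) (nat_lit 219000) (nat_lit 1000) = true := by decide +kernel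
theorem chkF_220000 : allRangeF (checkFactF cert) (nat_lit 220000) (nat_lit 1000) = true := by decide +kernel
theorem chkF_221000 : allRangeF (checkFactF cert) (nat_lit 221000) (nat_lit 1000) = true := by decide +kernel
theorem chkF_222000 : allRangeF (checkFactF cert) (nat_lit 222000) (nat_lit 1000) = true := by decide +kernel
theorem chkF_223000 : allRangeF (checkFactF cert) (nat_lit 223000) (nat_lit 1000) = true := by decide +kernel
theorem chkF_224000 : allRangeF (checkFactF cert) (nat_lit 224000) (nat_lit 1000) = true := by decide +kernel
theorem chkF_225000 : allRangeF (checkFactF cert) (nat_lit 225000) (nat_lit 1000) = true := by decide +kernel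
theorem chkF_226000 : allRangeF (checkFactF cert) (nat_lit 226000) (nat_lit 1000) = true := by decide +kernel
theorem chkF_227000 : allRangeF (checkFactF cert) (nat_lit 227000) (nat_lit 1000) = true := by decide +kernel
theorem chkF_228000 : allRangeF (checkFactF cert) (nat_lit 228000) (nat_lit 1000) = true := by decide +kernel
theorem chkF_229000 : allRangeF (checkFactF cert) (nat_lit 229000) (nat_lit 1000) = true := by decide +kernel
theorem chkF_230000 : allRangeF (checkFactF cert) (nat_lit 230000) (nat_lit 1000) = true := by decide +kernel
theorem chkF_231000 : allRangeF (checkFactF cert) (nat_lit 231000) (nat_lit 1000) = true := by decide +kernel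
theorem chkF_232000 : allRangeF (checkFactF cert) (nat_lit 232000) (nat_lit 1000) = true := by decide +kernel
theorem chkF_233000 : allRangeF (checkFactF cert) (nat_lit 233000) (nat_lit 1000) = true := by decide +kernel
theorem chkF_234000 : allRangeF (checkFactF cert) (nat_lit 234000) (nat_lit 1000) = true := by decide +kernel
theorem chkF_235000 : allRangeF (checkFactF cert) (nat_lit 235000) (nat_lit 1000) = true := by decide +kernel
theorem chkF_236000 : allRangeF (checkFactF cert) (nat_lit 236000) (nat_lit 1000) = true := by decide +kernel
theorem chkF_237000 : allRangeF (checkFactF cert) (nat_lit 237000) (nat_lit 1000) = true := by decide +kernel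
theorem chkF_238000 : allRangeF (checkFactF cert) (nat_lit 238000) (nat_lit 1000) = true := by decide +kernel
theorem chkF_239000 : allRangeF (checkFactF cert) (nat_lit 239000) (nat_lit 1000) = true := by decide +kernel
theorem chkF_240000 : allRangeF (checkFactF cert) (nat_lit 240000) (nat_lit 1000) = true := by decide +kernel
theorem chkF_241000 : allRangeF (checkFactF cert) (nat_lit 241000) (nat_lit 1000) = true := by decide +kernel
theorem chkF_242000 : allRangeF (checkFactF cert) (nat_lit 242000) (nat_lit 1000) = true := by decide +kernel
theorem chkF_243000 : allRangeF (checkFactF cert) (nat_lit 243000) (nat_lit 1000) = true := by decide +kernel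
theorem chkF_244000 : allRangeF (checkFactF cert) (nat_lit 244000) (nat_lit 1000) = true := by decide +kernel
theorem chkF_245000 : allRangeF (checkFactF cert) (nat_lit 245000) (nat_lit 1000) = true := by decide +kernel
theorem chkF_246000 : allRangeF (checkFactF cert) (nat_lit 246000) (nat_lit 1000) = true := by decide +kernel
theorem chkF_247000 : allRangeF (checkFactF cert) (nat_lit 247000) (nat_lit 1000) = true := by decide +kernel
theorem chkF_248000 : allRangeF (checkFactF cert) (nat_lit 248000) (nat_lit 1000) = true := by decide +kernel
theorem chkF_249000 : allRangeF (checkFactF cert) (nat_lit 249000) (nat_lit 1000) = true := by decide +kernel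
theorem chkF_250000 : allRangeF (checkFactF cert) (nat_lit 250000) (nat_lit 1000) = true := by decide +kernel
theorem chkF_251000 : allRangeF (checkFactF cert) (nat_lit 251000) (nat_lit 1000) = true := by decide +kernel
theorem chkF_252000 : allRangeF (checkFactF cert) (nat_lit 252000) (nat_lit 1000) = true := by decide +kernel
theorem chkF_253000 : allRangeF (checkFactF cert) (nat_lit 253000) (nat_lit 1000) = true := by decide +kernel
theorem chkF_254000 : allRangeF (checkFactF cert) (nat_lit 254000) (nat_lit 1000) = true := by decide +kernel
theorem chkF_255000 : allRangeF (checkFactF cert) (nat_lit 255000) (nat_lit 1000) = true := by decide +kernel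
theorem chkF_256000 : allRangeF (checkFactF cert) (nat_lit 256000) (nat_lit 1000) = true := by decide +kernel
theorem chkF_257000 : allRangeF (checkFactF cert) (nat_lit 257000) (nat_lit 1000) = true := by decide +kernel
theorem chkF_258000 : allRangeF (checkFactF cert) (nat_lit 258000) (nat_lit 1000) = true := by decide +kernel
theorem chkF_259000 : allRangeF (checkFactF cert) (nat_lit 259000) (nat_lit 1000) = true := by decide +kernel
theorem chkF_260000 : allRangeF (checkFactF cert) (nat_lit 260000) (nat_lit 1000) = true := by decide +kernel
theorem chkF_261000 : allRangeF (checkFactF cert) (nat_lit 261000) (nat_lit 1000) = true := by decide +kernel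
theorem chkF_262000 : allRangeF (checkFactF cert) (nat_lit 262000) (nat_lit 1000) = true := by decide +kernel
theorem chkF_263000 : allRangeF (checkFactF cert) (nat_lit 263000) (nat_lit 1000) = true := by decide +kernel
theorem chkF_264000 : allRangeF (checkFactF cert) (nat_lit 264000) (nat_lit 1000) = true := by decide +kernel
theorem chkF_265000 : allRangeF (checkFactF cert) (nat_lit 265000) (nat_lit 1000) = true := by decide +kernel
theorem chkF_266000 : allRangeF (checkFactF cert) (nat_lit 266000) (nat_lit 1000) = true := by decide +kernel
theorem chkF_267000 : allRangeF (checkFactF cert) (nat_lit 267000) (nat_lit 1000) = true := by decide +kernel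
theorem chkF_268000 : allRangeF (checkFactF cert) (nat_lit 268000) (nat_lit 1000) = true := by decide +kernel
theorem chkF_269000 : allRangeF (checkFactF cert) (nat_lit 269000) (nat_lit 1000) = true := by decide +kernel
theorem chkF_270000 : allRangeF (checkFactF cert) (nat_lit 270000) (nat_lit 1000) = true := by decide +kernel
theorem chkF_271000 : allRangeF (checkFactF cert) (nat_lit 271000) (nat_lit 1000) = true := by decide +kernel
theorem chkF_272000 : allRangeF (checkFactF cert) (nat_lit 272000) (nat_lit 1000) = true := by decide +kernel
theorem chkF_273000 : allRangeF (checkFactF cert) (nat_lit 273000) (nat_lit 1000) = true := by decide +kernel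
theorem chkF_274000 : allRangeF (checkFactF cert) (nat_lit 274000) (nat_lit 1000) = true := by decide +kernel
theorem chkF_275000 : allRangeF (checkFactF cert) (nat_lit 275000) (nat_lit 1000) = true := by decide +kernel
theorem chkF_276000 : allRangeF (checkFactF cert) (nat_lit 276000) (nat_lit 1000) = true := by decide +kernel
theorem chkF_277000 : allRangeF (checkFactF cert) (nat_lit 277000) (nat_lit 1000) = true := by decide +kernel
theorem chkF_278000 : allRangeF (checkFactF cert) (nat_lit 278000) (nat_lit 1000) = true := by decide +kernel
theorem chkF_279000 : allRangeF (checkFactF cert) (nat_lit 279000) (nat_lit 1000) = true := by decide +kernel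
theorem chkF_280000 : allRangeF (checkFactF cert) (nat_lit 280000) (nat_lit 1000) = true := by decide +kernel
theorem chkF_281000 : allRangeF (checkFactF cert) (nat_lit 281000) (nat_lit 1000) = true := by decide +kernel
theorem chkF_282000 : allRangeF (checkFactF cert) (nat_lit 282000) (nat_lit 1000) = true := by decide +kernel
theorem chkF_283000 : allRangeF (checkFactF cert) (nat_lit 283000) (nat_lit 1000) = true := by decide +kernel
theorem chkF_284000 : allRangeF (checkFactF cert) (nat_lit 284000) (nat_lit 1000) = true := by decide +kernel
theorem chkF_285000 : allRangeF (checkFactF cert) (nat_lit 285000) (nat_lit 1000) = true := by decide +kernel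
theorem chkF_286000 : allRangeF (checkFactF cert) (nat_lit 286000) (nat_lit 1000) = true := by decide +kernel
theorem chkF_287000 : allRangeF (checkFactF cert) (nat_lit 287000) (nat_lit 1000) = true := by decide +kernel
theorem chkF_288000 : allRangeF (checkFactF cert) (nat_lit 288000) (nat_lit 1000) = true := by decide +kernel
theorem chkF_289000 : allRangeF (checkFactF cert) (nat_lit 289000) (nat_lit 1000) = true := by decide +kernel
theorem chkF_290000 : allRangeF (checkFactF cert) (nat_lit 290000) (nat_lit 1000) = true := by decide +kernel
theorem chkF_291000 : allRangeF (checkFactF cert) (nat_lit 291000) (nat_lit 1000) = true := by decide +kernel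
theorem chkF_292000 : allRangeF (checkFactF cert) (nat_lit 292000) (nat_lit 1000) = true := by decide +kernel
theorem chkF_293000 : allRangeF (checkFactF cert) (nat_lit 293000) (nat_lit 1000) = true := by decide +kernel
theorem chkF_294000 : allRangeF (checkFactF cert) (nat_lit 294000) (nat_lit 1000) = true := by decide +kernel
theorem chkF_295000 : allRangeF (checkFactF cert) (nat_lit 295000) (nat_lit 1000) = true := by decide +kernel
theorem chkF_296000 : allRangeF (checkFactF cert) (nat_lit 296000) (nat_lit 1000) = true := by decide +kernel

theorem factsRange_2 : ∀ i, 198000 ≤ i → i < 297000 → checkFact cert i = true := by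
  intro i hlo hhi
  rcases Nat.lt_or_ge i 247000 with h1 | h1
  · skip
    rcases Nat.lt_or_ge i 222000 with h2 | h2
    · skip
      rcases Nat.lt_or_ge i 210000 with h3 | h3
      · skip
        rcases Nat.lt_or_ge i 204000 with h4 | h4
        · skip
          rcases Nat.lt_or_ge i 201000 with h5 | h5
          · skip
            rcases Nat.lt_or_ge i 199000 with h6 | h6
            · skip
              exact allRangeF_sound _ _ (checkFactF_eq cert) 198000 1000 chkF_198000 i (by omega) (by omega)
            · skip
              rcases Nat.lt_or_ge i 200000 with h7 | h7
              · skip
                exact allRangeF_sound _ _ (checkFactF_eq cert) 199000 1000 chkF_199000 i (by omega) (by omega)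
              · skip
                exact allRangeF_sound _ _ (checkFactF_eq cert) 200000 1000 chkF_200000 i (by omega) (by omega)
          · skip
            rcases Nat.lt_or_ge i 202000 with h6 | h6
            · skip
              exact allRangeF_sound _ _ (checkFactF_eq cert) 201000 1000 chkF_201000 i (by omega) (by omega)
            · skip
              rcases Nat.lt_or_ge i 203000 with h7 | h7
              · skip
                exact allRangeF_sound _ _ (checkFactF_eq cert) 202000 1000 chkF_202000 i (by omega) (by omega)
              · skip
                exact allRangeF_sound _ _ (checkFactF_eq cert) 203000 1000 chkF_203000 i (by omega) (by omega)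
        · skip
          rcases Nat.lt_or_ge i 207000 with h5 | h5
          · skip
            rcases Nat.lt_or_ge i 205000 with h6 | h6
            · skip
              exact allRangeF_sound _ _ (checkFactF_eq cert) 204000 1000 chkF_204000 i (by omega) (by omega)
            · skip
              rcases Nat.lt_or_ge i 206000 with h7 | h7
              · skip
                exact allRangeF_sound _ _ (checkFactF_eq cert) 205000 1000 chkF_205000 i (by omega) (by omega)
              · skip
                exact allRangeF_sound _ _ (checkFactF_eq cert) 206000 1000 chkF_206000 i (by omega) (by omega)
          · skip
            rcases Nat.lt_or_ge i 208000 with h6 | h6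
            · skip
              exact allRangeF_sound _ _ (checkFactF_eq cert) 207000 1000 chkF_207000 i (by omega) (by omega)
            · skip
              rcases Nat.lt_or_ge i 209000 with h7 | h7
              · skip
                exact allRangeF_sound _ _ (checkFactF_eq cert) 208000 1000 chkF_208000 i (by omega) (by omega)
              · skip
                exact allRangeF_sound _ _ (checkFactF_eq cert) 209000 1000 chkF_209000 i (by omega) (by omega)
      · skip
        rcases Nat.lt_or_ge i 216000 with h4 | h4
        · skip
          rcases Nat.lt_or_ge i 213000 with h5 | h5
          · skip
            rcases Nat.lt_or_ge i 211000 with h6 | h6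
            · skip
              exact allRangeF_sound _ _ (checkFactF_eq cert) 210000 1000 chkF_210000 i (by omega) (by omega)
            · skip
              rcases Nat.lt_or_ge i 212000 with h7 | h7
              · skip
                exact allRangeF_sound _ _ (checkFactF_eq cert) 211000 1000 chkF_211000 i (by omega) (by omega)
              · skip
                exact allRangeF_sound _ _ (checkFactF_eq cert) 212000 1000 chkF_212000 i (by omega) (by omega)
          · skip
            rcases Nat.lt_or_ge i 214000 with h6 | h6
            · skip
              exact allRangeF_sound _ _ (checkFactF_eq cert) 213000 1000 chkF_213000 i (by omega) (by omega)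
            · skip
              rcases Nat.lt_or_ge i 215000 with h7 | h7
              · skip
                exact allRangeF_sound _ _ (checkFactF_eq cert) 214000 1000 chkF_214000 i (by omega) (by omega)
              · skip
                exact allRangeF_sound _ _ (checkFactF_eq cert) 215000 1000 chkF_215000 i (by omega) (by omega)
        · skip
          rcases Nat.lt_or_ge i 219000 with h5 | h5
          · skip
            rcases Nat.lt_or_ge i 217000 with h6 | h6
            · skip
              exact allRangeF_sound _ _ (checkFactF_eq cert) 216000 1000 chkF_216000 i (by omega) (by omega)
            · skip
              rcases Nat.lt_or_ge i 218000 with h7 | h7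
              · skip
                exact allRangeF_sound _ _ (checkFactF_eq cert) 217000 1000 chkF_217000 i (by omega) (by omega)
              · skip
                exact allRangeF_sound _ _ (checkFactF_eq cert) 218000 1000 chkF_218000 i (by omega) (by omega)
          · skip
            rcases Nat.lt_or_ge i 220000 with h6 | h6
            · skip
              exact allRangeF_sound _ _ (checkFactF_eq cert) 219000 1000 chkF_219000 i (by omega) (by omega)
            · skip
              rcases Nat.lt_or_ge i 221000 with h7 | h7
              · skip
                exact allRangeF_sound _ _ (checkFactF_eq cert) 220000 1000 chkF_220000 i (by omega) (by omega)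
              · skip
                exact allRangeF_sound _ _ (checkFactF_eq cert) 221000 1000 chkF_221000 i (by omega) (by omega)
    · skip
      rcases Nat.lt_or_ge i 234000 with h3 | h3
      · skip
        rcases Nat.lt_or_ge i 228000 with h4 | h4
        · skip
          rcases Nat.lt_or_ge i 225000 with h5 | h5
          · skip
            rcases Nat.lt_or_ge i 223000 with h6 | h6
            · skip
              exact allRangeF_sound _ _ (checkFactF_eq cert) 222000 1000 chkF_222000 i (by omega) (by omega)
            · skip
              rcases Nat.lt_or_ge i 224000 with h7 | h7
              · skip
                exact allRangeF_sound _ _ (checkFactF_eq cert) 223000 1000 chkF_223000 i (by omega) (by omega)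
              · skip
                exact allRangeF_sound _ _ (checkFactF_eq cert) 224000 1000 chkF_224000 i (by omega) (by omega)
          · skip
            rcases Nat.lt_or_ge i 226000 with h6 | h6
            · skip
              exact allRangeF_sound _ _ (checkFactF_eq cert) 225000 1000 chkF_225000 i (by omega) (by omega)
            · skip
              rcases Nat.lt_or_ge i 227000 with h7 | h7
              · skip
                exact allRangeF_sound _ _ (checkFactF_eq cert) 226000 1000 chkF_226000 i (by omega) (by omega)
              · skip
                exact allRangeF_sound _ _ (checkFactF_eq cert) 227000 1000 chkF_227000 i (by omega) (by omega)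
        · skip
          rcases Nat.lt_or_ge i 231000 with h5 | h5
          · skip
            rcases Nat.lt_or_ge i 229000 with h6 | h6
            · skip
              exact allRangeF_sound _ _ (checkFactF_eq cert) 228000 1000 chkF_228000 i (by omega) (by omega)
            · skip
              rcases Nat.lt_or_ge i 230000 with h7 | h7
              · skip
                exact allRangeF_sound _ _ (checkFactF_eq cert) 229000 1000 chkF_229000 i (by omega) (by omega)
              · skip
                exact allRangeF_sound _ _ (checkFactF_eq cert) 230000 1000 chkF_230000 i (by omega) (by omega)
          · skip
            rcases Nat.lt_or_ge i 232000 with h6 | h6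
            · skip
              exact allRangeF_sound _ _ (checkFactF_eq cert) 231000 1000 chkF_231000 i (by omega) (by omega)
            · skip
              rcases Nat.lt_or_ge i 233000 with h7 | h7
              · skip
                exact allRangeF_sound _ _ (checkFactF_eq cert) 232000 1000 chkF_232000 i (by omega) (by omega)
              · skip
                exact allRangeF_sound _ _ (checkFactF_eq cert) 233000 1000 chkF_233000 i (by omega) (by omega)
      · skip
        rcases Nat.lt_or_ge i 240000 with h4 | h4
        · skip
          rcases Nat.lt_or_ge i 237000 with h5 | h5
          · skip
            rcases Nat.lt_or_ge i 235000 with h6 | h6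
            · skip
              exact allRangeF_sound _ _ (checkFactF_eq cert) 234000 1000 chkF_234000 i (by omega) (by omega)
            · skip
              rcases Nat.lt_or_ge i 236000 with h7 | h7
              · skip
                exact allRangeF_sound _ _ (checkFactF_eq cert) 235000 1000 chkF_235000 i (by omega) (by omega)
              · skip
                exact allRangeF_sound _ _ (checkFactF_eq cert) 236000 1000 chkF_236000 i (by omega) (by omega)
          · skip
            rcases Nat.lt_or_ge i 238000 with h6 | h6
            · skip
              exact allRangeF_sound _ _ (checkFactF_eq cert) 237000 1000 chkF_237000 i (by omega) (by omega)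
            · skip
              rcases Nat.lt_or_ge i 239000 with h7 | h7
              · skip
                exact allRangeF_sound _ _ (checkFactF_eq cert) 238000 1000 chkF_238000 i (by omega) (by omega)
              · skip
                exact allRangeF_sound _ _ (checkFactF_eq cert) 239000 1000 chkF_239000 i (by omega) (by omega)
        · skip
          rcases Nat.lt_or_ge i 243000 with h5 | h5
          · skip
            rcases Nat.lt_or_ge i 241000 with h6 | h6
            · skip
              exact allRangeF_sound _ _ (checkFactF_eq cert) 240000 1000 chkF_240000 i (by omega) (by omega)
            · skip
              rcases Nat.lt_or_ge i 242000 with h7 | h7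
              · skip
                exact allRangeF_sound _ _ (checkFactF_eq cert) 241000 1000 chkF_241000 i (by omega) (by omega)
              · skip
                exact allRangeF_sound _ _ (checkFactF_eq cert) 242000 1000 chkF_242000 i (by omega) (by omega)
          · skip
            rcases Nat.lt_or_ge i 245000 with h6 | h6
            · skip
              rcases Nat.lt_or_ge i 244000 with h7 | h7
              · skip
                exact allRangeF_sound _ _ (checkFactF_eq cert) 243000 1000 chkF_243000 i (by omega) (by omega)
              · skip
                exact allRangeF_sound _ _ (checkFactF_eq cert) 244000 1000 chkF_244000 i (by omega) (by omega)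
            · skip
              rcases Nat.lt_or_ge i 246000 with h7 | h7
              · skip
                exact allRangeF_sound _ _ (checkFactF_eq cert) 245000 1000 chkF_245000 i (by omega) (by omega)
              · skip
                exact allRangeF_sound _ _ (checkFactF_eq cert) 246000 1000 chkF_246000 i (by omega) (by omega)
  · skip
    rcases Nat.lt_or_ge i 272000 with h2 | h2
    · skip
      rcases Nat.lt_or_ge i 259000 with h3 | h3
      · skip
        rcases Nat.lt_or_ge i 253000 with h4 | h4
        · skip
          rcases Nat.lt_or_ge i 250000 with h5 | h5
          · skip
            rcases Nat.lt_or_ge i 248000 with h6 | h6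
            · skip
              exact allRangeF_sound _ _ (checkFactF_eq cert) 247000 1000 chkF_247000 i (by omega) (by omega)
            · skip
              rcases Nat.lt_or_ge i 249000 with h7 | h7
              · skip
                exact allRangeF_sound _ _ (checkFactF_eq cert) 248000 1000 chkF_248000 i (by omega) (by omega)
              · skip
                exact allRangeF_sound _ _ (checkFactF_eq cert) 249000 1000 chkF_249000 i (by omega) (by omega)
          · skip
            rcases Nat.lt_or_ge i 251000 with h6 | h6
            · skip
              exact allRangeF_sound _ _ (checkFactF_eq cert) 250000 1000 chkF_250000 i (by omega) (by omega)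
            · skip
              rcases Nat.lt_or_ge i 252000 with h7 | h7
              · skip
                exact allRangeF_sound _ _ (checkFactF_eq cert) 251000 1000 chkF_251000 i (by omega) (by omega)
              · skip
                exact allRangeF_sound _ _ (checkFactF_eq cert) 252000 1000 chkF_252000 i (by omega) (by omega)
        · skip
          rcases Nat.lt_or_ge i 256000 with h5 | h5
          · skip
            rcases Nat.lt_or_ge i 254000 with h6 | h6
            · skip
              exact allRangeF_sound _ _ (checkFactF_eq cert) 253000 1000 chkF_253000 i (by omega) (by omega)
            · skip
              rcases Nat.lt_or_ge i 255000 with h7 | h7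
              · skip
                exact allRangeF_sound _ _ (checkFactF_eq cert) 254000 1000 chkF_254000 i (by omega) (by omega)
              · skip
                exact allRangeF_sound _ _ (checkFactF_eq cert) 255000 1000 chkF_255000 i (by omega) (by omega)
          · skip
            rcases Nat.lt_or_ge i 257000 with h6 | h6
            · skip
              exact allRangeF_sound _ _ (checkFactF_eq cert) 256000 1000 chkF_256000 i (by omega) (by omega)
            · skip
              rcases Nat.lt_or_ge i 258000 with h7 | h7
              · skip
                exact allRangeF_sound _ _ (checkFactF_eq cert) 257000 1000 chkF_257000 i (by omega) (by omega)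
              · skip
                exact allRangeF_sound _ _ (checkFactF_eq cert) 258000 1000 chkF_258000 i (by omega) (by omega)
      · skip
        rcases Nat.lt_or_ge i 265000 with h4 | h4
        · skip
          rcases Nat.lt_or_ge i 262000 with h5 | h5
          · skip
            rcases Nat.lt_or_ge i 260000 with h6 | h6
            · skip
              exact allRangeF_sound _ _ (checkFactF_eq cert) 259000 1000 chkF_259000 i (by omega) (by omega)
            · skip
              rcases Nat.lt_or_ge i 261000 with h7 | h7
              · skip
                exact allRangeF_sound _ _ (checkFactF_eq cert) 260000 1000 chkF_260000 i (by omega) (by omega)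
              · skip
                exact allRangeF_sound _ _ (checkFactF_eq cert) 261000 1000 chkF_261000 i (by omega) (by omega)
          · skip
            rcases Nat.lt_or_ge i 263000 with h6 | h6
            · skip
              exact allRangeF_sound _ _ (checkFactF_eq cert) 262000 1000 chkF_262000 i (by omega) (by omega)
            · skip
              rcases Nat.lt_or_ge i 264000 with h7 | h7
              · skip
                exact allRangeF_sound _ _ (checkFactF_eq cert) 263000 1000 chkF_263000 i (by omega) (by omega)
              · skip
                exact allRangeF_sound _ _ (checkFactF_eq cert) 264000 1000 chkF_264000 i (by omega) (by omega)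
        · skip
          rcases Nat.lt_or_ge i 268000 with h5 | h5
          · skip
            rcases Nat.lt_or_ge i 266000 with h6 | h6
            · skip
              exact allRangeF_sound _ _ (checkFactF_eq cert) 265000 1000 chkF_265000 i (by omega) (by omega)
            · skip
              rcases Nat.lt_or_ge i 267000 with h7 | h7
              · skip
                exact allRangeF_sound _ _ (checkFactF_eq cert) 266000 1000 chkF_266000 i (by omega) (by omega)
              · skip
                exact allRangeF_sound _ _ (checkFactF_eq cert) 267000 1000 chkF_267000 i (by omega) (by omega)
          · skip
            rcases Nat.lt_or_ge i 270000 with h6 | h6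
            · skip
              rcases Nat.lt_or_ge i 269000 with h7 | h7
              · skip
                exact allRangeF_sound _ _ (checkFactF_eq cert) 268000 1000 chkF_268000 i (by omega) (by omega)
              · skip
                exact allRangeF_sound _ _ (checkFactF_eq cert) 269000 1000 chkF_269000 i (by omega) (by omega)
            · skip
              rcases Nat.lt_or_ge i 271000 with h7 | h7
              · skip
                exact allRangeF_sound _ _ (checkFactF_eq cert) 270000 1000 chkF_270000 i (by omega) (by omega)
              · skip
                exact allRangeF_sound _ _ (checkFactF_eq cert) 271000 1000 chkF_271000 i (by omega) (by omega)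
    · skip
      rcases Nat.lt_or_ge i 284000 with h3 | h3
      · skip
        rcases Nat.lt_or_ge i 278000 with h4 | h4
        · skip
          rcases Nat.lt_or_ge i 275000 with h5 | h5
          · skip
            rcases Nat.lt_or_ge i 273000 with h6 | h6
            · skip
              exact allRangeF_sound _ _ (checkFactF_eq cert) 272000 1000 chkF_272000 i (by omega) (by omega)
            · skip
              rcases Nat.lt_or_ge i 274000 with h7 | h7
              · skip
                exact allRangeF_sound _ _ (checkFactF_eq cert) 273000 1000 chkF_273000 i (by omega) (by omega)
              · skip
                exact allRangeF_sound _ _ (checkFactF_eq cert) 274000 1000 chkF_274000 i (by omega) (by omega)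
          · skip
            rcases Nat.lt_or_ge i 276000 with h6 | h6
            · skip
              exact allRangeF_sound _ _ (checkFactF_eq cert) 275000 1000 chkF_275000 i (by omega) (by omega)
            · skip
              rcases Nat.lt_or_ge i 277000 with h7 | h7
              · skip
                exact allRangeF_sound _ _ (checkFactF_eq cert) 276000 1000 chkF_276000 i (by omega) (by omega)
              · skip
                exact allRangeF_sound _ _ (checkFactF_eq cert) 277000 1000 chkF_277000 i (by omega) (by omega)
        · skip
          rcases Nat.lt_or_ge i 281000 with h5 | h5
          · skip
            rcases Nat.lt_or_ge i 279000 with h6 | h6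
            · skip
              exact allRangeF_sound _ _ (checkFactF_eq cert) 278000 1000 chkF_278000 i (by omega) (by omega)
            · skip
              rcases Nat.lt_or_ge i 280000 with h7 | h7
              · skip
                exact allRangeF_sound _ _ (checkFactF_eq cert) 279000 1000 chkF_279000 i (by omega) (by omega)
              · skip
                exact allRangeF_sound _ _ (checkFactF_eq cert) 280000 1000 chkF_280000 i (by omega) (by omega)
          · skip
            rcases Nat.lt_or_ge i 282000 with h6 | h6
            · skip
              exact allRangeF_sound _ _ (checkFactF_eq cert) 281000 1000 chkF_281000 i (by omega) (by omega)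
            · skip
              rcases Nat.lt_or_ge i 283000 with h7 | h7
              · skip
                exact allRangeF_sound _ _ (checkFactF_eq cert) 282000 1000 chkF_282000 i (by omega) (by omega)
              · skip
                exact allRangeF_sound _ _ (checkFactF_eq cert) 283000 1000 chkF_283000 i (by omega) (by omega)
      · skip
        rcases Nat.lt_or_ge i 290000 with h4 | h4
        · skip
          rcases Nat.lt_or_ge i 287000 with h5 | h5
          · skip
            rcases Nat.lt_or_ge i 285000 with h6 | h6
            · skip
              exact allRangeF_sound _ _ (checkFactF_eq cert) 284000 1000 chkF_284000 i (by omega) (by omega)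
            · skip
              rcases Nat.lt_or_ge i 286000 with h7 | h7
              · skip
                exact allRangeF_sound _ _ (checkFactF_eq cert) 285000 1000 chkF_285000 i (by omega) (by omega)
              · skip
                exact allRangeF_sound _ _ (checkFactF_eq cert) 286000 1000 chkF_286000 i (by omega) (by omega)
          · skip
            rcases Nat.lt_or_ge i 288000 with h6 | h6
            · skip
              exact allRangeF_sound _ _ (checkFactF_eq cert) 287000 1000 chkF_287000 i (by omega) (by omega)
            · skip
              rcases Nat.lt_or_ge i 289000 with h7 | h7
              · skip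
                exact allRangeF_sound _ _ (checkFactF_eq cert) 288000 1000 chkF_288000 i (by omega) (by omega)
              · skip
                exact allRangeF_sound _ _ (checkFactF_eq cert) 289000 1000 chkF_289000 i (by omega) (by omega)
        · skip
          rcases Nat.lt_or_ge i 293000 with h5 | h5
          · skip
            rcases Nat.lt_or_ge i 291000 with h6 | h6
            · skip
              exact allRangeF_sound _ _ (checkFactF_eq cert) 290000 1000 chkF_290000 i (by omega) (by omega)
            · skip
              rcases Nat.lt_or_ge i 292000 with h7 | h7
              · skip
                exact allRangeF_sound _ _ (checkFactF_eq cert) 291000 1000 chkF_291000 i (by omega) (by omega)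
              · skip
                exact allRangeF_sound _ _ (checkFactF_eq cert) 292000 1000 chkF_292000 i (by omega) (by omega)
          · skip
            rcases Nat.lt_or_ge i 295000 with h6 | h6
            · skip
              rcases Nat.lt_or_ge i 294000 with h7 | h7
              · skip
                exact allRangeF_sound _ _ (checkFactF_eq cert) 293000 1000 chkF_293000 i (by omega) (by omega)
              · skip
                exact allRangeF_sound _ _ (checkFactF_eq cert) 294000 1000 chkF_294000 i (by omega) (by omega)
            · skip
              rcases Nat.lt_or_ge i 296000 with h7 | h7
              · skip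
                exact allRangeF_sound _ _ (checkFactF_eq cert) 295000 1000 chkF_295000 i (by omega) (by omega)
              · skip
                exact allRangeF_sound _ _ (checkFactF_eq cert) 296000 1000 chkF_296000 i (by omega) (by omega)

end Cfsg.Agent.Lib.Helper28.Fi24Data
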