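import Cfsg.Agent.Lib.Helper28.Fi24Data
import Cfsg.Agent.Lib.Helper28.TCFastFB

set_option autoImplicit false
set_option maxRecDepth 1000000
set_option linter.all false
set_option Elab.async false

namespace Cfsg.Agent.Lib.Helper28.Fi24Data

open Cfsg.Agent.Lib.Helper28B

theorem chkF_1980000 : allRangeF (checkFactF cert) (nat_lit 1980000) (nat_lit 1000) = true := by decide +kernel
theorem chkF_1981000 : allRangeF (checkFactF cert) (nat_lit 1981000) (nat_lit 1000) = true := by decide +kernel
theorem chkF_1982000 : allRangeF (checkFactF cert) (nat_lit 1982000) (nat_lit 1000) = true := by decide +kernel
theorem chkF_1983000 : allRangeF (checkFactF cert) (nat_lit 1983000) (nat_lit 1000) = true := by decide +kernel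
theorem chkF_1984000 : allRangeF (checkFactF cert) (nat_lit 1984000) (nat_lit 1000) = true := by decide +kernel
theorem chkF_1985000 : allRangeF (checkFactF cert) (nat_lit 1985000) (nat_lit 1000) = true := by decide +kernel
theorem chkF_1986000 : allRangeF (checkFactF cert) (nat_lit 1986000) (nat_lit 1000) = true := by decide +kernel
theorem chkF_1987000 : allRangeF (checkFactF cert) (nat_lit 1987000) (nat_lit 1000) = true := by decide +kernel
theorem chkF_1988000 : allRangeF (checkFactF cert) (nat_lit 1988000) (nat_lit 1000) = true := by decide +kernel
theorem chkF_1989000 : allRangeF (checkFactF cert) (nat_lit 1989000) (nat_lit 1000) = true := by decide +kernel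
theorem chkF_1990000 : allRangeF (checkFactF cert) (nat_lit 1990000) (nat_lit 1000) = true := by decide +kernel
theorem chkF_1991000 : allRangeF (checkFactF cert) (nat_lit 1991000) (nat_lit 1000) = true := by decide +kernel
theorem chkF_1992000 : allRangeF (checkFactF cert) (nat_lit 1992000) (nat_lit 1000) = true := by decide +kernel
theorem chkF_1993000 : allRangeF (checkFactF cert) (nat_lit 1993000) (nat_lit 1000) = true := by decide +kernel
theorem chkF_1994000 : allRangeF (checkFactF cert) (nat_lit 1994000) (nat_lit 1000) = true := by decide +kernel
theorem chkF_1995000 : allRangeF (checkFactF cert) (nat_lit 1995000) (nat_lit 1000) = true := by decide +kernel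
theorem chkF_1996000 : allRangeF (checkFactF cert) (nat_lit 1996000) (nat_lit 1000) = true := by decide +kernel
theorem chkF_1997000 : allRangeF (checkFactF cert) (nat_lit 1997000) (nat_lit 1000) = true := by decide +kernel
theorem chkF_1998000 : allRangeF (checkFactF cert) (nat_lit 1998000) (nat_lit 1000) = true := by decide +kernel
theorem chkF_1999000 : allRangeF (checkFactF cert) (nat_lit 1999000) (nat_lit 1000) = true := by decide +kernel
theorem chkF_2000000 : allRangeF (checkFactF cert) (nat_lit 2000000) (nat_lit 1000) = true := by decide +kernel
theorem chkF_2001000 : allRangeF (checkFactF cert) (nat_lit 2001000) (nat_lit 1000) = true := by decide +kernel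
theorem chkF_2002000 : allRangeF (checkFactF cert) (nat_lit 2002000) (nat_lit 1000) = true := by decide +kernel
theorem chkF_2003000 : allRangeF (checkFactF cert) (nat_lit 2003000) (nat_lit 1000) = true := by decide +kernel
theorem chkF_2004000 : allRangeF (checkFactF cert) (nat_lit 2004000) (nat_lit 1000) = true := by decide +kernel
theorem chkF_2005000 : allRangeF (checkFactF cert) (nat_lit 2005000) (nat_lit 1000) = true := by decide +kernel
theorem chkF_2006000 : allRangeF (checkFactF cert) (nat_lit 2006000) (nat_lit 1000) = true := by decide +kernel
theorem chkF_2007000 : allRangeF (checkFactF cert) (nat_lit 2007000) (nat_lit 1000) = true := by decide +kernel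
theorem chkF_2008000 : allRangeF (checkFactF cert) (nat_lit 2008000) (nat_lit 1000) = true := by decide +kernel
theorem chkF_2009000 : allRangeF (checkFactF cert) (nat_lit 2009000) (nat_lit 1000) = true := by decide +kernel
theorem chkF_2010000 : allRangeF (checkFactF cert) (nat_lit 2010000) (nat_lit 1000) = true := by decide +kernel
theorem chkF_2011000 : allRangeF (checkFactF cert) (nat_lit 2011000) (nat_lit 1000) = true := by decide +kernel
theorem chkF_2012000 : allRangeF (checkFactF cert) (nat_lit 2012000) (nat_lit 1000) = true := by decide +kernel
theorem chkF_2013000 : allRangeF (checkFactF cert) (nat_lit 2013000) (nat_lit 1000) = true := by decide +kernel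
theorem chkF_2014000 : allRangeF (checkFactF cert) (nat_lit 2014000) (nat_lit 1000) = true := by decide +kernel
theorem chkF_2015000 : allRangeF (checkFactF cert) (nat_lit 2015000) (nat_lit 1000) = true := by decide +kernel
theorem chkF_2016000 : allRangeF (checkFactF cert) (nat_lit 2016000) (nat_lit 1000) = true := by decide +kernel
theorem chkF_2017000 : allRangeF (checkFactF cert) (nat_lit 2017000) (nat_lit 1000) = true := by decide +kernel
theorem chkF_2018000 : allRangeF (checkFactF cert) (nat_lit 2018000) (nat_lit 1000) = true := by decide +kernel
theorem chkF_2019000 : allRangeF (checkFactF cert) (nat_lit 2019000) (nat_lit 1000) = true := by decide +kernel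
theorem chkF_2020000 : allRangeF (checkFactF cert) (nat_lit 2020000) (nat_lit 1000) = true := by decide +kernel
theorem chkF_2021000 : allRangeF (checkFactF cert) (nat_lit 2021000) (nat_lit 1000) = true := by decide +kernel
theorem chkF_2022000 : allRangeF (checkFactF cert) (nat_lit 2022000) (nat_lit 1000) = true := by decide +kernel
theorem chkF_2023000 : allRangeF (checkFactF cert) (nat_lit 2023000) (nat_lit 1000) = true := by decide +kernel
theorem chkF_2024000 : allRangeF (checkFactF cert) (nat_lit 2024000) (nat_lit 1000) = true := by decide +kernel
theorem chkF_2025000 : allRangeF (checkFactF cert) (nat_lit 2025000) (nat_lit 1000) = true := by decide +kernel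
theorem chkF_2026000 : allRangeF (checkFactF cert) (nat_lit 2026000) (nat_lit 1000) = true := by decide +kernel
theorem chkF_2027000 : allRangeF (checkFactF cert) (nat_lit 2027000) (nat_lit 1000) = true := by decide +kernel
theorem chkF_2028000 : allRangeF (checkFactF cert) (nat_lit 2028000) (nat_lit 1000) = true := by decide +kernel
theorem chkF_2029000 : allRangeF (checkFactF cert) (nat_lit 2029000) (nat_lit 1000) = true := by decide +kernel
theorem chkF_2030000 : allRangeF (checkFactF cert) (nat_lit 2030000) (nat_lit 1000) = true := by decide +kernel
theorem chkF_2031000 : allRangeF (checkFactF cert) (nat_lit 2031000) (nat_lit 1000) = true := by decide +kernel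
theorem chkF_2032000 : allRangeF (checkFactF cert) (nat_lit 2032000) (nat_lit 1000) = true := by decide +kernel
theorem chkF_2033000 : allRangeF (checkFactF cert) (nat_lit 2033000) (nat_lit 1000) = true := by decide +kernel
theorem chkF_2034000 : allRangeF (checkFactF cert) (nat_lit 2034000) (nat_lit 1000) = true := by decide +kernel
theorem chkF_2035000 : allRangeF (checkFactF cert) (nat_lit 2035000) (nat_lit 1000) = true := by decide +kernel
theorem chkF_2036000 : allRangeF (checkFactF cert) (nat_lit 2036000) (nat_lit 1000) = true := by decide +kernel
theorem chkF_2037000 : allRangeF (checkFactF cert) (nat_lit 2037000) (nat_lit 1000) = true := by decide +kernel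
theorem chkF_2038000 : allRangeF (checkFactF cert) (nat_lit 2038000) (nat_lit 1000) = true := by decide +kernel
theorem chkF_2039000 : allRangeF (checkFactF cert) (nat_lit 2039000) (nat_lit 1000) = true := by decide +kernel
theorem chkF_2040000 : allRangeF (checkFactF cert) (nat_lit 2040000) (nat_lit 1000) = true := by decide +kernel
theorem chkF_2041000 : allRangeF (checkFactF cert) (nat_lit 2041000) (nat_lit 1000) = true := by decide +kernel
theorem chkF_2042000 : allRangeF (checkFactF cert) (nat_lit 2042000) (nat_lit 1000) = true := by decide +kernel
theorem chkF_2043000 : allRangeF (checkFactF cert) (nat_lit 2043000) (nat_lit 1000) = true := by decide +kernel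
theorem chkF_2044000 : allRangeF (checkFactF cert) (nat_lit 2044000) (nat_lit 1000) = true := by decide +kernel
theorem chkF_2045000 : allRangeF (checkFactF cert) (nat_lit 2045000) (nat_lit 1000) = true := by decide +kernel
theorem chkF_2046000 : allRangeF (checkFactF cert) (nat_lit 2046000) (nat_lit 1000) = true := by decide +kernel
theorem chkF_2047000 : allRangeF (checkFactF cert) (nat_lit 2047000) (nat_lit 1000) = true := by decide +kernel
theorem chkF_2048000 : allRangeF (checkFactF cert) (nat_lit 2048000) (nat_lit 1000) = true := by decide +kernel
theorem chkF_2049000 : allRangeF (checkFactF cert) (nat_lit 2049000) (nat_lit 1000) = true := by decide +kernel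
theorem chkF_2050000 : allRangeF (checkFactF cert) (nat_lit 2050000) (nat_lit 1000) = true := by decide +kernel
theorem chkF_2051000 : allRangeF (checkFactF cert) (nat_lit 2051000) (nat_lit 1000) = true := by decide +kernel
theorem chkF_2052000 : allRangeF (checkFactF cert) (nat_lit 2052000) (nat_lit 1000) = true := by decide +kernel
theorem chkF_2053000 : allRangeF (checkFactF cert) (nat_lit 2053000) (nat_lit 1000) = true := by decide +kernel
theorem chkF_2054000 : allRangeF (checkFactF cert) (nat_lit 2054000) (nat_lit 1000) = true := by decide +kernel
theorem chkF_2055000 : allRangeF (checkFactF cert) (nat_lit 2055000) (nat_lit 1000) = true := by decide +kernel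
theorem chkF_2056000 : allRangeF (checkFactF cert) (nat_lit 2056000) (nat_lit 1000) = true := by decide +kernel
theorem chkF_2057000 : allRangeF (checkFactF cert) (nat_lit 2057000) (nat_lit 1000) = true := by decide +kernel
theorem chkF_2058000 : allRangeF (checkFactF cert) (nat_lit 2058000) (nat_lit 1000) = true := by decide +kernel
theorem chkF_2059000 : allRangeF (checkFactF cert) (nat_lit 2059000) (nat_lit 1000) = true := by decide +kernel
theorem chkF_2060000 : allRangeF (checkFactF cert) (nat_lit 2060000) (nat_lit 1000) = true := by decide +kernel
theorem chkF_2061000 : allRangeF (checkFactF cert) (nat_lit 2061000) (nat_lit 1000) = true := by decide +kernel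
theorem chkF_2062000 : allRangeF (checkFactF cert) (nat_lit 2062000) (nat_lit 1000) = true := by decide +kernel
theorem chkF_2063000 : allRangeF (checkFactF cert) (nat_lit 2063000) (nat_lit 1000) = true := by decide +kernel
theorem chkF_2064000 : allRangeF (checkFactF cert) (nat_lit 2064000) (nat_lit 1000) = true := by decide +kernel
theorem chkF_2065000 : allRangeF (checkFactF cert) (nat_lit 2065000) (nat_lit 1000) = true := by decide +kernel
theorem chkF_2066000 : allRangeF (checkFactF cert) (nat_lit 2066000) (nat_lit 1000) = true := by decide +kernel
theorem chkF_2067000 : allRangeF (checkFactF cert) (nat_lit 2067000) (nat_lit 1000) = true := by decide +kernel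
theorem chkF_2068000 : allRangeF (checkFactF cert) (nat_lit 2068000) (nat_lit 1000) = true := by decide +kernel
theorem chkF_2069000 : allRangeF (checkFactF cert) (nat_lit 2069000) (nat_lit 1000) = true := by decide +kernel
theorem chkF_2070000 : allRangeF (checkFactF cert) (nat_lit 2070000) (nat_lit 1000) = true := by decide +kernel
theorem chkF_2071000 : allRangeF (checkFactF cert) (nat_lit 2071000) (nat_lit 1000) = true := by decide +kernel
theorem chkF_2072000 : allRangeF (checkFactF cert) (nat_lit 2072000) (nat_lit 1000) = true := by decide +kernel
theorem chkF_2073000 : allRangeF (checkFactF cert) (nat_lit 2073000) (nat_lit 1000) = true := by decide +kernel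
theorem chkF_2074000 : allRangeF (checkFactF cert) (nat_lit 2074000) (nat_lit 1000) = true := by decide +kernel
theorem chkF_2075000 : allRangeF (checkFactF cert) (nat_lit 2075000) (nat_lit 1000) = true := by decide +kernel
theorem chkF_2076000 : allRangeF (checkFactF cert) (nat_lit 2076000) (nat_lit 1000) = true := by decide +kernel
theorem chkF_2077000 : allRangeF (checkFactF cert) (nat_lit 2077000) (nat_lit 1000) = true := by decide +kernel
theorem chkF_2078000 : allRangeF (checkFactF cert) (nat_lit 2078000) (nat_lit 1000) = true := by decide +kernel

theorem factsRange_20 : ∀ i, 1980000 ≤ i → i < 2079000 → checkFact cert i = true := by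
  intro i hlo hhi
  rcases Nat.lt_or_ge i 2029000 with h1 | h1
  · skip
    rcases Nat.lt_or_ge i 2004000 with h2 | h2
    · skip
      rcases Nat.lt_or_ge i 1992000 with h3 | h3
      · skip
        rcases Nat.lt_or_ge i 1986000 with h4 | h4
        · skip
          rcases Nat.lt_or_ge i 1983000 with h5 | h5
          · skip
            rcases Nat.lt_or_ge i 1981000 with h6 | h6
            · skip
              exact allRangeF_sound _ _ (checkFactF_eq cert) 1980000 1000 chkF_1980000 i (by omega) (by omega)
            · skip
              rcases Nat.lt_or_ge i 1982000 with h7 | h7
              · skip
                exact allRangeF_sound _ _ (checkFactF_eq cert) 1981000 1000 chkF_1981000 i (by omega) (by omega)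
              · skip
                exact allRangeF_sound _ _ (checkFactF_eq cert) 1982000 1000 chkF_1982000 i (by omega) (by omega)
          · skip
            rcases Nat.lt_or_ge i 1984000 with h6 | h6
            · skip
              exact allRangeF_sound _ _ (checkFactF_eq cert) 1983000 1000 chkF_1983000 i (by omega) (by omega)
            · skip
              rcases Nat.lt_or_ge i 1985000 with h7 | h7
              · skip
                exact allRangeF_sound _ _ (checkFactF_eq cert) 1984000 1000 chkF_1984000 i (by omega) (by omega)
              · skip
                exact allRangeF_sound _ _ (checkFactF_eq cert) 1985000 1000 chkF_1985000 i (by omega) (by omega)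
        · skip
          rcases Nat.lt_or_ge i 1989000 with h5 | h5
          · skip
            rcases Nat.lt_or_ge i 1987000 with h6 | h6
            · skip
              exact allRangeF_sound _ _ (checkFactF_eq cert) 1986000 1000 chkF_1986000 i (by omega) (by omega)
            · skip
              rcases Nat.lt_or_ge i 1988000 with h7 | h7
              · skip
                exact allRangeF_sound _ _ (checkFactF_eq cert) 1987000 1000 chkF_1987000 i (by omega) (by omega)
              · skip
                exact allRangeF_sound _ _ (checkFactF_eq cert) 1988000 1000 chkF_1988000 i (by omega) (by omega)
          · skip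
            rcases Nat.lt_or_ge i 1990000 with h6 | h6
            · skip
              exact allRangeF_sound _ _ (checkFactF_eq cert) 1989000 1000 chkF_1989000 i (by omega) (by omega)
            · skip
              rcases Nat.lt_or_ge i 1991000 with h7 | h7
              · skip
                exact allRangeF_sound _ _ (checkFactF_eq cert) 1990000 1000 chkF_1990000 i (by omega) (by omega)
              · skip
                exact allRangeF_sound _ _ (checkFactF_eq cert) 1991000 1000 chkF_1991000 i (by omega) (by omega)
      · skip
        rcases Nat.lt_or_ge i 1998000 with h4 | h4
        · skip
          rcases Nat.lt_or_ge i 1995000 with h5 | h5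
          · skip
            rcases Nat.lt_or_ge i 1993000 with h6 | h6
            · skip
              exact allRangeF_sound _ _ (checkFactF_eq cert) 1992000 1000 chkF_1992000 i (by omega) (by omega)
            · skip
              rcases Nat.lt_or_ge i 1994000 with h7 | h7
              · skip
                exact allRangeF_sound _ _ (checkFactF_eq cert) 1993000 1000 chkF_1993000 i (by omega) (by omega)
              · skip
                exact allRangeF_sound _ _ (checkFactF_eq cert) 1994000 1000 chkF_1994000 i (by omega) (by omega)
          · skip
            rcases Nat.lt_or_ge i 1996000 with h6 | h6
            · skip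
              exact allRangeF_sound _ _ (checkFactF_eq cert) 1995000 1000 chkF_1995000 i (by omega) (by omega)
            · skip
              rcases Nat.lt_or_ge i 1997000 with h7 | h7
              · skip
                exact allRangeF_sound _ _ (checkFactF_eq cert) 1996000 1000 chkF_1996000 i (by omega) (by omega)
              · skip
                exact allRangeF_sound _ _ (checkFactF_eq cert) 1997000 1000 chkF_1997000 i (by omega) (by omega)
        · skip
          rcases Nat.lt_or_ge i 2001000 with h5 | h5
          · skip
            rcases Nat.lt_or_ge i 1999000 with h6 | h6
            · skip
              exact allRangeF_sound _ _ (checkFactF_eq cert) 1998000 1000 chkF_1998000 i (by omega) (by omega)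
            · skip
              rcases Nat.lt_or_ge i 2000000 with h7 | h7
              · skip
                exact allRangeF_sound _ _ (checkFactF_eq cert) 1999000 1000 chkF_1999000 i (by omega) (by omega)
              · skip
                exact allRangeF_sound _ _ (checkFactF_eq cert) 2000000 1000 chkF_2000000 i (by omega) (by omega)
          · skip
            rcases Nat.lt_or_ge i 2002000 with h6 | h6
            · skip
              exact allRangeF_sound _ _ (checkFactF_eq cert) 2001000 1000 chkF_2001000 i (by omega) (by omega)
            · skip
              rcases Nat.lt_or_ge i 2003000 with h7 | h7
              · skip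
                exact allRangeF_sound _ _ (checkFactF_eq cert) 2002000 1000 chkF_2002000 i (by omega) (by omega)
              · skip
                exact allRangeF_sound _ _ (checkFactF_eq cert) 2003000 1000 chkF_2003000 i (by omega) (by omega)
    · skip
      rcases Nat.lt_or_ge i 2016000 with h3 | h3
      · skip
        rcases Nat.lt_or_ge i 2010000 with h4 | h4
        · skip
          rcases Nat.lt_or_ge i 2007000 with h5 | h5
          · skip
            rcases Nat.lt_or_ge i 2005000 with h6 | h6
            · skip
              exact allRangeF_sound _ _ (checkFactF_eq cert) 2004000 1000 chkF_2004000 i (by omega) (by omega)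
            · skip
              rcases Nat.lt_or_ge i 2006000 with h7 | h7
              · skip
                exact allRangeF_sound _ _ (checkFactF_eq cert) 2005000 1000 chkF_2005000 i (by omega) (by omega)
              · skip
                exact allRangeF_sound _ _ (checkFactF_eq cert) 2006000 1000 chkF_2006000 i (by omega) (by omega)
          · skip
            rcases Nat.lt_or_ge i 2008000 with h6 | h6
            · skip
              exact allRangeF_sound _ _ (checkFactF_eq cert) 2007000 1000 chkF_2007000 i (by omega) (by omega)
            · skip
              rcases Nat.lt_or_ge i 2009000 with h7 | h7
              · skip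
                exact allRangeF_sound _ _ (checkFactF_eq cert) 2008000 1000 chkF_2008000 i (by omega) (by omega)
              · skip
                exact allRangeF_sound _ _ (checkFactF_eq cert) 2009000 1000 chkF_2009000 i (by omega) (by omega)
        · skip
          rcases Nat.lt_or_ge i 2013000 with h5 | h5
          · skip
            rcases Nat.lt_or_ge i 2011000 with h6 | h6
            · skip
              exact allRangeF_sound _ _ (checkFactF_eq cert) 2010000 1000 chkF_2010000 i (by omega) (by omega)
            · skip
              rcases Nat.lt_or_ge i 2012000 with h7 | h7
              · skip
                exact allRangeF_sound _ _ (checkFactF_eq cert) 2011000 1000 chkF_2011000 i (by omega) (by omega)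
              · skip
                exact allRangeF_sound _ _ (checkFactF_eq cert) 2012000 1000 chkF_2012000 i (by omega) (by omega)
          · skip
            rcases Nat.lt_or_ge i 2014000 with h6 | h6
            · skip
              exact allRangeF_sound _ _ (checkFactF_eq cert) 2013000 1000 chkF_2013000 i (by omega) (by omega)
            · skip
              rcases Nat.lt_or_ge i 2015000 with h7 | h7
              · skip
                exact allRangeF_sound _ _ (checkFactF_eq cert) 2014000 1000 chkF_2014000 i (by omega) (by omega)
              · skip
                exact allRangeF_sound _ _ (checkFactF_eq cert) 2015000 1000 chkF_2015000 i (by omega) (by omega)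
      · skip
        rcases Nat.lt_or_ge i 2022000 with h4 | h4
        · skip
          rcases Nat.lt_or_ge i 2019000 with h5 | h5
          · skip
            rcases Nat.lt_or_ge i 2017000 with h6 | h6
            · skip
              exact allRangeF_sound _ _ (checkFactF_eq cert) 2016000 1000 chkF_2016000 i (by omega) (by omega)
            · skip
              rcases Nat.lt_or_ge i 2018000 with h7 | h7
              · skip
                exact allRangeF_sound _ _ (checkFactF_eq cert) 2017000 1000 chkF_2017000 i (by omega) (by omega)
              · skip
                exact allRangeF_sound _ _ (checkFactF_eq cert) 2018000 1000 chkF_2018000 i (by omega) (by omega)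
          · skip
            rcases Nat.lt_or_ge i 2020000 with h6 | h6
            · skip
              exact allRangeF_sound _ _ (checkFactF_eq cert) 2019000 1000 chkF_2019000 i (by omega) (by omega)
            · skip
              rcases Nat.lt_or_ge i 2021000 with h7 | h7
              · skip
                exact allRangeF_sound _ _ (checkFactF_eq cert) 2020000 1000 chkF_2020000 i (by omega) (by omega)
              · skip
                exact allRangeF_sound _ _ (checkFactF_eq cert) 2021000 1000 chkF_2021000 i (by omega) (by omega)
        · skip
          rcases Nat.lt_or_ge i 2025000 with h5 | h5
          · skip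
            rcases Nat.lt_or_ge i 2023000 with h6 | h6
            · skip
              exact allRangeF_sound _ _ (checkFactF_eq cert) 2022000 1000 chkF_2022000 i (by omega) (by omega)
            · skip
              rcases Nat.lt_or_ge i 2024000 with h7 | h7
              · skip
                exact allRangeF_sound _ _ (checkFactF_eq cert) 2023000 1000 chkF_2023000 i (by omega) (by omega)
              · skip
                exact allRangeF_sound _ _ (checkFactF_eq cert) 2024000 1000 chkF_2024000 i (by omega) (by omega)
          · skip
            rcases Nat.lt_or_ge i 2027000 with h6 | h6
            · skip
              rcases Nat.lt_or_ge i 2026000 with h7 | h7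
              · skip
                exact allRangeF_sound _ _ (checkFactF_eq cert) 2025000 1000 chkF_2025000 i (by omega) (by omega)
              · skip
                exact allRangeF_sound _ _ (checkFactF_eq cert) 2026000 1000 chkF_2026000 i (by omega) (by omega)
            · skip
              rcases Nat.lt_or_ge i 2028000 with h7 | h7
              · skip
                exact allRangeF_sound _ _ (checkFactF_eq cert) 2027000 1000 chkF_2027000 i (by omega) (by omega)
              · skip
                exact allRangeF_sound _ _ (checkFactF_eq cert) 2028000 1000 chkF_2028000 i (by omega) (by omega)
  · skip
    rcases Nat.lt_or_ge i 2054000 with h2 | h2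
    · skip
      rcases Nat.lt_or_ge i 2041000 with h3 | h3
      · skip
        rcases Nat.lt_or_ge i 2035000 with h4 | h4
        · skip
          rcases Nat.lt_or_ge i 2032000 with h5 | h5
          · skip
            rcases Nat.lt_or_ge i 2030000 with h6 | h6
            · skip
              exact allRangeF_sound _ _ (checkFactF_eq cert) 2029000 1000 chkF_2029000 i (by omega) (by omega)
            · skip
              rcases Nat.lt_or_ge i 2031000 with h7 | h7
              · skip
                exact allRangeF_sound _ _ (checkFactF_eq cert) 2030000 1000 chkF_2030000 i (by omega) (by omega)
              · skip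
                exact allRangeF_sound _ _ (checkFactF_eq cert) 2031000 1000 chkF_2031000 i (by omega) (by omega)
          · skip
            rcases Nat.lt_or_ge i 2033000 with h6 | h6
            · skip
              exact allRangeF_sound _ _ (checkFactF_eq cert) 2032000 1000 chkF_2032000 i (by omega) (by omega)
            · skip
              rcases Nat.lt_or_ge i 2034000 with h7 | h7
              · skip
                exact allRangeF_sound _ _ (checkFactF_eq cert) 2033000 1000 chkF_2033000 i (by omega) (by omega)
              · skip
                exact allRangeF_sound _ _ (checkFactF_eq cert) 2034000 1000 chkF_2034000 i (by omega) (by omega)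
        · skip
          rcases Nat.lt_or_ge i 2038000 with h5 | h5
          · skip
            rcases Nat.lt_or_ge i 2036000 with h6 | h6
            · skip
              exact allRangeF_sound _ _ (checkFactF_eq cert) 2035000 1000 chkF_2035000 i (by omega) (by omega)
            · skip
              rcases Nat.lt_or_ge i 2037000 with h7 | h7
              · skip
                exact allRangeF_sound _ _ (checkFactF_eq cert) 2036000 1000 chkF_2036000 i (by omega) (by omega)
              · skip
                exact allRangeF_sound _ _ (checkFactF_eq cert) 2037000 1000 chkF_2037000 i (by omega) (by omega)
          · skip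
            rcases Nat.lt_or_ge i 2039000 with h6 | h6
            · skip
              exact allRangeF_sound _ _ (checkFactF_eq cert) 2038000 1000 chkF_2038000 i (by omega) (by omega)
            · skip
              rcases Nat.lt_or_ge i 2040000 with h7 | h7
              · skip
                exact allRangeF_sound _ _ (checkFactF_eq cert) 2039000 1000 chkF_2039000 i (by omega) (by omega)
              · skip
                exact allRangeF_sound _ _ (checkFactF_eq cert) 2040000 1000 chkF_2040000 i (by omega) (by omega)
      · skip
        rcases Nat.lt_or_ge i 2047000 with h4 | h4
        · skip
          rcases Nat.lt_or_ge i 2044000 with h5 | h5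
          · skip
            rcases Nat.lt_or_ge i 2042000 with h6 | h6
            · skip
              exact allRangeF_sound _ _ (checkFactF_eq cert) 2041000 1000 chkF_2041000 i (by omega) (by omega)
            · skip
              rcases Nat.lt_or_ge i 2043000 with h7 | h7
              · skip
                exact allRangeF_sound _ _ (checkFactF_eq cert) 2042000 1000 chkF_2042000 i (by omega) (by omega)
              · skip
                exact allRangeF_sound _ _ (checkFactF_eq cert) 2043000 1000 chkF_2043000 i (by omega) (by omega)
          · skip
            rcases Nat.lt_or_ge i 2045000 with h6 | h6
            · skip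
              exact allRangeF_sound _ _ (checkFactF_eq cert) 2044000 1000 chkF_2044000 i (by omega) (by omega)
            · skip
              rcases Nat.lt_or_ge i 2046000 with h7 | h7
              · skip
                exact allRangeF_sound _ _ (checkFactF_eq cert) 2045000 1000 chkF_2045000 i (by omega) (by omega)
              · skip
                exact allRangeF_sound _ _ (checkFactF_eq cert) 2046000 1000 chkF_2046000 i (by omega) (by omega)
        · skip
          rcases Nat.lt_or_ge i 2050000 with h5 | h5
          · skip
            rcases Nat.lt_or_ge i 2048000 with h6 | h6
            · skip
              exact allRangeF_sound _ _ (checkFactF_eq cert) 2047000 1000 chkF_2047000 i (by omega) (by omega)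
            · skip
              rcases Nat.lt_or_ge i 2049000 with h7 | h7
              · skip
                exact allRangeF_sound _ _ (checkFactF_eq cert) 2048000 1000 chkF_2048000 i (by omega) (by omega)
              · skip
                exact allRangeF_sound _ _ (checkFactF_eq cert) 2049000 1000 chkF_2049000 i (by omega) (by omega)
          · skip
            rcases Nat.lt_or_ge i 2052000 with h6 | h6
            · skip
              rcases Nat.lt_or_ge i 2051000 with h7 | h7
              · skip
                exact allRangeF_sound _ _ (checkFactF_eq cert) 2050000 1000 chkF_2050000 i (by omega) (by omega)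
              · skip
                exact allRangeF_sound _ _ (checkFactF_eq cert) 2051000 1000 chkF_2051000 i (by omega) (by omega)
            · skip
              rcases Nat.lt_or_ge i 2053000 with h7 | h7
              · skip
                exact allRangeF_sound _ _ (checkFactF_eq cert) 2052000 1000 chkF_2052000 i (by omega) (by omega)
              · skip
                exact allRangeF_sound _ _ (checkFactF_eq cert) 2053000 1000 chkF_2053000 i (by omega) (by omega)
    · skip
      rcases Nat.lt_or_ge i 2066000 with h3 | h3
      · skip
        rcases Nat.lt_or_ge i 2060000 with h4 | h4
        · skip
          rcases Nat.lt_or_ge i 2057000 with h5 | h5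
          · skip
            rcases Nat.lt_or_ge i 2055000 with h6 | h6
            · skip
              exact allRangeF_sound _ _ (checkFactF_eq cert) 2054000 1000 chkF_2054000 i (by omega) (by omega)
            · skip
              rcases Nat.lt_or_ge i 2056000 with h7 | h7
              · skip
                exact allRangeF_sound _ _ (checkFactF_eq cert) 2055000 1000 chkF_2055000 i (by omega) (by omega)
              · skip
                exact allRangeF_sound _ _ (checkFactF_eq cert) 2056000 1000 chkF_2056000 i (by omega) (by omega)
          · skip
            rcases Nat.lt_or_ge i 2058000 with h6 | h6
            · skip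
              exact allRangeF_sound _ _ (checkFactF_eq cert) 2057000 1000 chkF_2057000 i (by omega) (by omega)
            · skip
              rcases Nat.lt_or_ge i 2059000 with h7 | h7
              · skip
                exact allRangeF_sound _ _ (checkFactF_eq cert) 2058000 1000 chkF_2058000 i (by omega) (by omega)
              · skip
                exact allRangeF_sound _ _ (checkFactF_eq cert) 2059000 1000 chkF_2059000 i (by omega) (by omega)
        · skip
          rcases Nat.lt_or_ge i 2063000 with h5 | h5
          · skip
            rcases Nat.lt_or_ge i 2061000 with h6 | h6
            · skip
              exact allRangeF_sound _ _ (checkFactF_eq cert) 2060000 1000 chkF_2060000 i (by omega) (by omega)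
            · skip
              rcases Nat.lt_or_ge i 2062000 with h7 | h7
              · skip
                exact allRangeF_sound _ _ (checkFactF_eq cert) 2061000 1000 chkF_2061000 i (by omega) (by omega)
              · skip
                exact allRangeF_sound _ _ (checkFactF_eq cert) 2062000 1000 chkF_2062000 i (by omega) (by omega)
          · skip
            rcases Nat.lt_or_ge i 2064000 with h6 | h6
            · skip
              exact allRangeF_sound _ _ (checkFactF_eq cert) 2063000 1000 chkF_2063000 i (by omega) (by omega)
            · skip
              rcases Nat.lt_or_ge i 2065000 with h7 | h7
              · skip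
                exact allRangeF_sound _ _ (checkFactF_eq cert) 2064000 1000 chkF_2064000 i (by omega) (by omega)
              · skip
                exact allRangeF_sound _ _ (checkFactF_eq cert) 2065000 1000 chkF_2065000 i (by omega) (by omega)
      · skip
        rcases Nat.lt_or_ge i 2072000 with h4 | h4
        · skip
          rcases Nat.lt_or_ge i 2069000 with h5 | h5
          · skip
            rcases Nat.lt_or_ge i 2067000 with h6 | h6
            · skip
              exact allRangeF_sound _ _ (checkFactF_eq cert) 2066000 1000 chkF_2066000 i (by omega) (by omega)
            · skip
              rcases Nat.lt_or_ge i 2068000 with h7 | h7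
              · skip
                exact allRangeF_sound _ _ (checkFactF_eq cert) 2067000 1000 chkF_2067000 i (by omega) (by omega)
              · skip
                exact allRangeF_sound _ _ (checkFactF_eq cert) 2068000 1000 chkF_2068000 i (by omega) (by omega)
          · skip
            rcases Nat.lt_or_ge i 2070000 with h6 | h6
            · skip
              exact allRangeF_sound _ _ (checkFactF_eq cert) 2069000 1000 chkF_2069000 i (by omega) (by omega)
            · skip
              rcases Nat.lt_or_ge i 2071000 with h7 | h7
              · skip
                exact allRangeF_sound _ _ (checkFactF_eq cert) 2070000 1000 chkF_2070000 i (by omega) (by omega)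
              · skip
                exact allRangeF_sound _ _ (checkFactF_eq cert) 2071000 1000 chkF_2071000 i (by omega) (by omega)
        · skip
          rcases Nat.lt_or_ge i 2075000 with h5 | h5
          · skip
            rcases Nat.lt_or_ge i 2073000 with h6 | h6
            · skip
              exact allRangeF_sound _ _ (checkFactF_eq cert) 2072000 1000 chkF_2072000 i (by omega) (by omega)
            · skip
              rcases Nat.lt_or_ge i 2074000 with h7 | h7
              · skip
                exact allRangeF_sound _ _ (checkFactF_eq cert) 2073000 1000 chkF_2073000 i (by omega) (by omega)
              · skip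
                exact allRangeF_sound _ _ (checkFactF_eq cert) 2074000 1000 chkF_2074000 i (by omega) (by omega)
          · skip
            rcases Nat.lt_or_ge i 2077000 with h6 | h6
            · skip
              rcases Nat.lt_or_ge i 2076000 with h7 | h7
              · skip
                exact allRangeF_sound _ _ (checkFactF_eq cert) 2075000 1000 chkF_2075000 i (by omega) (by omega)
              · skip
                exact allRangeF_sound _ _ (checkFactF_eq cert) 2076000 1000 chkF_2076000 i (by omega) (by omega)
            · skip
              rcases Nat.lt_or_ge i 2078000 with h7 | h7
              · skip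
                exact allRangeF_sound _ _ (checkFactF_eq cert) 2077000 1000 chkF_2077000 i (by omega) (by omega)
              · skip
                exact allRangeF_sound _ _ (checkFactF_eq cert) 2078000 1000 chkF_2078000 i (by omega) (by omega)

end Cfsg.Agent.Lib.Helper28.Fi24Data
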