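import Cfsg.Agent.Lib.Helper28.Fi24Data
import Cfsg.Agent.Lib.Helper28.TCFastFB

set_option autoImplicit false
set_option maxRecDepth 1000000
set_option linter.all false
set_option Elab.async false

namespace Cfsg.Agent.Lib.Helper28.Fi24Data

open Cfsg.Agent.Lib.Helper28B

theorem chkF_2079000 : allRangeF (checkFactF cert) (nat_lit 2079000) (nat_lit 1000) = true := by decide +kernel
theorem chkF_2080000 : allRangeF (checkFactF cert) (nat_lit 2080000) (nat_lit 1000) = true := by decide +kernel
theorem chkF_2081000 : allRangeF (checkFactF cert) (nat_lit 2081000) (nat_lit 1000) = true := by decide +kernel
theorem chkF_2082000 : allRangeF (checkFactF cert) (nat_lit 2082000) (nat_lit 1000) = true := by decide +kernel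
theorem chkF_2083000 : allRangeF (checkFactF cert) (nat_lit 2083000) (nat_lit 1000) = true := by decide +kernel
theorem chkF_2084000 : allRangeF (checkFactF cert) (nat_lit 2084000) (nat_lit 1000) = true := by decide +kernel
theorem chkF_2085000 : allRangeF (checkFactF cert) (nat_lit 2085000) (nat_lit 1000) = true := by decide +kernel
theorem chkF_2086000 : allRangeF (checkFactF cert) (nat_lit 2086000) (nat_lit 1000) = true := by decide +kernel
theorem chkF_2087000 : allRangeF (checkFactF cert) (nat_lit 2087000) (nat_lit 1000) = true := by decide +kernel
theorem chkF_2088000 : allRangeF (checkFactF cert) (nat_lit 2088000) (nat_lit 1000) = true := by decide +kernel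
theorem chkF_2089000 : allRangeF (checkFactF cert) (nat_lit 2089000) (nat_lit 1000) = true := by decide +kernel
theorem chkF_2090000 : allRangeF (checkFactF cert) (nat_lit 2090000) (nat_lit 1000) = true := by decide +kernel
theorem chkF_2091000 : allRangeF (checkFactF cert) (nat_lit 2091000) (nat_lit 1000) = true := by decide +kernel
theorem chkF_2092000 : allRangeF (checkFactF cert) (nat_lit 2092000) (nat_lit 1000) = true := by decide +kernel
theorem chkF_2093000 : allRangeF (checkFactF cert) (nat_lit 2093000) (nat_lit 1000) = true := by decide +kernel
theorem chkF_2094000 : allRangeF (checkFactF cert) (nat_lit 2094000) (nat_lit 1000) = true := by decide +kernel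
theorem chkF_2095000 : allRangeF (checkFactF cert) (nat_lit 2095000) (nat_lit 1000) = true := by decide +kernel
theorem chkF_2096000 : allRangeF (checkFactF cert) (nat_lit 2096000) (nat_lit 1000) = true := by decide +kernel
theorem chkF_2097000 : allRangeF (checkFactF cert) (nat_lit 2097000) (nat_lit 1000) = true := by decide +kernel
theorem chkF_2098000 : allRangeF (checkFactF cert) (nat_lit 2098000) (nat_lit 1000) = true := by decide +kernel
theorem chkF_2099000 : allRangeF (checkFactF cert) (nat_lit 2099000) (nat_lit 1000) = true := by decide +kernel
theorem chkF_2100000 : allRangeF (checkFactF cert) (nat_lit 2100000) (nat_lit 1000) = true := by decide +kernel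
theorem chkF_2101000 : allRangeF (checkFactF cert) (nat_lit 2101000) (nat_lit 1000) = true := by decide +kernel
theorem chkF_2102000 : allRangeF (checkFactF cert) (nat_lit 2102000) (nat_lit 1000) = true := by decide +kernel
theorem chkF_2103000 : allRangeF (checkFactF cert) (nat_lit 2103000) (nat_lit 1000) = true := by decide +kernel
theorem chkF_2104000 : allRangeF (checkFactF cert) (nat_lit 2104000) (nat_lit 1000) = true := by decide +kernel
theorem chkF_2105000 : allRangeF (checkFactF cert) (nat_lit 2105000) (nat_lit 1000) = true := by decide +kernel
theorem chkF_2106000 : allRangeF (checkFactF cert) (nat_lit 2106000) (nat_lit 1000) = true := by decide +kernel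
theorem chkF_2107000 : allRangeF (checkFactF cert) (nat_lit 2107000) (nat_lit 1000) = true := by decide +kernel
theorem chkF_2108000 : allRangeF (checkFactF cert) (nat_lit 2108000) (nat_lit 1000) = true := by decide +kernel
theorem chkF_2109000 : allRangeF (checkFactF cert) (nat_lit 2109000) (nat_lit 1000) = true := by decide +kernel
theorem chkF_2110000 : allRangeF (checkFactF cert) (nat_lit 2110000) (nat_lit 1000) = true := by decide +kernel
theorem chkF_2111000 : allRangeF (checkFactF cert) (nat_lit 2111000) (nat_lit 1000) = true := by decide +kernel
theorem chkF_2112000 : allRangeF (checkFactF cert) (nat_lit 2112000) (nat_lit 1000) = true := by decide +kernel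
theorem chkF_2113000 : allRangeF (checkFactF cert) (nat_lit 2113000) (nat_lit 1000) = true := by decide +kernel
theorem chkF_2114000 : allRangeF (checkFactF cert) (nat_lit 2114000) (nat_lit 1000) = true := by decide +kernel
theorem chkF_2115000 : allRangeF (checkFactF cert) (nat_lit 2115000) (nat_lit 1000) = true := by decide +kernel
theorem chkF_2116000 : allRangeF (checkFactF cert) (nat_lit 2116000) (nat_lit 1000) = true := by decide +kernel
theorem chkF_2117000 : allRangeF (checkFactF cert) (nat_lit 2117000) (nat_lit 1000) = true := by decide +kernel
theorem chkF_2118000 : allRangeF (checkFactF cert) (nat_lit 2118000) (nat_lit 1000) = true := by decide +kernel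
theorem chkF_2119000 : allRangeF (checkFactF cert) (nat_lit 2119000) (nat_lit 1000) = true := by decide +kernel
theorem chkF_2120000 : allRangeF (checkFactF cert) (nat_lit 2120000) (nat_lit 1000) = true := by decide +kernel
theorem chkF_2121000 : allRangeF (checkFactF cert) (nat_lit 2121000) (nat_lit 1000) = true := by decide +kernel
theorem chkF_2122000 : allRangeF (checkFactF cert) (nat_lit 2122000) (nat_lit 1000) = true := by decide +kernel
theorem chkF_2123000 : allRangeF (checkFactF cert) (nat_lit 2123000) (nat_lit 1000) = true := by decide +kernel
theorem chkF_2124000 : allRangeF (checkFactF cert) (nat_lit 2124000) (nat_lit 1000) = true := by decide +kernel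
theorem chkF_2125000 : allRangeF (checkFactF cert) (nat_lit 2125000) (nat_lit 1000) = true := by decide +kernel
theorem chkF_2126000 : allRangeF (checkFactF cert) (nat_lit 2126000) (nat_lit 1000) = true := by decide +kernel
theorem chkF_2127000 : allRangeF (checkFactF cert) (nat_lit 2127000) (nat_lit 1000) = true := by decide +kernel
theorem chkF_2128000 : allRangeF (checkFactF cert) (nat_lit 2128000) (nat_lit 1000) = true := by decide +kernel
theorem chkF_2129000 : allRangeF (checkFactF cert) (nat_lit 2129000) (nat_lit 1000) = true := by decide +kernel
theorem chkF_2130000 : allRangeF (checkFactF cert) (nat_lit 2130000) (nat_lit 1000) = true := by decide +kernel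
theorem chkF_2131000 : allRangeF (checkFactF cert) (nat_lit 2131000) (nat_lit 1000) = true := by decide +kernel
theorem chkF_2132000 : allRangeF (checkFactF cert) (nat_lit 2132000) (nat_lit 1000) = true := by decide +kernel
theorem chkF_2133000 : allRangeF (checkFactF cert) (nat_lit 2133000) (nat_lit 1000) = true := by decide +kernel
theorem chkF_2134000 : allRangeF (checkFactF cert) (nat_lit 2134000) (nat_lit 1000) = true := by decide +kernel
theorem chkF_2135000 : allRangeF (checkFactF cert) (nat_lit 2135000) (nat_lit 1000) = true := by decide +kernel
theorem chkF_2136000 : allRangeF (checkFactF cert) (nat_lit 2136000) (nat_lit 1000) = true := by decide +kernel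
theorem chkF_2137000 : allRangeF (checkFactF cert) (nat_lit 2137000) (nat_lit 1000) = true := by decide +kernel
theorem chkF_2138000 : allRangeF (checkFactF cert) (nat_lit 2138000) (nat_lit 1000) = true := by decide +kernel
theorem chkF_2139000 : allRangeF (checkFactF cert) (nat_lit 2139000) (nat_lit 1000) = true := by decide +kernel
theorem chkF_2140000 : allRangeF (checkFactF cert) (nat_lit 2140000) (nat_lit 1000) = true := by decide +kernel
theorem chkF_2141000 : allRangeF (checkFactF cert) (nat_lit 2141000) (nat_lit 1000) = true := by decide +kernel
theorem chkF_2142000 : allRangeF (checkFactF cert) (nat_lit 2142000) (nat_lit 1000) = true := by decide +kernel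
theorem chkF_2143000 : allRangeF (checkFactF cert) (nat_lit 2143000) (nat_lit 1000) = true := by decide +kernel
theorem chkF_2144000 : allRangeF (checkFactF cert) (nat_lit 2144000) (nat_lit 1000) = true := by decide +kernel
theorem chkF_2145000 : allRangeF (checkFactF cert) (nat_lit 2145000) (nat_lit 1000) = true := by decide +kernel
theorem chkF_2146000 : allRangeF (checkFactF cert) (nat_lit 2146000) (nat_lit 1000) = true := by decide +kernel
theorem chkF_2147000 : allRangeF (checkFactF cert) (nat_lit 2147000) (nat_lit 1000) = true := by decide +kernel
theorem chkF_2148000 : allRangeF (checkFactF cert) (nat_lit 2148000) (nat_lit 1000) = true := by decide +kernel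
theorem chkF_2149000 : allRangeF (checkFactF cert) (nat_lit 2149000) (nat_lit 1000) = true := by decide +kernel
theorem chkF_2150000 : allRangeF (checkFactF cert) (nat_lit 2150000) (nat_lit 1000) = true := by decide +kernel
theorem chkF_2151000 : allRangeF (checkFactF cert) (nat_lit 2151000) (nat_lit 1000) = true := by decide +kernel
theorem chkF_2152000 : allRangeF (checkFactF cert) (nat_lit 2152000) (nat_lit 1000) = true := by decide +kernel
theorem chkF_2153000 : allRangeF (checkFactF cert) (nat_lit 2153000) (nat_lit 1000) = true := by decide +kernel
theorem chkF_2154000 : allRangeF (checkFactF cert) (nat_lit 2154000) (nat_lit 1000) = true := by decide +kernel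
theorem chkF_2155000 : allRangeF (checkFactF cert) (nat_lit 2155000) (nat_lit 1000) = true := by decide +kernel
theorem chkF_2156000 : allRangeF (checkFactF cert) (nat_lit 2156000) (nat_lit 1000) = true := by decide +kernel
theorem chkF_2157000 : allRangeF (checkFactF cert) (nat_lit 2157000) (nat_lit 1000) = true := by decide +kernel
theorem chkF_2158000 : allRangeF (checkFactF cert) (nat_lit 2158000) (nat_lit 1000) = true := by decide +kernel
theorem chkF_2159000 : allRangeF (checkFactF cert) (nat_lit 2159000) (nat_lit 1000) = true := by decide +kernel
theorem chkF_2160000 : allRangeF (checkFactF cert) (nat_lit 2160000) (nat_lit 1000) = true := by decide +kernel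
theorem chkF_2161000 : allRangeF (checkFactF cert) (nat_lit 2161000) (nat_lit 1000) = true := by decide +kernel
theorem chkF_2162000 : allRangeF (checkFactF cert) (nat_lit 2162000) (nat_lit 1000) = true := by decide +kernel
theorem chkF_2163000 : allRangeF (checkFactF cert) (nat_lit 2163000) (nat_lit 1000) = true := by decide +kernel
theorem chkF_2164000 : allRangeF (checkFactF cert) (nat_lit 2164000) (nat_lit 1000) = true := by decide +kernel
theorem chkF_2165000 : allRangeF (checkFactF cert) (nat_lit 2165000) (nat_lit 1000) = true := by decide +kernel
theorem chkF_2166000 : allRangeF (checkFactF cert) (nat_lit 2166000) (nat_lit 1000) = true := by decide +kernel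
theorem chkF_2167000 : allRangeF (checkFactF cert) (nat_lit 2167000) (nat_lit 1000) = true := by decide +kernel
theorem chkF_2168000 : allRangeF (checkFactF cert) (nat_lit 2168000) (nat_lit 1000) = true := by decide +kernel
theorem chkF_2169000 : allRangeF (checkFactF cert) (nat_lit 2169000) (nat_lit 1000) = true := by decide +kernel
theorem chkF_2170000 : allRangeF (checkFactF cert) (nat_lit 2170000) (nat_lit 1000) = true := by decide +kernel
theorem chkF_2171000 : allRangeF (checkFactF cert) (nat_lit 2171000) (nat_lit 1000) = true := by decide +kernel
theorem chkF_2172000 : allRangeF (checkFactF cert) (nat_lit 2172000) (nat_lit 1000) = true := by decide +kernel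
theorem chkF_2173000 : allRangeF (checkFactF cert) (nat_lit 2173000) (nat_lit 1000) = true := by decide +kernel
theorem chkF_2174000 : allRangeF (checkFactF cert) (nat_lit 2174000) (nat_lit 1000) = true := by decide +kernel
theorem chkF_2175000 : allRangeF (checkFactF cert) (nat_lit 2175000) (nat_lit 1000) = true := by decide +kernel
theorem chkF_2176000 : allRangeF (checkFactF cert) (nat_lit 2176000) (nat_lit 1000) = true := by decide +kernel
theorem chkF_2177000 : allRangeF (checkFactF cert) (nat_lit 2177000) (nat_lit 1000) = true := by decide +kernel

theorem factsRange_21 : ∀ i, 2079000 ≤ i → i < 2178000 → checkFact cert i = true := by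
  intro i hlo hhi
  rcases Nat.lt_or_ge i 2128000 with h1 | h1
  · skip
    rcases Nat.lt_or_ge i 2103000 with h2 | h2
    · skip
      rcases Nat.lt_or_ge i 2091000 with h3 | h3
      · skip
        rcases Nat.lt_or_ge i 2085000 with h4 | h4
        · skip
          rcases Nat.lt_or_ge i 2082000 with h5 | h5
          · skip
            rcases Nat.lt_or_ge i 2080000 with h6 | h6
            · skip
              exact allRangeF_sound _ _ (checkFactF_eq cert) 2079000 1000 chkF_2079000 i (by omega) (by omega)
            · skip
              rcases Nat.lt_or_ge i 2081000 with h7 | h7
              · skip
                exact allRangeF_sound _ _ (checkFactF_eq cert) 2080000 1000 chkF_2080000 i (by omega) (by omega)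
              · skip
                exact allRangeF_sound _ _ (checkFactF_eq cert) 2081000 1000 chkF_2081000 i (by omega) (by omega)
          · skip
            rcases Nat.lt_or_ge i 2083000 with h6 | h6
            · skip
              exact allRangeF_sound _ _ (checkFactF_eq cert) 2082000 1000 chkF_2082000 i (by omega) (by omega)
            · skip
              rcases Nat.lt_or_ge i 2084000 with h7 | h7
              · skip
                exact allRangeF_sound _ _ (checkFactF_eq cert) 2083000 1000 chkF_2083000 i (by omega) (by omega)
              · skip
                exact allRangeF_sound _ _ (checkFactF_eq cert) 2084000 1000 chkF_2084000 i (by omega) (by omega)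
        · skip
          rcases Nat.lt_or_ge i 2088000 with h5 | h5
          · skip
            rcases Nat.lt_or_ge i 2086000 with h6 | h6
            · skip
              exact allRangeF_sound _ _ (checkFactF_eq cert) 2085000 1000 chkF_2085000 i (by omega) (by omega)
            · skip
              rcases Nat.lt_or_ge i 2087000 with h7 | h7
              · skip
                exact allRangeF_sound _ _ (checkFactF_eq cert) 2086000 1000 chkF_2086000 i (by omega) (by omega)
              · skip
                exact allRangeF_sound _ _ (checkFactF_eq cert) 2087000 1000 chkF_2087000 i (by omega) (by omega)
          · skip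
            rcases Nat.lt_or_ge i 2089000 with h6 | h6
            · skip
              exact allRangeF_sound _ _ (checkFactF_eq cert) 2088000 1000 chkF_2088000 i (by omega) (by omega)
            · skip
              rcases Nat.lt_or_ge i 2090000 with h7 | h7
              · skip
                exact allRangeF_sound _ _ (checkFactF_eq cert) 2089000 1000 chkF_2089000 i (by omega) (by omega)
              · skip
                exact allRangeF_sound _ _ (checkFactF_eq cert) 2090000 1000 chkF_2090000 i (by omega) (by omega)
      · skip
        rcases Nat.lt_or_ge i 2097000 with h4 | h4
        · skip
          rcases Nat.lt_or_ge i 2094000 with h5 | h5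
          · skip
            rcases Nat.lt_or_ge i 2092000 with h6 | h6
            · skip
              exact allRangeF_sound _ _ (checkFactF_eq cert) 2091000 1000 chkF_2091000 i (by omega) (by omega)
            · skip
              rcases Nat.lt_or_ge i 2093000 with h7 | h7
              · skip
                exact allRangeF_sound _ _ (checkFactF_eq cert) 2092000 1000 chkF_2092000 i (by omega) (by omega)
              · skip
                exact allRangeF_sound _ _ (checkFactF_eq cert) 2093000 1000 chkF_2093000 i (by omega) (by omega)
          · skip
            rcases Nat.lt_or_ge i 2095000 with h6 | h6
            · skip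
              exact allRangeF_sound _ _ (checkFactF_eq cert) 2094000 1000 chkF_2094000 i (by omega) (by omega)
            · skip
              rcases Nat.lt_or_ge i 2096000 with h7 | h7
              · skip
                exact allRangeF_sound _ _ (checkFactF_eq cert) 2095000 1000 chkF_2095000 i (by omega) (by omega)
              · skip
                exact allRangeF_sound _ _ (checkFactF_eq cert) 2096000 1000 chkF_2096000 i (by omega) (by omega)
        · skip
          rcases Nat.lt_or_ge i 2100000 with h5 | h5
          · skip
            rcases Nat.lt_or_ge i 2098000 with h6 | h6
            · skip
              exact allRangeF_sound _ _ (checkFactF_eq cert) 2097000 1000 chkF_2097000 i (by omega) (by omega)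
            · skip
              rcases Nat.lt_or_ge i 2099000 with h7 | h7
              · skip
                exact allRangeF_sound _ _ (checkFactF_eq cert) 2098000 1000 chkF_2098000 i (by omega) (by omega)
              · skip
                exact allRangeF_sound _ _ (checkFactF_eq cert) 2099000 1000 chkF_2099000 i (by omega) (by omega)
          · skip
            rcases Nat.lt_or_ge i 2101000 with h6 | h6
            · skip
              exact allRangeF_sound _ _ (checkFactF_eq cert) 2100000 1000 chkF_2100000 i (by omega) (by omega)
            · skip
              rcases Nat.lt_or_ge i 2102000 with h7 | h7
              · skip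
                exact allRangeF_sound _ _ (checkFactF_eq cert) 2101000 1000 chkF_2101000 i (by omega) (by omega)
              · skip
                exact allRangeF_sound _ _ (checkFactF_eq cert) 2102000 1000 chkF_2102000 i (by omega) (by omega)
    · skip
      rcases Nat.lt_or_ge i 2115000 with h3 | h3
      · skip
        rcases Nat.lt_or_ge i 2109000 with h4 | h4
        · skip
          rcases Nat.lt_or_ge i 2106000 with h5 | h5
          · skip
            rcases Nat.lt_or_ge i 2104000 with h6 | h6
            · skip
              exact allRangeF_sound _ _ (checkFactF_eq cert) 2103000 1000 chkF_2103000 i (by omega) (by omega)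
            · skip
              rcases Nat.lt_or_ge i 2105000 with h7 | h7
              · skip
                exact allRangeF_sound _ _ (checkFactF_eq cert) 2104000 1000 chkF_2104000 i (by omega) (by omega)
              · skip
                exact allRangeF_sound _ _ (checkFactF_eq cert) 2105000 1000 chkF_2105000 i (by omega) (by omega)
          · skip
            rcases Nat.lt_or_ge i 2107000 with h6 | h6
            · skip
              exact allRangeF_sound _ _ (checkFactF_eq cert) 2106000 1000 chkF_2106000 i (by omega) (by omega)
            · skip
              rcases Nat.lt_or_ge i 2108000 with h7 | h7
              · skip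
                exact allRangeF_sound _ _ (checkFactF_eq cert) 2107000 1000 chkF_2107000 i (by omega) (by omega)
              · skip
                exact allRangeF_sound _ _ (checkFactF_eq cert) 2108000 1000 chkF_2108000 i (by omega) (by omega)
        · skip
          rcases Nat.lt_or_ge i 2112000 with h5 | h5
          · skip
            rcases Nat.lt_or_ge i 2110000 with h6 | h6
            · skip
              exact allRangeF_sound _ _ (checkFactF_eq cert) 2109000 1000 chkF_2109000 i (by omega) (by omega)
            · skip
              rcases Nat.lt_or_ge i 2111000 with h7 | h7
              · skip
                exact allRangeF_sound _ _ (checkFactF_eq cert) 2110000 1000 chkF_2110000 i (by omega) (by omega)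
              · skip
                exact allRangeF_sound _ _ (checkFactF_eq cert) 2111000 1000 chkF_2111000 i (by omega) (by omega)
          · skip
            rcases Nat.lt_or_ge i 2113000 with h6 | h6
            · skip
              exact allRangeF_sound _ _ (checkFactF_eq cert) 2112000 1000 chkF_2112000 i (by omega) (by omega)
            · skip
              rcases Nat.lt_or_ge i 2114000 with h7 | h7
              · skip
                exact allRangeF_sound _ _ (checkFactF_eq cert) 2113000 1000 chkF_2113000 i (by omega) (by omega)
              · skip
                exact allRangeF_sound _ _ (checkFactF_eq cert) 2114000 1000 chkF_2114000 i (by omega) (by omega)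
      · skip
        rcases Nat.lt_or_ge i 2121000 with h4 | h4
        · skip
          rcases Nat.lt_or_ge i 2118000 with h5 | h5
          · skip
            rcases Nat.lt_or_ge i 2116000 with h6 | h6
            · skip
              exact allRangeF_sound _ _ (checkFactF_eq cert) 2115000 1000 chkF_2115000 i (by omega) (by omega)
            · skip
              rcases Nat.lt_or_ge i 2117000 with h7 | h7
              · skip
                exact allRangeF_sound _ _ (checkFactF_eq cert) 2116000 1000 chkF_2116000 i (by omega) (by omega)
              · skip
                exact allRangeF_sound _ _ (checkFactF_eq cert) 2117000 1000 chkF_2117000 i (by omega) (by omega)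
          · skip
            rcases Nat.lt_or_ge i 2119000 with h6 | h6
            · skip
              exact allRangeF_sound _ _ (checkFactF_eq cert) 2118000 1000 chkF_2118000 i (by omega) (by omega)
            · skip
              rcases Nat.lt_or_ge i 2120000 with h7 | h7
              · skip
                exact allRangeF_sound _ _ (checkFactF_eq cert) 2119000 1000 chkF_2119000 i (by omega) (by omega)
              · skip
                exact allRangeF_sound _ _ (checkFactF_eq cert) 2120000 1000 chkF_2120000 i (by omega) (by omega)
        · skip
          rcases Nat.lt_or_ge i 2124000 with h5 | h5
          · skip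
            rcases Nat.lt_or_ge i 2122000 with h6 | h6
            · skip
              exact allRangeF_sound _ _ (checkFactF_eq cert) 2121000 1000 chkF_2121000 i (by omega) (by omega)
            · skip
              rcases Nat.lt_or_ge i 2123000 with h7 | h7
              · skip
                exact allRangeF_sound _ _ (checkFactF_eq cert) 2122000 1000 chkF_2122000 i (by omega) (by omega)
              · skip
                exact allRangeF_sound _ _ (checkFactF_eq cert) 2123000 1000 chkF_2123000 i (by omega) (by omega)
          · skip
            rcases Nat.lt_or_ge i 2126000 with h6 | h6
            · skip
              rcases Nat.lt_or_ge i 2125000 with h7 | h7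
              · skip
                exact allRangeF_sound _ _ (checkFactF_eq cert) 2124000 1000 chkF_2124000 i (by omega) (by omega)
              · skip
                exact allRangeF_sound _ _ (checkFactF_eq cert) 2125000 1000 chkF_2125000 i (by omega) (by omega)
            · skip
              rcases Nat.lt_or_ge i 2127000 with h7 | h7
              · skip
                exact allRangeF_sound _ _ (checkFactF_eq cert) 2126000 1000 chkF_2126000 i (by omega) (by omega)
              · skip
                exact allRangeF_sound _ _ (checkFactF_eq cert) 2127000 1000 chkF_2127000 i (by omega) (by omega)
  · skip
    rcases Nat.lt_or_ge i 2153000 with h2 | h2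
    · skip
      rcases Nat.lt_or_ge i 2140000 with h3 | h3
      · skip
        rcases Nat.lt_or_ge i 2134000 with h4 | h4
        · skip
          rcases Nat.lt_or_ge i 2131000 with h5 | h5
          · skip
            rcases Nat.lt_or_ge i 2129000 with h6 | h6
            · skip
              exact allRangeF_sound _ _ (checkFactF_eq cert) 2128000 1000 chkF_2128000 i (by omega) (by omega)
            · skip
              rcases Nat.lt_or_ge i 2130000 with h7 | h7
              · skip
                exact allRangeF_sound _ _ (checkFactF_eq cert) 2129000 1000 chkF_2129000 i (by omega) (by omega)
              · skip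
                exact allRangeF_sound _ _ (checkFactF_eq cert) 2130000 1000 chkF_2130000 i (by omega) (by omega)
          · skip
            rcases Nat.lt_or_ge i 2132000 with h6 | h6
            · skip
              exact allRangeF_sound _ _ (checkFactF_eq cert) 2131000 1000 chkF_2131000 i (by omega) (by omega)
            · skip
              rcases Nat.lt_or_ge i 2133000 with h7 | h7
              · skip
                exact allRangeF_sound _ _ (checkFactF_eq cert) 2132000 1000 chkF_2132000 i (by omega) (by omega)
              · skip
                exact allRangeF_sound _ _ (checkFactF_eq cert) 2133000 1000 chkF_2133000 i (by omega) (by omega)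
        · skip
          rcases Nat.lt_or_ge i 2137000 with h5 | h5
          · skip
            rcases Nat.lt_or_ge i 2135000 with h6 | h6
            · skip
              exact allRangeF_sound _ _ (checkFactF_eq cert) 2134000 1000 chkF_2134000 i (by omega) (by omega)
            · skip
              rcases Nat.lt_or_ge i 2136000 with h7 | h7
              · skip
                exact allRangeF_sound _ _ (checkFactF_eq cert) 2135000 1000 chkF_2135000 i (by omega) (by omega)
              · skip
                exact allRangeF_sound _ _ (checkFactF_eq cert) 2136000 1000 chkF_2136000 i (by omega) (by omega)
          · skip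
            rcases Nat.lt_or_ge i 2138000 with h6 | h6
            · skip
              exact allRangeF_sound _ _ (checkFactF_eq cert) 2137000 1000 chkF_2137000 i (by omega) (by omega)
            · skip
              rcases Nat.lt_or_ge i 2139000 with h7 | h7
              · skip
                exact allRangeF_sound _ _ (checkFactF_eq cert) 2138000 1000 chkF_2138000 i (by omega) (by omega)
              · skip
                exact allRangeF_sound _ _ (checkFactF_eq cert) 2139000 1000 chkF_2139000 i (by omega) (by omega)
      · skip
        rcases Nat.lt_or_ge i 2146000 with h4 | h4
        · skip
          rcases Nat.lt_or_ge i 2143000 with h5 | h5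
          · skip
            rcases Nat.lt_or_ge i 2141000 with h6 | h6
            · skip
              exact allRangeF_sound _ _ (checkFactF_eq cert) 2140000 1000 chkF_2140000 i (by omega) (by omega)
            · skip
              rcases Nat.lt_or_ge i 2142000 with h7 | h7
              · skip
                exact allRangeF_sound _ _ (checkFactF_eq cert) 2141000 1000 chkF_2141000 i (by omega) (by omega)
              · skip
                exact allRangeF_sound _ _ (checkFactF_eq cert) 2142000 1000 chkF_2142000 i (by omega) (by omega)
          · skip
            rcases Nat.lt_or_ge i 2144000 with h6 | h6
            · skip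
              exact allRangeF_sound _ _ (checkFactF_eq cert) 2143000 1000 chkF_2143000 i (by omega) (by omega)
            · skip
              rcases Nat.lt_or_ge i 2145000 with h7 | h7
              · skip
                exact allRangeF_sound _ _ (checkFactF_eq cert) 2144000 1000 chkF_2144000 i (by omega) (by omega)
              · skip
                exact allRangeF_sound _ _ (checkFactF_eq cert) 2145000 1000 chkF_2145000 i (by omega) (by omega)
        · skip
          rcases Nat.lt_or_ge i 2149000 with h5 | h5
          · skip
            rcases Nat.lt_or_ge i 2147000 with h6 | h6
            · skip
              exact allRangeF_sound _ _ (checkFactF_eq cert) 2146000 1000 chkF_2146000 i (by omega) (by omega)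
            · skip
              rcases Nat.lt_or_ge i 2148000 with h7 | h7
              · skip
                exact allRangeF_sound _ _ (checkFactF_eq cert) 2147000 1000 chkF_2147000 i (by omega) (by omega)
              · skip
                exact allRangeF_sound _ _ (checkFactF_eq cert) 2148000 1000 chkF_2148000 i (by omega) (by omega)
          · skip
            rcases Nat.lt_or_ge i 2151000 with h6 | h6
            · skip
              rcases Nat.lt_or_ge i 2150000 with h7 | h7
              · skip
                exact allRangeF_sound _ _ (checkFactF_eq cert) 2149000 1000 chkF_2149000 i (by omega) (by omega)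
              · skip
                exact allRangeF_sound _ _ (checkFactF_eq cert) 2150000 1000 chkF_2150000 i (by omega) (by omega)
            · skip
              rcases Nat.lt_or_ge i 2152000 with h7 | h7
              · skip
                exact allRangeF_sound _ _ (checkFactF_eq cert) 2151000 1000 chkF_2151000 i (by omega) (by omega)
              · skip
                exact allRangeF_sound _ _ (checkFactF_eq cert) 2152000 1000 chkF_2152000 i (by omega) (by omega)
    · skip
      rcases Nat.lt_or_ge i 2165000 with h3 | h3
      · skip
        rcases Nat.lt_or_ge i 2159000 with h4 | h4
        · skip
          rcases Nat.lt_or_ge i 2156000 with h5 | h5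
          · skip
            rcases Nat.lt_or_ge i 2154000 with h6 | h6
            · skip
              exact allRangeF_sound _ _ (checkFactF_eq cert) 2153000 1000 chkF_2153000 i (by omega) (by omega)
            · skip
              rcases Nat.lt_or_ge i 2155000 with h7 | h7
              · skip
                exact allRangeF_sound _ _ (checkFactF_eq cert) 2154000 1000 chkF_2154000 i (by omega) (by omega)
              · skip
                exact allRangeF_sound _ _ (checkFactF_eq cert) 2155000 1000 chkF_2155000 i (by omega) (by omega)
          · skip
            rcases Nat.lt_or_ge i 2157000 with h6 | h6
            · skip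
              exact allRangeF_sound _ _ (checkFactF_eq cert) 2156000 1000 chkF_2156000 i (by omega) (by omega)
            · skip
              rcases Nat.lt_or_ge i 2158000 with h7 | h7
              · skip
                exact allRangeF_sound _ _ (checkFactF_eq cert) 2157000 1000 chkF_2157000 i (by omega) (by omega)
              · skip
                exact allRangeF_sound _ _ (checkFactF_eq cert) 2158000 1000 chkF_2158000 i (by omega) (by omega)
        · skip
          rcases Nat.lt_or_ge i 2162000 with h5 | h5
          · skip
            rcases Nat.lt_or_ge i 2160000 with h6 | h6
            · skip
              exact allRangeF_sound _ _ (checkFactF_eq cert) 2159000 1000 chkF_2159000 i (by omega) (by omega)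
            · skip
              rcases Nat.lt_or_ge i 2161000 with h7 | h7
              · skip
                exact allRangeF_sound _ _ (checkFactF_eq cert) 2160000 1000 chkF_2160000 i (by omega) (by omega)
              · skip
                exact allRangeF_sound _ _ (checkFactF_eq cert) 2161000 1000 chkF_2161000 i (by omega) (by omega)
          · skip
            rcases Nat.lt_or_ge i 2163000 with h6 | h6
            · skip
              exact allRangeF_sound _ _ (checkFactF_eq cert) 2162000 1000 chkF_2162000 i (by omega) (by omega)
            · skip
              rcases Nat.lt_or_ge i 2164000 with h7 | h7
              · skip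
                exact allRangeF_sound _ _ (checkFactF_eq cert) 2163000 1000 chkF_2163000 i (by omega) (by omega)
              · skip
                exact allRangeF_sound _ _ (checkFactF_eq cert) 2164000 1000 chkF_2164000 i (by omega) (by omega)
      · skip
        rcases Nat.lt_or_ge i 2171000 with h4 | h4
        · skip
          rcases Nat.lt_or_ge i 2168000 with h5 | h5
          · skip
            rcases Nat.lt_or_ge i 2166000 with h6 | h6
            · skip
              exact allRangeF_sound _ _ (checkFactF_eq cert) 2165000 1000 chkF_2165000 i (by omega) (by omega)
            · skip
              rcases Nat.lt_or_ge i 2167000 with h7 | h7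
              · skip
                exact allRangeF_sound _ _ (checkFactF_eq cert) 2166000 1000 chkF_2166000 i (by omega) (by omega)
              · skip
                exact allRangeF_sound _ _ (checkFactF_eq cert) 2167000 1000 chkF_2167000 i (by omega) (by omega)
          · skip
            rcases Nat.lt_or_ge i 2169000 with h6 | h6
            · skip
              exact allRangeF_sound _ _ (checkFactF_eq cert) 2168000 1000 chkF_2168000 i (by omega) (by omega)
            · skip
              rcases Nat.lt_or_ge i 2170000 with h7 | h7
              · skip
                exact allRangeF_sound _ _ (checkFactF_eq cert) 2169000 1000 chkF_2169000 i (by omega) (by omega)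
              · skip
                exact allRangeF_sound _ _ (checkFactF_eq cert) 2170000 1000 chkF_2170000 i (by omega) (by omega)
        · skip
          rcases Nat.lt_or_ge i 2174000 with h5 | h5
          · skip
            rcases Nat.lt_or_ge i 2172000 with h6 | h6
            · skip
              exact allRangeF_sound _ _ (checkFactF_eq cert) 2171000 1000 chkF_2171000 i (by omega) (by omega)
            · skip
              rcases Nat.lt_or_ge i 2173000 with h7 | h7
              · skip
                exact allRangeF_sound _ _ (checkFactF_eq cert) 2172000 1000 chkF_2172000 i (by omega) (by omega)
              · skip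
                exact allRangeF_sound _ _ (checkFactF_eq cert) 2173000 1000 chkF_2173000 i (by omega) (by omega)
          · skip
            rcases Nat.lt_or_ge i 2176000 with h6 | h6
            · skip
              rcases Nat.lt_or_ge i 2175000 with h7 | h7
              · skip
                exact allRangeF_sound _ _ (checkFactF_eq cert) 2174000 1000 chkF_2174000 i (by omega) (by omega)
              · skip
                exact allRangeF_sound _ _ (checkFactF_eq cert) 2175000 1000 chkF_2175000 i (by omega) (by omega)
            · skip
              rcases Nat.lt_or_ge i 2177000 with h7 | h7
              · skip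
                exact allRangeF_sound _ _ (checkFactF_eq cert) 2176000 1000 chkF_2176000 i (by omega) (by omega)
              · skip
                exact allRangeF_sound _ _ (checkFactF_eq cert) 2177000 1000 chkF_2177000 i (by omega) (by omega)

end Cfsg.Agent.Lib.Helper28.Fi24Data
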