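import Cfsg.Agent.Lib.Helper28.Fi24Data
import Cfsg.Agent.Lib.Helper28.TCFastFB

set_option autoImplicit false
set_option maxRecDepth 1000000
set_option linter.all false
set_option Elab.async false

namespace Cfsg.Agent.Lib.Helper28.Fi24Data

open Cfsg.Agent.Lib.Helper28B

theorem chkF_2178000 : allRangeF (checkFactF cert) (nat_lit 2178000) (nat_lit 1000) = true := by decide +kernel
theorem chkF_2179000 : allRangeF (checkFactF cert) (nat_lit 2179000) (nat_lit 1000) = true := by decide +kernel
theorem chkF_2180000 : allRangeF (checkFactF cert) (nat_lit 2180000) (nat_lit 1000) = true := by decide +kernel
theorem chkF_2181000 : allRangeF (checkFactF cert) (nat_lit 2181000) (nat_lit 1000) = true := by decide +kernel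
theorem chkF_2182000 : allRangeF (checkFactF cert) (nat_lit 2182000) (nat_lit 1000) = true := by decide +kernel
theorem chkF_2183000 : allRangeF (checkFactF cert) (nat_lit 2183000) (nat_lit 1000) = true := by decide +kernel
theorem chkF_2184000 : allRangeF (checkFactF cert) (nat_lit 2184000) (nat_lit 1000) = true := by decide +kernel
theorem chkF_2185000 : allRangeF (checkFactF cert) (nat_lit 2185000) (nat_lit 1000) = true := by decide +kernel
theorem chkF_2186000 : allRangeF (checkFactF cert) (nat_lit 2186000) (nat_lit 1000) = true := by decide +kernel
theorem chkF_2187000 : allRangeF (checkFactF cert) (nat_lit 2187000) (nat_lit 1000) = true := by decide +kernel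
theorem chkF_2188000 : allRangeF (checkFactF cert) (nat_lit 2188000) (nat_lit 1000) = true := by decide +kernel
theorem chkF_2189000 : allRangeF (checkFactF cert) (nat_lit 2189000) (nat_lit 1000) = true := by decide +kernel
theorem chkF_2190000 : allRangeF (checkFactF cert) (nat_lit 2190000) (nat_lit 1000) = true := by decide +kernel
theorem chkF_2191000 : allRangeF (checkFactF cert) (nat_lit 2191000) (nat_lit 1000) = true := by decide +kernel
theorem chkF_2192000 : allRangeF (checkFactF cert) (nat_lit 2192000) (nat_lit 1000) = true := by decide +kernel
theorem chkF_2193000 : allRangeF (checkFactF cert) (nat_lit 2193000) (nat_lit 1000) = true := by decide +kernel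
theorem chkF_2194000 : allRangeF (checkFactF cert) (nat_lit 2194000) (nat_lit 1000) = true := by decide +kernel
theorem chkF_2195000 : allRangeF (checkFactF cert) (nat_lit 2195000) (nat_lit 1000) = true := by decide +kernel
theorem chkF_2196000 : allRangeF (checkFactF cert) (nat_lit 2196000) (nat_lit 1000) = true := by decide +kernel
theorem chkF_2197000 : allRangeF (checkFactF cert) (nat_lit 2197000) (nat_lit 1000) = true := by decide +kernel
theorem chkF_2198000 : allRangeF (checkFactF cert) (nat_lit 2198000) (nat_lit 1000) = true := by decide +kernel
theorem chkF_2199000 : allRangeF (checkFactF cert) (nat_lit 2199000) (nat_lit 1000) = true := by decide +kernel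
theorem chkF_2200000 : allRangeF (checkFactF cert) (nat_lit 2200000) (nat_lit 1000) = true := by decide +kernel
theorem chkF_2201000 : allRangeF (checkFactF cert) (nat_lit 2201000) (nat_lit 1000) = true := by decide +kernel
theorem chkF_2202000 : allRangeF (checkFactF cert) (nat_lit 2202000) (nat_lit 1000) = true := by decide +kernel
theorem chkF_2203000 : allRangeF (checkFactF cert) (nat_lit 2203000) (nat_lit 1000) = true := by decide +kernel
theorem chkF_2204000 : allRangeF (checkFactF cert) (nat_lit 2204000) (nat_lit 1000) = true := by decide +kernel
theorem chkF_2205000 : allRangeF (checkFactF cert) (nat_lit 2205000) (nat_lit 1000) = true := by decide +kernel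
theorem chkF_2206000 : allRangeF (checkFactF cert) (nat_lit 2206000) (nat_lit 1000) = true := by decide +kernel
theorem chkF_2207000 : allRangeF (checkFactF cert) (nat_lit 2207000) (nat_lit 1000) = true := by decide +kernel
theorem chkF_2208000 : allRangeF (checkFactF cert) (nat_lit 2208000) (nat_lit 1000) = true := by decide +kernel
theorem chkF_2209000 : allRangeF (checkFactF cert) (nat_lit 2209000) (nat_lit 1000) = true := by decide +kernel
theorem chkF_2210000 : allRangeF (checkFactF cert) (nat_lit 2210000) (nat_lit 1000) = true := by decide +kernel
theorem chkF_2211000 : allRangeF (checkFactF cert) (nat_lit 2211000) (nat_lit 1000) = true := by decide +kernel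
theorem chkF_2212000 : allRangeF (checkFactF cert) (nat_lit 2212000) (nat_lit 1000) = true := by decide +kernel
theorem chkF_2213000 : allRangeF (checkFactF cert) (nat_lit 2213000) (nat_lit 1000) = true := by decide +kernel
theorem chkF_2214000 : allRangeF (checkFactF cert) (nat_lit 2214000) (nat_lit 1000) = true := by decide +kernel
theorem chkF_2215000 : allRangeF (checkFactF cert) (nat_lit 2215000) (nat_lit 1000) = true := by decide +kernel
theorem chkF_2216000 : allRangeF (checkFactF cert) (nat_lit 2216000) (nat_lit 1000) = true := by decide +kernel
theorem chkF_2217000 : allRangeF (checkFactF cert) (nat_lit 2217000) (nat_lit 1000) = true := by decide +kernel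
theorem chkF_2218000 : allRangeF (checkFactF cert) (nat_lit 2218000) (nat_lit 1000) = true := by decide +kernel
theorem chkF_2219000 : allRangeF (checkFactF cert) (nat_lit 2219000) (nat_lit 1000) = true := by decide +kernel
theorem chkF_2220000 : allRangeF (checkFactF cert) (nat_lit 2220000) (nat_lit 1000) = true := by decide +kernel
theorem chkF_2221000 : allRangeF (checkFactF cert) (nat_lit 2221000) (nat_lit 1000) = true := by decide +kernel
theorem chkF_2222000 : allRangeF (checkFactF cert) (nat_lit 2222000) (nat_lit 1000) = true := by decide +kernel
theorem chkF_2223000 : allRangeF (checkFactF cert) (nat_lit 2223000) (nat_lit 1000) = true := by decide +kernel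
theorem chkF_2224000 : allRangeF (checkFactF cert) (nat_lit 2224000) (nat_lit 1000) = true := by decide +kernel
theorem chkF_2225000 : allRangeF (checkFactF cert) (nat_lit 2225000) (nat_lit 1000) = true := by decide +kernel
theorem chkF_2226000 : allRangeF (checkFactF cert) (nat_lit 2226000) (nat_lit 1000) = true := by decide +kernel
theorem chkF_2227000 : allRangeF (checkFactF cert) (nat_lit 2227000) (nat_lit 1000) = true := by decide +kernel
theorem chkF_2228000 : allRangeF (checkFactF cert) (nat_lit 2228000) (nat_lit 1000) = true := by decide +kernel
theorem chkF_2229000 : allRangeF (checkFactF cert) (nat_lit 2229000) (nat_lit 1000) = true := by decide +kernel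
theorem chkF_2230000 : allRangeF (checkFactF cert) (nat_lit 2230000) (nat_lit 1000) = true := by decide +kernel
theorem chkF_2231000 : allRangeF (checkFactF cert) (nat_lit 2231000) (nat_lit 1000) = true := by decide +kernel
theorem chkF_2232000 : allRangeF (checkFactF cert) (nat_lit 2232000) (nat_lit 1000) = true := by decide +kernel
theorem chkF_2233000 : allRangeF (checkFactF cert) (nat_lit 2233000) (nat_lit 1000) = true := by decide +kernel
theorem chkF_2234000 : allRangeF (checkFactF cert) (nat_lit 2234000) (nat_lit 1000) = true := by decide +kernel
theorem chkF_2235000 : allRangeF (checkFactF cert) (nat_lit 2235000) (nat_lit 1000) = true := by decide +kernel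
theorem chkF_2236000 : allRangeF (checkFactF cert) (nat_lit 2236000) (nat_lit 1000) = true := by decide +kernel
theorem chkF_2237000 : allRangeF (checkFactF cert) (nat_lit 2237000) (nat_lit 1000) = true := by decide +kernel
theorem chkF_2238000 : allRangeF (checkFactF cert) (nat_lit 2238000) (nat_lit 1000) = true := by decide +kernel
theorem chkF_2239000 : allRangeF (checkFactF cert) (nat_lit 2239000) (nat_lit 1000) = true := by decide +kernel
theorem chkF_2240000 : allRangeF (checkFactF cert) (nat_lit 2240000) (nat_lit 1000) = true := by decide +kernel
theorem chkF_2241000 : allRangeF (checkFactF cert) (nat_lit 2241000) (nat_lit 1000) = true := by decide +kernel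
theorem chkF_2242000 : allRangeF (checkFactF cert) (nat_lit 2242000) (nat_lit 1000) = true := by decide +kernel
theorem chkF_2243000 : allRangeF (checkFactF cert) (nat_lit 2243000) (nat_lit 1000) = true := by decide +kernel
theorem chkF_2244000 : allRangeF (checkFactF cert) (nat_lit 2244000) (nat_lit 1000) = true := by decide +kernel
theorem chkF_2245000 : allRangeF (checkFactF cert) (nat_lit 2245000) (nat_lit 1000) = true := by decide +kernel
theorem chkF_2246000 : allRangeF (checkFactF cert) (nat_lit 2246000) (nat_lit 1000) = true := by decide +kernel
theorem chkF_2247000 : allRangeF (checkFactF cert) (nat_lit 2247000) (nat_lit 1000) = true := by decide +kernel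
theorem chkF_2248000 : allRangeF (checkFactF cert) (nat_lit 2248000) (nat_lit 1000) = true := by decide +kernel
theorem chkF_2249000 : allRangeF (checkFactF cert) (nat_lit 2249000) (nat_lit 1000) = true := by decide +kernel
theorem chkF_2250000 : allRangeF (checkFactF cert) (nat_lit 2250000) (nat_lit 1000) = true := by decide +kernel
theorem chkF_2251000 : allRangeF (checkFactF cert) (nat_lit 2251000) (nat_lit 1000) = true := by decide +kernel
theorem chkF_2252000 : allRangeF (checkFactF cert) (nat_lit 2252000) (nat_lit 1000) = true := by decide +kernel
theorem chkF_2253000 : allRangeF (checkFactF cert) (nat_lit 2253000) (nat_lit 1000) = true := by decide +kernel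
theorem chkF_2254000 : allRangeF (checkFactF cert) (nat_lit 2254000) (nat_lit 1000) = true := by decide +kernel
theorem chkF_2255000 : allRangeF (checkFactF cert) (nat_lit 2255000) (nat_lit 1000) = true := by decide +kernel
theorem chkF_2256000 : allRangeF (checkFactF cert) (nat_lit 2256000) (nat_lit 1000) = true := by decide +kernel
theorem chkF_2257000 : allRangeF (checkFactF cert) (nat_lit 2257000) (nat_lit 1000) = true := by decide +kernel
theorem chkF_2258000 : allRangeF (checkFactF cert) (nat_lit 2258000) (nat_lit 1000) = true := by decide +kernel
theorem chkF_2259000 : allRangeF (checkFactF cert) (nat_lit 2259000) (nat_lit 1000) = true := by decide +kernel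
theorem chkF_2260000 : allRangeF (checkFactF cert) (nat_lit 2260000) (nat_lit 1000) = true := by decide +kernel
theorem chkF_2261000 : allRangeF (checkFactF cert) (nat_lit 2261000) (nat_lit 1000) = true := by decide +kernel
theorem chkF_2262000 : allRangeF (checkFactF cert) (nat_lit 2262000) (nat_lit 1000) = true := by decide +kernel
theorem chkF_2263000 : allRangeF (checkFactF cert) (nat_lit 2263000) (nat_lit 1000) = true := by decide +kernel
theorem chkF_2264000 : allRangeF (checkFactF cert) (nat_lit 2264000) (nat_lit 1000) = true := by decide +kernel
theorem chkF_2265000 : allRangeF (checkFactF cert) (nat_lit 2265000) (nat_lit 1000) = true := by decide +kernel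
theorem chkF_2266000 : allRangeF (checkFactF cert) (nat_lit 2266000) (nat_lit 1000) = true := by decide +kernel
theorem chkF_2267000 : allRangeF (checkFactF cert) (nat_lit 2267000) (nat_lit 1000) = true := by decide +kernel
theorem chkF_2268000 : allRangeF (checkFactF cert) (nat_lit 2268000) (nat_lit 1000) = true := by decide +kernel
theorem chkF_2269000 : allRangeF (checkFactF cert) (nat_lit 2269000) (nat_lit 1000) = true := by decide +kernel
theorem chkF_2270000 : allRangeF (checkFactF cert) (nat_lit 2270000) (nat_lit 1000) = true := by decide +kernel
theorem chkF_2271000 : allRangeF (checkFactF cert) (nat_lit 2271000) (nat_lit 1000) = true := by decide +kernel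
theorem chkF_2272000 : allRangeF (checkFactF cert) (nat_lit 2272000) (nat_lit 1000) = true := by decide +kernel
theorem chkF_2273000 : allRangeF (checkFactF cert) (nat_lit 2273000) (nat_lit 1000) = true := by decide +kernel
theorem chkF_2274000 : allRangeF (checkFactF cert) (nat_lit 2274000) (nat_lit 1000) = true := by decide +kernel
theorem chkF_2275000 : allRangeF (checkFactF cert) (nat_lit 2275000) (nat_lit 1000) = true := by decide +kernel
theorem chkF_2276000 : allRangeF (checkFactF cert) (nat_lit 2276000) (nat_lit 1000) = true := by decide +kernel

theorem factsRange_22 : ∀ i, 2178000 ≤ i → i < 2277000 → checkFact cert i = true := by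
  intro i hlo hhi
  rcases Nat.lt_or_ge i 2227000 with h1 | h1
  · skip
    rcases Nat.lt_or_ge i 2202000 with h2 | h2
    · skip
      rcases Nat.lt_or_ge i 2190000 with h3 | h3
      · skip
        rcases Nat.lt_or_ge i 2184000 with h4 | h4
        · skip
          rcases Nat.lt_or_ge i 2181000 with h5 | h5
          · skip
            rcases Nat.lt_or_ge i 2179000 with h6 | h6
            · skip
              exact allRangeF_sound _ _ (checkFactF_eq cert) 2178000 1000 chkF_2178000 i (by omega) (by omega)
            · skip
              rcases Nat.lt_or_ge i 2180000 with h7 | h7
              · skip
                exact allRangeF_sound _ _ (checkFactF_eq cert) 2179000 1000 chkF_2179000 i (by omega) (by omega)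
              · skip
                exact allRangeF_sound _ _ (checkFactF_eq cert) 2180000 1000 chkF_2180000 i (by omega) (by omega)
          · skip
            rcases Nat.lt_or_ge i 2182000 with h6 | h6
            · skip
              exact allRangeF_sound _ _ (checkFactF_eq cert) 2181000 1000 chkF_2181000 i (by omega) (by omega)
            · skip
              rcases Nat.lt_or_ge i 2183000 with h7 | h7
              · skip
                exact allRangeF_sound _ _ (checkFactF_eq cert) 2182000 1000 chkF_2182000 i (by omega) (by omega)
              · skip
                exact allRangeF_sound _ _ (checkFactF_eq cert) 2183000 1000 chkF_2183000 i (by omega) (by omega)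
        · skip
          rcases Nat.lt_or_ge i 2187000 with h5 | h5
          · skip
            rcases Nat.lt_or_ge i 2185000 with h6 | h6
            · skip
              exact allRangeF_sound _ _ (checkFactF_eq cert) 2184000 1000 chkF_2184000 i (by omega) (by omega)
            · skip
              rcases Nat.lt_or_ge i 2186000 with h7 | h7
              · skip
                exact allRangeF_sound _ _ (checkFactF_eq cert) 2185000 1000 chkF_2185000 i (by omega) (by omega)
              · skip
                exact allRangeF_sound _ _ (checkFactF_eq cert) 2186000 1000 chkF_2186000 i (by omega) (by omega)
          · skip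
            rcases Nat.lt_or_ge i 2188000 with h6 | h6
            · skip
              exact allRangeF_sound _ _ (checkFactF_eq cert) 2187000 1000 chkF_2187000 i (by omega) (by omega)
            · skip
              rcases Nat.lt_or_ge i 2189000 with h7 | h7
              · skip
                exact allRangeF_sound _ _ (checkFactF_eq cert) 2188000 1000 chkF_2188000 i (by omega) (by omega)
              · skip
                exact allRangeF_sound _ _ (checkFactF_eq cert) 2189000 1000 chkF_2189000 i (by omega) (by omega)
      · skip
        rcases Nat.lt_or_ge i 2196000 with h4 | h4
        · skip
          rcases Nat.lt_or_ge i 2193000 with h5 | h5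
          · skip
            rcases Nat.lt_or_ge i 2191000 with h6 | h6
            · skip
              exact allRangeF_sound _ _ (checkFactF_eq cert) 2190000 1000 chkF_2190000 i (by omega) (by omega)
            · skip
              rcases Nat.lt_or_ge i 2192000 with h7 | h7
              · skip
                exact allRangeF_sound _ _ (checkFactF_eq cert) 2191000 1000 chkF_2191000 i (by omega) (by omega)
              · skip
                exact allRangeF_sound _ _ (checkFactF_eq cert) 2192000 1000 chkF_2192000 i (by omega) (by omega)
          · skip
            rcases Nat.lt_or_ge i 2194000 with h6 | h6
            · skip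
              exact allRangeF_sound _ _ (checkFactF_eq cert) 2193000 1000 chkF_2193000 i (by omega) (by omega)
            · skip
              rcases Nat.lt_or_ge i 2195000 with h7 | h7
              · skip
                exact allRangeF_sound _ _ (checkFactF_eq cert) 2194000 1000 chkF_2194000 i (by omega) (by omega)
              · skip
                exact allRangeF_sound _ _ (checkFactF_eq cert) 2195000 1000 chkF_2195000 i (by omega) (by omega)
        · skip
          rcases Nat.lt_or_ge i 2199000 with h5 | h5
          · skip
            rcases Nat.lt_or_ge i 2197000 with h6 | h6
            · skip
              exact allRangeF_sound _ _ (checkFactF_eq cert) 2196000 1000 chkF_2196000 i (by omega) (by omega)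
            · skip
              rcases Nat.lt_or_ge i 2198000 with h7 | h7
              · skip
                exact allRangeF_sound _ _ (checkFactF_eq cert) 2197000 1000 chkF_2197000 i (by omega) (by omega)
              · skip
                exact allRangeF_sound _ _ (checkFactF_eq cert) 2198000 1000 chkF_2198000 i (by omega) (by omega)
          · skip
            rcases Nat.lt_or_ge i 2200000 with h6 | h6
            · skip
              exact allRangeF_sound _ _ (checkFactF_eq cert) 2199000 1000 chkF_2199000 i (by omega) (by omega)
            · skip
              rcases Nat.lt_or_ge i 2201000 with h7 | h7
              · skip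
                exact allRangeF_sound _ _ (checkFactF_eq cert) 2200000 1000 chkF_2200000 i (by omega) (by omega)
              · skip
                exact allRangeF_sound _ _ (checkFactF_eq cert) 2201000 1000 chkF_2201000 i (by omega) (by omega)
    · skip
      rcases Nat.lt_or_ge i 2214000 with h3 | h3
      · skip
        rcases Nat.lt_or_ge i 2208000 with h4 | h4
        · skip
          rcases Nat.lt_or_ge i 2205000 with h5 | h5
          · skip
            rcases Nat.lt_or_ge i 2203000 with h6 | h6
            · skip
              exact allRangeF_sound _ _ (checkFactF_eq cert) 2202000 1000 chkF_2202000 i (by omega) (by omega)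
            · skip
              rcases Nat.lt_or_ge i 2204000 with h7 | h7
              · skip
                exact allRangeF_sound _ _ (checkFactF_eq cert) 2203000 1000 chkF_2203000 i (by omega) (by omega)
              · skip
                exact allRangeF_sound _ _ (checkFactF_eq cert) 2204000 1000 chkF_2204000 i (by omega) (by omega)
          · skip
            rcases Nat.lt_or_ge i 2206000 with h6 | h6
            · skip
              exact allRangeF_sound _ _ (checkFactF_eq cert) 2205000 1000 chkF_2205000 i (by omega) (by omega)
            · skip
              rcases Nat.lt_or_ge i 2207000 with h7 | h7
              · skip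
                exact allRangeF_sound _ _ (checkFactF_eq cert) 2206000 1000 chkF_2206000 i (by omega) (by omega)
              · skip
                exact allRangeF_sound _ _ (checkFactF_eq cert) 2207000 1000 chkF_2207000 i (by omega) (by omega)
        · skip
          rcases Nat.lt_or_ge i 2211000 with h5 | h5
          · skip
            rcases Nat.lt_or_ge i 2209000 with h6 | h6
            · skip
              exact allRangeF_sound _ _ (checkFactF_eq cert) 2208000 1000 chkF_2208000 i (by omega) (by omega)
            · skip
              rcases Nat.lt_or_ge i 2210000 with h7 | h7
              · skip
                exact allRangeF_sound _ _ (checkFactF_eq cert) 2209000 1000 chkF_2209000 i (by omega) (by omega)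
              · skip
                exact allRangeF_sound _ _ (checkFactF_eq cert) 2210000 1000 chkF_2210000 i (by omega) (by omega)
          · skip
            rcases Nat.lt_or_ge i 2212000 with h6 | h6
            · skip
              exact allRangeF_sound _ _ (checkFactF_eq cert) 2211000 1000 chkF_2211000 i (by omega) (by omega)
            · skip
              rcases Nat.lt_or_ge i 2213000 with h7 | h7
              · skip
                exact allRangeF_sound _ _ (checkFactF_eq cert) 2212000 1000 chkF_2212000 i (by omega) (by omega)
              · skip
                exact allRangeF_sound _ _ (checkFactF_eq cert) 2213000 1000 chkF_2213000 i (by omega) (by omega)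
      · skip
        rcases Nat.lt_or_ge i 2220000 with h4 | h4
        · skip
          rcases Nat.lt_or_ge i 2217000 with h5 | h5
          · skip
            rcases Nat.lt_or_ge i 2215000 with h6 | h6
            · skip
              exact allRangeF_sound _ _ (checkFactF_eq cert) 2214000 1000 chkF_2214000 i (by omega) (by omega)
            · skip
              rcases Nat.lt_or_ge i 2216000 with h7 | h7
              · skip
                exact allRangeF_sound _ _ (checkFactF_eq cert) 2215000 1000 chkF_2215000 i (by omega) (by omega)
              · skip
                exact allRangeF_sound _ _ (checkFactF_eq cert) 2216000 1000 chkF_2216000 i (by omega) (by omega)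
          · skip
            rcases Nat.lt_or_ge i 2218000 with h6 | h6
            · skip
              exact allRangeF_sound _ _ (checkFactF_eq cert) 2217000 1000 chkF_2217000 i (by omega) (by omega)
            · skip
              rcases Nat.lt_or_ge i 2219000 with h7 | h7
              · skip
                exact allRangeF_sound _ _ (checkFactF_eq cert) 2218000 1000 chkF_2218000 i (by omega) (by omega)
              · skip
                exact allRangeF_sound _ _ (checkFactF_eq cert) 2219000 1000 chkF_2219000 i (by omega) (by omega)
        · skip
          rcases Nat.lt_or_ge i 2223000 with h5 | h5
          · skip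
            rcases Nat.lt_or_ge i 2221000 with h6 | h6
            · skip
              exact allRangeF_sound _ _ (checkFactF_eq cert) 2220000 1000 chkF_2220000 i (by omega) (by omega)
            · skip
              rcases Nat.lt_or_ge i 2222000 with h7 | h7
              · skip
                exact allRangeF_sound _ _ (checkFactF_eq cert) 2221000 1000 chkF_2221000 i (by omega) (by omega)
              · skip
                exact allRangeF_sound _ _ (checkFactF_eq cert) 2222000 1000 chkF_2222000 i (by omega) (by omega)
          · skip
            rcases Nat.lt_or_ge i 2225000 with h6 | h6
            · skip
              rcases Nat.lt_or_ge i 2224000 with h7 | h7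
              · skip
                exact allRangeF_sound _ _ (checkFactF_eq cert) 2223000 1000 chkF_2223000 i (by omega) (by omega)
              · skip
                exact allRangeF_sound _ _ (checkFactF_eq cert) 2224000 1000 chkF_2224000 i (by omega) (by omega)
            · skip
              rcases Nat.lt_or_ge i 2226000 with h7 | h7
              · skip
                exact allRangeF_sound _ _ (checkFactF_eq cert) 2225000 1000 chkF_2225000 i (by omega) (by omega)
              · skip
                exact allRangeF_sound _ _ (checkFactF_eq cert) 2226000 1000 chkF_2226000 i (by omega) (by omega)
  · skip
    rcases Nat.lt_or_ge i 2252000 with h2 | h2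
    · skip
      rcases Nat.lt_or_ge i 2239000 with h3 | h3
      · skip
        rcases Nat.lt_or_ge i 2233000 with h4 | h4
        · skip
          rcases Nat.lt_or_ge i 2230000 with h5 | h5
          · skip
            rcases Nat.lt_or_ge i 2228000 with h6 | h6
            · skip
              exact allRangeF_sound _ _ (checkFactF_eq cert) 2227000 1000 chkF_2227000 i (by omega) (by omega)
            · skip
              rcases Nat.lt_or_ge i 2229000 with h7 | h7
              · skip
                exact allRangeF_sound _ _ (checkFactF_eq cert) 2228000 1000 chkF_2228000 i (by omega) (by omega)
              · skip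
                exact allRangeF_sound _ _ (checkFactF_eq cert) 2229000 1000 chkF_2229000 i (by omega) (by omega)
          · skip
            rcases Nat.lt_or_ge i 2231000 with h6 | h6
            · skip
              exact allRangeF_sound _ _ (checkFactF_eq cert) 2230000 1000 chkF_2230000 i (by omega) (by omega)
            · skip
              rcases Nat.lt_or_ge i 2232000 with h7 | h7
              · skip
                exact allRangeF_sound _ _ (checkFactF_eq cert) 2231000 1000 chkF_2231000 i (by omega) (by omega)
              · skip
                exact allRangeF_sound _ _ (checkFactF_eq cert) 2232000 1000 chkF_2232000 i (by omega) (by omega)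
        · skip
          rcases Nat.lt_or_ge i 2236000 with h5 | h5
          · skip
            rcases Nat.lt_or_ge i 2234000 with h6 | h6
            · skip
              exact allRangeF_sound _ _ (checkFactF_eq cert) 2233000 1000 chkF_2233000 i (by omega) (by omega)
            · skip
              rcases Nat.lt_or_ge i 2235000 with h7 | h7
              · skip
                exact allRangeF_sound _ _ (checkFactF_eq cert) 2234000 1000 chkF_2234000 i (by omega) (by omega)
              · skip
                exact allRangeF_sound _ _ (checkFactF_eq cert) 2235000 1000 chkF_2235000 i (by omega) (by omega)
          · skip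
            rcases Nat.lt_or_ge i 2237000 with h6 | h6
            · skip
              exact allRangeF_sound _ _ (checkFactF_eq cert) 2236000 1000 chkF_2236000 i (by omega) (by omega)
            · skip
              rcases Nat.lt_or_ge i 2238000 with h7 | h7
              · skip
                exact allRangeF_sound _ _ (checkFactF_eq cert) 2237000 1000 chkF_2237000 i (by omega) (by omega)
              · skip
                exact allRangeF_sound _ _ (checkFactF_eq cert) 2238000 1000 chkF_2238000 i (by omega) (by omega)
      · skip
        rcases Nat.lt_or_ge i 2245000 with h4 | h4
        · skip
          rcases Nat.lt_or_ge i 2242000 with h5 | h5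
          · skip
            rcases Nat.lt_or_ge i 2240000 with h6 | h6
            · skip
              exact allRangeF_sound _ _ (checkFactF_eq cert) 2239000 1000 chkF_2239000 i (by omega) (by omega)
            · skip
              rcases Nat.lt_or_ge i 2241000 with h7 | h7
              · skip
                exact allRangeF_sound _ _ (checkFactF_eq cert) 2240000 1000 chkF_2240000 i (by omega) (by omega)
              · skip
                exact allRangeF_sound _ _ (checkFactF_eq cert) 2241000 1000 chkF_2241000 i (by omega) (by omega)
          · skip
            rcases Nat.lt_or_ge i 2243000 with h6 | h6
            · skip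
              exact allRangeF_sound _ _ (checkFactF_eq cert) 2242000 1000 chkF_2242000 i (by omega) (by omega)
            · skip
              rcases Nat.lt_or_ge i 2244000 with h7 | h7
              · skip
                exact allRangeF_sound _ _ (checkFactF_eq cert) 2243000 1000 chkF_2243000 i (by omega) (by omega)
              · skip
                exact allRangeF_sound _ _ (checkFactF_eq cert) 2244000 1000 chkF_2244000 i (by omega) (by omega)
        · skip
          rcases Nat.lt_or_ge i 2248000 with h5 | h5
          · skip
            rcases Nat.lt_or_ge i 2246000 with h6 | h6
            · skip
              exact allRangeF_sound _ _ (checkFactF_eq cert) 2245000 1000 chkF_2245000 i (by omega) (by omega)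
            · skip
              rcases Nat.lt_or_ge i 2247000 with h7 | h7
              · skip
                exact allRangeF_sound _ _ (checkFactF_eq cert) 2246000 1000 chkF_2246000 i (by omega) (by omega)
              · skip
                exact allRangeF_sound _ _ (checkFactF_eq cert) 2247000 1000 chkF_2247000 i (by omega) (by omega)
          · skip
            rcases Nat.lt_or_ge i 2250000 with h6 | h6
            · skip
              rcases Nat.lt_or_ge i 2249000 with h7 | h7
              · skip
                exact allRangeF_sound _ _ (checkFactF_eq cert) 2248000 1000 chkF_2248000 i (by omega) (by omega)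
              · skip
                exact allRangeF_sound _ _ (checkFactF_eq cert) 2249000 1000 chkF_2249000 i (by omega) (by omega)
            · skip
              rcases Nat.lt_or_ge i 2251000 with h7 | h7
              · skip
                exact allRangeF_sound _ _ (checkFactF_eq cert) 2250000 1000 chkF_2250000 i (by omega) (by omega)
              · skip
                exact allRangeF_sound _ _ (checkFactF_eq cert) 2251000 1000 chkF_2251000 i (by omega) (by omega)
    · skip
      rcases Nat.lt_or_ge i 2264000 with h3 | h3
      · skip
        rcases Nat.lt_or_ge i 2258000 with h4 | h4
        · skip
          rcases Nat.lt_or_ge i 2255000 with h5 | h5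
          · skip
            rcases Nat.lt_or_ge i 2253000 with h6 | h6
            · skip
              exact allRangeF_sound _ _ (checkFactF_eq cert) 2252000 1000 chkF_2252000 i (by omega) (by omega)
            · skip
              rcases Nat.lt_or_ge i 2254000 with h7 | h7
              · skip
                exact allRangeF_sound _ _ (checkFactF_eq cert) 2253000 1000 chkF_2253000 i (by omega) (by omega)
              · skip
                exact allRangeF_sound _ _ (checkFactF_eq cert) 2254000 1000 chkF_2254000 i (by omega) (by omega)
          · skip
            rcases Nat.lt_or_ge i 2256000 with h6 | h6
            · skip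
              exact allRangeF_sound _ _ (checkFactF_eq cert) 2255000 1000 chkF_2255000 i (by omega) (by omega)
            · skip
              rcases Nat.lt_or_ge i 2257000 with h7 | h7
              · skip
                exact allRangeF_sound _ _ (checkFactF_eq cert) 2256000 1000 chkF_2256000 i (by omega) (by omega)
              · skip
                exact allRangeF_sound _ _ (checkFactF_eq cert) 2257000 1000 chkF_2257000 i (by omega) (by omega)
        · skip
          rcases Nat.lt_or_ge i 2261000 with h5 | h5
          · skip
            rcases Nat.lt_or_ge i 2259000 with h6 | h6
            · skip
              exact allRangeF_sound _ _ (checkFactF_eq cert) 2258000 1000 chkF_2258000 i (by omega) (by omega)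
            · skip
              rcases Nat.lt_or_ge i 2260000 with h7 | h7
              · skip
                exact allRangeF_sound _ _ (checkFactF_eq cert) 2259000 1000 chkF_2259000 i (by omega) (by omega)
              · skip
                exact allRangeF_sound _ _ (checkFactF_eq cert) 2260000 1000 chkF_2260000 i (by omega) (by omega)
          · skip
            rcases Nat.lt_or_ge i 2262000 with h6 | h6
            · skip
              exact allRangeF_sound _ _ (checkFactF_eq cert) 2261000 1000 chkF_2261000 i (by omega) (by omega)
            · skip
              rcases Nat.lt_or_ge i 2263000 with h7 | h7
              · skip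
                exact allRangeF_sound _ _ (checkFactF_eq cert) 2262000 1000 chkF_2262000 i (by omega) (by omega)
              · skip
                exact allRangeF_sound _ _ (checkFactF_eq cert) 2263000 1000 chkF_2263000 i (by omega) (by omega)
      · skip
        rcases Nat.lt_or_ge i 2270000 with h4 | h4
        · skip
          rcases Nat.lt_or_ge i 2267000 with h5 | h5
          · skip
            rcases Nat.lt_or_ge i 2265000 with h6 | h6
            · skip
              exact allRangeF_sound _ _ (checkFactF_eq cert) 2264000 1000 chkF_2264000 i (by omega) (by omega)
            · skip
              rcases Nat.lt_or_ge i 2266000 with h7 | h7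
              · skip
                exact allRangeF_sound _ _ (checkFactF_eq cert) 2265000 1000 chkF_2265000 i (by omega) (by omega)
              · skip
                exact allRangeF_sound _ _ (checkFactF_eq cert) 2266000 1000 chkF_2266000 i (by omega) (by omega)
          · skip
            rcases Nat.lt_or_ge i 2268000 with h6 | h6
            · skip
              exact allRangeF_sound _ _ (checkFactF_eq cert) 2267000 1000 chkF_2267000 i (by omega) (by omega)
            · skip
              rcases Nat.lt_or_ge i 2269000 with h7 | h7
              · skip
                exact allRangeF_sound _ _ (checkFactF_eq cert) 2268000 1000 chkF_2268000 i (by omega) (by omega)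
              · skip
                exact allRangeF_sound _ _ (checkFactF_eq cert) 2269000 1000 chkF_2269000 i (by omega) (by omega)
        · skip
          rcases Nat.lt_or_ge i 2273000 with h5 | h5
          · skip
            rcases Nat.lt_or_ge i 2271000 with h6 | h6
            · skip
              exact allRangeF_sound _ _ (checkFactF_eq cert) 2270000 1000 chkF_2270000 i (by omega) (by omega)
            · skip
              rcases Nat.lt_or_ge i 2272000 with h7 | h7
              · skip
                exact allRangeF_sound _ _ (checkFactF_eq cert) 2271000 1000 chkF_2271000 i (by omega) (by omega)
              · skip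
                exact allRangeF_sound _ _ (checkFactF_eq cert) 2272000 1000 chkF_2272000 i (by omega) (by omega)
          · skip
            rcases Nat.lt_or_ge i 2275000 with h6 | h6
            · skip
              rcases Nat.lt_or_ge i 2274000 with h7 | h7
              · skip
                exact allRangeF_sound _ _ (checkFactF_eq cert) 2273000 1000 chkF_2273000 i (by omega) (by omega)
              · skip
                exact allRangeF_sound _ _ (checkFactF_eq cert) 2274000 1000 chkF_2274000 i (by omega) (by omega)
            · skip
              rcases Nat.lt_or_ge i 2276000 with h7 | h7
              · skip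
                exact allRangeF_sound _ _ (checkFactF_eq cert) 2275000 1000 chkF_2275000 i (by omega) (by omega)
              · skip
                exact allRangeF_sound _ _ (checkFactF_eq cert) 2276000 1000 chkF_2276000 i (by omega) (by omega)

end Cfsg.Agent.Lib.Helper28.Fi24Data
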