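import Cfsg.Agent.Lib.Helper28.Fi24Data
import Cfsg.Agent.Lib.Helper28.TCFastFB

set_option autoImplicit false
set_option maxRecDepth 1000000
set_option linter.all false
set_option Elab.async false

namespace Cfsg.Agent.Lib.Helper28.Fi24Data

open Cfsg.Agent.Lib.Helper28B

theorem chkF_2277000 : allRangeF (checkFactF cert) (nat_lit 2277000) (nat_lit 1000) = true := by decide +kernel
theorem chkF_2278000 : allRangeF (checkFactF cert) (nat_lit 2278000) (nat_lit 1000) = true := by decide +kernel
theorem chkF_2279000 : allRangeF (checkFactF cert) (nat_lit 2279000) (nat_lit 1000) = true := by decide +kernel
theorem chkF_2280000 : allRangeF (checkFactF cert) (nat_lit 2280000) (nat_lit 1000) = true := by decide +kernel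
theorem chkF_2281000 : allRangeF (checkFactF cert) (nat_lit 2281000) (nat_lit 1000) = true := by decide +kernel
theorem chkF_2282000 : allRangeF (checkFactF cert) (nat_lit 2282000) (nat_lit 1000) = true := by decide +kernel
theorem chkF_2283000 : allRangeF (checkFactF cert) (nat_lit 2283000) (nat_lit 1000) = true := by decide +kernel
theorem chkF_2284000 : allRangeF (checkFactF cert) (nat_lit 2284000) (nat_lit 1000) = true := by decide +kernel
theorem chkF_2285000 : allRangeF (checkFactF cert) (nat_lit 2285000) (nat_lit 1000) = true := by decide +kernel
theorem chkF_2286000 : allRangeF (checkFactF cert) (nat_lit 2286000) (nat_lit 1000) = true := by decide +kernel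
theorem chkF_2287000 : allRangeF (checkFactF cert) (nat_lit 2287000) (nat_lit 1000) = true := by decide +kernel
theorem chkF_2288000 : allRangeF (checkFactF cert) (nat_lit 2288000) (nat_lit 1000) = true := by decide +kernel
theorem chkF_2289000 : allRangeF (checkFactF cert) (nat_lit 2289000) (nat_lit 1000) = true := by decide +kernel
theorem chkF_2290000 : allRangeF (checkFactF cert) (nat_lit 2290000) (nat_lit 1000) = true := by decide +kernel
theorem chkF_2291000 : allRangeF (checkFactF cert) (nat_lit 2291000) (nat_lit 1000) = true := by decide +kernel
theorem chkF_2292000 : allRangeF (checkFactF cert) (nat_lit 2292000) (nat_lit 1000) = true := by decide +kernel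
theorem chkF_2293000 : allRangeF (checkFactF cert) (nat_lit 2293000) (nat_lit 1000) = true := by decide +kernel
theorem chkF_2294000 : allRangeF (checkFactF cert) (nat_lit 2294000) (nat_lit 1000) = true := by decide +kernel
theorem chkF_2295000 : allRangeF (checkFactF cert) (nat_lit 2295000) (nat_lit 1000) = true := by decide +kernel
theorem chkF_2296000 : allRangeF (checkFactF cert) (nat_lit 2296000) (nat_lit 1000) = true := by decide +kernel
theorem chkF_2297000 : allRangeF (checkFactF cert) (nat_lit 2297000) (nat_lit 1000) = true := by decide +kernel
theorem chkF_2298000 : allRangeF (checkFactF cert) (nat_lit 2298000) (nat_lit 1000) = true := by decide +kernel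
theorem chkF_2299000 : allRangeF (checkFactF cert) (nat_lit 2299000) (nat_lit 1000) = true := by decide +kernel
theorem chkF_2300000 : allRangeF (checkFactF cert) (nat_lit 2300000) (nat_lit 1000) = true := by decide +kernel
theorem chkF_2301000 : allRangeF (checkFactF cert) (nat_lit 2301000) (nat_lit 1000) = true := by decide +kernel
theorem chkF_2302000 : allRangeF (checkFactF cert) (nat_lit 2302000) (nat_lit 1000) = true := by decide +kernel
theorem chkF_2303000 : allRangeF (checkFactF cert) (nat_lit 2303000) (nat_lit 1000) = true := by decide +kernel
theorem chkF_2304000 : allRangeF (checkFactF cert) (nat_lit 2304000) (nat_lit 1000) = true := by decide +kernel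
theorem chkF_2305000 : allRangeF (checkFactF cert) (nat_lit 2305000) (nat_lit 1000) = true := by decide +kernel
theorem chkF_2306000 : allRangeF (checkFactF cert) (nat_lit 2306000) (nat_lit 1000) = true := by decide +kernel
theorem chkF_2307000 : allRangeF (checkFactF cert) (nat_lit 2307000) (nat_lit 1000) = true := by decide +kernel
theorem chkF_2308000 : allRangeF (checkFactF cert) (nat_lit 2308000) (nat_lit 1000) = true := by decide +kernel
theorem chkF_2309000 : allRangeF (checkFactF cert) (nat_lit 2309000) (nat_lit 1000) = true := by decide +kernel
theorem chkF_2310000 : allRangeF (checkFactF cert) (nat_lit 2310000) (nat_lit 1000) = true := by decide +kernel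
theorem chkF_2311000 : allRangeF (checkFactF cert) (nat_lit 2311000) (nat_lit 1000) = true := by decide +kernel
theorem chkF_2312000 : allRangeF (checkFactF cert) (nat_lit 2312000) (nat_lit 1000) = true := by decide +kernel
theorem chkF_2313000 : allRangeF (checkFactF cert) (nat_lit 2313000) (nat_lit 1000) = true := by decide +kernel
theorem chkF_2314000 : allRangeF (checkFactF cert) (nat_lit 2314000) (nat_lit 1000) = true := by decide +kernel
theorem chkF_2315000 : allRangeF (checkFactF cert) (nat_lit 2315000) (nat_lit 1000) = true := by decide +kernel
theorem chkF_2316000 : allRangeF (checkFactF cert) (nat_lit 2316000) (nat_lit 1000) = true := by decide +kernel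
theorem chkF_2317000 : allRangeF (checkFactF cert) (nat_lit 2317000) (nat_lit 1000) = true := by decide +kernel
theorem chkF_2318000 : allRangeF (checkFactF cert) (nat_lit 2318000) (nat_lit 1000) = true := by decide +kernel
theorem chkF_2319000 : allRangeF (checkFactF cert) (nat_lit 2319000) (nat_lit 1000) = true := by decide +kernel
theorem chkF_2320000 : allRangeF (checkFactF cert) (nat_lit 2320000) (nat_lit 1000) = true := by decide +kernel
theorem chkF_2321000 : allRangeF (checkFactF cert) (nat_lit 2321000) (nat_lit 1000) = true := by decide +kernel
theorem chkF_2322000 : allRangeF (checkFactF cert) (nat_lit 2322000) (nat_lit 1000) = true := by decide +kernel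
theorem chkF_2323000 : allRangeF (checkFactF cert) (nat_lit 2323000) (nat_lit 1000) = true := by decide +kernel
theorem chkF_2324000 : allRangeF (checkFactF cert) (nat_lit 2324000) (nat_lit 1000) = true := by decide +kernel
theorem chkF_2325000 : allRangeF (checkFactF cert) (nat_lit 2325000) (nat_lit 1000) = true := by decide +kernel
theorem chkF_2326000 : allRangeF (checkFactF cert) (nat_lit 2326000) (nat_lit 1000) = true := by decide +kernel
theorem chkF_2327000 : allRangeF (checkFactF cert) (nat_lit 2327000) (nat_lit 1000) = true := by decide +kernel
theorem chkF_2328000 : allRangeF (checkFactF cert) (nat_lit 2328000) (nat_lit 1000) = true := by decide +kernel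
theorem chkF_2329000 : allRangeF (checkFactF cert) (nat_lit 2329000) (nat_lit 1000) = true := by decide +kernel
theorem chkF_2330000 : allRangeF (checkFactF cert) (nat_lit 2330000) (nat_lit 1000) = true := by decide +kernel
theorem chkF_2331000 : allRangeF (checkFactF cert) (nat_lit 2331000) (nat_lit 1000) = true := by decide +kernel
theorem chkF_2332000 : allRangeF (checkFactF cert) (nat_lit 2332000) (nat_lit 1000) = true := by decide +kernel
theorem chkF_2333000 : allRangeF (checkFactF cert) (nat_lit 2333000) (nat_lit 1000) = true := by decide +kernel
theorem chkF_2334000 : allRangeF (checkFactF cert) (nat_lit 2334000) (nat_lit 1000) = true := by decide +kernel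
theorem chkF_2335000 : allRangeF (checkFactF cert) (nat_lit 2335000) (nat_lit 1000) = true := by decide +kernel
theorem chkF_2336000 : allRangeF (checkFactF cert) (nat_lit 2336000) (nat_lit 1000) = true := by decide +kernel
theorem chkF_2337000 : allRangeF (checkFactF cert) (nat_lit 2337000) (nat_lit 1000) = true := by decide +kernel
theorem chkF_2338000 : allRangeF (checkFactF cert) (nat_lit 2338000) (nat_lit 1000) = true := by decide +kernel
theorem chkF_2339000 : allRangeF (checkFactF cert) (nat_lit 2339000) (nat_lit 1000) = true := by decide +kernel
theorem chkF_2340000 : allRangeF (checkFactF cert) (nat_lit 2340000) (nat_lit 1000) = true := by decide +kernel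
theorem chkF_2341000 : allRangeF (checkFactF cert) (nat_lit 2341000) (nat_lit 1000) = true := by decide +kernel
theorem chkF_2342000 : allRangeF (checkFactF cert) (nat_lit 2342000) (nat_lit 1000) = true := by decide +kernel
theorem chkF_2343000 : allRangeF (checkFactF cert) (nat_lit 2343000) (nat_lit 1000) = true := by decide +kernel
theorem chkF_2344000 : allRangeF (checkFactF cert) (nat_lit 2344000) (nat_lit 1000) = true := by decide +kernel
theorem chkF_2345000 : allRangeF (checkFactF cert) (nat_lit 2345000) (nat_lit 1000) = true := by decide +kernel
theorem chkF_2346000 : allRangeF (checkFactF cert) (nat_lit 2346000) (nat_lit 1000) = true := by decide +kernel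
theorem chkF_2347000 : allRangeF (checkFactF cert) (nat_lit 2347000) (nat_lit 1000) = true := by decide +kernel
theorem chkF_2348000 : allRangeF (checkFactF cert) (nat_lit 2348000) (nat_lit 1000) = true := by decide +kernel
theorem chkF_2349000 : allRangeF (checkFactF cert) (nat_lit 2349000) (nat_lit 1000) = true := by decide +kernel
theorem chkF_2350000 : allRangeF (checkFactF cert) (nat_lit 2350000) (nat_lit 1000) = true := by decide +kernel
theorem chkF_2351000 : allRangeF (checkFactF cert) (nat_lit 2351000) (nat_lit 1000) = true := by decide +kernel
theorem chkF_2352000 : allRangeF (checkFactF cert) (nat_lit 2352000) (nat_lit 1000) = true := by decide +kernel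
theorem chkF_2353000 : allRangeF (checkFactF cert) (nat_lit 2353000) (nat_lit 1000) = true := by decide +kernel
theorem chkF_2354000 : allRangeF (checkFactF cert) (nat_lit 2354000) (nat_lit 1000) = true := by decide +kernel
theorem chkF_2355000 : allRangeF (checkFactF cert) (nat_lit 2355000) (nat_lit 1000) = true := by decide +kernel
theorem chkF_2356000 : allRangeF (checkFactF cert) (nat_lit 2356000) (nat_lit 1000) = true := by decide +kernel
theorem chkF_2357000 : allRangeF (checkFactF cert) (nat_lit 2357000) (nat_lit 1000) = true := by decide +kernel
theorem chkF_2358000 : allRangeF (checkFactF cert) (nat_lit 2358000) (nat_lit 1000) = true := by decide +kernel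
theorem chkF_2359000 : allRangeF (checkFactF cert) (nat_lit 2359000) (nat_lit 1000) = true := by decide +kernel
theorem chkF_2360000 : allRangeF (checkFactF cert) (nat_lit 2360000) (nat_lit 1000) = true := by decide +kernel
theorem chkF_2361000 : allRangeF (checkFactF cert) (nat_lit 2361000) (nat_lit 1000) = true := by decide +kernel
theorem chkF_2362000 : allRangeF (checkFactF cert) (nat_lit 2362000) (nat_lit 1000) = true := by decide +kernel
theorem chkF_2363000 : allRangeF (checkFactF cert) (nat_lit 2363000) (nat_lit 1000) = true := by decide +kernel
theorem chkF_2364000 : allRangeF (checkFactF cert) (nat_lit 2364000) (nat_lit 1000) = true := by decide +kernel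
theorem chkF_2365000 : allRangeF (checkFactF cert) (nat_lit 2365000) (nat_lit 1000) = true := by decide +kernel
theorem chkF_2366000 : allRangeF (checkFactF cert) (nat_lit 2366000) (nat_lit 1000) = true := by decide +kernel
theorem chkF_2367000 : allRangeF (checkFactF cert) (nat_lit 2367000) (nat_lit 1000) = true := by decide +kernel
theorem chkF_2368000 : allRangeF (checkFactF cert) (nat_lit 2368000) (nat_lit 1000) = true := by decide +kernel
theorem chkF_2369000 : allRangeF (checkFactF cert) (nat_lit 2369000) (nat_lit 1000) = true := by decide +kernel
theorem chkF_2370000 : allRangeF (checkFactF cert) (nat_lit 2370000) (nat_lit 1000) = true := by decide +kernel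
theorem chkF_2371000 : allRangeF (checkFactF cert) (nat_lit 2371000) (nat_lit 1000) = true := by decide +kernel
theorem chkF_2372000 : allRangeF (checkFactF cert) (nat_lit 2372000) (nat_lit 1000) = true := by decide +kernel
theorem chkF_2373000 : allRangeF (checkFactF cert) (nat_lit 2373000) (nat_lit 1000) = true := by decide +kernel
theorem chkF_2374000 : allRangeF (checkFactF cert) (nat_lit 2374000) (nat_lit 1000) = true := by decide +kernel
theorem chkF_2375000 : allRangeF (checkFactF cert) (nat_lit 2375000) (nat_lit 1000) = true := by decide +kernel

theorem factsRange_23 : ∀ i, 2277000 ≤ i → i < 2376000 → checkFact cert i = true := by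
  intro i hlo hhi
  rcases Nat.lt_or_ge i 2326000 with h1 | h1
  · skip
    rcases Nat.lt_or_ge i 2301000 with h2 | h2
    · skip
      rcases Nat.lt_or_ge i 2289000 with h3 | h3
      · skip
        rcases Nat.lt_or_ge i 2283000 with h4 | h4
        · skip
          rcases Nat.lt_or_ge i 2280000 with h5 | h5
          · skip
            rcases Nat.lt_or_ge i 2278000 with h6 | h6
            · skip
              exact allRangeF_sound _ _ (checkFactF_eq cert) 2277000 1000 chkF_2277000 i (by omega) (by omega)
            · skip
              rcases Nat.lt_or_ge i 2279000 with h7 | h7
              · skip
                exact allRangeF_sound _ _ (checkFactF_eq cert) 2278000 1000 chkF_2278000 i (by omega) (by omega)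
              · skip
                exact allRangeF_sound _ _ (checkFactF_eq cert) 2279000 1000 chkF_2279000 i (by omega) (by omega)
          · skip
            rcases Nat.lt_or_ge i 2281000 with h6 | h6
            · skip
              exact allRangeF_sound _ _ (checkFactF_eq cert) 2280000 1000 chkF_2280000 i (by omega) (by omega)
            · skip
              rcases Nat.lt_or_ge i 2282000 with h7 | h7
              · skip
                exact allRangeF_sound _ _ (checkFactF_eq cert) 2281000 1000 chkF_2281000 i (by omega) (by omega)
              · skip
                exact allRangeF_sound _ _ (checkFactF_eq cert) 2282000 1000 chkF_2282000 i (by omega) (by omega)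
        · skip
          rcases Nat.lt_or_ge i 2286000 with h5 | h5
          · skip
            rcases Nat.lt_or_ge i 2284000 with h6 | h6
            · skip
              exact allRangeF_sound _ _ (checkFactF_eq cert) 2283000 1000 chkF_2283000 i (by omega) (by omega)
            · skip
              rcases Nat.lt_or_ge i 2285000 with h7 | h7
              · skip
                exact allRangeF_sound _ _ (checkFactF_eq cert) 2284000 1000 chkF_2284000 i (by omega) (by omega)
              · skip
                exact allRangeF_sound _ _ (checkFactF_eq cert) 2285000 1000 chkF_2285000 i (by omega) (by omega)
          · skip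
            rcases Nat.lt_or_ge i 2287000 with h6 | h6
            · skip
              exact allRangeF_sound _ _ (checkFactF_eq cert) 2286000 1000 chkF_2286000 i (by omega) (by omega)
            · skip
              rcases Nat.lt_or_ge i 2288000 with h7 | h7
              · skip
                exact allRangeF_sound _ _ (checkFactF_eq cert) 2287000 1000 chkF_2287000 i (by omega) (by omega)
              · skip
                exact allRangeF_sound _ _ (checkFactF_eq cert) 2288000 1000 chkF_2288000 i (by omega) (by omega)
      · skip
        rcases Nat.lt_or_ge i 2295000 with h4 | h4
        · skip
          rcases Nat.lt_or_ge i 2292000 with h5 | h5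
          · skip
            rcases Nat.lt_or_ge i 2290000 with h6 | h6
            · skip
              exact allRangeF_sound _ _ (checkFactF_eq cert) 2289000 1000 chkF_2289000 i (by omega) (by omega)
            · skip
              rcases Nat.lt_or_ge i 2291000 with h7 | h7
              · skip
                exact allRangeF_sound _ _ (checkFactF_eq cert) 2290000 1000 chkF_2290000 i (by omega) (by omega)
              · skip
                exact allRangeF_sound _ _ (checkFactF_eq cert) 2291000 1000 chkF_2291000 i (by omega) (by omega)
          · skip
            rcases Nat.lt_or_ge i 2293000 with h6 | h6
            · skip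
              exact allRangeF_sound _ _ (checkFactF_eq cert) 2292000 1000 chkF_2292000 i (by omega) (by omega)
            · skip
              rcases Nat.lt_or_ge i 2294000 with h7 | h7
              · skip
                exact allRangeF_sound _ _ (checkFactF_eq cert) 2293000 1000 chkF_2293000 i (by omega) (by omega)
              · skip
                exact allRangeF_sound _ _ (checkFactF_eq cert) 2294000 1000 chkF_2294000 i (by omega) (by omega)
        · skip
          rcases Nat.lt_or_ge i 2298000 with h5 | h5
          · skip
            rcases Nat.lt_or_ge i 2296000 with h6 | h6
            · skip
              exact allRangeF_sound _ _ (checkFactF_eq cert) 2295000 1000 chkF_2295000 i (by omega) (by omega)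
            · skip
              rcases Nat.lt_or_ge i 2297000 with h7 | h7
              · skip
                exact allRangeF_sound _ _ (checkFactF_eq cert) 2296000 1000 chkF_2296000 i (by omega) (by omega)
              · skip
                exact allRangeF_sound _ _ (checkFactF_eq cert) 2297000 1000 chkF_2297000 i (by omega) (by omega)
          · skip
            rcases Nat.lt_or_ge i 2299000 with h6 | h6
            · skip
              exact allRangeF_sound _ _ (checkFactF_eq cert) 2298000 1000 chkF_2298000 i (by omega) (by omega)
            · skip
              rcases Nat.lt_or_ge i 2300000 with h7 | h7
              · skip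
                exact allRangeF_sound _ _ (checkFactF_eq cert) 2299000 1000 chkF_2299000 i (by omega) (by omega)
              · skip
                exact allRangeF_sound _ _ (checkFactF_eq cert) 2300000 1000 chkF_2300000 i (by omega) (by omega)
    · skip
      rcases Nat.lt_or_ge i 2313000 with h3 | h3
      · skip
        rcases Nat.lt_or_ge i 2307000 with h4 | h4
        · skip
          rcases Nat.lt_or_ge i 2304000 with h5 | h5
          · skip
            rcases Nat.lt_or_ge i 2302000 with h6 | h6
            · skip
              exact allRangeF_sound _ _ (checkFactF_eq cert) 2301000 1000 chkF_2301000 i (by omega) (by omega)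
            · skip
              rcases Nat.lt_or_ge i 2303000 with h7 | h7
              · skip
                exact allRangeF_sound _ _ (checkFactF_eq cert) 2302000 1000 chkF_2302000 i (by omega) (by omega)
              · skip
                exact allRangeF_sound _ _ (checkFactF_eq cert) 2303000 1000 chkF_2303000 i (by omega) (by omega)
          · skip
            rcases Nat.lt_or_ge i 2305000 with h6 | h6
            · skip
              exact allRangeF_sound _ _ (checkFactF_eq cert) 2304000 1000 chkF_2304000 i (by omega) (by omega)
            · skip
              rcases Nat.lt_or_ge i 2306000 with h7 | h7
              · skip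
                exact allRangeF_sound _ _ (checkFactF_eq cert) 2305000 1000 chkF_2305000 i (by omega) (by omega)
              · skip
                exact allRangeF_sound _ _ (checkFactF_eq cert) 2306000 1000 chkF_2306000 i (by omega) (by omega)
        · skip
          rcases Nat.lt_or_ge i 2310000 with h5 | h5
          · skip
            rcases Nat.lt_or_ge i 2308000 with h6 | h6
            · skip
              exact allRangeF_sound _ _ (checkFactF_eq cert) 2307000 1000 chkF_2307000 i (by omega) (by omega)
            · skip
              rcases Nat.lt_or_ge i 2309000 with h7 | h7
              · skip
                exact allRangeF_sound _ _ (checkFactF_eq cert) 2308000 1000 chkF_2308000 i (by omega) (by omega)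
              · skip
                exact allRangeF_sound _ _ (checkFactF_eq cert) 2309000 1000 chkF_2309000 i (by omega) (by omega)
          · skip
            rcases Nat.lt_or_ge i 2311000 with h6 | h6
            · skip
              exact allRangeF_sound _ _ (checkFactF_eq cert) 2310000 1000 chkF_2310000 i (by omega) (by omega)
            · skip
              rcases Nat.lt_or_ge i 2312000 with h7 | h7
              · skip
                exact allRangeF_sound _ _ (checkFactF_eq cert) 2311000 1000 chkF_2311000 i (by omega) (by omega)
              · skip
                exact allRangeF_sound _ _ (checkFactF_eq cert) 2312000 1000 chkF_2312000 i (by omega) (by omega)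
      · skip
        rcases Nat.lt_or_ge i 2319000 with h4 | h4
        · skip
          rcases Nat.lt_or_ge i 2316000 with h5 | h5
          · skip
            rcases Nat.lt_or_ge i 2314000 with h6 | h6
            · skip
              exact allRangeF_sound _ _ (checkFactF_eq cert) 2313000 1000 chkF_2313000 i (by omega) (by omega)
            · skip
              rcases Nat.lt_or_ge i 2315000 with h7 | h7
              · skip
                exact allRangeF_sound _ _ (checkFactF_eq cert) 2314000 1000 chkF_2314000 i (by omega) (by omega)
              · skip
                exact allRangeF_sound _ _ (checkFactF_eq cert) 2315000 1000 chkF_2315000 i (by omega) (by omega)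
          · skip
            rcases Nat.lt_or_ge i 2317000 with h6 | h6
            · skip
              exact allRangeF_sound _ _ (checkFactF_eq cert) 2316000 1000 chkF_2316000 i (by omega) (by omega)
            · skip
              rcases Nat.lt_or_ge i 2318000 with h7 | h7
              · skip
                exact allRangeF_sound _ _ (checkFactF_eq cert) 2317000 1000 chkF_2317000 i (by omega) (by omega)
              · skip
                exact allRangeF_sound _ _ (checkFactF_eq cert) 2318000 1000 chkF_2318000 i (by omega) (by omega)
        · skip
          rcases Nat.lt_or_ge i 2322000 with h5 | h5
          · skip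
            rcases Nat.lt_or_ge i 2320000 with h6 | h6
            · skip
              exact allRangeF_sound _ _ (checkFactF_eq cert) 2319000 1000 chkF_2319000 i (by omega) (by omega)
            · skip
              rcases Nat.lt_or_ge i 2321000 with h7 | h7
              · skip
                exact allRangeF_sound _ _ (checkFactF_eq cert) 2320000 1000 chkF_2320000 i (by omega) (by omega)
              · skip
                exact allRangeF_sound _ _ (checkFactF_eq cert) 2321000 1000 chkF_2321000 i (by omega) (by omega)
          · skip
            rcases Nat.lt_or_ge i 2324000 with h6 | h6
            · skip
              rcases Nat.lt_or_ge i 2323000 with h7 | h7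
              · skip
                exact allRangeF_sound _ _ (checkFactF_eq cert) 2322000 1000 chkF_2322000 i (by omega) (by omega)
              · skip
                exact allRangeF_sound _ _ (checkFactF_eq cert) 2323000 1000 chkF_2323000 i (by omega) (by omega)
            · skip
              rcases Nat.lt_or_ge i 2325000 with h7 | h7
              · skip
                exact allRangeF_sound _ _ (checkFactF_eq cert) 2324000 1000 chkF_2324000 i (by omega) (by omega)
              · skip
                exact allRangeF_sound _ _ (checkFactF_eq cert) 2325000 1000 chkF_2325000 i (by omega) (by omega)
  · skip
    rcases Nat.lt_or_ge i 2351000 with h2 | h2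
    · skip
      rcases Nat.lt_or_ge i 2338000 with h3 | h3
      · skip
        rcases Nat.lt_or_ge i 2332000 with h4 | h4
        · skip
          rcases Nat.lt_or_ge i 2329000 with h5 | h5
          · skip
            rcases Nat.lt_or_ge i 2327000 with h6 | h6
            · skip
              exact allRangeF_sound _ _ (checkFactF_eq cert) 2326000 1000 chkF_2326000 i (by omega) (by omega)
            · skip
              rcases Nat.lt_or_ge i 2328000 with h7 | h7
              · skip
                exact allRangeF_sound _ _ (checkFactF_eq cert) 2327000 1000 chkF_2327000 i (by omega) (by omega)
              · skip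
                exact allRangeF_sound _ _ (checkFactF_eq cert) 2328000 1000 chkF_2328000 i (by omega) (by omega)
          · skip
            rcases Nat.lt_or_ge i 2330000 with h6 | h6
            · skip
              exact allRangeF_sound _ _ (checkFactF_eq cert) 2329000 1000 chkF_2329000 i (by omega) (by omega)
            · skip
              rcases Nat.lt_or_ge i 2331000 with h7 | h7
              · skip
                exact allRangeF_sound _ _ (checkFactF_eq cert) 2330000 1000 chkF_2330000 i (by omega) (by omega)
              · skip
                exact allRangeF_sound _ _ (checkFactF_eq cert) 2331000 1000 chkF_2331000 i (by omega) (by omega)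
        · skip
          rcases Nat.lt_or_ge i 2335000 with h5 | h5
          · skip
            rcases Nat.lt_or_ge i 2333000 with h6 | h6
            · skip
              exact allRangeF_sound _ _ (checkFactF_eq cert) 2332000 1000 chkF_2332000 i (by omega) (by omega)
            · skip
              rcases Nat.lt_or_ge i 2334000 with h7 | h7
              · skip
                exact allRangeF_sound _ _ (checkFactF_eq cert) 2333000 1000 chkF_2333000 i (by omega) (by omega)
              · skip
                exact allRangeF_sound _ _ (checkFactF_eq cert) 2334000 1000 chkF_2334000 i (by omega) (by omega)
          · skip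
            rcases Nat.lt_or_ge i 2336000 with h6 | h6
            · skip
              exact allRangeF_sound _ _ (checkFactF_eq cert) 2335000 1000 chkF_2335000 i (by omega) (by omega)
            · skip
              rcases Nat.lt_or_ge i 2337000 with h7 | h7
              · skip
                exact allRangeF_sound _ _ (checkFactF_eq cert) 2336000 1000 chkF_2336000 i (by omega) (by omega)
              · skip
                exact allRangeF_sound _ _ (checkFactF_eq cert) 2337000 1000 chkF_2337000 i (by omega) (by omega)
      · skip
        rcases Nat.lt_or_ge i 2344000 with h4 | h4
        · skip
          rcases Nat.lt_or_ge i 2341000 with h5 | h5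
          · skip
            rcases Nat.lt_or_ge i 2339000 with h6 | h6
            · skip
              exact allRangeF_sound _ _ (checkFactF_eq cert) 2338000 1000 chkF_2338000 i (by omega) (by omega)
            · skip
              rcases Nat.lt_or_ge i 2340000 with h7 | h7
              · skip
                exact allRangeF_sound _ _ (checkFactF_eq cert) 2339000 1000 chkF_2339000 i (by omega) (by omega)
              · skip
                exact allRangeF_sound _ _ (checkFactF_eq cert) 2340000 1000 chkF_2340000 i (by omega) (by omega)
          · skip
            rcases Nat.lt_or_ge i 2342000 with h6 | h6
            · skip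
              exact allRangeF_sound _ _ (checkFactF_eq cert) 2341000 1000 chkF_2341000 i (by omega) (by omega)
            · skip
              rcases Nat.lt_or_ge i 2343000 with h7 | h7
              · skip
                exact allRangeF_sound _ _ (checkFactF_eq cert) 2342000 1000 chkF_2342000 i (by omega) (by omega)
              · skip
                exact allRangeF_sound _ _ (checkFactF_eq cert) 2343000 1000 chkF_2343000 i (by omega) (by omega)
        · skip
          rcases Nat.lt_or_ge i 2347000 with h5 | h5
          · skip
            rcases Nat.lt_or_ge i 2345000 with h6 | h6
            · skip
              exact allRangeF_sound _ _ (checkFactF_eq cert) 2344000 1000 chkF_2344000 i (by omega) (by omega)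
            · skip
              rcases Nat.lt_or_ge i 2346000 with h7 | h7
              · skip
                exact allRangeF_sound _ _ (checkFactF_eq cert) 2345000 1000 chkF_2345000 i (by omega) (by omega)
              · skip
                exact allRangeF_sound _ _ (checkFactF_eq cert) 2346000 1000 chkF_2346000 i (by omega) (by omega)
          · skip
            rcases Nat.lt_or_ge i 2349000 with h6 | h6
            · skip
              rcases Nat.lt_or_ge i 2348000 with h7 | h7
              · skip
                exact allRangeF_sound _ _ (checkFactF_eq cert) 2347000 1000 chkF_2347000 i (by omega) (by omega)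
              · skip
                exact allRangeF_sound _ _ (checkFactF_eq cert) 2348000 1000 chkF_2348000 i (by omega) (by omega)
            · skip
              rcases Nat.lt_or_ge i 2350000 with h7 | h7
              · skip
                exact allRangeF_sound _ _ (checkFactF_eq cert) 2349000 1000 chkF_2349000 i (by omega) (by omega)
              · skip
                exact allRangeF_sound _ _ (checkFactF_eq cert) 2350000 1000 chkF_2350000 i (by omega) (by omega)
    · skip
      rcases Nat.lt_or_ge i 2363000 with h3 | h3
      · skip
        rcases Nat.lt_or_ge i 2357000 with h4 | h4
        · skip
          rcases Nat.lt_or_ge i 2354000 with h5 | h5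
          · skip
            rcases Nat.lt_or_ge i 2352000 with h6 | h6
            · skip
              exact allRangeF_sound _ _ (checkFactF_eq cert) 2351000 1000 chkF_2351000 i (by omega) (by omega)
            · skip
              rcases Nat.lt_or_ge i 2353000 with h7 | h7
              · skip
                exact allRangeF_sound _ _ (checkFactF_eq cert) 2352000 1000 chkF_2352000 i (by omega) (by omega)
              · skip
                exact allRangeF_sound _ _ (checkFactF_eq cert) 2353000 1000 chkF_2353000 i (by omega) (by omega)
          · skip
            rcases Nat.lt_or_ge i 2355000 with h6 | h6
            · skip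
              exact allRangeF_sound _ _ (checkFactF_eq cert) 2354000 1000 chkF_2354000 i (by omega) (by omega)
            · skip
              rcases Nat.lt_or_ge i 2356000 with h7 | h7
              · skip
                exact allRangeF_sound _ _ (checkFactF_eq cert) 2355000 1000 chkF_2355000 i (by omega) (by omega)
              · skip
                exact allRangeF_sound _ _ (checkFactF_eq cert) 2356000 1000 chkF_2356000 i (by omega) (by omega)
        · skip
          rcases Nat.lt_or_ge i 2360000 with h5 | h5
          · skip
            rcases Nat.lt_or_ge i 2358000 with h6 | h6
            · skip
              exact allRangeF_sound _ _ (checkFactF_eq cert) 2357000 1000 chkF_2357000 i (by omega) (by omega)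
            · skip
              rcases Nat.lt_or_ge i 2359000 with h7 | h7
              · skip
                exact allRangeF_sound _ _ (checkFactF_eq cert) 2358000 1000 chkF_2358000 i (by omega) (by omega)
              · skip
                exact allRangeF_sound _ _ (checkFactF_eq cert) 2359000 1000 chkF_2359000 i (by omega) (by omega)
          · skip
            rcases Nat.lt_or_ge i 2361000 with h6 | h6
            · skip
              exact allRangeF_sound _ _ (checkFactF_eq cert) 2360000 1000 chkF_2360000 i (by omega) (by omega)
            · skip
              rcases Nat.lt_or_ge i 2362000 with h7 | h7
              · skip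
                exact allRangeF_sound _ _ (checkFactF_eq cert) 2361000 1000 chkF_2361000 i (by omega) (by omega)
              · skip
                exact allRangeF_sound _ _ (checkFactF_eq cert) 2362000 1000 chkF_2362000 i (by omega) (by omega)
      · skip
        rcases Nat.lt_or_ge i 2369000 with h4 | h4
        · skip
          rcases Nat.lt_or_ge i 2366000 with h5 | h5
          · skip
            rcases Nat.lt_or_ge i 2364000 with h6 | h6
            · skip
              exact allRangeF_sound _ _ (checkFactF_eq cert) 2363000 1000 chkF_2363000 i (by omega) (by omega)
            · skip
              rcases Nat.lt_or_ge i 2365000 with h7 | h7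
              · skip
                exact allRangeF_sound _ _ (checkFactF_eq cert) 2364000 1000 chkF_2364000 i (by omega) (by omega)
              · skip
                exact allRangeF_sound _ _ (checkFactF_eq cert) 2365000 1000 chkF_2365000 i (by omega) (by omega)
          · skip
            rcases Nat.lt_or_ge i 2367000 with h6 | h6
            · skip
              exact allRangeF_sound _ _ (checkFactF_eq cert) 2366000 1000 chkF_2366000 i (by omega) (by omega)
            · skip
              rcases Nat.lt_or_ge i 2368000 with h7 | h7
              · skip
                exact allRangeF_sound _ _ (checkFactF_eq cert) 2367000 1000 chkF_2367000 i (by omega) (by omega)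
              · skip
                exact allRangeF_sound _ _ (checkFactF_eq cert) 2368000 1000 chkF_2368000 i (by omega) (by omega)
        · skip
          rcases Nat.lt_or_ge i 2372000 with h5 | h5
          · skip
            rcases Nat.lt_or_ge i 2370000 with h6 | h6
            · skip
              exact allRangeF_sound _ _ (checkFactF_eq cert) 2369000 1000 chkF_2369000 i (by omega) (by omega)
            · skip
              rcases Nat.lt_or_ge i 2371000 with h7 | h7
              · skip
                exact allRangeF_sound _ _ (checkFactF_eq cert) 2370000 1000 chkF_2370000 i (by omega) (by omega)
              · skip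
                exact allRangeF_sound _ _ (checkFactF_eq cert) 2371000 1000 chkF_2371000 i (by omega) (by omega)
          · skip
            rcases Nat.lt_or_ge i 2374000 with h6 | h6
            · skip
              rcases Nat.lt_or_ge i 2373000 with h7 | h7
              · skip
                exact allRangeF_sound _ _ (checkFactF_eq cert) 2372000 1000 chkF_2372000 i (by omega) (by omega)
              · skip
                exact allRangeF_sound _ _ (checkFactF_eq cert) 2373000 1000 chkF_2373000 i (by omega) (by omega)
            · skip
              rcases Nat.lt_or_ge i 2375000 with h7 | h7
              · skip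
                exact allRangeF_sound _ _ (checkFactF_eq cert) 2374000 1000 chkF_2374000 i (by omega) (by omega)
              · skip
                exact allRangeF_sound _ _ (checkFactF_eq cert) 2375000 1000 chkF_2375000 i (by omega) (by omega)

end Cfsg.Agent.Lib.Helper28.Fi24Data
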