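import Cfsg.Agent.Lib.Helper28.Fi24Data
import Cfsg.Agent.Lib.Helper28.TCFastFB

set_option autoImplicit false
set_option maxRecDepth 1000000
set_option linter.all false
set_option Elab.async false

namespace Cfsg.Agent.Lib.Helper28.Fi24Data

open Cfsg.Agent.Lib.Helper28B

theorem chkF_2376000 : allRangeF (checkFactF cert) (nat_lit 2376000) (nat_lit 1000) = true := by decide +kernel
theorem chkF_2377000 : allRangeF (checkFactF cert) (nat_lit 2377000) (nat_lit 1000) = true := by decide +kernel
theorem chkF_2378000 : allRangeF (checkFactF cert) (nat_lit 2378000) (nat_lit 1000) = true := by decide +kernel
theorem chkF_2379000 : allRangeF (checkFactF cert) (nat_lit 2379000) (nat_lit 1000) = true := by decide +kernel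
theorem chkF_2380000 : allRangeF (checkFactF cert) (nat_lit 2380000) (nat_lit 1000) = true := by decide +kernel
theorem chkF_2381000 : allRangeF (checkFactF cert) (nat_lit 2381000) (nat_lit 1000) = true := by decide +kernel
theorem chkF_2382000 : allRangeF (checkFactF cert) (nat_lit 2382000) (nat_lit 1000) = true := by decide +kernel
theorem chkF_2383000 : allRangeF (checkFactF cert) (nat_lit 2383000) (nat_lit 1000) = true := by decide +kernel
theorem chkF_2384000 : allRangeF (checkFactF cert) (nat_lit 2384000) (nat_lit 1000) = true := by decide +kernel
theorem chkF_2385000 : allRangeF (checkFactF cert) (nat_lit 2385000) (nat_lit 1000) = true := by decide +kernel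
theorem chkF_2386000 : allRangeF (checkFactF cert) (nat_lit 2386000) (nat_lit 1000) = true := by decide +kernel
theorem chkF_2387000 : allRangeF (checkFactF cert) (nat_lit 2387000) (nat_lit 1000) = true := by decide +kernel
theorem chkF_2388000 : allRangeF (checkFactF cert) (nat_lit 2388000) (nat_lit 1000) = true := by decide +kernel
theorem chkF_2389000 : allRangeF (checkFactF cert) (nat_lit 2389000) (nat_lit 1000) = true := by decide +kernel
theorem chkF_2390000 : allRangeF (checkFactF cert) (nat_lit 2390000) (nat_lit 1000) = true := by decide +kernel
theorem chkF_2391000 : allRangeF (checkFactF cert) (nat_lit 2391000) (nat_lit 1000) = true := by decide +kernel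
theorem chkF_2392000 : allRangeF (checkFactF cert) (nat_lit 2392000) (nat_lit 1000) = true := by decide +kernel
theorem chkF_2393000 : allRangeF (checkFactF cert) (nat_lit 2393000) (nat_lit 1000) = true := by decide +kernel
theorem chkF_2394000 : allRangeF (checkFactF cert) (nat_lit 2394000) (nat_lit 1000) = true := by decide +kernel
theorem chkF_2395000 : allRangeF (checkFactF cert) (nat_lit 2395000) (nat_lit 1000) = true := by decide +kernel
theorem chkF_2396000 : allRangeF (checkFactF cert) (nat_lit 2396000) (nat_lit 1000) = true := by decide +kernel
theorem chkF_2397000 : allRangeF (checkFactF cert) (nat_lit 2397000) (nat_lit 1000) = true := by decide +kernel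
theorem chkF_2398000 : allRangeF (checkFactF cert) (nat_lit 2398000) (nat_lit 1000) = true := by decide +kernel
theorem chkF_2399000 : allRangeF (checkFactF cert) (nat_lit 2399000) (nat_lit 1000) = true := by decide +kernel
theorem chkF_2400000 : allRangeF (checkFactF cert) (nat_lit 2400000) (nat_lit 1000) = true := by decide +kernel
theorem chkF_2401000 : allRangeF (checkFactF cert) (nat_lit 2401000) (nat_lit 1000) = true := by decide +kernel
theorem chkF_2402000 : allRangeF (checkFactF cert) (nat_lit 2402000) (nat_lit 1000) = true := by decide +kernel
theorem chkF_2403000 : allRangeF (checkFactF cert) (nat_lit 2403000) (nat_lit 1000) = true := by decide +kernel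
theorem chkF_2404000 : allRangeF (checkFactF cert) (nat_lit 2404000) (nat_lit 1000) = true := by decide +kernel
theorem chkF_2405000 : allRangeF (checkFactF cert) (nat_lit 2405000) (nat_lit 1000) = true := by decide +kernel
theorem chkF_2406000 : allRangeF (checkFactF cert) (nat_lit 2406000) (nat_lit 1000) = true := by decide +kernel
theorem chkF_2407000 : allRangeF (checkFactF cert) (nat_lit 2407000) (nat_lit 1000) = true := by decide +kernel
theorem chkF_2408000 : allRangeF (checkFactF cert) (nat_lit 2408000) (nat_lit 1000) = true := by decide +kernel
theorem chkF_2409000 : allRangeF (checkFactF cert) (nat_lit 2409000) (nat_lit 1000) = true := by decide +kernel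
theorem chkF_2410000 : allRangeF (checkFactF cert) (nat_lit 2410000) (nat_lit 1000) = true := by decide +kernel
theorem chkF_2411000 : allRangeF (checkFactF cert) (nat_lit 2411000) (nat_lit 1000) = true := by decide +kernel
theorem chkF_2412000 : allRangeF (checkFactF cert) (nat_lit 2412000) (nat_lit 1000) = true := by decide +kernel
theorem chkF_2413000 : allRangeF (checkFactF cert) (nat_lit 2413000) (nat_lit 1000) = true := by decide +kernel
theorem chkF_2414000 : allRangeF (checkFactF cert) (nat_lit 2414000) (nat_lit 1000) = true := by decide +kernel
theorem chkF_2415000 : allRangeF (checkFactF cert) (nat_lit 2415000) (nat_lit 1000) = true := by decide +kernel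
theorem chkF_2416000 : allRangeF (checkFactF cert) (nat_lit 2416000) (nat_lit 1000) = true := by decide +kernel
theorem chkF_2417000 : allRangeF (checkFactF cert) (nat_lit 2417000) (nat_lit 1000) = true := by decide +kernel
theorem chkF_2418000 : allRangeF (checkFactF cert) (nat_lit 2418000) (nat_lit 1000) = true := by decide +kernel
theorem chkF_2419000 : allRangeF (checkFactF cert) (nat_lit 2419000) (nat_lit 1000) = true := by decide +kernel
theorem chkF_2420000 : allRangeF (checkFactF cert) (nat_lit 2420000) (nat_lit 1000) = true := by decide +kernel
theorem chkF_2421000 : allRangeF (checkFactF cert) (nat_lit 2421000) (nat_lit 1000) = true := by decide +kernel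
theorem chkF_2422000 : allRangeF (checkFactF cert) (nat_lit 2422000) (nat_lit 1000) = true := by decide +kernel
theorem chkF_2423000 : allRangeF (checkFactF cert) (nat_lit 2423000) (nat_lit 1000) = true := by decide +kernel
theorem chkF_2424000 : allRangeF (checkFactF cert) (nat_lit 2424000) (nat_lit 1000) = true := by decide +kernel
theorem chkF_2425000 : allRangeF (checkFactF cert) (nat_lit 2425000) (nat_lit 1000) = true := by decide +kernel
theorem chkF_2426000 : allRangeF (checkFactF cert) (nat_lit 2426000) (nat_lit 1000) = true := by decide +kernel
theorem chkF_2427000 : allRangeF (checkFactF cert) (nat_lit 2427000) (nat_lit 1000) = true := by decide +kernel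
theorem chkF_2428000 : allRangeF (checkFactF cert) (nat_lit 2428000) (nat_lit 1000) = true := by decide +kernel
theorem chkF_2429000 : allRangeF (checkFactF cert) (nat_lit 2429000) (nat_lit 1000) = true := by decide +kernel
theorem chkF_2430000 : allRangeF (checkFactF cert) (nat_lit 2430000) (nat_lit 1000) = true := by decide +kernel
theorem chkF_2431000 : allRangeF (checkFactF cert) (nat_lit 2431000) (nat_lit 1000) = true := by decide +kernel
theorem chkF_2432000 : allRangeF (checkFactF cert) (nat_lit 2432000) (nat_lit 1000) = true := by decide +kernel
theorem chkF_2433000 : allRangeF (checkFactF cert) (nat_lit 2433000) (nat_lit 1000) = true := by decide +kernel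
theorem chkF_2434000 : allRangeF (checkFactF cert) (nat_lit 2434000) (nat_lit 1000) = true := by decide +kernel
theorem chkF_2435000 : allRangeF (checkFactF cert) (nat_lit 2435000) (nat_lit 1000) = true := by decide +kernel
theorem chkF_2436000 : allRangeF (checkFactF cert) (nat_lit 2436000) (nat_lit 1000) = true := by decide +kernel
theorem chkF_2437000 : allRangeF (checkFactF cert) (nat_lit 2437000) (nat_lit 1000) = true := by decide +kernel
theorem chkF_2438000 : allRangeF (checkFactF cert) (nat_lit 2438000) (nat_lit 1000) = true := by decide +kernel
theorem chkF_2439000 : allRangeF (checkFactF cert) (nat_lit 2439000) (nat_lit 1000) = true := by decide +kernel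
theorem chkF_2440000 : allRangeF (checkFactF cert) (nat_lit 2440000) (nat_lit 1000) = true := by decide +kernel
theorem chkF_2441000 : allRangeF (checkFactF cert) (nat_lit 2441000) (nat_lit 1000) = true := by decide +kernel
theorem chkF_2442000 : allRangeF (checkFactF cert) (nat_lit 2442000) (nat_lit 1000) = true := by decide +kernel
theorem chkF_2443000 : allRangeF (checkFactF cert) (nat_lit 2443000) (nat_lit 1000) = true := by decide +kernel
theorem chkF_2444000 : allRangeF (checkFactF cert) (nat_lit 2444000) (nat_lit 1000) = true := by decide +kernel
theorem chkF_2445000 : allRangeF (checkFactF cert) (nat_lit 2445000) (nat_lit 1000) = true := by decide +kernel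
theorem chkF_2446000 : allRangeF (checkFactF cert) (nat_lit 2446000) (nat_lit 1000) = true := by decide +kernel
theorem chkF_2447000 : allRangeF (checkFactF cert) (nat_lit 2447000) (nat_lit 1000) = true := by decide +kernel
theorem chkF_2448000 : allRangeF (checkFactF cert) (nat_lit 2448000) (nat_lit 1000) = true := by decide +kernel
theorem chkF_2449000 : allRangeF (checkFactF cert) (nat_lit 2449000) (nat_lit 1000) = true := by decide +kernel
theorem chkF_2450000 : allRangeF (checkFactF cert) (nat_lit 2450000) (nat_lit 1000) = true := by decide +kernel
theorem chkF_2451000 : allRangeF (checkFactF cert) (nat_lit 2451000) (nat_lit 1000) = true := by decide +kernel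
theorem chkF_2452000 : allRangeF (checkFactF cert) (nat_lit 2452000) (nat_lit 1000) = true := by decide +kernel
theorem chkF_2453000 : allRangeF (checkFactF cert) (nat_lit 2453000) (nat_lit 1000) = true := by decide +kernel
theorem chkF_2454000 : allRangeF (checkFactF cert) (nat_lit 2454000) (nat_lit 1000) = true := by decide +kernel
theorem chkF_2455000 : allRangeF (checkFactF cert) (nat_lit 2455000) (nat_lit 1000) = true := by decide +kernel
theorem chkF_2456000 : allRangeF (checkFactF cert) (nat_lit 2456000) (nat_lit 1000) = true := by decide +kernel
theorem chkF_2457000 : allRangeF (checkFactF cert) (nat_lit 2457000) (nat_lit 1000) = true := by decide +kernel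
theorem chkF_2458000 : allRangeF (checkFactF cert) (nat_lit 2458000) (nat_lit 1000) = true := by decide +kernel
theorem chkF_2459000 : allRangeF (checkFactF cert) (nat_lit 2459000) (nat_lit 1000) = true := by decide +kernel
theorem chkF_2460000 : allRangeF (checkFactF cert) (nat_lit 2460000) (nat_lit 1000) = true := by decide +kernel
theorem chkF_2461000 : allRangeF (checkFactF cert) (nat_lit 2461000) (nat_lit 1000) = true := by decide +kernel
theorem chkF_2462000 : allRangeF (checkFactF cert) (nat_lit 2462000) (nat_lit 1000) = true := by decide +kernel
theorem chkF_2463000 : allRangeF (checkFactF cert) (nat_lit 2463000) (nat_lit 1000) = true := by decide +kernel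
theorem chkF_2464000 : allRangeF (checkFactF cert) (nat_lit 2464000) (nat_lit 1000) = true := by decide +kernel
theorem chkF_2465000 : allRangeF (checkFactF cert) (nat_lit 2465000) (nat_lit 1000) = true := by decide +kernel
theorem chkF_2466000 : allRangeF (checkFactF cert) (nat_lit 2466000) (nat_lit 1000) = true := by decide +kernel
theorem chkF_2467000 : allRangeF (checkFactF cert) (nat_lit 2467000) (nat_lit 1000) = true := by decide +kernel
theorem chkF_2468000 : allRangeF (checkFactF cert) (nat_lit 2468000) (nat_lit 1000) = true := by decide +kernel
theorem chkF_2469000 : allRangeF (checkFactF cert) (nat_lit 2469000) (nat_lit 1000) = true := by decide +kernel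
theorem chkF_2470000 : allRangeF (checkFactF cert) (nat_lit 2470000) (nat_lit 1000) = true := by decide +kernel
theorem chkF_2471000 : allRangeF (checkFactF cert) (nat_lit 2471000) (nat_lit 1000) = true := by decide +kernel
theorem chkF_2472000 : allRangeF (checkFactF cert) (nat_lit 2472000) (nat_lit 1000) = true := by decide +kernel
theorem chkF_2473000 : allRangeF (checkFactF cert) (nat_lit 2473000) (nat_lit 1000) = true := by decide +kernel
theorem chkF_2474000 : allRangeF (checkFactF cert) (nat_lit 2474000) (nat_lit 1000) = true := by decide +kernel

theorem factsRange_24 : ∀ i, 2376000 ≤ i → i < 2475000 → checkFact cert i = true := by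
  intro i hlo hhi
  rcases Nat.lt_or_ge i 2425000 with h1 | h1
  · skip
    rcases Nat.lt_or_ge i 2400000 with h2 | h2
    · skip
      rcases Nat.lt_or_ge i 2388000 with h3 | h3
      · skip
        rcases Nat.lt_or_ge i 2382000 with h4 | h4
        · skip
          rcases Nat.lt_or_ge i 2379000 with h5 | h5
          · skip
            rcases Nat.lt_or_ge i 2377000 with h6 | h6
            · skip
              exact allRangeF_sound _ _ (checkFactF_eq cert) 2376000 1000 chkF_2376000 i (by omega) (by omega)
            · skip
              rcases Nat.lt_or_ge i 2378000 with h7 | h7
              · skip
                exact allRangeF_sound _ _ (checkFactF_eq cert) 2377000 1000 chkF_2377000 i (by omega) (by omega)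
              · skip
                exact allRangeF_sound _ _ (checkFactF_eq cert) 2378000 1000 chkF_2378000 i (by omega) (by omega)
          · skip
            rcases Nat.lt_or_ge i 2380000 with h6 | h6
            · skip
              exact allRangeF_sound _ _ (checkFactF_eq cert) 2379000 1000 chkF_2379000 i (by omega) (by omega)
            · skip
              rcases Nat.lt_or_ge i 2381000 with h7 | h7
              · skip
                exact allRangeF_sound _ _ (checkFactF_eq cert) 2380000 1000 chkF_2380000 i (by omega) (by omega)
              · skip
                exact allRangeF_sound _ _ (checkFactF_eq cert) 2381000 1000 chkF_2381000 i (by omega) (by omega)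
        · skip
          rcases Nat.lt_or_ge i 2385000 with h5 | h5
          · skip
            rcases Nat.lt_or_ge i 2383000 with h6 | h6
            · skip
              exact allRangeF_sound _ _ (checkFactF_eq cert) 2382000 1000 chkF_2382000 i (by omega) (by omega)
            · skip
              rcases Nat.lt_or_ge i 2384000 with h7 | h7
              · skip
                exact allRangeF_sound _ _ (checkFactF_eq cert) 2383000 1000 chkF_2383000 i (by omega) (by omega)
              · skip
                exact allRangeF_sound _ _ (checkFactF_eq cert) 2384000 1000 chkF_2384000 i (by omega) (by omega)
          · skip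
            rcases Nat.lt_or_ge i 2386000 with h6 | h6
            · skip
              exact allRangeF_sound _ _ (checkFactF_eq cert) 2385000 1000 chkF_2385000 i (by omega) (by omega)
            · skip
              rcases Nat.lt_or_ge i 2387000 with h7 | h7
              · skip
                exact allRangeF_sound _ _ (checkFactF_eq cert) 2386000 1000 chkF_2386000 i (by omega) (by omega)
              · skip
                exact allRangeF_sound _ _ (checkFactF_eq cert) 2387000 1000 chkF_2387000 i (by omega) (by omega)
      · skip
        rcases Nat.lt_or_ge i 2394000 with h4 | h4
        · skip
          rcases Nat.lt_or_ge i 2391000 with h5 | h5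
          · skip
            rcases Nat.lt_or_ge i 2389000 with h6 | h6
            · skip
              exact allRangeF_sound _ _ (checkFactF_eq cert) 2388000 1000 chkF_2388000 i (by omega) (by omega)
            · skip
              rcases Nat.lt_or_ge i 2390000 with h7 | h7
              · skip
                exact allRangeF_sound _ _ (checkFactF_eq cert) 2389000 1000 chkF_2389000 i (by omega) (by omega)
              · skip
                exact allRangeF_sound _ _ (checkFactF_eq cert) 2390000 1000 chkF_2390000 i (by omega) (by omega)
          · skip
            rcases Nat.lt_or_ge i 2392000 with h6 | h6
            · skip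
              exact allRangeF_sound _ _ (checkFactF_eq cert) 2391000 1000 chkF_2391000 i (by omega) (by omega)
            · skip
              rcases Nat.lt_or_ge i 2393000 with h7 | h7
              · skip
                exact allRangeF_sound _ _ (checkFactF_eq cert) 2392000 1000 chkF_2392000 i (by omega) (by omega)
              · skip
                exact allRangeF_sound _ _ (checkFactF_eq cert) 2393000 1000 chkF_2393000 i (by omega) (by omega)
        · skip
          rcases Nat.lt_or_ge i 2397000 with h5 | h5
          · skip
            rcases Nat.lt_or_ge i 2395000 with h6 | h6
            · skip
              exact allRangeF_sound _ _ (checkFactF_eq cert) 2394000 1000 chkF_2394000 i (by omega) (by omega)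
            · skip
              rcases Nat.lt_or_ge i 2396000 with h7 | h7
              · skip
                exact allRangeF_sound _ _ (checkFactF_eq cert) 2395000 1000 chkF_2395000 i (by omega) (by omega)
              · skip
                exact allRangeF_sound _ _ (checkFactF_eq cert) 2396000 1000 chkF_2396000 i (by omega) (by omega)
          · skip
            rcases Nat.lt_or_ge i 2398000 with h6 | h6
            · skip
              exact allRangeF_sound _ _ (checkFactF_eq cert) 2397000 1000 chkF_2397000 i (by omega) (by omega)
            · skip
              rcases Nat.lt_or_ge i 2399000 with h7 | h7
              · skip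
                exact allRangeF_sound _ _ (checkFactF_eq cert) 2398000 1000 chkF_2398000 i (by omega) (by omega)
              · skip
                exact allRangeF_sound _ _ (checkFactF_eq cert) 2399000 1000 chkF_2399000 i (by omega) (by omega)
    · skip
      rcases Nat.lt_or_ge i 2412000 with h3 | h3
      · skip
        rcases Nat.lt_or_ge i 2406000 with h4 | h4
        · skip
          rcases Nat.lt_or_ge i 2403000 with h5 | h5
          · skip
            rcases Nat.lt_or_ge i 2401000 with h6 | h6
            · skip
              exact allRangeF_sound _ _ (checkFactF_eq cert) 2400000 1000 chkF_2400000 i (by omega) (by omega)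
            · skip
              rcases Nat.lt_or_ge i 2402000 with h7 | h7
              · skip
                exact allRangeF_sound _ _ (checkFactF_eq cert) 2401000 1000 chkF_2401000 i (by omega) (by omega)
              · skip
                exact allRangeF_sound _ _ (checkFactF_eq cert) 2402000 1000 chkF_2402000 i (by omega) (by omega)
          · skip
            rcases Nat.lt_or_ge i 2404000 with h6 | h6
            · skip
              exact allRangeF_sound _ _ (checkFactF_eq cert) 2403000 1000 chkF_2403000 i (by omega) (by omega)
            · skip
              rcases Nat.lt_or_ge i 2405000 with h7 | h7
              · skip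
                exact allRangeF_sound _ _ (checkFactF_eq cert) 2404000 1000 chkF_2404000 i (by omega) (by omega)
              · skip
                exact allRangeF_sound _ _ (checkFactF_eq cert) 2405000 1000 chkF_2405000 i (by omega) (by omega)
        · skip
          rcases Nat.lt_or_ge i 2409000 with h5 | h5
          · skip
            rcases Nat.lt_or_ge i 2407000 with h6 | h6
            · skip
              exact allRangeF_sound _ _ (checkFactF_eq cert) 2406000 1000 chkF_2406000 i (by omega) (by omega)
            · skip
              rcases Nat.lt_or_ge i 2408000 with h7 | h7
              · skip
                exact allRangeF_sound _ _ (checkFactF_eq cert) 2407000 1000 chkF_2407000 i (by omega) (by omega)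
              · skip
                exact allRangeF_sound _ _ (checkFactF_eq cert) 2408000 1000 chkF_2408000 i (by omega) (by omega)
          · skip
            rcases Nat.lt_or_ge i 2410000 with h6 | h6
            · skip
              exact allRangeF_sound _ _ (checkFactF_eq cert) 2409000 1000 chkF_2409000 i (by omega) (by omega)
            · skip
              rcases Nat.lt_or_ge i 2411000 with h7 | h7
              · skip
                exact allRangeF_sound _ _ (checkFactF_eq cert) 2410000 1000 chkF_2410000 i (by omega) (by omega)
              · skip
                exact allRangeF_sound _ _ (checkFactF_eq cert) 2411000 1000 chkF_2411000 i (by omega) (by omega)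
      · skip
        rcases Nat.lt_or_ge i 2418000 with h4 | h4
        · skip
          rcases Nat.lt_or_ge i 2415000 with h5 | h5
          · skip
            rcases Nat.lt_or_ge i 2413000 with h6 | h6
            · skip
              exact allRangeF_sound _ _ (checkFactF_eq cert) 2412000 1000 chkF_2412000 i (by omega) (by omega)
            · skip
              rcases Nat.lt_or_ge i 2414000 with h7 | h7
              · skip
                exact allRangeF_sound _ _ (checkFactF_eq cert) 2413000 1000 chkF_2413000 i (by omega) (by omega)
              · skip
                exact allRangeF_sound _ _ (checkFactF_eq cert) 2414000 1000 chkF_2414000 i (by omega) (by omega)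
          · skip
            rcases Nat.lt_or_ge i 2416000 with h6 | h6
            · skip
              exact allRangeF_sound _ _ (checkFactF_eq cert) 2415000 1000 chkF_2415000 i (by omega) (by omega)
            · skip
              rcases Nat.lt_or_ge i 2417000 with h7 | h7
              · skip
                exact allRangeF_sound _ _ (checkFactF_eq cert) 2416000 1000 chkF_2416000 i (by omega) (by omega)
              · skip
                exact allRangeF_sound _ _ (checkFactF_eq cert) 2417000 1000 chkF_2417000 i (by omega) (by omega)
        · skip
          rcases Nat.lt_or_ge i 2421000 with h5 | h5
          · skip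
            rcases Nat.lt_or_ge i 2419000 with h6 | h6
            · skip
              exact allRangeF_sound _ _ (checkFactF_eq cert) 2418000 1000 chkF_2418000 i (by omega) (by omega)
            · skip
              rcases Nat.lt_or_ge i 2420000 with h7 | h7
              · skip
                exact allRangeF_sound _ _ (checkFactF_eq cert) 2419000 1000 chkF_2419000 i (by omega) (by omega)
              · skip
                exact allRangeF_sound _ _ (checkFactF_eq cert) 2420000 1000 chkF_2420000 i (by omega) (by omega)
          · skip
            rcases Nat.lt_or_ge i 2423000 with h6 | h6
            · skip
              rcases Nat.lt_or_ge i 2422000 with h7 | h7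
              · skip
                exact allRangeF_sound _ _ (checkFactF_eq cert) 2421000 1000 chkF_2421000 i (by omega) (by omega)
              · skip
                exact allRangeF_sound _ _ (checkFactF_eq cert) 2422000 1000 chkF_2422000 i (by omega) (by omega)
            · skip
              rcases Nat.lt_or_ge i 2424000 with h7 | h7
              · skip
                exact allRangeF_sound _ _ (checkFactF_eq cert) 2423000 1000 chkF_2423000 i (by omega) (by omega)
              · skip
                exact allRangeF_sound _ _ (checkFactF_eq cert) 2424000 1000 chkF_2424000 i (by omega) (by omega)
  · skip
    rcases Nat.lt_or_ge i 2450000 with h2 | h2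
    · skip
      rcases Nat.lt_or_ge i 2437000 with h3 | h3
      · skip
        rcases Nat.lt_or_ge i 2431000 with h4 | h4
        · skip
          rcases Nat.lt_or_ge i 2428000 with h5 | h5
          · skip
            rcases Nat.lt_or_ge i 2426000 with h6 | h6
            · skip
              exact allRangeF_sound _ _ (checkFactF_eq cert) 2425000 1000 chkF_2425000 i (by omega) (by omega)
            · skip
              rcases Nat.lt_or_ge i 2427000 with h7 | h7
              · skip
                exact allRangeF_sound _ _ (checkFactF_eq cert) 2426000 1000 chkF_2426000 i (by omega) (by omega)
              · skip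
                exact allRangeF_sound _ _ (checkFactF_eq cert) 2427000 1000 chkF_2427000 i (by omega) (by omega)
          · skip
            rcases Nat.lt_or_ge i 2429000 with h6 | h6
            · skip
              exact allRangeF_sound _ _ (checkFactF_eq cert) 2428000 1000 chkF_2428000 i (by omega) (by omega)
            · skip
              rcases Nat.lt_or_ge i 2430000 with h7 | h7
              · skip
                exact allRangeF_sound _ _ (checkFactF_eq cert) 2429000 1000 chkF_2429000 i (by omega) (by omega)
              · skip
                exact allRangeF_sound _ _ (checkFactF_eq cert) 2430000 1000 chkF_2430000 i (by omega) (by omega)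
        · skip
          rcases Nat.lt_or_ge i 2434000 with h5 | h5
          · skip
            rcases Nat.lt_or_ge i 2432000 with h6 | h6
            · skip
              exact allRangeF_sound _ _ (checkFactF_eq cert) 2431000 1000 chkF_2431000 i (by omega) (by omega)
            · skip
              rcases Nat.lt_or_ge i 2433000 with h7 | h7
              · skip
                exact allRangeF_sound _ _ (checkFactF_eq cert) 2432000 1000 chkF_2432000 i (by omega) (by omega)
              · skip
                exact allRangeF_sound _ _ (checkFactF_eq cert) 2433000 1000 chkF_2433000 i (by omega) (by omega)
          · skip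
            rcases Nat.lt_or_ge i 2435000 with h6 | h6
            · skip
              exact allRangeF_sound _ _ (checkFactF_eq cert) 2434000 1000 chkF_2434000 i (by omega) (by omega)
            · skip
              rcases Nat.lt_or_ge i 2436000 with h7 | h7
              · skip
                exact allRangeF_sound _ _ (checkFactF_eq cert) 2435000 1000 chkF_2435000 i (by omega) (by omega)
              · skip
                exact allRangeF_sound _ _ (checkFactF_eq cert) 2436000 1000 chkF_2436000 i (by omega) (by omega)
      · skip
        rcases Nat.lt_or_ge i 2443000 with h4 | h4
        · skip
          rcases Nat.lt_or_ge i 2440000 with h5 | h5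
          · skip
            rcases Nat.lt_or_ge i 2438000 with h6 | h6
            · skip
              exact allRangeF_sound _ _ (checkFactF_eq cert) 2437000 1000 chkF_2437000 i (by omega) (by omega)
            · skip
              rcases Nat.lt_or_ge i 2439000 with h7 | h7
              · skip
                exact allRangeF_sound _ _ (checkFactF_eq cert) 2438000 1000 chkF_2438000 i (by omega) (by omega)
              · skip
                exact allRangeF_sound _ _ (checkFactF_eq cert) 2439000 1000 chkF_2439000 i (by omega) (by omega)
          · skip
            rcases Nat.lt_or_ge i 2441000 with h6 | h6
            · skip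
              exact allRangeF_sound _ _ (checkFactF_eq cert) 2440000 1000 chkF_2440000 i (by omega) (by omega)
            · skip
              rcases Nat.lt_or_ge i 2442000 with h7 | h7
              · skip
                exact allRangeF_sound _ _ (checkFactF_eq cert) 2441000 1000 chkF_2441000 i (by omega) (by omega)
              · skip
                exact allRangeF_sound _ _ (checkFactF_eq cert) 2442000 1000 chkF_2442000 i (by omega) (by omega)
        · skip
          rcases Nat.lt_or_ge i 2446000 with h5 | h5
          · skip
            rcases Nat.lt_or_ge i 2444000 with h6 | h6
            · skip
              exact allRangeF_sound _ _ (checkFactF_eq cert) 2443000 1000 chkF_2443000 i (by omega) (by omega)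
            · skip
              rcases Nat.lt_or_ge i 2445000 with h7 | h7
              · skip
                exact allRangeF_sound _ _ (checkFactF_eq cert) 2444000 1000 chkF_2444000 i (by omega) (by omega)
              · skip
                exact allRangeF_sound _ _ (checkFactF_eq cert) 2445000 1000 chkF_2445000 i (by omega) (by omega)
          · skip
            rcases Nat.lt_or_ge i 2448000 with h6 | h6
            · skip
              rcases Nat.lt_or_ge i 2447000 with h7 | h7
              · skip
                exact allRangeF_sound _ _ (checkFactF_eq cert) 2446000 1000 chkF_2446000 i (by omega) (by omega)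
              · skip
                exact allRangeF_sound _ _ (checkFactF_eq cert) 2447000 1000 chkF_2447000 i (by omega) (by omega)
            · skip
              rcases Nat.lt_or_ge i 2449000 with h7 | h7
              · skip
                exact allRangeF_sound _ _ (checkFactF_eq cert) 2448000 1000 chkF_2448000 i (by omega) (by omega)
              · skip
                exact allRangeF_sound _ _ (checkFactF_eq cert) 2449000 1000 chkF_2449000 i (by omega) (by omega)
    · skip
      rcases Nat.lt_or_ge i 2462000 with h3 | h3
      · skip
        rcases Nat.lt_or_ge i 2456000 with h4 | h4
        · skip
          rcases Nat.lt_or_ge i 2453000 with h5 | h5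
          · skip
            rcases Nat.lt_or_ge i 2451000 with h6 | h6
            · skip
              exact allRangeF_sound _ _ (checkFactF_eq cert) 2450000 1000 chkF_2450000 i (by omega) (by omega)
            · skip
              rcases Nat.lt_or_ge i 2452000 with h7 | h7
              · skip
                exact allRangeF_sound _ _ (checkFactF_eq cert) 2451000 1000 chkF_2451000 i (by omega) (by omega)
              · skip
                exact allRangeF_sound _ _ (checkFactF_eq cert) 2452000 1000 chkF_2452000 i (by omega) (by omega)
          · skip
            rcases Nat.lt_or_ge i 2454000 with h6 | h6
            · skip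
              exact allRangeF_sound _ _ (checkFactF_eq cert) 2453000 1000 chkF_2453000 i (by omega) (by omega)
            · skip
              rcases Nat.lt_or_ge i 2455000 with h7 | h7
              · skip
                exact allRangeF_sound _ _ (checkFactF_eq cert) 2454000 1000 chkF_2454000 i (by omega) (by omega)
              · skip
                exact allRangeF_sound _ _ (checkFactF_eq cert) 2455000 1000 chkF_2455000 i (by omega) (by omega)
        · skip
          rcases Nat.lt_or_ge i 2459000 with h5 | h5
          · skip
            rcases Nat.lt_or_ge i 2457000 with h6 | h6
            · skip
              exact allRangeF_sound _ _ (checkFactF_eq cert) 2456000 1000 chkF_2456000 i (by omega) (by omega)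
            · skip
              rcases Nat.lt_or_ge i 2458000 with h7 | h7
              · skip
                exact allRangeF_sound _ _ (checkFactF_eq cert) 2457000 1000 chkF_2457000 i (by omega) (by omega)
              · skip
                exact allRangeF_sound _ _ (checkFactF_eq cert) 2458000 1000 chkF_2458000 i (by omega) (by omega)
          · skip
            rcases Nat.lt_or_ge i 2460000 with h6 | h6
            · skip
              exact allRangeF_sound _ _ (checkFactF_eq cert) 2459000 1000 chkF_2459000 i (by omega) (by omega)
            · skip
              rcases Nat.lt_or_ge i 2461000 with h7 | h7
              · skip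
                exact allRangeF_sound _ _ (checkFactF_eq cert) 2460000 1000 chkF_2460000 i (by omega) (by omega)
              · skip
                exact allRangeF_sound _ _ (checkFactF_eq cert) 2461000 1000 chkF_2461000 i (by omega) (by omega)
      · skip
        rcases Nat.lt_or_ge i 2468000 with h4 | h4
        · skip
          rcases Nat.lt_or_ge i 2465000 with h5 | h5
          · skip
            rcases Nat.lt_or_ge i 2463000 with h6 | h6
            · skip
              exact allRangeF_sound _ _ (checkFactF_eq cert) 2462000 1000 chkF_2462000 i (by omega) (by omega)
            · skip
              rcases Nat.lt_or_ge i 2464000 with h7 | h7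
              · skip
                exact allRangeF_sound _ _ (checkFactF_eq cert) 2463000 1000 chkF_2463000 i (by omega) (by omega)
              · skip
                exact allRangeF_sound _ _ (checkFactF_eq cert) 2464000 1000 chkF_2464000 i (by omega) (by omega)
          · skip
            rcases Nat.lt_or_ge i 2466000 with h6 | h6
            · skip
              exact allRangeF_sound _ _ (checkFactF_eq cert) 2465000 1000 chkF_2465000 i (by omega) (by omega)
            · skip
              rcases Nat.lt_or_ge i 2467000 with h7 | h7
              · skip
                exact allRangeF_sound _ _ (checkFactF_eq cert) 2466000 1000 chkF_2466000 i (by omega) (by omega)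
              · skip
                exact allRangeF_sound _ _ (checkFactF_eq cert) 2467000 1000 chkF_2467000 i (by omega) (by omega)
        · skip
          rcases Nat.lt_or_ge i 2471000 with h5 | h5
          · skip
            rcases Nat.lt_or_ge i 2469000 with h6 | h6
            · skip
              exact allRangeF_sound _ _ (checkFactF_eq cert) 2468000 1000 chkF_2468000 i (by omega) (by omega)
            · skip
              rcases Nat.lt_or_ge i 2470000 with h7 | h7
              · skip
                exact allRangeF_sound _ _ (checkFactF_eq cert) 2469000 1000 chkF_2469000 i (by omega) (by omega)
              · skip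
                exact allRangeF_sound _ _ (checkFactF_eq cert) 2470000 1000 chkF_2470000 i (by omega) (by omega)
          · skip
            rcases Nat.lt_or_ge i 2473000 with h6 | h6
            · skip
              rcases Nat.lt_or_ge i 2472000 with h7 | h7
              · skip
                exact allRangeF_sound _ _ (checkFactF_eq cert) 2471000 1000 chkF_2471000 i (by omega) (by omega)
              · skip
                exact allRangeF_sound _ _ (checkFactF_eq cert) 2472000 1000 chkF_2472000 i (by omega) (by omega)
            · skip
              rcases Nat.lt_or_ge i 2474000 with h7 | h7
              · skip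
                exact allRangeF_sound _ _ (checkFactF_eq cert) 2473000 1000 chkF_2473000 i (by omega) (by omega)
              · skip
                exact allRangeF_sound _ _ (checkFactF_eq cert) 2474000 1000 chkF_2474000 i (by omega) (by omega)

end Cfsg.Agent.Lib.Helper28.Fi24Data
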