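import Cfsg.Agent.Lib.Helper28.Fi24Data
import Cfsg.Agent.Lib.Helper28.TCFastFB

set_option autoImplicit false
set_option maxRecDepth 1000000
set_option linter.all false
set_option Elab.async false

namespace Cfsg.Agent.Lib.Helper28.Fi24Data

open Cfsg.Agent.Lib.Helper28B

theorem chkF_2475000 : allRangeF (checkFactF cert) (nat_lit 2475000) (nat_lit 1000) = true := by decide +kernel
theorem chkF_2476000 : allRangeF (checkFactF cert) (nat_lit 2476000) (nat_lit 1000) = true := by decide +kernel
theorem chkF_2477000 : allRangeF (checkFactF cert) (nat_lit 2477000) (nat_lit 1000) = true := by decide +kernel
theorem chkF_2478000 : allRangeF (checkFactF cert) (nat_lit 2478000) (nat_lit 1000) = true := by decide +kernel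
theorem chkF_2479000 : allRangeF (checkFactF cert) (nat_lit 2479000) (nat_lit 1000) = true := by decide +kernel
theorem chkF_2480000 : allRangeF (checkFactF cert) (nat_lit 2480000) (nat_lit 1000) = true := by decide +kernel
theorem chkF_2481000 : allRangeF (checkFactF cert) (nat_lit 2481000) (nat_lit 1000) = true := by decide +kernel
theorem chkF_2482000 : allRangeF (checkFactF cert) (nat_lit 2482000) (nat_lit 1000) = true := by decide +kernel
theorem chkF_2483000 : allRangeF (checkFactF cert) (nat_lit 2483000) (nat_lit 1000) = true := by decide +kernel
theorem chkF_2484000 : allRangeF (checkFactF cert) (nat_lit 2484000) (nat_lit 1000) = true := by decide +kernel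
theorem chkF_2485000 : allRangeF (checkFactF cert) (nat_lit 2485000) (nat_lit 1000) = true := by decide +kernel
theorem chkF_2486000 : allRangeF (checkFactF cert) (nat_lit 2486000) (nat_lit 1000) = true := by decide +kernel
theorem chkF_2487000 : allRangeF (checkFactF cert) (nat_lit 2487000) (nat_lit 1000) = true := by decide +kernel
theorem chkF_2488000 : allRangeF (checkFactF cert) (nat_lit 2488000) (nat_lit 1000) = true := by decide +kernel
theorem chkF_2489000 : allRangeF (checkFactF cert) (nat_lit 2489000) (nat_lit 1000) = true := by decide +kernel
theorem chkF_2490000 : allRangeF (checkFactF cert) (nat_lit 2490000) (nat_lit 1000) = true := by decide +kernel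
theorem chkF_2491000 : allRangeF (checkFactF cert) (nat_lit 2491000) (nat_lit 1000) = true := by decide +kernel
theorem chkF_2492000 : allRangeF (checkFactF cert) (nat_lit 2492000) (nat_lit 1000) = true := by decide +kernel
theorem chkF_2493000 : allRangeF (checkFactF cert) (nat_lit 2493000) (nat_lit 1000) = true := by decide +kernel
theorem chkF_2494000 : allRangeF (checkFactF cert) (nat_lit 2494000) (nat_lit 1000) = true := by decide +kernel
theorem chkF_2495000 : allRangeF (checkFactF cert) (nat_lit 2495000) (nat_lit 1000) = true := by decide +kernel
theorem chkF_2496000 : allRangeF (checkFactF cert) (nat_lit 2496000) (nat_lit 1000) = true := by decide +kernel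
theorem chkF_2497000 : allRangeF (checkFactF cert) (nat_lit 2497000) (nat_lit 1000) = true := by decide +kernel
theorem chkF_2498000 : allRangeF (checkFactF cert) (nat_lit 2498000) (nat_lit 1000) = true := by decide +kernel
theorem chkF_2499000 : allRangeF (checkFactF cert) (nat_lit 2499000) (nat_lit 1000) = true := by decide +kernel
theorem chkF_2500000 : allRangeF (checkFactF cert) (nat_lit 2500000) (nat_lit 1000) = true := by decide +kernel
theorem chkF_2501000 : allRangeF (checkFactF cert) (nat_lit 2501000) (nat_lit 1000) = true := by decide +kernel
theorem chkF_2502000 : allRangeF (checkFactF cert) (nat_lit 2502000) (nat_lit 1000) = true := by decide +kernel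
theorem chkF_2503000 : allRangeF (checkFactF cert) (nat_lit 2503000) (nat_lit 1000) = true := by decide +kernel
theorem chkF_2504000 : allRangeF (checkFactF cert) (nat_lit 2504000) (nat_lit 1000) = true := by decide +kernel
theorem chkF_2505000 : allRangeF (checkFactF cert) (nat_lit 2505000) (nat_lit 1000) = true := by decide +kernel
theorem chkF_2506000 : allRangeF (checkFactF cert) (nat_lit 2506000) (nat_lit 1000) = true := by decide +kernel
theorem chkF_2507000 : allRangeF (checkFactF cert) (nat_lit 2507000) (nat_lit 1000) = true := by decide +kernel
theorem chkF_2508000 : allRangeF (checkFactF cert) (nat_lit 2508000) (nat_lit 1000) = true := by decide +kernel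
theorem chkF_2509000 : allRangeF (checkFactF cert) (nat_lit 2509000) (nat_lit 1000) = true := by decide +kernel
theorem chkF_2510000 : allRangeF (checkFactF cert) (nat_lit 2510000) (nat_lit 1000) = true := by decide +kernel
theorem chkF_2511000 : allRangeF (checkFactF cert) (nat_lit 2511000) (nat_lit 1000) = true := by decide +kernel
theorem chkF_2512000 : allRangeF (checkFactF cert) (nat_lit 2512000) (nat_lit 1000) = true := by decide +kernel
theorem chkF_2513000 : allRangeF (checkFactF cert) (nat_lit 2513000) (nat_lit 1000) = true := by decide +kernel
theorem chkF_2514000 : allRangeF (checkFactF cert) (nat_lit 2514000) (nat_lit 1000) = true := by decide +kernel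
theorem chkF_2515000 : allRangeF (checkFactF cert) (nat_lit 2515000) (nat_lit 1000) = true := by decide +kernel
theorem chkF_2516000 : allRangeF (checkFactF cert) (nat_lit 2516000) (nat_lit 1000) = true := by decide +kernel
theorem chkF_2517000 : allRangeF (checkFactF cert) (nat_lit 2517000) (nat_lit 1000) = true := by decide +kernel
theorem chkF_2518000 : allRangeF (checkFactF cert) (nat_lit 2518000) (nat_lit 1000) = true := by decide +kernel
theorem chkF_2519000 : allRangeF (checkFactF cert) (nat_lit 2519000) (nat_lit 1000) = true := by decide +kernel
theorem chkF_2520000 : allRangeF (checkFactF cert) (nat_lit 2520000) (nat_lit 1000) = true := by decide +kernel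
theorem chkF_2521000 : allRangeF (checkFactF cert) (nat_lit 2521000) (nat_lit 1000) = true := by decide +kernel
theorem chkF_2522000 : allRangeF (checkFactF cert) (nat_lit 2522000) (nat_lit 1000) = true := by decide +kernel
theorem chkF_2523000 : allRangeF (checkFactF cert) (nat_lit 2523000) (nat_lit 1000) = true := by decide +kernel
theorem chkF_2524000 : allRangeF (checkFactF cert) (nat_lit 2524000) (nat_lit 1000) = true := by decide +kernel
theorem chkF_2525000 : allRangeF (checkFactF cert) (nat_lit 2525000) (nat_lit 1000) = true := by decide +kernel
theorem chkF_2526000 : allRangeF (checkFactF cert) (nat_lit 2526000) (nat_lit 1000) = true := by decide +kernel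
theorem chkF_2527000 : allRangeF (checkFactF cert) (nat_lit 2527000) (nat_lit 1000) = true := by decide +kernel
theorem chkF_2528000 : allRangeF (checkFactF cert) (nat_lit 2528000) (nat_lit 1000) = true := by decide +kernel
theorem chkF_2529000 : allRangeF (checkFactF cert) (nat_lit 2529000) (nat_lit 1000) = true := by decide +kernel
theorem chkF_2530000 : allRangeF (checkFactF cert) (nat_lit 2530000) (nat_lit 1000) = true := by decide +kernel
theorem chkF_2531000 : allRangeF (checkFactF cert) (nat_lit 2531000) (nat_lit 1000) = true := by decide +kernel
theorem chkF_2532000 : allRangeF (checkFactF cert) (nat_lit 2532000) (nat_lit 1000) = true := by decide +kernel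
theorem chkF_2533000 : allRangeF (checkFactF cert) (nat_lit 2533000) (nat_lit 1000) = true := by decide +kernel
theorem chkF_2534000 : allRangeF (checkFactF cert) (nat_lit 2534000) (nat_lit 1000) = true := by decide +kernel
theorem chkF_2535000 : allRangeF (checkFactF cert) (nat_lit 2535000) (nat_lit 1000) = true := by decide +kernel
theorem chkF_2536000 : allRangeF (checkFactF cert) (nat_lit 2536000) (nat_lit 1000) = true := by decide +kernel
theorem chkF_2537000 : allRangeF (checkFactF cert) (nat_lit 2537000) (nat_lit 1000) = true := by decide +kernel
theorem chkF_2538000 : allRangeF (checkFactF cert) (nat_lit 2538000) (nat_lit 1000) = true := by decide +kernel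
theorem chkF_2539000 : allRangeF (checkFactF cert) (nat_lit 2539000) (nat_lit 1000) = true := by decide +kernel
theorem chkF_2540000 : allRangeF (checkFactF cert) (nat_lit 2540000) (nat_lit 1000) = true := by decide +kernel
theorem chkF_2541000 : allRangeF (checkFactF cert) (nat_lit 2541000) (nat_lit 1000) = true := by decide +kernel
theorem chkF_2542000 : allRangeF (checkFactF cert) (nat_lit 2542000) (nat_lit 1000) = true := by decide +kernel
theorem chkF_2543000 : allRangeF (checkFactF cert) (nat_lit 2543000) (nat_lit 1000) = true := by decide +kernel
theorem chkF_2544000 : allRangeF (checkFactF cert) (nat_lit 2544000) (nat_lit 1000) = true := by decide +kernel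
theorem chkF_2545000 : allRangeF (checkFactF cert) (nat_lit 2545000) (nat_lit 1000) = true := by decide +kernel
theorem chkF_2546000 : allRangeF (checkFactF cert) (nat_lit 2546000) (nat_lit 1000) = true := by decide +kernel
theorem chkF_2547000 : allRangeF (checkFactF cert) (nat_lit 2547000) (nat_lit 1000) = true := by decide +kernel
theorem chkF_2548000 : allRangeF (checkFactF cert) (nat_lit 2548000) (nat_lit 1000) = true := by decide +kernel
theorem chkF_2549000 : allRangeF (checkFactF cert) (nat_lit 2549000) (nat_lit 1000) = true := by decide +kernel
theorem chkF_2550000 : allRangeF (checkFactF cert) (nat_lit 2550000) (nat_lit 1000) = true := by decide +kernel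
theorem chkF_2551000 : allRangeF (checkFactF cert) (nat_lit 2551000) (nat_lit 1000) = true := by decide +kernel
theorem chkF_2552000 : allRangeF (checkFactF cert) (nat_lit 2552000) (nat_lit 1000) = true := by decide +kernel
theorem chkF_2553000 : allRangeF (checkFactF cert) (nat_lit 2553000) (nat_lit 1000) = true := by decide +kernel
theorem chkF_2554000 : allRangeF (checkFactF cert) (nat_lit 2554000) (nat_lit 1000) = true := by decide +kernel
theorem chkF_2555000 : allRangeF (checkFactF cert) (nat_lit 2555000) (nat_lit 1000) = true := by decide +kernel
theorem chkF_2556000 : allRangeF (checkFactF cert) (nat_lit 2556000) (nat_lit 1000) = true := by decide +kernel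
theorem chkF_2557000 : allRangeF (checkFactF cert) (nat_lit 2557000) (nat_lit 1000) = true := by decide +kernel
theorem chkF_2558000 : allRangeF (checkFactF cert) (nat_lit 2558000) (nat_lit 1000) = true := by decide +kernel
theorem chkF_2559000 : allRangeF (checkFactF cert) (nat_lit 2559000) (nat_lit 1000) = true := by decide +kernel
theorem chkF_2560000 : allRangeF (checkFactF cert) (nat_lit 2560000) (nat_lit 1000) = true := by decide +kernel
theorem chkF_2561000 : allRangeF (checkFactF cert) (nat_lit 2561000) (nat_lit 1000) = true := by decide +kernel
theorem chkF_2562000 : allRangeF (checkFactF cert) (nat_lit 2562000) (nat_lit 1000) = true := by decide +kernel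
theorem chkF_2563000 : allRangeF (checkFactF cert) (nat_lit 2563000) (nat_lit 1000) = true := by decide +kernel
theorem chkF_2564000 : allRangeF (checkFactF cert) (nat_lit 2564000) (nat_lit 1000) = true := by decide +kernel
theorem chkF_2565000 : allRangeF (checkFactF cert) (nat_lit 2565000) (nat_lit 1000) = true := by decide +kernel
theorem chkF_2566000 : allRangeF (checkFactF cert) (nat_lit 2566000) (nat_lit 1000) = true := by decide +kernel
theorem chkF_2567000 : allRangeF (checkFactF cert) (nat_lit 2567000) (nat_lit 1000) = true := by decide +kernel
theorem chkF_2568000 : allRangeF (checkFactF cert) (nat_lit 2568000) (nat_lit 1000) = true := by decide +kernel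
theorem chkF_2569000 : allRangeF (checkFactF cert) (nat_lit 2569000) (nat_lit 1000) = true := by decide +kernel
theorem chkF_2570000 : allRangeF (checkFactF cert) (nat_lit 2570000) (nat_lit 1000) = true := by decide +kernel
theorem chkF_2571000 : allRangeF (checkFactF cert) (nat_lit 2571000) (nat_lit 1000) = true := by decide +kernel
theorem chkF_2572000 : allRangeF (checkFactF cert) (nat_lit 2572000) (nat_lit 1000) = true := by decide +kernel
theorem chkF_2573000 : allRangeF (checkFactF cert) (nat_lit 2573000) (nat_lit 1000) = true := by decide +kernel

theorem factsRange_25 : ∀ i, 2475000 ≤ i → i < 2574000 → checkFact cert i = true := by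
  intro i hlo hhi
  rcases Nat.lt_or_ge i 2524000 with h1 | h1
  · skip
    rcases Nat.lt_or_ge i 2499000 with h2 | h2
    · skip
      rcases Nat.lt_or_ge i 2487000 with h3 | h3
      · skip
        rcases Nat.lt_or_ge i 2481000 with h4 | h4
        · skip
          rcases Nat.lt_or_ge i 2478000 with h5 | h5
          · skip
            rcases Nat.lt_or_ge i 2476000 with h6 | h6
            · skip
              exact allRangeF_sound _ _ (checkFactF_eq cert) 2475000 1000 chkF_2475000 i (by omega) (by omega)
            · skip
              rcases Nat.lt_or_ge i 2477000 with h7 | h7
              · skip
                exact allRangeF_sound _ _ (checkFactF_eq cert) 2476000 1000 chkF_2476000 i (by omega) (by omega)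
              · skip
                exact allRangeF_sound _ _ (checkFactF_eq cert) 2477000 1000 chkF_2477000 i (by omega) (by omega)
          · skip
            rcases Nat.lt_or_ge i 2479000 with h6 | h6
            · skip
              exact allRangeF_sound _ _ (checkFactF_eq cert) 2478000 1000 chkF_2478000 i (by omega) (by omega)
            · skip
              rcases Nat.lt_or_ge i 2480000 with h7 | h7
              · skip
                exact allRangeF_sound _ _ (checkFactF_eq cert) 2479000 1000 chkF_2479000 i (by omega) (by omega)
              · skip
                exact allRangeF_sound _ _ (checkFactF_eq cert) 2480000 1000 chkF_2480000 i (by omega) (by omega)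
        · skip
          rcases Nat.lt_or_ge i 2484000 with h5 | h5
          · skip
            rcases Nat.lt_or_ge i 2482000 with h6 | h6
            · skip
              exact allRangeF_sound _ _ (checkFactF_eq cert) 2481000 1000 chkF_2481000 i (by omega) (by omega)
            · skip
              rcases Nat.lt_or_ge i 2483000 with h7 | h7
              · skip
                exact allRangeF_sound _ _ (checkFactF_eq cert) 2482000 1000 chkF_2482000 i (by omega) (by omega)
              · skip
                exact allRangeF_sound _ _ (checkFactF_eq cert) 2483000 1000 chkF_2483000 i (by omega) (by omega)
          · skip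
            rcases Nat.lt_or_ge i 2485000 with h6 | h6
            · skip
              exact allRangeF_sound _ _ (checkFactF_eq cert) 2484000 1000 chkF_2484000 i (by omega) (by omega)
            · skip
              rcases Nat.lt_or_ge i 2486000 with h7 | h7
              · skip
                exact allRangeF_sound _ _ (checkFactF_eq cert) 2485000 1000 chkF_2485000 i (by omega) (by omega)
              · skip
                exact allRangeF_sound _ _ (checkFactF_eq cert) 2486000 1000 chkF_2486000 i (by omega) (by omega)
      · skip
        rcases Nat.lt_or_ge i 2493000 with h4 | h4
        · skip
          rcases Nat.lt_or_ge i 2490000 with h5 | h5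
          · skip
            rcases Nat.lt_or_ge i 2488000 with h6 | h6
            · skip
              exact allRangeF_sound _ _ (checkFactF_eq cert) 2487000 1000 chkF_2487000 i (by omega) (by omega)
            · skip
              rcases Nat.lt_or_ge i 2489000 with h7 | h7
              · skip
                exact allRangeF_sound _ _ (checkFactF_eq cert) 2488000 1000 chkF_2488000 i (by omega) (by omega)
              · skip
                exact allRangeF_sound _ _ (checkFactF_eq cert) 2489000 1000 chkF_2489000 i (by omega) (by omega)
          · skip
            rcases Nat.lt_or_ge i 2491000 with h6 | h6
            · skip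
              exact allRangeF_sound _ _ (checkFactF_eq cert) 2490000 1000 chkF_2490000 i (by omega) (by omega)
            · skip
              rcases Nat.lt_or_ge i 2492000 with h7 | h7
              · skip
                exact allRangeF_sound _ _ (checkFactF_eq cert) 2491000 1000 chkF_2491000 i (by omega) (by omega)
              · skip
                exact allRangeF_sound _ _ (checkFactF_eq cert) 2492000 1000 chkF_2492000 i (by omega) (by omega)
        · skip
          rcases Nat.lt_or_ge i 2496000 with h5 | h5
          · skip
            rcases Nat.lt_or_ge i 2494000 with h6 | h6
            · skip
              exact allRangeF_sound _ _ (checkFactF_eq cert) 2493000 1000 chkF_2493000 i (by omega) (by omega)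
            · skip
              rcases Nat.lt_or_ge i 2495000 with h7 | h7
              · skip
                exact allRangeF_sound _ _ (checkFactF_eq cert) 2494000 1000 chkF_2494000 i (by omega) (by omega)
              · skip
                exact allRangeF_sound _ _ (checkFactF_eq cert) 2495000 1000 chkF_2495000 i (by omega) (by omega)
          · skip
            rcases Nat.lt_or_ge i 2497000 with h6 | h6
            · skip
              exact allRangeF_sound _ _ (checkFactF_eq cert) 2496000 1000 chkF_2496000 i (by omega) (by omega)
            · skip
              rcases Nat.lt_or_ge i 2498000 with h7 | h7
              · skip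
                exact allRangeF_sound _ _ (checkFactF_eq cert) 2497000 1000 chkF_2497000 i (by omega) (by omega)
              · skip
                exact allRangeF_sound _ _ (checkFactF_eq cert) 2498000 1000 chkF_2498000 i (by omega) (by omega)
    · skip
      rcases Nat.lt_or_ge i 2511000 with h3 | h3
      · skip
        rcases Nat.lt_or_ge i 2505000 with h4 | h4
        · skip
          rcases Nat.lt_or_ge i 2502000 with h5 | h5
          · skip
            rcases Nat.lt_or_ge i 2500000 with h6 | h6
            · skip
              exact allRangeF_sound _ _ (checkFactF_eq cert) 2499000 1000 chkF_2499000 i (by omega) (by omega)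
            · skip
              rcases Nat.lt_or_ge i 2501000 with h7 | h7
              · skip
                exact allRangeF_sound _ _ (checkFactF_eq cert) 2500000 1000 chkF_2500000 i (by omega) (by omega)
              · skip
                exact allRangeF_sound _ _ (checkFactF_eq cert) 2501000 1000 chkF_2501000 i (by omega) (by omega)
          · skip
            rcases Nat.lt_or_ge i 2503000 with h6 | h6
            · skip
              exact allRangeF_sound _ _ (checkFactF_eq cert) 2502000 1000 chkF_2502000 i (by omega) (by omega)
            · skip
              rcases Nat.lt_or_ge i 2504000 with h7 | h7
              · skip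
                exact allRangeF_sound _ _ (checkFactF_eq cert) 2503000 1000 chkF_2503000 i (by omega) (by omega)
              · skip
                exact allRangeF_sound _ _ (checkFactF_eq cert) 2504000 1000 chkF_2504000 i (by omega) (by omega)
        · skip
          rcases Nat.lt_or_ge i 2508000 with h5 | h5
          · skip
            rcases Nat.lt_or_ge i 2506000 with h6 | h6
            · skip
              exact allRangeF_sound _ _ (checkFactF_eq cert) 2505000 1000 chkF_2505000 i (by omega) (by omega)
            · skip
              rcases Nat.lt_or_ge i 2507000 with h7 | h7
              · skip
                exact allRangeF_sound _ _ (checkFactF_eq cert) 2506000 1000 chkF_2506000 i (by omega) (by omega)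
              · skip
                exact allRangeF_sound _ _ (checkFactF_eq cert) 2507000 1000 chkF_2507000 i (by omega) (by omega)
          · skip
            rcases Nat.lt_or_ge i 2509000 with h6 | h6
            · skip
              exact allRangeF_sound _ _ (checkFactF_eq cert) 2508000 1000 chkF_2508000 i (by omega) (by omega)
            · skip
              rcases Nat.lt_or_ge i 2510000 with h7 | h7
              · skip
                exact allRangeF_sound _ _ (checkFactF_eq cert) 2509000 1000 chkF_2509000 i (by omega) (by omega)
              · skip
                exact allRangeF_sound _ _ (checkFactF_eq cert) 2510000 1000 chkF_2510000 i (by omega) (by omega)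
      · skip
        rcases Nat.lt_or_ge i 2517000 with h4 | h4
        · skip
          rcases Nat.lt_or_ge i 2514000 with h5 | h5
          · skip
            rcases Nat.lt_or_ge i 2512000 with h6 | h6
            · skip
              exact allRangeF_sound _ _ (checkFactF_eq cert) 2511000 1000 chkF_2511000 i (by omega) (by omega)
            · skip
              rcases Nat.lt_or_ge i 2513000 with h7 | h7
              · skip
                exact allRangeF_sound _ _ (checkFactF_eq cert) 2512000 1000 chkF_2512000 i (by omega) (by omega)
              · skip
                exact allRangeF_sound _ _ (checkFactF_eq cert) 2513000 1000 chkF_2513000 i (by omega) (by omega)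
          · skip
            rcases Nat.lt_or_ge i 2515000 with h6 | h6
            · skip
              exact allRangeF_sound _ _ (checkFactF_eq cert) 2514000 1000 chkF_2514000 i (by omega) (by omega)
            · skip
              rcases Nat.lt_or_ge i 2516000 with h7 | h7
              · skip
                exact allRangeF_sound _ _ (checkFactF_eq cert) 2515000 1000 chkF_2515000 i (by omega) (by omega)
              · skip
                exact allRangeF_sound _ _ (checkFactF_eq cert) 2516000 1000 chkF_2516000 i (by omega) (by omega)
        · skip
          rcases Nat.lt_or_ge i 2520000 with h5 | h5
          · skip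
            rcases Nat.lt_or_ge i 2518000 with h6 | h6
            · skip
              exact allRangeF_sound _ _ (checkFactF_eq cert) 2517000 1000 chkF_2517000 i (by omega) (by omega)
            · skip
              rcases Nat.lt_or_ge i 2519000 with h7 | h7
              · skip
                exact allRangeF_sound _ _ (checkFactF_eq cert) 2518000 1000 chkF_2518000 i (by omega) (by omega)
              · skip
                exact allRangeF_sound _ _ (checkFactF_eq cert) 2519000 1000 chkF_2519000 i (by omega) (by omega)
          · skip
            rcases Nat.lt_or_ge i 2522000 with h6 | h6
            · skip
              rcases Nat.lt_or_ge i 2521000 with h7 | h7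
              · skip
                exact allRangeF_sound _ _ (checkFactF_eq cert) 2520000 1000 chkF_2520000 i (by omega) (by omega)
              · skip
                exact allRangeF_sound _ _ (checkFactF_eq cert) 2521000 1000 chkF_2521000 i (by omega) (by omega)
            · skip
              rcases Nat.lt_or_ge i 2523000 with h7 | h7
              · skip
                exact allRangeF_sound _ _ (checkFactF_eq cert) 2522000 1000 chkF_2522000 i (by omega) (by omega)
              · skip
                exact allRangeF_sound _ _ (checkFactF_eq cert) 2523000 1000 chkF_2523000 i (by omega) (by omega)
  · skip
    rcases Nat.lt_or_ge i 2549000 with h2 | h2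
    · skip
      rcases Nat.lt_or_ge i 2536000 with h3 | h3
      · skip
        rcases Nat.lt_or_ge i 2530000 with h4 | h4
        · skip
          rcases Nat.lt_or_ge i 2527000 with h5 | h5
          · skip
            rcases Nat.lt_or_ge i 2525000 with h6 | h6
            · skip
              exact allRangeF_sound _ _ (checkFactF_eq cert) 2524000 1000 chkF_2524000 i (by omega) (by omega)
            · skip
              rcases Nat.lt_or_ge i 2526000 with h7 | h7
              · skip
                exact allRangeF_sound _ _ (checkFactF_eq cert) 2525000 1000 chkF_2525000 i (by omega) (by omega)
              · skip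
                exact allRangeF_sound _ _ (checkFactF_eq cert) 2526000 1000 chkF_2526000 i (by omega) (by omega)
          · skip
            rcases Nat.lt_or_ge i 2528000 with h6 | h6
            · skip
              exact allRangeF_sound _ _ (checkFactF_eq cert) 2527000 1000 chkF_2527000 i (by omega) (by omega)
            · skip
              rcases Nat.lt_or_ge i 2529000 with h7 | h7
              · skip
                exact allRangeF_sound _ _ (checkFactF_eq cert) 2528000 1000 chkF_2528000 i (by omega) (by omega)
              · skip
                exact allRangeF_sound _ _ (checkFactF_eq cert) 2529000 1000 chkF_2529000 i (by omega) (by omega)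
        · skip
          rcases Nat.lt_or_ge i 2533000 with h5 | h5
          · skip
            rcases Nat.lt_or_ge i 2531000 with h6 | h6
            · skip
              exact allRangeF_sound _ _ (checkFactF_eq cert) 2530000 1000 chkF_2530000 i (by omega) (by omega)
            · skip
              rcases Nat.lt_or_ge i 2532000 with h7 | h7
              · skip
                exact allRangeF_sound _ _ (checkFactF_eq cert) 2531000 1000 chkF_2531000 i (by omega) (by omega)
              · skip
                exact allRangeF_sound _ _ (checkFactF_eq cert) 2532000 1000 chkF_2532000 i (by omega) (by omega)
          · skip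
            rcases Nat.lt_or_ge i 2534000 with h6 | h6
            · skip
              exact allRangeF_sound _ _ (checkFactF_eq cert) 2533000 1000 chkF_2533000 i (by omega) (by omega)
            · skip
              rcases Nat.lt_or_ge i 2535000 with h7 | h7
              · skip
                exact allRangeF_sound _ _ (checkFactF_eq cert) 2534000 1000 chkF_2534000 i (by omega) (by omega)
              · skip
                exact allRangeF_sound _ _ (checkFactF_eq cert) 2535000 1000 chkF_2535000 i (by omega) (by omega)
      · skip
        rcases Nat.lt_or_ge i 2542000 with h4 | h4
        · skip
          rcases Nat.lt_or_ge i 2539000 with h5 | h5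
          · skip
            rcases Nat.lt_or_ge i 2537000 with h6 | h6
            · skip
              exact allRangeF_sound _ _ (checkFactF_eq cert) 2536000 1000 chkF_2536000 i (by omega) (by omega)
            · skip
              rcases Nat.lt_or_ge i 2538000 with h7 | h7
              · skip
                exact allRangeF_sound _ _ (checkFactF_eq cert) 2537000 1000 chkF_2537000 i (by omega) (by omega)
              · skip
                exact allRangeF_sound _ _ (checkFactF_eq cert) 2538000 1000 chkF_2538000 i (by omega) (by omega)
          · skip
            rcases Nat.lt_or_ge i 2540000 with h6 | h6
            · skip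
              exact allRangeF_sound _ _ (checkFactF_eq cert) 2539000 1000 chkF_2539000 i (by omega) (by omega)
            · skip
              rcases Nat.lt_or_ge i 2541000 with h7 | h7
              · skip
                exact allRangeF_sound _ _ (checkFactF_eq cert) 2540000 1000 chkF_2540000 i (by omega) (by omega)
              · skip
                exact allRangeF_sound _ _ (checkFactF_eq cert) 2541000 1000 chkF_2541000 i (by omega) (by omega)
        · skip
          rcases Nat.lt_or_ge i 2545000 with h5 | h5
          · skip
            rcases Nat.lt_or_ge i 2543000 with h6 | h6
            · skip
              exact allRangeF_sound _ _ (checkFactF_eq cert) 2542000 1000 chkF_2542000 i (by omega) (by omega)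
            · skip
              rcases Nat.lt_or_ge i 2544000 with h7 | h7
              · skip
                exact allRangeF_sound _ _ (checkFactF_eq cert) 2543000 1000 chkF_2543000 i (by omega) (by omega)
              · skip
                exact allRangeF_sound _ _ (checkFactF_eq cert) 2544000 1000 chkF_2544000 i (by omega) (by omega)
          · skip
            rcases Nat.lt_or_ge i 2547000 with h6 | h6
            · skip
              rcases Nat.lt_or_ge i 2546000 with h7 | h7
              · skip
                exact allRangeF_sound _ _ (checkFactF_eq cert) 2545000 1000 chkF_2545000 i (by omega) (by omega)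
              · skip
                exact allRangeF_sound _ _ (checkFactF_eq cert) 2546000 1000 chkF_2546000 i (by omega) (by omega)
            · skip
              rcases Nat.lt_or_ge i 2548000 with h7 | h7
              · skip
                exact allRangeF_sound _ _ (checkFactF_eq cert) 2547000 1000 chkF_2547000 i (by omega) (by omega)
              · skip
                exact allRangeF_sound _ _ (checkFactF_eq cert) 2548000 1000 chkF_2548000 i (by omega) (by omega)
    · skip
      rcases Nat.lt_or_ge i 2561000 with h3 | h3
      · skip
        rcases Nat.lt_or_ge i 2555000 with h4 | h4
        · skip
          rcases Nat.lt_or_ge i 2552000 with h5 | h5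
          · skip
            rcases Nat.lt_or_ge i 2550000 with h6 | h6
            · skip
              exact allRangeF_sound _ _ (checkFactF_eq cert) 2549000 1000 chkF_2549000 i (by omega) (by omega)
            · skip
              rcases Nat.lt_or_ge i 2551000 with h7 | h7
              · skip
                exact allRangeF_sound _ _ (checkFactF_eq cert) 2550000 1000 chkF_2550000 i (by omega) (by omega)
              · skip
                exact allRangeF_sound _ _ (checkFactF_eq cert) 2551000 1000 chkF_2551000 i (by omega) (by omega)
          · skip
            rcases Nat.lt_or_ge i 2553000 with h6 | h6
            · skip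
              exact allRangeF_sound _ _ (checkFactF_eq cert) 2552000 1000 chkF_2552000 i (by omega) (by omega)
            · skip
              rcases Nat.lt_or_ge i 2554000 with h7 | h7
              · skip
                exact allRangeF_sound _ _ (checkFactF_eq cert) 2553000 1000 chkF_2553000 i (by omega) (by omega)
              · skip
                exact allRangeF_sound _ _ (checkFactF_eq cert) 2554000 1000 chkF_2554000 i (by omega) (by omega)
        · skip
          rcases Nat.lt_or_ge i 2558000 with h5 | h5
          · skip
            rcases Nat.lt_or_ge i 2556000 with h6 | h6
            · skip
              exact allRangeF_sound _ _ (checkFactF_eq cert) 2555000 1000 chkF_2555000 i (by omega) (by omega)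
            · skip
              rcases Nat.lt_or_ge i 2557000 with h7 | h7
              · skip
                exact allRangeF_sound _ _ (checkFactF_eq cert) 2556000 1000 chkF_2556000 i (by omega) (by omega)
              · skip
                exact allRangeF_sound _ _ (checkFactF_eq cert) 2557000 1000 chkF_2557000 i (by omega) (by omega)
          · skip
            rcases Nat.lt_or_ge i 2559000 with h6 | h6
            · skip
              exact allRangeF_sound _ _ (checkFactF_eq cert) 2558000 1000 chkF_2558000 i (by omega) (by omega)
            · skip
              rcases Nat.lt_or_ge i 2560000 with h7 | h7
              · skip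
                exact allRangeF_sound _ _ (checkFactF_eq cert) 2559000 1000 chkF_2559000 i (by omega) (by omega)
              · skip
                exact allRangeF_sound _ _ (checkFactF_eq cert) 2560000 1000 chkF_2560000 i (by omega) (by omega)
      · skip
        rcases Nat.lt_or_ge i 2567000 with h4 | h4
        · skip
          rcases Nat.lt_or_ge i 2564000 with h5 | h5
          · skip
            rcases Nat.lt_or_ge i 2562000 with h6 | h6
            · skip
              exact allRangeF_sound _ _ (checkFactF_eq cert) 2561000 1000 chkF_2561000 i (by omega) (by omega)
            · skip
              rcases Nat.lt_or_ge i 2563000 with h7 | h7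
              · skip
                exact allRangeF_sound _ _ (checkFactF_eq cert) 2562000 1000 chkF_2562000 i (by omega) (by omega)
              · skip
                exact allRangeF_sound _ _ (checkFactF_eq cert) 2563000 1000 chkF_2563000 i (by omega) (by omega)
          · skip
            rcases Nat.lt_or_ge i 2565000 with h6 | h6
            · skip
              exact allRangeF_sound _ _ (checkFactF_eq cert) 2564000 1000 chkF_2564000 i (by omega) (by omega)
            · skip
              rcases Nat.lt_or_ge i 2566000 with h7 | h7
              · skip
                exact allRangeF_sound _ _ (checkFactF_eq cert) 2565000 1000 chkF_2565000 i (by omega) (by omega)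
              · skip
                exact allRangeF_sound _ _ (checkFactF_eq cert) 2566000 1000 chkF_2566000 i (by omega) (by omega)
        · skip
          rcases Nat.lt_or_ge i 2570000 with h5 | h5
          · skip
            rcases Nat.lt_or_ge i 2568000 with h6 | h6
            · skip
              exact allRangeF_sound _ _ (checkFactF_eq cert) 2567000 1000 chkF_2567000 i (by omega) (by omega)
            · skip
              rcases Nat.lt_or_ge i 2569000 with h7 | h7
              · skip
                exact allRangeF_sound _ _ (checkFactF_eq cert) 2568000 1000 chkF_2568000 i (by omega) (by omega)
              · skip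
                exact allRangeF_sound _ _ (checkFactF_eq cert) 2569000 1000 chkF_2569000 i (by omega) (by omega)
          · skip
            rcases Nat.lt_or_ge i 2572000 with h6 | h6
            · skip
              rcases Nat.lt_or_ge i 2571000 with h7 | h7
              · skip
                exact allRangeF_sound _ _ (checkFactF_eq cert) 2570000 1000 chkF_2570000 i (by omega) (by omega)
              · skip
                exact allRangeF_sound _ _ (checkFactF_eq cert) 2571000 1000 chkF_2571000 i (by omega) (by omega)
            · skip
              rcases Nat.lt_or_ge i 2573000 with h7 | h7
              · skip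
                exact allRangeF_sound _ _ (checkFactF_eq cert) 2572000 1000 chkF_2572000 i (by omega) (by omega)
              · skip
                exact allRangeF_sound _ _ (checkFactF_eq cert) 2573000 1000 chkF_2573000 i (by omega) (by omega)

end Cfsg.Agent.Lib.Helper28.Fi24Data
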