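import Cfsg.Agent.Lib.Helper28.Fi24Data
import Cfsg.Agent.Lib.Helper28.TCFastFB

set_option autoImplicit false
set_option maxRecDepth 1000000
set_option linter.all false
set_option Elab.async false

namespace Cfsg.Agent.Lib.Helper28.Fi24Data

open Cfsg.Agent.Lib.Helper28B

theorem chkF_2574000 : allRangeF (checkFactF cert) (nat_lit 2574000) (nat_lit 1000) = true := by decide +kernel
theorem chkF_2575000 : allRangeF (checkFactF cert) (nat_lit 2575000) (nat_lit 1000) = true := by decide +kernel
theorem chkF_2576000 : allRangeF (checkFactF cert) (nat_lit 2576000) (nat_lit 1000) = true := by decide +kernel
theorem chkF_2577000 : allRangeF (checkFactF cert) (nat_lit 2577000) (nat_lit 1000) = true := by decide +kernel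
theorem chkF_2578000 : allRangeF (checkFactF cert) (nat_lit 2578000) (nat_lit 1000) = true := by decide +kernel
theorem chkF_2579000 : allRangeF (checkFactF cert) (nat_lit 2579000) (nat_lit 1000) = true := by decide +kernel
theorem chkF_2580000 : allRangeF (checkFactF cert) (nat_lit 2580000) (nat_lit 1000) = true := by decide +kernel
theorem chkF_2581000 : allRangeF (checkFactF cert) (nat_lit 2581000) (nat_lit 1000) = true := by decide +kernel
theorem chkF_2582000 : allRangeF (checkFactF cert) (nat_lit 2582000) (nat_lit 1000) = true := by decide +kernel
theorem chkF_2583000 : allRangeF (checkFactF cert) (nat_lit 2583000) (nat_lit 1000) = true := by decide +kernel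
theorem chkF_2584000 : allRangeF (checkFactF cert) (nat_lit 2584000) (nat_lit 1000) = true := by decide +kernel
theorem chkF_2585000 : allRangeF (checkFactF cert) (nat_lit 2585000) (nat_lit 1000) = true := by decide +kernel
theorem chkF_2586000 : allRangeF (checkFactF cert) (nat_lit 2586000) (nat_lit 1000) = true := by decide +kernel
theorem chkF_2587000 : allRangeF (checkFactF cert) (nat_lit 2587000) (nat_lit 1000) = true := by decide +kernel
theorem chkF_2588000 : allRangeF (checkFactF cert) (nat_lit 2588000) (nat_lit 1000) = true := by decide +kernel
theorem chkF_2589000 : allRangeF (checkFactF cert) (nat_lit 2589000) (nat_lit 1000) = true := by decide +kernel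
theorem chkF_2590000 : allRangeF (checkFactF cert) (nat_lit 2590000) (nat_lit 1000) = true := by decide +kernel
theorem chkF_2591000 : allRangeF (checkFactF cert) (nat_lit 2591000) (nat_lit 1000) = true := by decide +kernel
theorem chkF_2592000 : allRangeF (checkFactF cert) (nat_lit 2592000) (nat_lit 1000) = true := by decide +kernel
theorem chkF_2593000 : allRangeF (checkFactF cert) (nat_lit 2593000) (nat_lit 1000) = true := by decide +kernel
theorem chkF_2594000 : allRangeF (checkFactF cert) (nat_lit 2594000) (nat_lit 1000) = true := by decide +kernel
theorem chkF_2595000 : allRangeF (checkFactF cert) (nat_lit 2595000) (nat_lit 1000) = true := by decide +kernel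
theorem chkF_2596000 : allRangeF (checkFactF cert) (nat_lit 2596000) (nat_lit 1000) = true := by decide +kernel
theorem chkF_2597000 : allRangeF (checkFactF cert) (nat_lit 2597000) (nat_lit 1000) = true := by decide +kernel
theorem chkF_2598000 : allRangeF (checkFactF cert) (nat_lit 2598000) (nat_lit 1000) = true := by decide +kernel
theorem chkF_2599000 : allRangeF (checkFactF cert) (nat_lit 2599000) (nat_lit 1000) = true := by decide +kernel
theorem chkF_2600000 : allRangeF (checkFactF cert) (nat_lit 2600000) (nat_lit 1000) = true := by decide +kernel
theorem chkF_2601000 : allRangeF (checkFactF cert) (nat_lit 2601000) (nat_lit 1000) = true := by decide +kernel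
theorem chkF_2602000 : allRangeF (checkFactF cert) (nat_lit 2602000) (nat_lit 1000) = true := by decide +kernel
theorem chkF_2603000 : allRangeF (checkFactF cert) (nat_lit 2603000) (nat_lit 1000) = true := by decide +kernel
theorem chkF_2604000 : allRangeF (checkFactF cert) (nat_lit 2604000) (nat_lit 1000) = true := by decide +kernel
theorem chkF_2605000 : allRangeF (checkFactF cert) (nat_lit 2605000) (nat_lit 1000) = true := by decide +kernel
theorem chkF_2606000 : allRangeF (checkFactF cert) (nat_lit 2606000) (nat_lit 1000) = true := by decide +kernel
theorem chkF_2607000 : allRangeF (checkFactF cert) (nat_lit 2607000) (nat_lit 1000) = true := by decide +kernel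
theorem chkF_2608000 : allRangeF (checkFactF cert) (nat_lit 2608000) (nat_lit 1000) = true := by decide +kernel
theorem chkF_2609000 : allRangeF (checkFactF cert) (nat_lit 2609000) (nat_lit 1000) = true := by decide +kernel
theorem chkF_2610000 : allRangeF (checkFactF cert) (nat_lit 2610000) (nat_lit 1000) = true := by decide +kernel
theorem chkF_2611000 : allRangeF (checkFactF cert) (nat_lit 2611000) (nat_lit 1000) = true := by decide +kernel
theorem chkF_2612000 : allRangeF (checkFactF cert) (nat_lit 2612000) (nat_lit 1000) = true := by decide +kernel
theorem chkF_2613000 : allRangeF (checkFactF cert) (nat_lit 2613000) (nat_lit 1000) = true := by decide +kernel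
theorem chkF_2614000 : allRangeF (checkFactF cert) (nat_lit 2614000) (nat_lit 1000) = true := by decide +kernel
theorem chkF_2615000 : allRangeF (checkFactF cert) (nat_lit 2615000) (nat_lit 1000) = true := by decide +kernel
theorem chkF_2616000 : allRangeF (checkFactF cert) (nat_lit 2616000) (nat_lit 1000) = true := by decide +kernel
theorem chkF_2617000 : allRangeF (checkFactF cert) (nat_lit 2617000) (nat_lit 1000) = true := by decide +kernel
theorem chkF_2618000 : allRangeF (checkFactF cert) (nat_lit 2618000) (nat_lit 1000) = true := by decide +kernel
theorem chkF_2619000 : allRangeF (checkFactF cert) (nat_lit 2619000) (nat_lit 1000) = true := by decide +kernel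
theorem chkF_2620000 : allRangeF (checkFactF cert) (nat_lit 2620000) (nat_lit 1000) = true := by decide +kernel
theorem chkF_2621000 : allRangeF (checkFactF cert) (nat_lit 2621000) (nat_lit 1000) = true := by decide +kernel
theorem chkF_2622000 : allRangeF (checkFactF cert) (nat_lit 2622000) (nat_lit 1000) = true := by decide +kernel
theorem chkF_2623000 : allRangeF (checkFactF cert) (nat_lit 2623000) (nat_lit 1000) = true := by decide +kernel
theorem chkF_2624000 : allRangeF (checkFactF cert) (nat_lit 2624000) (nat_lit 1000) = true := by decide +kernel
theorem chkF_2625000 : allRangeF (checkFactF cert) (nat_lit 2625000) (nat_lit 1000) = true := by decide +kernel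
theorem chkF_2626000 : allRangeF (checkFactF cert) (nat_lit 2626000) (nat_lit 1000) = true := by decide +kernel
theorem chkF_2627000 : allRangeF (checkFactF cert) (nat_lit 2627000) (nat_lit 1000) = true := by decide +kernel
theorem chkF_2628000 : allRangeF (checkFactF cert) (nat_lit 2628000) (nat_lit 1000) = true := by decide +kernel
theorem chkF_2629000 : allRangeF (checkFactF cert) (nat_lit 2629000) (nat_lit 1000) = true := by decide +kernel
theorem chkF_2630000 : allRangeF (checkFactF cert) (nat_lit 2630000) (nat_lit 1000) = true := by decide +kernel
theorem chkF_2631000 : allRangeF (checkFactF cert) (nat_lit 2631000) (nat_lit 1000) = true := by decide +kernel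
theorem chkF_2632000 : allRangeF (checkFactF cert) (nat_lit 2632000) (nat_lit 1000) = true := by decide +kernel
theorem chkF_2633000 : allRangeF (checkFactF cert) (nat_lit 2633000) (nat_lit 1000) = true := by decide +kernel
theorem chkF_2634000 : allRangeF (checkFactF cert) (nat_lit 2634000) (nat_lit 1000) = true := by decide +kernel
theorem chkF_2635000 : allRangeF (checkFactF cert) (nat_lit 2635000) (nat_lit 1000) = true := by decide +kernel
theorem chkF_2636000 : allRangeF (checkFactF cert) (nat_lit 2636000) (nat_lit 1000) = true := by decide +kernel
theorem chkF_2637000 : allRangeF (checkFactF cert) (nat_lit 2637000) (nat_lit 1000) = true := by decide +kernel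
theorem chkF_2638000 : allRangeF (checkFactF cert) (nat_lit 2638000) (nat_lit 1000) = true := by decide +kernel
theorem chkF_2639000 : allRangeF (checkFactF cert) (nat_lit 2639000) (nat_lit 1000) = true := by decide +kernel
theorem chkF_2640000 : allRangeF (checkFactF cert) (nat_lit 2640000) (nat_lit 1000) = true := by decide +kernel
theorem chkF_2641000 : allRangeF (checkFactF cert) (nat_lit 2641000) (nat_lit 1000) = true := by decide +kernel
theorem chkF_2642000 : allRangeF (checkFactF cert) (nat_lit 2642000) (nat_lit 1000) = true := by decide +kernel
theorem chkF_2643000 : allRangeF (checkFactF cert) (nat_lit 2643000) (nat_lit 1000) = true := by decide +kernel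
theorem chkF_2644000 : allRangeF (checkFactF cert) (nat_lit 2644000) (nat_lit 1000) = true := by decide +kernel
theorem chkF_2645000 : allRangeF (checkFactF cert) (nat_lit 2645000) (nat_lit 1000) = true := by decide +kernel
theorem chkF_2646000 : allRangeF (checkFactF cert) (nat_lit 2646000) (nat_lit 1000) = true := by decide +kernel
theorem chkF_2647000 : allRangeF (checkFactF cert) (nat_lit 2647000) (nat_lit 1000) = true := by decide +kernel
theorem chkF_2648000 : allRangeF (checkFactF cert) (nat_lit 2648000) (nat_lit 1000) = true := by decide +kernel
theorem chkF_2649000 : allRangeF (checkFactF cert) (nat_lit 2649000) (nat_lit 1000) = true := by decide +kernel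
theorem chkF_2650000 : allRangeF (checkFactF cert) (nat_lit 2650000) (nat_lit 1000) = true := by decide +kernel
theorem chkF_2651000 : allRangeF (checkFactF cert) (nat_lit 2651000) (nat_lit 1000) = true := by decide +kernel
theorem chkF_2652000 : allRangeF (checkFactF cert) (nat_lit 2652000) (nat_lit 1000) = true := by decide +kernel
theorem chkF_2653000 : allRangeF (checkFactF cert) (nat_lit 2653000) (nat_lit 1000) = true := by decide +kernel
theorem chkF_2654000 : allRangeF (checkFactF cert) (nat_lit 2654000) (nat_lit 1000) = true := by decide +kernel
theorem chkF_2655000 : allRangeF (checkFactF cert) (nat_lit 2655000) (nat_lit 1000) = true := by decide +kernel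
theorem chkF_2656000 : allRangeF (checkFactF cert) (nat_lit 2656000) (nat_lit 1000) = true := by decide +kernel
theorem chkF_2657000 : allRangeF (checkFactF cert) (nat_lit 2657000) (nat_lit 1000) = true := by decide +kernel
theorem chkF_2658000 : allRangeF (checkFactF cert) (nat_lit 2658000) (nat_lit 1000) = true := by decide +kernel
theorem chkF_2659000 : allRangeF (checkFactF cert) (nat_lit 2659000) (nat_lit 1000) = true := by decide +kernel
theorem chkF_2660000 : allRangeF (checkFactF cert) (nat_lit 2660000) (nat_lit 1000) = true := by decide +kernel
theorem chkF_2661000 : allRangeF (checkFactF cert) (nat_lit 2661000) (nat_lit 1000) = true := by decide +kernel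
theorem chkF_2662000 : allRangeF (checkFactF cert) (nat_lit 2662000) (nat_lit 1000) = true := by decide +kernel
theorem chkF_2663000 : allRangeF (checkFactF cert) (nat_lit 2663000) (nat_lit 1000) = true := by decide +kernel
theorem chkF_2664000 : allRangeF (checkFactF cert) (nat_lit 2664000) (nat_lit 1000) = true := by decide +kernel
theorem chkF_2665000 : allRangeF (checkFactF cert) (nat_lit 2665000) (nat_lit 1000) = true := by decide +kernel
theorem chkF_2666000 : allRangeF (checkFactF cert) (nat_lit 2666000) (nat_lit 1000) = true := by decide +kernel
theorem chkF_2667000 : allRangeF (checkFactF cert) (nat_lit 2667000) (nat_lit 1000) = true := by decide +kernel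
theorem chkF_2668000 : allRangeF (checkFactF cert) (nat_lit 2668000) (nat_lit 1000) = true := by decide +kernel
theorem chkF_2669000 : allRangeF (checkFactF cert) (nat_lit 2669000) (nat_lit 1000) = true := by decide +kernel
theorem chkF_2670000 : allRangeF (checkFactF cert) (nat_lit 2670000) (nat_lit 1000) = true := by decide +kernel
theorem chkF_2671000 : allRangeF (checkFactF cert) (nat_lit 2671000) (nat_lit 1000) = true := by decide +kernel
theorem chkF_2672000 : allRangeF (checkFactF cert) (nat_lit 2672000) (nat_lit 1000) = true := by decide +kernel

theorem factsRange_26 : ∀ i, 2574000 ≤ i → i < 2673000 → checkFact cert i = true := by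
  intro i hlo hhi
  rcases Nat.lt_or_ge i 2623000 with h1 | h1
  · skip
    rcases Nat.lt_or_ge i 2598000 with h2 | h2
    · skip
      rcases Nat.lt_or_ge i 2586000 with h3 | h3
      · skip
        rcases Nat.lt_or_ge i 2580000 with h4 | h4
        · skip
          rcases Nat.lt_or_ge i 2577000 with h5 | h5
          · skip
            rcases Nat.lt_or_ge i 2575000 with h6 | h6
            · skip
              exact allRangeF_sound _ _ (checkFactF_eq cert) 2574000 1000 chkF_2574000 i (by omega) (by omega)
            · skip
              rcases Nat.lt_or_ge i 2576000 with h7 | h7
              · skip
                exact allRangeF_sound _ _ (checkFactF_eq cert) 2575000 1000 chkF_2575000 i (by omega) (by omega)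
              · skip
                exact allRangeF_sound _ _ (checkFactF_eq cert) 2576000 1000 chkF_2576000 i (by omega) (by omega)
          · skip
            rcases Nat.lt_or_ge i 2578000 with h6 | h6
            · skip
              exact allRangeF_sound _ _ (checkFactF_eq cert) 2577000 1000 chkF_2577000 i (by omega) (by omega)
            · skip
              rcases Nat.lt_or_ge i 2579000 with h7 | h7
              · skip
                exact allRangeF_sound _ _ (checkFactF_eq cert) 2578000 1000 chkF_2578000 i (by omega) (by omega)
              · skip
                exact allRangeF_sound _ _ (checkFactF_eq cert) 2579000 1000 chkF_2579000 i (by omega) (by omega)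
        · skip
          rcases Nat.lt_or_ge i 2583000 with h5 | h5
          · skip
            rcases Nat.lt_or_ge i 2581000 with h6 | h6
            · skip
              exact allRangeF_sound _ _ (checkFactF_eq cert) 2580000 1000 chkF_2580000 i (by omega) (by omega)
            · skip
              rcases Nat.lt_or_ge i 2582000 with h7 | h7
              · skip
                exact allRangeF_sound _ _ (checkFactF_eq cert) 2581000 1000 chkF_2581000 i (by omega) (by omega)
              · skip
                exact allRangeF_sound _ _ (checkFactF_eq cert) 2582000 1000 chkF_2582000 i (by omega) (by omega)
          · skip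
            rcases Nat.lt_or_ge i 2584000 with h6 | h6
            · skip
              exact allRangeF_sound _ _ (checkFactF_eq cert) 2583000 1000 chkF_2583000 i (by omega) (by omega)
            · skip
              rcases Nat.lt_or_ge i 2585000 with h7 | h7
              · skip
                exact allRangeF_sound _ _ (checkFactF_eq cert) 2584000 1000 chkF_2584000 i (by omega) (by omega)
              · skip
                exact allRangeF_sound _ _ (checkFactF_eq cert) 2585000 1000 chkF_2585000 i (by omega) (by omega)
      · skip
        rcases Nat.lt_or_ge i 2592000 with h4 | h4
        · skip
          rcases Nat.lt_or_ge i 2589000 with h5 | h5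
          · skip
            rcases Nat.lt_or_ge i 2587000 with h6 | h6
            · skip
              exact allRangeF_sound _ _ (checkFactF_eq cert) 2586000 1000 chkF_2586000 i (by omega) (by omega)
            · skip
              rcases Nat.lt_or_ge i 2588000 with h7 | h7
              · skip
                exact allRangeF_sound _ _ (checkFactF_eq cert) 2587000 1000 chkF_2587000 i (by omega) (by omega)
              · skip
                exact allRangeF_sound _ _ (checkFactF_eq cert) 2588000 1000 chkF_2588000 i (by omega) (by omega)
          · skip
            rcases Nat.lt_or_ge i 2590000 with h6 | h6
            · skip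
              exact allRangeF_sound _ _ (checkFactF_eq cert) 2589000 1000 chkF_2589000 i (by omega) (by omega)
            · skip
              rcases Nat.lt_or_ge i 2591000 with h7 | h7
              · skip
                exact allRangeF_sound _ _ (checkFactF_eq cert) 2590000 1000 chkF_2590000 i (by omega) (by omega)
              · skip
                exact allRangeF_sound _ _ (checkFactF_eq cert) 2591000 1000 chkF_2591000 i (by omega) (by omega)
        · skip
          rcases Nat.lt_or_ge i 2595000 with h5 | h5
          · skip
            rcases Nat.lt_or_ge i 2593000 with h6 | h6
            · skip
              exact allRangeF_sound _ _ (checkFactF_eq cert) 2592000 1000 chkF_2592000 i (by omega) (by omega)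
            · skip
              rcases Nat.lt_or_ge i 2594000 with h7 | h7
              · skip
                exact allRangeF_sound _ _ (checkFactF_eq cert) 2593000 1000 chkF_2593000 i (by omega) (by omega)
              · skip
                exact allRangeF_sound _ _ (checkFactF_eq cert) 2594000 1000 chkF_2594000 i (by omega) (by omega)
          · skip
            rcases Nat.lt_or_ge i 2596000 with h6 | h6
            · skip
              exact allRangeF_sound _ _ (checkFactF_eq cert) 2595000 1000 chkF_2595000 i (by omega) (by omega)
            · skip
              rcases Nat.lt_or_ge i 2597000 with h7 | h7
              · skip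
                exact allRangeF_sound _ _ (checkFactF_eq cert) 2596000 1000 chkF_2596000 i (by omega) (by omega)
              · skip
                exact allRangeF_sound _ _ (checkFactF_eq cert) 2597000 1000 chkF_2597000 i (by omega) (by omega)
    · skip
      rcases Nat.lt_or_ge i 2610000 with h3 | h3
      · skip
        rcases Nat.lt_or_ge i 2604000 with h4 | h4
        · skip
          rcases Nat.lt_or_ge i 2601000 with h5 | h5
          · skip
            rcases Nat.lt_or_ge i 2599000 with h6 | h6
            · skip
              exact allRangeF_sound _ _ (checkFactF_eq cert) 2598000 1000 chkF_2598000 i (by omega) (by omega)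
            · skip
              rcases Nat.lt_or_ge i 2600000 with h7 | h7
              · skip
                exact allRangeF_sound _ _ (checkFactF_eq cert) 2599000 1000 chkF_2599000 i (by omega) (by omega)
              · skip
                exact allRangeF_sound _ _ (checkFactF_eq cert) 2600000 1000 chkF_2600000 i (by omega) (by omega)
          · skip
            rcases Nat.lt_or_ge i 2602000 with h6 | h6
            · skip
              exact allRangeF_sound _ _ (checkFactF_eq cert) 2601000 1000 chkF_2601000 i (by omega) (by omega)
            · skip
              rcases Nat.lt_or_ge i 2603000 with h7 | h7
              · skip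
                exact allRangeF_sound _ _ (checkFactF_eq cert) 2602000 1000 chkF_2602000 i (by omega) (by omega)
              · skip
                exact allRangeF_sound _ _ (checkFactF_eq cert) 2603000 1000 chkF_2603000 i (by omega) (by omega)
        · skip
          rcases Nat.lt_or_ge i 2607000 with h5 | h5
          · skip
            rcases Nat.lt_or_ge i 2605000 with h6 | h6
            · skip
              exact allRangeF_sound _ _ (checkFactF_eq cert) 2604000 1000 chkF_2604000 i (by omega) (by omega)
            · skip
              rcases Nat.lt_or_ge i 2606000 with h7 | h7
              · skip
                exact allRangeF_sound _ _ (checkFactF_eq cert) 2605000 1000 chkF_2605000 i (by omega) (by omega)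
              · skip
                exact allRangeF_sound _ _ (checkFactF_eq cert) 2606000 1000 chkF_2606000 i (by omega) (by omega)
          · skip
            rcases Nat.lt_or_ge i 2608000 with h6 | h6
            · skip
              exact allRangeF_sound _ _ (checkFactF_eq cert) 2607000 1000 chkF_2607000 i (by omega) (by omega)
            · skip
              rcases Nat.lt_or_ge i 2609000 with h7 | h7
              · skip
                exact allRangeF_sound _ _ (checkFactF_eq cert) 2608000 1000 chkF_2608000 i (by omega) (by omega)
              · skip
                exact allRangeF_sound _ _ (checkFactF_eq cert) 2609000 1000 chkF_2609000 i (by omega) (by omega)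
      · skip
        rcases Nat.lt_or_ge i 2616000 with h4 | h4
        · skip
          rcases Nat.lt_or_ge i 2613000 with h5 | h5
          · skip
            rcases Nat.lt_or_ge i 2611000 with h6 | h6
            · skip
              exact allRangeF_sound _ _ (checkFactF_eq cert) 2610000 1000 chkF_2610000 i (by omega) (by omega)
            · skip
              rcases Nat.lt_or_ge i 2612000 with h7 | h7
              · skip
                exact allRangeF_sound _ _ (checkFactF_eq cert) 2611000 1000 chkF_2611000 i (by omega) (by omega)
              · skip
                exact allRangeF_sound _ _ (checkFactF_eq cert) 2612000 1000 chkF_2612000 i (by omega) (by omega)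
          · skip
            rcases Nat.lt_or_ge i 2614000 with h6 | h6
            · skip
              exact allRangeF_sound _ _ (checkFactF_eq cert) 2613000 1000 chkF_2613000 i (by omega) (by omega)
            · skip
              rcases Nat.lt_or_ge i 2615000 with h7 | h7
              · skip
                exact allRangeF_sound _ _ (checkFactF_eq cert) 2614000 1000 chkF_2614000 i (by omega) (by omega)
              · skip
                exact allRangeF_sound _ _ (checkFactF_eq cert) 2615000 1000 chkF_2615000 i (by omega) (by omega)
        · skip
          rcases Nat.lt_or_ge i 2619000 with h5 | h5
          · skip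
            rcases Nat.lt_or_ge i 2617000 with h6 | h6
            · skip
              exact allRangeF_sound _ _ (checkFactF_eq cert) 2616000 1000 chkF_2616000 i (by omega) (by omega)
            · skip
              rcases Nat.lt_or_ge i 2618000 with h7 | h7
              · skip
                exact allRangeF_sound _ _ (checkFactF_eq cert) 2617000 1000 chkF_2617000 i (by omega) (by omega)
              · skip
                exact allRangeF_sound _ _ (checkFactF_eq cert) 2618000 1000 chkF_2618000 i (by omega) (by omega)
          · skip
            rcases Nat.lt_or_ge i 2621000 with h6 | h6
            · skip
              rcases Nat.lt_or_ge i 2620000 with h7 | h7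
              · skip
                exact allRangeF_sound _ _ (checkFactF_eq cert) 2619000 1000 chkF_2619000 i (by omega) (by omega)
              · skip
                exact allRangeF_sound _ _ (checkFactF_eq cert) 2620000 1000 chkF_2620000 i (by omega) (by omega)
            · skip
              rcases Nat.lt_or_ge i 2622000 with h7 | h7
              · skip
                exact allRangeF_sound _ _ (checkFactF_eq cert) 2621000 1000 chkF_2621000 i (by omega) (by omega)
              · skip
                exact allRangeF_sound _ _ (checkFactF_eq cert) 2622000 1000 chkF_2622000 i (by omega) (by omega)
  · skip
    rcases Nat.lt_or_ge i 2648000 with h2 | h2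
    · skip
      rcases Nat.lt_or_ge i 2635000 with h3 | h3
      · skip
        rcases Nat.lt_or_ge i 2629000 with h4 | h4
        · skip
          rcases Nat.lt_or_ge i 2626000 with h5 | h5
          · skip
            rcases Nat.lt_or_ge i 2624000 with h6 | h6
            · skip
              exact allRangeF_sound _ _ (checkFactF_eq cert) 2623000 1000 chkF_2623000 i (by omega) (by omega)
            · skip
              rcases Nat.lt_or_ge i 2625000 with h7 | h7
              · skip
                exact allRangeF_sound _ _ (checkFactF_eq cert) 2624000 1000 chkF_2624000 i (by omega) (by omega)
              · skip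
                exact allRangeF_sound _ _ (checkFactF_eq cert) 2625000 1000 chkF_2625000 i (by omega) (by omega)
          · skip
            rcases Nat.lt_or_ge i 2627000 with h6 | h6
            · skip
              exact allRangeF_sound _ _ (checkFactF_eq cert) 2626000 1000 chkF_2626000 i (by omega) (by omega)
            · skip
              rcases Nat.lt_or_ge i 2628000 with h7 | h7
              · skip
                exact allRangeF_sound _ _ (checkFactF_eq cert) 2627000 1000 chkF_2627000 i (by omega) (by omega)
              · skip
                exact allRangeF_sound _ _ (checkFactF_eq cert) 2628000 1000 chkF_2628000 i (by omega) (by omega)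
        · skip
          rcases Nat.lt_or_ge i 2632000 with h5 | h5
          · skip
            rcases Nat.lt_or_ge i 2630000 with h6 | h6
            · skip
              exact allRangeF_sound _ _ (checkFactF_eq cert) 2629000 1000 chkF_2629000 i (by omega) (by omega)
            · skip
              rcases Nat.lt_or_ge i 2631000 with h7 | h7
              · skip
                exact allRangeF_sound _ _ (checkFactF_eq cert) 2630000 1000 chkF_2630000 i (by omega) (by omega)
              · skip
                exact allRangeF_sound _ _ (checkFactF_eq cert) 2631000 1000 chkF_2631000 i (by omega) (by omega)
          · skip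
            rcases Nat.lt_or_ge i 2633000 with h6 | h6
            · skip
              exact allRangeF_sound _ _ (checkFactF_eq cert) 2632000 1000 chkF_2632000 i (by omega) (by omega)
            · skip
              rcases Nat.lt_or_ge i 2634000 with h7 | h7
              · skip
                exact allRangeF_sound _ _ (checkFactF_eq cert) 2633000 1000 chkF_2633000 i (by omega) (by omega)
              · skip
                exact allRangeF_sound _ _ (checkFactF_eq cert) 2634000 1000 chkF_2634000 i (by omega) (by omega)
      · skip
        rcases Nat.lt_or_ge i 2641000 with h4 | h4
        · skip
          rcases Nat.lt_or_ge i 2638000 with h5 | h5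
          · skip
            rcases Nat.lt_or_ge i 2636000 with h6 | h6
            · skip
              exact allRangeF_sound _ _ (checkFactF_eq cert) 2635000 1000 chkF_2635000 i (by omega) (by omega)
            · skip
              rcases Nat.lt_or_ge i 2637000 with h7 | h7
              · skip
                exact allRangeF_sound _ _ (checkFactF_eq cert) 2636000 1000 chkF_2636000 i (by omega) (by omega)
              · skip
                exact allRangeF_sound _ _ (checkFactF_eq cert) 2637000 1000 chkF_2637000 i (by omega) (by omega)
          · skip
            rcases Nat.lt_or_ge i 2639000 with h6 | h6
            · skip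
              exact allRangeF_sound _ _ (checkFactF_eq cert) 2638000 1000 chkF_2638000 i (by omega) (by omega)
            · skip
              rcases Nat.lt_or_ge i 2640000 with h7 | h7
              · skip
                exact allRangeF_sound _ _ (checkFactF_eq cert) 2639000 1000 chkF_2639000 i (by omega) (by omega)
              · skip
                exact allRangeF_sound _ _ (checkFactF_eq cert) 2640000 1000 chkF_2640000 i (by omega) (by omega)
        · skip
          rcases Nat.lt_or_ge i 2644000 with h5 | h5
          · skip
            rcases Nat.lt_or_ge i 2642000 with h6 | h6
            · skip
              exact allRangeF_sound _ _ (checkFactF_eq cert) 2641000 1000 chkF_2641000 i (by omega) (by omega)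
            · skip
              rcases Nat.lt_or_ge i 2643000 with h7 | h7
              · skip
                exact allRangeF_sound _ _ (checkFactF_eq cert) 2642000 1000 chkF_2642000 i (by omega) (by omega)
              · skip
                exact allRangeF_sound _ _ (checkFactF_eq cert) 2643000 1000 chkF_2643000 i (by omega) (by omega)
          · skip
            rcases Nat.lt_or_ge i 2646000 with h6 | h6
            · skip
              rcases Nat.lt_or_ge i 2645000 with h7 | h7
              · skip
                exact allRangeF_sound _ _ (checkFactF_eq cert) 2644000 1000 chkF_2644000 i (by omega) (by omega)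
              · skip
                exact allRangeF_sound _ _ (checkFactF_eq cert) 2645000 1000 chkF_2645000 i (by omega) (by omega)
            · skip
              rcases Nat.lt_or_ge i 2647000 with h7 | h7
              · skip
                exact allRangeF_sound _ _ (checkFactF_eq cert) 2646000 1000 chkF_2646000 i (by omega) (by omega)
              · skip
                exact allRangeF_sound _ _ (checkFactF_eq cert) 2647000 1000 chkF_2647000 i (by omega) (by omega)
    · skip
      rcases Nat.lt_or_ge i 2660000 with h3 | h3
      · skip
        rcases Nat.lt_or_ge i 2654000 with h4 | h4
        · skip
          rcases Nat.lt_or_ge i 2651000 with h5 | h5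
          · skip
            rcases Nat.lt_or_ge i 2649000 with h6 | h6
            · skip
              exact allRangeF_sound _ _ (checkFactF_eq cert) 2648000 1000 chkF_2648000 i (by omega) (by omega)
            · skip
              rcases Nat.lt_or_ge i 2650000 with h7 | h7
              · skip
                exact allRangeF_sound _ _ (checkFactF_eq cert) 2649000 1000 chkF_2649000 i (by omega) (by omega)
              · skip
                exact allRangeF_sound _ _ (checkFactF_eq cert) 2650000 1000 chkF_2650000 i (by omega) (by omega)
          · skip
            rcases Nat.lt_or_ge i 2652000 with h6 | h6
            · skip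
              exact allRangeF_sound _ _ (checkFactF_eq cert) 2651000 1000 chkF_2651000 i (by omega) (by omega)
            · skip
              rcases Nat.lt_or_ge i 2653000 with h7 | h7
              · skip
                exact allRangeF_sound _ _ (checkFactF_eq cert) 2652000 1000 chkF_2652000 i (by omega) (by omega)
              · skip
                exact allRangeF_sound _ _ (checkFactF_eq cert) 2653000 1000 chkF_2653000 i (by omega) (by omega)
        · skip
          rcases Nat.lt_or_ge i 2657000 with h5 | h5
          · skip
            rcases Nat.lt_or_ge i 2655000 with h6 | h6
            · skip
              exact allRangeF_sound _ _ (checkFactF_eq cert) 2654000 1000 chkF_2654000 i (by omega) (by omega)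
            · skip
              rcases Nat.lt_or_ge i 2656000 with h7 | h7
              · skip
                exact allRangeF_sound _ _ (checkFactF_eq cert) 2655000 1000 chkF_2655000 i (by omega) (by omega)
              · skip
                exact allRangeF_sound _ _ (checkFactF_eq cert) 2656000 1000 chkF_2656000 i (by omega) (by omega)
          · skip
            rcases Nat.lt_or_ge i 2658000 with h6 | h6
            · skip
              exact allRangeF_sound _ _ (checkFactF_eq cert) 2657000 1000 chkF_2657000 i (by omega) (by omega)
            · skip
              rcases Nat.lt_or_ge i 2659000 with h7 | h7
              · skip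
                exact allRangeF_sound _ _ (checkFactF_eq cert) 2658000 1000 chkF_2658000 i (by omega) (by omega)
              · skip
                exact allRangeF_sound _ _ (checkFactF_eq cert) 2659000 1000 chkF_2659000 i (by omega) (by omega)
      · skip
        rcases Nat.lt_or_ge i 2666000 with h4 | h4
        · skip
          rcases Nat.lt_or_ge i 2663000 with h5 | h5
          · skip
            rcases Nat.lt_or_ge i 2661000 with h6 | h6
            · skip
              exact allRangeF_sound _ _ (checkFactF_eq cert) 2660000 1000 chkF_2660000 i (by omega) (by omega)
            · skip
              rcases Nat.lt_or_ge i 2662000 with h7 | h7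
              · skip
                exact allRangeF_sound _ _ (checkFactF_eq cert) 2661000 1000 chkF_2661000 i (by omega) (by omega)
              · skip
                exact allRangeF_sound _ _ (checkFactF_eq cert) 2662000 1000 chkF_2662000 i (by omega) (by omega)
          · skip
            rcases Nat.lt_or_ge i 2664000 with h6 | h6
            · skip
              exact allRangeF_sound _ _ (checkFactF_eq cert) 2663000 1000 chkF_2663000 i (by omega) (by omega)
            · skip
              rcases Nat.lt_or_ge i 2665000 with h7 | h7
              · skip
                exact allRangeF_sound _ _ (checkFactF_eq cert) 2664000 1000 chkF_2664000 i (by omega) (by omega)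
              · skip
                exact allRangeF_sound _ _ (checkFactF_eq cert) 2665000 1000 chkF_2665000 i (by omega) (by omega)
        · skip
          rcases Nat.lt_or_ge i 2669000 with h5 | h5
          · skip
            rcases Nat.lt_or_ge i 2667000 with h6 | h6
            · skip
              exact allRangeF_sound _ _ (checkFactF_eq cert) 2666000 1000 chkF_2666000 i (by omega) (by omega)
            · skip
              rcases Nat.lt_or_ge i 2668000 with h7 | h7
              · skip
                exact allRangeF_sound _ _ (checkFactF_eq cert) 2667000 1000 chkF_2667000 i (by omega) (by omega)
              · skip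
                exact allRangeF_sound _ _ (checkFactF_eq cert) 2668000 1000 chkF_2668000 i (by omega) (by omega)
          · skip
            rcases Nat.lt_or_ge i 2671000 with h6 | h6
            · skip
              rcases Nat.lt_or_ge i 2670000 with h7 | h7
              · skip
                exact allRangeF_sound _ _ (checkFactF_eq cert) 2669000 1000 chkF_2669000 i (by omega) (by omega)
              · skip
                exact allRangeF_sound _ _ (checkFactF_eq cert) 2670000 1000 chkF_2670000 i (by omega) (by omega)
            · skip
              rcases Nat.lt_or_ge i 2672000 with h7 | h7
              · skip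
                exact allRangeF_sound _ _ (checkFactF_eq cert) 2671000 1000 chkF_2671000 i (by omega) (by omega)
              · skip
                exact allRangeF_sound _ _ (checkFactF_eq cert) 2672000 1000 chkF_2672000 i (by omega) (by omega)

end Cfsg.Agent.Lib.Helper28.Fi24Data
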