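import Cfsg.Agent.Lib.Helper28.Fi24Data
import Cfsg.Agent.Lib.Helper28.TCFastFB

set_option autoImplicit false
set_option maxRecDepth 1000000
set_option linter.all false
set_option Elab.async false

namespace Cfsg.Agent.Lib.Helper28.Fi24Data

open Cfsg.Agent.Lib.Helper28B

theorem chkF_2673000 : allRangeF (checkFactF cert) (nat_lit 2673000) (nat_lit 1000) = true := by decide +kernel
theorem chkF_2674000 : allRangeF (checkFactF cert) (nat_lit 2674000) (nat_lit 1000) = true := by decide +kernel
theorem chkF_2675000 : allRangeF (checkFactF cert) (nat_lit 2675000) (nat_lit 1000) = true := by decide +kernel
theorem chkF_2676000 : allRangeF (checkFactF cert) (nat_lit 2676000) (nat_lit 1000) = true := by decide +kernel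
theorem chkF_2677000 : allRangeF (checkFactF cert) (nat_lit 2677000) (nat_lit 1000) = true := by decide +kernel
theorem chkF_2678000 : allRangeF (checkFactF cert) (nat_lit 2678000) (nat_lit 1000) = true := by decide +kernel
theorem chkF_2679000 : allRangeF (checkFactF cert) (nat_lit 2679000) (nat_lit 1000) = true := by decide +kernel
theorem chkF_2680000 : allRangeF (checkFactF cert) (nat_lit 2680000) (nat_lit 1000) = true := by decide +kernel
theorem chkF_2681000 : allRangeF (checkFactF cert) (nat_lit 2681000) (nat_lit 1000) = true := by decide +kernel
theorem chkF_2682000 : allRangeF (checkFactF cert) (nat_lit 2682000) (nat_lit 1000) = true := by decide +kernel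
theorem chkF_2683000 : allRangeF (checkFactF cert) (nat_lit 2683000) (nat_lit 1000) = true := by decide +kernel
theorem chkF_2684000 : allRangeF (checkFactF cert) (nat_lit 2684000) (nat_lit 1000) = true := by decide +kernel
theorem chkF_2685000 : allRangeF (checkFactF cert) (nat_lit 2685000) (nat_lit 1000) = true := by decide +kernel
theorem chkF_2686000 : allRangeF (checkFactF cert) (nat_lit 2686000) (nat_lit 1000) = true := by decide +kernel
theorem chkF_2687000 : allRangeF (checkFactF cert) (nat_lit 2687000) (nat_lit 1000) = true := by decide +kernel
theorem chkF_2688000 : allRangeF (checkFactF cert) (nat_lit 2688000) (nat_lit 1000) = true := by decide +kernel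
theorem chkF_2689000 : allRangeF (checkFactF cert) (nat_lit 2689000) (nat_lit 1000) = true := by decide +kernel
theorem chkF_2690000 : allRangeF (checkFactF cert) (nat_lit 2690000) (nat_lit 1000) = true := by decide +kernel
theorem chkF_2691000 : allRangeF (checkFactF cert) (nat_lit 2691000) (nat_lit 1000) = true := by decide +kernel
theorem chkF_2692000 : allRangeF (checkFactF cert) (nat_lit 2692000) (nat_lit 1000) = true := by decide +kernel
theorem chkF_2693000 : allRangeF (checkFactF cert) (nat_lit 2693000) (nat_lit 1000) = true := by decide +kernel
theorem chkF_2694000 : allRangeF (checkFactF cert) (nat_lit 2694000) (nat_lit 1000) = true := by decide +kernel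
theorem chkF_2695000 : allRangeF (checkFactF cert) (nat_lit 2695000) (nat_lit 1000) = true := by decide +kernel
theorem chkF_2696000 : allRangeF (checkFactF cert) (nat_lit 2696000) (nat_lit 1000) = true := by decide +kernel
theorem chkF_2697000 : allRangeF (checkFactF cert) (nat_lit 2697000) (nat_lit 1000) = true := by decide +kernel
theorem chkF_2698000 : allRangeF (checkFactF cert) (nat_lit 2698000) (nat_lit 1000) = true := by decide +kernel
theorem chkF_2699000 : allRangeF (checkFactF cert) (nat_lit 2699000) (nat_lit 1000) = true := by decide +kernel
theorem chkF_2700000 : allRangeF (checkFactF cert) (nat_lit 2700000) (nat_lit 1000) = true := by decide +kernel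
theorem chkF_2701000 : allRangeF (checkFactF cert) (nat_lit 2701000) (nat_lit 1000) = true := by decide +kernel
theorem chkF_2702000 : allRangeF (checkFactF cert) (nat_lit 2702000) (nat_lit 1000) = true := by decide +kernel
theorem chkF_2703000 : allRangeF (checkFactF cert) (nat_lit 2703000) (nat_lit 1000) = true := by decide +kernel
theorem chkF_2704000 : allRangeF (checkFactF cert) (nat_lit 2704000) (nat_lit 1000) = true := by decide +kernel
theorem chkF_2705000 : allRangeF (checkFactF cert) (nat_lit 2705000) (nat_lit 1000) = true := by decide +kernel
theorem chkF_2706000 : allRangeF (checkFactF cert) (nat_lit 2706000) (nat_lit 1000) = true := by decide +kernel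
theorem chkF_2707000 : allRangeF (checkFactF cert) (nat_lit 2707000) (nat_lit 1000) = true := by decide +kernel
theorem chkF_2708000 : allRangeF (checkFactF cert) (nat_lit 2708000) (nat_lit 1000) = true := by decide +kernel
theorem chkF_2709000 : allRangeF (checkFactF cert) (nat_lit 2709000) (nat_lit 1000) = true := by decide +kernel
theorem chkF_2710000 : allRangeF (checkFactF cert) (nat_lit 2710000) (nat_lit 1000) = true := by decide +kernel
theorem chkF_2711000 : allRangeF (checkFactF cert) (nat_lit 2711000) (nat_lit 1000) = true := by decide +kernel
theorem chkF_2712000 : allRangeF (checkFactF cert) (nat_lit 2712000) (nat_lit 1000) = true := by decide +kernel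
theorem chkF_2713000 : allRangeF (checkFactF cert) (nat_lit 2713000) (nat_lit 1000) = true := by decide +kernel
theorem chkF_2714000 : allRangeF (checkFactF cert) (nat_lit 2714000) (nat_lit 1000) = true := by decide +kernel
theorem chkF_2715000 : allRangeF (checkFactF cert) (nat_lit 2715000) (nat_lit 1000) = true := by decide +kernel
theorem chkF_2716000 : allRangeF (checkFactF cert) (nat_lit 2716000) (nat_lit 1000) = true := by decide +kernel
theorem chkF_2717000 : allRangeF (checkFactF cert) (nat_lit 2717000) (nat_lit 1000) = true := by decide +kernel
theorem chkF_2718000 : allRangeF (checkFactF cert) (nat_lit 2718000) (nat_lit 1000) = true := by decide +kernel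
theorem chkF_2719000 : allRangeF (checkFactF cert) (nat_lit 2719000) (nat_lit 1000) = true := by decide +kernel
theorem chkF_2720000 : allRangeF (checkFactF cert) (nat_lit 2720000) (nat_lit 1000) = true := by decide +kernel
theorem chkF_2721000 : allRangeF (checkFactF cert) (nat_lit 2721000) (nat_lit 1000) = true := by decide +kernel
theorem chkF_2722000 : allRangeF (checkFactF cert) (nat_lit 2722000) (nat_lit 1000) = true := by decide +kernel
theorem chkF_2723000 : allRangeF (checkFactF cert) (nat_lit 2723000) (nat_lit 1000) = true := by decide +kernel
theorem chkF_2724000 : allRangeF (checkFactF cert) (nat_lit 2724000) (nat_lit 1000) = true := by decide +kernel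
theorem chkF_2725000 : allRangeF (checkFactF cert) (nat_lit 2725000) (nat_lit 1000) = true := by decide +kernel
theorem chkF_2726000 : allRangeF (checkFactF cert) (nat_lit 2726000) (nat_lit 1000) = true := by decide +kernel
theorem chkF_2727000 : allRangeF (checkFactF cert) (nat_lit 2727000) (nat_lit 1000) = true := by decide +kernel
theorem chkF_2728000 : allRangeF (checkFactF cert) (nat_lit 2728000) (nat_lit 1000) = true := by decide +kernel
theorem chkF_2729000 : allRangeF (checkFactF cert) (nat_lit 2729000) (nat_lit 1000) = true := by decide +kernel
theorem chkF_2730000 : allRangeF (checkFactF cert) (nat_lit 2730000) (nat_lit 1000) = true := by decide +kernel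
theorem chkF_2731000 : allRangeF (checkFactF cert) (nat_lit 2731000) (nat_lit 1000) = true := by decide +kernel
theorem chkF_2732000 : allRangeF (checkFactF cert) (nat_lit 2732000) (nat_lit 1000) = true := by decide +kernel
theorem chkF_2733000 : allRangeF (checkFactF cert) (nat_lit 2733000) (nat_lit 1000) = true := by decide +kernel
theorem chkF_2734000 : allRangeF (checkFactF cert) (nat_lit 2734000) (nat_lit 1000) = true := by decide +kernel
theorem chkF_2735000 : allRangeF (checkFactF cert) (nat_lit 2735000) (nat_lit 1000) = true := by decide +kernel
theorem chkF_2736000 : allRangeF (checkFactF cert) (nat_lit 2736000) (nat_lit 1000) = true := by decide +kernel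
theorem chkF_2737000 : allRangeF (checkFactF cert) (nat_lit 2737000) (nat_lit 1000) = true := by decide +kernel
theorem chkF_2738000 : allRangeF (checkFactF cert) (nat_lit 2738000) (nat_lit 1000) = true := by decide +kernel
theorem chkF_2739000 : allRangeF (checkFactF cert) (nat_lit 2739000) (nat_lit 1000) = true := by decide +kernel
theorem chkF_2740000 : allRangeF (checkFactF cert) (nat_lit 2740000) (nat_lit 1000) = true := by decide +kernel
theorem chkF_2741000 : allRangeF (checkFactF cert) (nat_lit 2741000) (nat_lit 1000) = true := by decide +kernel
theorem chkF_2742000 : allRangeF (checkFactF cert) (nat_lit 2742000) (nat_lit 1000) = true := by decide +kernel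
theorem chkF_2743000 : allRangeF (checkFactF cert) (nat_lit 2743000) (nat_lit 1000) = true := by decide +kernel
theorem chkF_2744000 : allRangeF (checkFactF cert) (nat_lit 2744000) (nat_lit 1000) = true := by decide +kernel
theorem chkF_2745000 : allRangeF (checkFactF cert) (nat_lit 2745000) (nat_lit 1000) = true := by decide +kernel
theorem chkF_2746000 : allRangeF (checkFactF cert) (nat_lit 2746000) (nat_lit 1000) = true := by decide +kernel
theorem chkF_2747000 : allRangeF (checkFactF cert) (nat_lit 2747000) (nat_lit 1000) = true := by decide +kernel
theorem chkF_2748000 : allRangeF (checkFactF cert) (nat_lit 2748000) (nat_lit 1000) = true := by decide +kernel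
theorem chkF_2749000 : allRangeF (checkFactF cert) (nat_lit 2749000) (nat_lit 1000) = true := by decide +kernel
theorem chkF_2750000 : allRangeF (checkFactF cert) (nat_lit 2750000) (nat_lit 1000) = true := by decide +kernel
theorem chkF_2751000 : allRangeF (checkFactF cert) (nat_lit 2751000) (nat_lit 1000) = true := by decide +kernel
theorem chkF_2752000 : allRangeF (checkFactF cert) (nat_lit 2752000) (nat_lit 1000) = true := by decide +kernel
theorem chkF_2753000 : allRangeF (checkFactF cert) (nat_lit 2753000) (nat_lit 1000) = true := by decide +kernel
theorem chkF_2754000 : allRangeF (checkFactF cert) (nat_lit 2754000) (nat_lit 1000) = true := by decide +kernel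
theorem chkF_2755000 : allRangeF (checkFactF cert) (nat_lit 2755000) (nat_lit 1000) = true := by decide +kernel
theorem chkF_2756000 : allRangeF (checkFactF cert) (nat_lit 2756000) (nat_lit 1000) = true := by decide +kernel
theorem chkF_2757000 : allRangeF (checkFactF cert) (nat_lit 2757000) (nat_lit 1000) = true := by decide +kernel
theorem chkF_2758000 : allRangeF (checkFactF cert) (nat_lit 2758000) (nat_lit 1000) = true := by decide +kernel
theorem chkF_2759000 : allRangeF (checkFactF cert) (nat_lit 2759000) (nat_lit 1000) = true := by decide +kernel
theorem chkF_2760000 : allRangeF (checkFactF cert) (nat_lit 2760000) (nat_lit 1000) = true := by decide +kernel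
theorem chkF_2761000 : allRangeF (checkFactF cert) (nat_lit 2761000) (nat_lit 1000) = true := by decide +kernel
theorem chkF_2762000 : allRangeF (checkFactF cert) (nat_lit 2762000) (nat_lit 1000) = true := by decide +kernel
theorem chkF_2763000 : allRangeF (checkFactF cert) (nat_lit 2763000) (nat_lit 1000) = true := by decide +kernel
theorem chkF_2764000 : allRangeF (checkFactF cert) (nat_lit 2764000) (nat_lit 1000) = true := by decide +kernel
theorem chkF_2765000 : allRangeF (checkFactF cert) (nat_lit 2765000) (nat_lit 1000) = true := by decide +kernel
theorem chkF_2766000 : allRangeF (checkFactF cert) (nat_lit 2766000) (nat_lit 1000) = true := by decide +kernel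
theorem chkF_2767000 : allRangeF (checkFactF cert) (nat_lit 2767000) (nat_lit 1000) = true := by decide +kernel
theorem chkF_2768000 : allRangeF (checkFactF cert) (nat_lit 2768000) (nat_lit 1000) = true := by decide +kernel
theorem chkF_2769000 : allRangeF (checkFactF cert) (nat_lit 2769000) (nat_lit 1000) = true := by decide +kernel
theorem chkF_2770000 : allRangeF (checkFactF cert) (nat_lit 2770000) (nat_lit 1000) = true := by decide +kernel
theorem chkF_2771000 : allRangeF (checkFactF cert) (nat_lit 2771000) (nat_lit 1000) = true := by decide +kernel

theorem factsRange_27 : ∀ i, 2673000 ≤ i → i < 2772000 → checkFact cert i = true := by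
  intro i hlo hhi
  rcases Nat.lt_or_ge i 2722000 with h1 | h1
  · skip
    rcases Nat.lt_or_ge i 2697000 with h2 | h2
    · skip
      rcases Nat.lt_or_ge i 2685000 with h3 | h3
      · skip
        rcases Nat.lt_or_ge i 2679000 with h4 | h4
        · skip
          rcases Nat.lt_or_ge i 2676000 with h5 | h5
          · skip
            rcases Nat.lt_or_ge i 2674000 with h6 | h6
            · skip
              exact allRangeF_sound _ _ (checkFactF_eq cert) 2673000 1000 chkF_2673000 i (by omega) (by omega)
            · skip
              rcases Nat.lt_or_ge i 2675000 with h7 | h7
              · skip
                exact allRangeF_sound _ _ (checkFactF_eq cert) 2674000 1000 chkF_2674000 i (by omega) (by omega)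
              · skip
                exact allRangeF_sound _ _ (checkFactF_eq cert) 2675000 1000 chkF_2675000 i (by omega) (by omega)
          · skip
            rcases Nat.lt_or_ge i 2677000 with h6 | h6
            · skip
              exact allRangeF_sound _ _ (checkFactF_eq cert) 2676000 1000 chkF_2676000 i (by omega) (by omega)
            · skip
              rcases Nat.lt_or_ge i 2678000 with h7 | h7
              · skip
                exact allRangeF_sound _ _ (checkFactF_eq cert) 2677000 1000 chkF_2677000 i (by omega) (by omega)
              · skip
                exact allRangeF_sound _ _ (checkFactF_eq cert) 2678000 1000 chkF_2678000 i (by omega) (by omega)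
        · skip
          rcases Nat.lt_or_ge i 2682000 with h5 | h5
          · skip
            rcases Nat.lt_or_ge i 2680000 with h6 | h6
            · skip
              exact allRangeF_sound _ _ (checkFactF_eq cert) 2679000 1000 chkF_2679000 i (by omega) (by omega)
            · skip
              rcases Nat.lt_or_ge i 2681000 with h7 | h7
              · skip
                exact allRangeF_sound _ _ (checkFactF_eq cert) 2680000 1000 chkF_2680000 i (by omega) (by omega)
              · skip
                exact allRangeF_sound _ _ (checkFactF_eq cert) 2681000 1000 chkF_2681000 i (by omega) (by omega)
          · skip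
            rcases Nat.lt_or_ge i 2683000 with h6 | h6
            · skip
              exact allRangeF_sound _ _ (checkFactF_eq cert) 2682000 1000 chkF_2682000 i (by omega) (by omega)
            · skip
              rcases Nat.lt_or_ge i 2684000 with h7 | h7
              · skip
                exact allRangeF_sound _ _ (checkFactF_eq cert) 2683000 1000 chkF_2683000 i (by omega) (by omega)
              · skip
                exact allRangeF_sound _ _ (checkFactF_eq cert) 2684000 1000 chkF_2684000 i (by omega) (by omega)
      · skip
        rcases Nat.lt_or_ge i 2691000 with h4 | h4
        · skip
          rcases Nat.lt_or_ge i 2688000 with h5 | h5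
          · skip
            rcases Nat.lt_or_ge i 2686000 with h6 | h6
            · skip
              exact allRangeF_sound _ _ (checkFactF_eq cert) 2685000 1000 chkF_2685000 i (by omega) (by omega)
            · skip
              rcases Nat.lt_or_ge i 2687000 with h7 | h7
              · skip
                exact allRangeF_sound _ _ (checkFactF_eq cert) 2686000 1000 chkF_2686000 i (by omega) (by omega)
              · skip
                exact allRangeF_sound _ _ (checkFactF_eq cert) 2687000 1000 chkF_2687000 i (by omega) (by omega)
          · skip
            rcases Nat.lt_or_ge i 2689000 with h6 | h6
            · skip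
              exact allRangeF_sound _ _ (checkFactF_eq cert) 2688000 1000 chkF_2688000 i (by omega) (by omega)
            · skip
              rcases Nat.lt_or_ge i 2690000 with h7 | h7
              · skip
                exact allRangeF_sound _ _ (checkFactF_eq cert) 2689000 1000 chkF_2689000 i (by omega) (by omega)
              · skip
                exact allRangeF_sound _ _ (checkFactF_eq cert) 2690000 1000 chkF_2690000 i (by omega) (by omega)
        · skip
          rcases Nat.lt_or_ge i 2694000 with h5 | h5
          · skip
            rcases Nat.lt_or_ge i 2692000 with h6 | h6
            · skip
              exact allRangeF_sound _ _ (checkFactF_eq cert) 2691000 1000 chkF_2691000 i (by omega) (by omega)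
            · skip
              rcases Nat.lt_or_ge i 2693000 with h7 | h7
              · skip
                exact allRangeF_sound _ _ (checkFactF_eq cert) 2692000 1000 chkF_2692000 i (by omega) (by omega)
              · skip
                exact allRangeF_sound _ _ (checkFactF_eq cert) 2693000 1000 chkF_2693000 i (by omega) (by omega)
          · skip
            rcases Nat.lt_or_ge i 2695000 with h6 | h6
            · skip
              exact allRangeF_sound _ _ (checkFactF_eq cert) 2694000 1000 chkF_2694000 i (by omega) (by omega)
            · skip
              rcases Nat.lt_or_ge i 2696000 with h7 | h7
              · skip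
                exact allRangeF_sound _ _ (checkFactF_eq cert) 2695000 1000 chkF_2695000 i (by omega) (by omega)
              · skip
                exact allRangeF_sound _ _ (checkFactF_eq cert) 2696000 1000 chkF_2696000 i (by omega) (by omega)
    · skip
      rcases Nat.lt_or_ge i 2709000 with h3 | h3
      · skip
        rcases Nat.lt_or_ge i 2703000 with h4 | h4
        · skip
          rcases Nat.lt_or_ge i 2700000 with h5 | h5
          · skip
            rcases Nat.lt_or_ge i 2698000 with h6 | h6
            · skip
              exact allRangeF_sound _ _ (checkFactF_eq cert) 2697000 1000 chkF_2697000 i (by omega) (by omega)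
            · skip
              rcases Nat.lt_or_ge i 2699000 with h7 | h7
              · skip
                exact allRangeF_sound _ _ (checkFactF_eq cert) 2698000 1000 chkF_2698000 i (by omega) (by omega)
              · skip
                exact allRangeF_sound _ _ (checkFactF_eq cert) 2699000 1000 chkF_2699000 i (by omega) (by omega)
          · skip
            rcases Nat.lt_or_ge i 2701000 with h6 | h6
            · skip
              exact allRangeF_sound _ _ (checkFactF_eq cert) 2700000 1000 chkF_2700000 i (by omega) (by omega)
            · skip
              rcases Nat.lt_or_ge i 2702000 with h7 | h7
              · skip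
                exact allRangeF_sound _ _ (checkFactF_eq cert) 2701000 1000 chkF_2701000 i (by omega) (by omega)
              · skip
                exact allRangeF_sound _ _ (checkFactF_eq cert) 2702000 1000 chkF_2702000 i (by omega) (by omega)
        · skip
          rcases Nat.lt_or_ge i 2706000 with h5 | h5
          · skip
            rcases Nat.lt_or_ge i 2704000 with h6 | h6
            · skip
              exact allRangeF_sound _ _ (checkFactF_eq cert) 2703000 1000 chkF_2703000 i (by omega) (by omega)
            · skip
              rcases Nat.lt_or_ge i 2705000 with h7 | h7
              · skip
                exact allRangeF_sound _ _ (checkFactF_eq cert) 2704000 1000 chkF_2704000 i (by omega) (by omega)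
              · skip
                exact allRangeF_sound _ _ (checkFactF_eq cert) 2705000 1000 chkF_2705000 i (by omega) (by omega)
          · skip
            rcases Nat.lt_or_ge i 2707000 with h6 | h6
            · skip
              exact allRangeF_sound _ _ (checkFactF_eq cert) 2706000 1000 chkF_2706000 i (by omega) (by omega)
            · skip
              rcases Nat.lt_or_ge i 2708000 with h7 | h7
              · skip
                exact allRangeF_sound _ _ (checkFactF_eq cert) 2707000 1000 chkF_2707000 i (by omega) (by omega)
              · skip
                exact allRangeF_sound _ _ (checkFactF_eq cert) 2708000 1000 chkF_2708000 i (by omega) (by omega)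
      · skip
        rcases Nat.lt_or_ge i 2715000 with h4 | h4
        · skip
          rcases Nat.lt_or_ge i 2712000 with h5 | h5
          · skip
            rcases Nat.lt_or_ge i 2710000 with h6 | h6
            · skip
              exact allRangeF_sound _ _ (checkFactF_eq cert) 2709000 1000 chkF_2709000 i (by omega) (by omega)
            · skip
              rcases Nat.lt_or_ge i 2711000 with h7 | h7
              · skip
                exact allRangeF_sound _ _ (checkFactF_eq cert) 2710000 1000 chkF_2710000 i (by omega) (by omega)
              · skip
                exact allRangeF_sound _ _ (checkFactF_eq cert) 2711000 1000 chkF_2711000 i (by omega) (by omega)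
          · skip
            rcases Nat.lt_or_ge i 2713000 with h6 | h6
            · skip
              exact allRangeF_sound _ _ (checkFactF_eq cert) 2712000 1000 chkF_2712000 i (by omega) (by omega)
            · skip
              rcases Nat.lt_or_ge i 2714000 with h7 | h7
              · skip
                exact allRangeF_sound _ _ (checkFactF_eq cert) 2713000 1000 chkF_2713000 i (by omega) (by omega)
              · skip
                exact allRangeF_sound _ _ (checkFactF_eq cert) 2714000 1000 chkF_2714000 i (by omega) (by omega)
        · skip
          rcases Nat.lt_or_ge i 2718000 with h5 | h5
          · skip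
            rcases Nat.lt_or_ge i 2716000 with h6 | h6
            · skip
              exact allRangeF_sound _ _ (checkFactF_eq cert) 2715000 1000 chkF_2715000 i (by omega) (by omega)
            · skip
              rcases Nat.lt_or_ge i 2717000 with h7 | h7
              · skip
                exact allRangeF_sound _ _ (checkFactF_eq cert) 2716000 1000 chkF_2716000 i (by omega) (by omega)
              · skip
                exact allRangeF_sound _ _ (checkFactF_eq cert) 2717000 1000 chkF_2717000 i (by omega) (by omega)
          · skip
            rcases Nat.lt_or_ge i 2720000 with h6 | h6
            · skip
              rcases Nat.lt_or_ge i 2719000 with h7 | h7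
              · skip
                exact allRangeF_sound _ _ (checkFactF_eq cert) 2718000 1000 chkF_2718000 i (by omega) (by omega)
              · skip
                exact allRangeF_sound _ _ (checkFactF_eq cert) 2719000 1000 chkF_2719000 i (by omega) (by omega)
            · skip
              rcases Nat.lt_or_ge i 2721000 with h7 | h7
              · skip
                exact allRangeF_sound _ _ (checkFactF_eq cert) 2720000 1000 chkF_2720000 i (by omega) (by omega)
              · skip
                exact allRangeF_sound _ _ (checkFactF_eq cert) 2721000 1000 chkF_2721000 i (by omega) (by omega)
  · skip
    rcases Nat.lt_or_ge i 2747000 with h2 | h2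
    · skip
      rcases Nat.lt_or_ge i 2734000 with h3 | h3
      · skip
        rcases Nat.lt_or_ge i 2728000 with h4 | h4
        · skip
          rcases Nat.lt_or_ge i 2725000 with h5 | h5
          · skip
            rcases Nat.lt_or_ge i 2723000 with h6 | h6
            · skip
              exact allRangeF_sound _ _ (checkFactF_eq cert) 2722000 1000 chkF_2722000 i (by omega) (by omega)
            · skip
              rcases Nat.lt_or_ge i 2724000 with h7 | h7
              · skip
                exact allRangeF_sound _ _ (checkFactF_eq cert) 2723000 1000 chkF_2723000 i (by omega) (by omega)
              · skip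
                exact allRangeF_sound _ _ (checkFactF_eq cert) 2724000 1000 chkF_2724000 i (by omega) (by omega)
          · skip
            rcases Nat.lt_or_ge i 2726000 with h6 | h6
            · skip
              exact allRangeF_sound _ _ (checkFactF_eq cert) 2725000 1000 chkF_2725000 i (by omega) (by omega)
            · skip
              rcases Nat.lt_or_ge i 2727000 with h7 | h7
              · skip
                exact allRangeF_sound _ _ (checkFactF_eq cert) 2726000 1000 chkF_2726000 i (by omega) (by omega)
              · skip
                exact allRangeF_sound _ _ (checkFactF_eq cert) 2727000 1000 chkF_2727000 i (by omega) (by omega)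
        · skip
          rcases Nat.lt_or_ge i 2731000 with h5 | h5
          · skip
            rcases Nat.lt_or_ge i 2729000 with h6 | h6
            · skip
              exact allRangeF_sound _ _ (checkFactF_eq cert) 2728000 1000 chkF_2728000 i (by omega) (by omega)
            · skip
              rcases Nat.lt_or_ge i 2730000 with h7 | h7
              · skip
                exact allRangeF_sound _ _ (checkFactF_eq cert) 2729000 1000 chkF_2729000 i (by omega) (by omega)
              · skip
                exact allRangeF_sound _ _ (checkFactF_eq cert) 2730000 1000 chkF_2730000 i (by omega) (by omega)
          · skip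
            rcases Nat.lt_or_ge i 2732000 with h6 | h6
            · skip
              exact allRangeF_sound _ _ (checkFactF_eq cert) 2731000 1000 chkF_2731000 i (by omega) (by omega)
            · skip
              rcases Nat.lt_or_ge i 2733000 with h7 | h7
              · skip
                exact allRangeF_sound _ _ (checkFactF_eq cert) 2732000 1000 chkF_2732000 i (by omega) (by omega)
              · skip
                exact allRangeF_sound _ _ (checkFactF_eq cert) 2733000 1000 chkF_2733000 i (by omega) (by omega)
      · skip
        rcases Nat.lt_or_ge i 2740000 with h4 | h4
        · skip
          rcases Nat.lt_or_ge i 2737000 with h5 | h5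
          · skip
            rcases Nat.lt_or_ge i 2735000 with h6 | h6
            · skip
              exact allRangeF_sound _ _ (checkFactF_eq cert) 2734000 1000 chkF_2734000 i (by omega) (by omega)
            · skip
              rcases Nat.lt_or_ge i 2736000 with h7 | h7
              · skip
                exact allRangeF_sound _ _ (checkFactF_eq cert) 2735000 1000 chkF_2735000 i (by omega) (by omega)
              · skip
                exact allRangeF_sound _ _ (checkFactF_eq cert) 2736000 1000 chkF_2736000 i (by omega) (by omega)
          · skip
            rcases Nat.lt_or_ge i 2738000 with h6 | h6
            · skip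
              exact allRangeF_sound _ _ (checkFactF_eq cert) 2737000 1000 chkF_2737000 i (by omega) (by omega)
            · skip
              rcases Nat.lt_or_ge i 2739000 with h7 | h7
              · skip
                exact allRangeF_sound _ _ (checkFactF_eq cert) 2738000 1000 chkF_2738000 i (by omega) (by omega)
              · skip
                exact allRangeF_sound _ _ (checkFactF_eq cert) 2739000 1000 chkF_2739000 i (by omega) (by omega)
        · skip
          rcases Nat.lt_or_ge i 2743000 with h5 | h5
          · skip
            rcases Nat.lt_or_ge i 2741000 with h6 | h6
            · skip
              exact allRangeF_sound _ _ (checkFactF_eq cert) 2740000 1000 chkF_2740000 i (by omega) (by omega)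
            · skip
              rcases Nat.lt_or_ge i 2742000 with h7 | h7
              · skip
                exact allRangeF_sound _ _ (checkFactF_eq cert) 2741000 1000 chkF_2741000 i (by omega) (by omega)
              · skip
                exact allRangeF_sound _ _ (checkFactF_eq cert) 2742000 1000 chkF_2742000 i (by omega) (by omega)
          · skip
            rcases Nat.lt_or_ge i 2745000 with h6 | h6
            · skip
              rcases Nat.lt_or_ge i 2744000 with h7 | h7
              · skip
                exact allRangeF_sound _ _ (checkFactF_eq cert) 2743000 1000 chkF_2743000 i (by omega) (by omega)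
              · skip
                exact allRangeF_sound _ _ (checkFactF_eq cert) 2744000 1000 chkF_2744000 i (by omega) (by omega)
            · skip
              rcases Nat.lt_or_ge i 2746000 with h7 | h7
              · skip
                exact allRangeF_sound _ _ (checkFactF_eq cert) 2745000 1000 chkF_2745000 i (by omega) (by omega)
              · skip
                exact allRangeF_sound _ _ (checkFactF_eq cert) 2746000 1000 chkF_2746000 i (by omega) (by omega)
    · skip
      rcases Nat.lt_or_ge i 2759000 with h3 | h3
      · skip
        rcases Nat.lt_or_ge i 2753000 with h4 | h4
        · skip
          rcases Nat.lt_or_ge i 2750000 with h5 | h5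
          · skip
            rcases Nat.lt_or_ge i 2748000 with h6 | h6
            · skip
              exact allRangeF_sound _ _ (checkFactF_eq cert) 2747000 1000 chkF_2747000 i (by omega) (by omega)
            · skip
              rcases Nat.lt_or_ge i 2749000 with h7 | h7
              · skip
                exact allRangeF_sound _ _ (checkFactF_eq cert) 2748000 1000 chkF_2748000 i (by omega) (by omega)
              · skip
                exact allRangeF_sound _ _ (checkFactF_eq cert) 2749000 1000 chkF_2749000 i (by omega) (by omega)
          · skip
            rcases Nat.lt_or_ge i 2751000 with h6 | h6
            · skip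
              exact allRangeF_sound _ _ (checkFactF_eq cert) 2750000 1000 chkF_2750000 i (by omega) (by omega)
            · skip
              rcases Nat.lt_or_ge i 2752000 with h7 | h7
              · skip
                exact allRangeF_sound _ _ (checkFactF_eq cert) 2751000 1000 chkF_2751000 i (by omega) (by omega)
              · skip
                exact allRangeF_sound _ _ (checkFactF_eq cert) 2752000 1000 chkF_2752000 i (by omega) (by omega)
        · skip
          rcases Nat.lt_or_ge i 2756000 with h5 | h5
          · skip
            rcases Nat.lt_or_ge i 2754000 with h6 | h6
            · skip
              exact allRangeF_sound _ _ (checkFactF_eq cert) 2753000 1000 chkF_2753000 i (by omega) (by omega)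
            · skip
              rcases Nat.lt_or_ge i 2755000 with h7 | h7
              · skip
                exact allRangeF_sound _ _ (checkFactF_eq cert) 2754000 1000 chkF_2754000 i (by omega) (by omega)
              · skip
                exact allRangeF_sound _ _ (checkFactF_eq cert) 2755000 1000 chkF_2755000 i (by omega) (by omega)
          · skip
            rcases Nat.lt_or_ge i 2757000 with h6 | h6
            · skip
              exact allRangeF_sound _ _ (checkFactF_eq cert) 2756000 1000 chkF_2756000 i (by omega) (by omega)
            · skip
              rcases Nat.lt_or_ge i 2758000 with h7 | h7
              · skip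
                exact allRangeF_sound _ _ (checkFactF_eq cert) 2757000 1000 chkF_2757000 i (by omega) (by omega)
              · skip
                exact allRangeF_sound _ _ (checkFactF_eq cert) 2758000 1000 chkF_2758000 i (by omega) (by omega)
      · skip
        rcases Nat.lt_or_ge i 2765000 with h4 | h4
        · skip
          rcases Nat.lt_or_ge i 2762000 with h5 | h5
          · skip
            rcases Nat.lt_or_ge i 2760000 with h6 | h6
            · skip
              exact allRangeF_sound _ _ (checkFactF_eq cert) 2759000 1000 chkF_2759000 i (by omega) (by omega)
            · skip
              rcases Nat.lt_or_ge i 2761000 with h7 | h7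
              · skip
                exact allRangeF_sound _ _ (checkFactF_eq cert) 2760000 1000 chkF_2760000 i (by omega) (by omega)
              · skip
                exact allRangeF_sound _ _ (checkFactF_eq cert) 2761000 1000 chkF_2761000 i (by omega) (by omega)
          · skip
            rcases Nat.lt_or_ge i 2763000 with h6 | h6
            · skip
              exact allRangeF_sound _ _ (checkFactF_eq cert) 2762000 1000 chkF_2762000 i (by omega) (by omega)
            · skip
              rcases Nat.lt_or_ge i 2764000 with h7 | h7
              · skip
                exact allRangeF_sound _ _ (checkFactF_eq cert) 2763000 1000 chkF_2763000 i (by omega) (by omega)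
              · skip
                exact allRangeF_sound _ _ (checkFactF_eq cert) 2764000 1000 chkF_2764000 i (by omega) (by omega)
        · skip
          rcases Nat.lt_or_ge i 2768000 with h5 | h5
          · skip
            rcases Nat.lt_or_ge i 2766000 with h6 | h6
            · skip
              exact allRangeF_sound _ _ (checkFactF_eq cert) 2765000 1000 chkF_2765000 i (by omega) (by omega)
            · skip
              rcases Nat.lt_or_ge i 2767000 with h7 | h7
              · skip
                exact allRangeF_sound _ _ (checkFactF_eq cert) 2766000 1000 chkF_2766000 i (by omega) (by omega)
              · skip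
                exact allRangeF_sound _ _ (checkFactF_eq cert) 2767000 1000 chkF_2767000 i (by omega) (by omega)
          · skip
            rcases Nat.lt_or_ge i 2770000 with h6 | h6
            · skip
              rcases Nat.lt_or_ge i 2769000 with h7 | h7
              · skip
                exact allRangeF_sound _ _ (checkFactF_eq cert) 2768000 1000 chkF_2768000 i (by omega) (by omega)
              · skip
                exact allRangeF_sound _ _ (checkFactF_eq cert) 2769000 1000 chkF_2769000 i (by omega) (by omega)
            · skip
              rcases Nat.lt_or_ge i 2771000 with h7 | h7
              · skip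
                exact allRangeF_sound _ _ (checkFactF_eq cert) 2770000 1000 chkF_2770000 i (by omega) (by omega)
              · skip
                exact allRangeF_sound _ _ (checkFactF_eq cert) 2771000 1000 chkF_2771000 i (by omega) (by omega)

end Cfsg.Agent.Lib.Helper28.Fi24Data
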