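import Cfsg.Agent.Lib.Helper28.Fi24Data
import Cfsg.Agent.Lib.Helper28.TCFastFB

set_option autoImplicit false
set_option maxRecDepth 1000000
set_option linter.all false
set_option Elab.async false

namespace Cfsg.Agent.Lib.Helper28.Fi24Data

open Cfsg.Agent.Lib.Helper28B

theorem chkF_2772000 : allRangeF (checkFactF cert) (nat_lit 2772000) (nat_lit 1000) = true := by decide +kernel
theorem chkF_2773000 : allRangeF (checkFactF cert) (nat_lit 2773000) (nat_lit 1000) = true := by decide +kernel
theorem chkF_2774000 : allRangeF (checkFactF cert) (nat_lit 2774000) (nat_lit 1000) = true := by decide +kernel
theorem chkF_2775000 : allRangeF (checkFactF cert) (nat_lit 2775000) (nat_lit 1000) = true := by decide +kernel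
theorem chkF_2776000 : allRangeF (checkFactF cert) (nat_lit 2776000) (nat_lit 1000) = true := by decide +kernel
theorem chkF_2777000 : allRangeF (checkFactF cert) (nat_lit 2777000) (nat_lit 1000) = true := by decide +kernel
theorem chkF_2778000 : allRangeF (checkFactF cert) (nat_lit 2778000) (nat_lit 1000) = true := by decide +kernel
theorem chkF_2779000 : allRangeF (checkFactF cert) (nat_lit 2779000) (nat_lit 1000) = true := by decide +kernel
theorem chkF_2780000 : allRangeF (checkFactF cert) (nat_lit 2780000) (nat_lit 1000) = true := by decide +kernel
theorem chkF_2781000 : allRangeF (checkFactF cert) (nat_lit 2781000) (nat_lit 1000) = true := by decide +kernel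
theorem chkF_2782000 : allRangeF (checkFactF cert) (nat_lit 2782000) (nat_lit 1000) = true := by decide +kernel
theorem chkF_2783000 : allRangeF (checkFactF cert) (nat_lit 2783000) (nat_lit 1000) = true := by decide +kernel
theorem chkF_2784000 : allRangeF (checkFactF cert) (nat_lit 2784000) (nat_lit 1000) = true := by decide +kernel
theorem chkF_2785000 : allRangeF (checkFactF cert) (nat_lit 2785000) (nat_lit 1000) = true := by decide +kernel
theorem chkF_2786000 : allRangeF (checkFactF cert) (nat_lit 2786000) (nat_lit 1000) = true := by decide +kernel
theorem chkF_2787000 : allRangeF (checkFactF cert) (nat_lit 2787000) (nat_lit 1000) = true := by decide +kernel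
theorem chkF_2788000 : allRangeF (checkFactF cert) (nat_lit 2788000) (nat_lit 1000) = true := by decide +kernel
theorem chkF_2789000 : allRangeF (checkFactF cert) (nat_lit 2789000) (nat_lit 1000) = true := by decide +kernel
theorem chkF_2790000 : allRangeF (checkFactF cert) (nat_lit 2790000) (nat_lit 1000) = true := by decide +kernel
theorem chkF_2791000 : allRangeF (checkFactF cert) (nat_lit 2791000) (nat_lit 1000) = true := by decide +kernel
theorem chkF_2792000 : allRangeF (checkFactF cert) (nat_lit 2792000) (nat_lit 1000) = true := by decide +kernel
theorem chkF_2793000 : allRangeF (checkFactF cert) (nat_lit 2793000) (nat_lit 1000) = true := by decide +kernel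
theorem chkF_2794000 : allRangeF (checkFactF cert) (nat_lit 2794000) (nat_lit 1000) = true := by decide +kernel
theorem chkF_2795000 : allRangeF (checkFactF cert) (nat_lit 2795000) (nat_lit 1000) = true := by decide +kernel
theorem chkF_2796000 : allRangeF (checkFactF cert) (nat_lit 2796000) (nat_lit 1000) = true := by decide +kernel
theorem chkF_2797000 : allRangeF (checkFactF cert) (nat_lit 2797000) (nat_lit 1000) = true := by decide +kernel
theorem chkF_2798000 : allRangeF (checkFactF cert) (nat_lit 2798000) (nat_lit 1000) = true := by decide +kernel
theorem chkF_2799000 : allRangeF (checkFactF cert) (nat_lit 2799000) (nat_lit 1000) = true := by decide +kernel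
theorem chkF_2800000 : allRangeF (checkFactF cert) (nat_lit 2800000) (nat_lit 1000) = true := by decide +kernel
theorem chkF_2801000 : allRangeF (checkFactF cert) (nat_lit 2801000) (nat_lit 1000) = true := by decide +kernel
theorem chkF_2802000 : allRangeF (checkFactF cert) (nat_lit 2802000) (nat_lit 1000) = true := by decide +kernel
theorem chkF_2803000 : allRangeF (checkFactF cert) (nat_lit 2803000) (nat_lit 1000) = true := by decide +kernel
theorem chkF_2804000 : allRangeF (checkFactF cert) (nat_lit 2804000) (nat_lit 1000) = true := by decide +kernel
theorem chkF_2805000 : allRangeF (checkFactF cert) (nat_lit 2805000) (nat_lit 1000) = true := by decide +kernel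
theorem chkF_2806000 : allRangeF (checkFactF cert) (nat_lit 2806000) (nat_lit 1000) = true := by decide +kernel
theorem chkF_2807000 : allRangeF (checkFactF cert) (nat_lit 2807000) (nat_lit 1000) = true := by decide +kernel
theorem chkF_2808000 : allRangeF (checkFactF cert) (nat_lit 2808000) (nat_lit 1000) = true := by decide +kernel
theorem chkF_2809000 : allRangeF (checkFactF cert) (nat_lit 2809000) (nat_lit 1000) = true := by decide +kernel
theorem chkF_2810000 : allRangeF (checkFactF cert) (nat_lit 2810000) (nat_lit 1000) = true := by decide +kernel
theorem chkF_2811000 : allRangeF (checkFactF cert) (nat_lit 2811000) (nat_lit 1000) = true := by decide +kernel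
theorem chkF_2812000 : allRangeF (checkFactF cert) (nat_lit 2812000) (nat_lit 1000) = true := by decide +kernel
theorem chkF_2813000 : allRangeF (checkFactF cert) (nat_lit 2813000) (nat_lit 1000) = true := by decide +kernel
theorem chkF_2814000 : allRangeF (checkFactF cert) (nat_lit 2814000) (nat_lit 1000) = true := by decide +kernel
theorem chkF_2815000 : allRangeF (checkFactF cert) (nat_lit 2815000) (nat_lit 1000) = true := by decide +kernel
theorem chkF_2816000 : allRangeF (checkFactF cert) (nat_lit 2816000) (nat_lit 1000) = true := by decide +kernel
theorem chkF_2817000 : allRangeF (checkFactF cert) (nat_lit 2817000) (nat_lit 1000) = true := by decide +kernel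
theorem chkF_2818000 : allRangeF (checkFactF cert) (nat_lit 2818000) (nat_lit 1000) = true := by decide +kernel
theorem chkF_2819000 : allRangeF (checkFactF cert) (nat_lit 2819000) (nat_lit 1000) = true := by decide +kernel
theorem chkF_2820000 : allRangeF (checkFactF cert) (nat_lit 2820000) (nat_lit 1000) = true := by decide +kernel
theorem chkF_2821000 : allRangeF (checkFactF cert) (nat_lit 2821000) (nat_lit 1000) = true := by decide +kernel
theorem chkF_2822000 : allRangeF (checkFactF cert) (nat_lit 2822000) (nat_lit 1000) = true := by decide +kernel
theorem chkF_2823000 : allRangeF (checkFactF cert) (nat_lit 2823000) (nat_lit 1000) = true := by decide +kernel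
theorem chkF_2824000 : allRangeF (checkFactF cert) (nat_lit 2824000) (nat_lit 1000) = true := by decide +kernel
theorem chkF_2825000 : allRangeF (checkFactF cert) (nat_lit 2825000) (nat_lit 1000) = true := by decide +kernel
theorem chkF_2826000 : allRangeF (checkFactF cert) (nat_lit 2826000) (nat_lit 1000) = true := by decide +kernel
theorem chkF_2827000 : allRangeF (checkFactF cert) (nat_lit 2827000) (nat_lit 1000) = true := by decide +kernel
theorem chkF_2828000 : allRangeF (checkFactF cert) (nat_lit 2828000) (nat_lit 1000) = true := by decide +kernel
theorem chkF_2829000 : allRangeF (checkFactF cert) (nat_lit 2829000) (nat_lit 1000) = true := by decide +kernel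
theorem chkF_2830000 : allRangeF (checkFactF cert) (nat_lit 2830000) (nat_lit 1000) = true := by decide +kernel
theorem chkF_2831000 : allRangeF (checkFactF cert) (nat_lit 2831000) (nat_lit 1000) = true := by decide +kernel
theorem chkF_2832000 : allRangeF (checkFactF cert) (nat_lit 2832000) (nat_lit 1000) = true := by decide +kernel
theorem chkF_2833000 : allRangeF (checkFactF cert) (nat_lit 2833000) (nat_lit 1000) = true := by decide +kernel
theorem chkF_2834000 : allRangeF (checkFactF cert) (nat_lit 2834000) (nat_lit 1000) = true := by decide +kernel
theorem chkF_2835000 : allRangeF (checkFactF cert) (nat_lit 2835000) (nat_lit 1000) = true := by decide +kernel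
theorem chkF_2836000 : allRangeF (checkFactF cert) (nat_lit 2836000) (nat_lit 1000) = true := by decide +kernel
theorem chkF_2837000 : allRangeF (checkFactF cert) (nat_lit 2837000) (nat_lit 1000) = true := by decide +kernel
theorem chkF_2838000 : allRangeF (checkFactF cert) (nat_lit 2838000) (nat_lit 1000) = true := by decide +kernel
theorem chkF_2839000 : allRangeF (checkFactF cert) (nat_lit 2839000) (nat_lit 1000) = true := by decide +kernel
theorem chkF_2840000 : allRangeF (checkFactF cert) (nat_lit 2840000) (nat_lit 1000) = true := by decide +kernel
theorem chkF_2841000 : allRangeF (checkFactF cert) (nat_lit 2841000) (nat_lit 1000) = true := by decide +kernel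
theorem chkF_2842000 : allRangeF (checkFactF cert) (nat_lit 2842000) (nat_lit 1000) = true := by decide +kernel
theorem chkF_2843000 : allRangeF (checkFactF cert) (nat_lit 2843000) (nat_lit 1000) = true := by decide +kernel
theorem chkF_2844000 : allRangeF (checkFactF cert) (nat_lit 2844000) (nat_lit 1000) = true := by decide +kernel
theorem chkF_2845000 : allRangeF (checkFactF cert) (nat_lit 2845000) (nat_lit 1000) = true := by decide +kernel
theorem chkF_2846000 : allRangeF (checkFactF cert) (nat_lit 2846000) (nat_lit 1000) = true := by decide +kernel
theorem chkF_2847000 : allRangeF (checkFactF cert) (nat_lit 2847000) (nat_lit 1000) = true := by decide +kernel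
theorem chkF_2848000 : allRangeF (checkFactF cert) (nat_lit 2848000) (nat_lit 1000) = true := by decide +kernel
theorem chkF_2849000 : allRangeF (checkFactF cert) (nat_lit 2849000) (nat_lit 1000) = true := by decide +kernel
theorem chkF_2850000 : allRangeF (checkFactF cert) (nat_lit 2850000) (nat_lit 1000) = true := by decide +kernel
theorem chkF_2851000 : allRangeF (checkFactF cert) (nat_lit 2851000) (nat_lit 1000) = true := by decide +kernel
theorem chkF_2852000 : allRangeF (checkFactF cert) (nat_lit 2852000) (nat_lit 1000) = true := by decide +kernel
theorem chkF_2853000 : allRangeF (checkFactF cert) (nat_lit 2853000) (nat_lit 1000) = true := by decide +kernel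
theorem chkF_2854000 : allRangeF (checkFactF cert) (nat_lit 2854000) (nat_lit 1000) = true := by decide +kernel
theorem chkF_2855000 : allRangeF (checkFactF cert) (nat_lit 2855000) (nat_lit 1000) = true := by decide +kernel
theorem chkF_2856000 : allRangeF (checkFactF cert) (nat_lit 2856000) (nat_lit 1000) = true := by decide +kernel
theorem chkF_2857000 : allRangeF (checkFactF cert) (nat_lit 2857000) (nat_lit 1000) = true := by decide +kernel
theorem chkF_2858000 : allRangeF (checkFactF cert) (nat_lit 2858000) (nat_lit 1000) = true := by decide +kernel
theorem chkF_2859000 : allRangeF (checkFactF cert) (nat_lit 2859000) (nat_lit 1000) = true := by decide +kernel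
theorem chkF_2860000 : allRangeF (checkFactF cert) (nat_lit 2860000) (nat_lit 1000) = true := by decide +kernel
theorem chkF_2861000 : allRangeF (checkFactF cert) (nat_lit 2861000) (nat_lit 1000) = true := by decide +kernel
theorem chkF_2862000 : allRangeF (checkFactF cert) (nat_lit 2862000) (nat_lit 1000) = true := by decide +kernel
theorem chkF_2863000 : allRangeF (checkFactF cert) (nat_lit 2863000) (nat_lit 1000) = true := by decide +kernel
theorem chkF_2864000 : allRangeF (checkFactF cert) (nat_lit 2864000) (nat_lit 1000) = true := by decide +kernel
theorem chkF_2865000 : allRangeF (checkFactF cert) (nat_lit 2865000) (nat_lit 1000) = true := by decide +kernel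
theorem chkF_2866000 : allRangeF (checkFactF cert) (nat_lit 2866000) (nat_lit 1000) = true := by decide +kernel
theorem chkF_2867000 : allRangeF (checkFactF cert) (nat_lit 2867000) (nat_lit 1000) = true := by decide +kernel
theorem chkF_2868000 : allRangeF (checkFactF cert) (nat_lit 2868000) (nat_lit 1000) = true := by decide +kernel
theorem chkF_2869000 : allRangeF (checkFactF cert) (nat_lit 2869000) (nat_lit 1000) = true := by decide +kernel
theorem chkF_2870000 : allRangeF (checkFactF cert) (nat_lit 2870000) (nat_lit 1000) = true := by decide +kernel

theorem factsRange_28 : ∀ i, 2772000 ≤ i → i < 2871000 → checkFact cert i = true := by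
  intro i hlo hhi
  rcases Nat.lt_or_ge i 2821000 with h1 | h1
  · skip
    rcases Nat.lt_or_ge i 2796000 with h2 | h2
    · skip
      rcases Nat.lt_or_ge i 2784000 with h3 | h3
      · skip
        rcases Nat.lt_or_ge i 2778000 with h4 | h4
        · skip
          rcases Nat.lt_or_ge i 2775000 with h5 | h5
          · skip
            rcases Nat.lt_or_ge i 2773000 with h6 | h6
            · skip
              exact allRangeF_sound _ _ (checkFactF_eq cert) 2772000 1000 chkF_2772000 i (by omega) (by omega)
            · skip
              rcases Nat.lt_or_ge i 2774000 with h7 | h7
              · skip
                exact allRangeF_sound _ _ (checkFactF_eq cert) 2773000 1000 chkF_2773000 i (by omega) (by omega)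
              · skip
                exact allRangeF_sound _ _ (checkFactF_eq cert) 2774000 1000 chkF_2774000 i (by omega) (by omega)
          · skip
            rcases Nat.lt_or_ge i 2776000 with h6 | h6
            · skip
              exact allRangeF_sound _ _ (checkFactF_eq cert) 2775000 1000 chkF_2775000 i (by omega) (by omega)
            · skip
              rcases Nat.lt_or_ge i 2777000 with h7 | h7
              · skip
                exact allRangeF_sound _ _ (checkFactF_eq cert) 2776000 1000 chkF_2776000 i (by omega) (by omega)
              · skip
                exact allRangeF_sound _ _ (checkFactF_eq cert) 2777000 1000 chkF_2777000 i (by omega) (by omega)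
        · skip
          rcases Nat.lt_or_ge i 2781000 with h5 | h5
          · skip
            rcases Nat.lt_or_ge i 2779000 with h6 | h6
            · skip
              exact allRangeF_sound _ _ (checkFactF_eq cert) 2778000 1000 chkF_2778000 i (by omega) (by omega)
            · skip
              rcases Nat.lt_or_ge i 2780000 with h7 | h7
              · skip
                exact allRangeF_sound _ _ (checkFactF_eq cert) 2779000 1000 chkF_2779000 i (by omega) (by omega)
              · skip
                exact allRangeF_sound _ _ (checkFactF_eq cert) 2780000 1000 chkF_2780000 i (by omega) (by omega)
          · skip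
            rcases Nat.lt_or_ge i 2782000 with h6 | h6
            · skip
              exact allRangeF_sound _ _ (checkFactF_eq cert) 2781000 1000 chkF_2781000 i (by omega) (by omega)
            · skip
              rcases Nat.lt_or_ge i 2783000 with h7 | h7
              · skip
                exact allRangeF_sound _ _ (checkFactF_eq cert) 2782000 1000 chkF_2782000 i (by omega) (by omega)
              · skip
                exact allRangeF_sound _ _ (checkFactF_eq cert) 2783000 1000 chkF_2783000 i (by omega) (by omega)
      · skip
        rcases Nat.lt_or_ge i 2790000 with h4 | h4
        · skip
          rcases Nat.lt_or_ge i 2787000 with h5 | h5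
          · skip
            rcases Nat.lt_or_ge i 2785000 with h6 | h6
            · skip
              exact allRangeF_sound _ _ (checkFactF_eq cert) 2784000 1000 chkF_2784000 i (by omega) (by omega)
            · skip
              rcases Nat.lt_or_ge i 2786000 with h7 | h7
              · skip
                exact allRangeF_sound _ _ (checkFactF_eq cert) 2785000 1000 chkF_2785000 i (by omega) (by omega)
              · skip
                exact allRangeF_sound _ _ (checkFactF_eq cert) 2786000 1000 chkF_2786000 i (by omega) (by omega)
          · skip
            rcases Nat.lt_or_ge i 2788000 with h6 | h6
            · skip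
              exact allRangeF_sound _ _ (checkFactF_eq cert) 2787000 1000 chkF_2787000 i (by omega) (by omega)
            · skip
              rcases Nat.lt_or_ge i 2789000 with h7 | h7
              · skip
                exact allRangeF_sound _ _ (checkFactF_eq cert) 2788000 1000 chkF_2788000 i (by omega) (by omega)
              · skip
                exact allRangeF_sound _ _ (checkFactF_eq cert) 2789000 1000 chkF_2789000 i (by omega) (by omega)
        · skip
          rcases Nat.lt_or_ge i 2793000 with h5 | h5
          · skip
            rcases Nat.lt_or_ge i 2791000 with h6 | h6
            · skip
              exact allRangeF_sound _ _ (checkFactF_eq cert) 2790000 1000 chkF_2790000 i (by omega) (by omega)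
            · skip
              rcases Nat.lt_or_ge i 2792000 with h7 | h7
              · skip
                exact allRangeF_sound _ _ (checkFactF_eq cert) 2791000 1000 chkF_2791000 i (by omega) (by omega)
              · skip
                exact allRangeF_sound _ _ (checkFactF_eq cert) 2792000 1000 chkF_2792000 i (by omega) (by omega)
          · skip
            rcases Nat.lt_or_ge i 2794000 with h6 | h6
            · skip
              exact allRangeF_sound _ _ (checkFactF_eq cert) 2793000 1000 chkF_2793000 i (by omega) (by omega)
            · skip
              rcases Nat.lt_or_ge i 2795000 with h7 | h7
              · skip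
                exact allRangeF_sound _ _ (checkFactF_eq cert) 2794000 1000 chkF_2794000 i (by omega) (by omega)
              · skip
                exact allRangeF_sound _ _ (checkFactF_eq cert) 2795000 1000 chkF_2795000 i (by omega) (by omega)
    · skip
      rcases Nat.lt_or_ge i 2808000 with h3 | h3
      · skip
        rcases Nat.lt_or_ge i 2802000 with h4 | h4
        · skip
          rcases Nat.lt_or_ge i 2799000 with h5 | h5
          · skip
            rcases Nat.lt_or_ge i 2797000 with h6 | h6
            · skip
              exact allRangeF_sound _ _ (checkFactF_eq cert) 2796000 1000 chkF_2796000 i (by omega) (by omega)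
            · skip
              rcases Nat.lt_or_ge i 2798000 with h7 | h7
              · skip
                exact allRangeF_sound _ _ (checkFactF_eq cert) 2797000 1000 chkF_2797000 i (by omega) (by omega)
              · skip
                exact allRangeF_sound _ _ (checkFactF_eq cert) 2798000 1000 chkF_2798000 i (by omega) (by omega)
          · skip
            rcases Nat.lt_or_ge i 2800000 with h6 | h6
            · skip
              exact allRangeF_sound _ _ (checkFactF_eq cert) 2799000 1000 chkF_2799000 i (by omega) (by omega)
            · skip
              rcases Nat.lt_or_ge i 2801000 with h7 | h7
              · skip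
                exact allRangeF_sound _ _ (checkFactF_eq cert) 2800000 1000 chkF_2800000 i (by omega) (by omega)
              · skip
                exact allRangeF_sound _ _ (checkFactF_eq cert) 2801000 1000 chkF_2801000 i (by omega) (by omega)
        · skip
          rcases Nat.lt_or_ge i 2805000 with h5 | h5
          · skip
            rcases Nat.lt_or_ge i 2803000 with h6 | h6
            · skip
              exact allRangeF_sound _ _ (checkFactF_eq cert) 2802000 1000 chkF_2802000 i (by omega) (by omega)
            · skip
              rcases Nat.lt_or_ge i 2804000 with h7 | h7
              · skip
                exact allRangeF_sound _ _ (checkFactF_eq cert) 2803000 1000 chkF_2803000 i (by omega) (by omega)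
              · skip
                exact allRangeF_sound _ _ (checkFactF_eq cert) 2804000 1000 chkF_2804000 i (by omega) (by omega)
          · skip
            rcases Nat.lt_or_ge i 2806000 with h6 | h6
            · skip
              exact allRangeF_sound _ _ (checkFactF_eq cert) 2805000 1000 chkF_2805000 i (by omega) (by omega)
            · skip
              rcases Nat.lt_or_ge i 2807000 with h7 | h7
              · skip
                exact allRangeF_sound _ _ (checkFactF_eq cert) 2806000 1000 chkF_2806000 i (by omega) (by omega)
              · skip
                exact allRangeF_sound _ _ (checkFactF_eq cert) 2807000 1000 chkF_2807000 i (by omega) (by omega)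
      · skip
        rcases Nat.lt_or_ge i 2814000 with h4 | h4
        · skip
          rcases Nat.lt_or_ge i 2811000 with h5 | h5
          · skip
            rcases Nat.lt_or_ge i 2809000 with h6 | h6
            · skip
              exact allRangeF_sound _ _ (checkFactF_eq cert) 2808000 1000 chkF_2808000 i (by omega) (by omega)
            · skip
              rcases Nat.lt_or_ge i 2810000 with h7 | h7
              · skip
                exact allRangeF_sound _ _ (checkFactF_eq cert) 2809000 1000 chkF_2809000 i (by omega) (by omega)
              · skip
                exact allRangeF_sound _ _ (checkFactF_eq cert) 2810000 1000 chkF_2810000 i (by omega) (by omega)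
          · skip
            rcases Nat.lt_or_ge i 2812000 with h6 | h6
            · skip
              exact allRangeF_sound _ _ (checkFactF_eq cert) 2811000 1000 chkF_2811000 i (by omega) (by omega)
            · skip
              rcases Nat.lt_or_ge i 2813000 with h7 | h7
              · skip
                exact allRangeF_sound _ _ (checkFactF_eq cert) 2812000 1000 chkF_2812000 i (by omega) (by omega)
              · skip
                exact allRangeF_sound _ _ (checkFactF_eq cert) 2813000 1000 chkF_2813000 i (by omega) (by omega)
        · skip
          rcases Nat.lt_or_ge i 2817000 with h5 | h5
          · skip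
            rcases Nat.lt_or_ge i 2815000 with h6 | h6
            · skip
              exact allRangeF_sound _ _ (checkFactF_eq cert) 2814000 1000 chkF_2814000 i (by omega) (by omega)
            · skip
              rcases Nat.lt_or_ge i 2816000 with h7 | h7
              · skip
                exact allRangeF_sound _ _ (checkFactF_eq cert) 2815000 1000 chkF_2815000 i (by omega) (by omega)
              · skip
                exact allRangeF_sound _ _ (checkFactF_eq cert) 2816000 1000 chkF_2816000 i (by omega) (by omega)
          · skip
            rcases Nat.lt_or_ge i 2819000 with h6 | h6
            · skip
              rcases Nat.lt_or_ge i 2818000 with h7 | h7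
              · skip
                exact allRangeF_sound _ _ (checkFactF_eq cert) 2817000 1000 chkF_2817000 i (by omega) (by omega)
              · skip
                exact allRangeF_sound _ _ (checkFactF_eq cert) 2818000 1000 chkF_2818000 i (by omega) (by omega)
            · skip
              rcases Nat.lt_or_ge i 2820000 with h7 | h7
              · skip
                exact allRangeF_sound _ _ (checkFactF_eq cert) 2819000 1000 chkF_2819000 i (by omega) (by omega)
              · skip
                exact allRangeF_sound _ _ (checkFactF_eq cert) 2820000 1000 chkF_2820000 i (by omega) (by omega)
  · skip
    rcases Nat.lt_or_ge i 2846000 with h2 | h2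
    · skip
      rcases Nat.lt_or_ge i 2833000 with h3 | h3
      · skip
        rcases Nat.lt_or_ge i 2827000 with h4 | h4
        · skip
          rcases Nat.lt_or_ge i 2824000 with h5 | h5
          · skip
            rcases Nat.lt_or_ge i 2822000 with h6 | h6
            · skip
              exact allRangeF_sound _ _ (checkFactF_eq cert) 2821000 1000 chkF_2821000 i (by omega) (by omega)
            · skip
              rcases Nat.lt_or_ge i 2823000 with h7 | h7
              · skip
                exact allRangeF_sound _ _ (checkFactF_eq cert) 2822000 1000 chkF_2822000 i (by omega) (by omega)
              · skip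
                exact allRangeF_sound _ _ (checkFactF_eq cert) 2823000 1000 chkF_2823000 i (by omega) (by omega)
          · skip
            rcases Nat.lt_or_ge i 2825000 with h6 | h6
            · skip
              exact allRangeF_sound _ _ (checkFactF_eq cert) 2824000 1000 chkF_2824000 i (by omega) (by omega)
            · skip
              rcases Nat.lt_or_ge i 2826000 with h7 | h7
              · skip
                exact allRangeF_sound _ _ (checkFactF_eq cert) 2825000 1000 chkF_2825000 i (by omega) (by omega)
              · skip
                exact allRangeF_sound _ _ (checkFactF_eq cert) 2826000 1000 chkF_2826000 i (by omega) (by omega)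
        · skip
          rcases Nat.lt_or_ge i 2830000 with h5 | h5
          · skip
            rcases Nat.lt_or_ge i 2828000 with h6 | h6
            · skip
              exact allRangeF_sound _ _ (checkFactF_eq cert) 2827000 1000 chkF_2827000 i (by omega) (by omega)
            · skip
              rcases Nat.lt_or_ge i 2829000 with h7 | h7
              · skip
                exact allRangeF_sound _ _ (checkFactF_eq cert) 2828000 1000 chkF_2828000 i (by omega) (by omega)
              · skip
                exact allRangeF_sound _ _ (checkFactF_eq cert) 2829000 1000 chkF_2829000 i (by omega) (by omega)
          · skip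
            rcases Nat.lt_or_ge i 2831000 with h6 | h6
            · skip
              exact allRangeF_sound _ _ (checkFactF_eq cert) 2830000 1000 chkF_2830000 i (by omega) (by omega)
            · skip
              rcases Nat.lt_or_ge i 2832000 with h7 | h7
              · skip
                exact allRangeF_sound _ _ (checkFactF_eq cert) 2831000 1000 chkF_2831000 i (by omega) (by omega)
              · skip
                exact allRangeF_sound _ _ (checkFactF_eq cert) 2832000 1000 chkF_2832000 i (by omega) (by omega)
      · skip
        rcases Nat.lt_or_ge i 2839000 with h4 | h4
        · skip
          rcases Nat.lt_or_ge i 2836000 with h5 | h5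
          · skip
            rcases Nat.lt_or_ge i 2834000 with h6 | h6
            · skip
              exact allRangeF_sound _ _ (checkFactF_eq cert) 2833000 1000 chkF_2833000 i (by omega) (by omega)
            · skip
              rcases Nat.lt_or_ge i 2835000 with h7 | h7
              · skip
                exact allRangeF_sound _ _ (checkFactF_eq cert) 2834000 1000 chkF_2834000 i (by omega) (by omega)
              · skip
                exact allRangeF_sound _ _ (checkFactF_eq cert) 2835000 1000 chkF_2835000 i (by omega) (by omega)
          · skip
            rcases Nat.lt_or_ge i 2837000 with h6 | h6
            · skip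
              exact allRangeF_sound _ _ (checkFactF_eq cert) 2836000 1000 chkF_2836000 i (by omega) (by omega)
            · skip
              rcases Nat.lt_or_ge i 2838000 with h7 | h7
              · skip
                exact allRangeF_sound _ _ (checkFactF_eq cert) 2837000 1000 chkF_2837000 i (by omega) (by omega)
              · skip
                exact allRangeF_sound _ _ (checkFactF_eq cert) 2838000 1000 chkF_2838000 i (by omega) (by omega)
        · skip
          rcases Nat.lt_or_ge i 2842000 with h5 | h5
          · skip
            rcases Nat.lt_or_ge i 2840000 with h6 | h6
            · skip
              exact allRangeF_sound _ _ (checkFactF_eq cert) 2839000 1000 chkF_2839000 i (by omega) (by omega)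
            · skip
              rcases Nat.lt_or_ge i 2841000 with h7 | h7
              · skip
                exact allRangeF_sound _ _ (checkFactF_eq cert) 2840000 1000 chkF_2840000 i (by omega) (by omega)
              · skip
                exact allRangeF_sound _ _ (checkFactF_eq cert) 2841000 1000 chkF_2841000 i (by omega) (by omega)
          · skip
            rcases Nat.lt_or_ge i 2844000 with h6 | h6
            · skip
              rcases Nat.lt_or_ge i 2843000 with h7 | h7
              · skip
                exact allRangeF_sound _ _ (checkFactF_eq cert) 2842000 1000 chkF_2842000 i (by omega) (by omega)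
              · skip
                exact allRangeF_sound _ _ (checkFactF_eq cert) 2843000 1000 chkF_2843000 i (by omega) (by omega)
            · skip
              rcases Nat.lt_or_ge i 2845000 with h7 | h7
              · skip
                exact allRangeF_sound _ _ (checkFactF_eq cert) 2844000 1000 chkF_2844000 i (by omega) (by omega)
              · skip
                exact allRangeF_sound _ _ (checkFactF_eq cert) 2845000 1000 chkF_2845000 i (by omega) (by omega)
    · skip
      rcases Nat.lt_or_ge i 2858000 with h3 | h3
      · skip
        rcases Nat.lt_or_ge i 2852000 with h4 | h4
        · skip
          rcases Nat.lt_or_ge i 2849000 with h5 | h5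
          · skip
            rcases Nat.lt_or_ge i 2847000 with h6 | h6
            · skip
              exact allRangeF_sound _ _ (checkFactF_eq cert) 2846000 1000 chkF_2846000 i (by omega) (by omega)
            · skip
              rcases Nat.lt_or_ge i 2848000 with h7 | h7
              · skip
                exact allRangeF_sound _ _ (checkFactF_eq cert) 2847000 1000 chkF_2847000 i (by omega) (by omega)
              · skip
                exact allRangeF_sound _ _ (checkFactF_eq cert) 2848000 1000 chkF_2848000 i (by omega) (by omega)
          · skip
            rcases Nat.lt_or_ge i 2850000 with h6 | h6
            · skip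
              exact allRangeF_sound _ _ (checkFactF_eq cert) 2849000 1000 chkF_2849000 i (by omega) (by omega)
            · skip
              rcases Nat.lt_or_ge i 2851000 with h7 | h7
              · skip
                exact allRangeF_sound _ _ (checkFactF_eq cert) 2850000 1000 chkF_2850000 i (by omega) (by omega)
              · skip
                exact allRangeF_sound _ _ (checkFactF_eq cert) 2851000 1000 chkF_2851000 i (by omega) (by omega)
        · skip
          rcases Nat.lt_or_ge i 2855000 with h5 | h5
          · skip
            rcases Nat.lt_or_ge i 2853000 with h6 | h6
            · skip
              exact allRangeF_sound _ _ (checkFactF_eq cert) 2852000 1000 chkF_2852000 i (by omega) (by omega)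
            · skip
              rcases Nat.lt_or_ge i 2854000 with h7 | h7
              · skip
                exact allRangeF_sound _ _ (checkFactF_eq cert) 2853000 1000 chkF_2853000 i (by omega) (by omega)
              · skip
                exact allRangeF_sound _ _ (checkFactF_eq cert) 2854000 1000 chkF_2854000 i (by omega) (by omega)
          · skip
            rcases Nat.lt_or_ge i 2856000 with h6 | h6
            · skip
              exact allRangeF_sound _ _ (checkFactF_eq cert) 2855000 1000 chkF_2855000 i (by omega) (by omega)
            · skip
              rcases Nat.lt_or_ge i 2857000 with h7 | h7
              · skip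
                exact allRangeF_sound _ _ (checkFactF_eq cert) 2856000 1000 chkF_2856000 i (by omega) (by omega)
              · skip
                exact allRangeF_sound _ _ (checkFactF_eq cert) 2857000 1000 chkF_2857000 i (by omega) (by omega)
      · skip
        rcases Nat.lt_or_ge i 2864000 with h4 | h4
        · skip
          rcases Nat.lt_or_ge i 2861000 with h5 | h5
          · skip
            rcases Nat.lt_or_ge i 2859000 with h6 | h6
            · skip
              exact allRangeF_sound _ _ (checkFactF_eq cert) 2858000 1000 chkF_2858000 i (by omega) (by omega)
            · skip
              rcases Nat.lt_or_ge i 2860000 with h7 | h7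
              · skip
                exact allRangeF_sound _ _ (checkFactF_eq cert) 2859000 1000 chkF_2859000 i (by omega) (by omega)
              · skip
                exact allRangeF_sound _ _ (checkFactF_eq cert) 2860000 1000 chkF_2860000 i (by omega) (by omega)
          · skip
            rcases Nat.lt_or_ge i 2862000 with h6 | h6
            · skip
              exact allRangeF_sound _ _ (checkFactF_eq cert) 2861000 1000 chkF_2861000 i (by omega) (by omega)
            · skip
              rcases Nat.lt_or_ge i 2863000 with h7 | h7
              · skip
                exact allRangeF_sound _ _ (checkFactF_eq cert) 2862000 1000 chkF_2862000 i (by omega) (by omega)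
              · skip
                exact allRangeF_sound _ _ (checkFactF_eq cert) 2863000 1000 chkF_2863000 i (by omega) (by omega)
        · skip
          rcases Nat.lt_or_ge i 2867000 with h5 | h5
          · skip
            rcases Nat.lt_or_ge i 2865000 with h6 | h6
            · skip
              exact allRangeF_sound _ _ (checkFactF_eq cert) 2864000 1000 chkF_2864000 i (by omega) (by omega)
            · skip
              rcases Nat.lt_or_ge i 2866000 with h7 | h7
              · skip
                exact allRangeF_sound _ _ (checkFactF_eq cert) 2865000 1000 chkF_2865000 i (by omega) (by omega)
              · skip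
                exact allRangeF_sound _ _ (checkFactF_eq cert) 2866000 1000 chkF_2866000 i (by omega) (by omega)
          · skip
            rcases Nat.lt_or_ge i 2869000 with h6 | h6
            · skip
              rcases Nat.lt_or_ge i 2868000 with h7 | h7
              · skip
                exact allRangeF_sound _ _ (checkFactF_eq cert) 2867000 1000 chkF_2867000 i (by omega) (by omega)
              · skip
                exact allRangeF_sound _ _ (checkFactF_eq cert) 2868000 1000 chkF_2868000 i (by omega) (by omega)
            · skip
              rcases Nat.lt_or_ge i 2870000 with h7 | h7
              · skip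
                exact allRangeF_sound _ _ (checkFactF_eq cert) 2869000 1000 chkF_2869000 i (by omega) (by omega)
              · skip
                exact allRangeF_sound _ _ (checkFactF_eq cert) 2870000 1000 chkF_2870000 i (by omega) (by omega)

end Cfsg.Agent.Lib.Helper28.Fi24Data
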