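import Cfsg.Agent.Lib.Helper28.Fi24Data
import Cfsg.Agent.Lib.Helper28.TCFastFB

set_option autoImplicit false
set_option maxRecDepth 1000000
set_option linter.all false
set_option Elab.async false

namespace Cfsg.Agent.Lib.Helper28.Fi24Data

open Cfsg.Agent.Lib.Helper28B

theorem chkF_2871000 : allRangeF (checkFactF cert) (nat_lit 2871000) (nat_lit 1000) = true := by decide +kernel
theorem chkF_2872000 : allRangeF (checkFactF cert) (nat_lit 2872000) (nat_lit 1000) = true := by decide +kernel
theorem chkF_2873000 : allRangeF (checkFactF cert) (nat_lit 2873000) (nat_lit 1000) = true := by decide +kernel
theorem chkF_2874000 : allRangeF (checkFactF cert) (nat_lit 2874000) (nat_lit 1000) = true := by decide +kernel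
theorem chkF_2875000 : allRangeF (checkFactF cert) (nat_lit 2875000) (nat_lit 1000) = true := by decide +kernel
theorem chkF_2876000 : allRangeF (checkFactF cert) (nat_lit 2876000) (nat_lit 1000) = true := by decide +kernel
theorem chkF_2877000 : allRangeF (checkFactF cert) (nat_lit 2877000) (nat_lit 1000) = true := by decide +kernel
theorem chkF_2878000 : allRangeF (checkFactF cert) (nat_lit 2878000) (nat_lit 1000) = true := by decide +kernel
theorem chkF_2879000 : allRangeF (checkFactF cert) (nat_lit 2879000) (nat_lit 1000) = true := by decide +kernel
theorem chkF_2880000 : allRangeF (checkFactF cert) (nat_lit 2880000) (nat_lit 1000) = true := by decide +kernel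
theorem chkF_2881000 : allRangeF (checkFactF cert) (nat_lit 2881000) (nat_lit 1000) = true := by decide +kernel
theorem chkF_2882000 : allRangeF (checkFactF cert) (nat_lit 2882000) (nat_lit 1000) = true := by decide +kernel
theorem chkF_2883000 : allRangeF (checkFactF cert) (nat_lit 2883000) (nat_lit 1000) = true := by decide +kernel
theorem chkF_2884000 : allRangeF (checkFactF cert) (nat_lit 2884000) (nat_lit 1000) = true := by decide +kernel
theorem chkF_2885000 : allRangeF (checkFactF cert) (nat_lit 2885000) (nat_lit 1000) = true := by decide +kernel
theorem chkF_2886000 : allRangeF (checkFactF cert) (nat_lit 2886000) (nat_lit 1000) = true := by decide +kernel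
theorem chkF_2887000 : allRangeF (checkFactF cert) (nat_lit 2887000) (nat_lit 1000) = true := by decide +kernel
theorem chkF_2888000 : allRangeF (checkFactF cert) (nat_lit 2888000) (nat_lit 1000) = true := by decide +kernel
theorem chkF_2889000 : allRangeF (checkFactF cert) (nat_lit 2889000) (nat_lit 1000) = true := by decide +kernel
theorem chkF_2890000 : allRangeF (checkFactF cert) (nat_lit 2890000) (nat_lit 1000) = true := by decide +kernel
theorem chkF_2891000 : allRangeF (checkFactF cert) (nat_lit 2891000) (nat_lit 1000) = true := by decide +kernel
theorem chkF_2892000 : allRangeF (checkFactF cert) (nat_lit 2892000) (nat_lit 1000) = true := by decide +kernel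
theorem chkF_2893000 : allRangeF (checkFactF cert) (nat_lit 2893000) (nat_lit 1000) = true := by decide +kernel
theorem chkF_2894000 : allRangeF (checkFactF cert) (nat_lit 2894000) (nat_lit 1000) = true := by decide +kernel
theorem chkF_2895000 : allRangeF (checkFactF cert) (nat_lit 2895000) (nat_lit 1000) = true := by decide +kernel
theorem chkF_2896000 : allRangeF (checkFactF cert) (nat_lit 2896000) (nat_lit 1000) = true := by decide +kernel
theorem chkF_2897000 : allRangeF (checkFactF cert) (nat_lit 2897000) (nat_lit 1000) = true := by decide +kernel
theorem chkF_2898000 : allRangeF (checkFactF cert) (nat_lit 2898000) (nat_lit 1000) = true := by decide +kernel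
theorem chkF_2899000 : allRangeF (checkFactF cert) (nat_lit 2899000) (nat_lit 1000) = true := by decide +kernel
theorem chkF_2900000 : allRangeF (checkFactF cert) (nat_lit 2900000) (nat_lit 1000) = true := by decide +kernel
theorem chkF_2901000 : allRangeF (checkFactF cert) (nat_lit 2901000) (nat_lit 1000) = true := by decide +kernel
theorem chkF_2902000 : allRangeF (checkFactF cert) (nat_lit 2902000) (nat_lit 1000) = true := by decide +kernel
theorem chkF_2903000 : allRangeF (checkFactF cert) (nat_lit 2903000) (nat_lit 1000) = true := by decide +kernel
theorem chkF_2904000 : allRangeF (checkFactF cert) (nat_lit 2904000) (nat_lit 1000) = true := by decide +kernel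
theorem chkF_2905000 : allRangeF (checkFactF cert) (nat_lit 2905000) (nat_lit 1000) = true := by decide +kernel
theorem chkF_2906000 : allRangeF (checkFactF cert) (nat_lit 2906000) (nat_lit 1000) = true := by decide +kernel
theorem chkF_2907000 : allRangeF (checkFactF cert) (nat_lit 2907000) (nat_lit 1000) = true := by decide +kernel
theorem chkF_2908000 : allRangeF (checkFactF cert) (nat_lit 2908000) (nat_lit 1000) = true := by decide +kernel
theorem chkF_2909000 : allRangeF (checkFactF cert) (nat_lit 2909000) (nat_lit 1000) = true := by decide +kernel
theorem chkF_2910000 : allRangeF (checkFactF cert) (nat_lit 2910000) (nat_lit 1000) = true := by decide +kernel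
theorem chkF_2911000 : allRangeF (checkFactF cert) (nat_lit 2911000) (nat_lit 1000) = true := by decide +kernel
theorem chkF_2912000 : allRangeF (checkFactF cert) (nat_lit 2912000) (nat_lit 1000) = true := by decide +kernel
theorem chkF_2913000 : allRangeF (checkFactF cert) (nat_lit 2913000) (nat_lit 1000) = true := by decide +kernel
theorem chkF_2914000 : allRangeF (checkFactF cert) (nat_lit 2914000) (nat_lit 1000) = true := by decide +kernel
theorem chkF_2915000 : allRangeF (checkFactF cert) (nat_lit 2915000) (nat_lit 1000) = true := by decide +kernel
theorem chkF_2916000 : allRangeF (checkFactF cert) (nat_lit 2916000) (nat_lit 1000) = true := by decide +kernel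
theorem chkF_2917000 : allRangeF (checkFactF cert) (nat_lit 2917000) (nat_lit 1000) = true := by decide +kernel
theorem chkF_2918000 : allRangeF (checkFactF cert) (nat_lit 2918000) (nat_lit 1000) = true := by decide +kernel
theorem chkF_2919000 : allRangeF (checkFactF cert) (nat_lit 2919000) (nat_lit 1000) = true := by decide +kernel
theorem chkF_2920000 : allRangeF (checkFactF cert) (nat_lit 2920000) (nat_lit 1000) = true := by decide +kernel
theorem chkF_2921000 : allRangeF (checkFactF cert) (nat_lit 2921000) (nat_lit 1000) = true := by decide +kernel
theorem chkF_2922000 : allRangeF (checkFactF cert) (nat_lit 2922000) (nat_lit 1000) = true := by decide +kernel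
theorem chkF_2923000 : allRangeF (checkFactF cert) (nat_lit 2923000) (nat_lit 1000) = true := by decide +kernel
theorem chkF_2924000 : allRangeF (checkFactF cert) (nat_lit 2924000) (nat_lit 1000) = true := by decide +kernel
theorem chkF_2925000 : allRangeF (checkFactF cert) (nat_lit 2925000) (nat_lit 1000) = true := by decide +kernel
theorem chkF_2926000 : allRangeF (checkFactF cert) (nat_lit 2926000) (nat_lit 1000) = true := by decide +kernel
theorem chkF_2927000 : allRangeF (checkFactF cert) (nat_lit 2927000) (nat_lit 1000) = true := by decide +kernel
theorem chkF_2928000 : allRangeF (checkFactF cert) (nat_lit 2928000) (nat_lit 1000) = true := by decide +kernel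
theorem chkF_2929000 : allRangeF (checkFactF cert) (nat_lit 2929000) (nat_lit 1000) = true := by decide +kernel
theorem chkF_2930000 : allRangeF (checkFactF cert) (nat_lit 2930000) (nat_lit 1000) = true := by decide +kernel
theorem chkF_2931000 : allRangeF (checkFactF cert) (nat_lit 2931000) (nat_lit 1000) = true := by decide +kernel
theorem chkF_2932000 : allRangeF (checkFactF cert) (nat_lit 2932000) (nat_lit 1000) = true := by decide +kernel
theorem chkF_2933000 : allRangeF (checkFactF cert) (nat_lit 2933000) (nat_lit 1000) = true := by decide +kernel
theorem chkF_2934000 : allRangeF (checkFactF cert) (nat_lit 2934000) (nat_lit 1000) = true := by decide +kernel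
theorem chkF_2935000 : allRangeF (checkFactF cert) (nat_lit 2935000) (nat_lit 1000) = true := by decide +kernel
theorem chkF_2936000 : allRangeF (checkFactF cert) (nat_lit 2936000) (nat_lit 1000) = true := by decide +kernel
theorem chkF_2937000 : allRangeF (checkFactF cert) (nat_lit 2937000) (nat_lit 1000) = true := by decide +kernel
theorem chkF_2938000 : allRangeF (checkFactF cert) (nat_lit 2938000) (nat_lit 1000) = true := by decide +kernel
theorem chkF_2939000 : allRangeF (checkFactF cert) (nat_lit 2939000) (nat_lit 1000) = true := by decide +kernel
theorem chkF_2940000 : allRangeF (checkFactF cert) (nat_lit 2940000) (nat_lit 1000) = true := by decide +kernel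
theorem chkF_2941000 : allRangeF (checkFactF cert) (nat_lit 2941000) (nat_lit 1000) = true := by decide +kernel
theorem chkF_2942000 : allRangeF (checkFactF cert) (nat_lit 2942000) (nat_lit 1000) = true := by decide +kernel
theorem chkF_2943000 : allRangeF (checkFactF cert) (nat_lit 2943000) (nat_lit 1000) = true := by decide +kernel
theorem chkF_2944000 : allRangeF (checkFactF cert) (nat_lit 2944000) (nat_lit 1000) = true := by decide +kernel
theorem chkF_2945000 : allRangeF (checkFactF cert) (nat_lit 2945000) (nat_lit 1000) = true := by decide +kernel
theorem chkF_2946000 : allRangeF (checkFactF cert) (nat_lit 2946000) (nat_lit 1000) = true := by decide +kernel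
theorem chkF_2947000 : allRangeF (checkFactF cert) (nat_lit 2947000) (nat_lit 1000) = true := by decide +kernel
theorem chkF_2948000 : allRangeF (checkFactF cert) (nat_lit 2948000) (nat_lit 1000) = true := by decide +kernel
theorem chkF_2949000 : allRangeF (checkFactF cert) (nat_lit 2949000) (nat_lit 1000) = true := by decide +kernel
theorem chkF_2950000 : allRangeF (checkFactF cert) (nat_lit 2950000) (nat_lit 1000) = true := by decide +kernel
theorem chkF_2951000 : allRangeF (checkFactF cert) (nat_lit 2951000) (nat_lit 1000) = true := by decide +kernel
theorem chkF_2952000 : allRangeF (checkFactF cert) (nat_lit 2952000) (nat_lit 1000) = true := by decide +kernel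
theorem chkF_2953000 : allRangeF (checkFactF cert) (nat_lit 2953000) (nat_lit 1000) = true := by decide +kernel
theorem chkF_2954000 : allRangeF (checkFactF cert) (nat_lit 2954000) (nat_lit 1000) = true := by decide +kernel
theorem chkF_2955000 : allRangeF (checkFactF cert) (nat_lit 2955000) (nat_lit 1000) = true := by decide +kernel
theorem chkF_2956000 : allRangeF (checkFactF cert) (nat_lit 2956000) (nat_lit 1000) = true := by decide +kernel
theorem chkF_2957000 : allRangeF (checkFactF cert) (nat_lit 2957000) (nat_lit 1000) = true := by decide +kernel
theorem chkF_2958000 : allRangeF (checkFactF cert) (nat_lit 2958000) (nat_lit 1000) = true := by decide +kernel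
theorem chkF_2959000 : allRangeF (checkFactF cert) (nat_lit 2959000) (nat_lit 1000) = true := by decide +kernel
theorem chkF_2960000 : allRangeF (checkFactF cert) (nat_lit 2960000) (nat_lit 1000) = true := by decide +kernel
theorem chkF_2961000 : allRangeF (checkFactF cert) (nat_lit 2961000) (nat_lit 1000) = true := by decide +kernel
theorem chkF_2962000 : allRangeF (checkFactF cert) (nat_lit 2962000) (nat_lit 1000) = true := by decide +kernel
theorem chkF_2963000 : allRangeF (checkFactF cert) (nat_lit 2963000) (nat_lit 1000) = true := by decide +kernel
theorem chkF_2964000 : allRangeF (checkFactF cert) (nat_lit 2964000) (nat_lit 1000) = true := by decide +kernel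
theorem chkF_2965000 : allRangeF (checkFactF cert) (nat_lit 2965000) (nat_lit 1000) = true := by decide +kernel
theorem chkF_2966000 : allRangeF (checkFactF cert) (nat_lit 2966000) (nat_lit 1000) = true := by decide +kernel
theorem chkF_2967000 : allRangeF (checkFactF cert) (nat_lit 2967000) (nat_lit 1000) = true := by decide +kernel
theorem chkF_2968000 : allRangeF (checkFactF cert) (nat_lit 2968000) (nat_lit 1000) = true := by decide +kernel
theorem chkF_2969000 : allRangeF (checkFactF cert) (nat_lit 2969000) (nat_lit 1000) = true := by decide +kernel

theorem factsRange_29 : ∀ i, 2871000 ≤ i → i < 2970000 → checkFact cert i = true := by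
  intro i hlo hhi
  rcases Nat.lt_or_ge i 2920000 with h1 | h1
  · skip
    rcases Nat.lt_or_ge i 2895000 with h2 | h2
    · skip
      rcases Nat.lt_or_ge i 2883000 with h3 | h3
      · skip
        rcases Nat.lt_or_ge i 2877000 with h4 | h4
        · skip
          rcases Nat.lt_or_ge i 2874000 with h5 | h5
          · skip
            rcases Nat.lt_or_ge i 2872000 with h6 | h6
            · skip
              exact allRangeF_sound _ _ (checkFactF_eq cert) 2871000 1000 chkF_2871000 i (by omega) (by omega)
            · skip
              rcases Nat.lt_or_ge i 2873000 with h7 | h7
              · skip
                exact allRangeF_sound _ _ (checkFactF_eq cert) 2872000 1000 chkF_2872000 i (by omega) (by omega)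
              · skip
                exact allRangeF_sound _ _ (checkFactF_eq cert) 2873000 1000 chkF_2873000 i (by omega) (by omega)
          · skip
            rcases Nat.lt_or_ge i 2875000 with h6 | h6
            · skip
              exact allRangeF_sound _ _ (checkFactF_eq cert) 2874000 1000 chkF_2874000 i (by omega) (by omega)
            · skip
              rcases Nat.lt_or_ge i 2876000 with h7 | h7
              · skip
                exact allRangeF_sound _ _ (checkFactF_eq cert) 2875000 1000 chkF_2875000 i (by omega) (by omega)
              · skip
                exact allRangeF_sound _ _ (checkFactF_eq cert) 2876000 1000 chkF_2876000 i (by omega) (by omega)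
        · skip
          rcases Nat.lt_or_ge i 2880000 with h5 | h5
          · skip
            rcases Nat.lt_or_ge i 2878000 with h6 | h6
            · skip
              exact allRangeF_sound _ _ (checkFactF_eq cert) 2877000 1000 chkF_2877000 i (by omega) (by omega)
            · skip
              rcases Nat.lt_or_ge i 2879000 with h7 | h7
              · skip
                exact allRangeF_sound _ _ (checkFactF_eq cert) 2878000 1000 chkF_2878000 i (by omega) (by omega)
              · skip
                exact allRangeF_sound _ _ (checkFactF_eq cert) 2879000 1000 chkF_2879000 i (by omega) (by omega)
          · skip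
            rcases Nat.lt_or_ge i 2881000 with h6 | h6
            · skip
              exact allRangeF_sound _ _ (checkFactF_eq cert) 2880000 1000 chkF_2880000 i (by omega) (by omega)
            · skip
              rcases Nat.lt_or_ge i 2882000 with h7 | h7
              · skip
                exact allRangeF_sound _ _ (checkFactF_eq cert) 2881000 1000 chkF_2881000 i (by omega) (by omega)
              · skip
                exact allRangeF_sound _ _ (checkFactF_eq cert) 2882000 1000 chkF_2882000 i (by omega) (by omega)
      · skip
        rcases Nat.lt_or_ge i 2889000 with h4 | h4
        · skip
          rcases Nat.lt_or_ge i 2886000 with h5 | h5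
          · skip
            rcases Nat.lt_or_ge i 2884000 with h6 | h6
            · skip
              exact allRangeF_sound _ _ (checkFactF_eq cert) 2883000 1000 chkF_2883000 i (by omega) (by omega)
            · skip
              rcases Nat.lt_or_ge i 2885000 with h7 | h7
              · skip
                exact allRangeF_sound _ _ (checkFactF_eq cert) 2884000 1000 chkF_2884000 i (by omega) (by omega)
              · skip
                exact allRangeF_sound _ _ (checkFactF_eq cert) 2885000 1000 chkF_2885000 i (by omega) (by omega)
          · skip
            rcases Nat.lt_or_ge i 2887000 with h6 | h6
            · skip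
              exact allRangeF_sound _ _ (checkFactF_eq cert) 2886000 1000 chkF_2886000 i (by omega) (by omega)
            · skip
              rcases Nat.lt_or_ge i 2888000 with h7 | h7
              · skip
                exact allRangeF_sound _ _ (checkFactF_eq cert) 2887000 1000 chkF_2887000 i (by omega) (by omega)
              · skip
                exact allRangeF_sound _ _ (checkFactF_eq cert) 2888000 1000 chkF_2888000 i (by omega) (by omega)
        · skip
          rcases Nat.lt_or_ge i 2892000 with h5 | h5
          · skip
            rcases Nat.lt_or_ge i 2890000 with h6 | h6
            · skip
              exact allRangeF_sound _ _ (checkFactF_eq cert) 2889000 1000 chkF_2889000 i (by omega) (by omega)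
            · skip
              rcases Nat.lt_or_ge i 2891000 with h7 | h7
              · skip
                exact allRangeF_sound _ _ (checkFactF_eq cert) 2890000 1000 chkF_2890000 i (by omega) (by omega)
              · skip
                exact allRangeF_sound _ _ (checkFactF_eq cert) 2891000 1000 chkF_2891000 i (by omega) (by omega)
          · skip
            rcases Nat.lt_or_ge i 2893000 with h6 | h6
            · skip
              exact allRangeF_sound _ _ (checkFactF_eq cert) 2892000 1000 chkF_2892000 i (by omega) (by omega)
            · skip
              rcases Nat.lt_or_ge i 2894000 with h7 | h7
              · skip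
                exact allRangeF_sound _ _ (checkFactF_eq cert) 2893000 1000 chkF_2893000 i (by omega) (by omega)
              · skip
                exact allRangeF_sound _ _ (checkFactF_eq cert) 2894000 1000 chkF_2894000 i (by omega) (by omega)
    · skip
      rcases Nat.lt_or_ge i 2907000 with h3 | h3
      · skip
        rcases Nat.lt_or_ge i 2901000 with h4 | h4
        · skip
          rcases Nat.lt_or_ge i 2898000 with h5 | h5
          · skip
            rcases Nat.lt_or_ge i 2896000 with h6 | h6
            · skip
              exact allRangeF_sound _ _ (checkFactF_eq cert) 2895000 1000 chkF_2895000 i (by omega) (by omega)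
            · skip
              rcases Nat.lt_or_ge i 2897000 with h7 | h7
              · skip
                exact allRangeF_sound _ _ (checkFactF_eq cert) 2896000 1000 chkF_2896000 i (by omega) (by omega)
              · skip
                exact allRangeF_sound _ _ (checkFactF_eq cert) 2897000 1000 chkF_2897000 i (by omega) (by omega)
          · skip
            rcases Nat.lt_or_ge i 2899000 with h6 | h6
            · skip
              exact allRangeF_sound _ _ (checkFactF_eq cert) 2898000 1000 chkF_2898000 i (by omega) (by omega)
            · skip
              rcases Nat.lt_or_ge i 2900000 with h7 | h7
              · skip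
                exact allRangeF_sound _ _ (checkFactF_eq cert) 2899000 1000 chkF_2899000 i (by omega) (by omega)
              · skip
                exact allRangeF_sound _ _ (checkFactF_eq cert) 2900000 1000 chkF_2900000 i (by omega) (by omega)
        · skip
          rcases Nat.lt_or_ge i 2904000 with h5 | h5
          · skip
            rcases Nat.lt_or_ge i 2902000 with h6 | h6
            · skip
              exact allRangeF_sound _ _ (checkFactF_eq cert) 2901000 1000 chkF_2901000 i (by omega) (by omega)
            · skip
              rcases Nat.lt_or_ge i 2903000 with h7 | h7
              · skip
                exact allRangeF_sound _ _ (checkFactF_eq cert) 2902000 1000 chkF_2902000 i (by omega) (by omega)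
              · skip
                exact allRangeF_sound _ _ (checkFactF_eq cert) 2903000 1000 chkF_2903000 i (by omega) (by omega)
          · skip
            rcases Nat.lt_or_ge i 2905000 with h6 | h6
            · skip
              exact allRangeF_sound _ _ (checkFactF_eq cert) 2904000 1000 chkF_2904000 i (by omega) (by omega)
            · skip
              rcases Nat.lt_or_ge i 2906000 with h7 | h7
              · skip
                exact allRangeF_sound _ _ (checkFactF_eq cert) 2905000 1000 chkF_2905000 i (by omega) (by omega)
              · skip
                exact allRangeF_sound _ _ (checkFactF_eq cert) 2906000 1000 chkF_2906000 i (by omega) (by omega)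
      · skip
        rcases Nat.lt_or_ge i 2913000 with h4 | h4
        · skip
          rcases Nat.lt_or_ge i 2910000 with h5 | h5
          · skip
            rcases Nat.lt_or_ge i 2908000 with h6 | h6
            · skip
              exact allRangeF_sound _ _ (checkFactF_eq cert) 2907000 1000 chkF_2907000 i (by omega) (by omega)
            · skip
              rcases Nat.lt_or_ge i 2909000 with h7 | h7
              · skip
                exact allRangeF_sound _ _ (checkFactF_eq cert) 2908000 1000 chkF_2908000 i (by omega) (by omega)
              · skip
                exact allRangeF_sound _ _ (checkFactF_eq cert) 2909000 1000 chkF_2909000 i (by omega) (by omega)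
          · skip
            rcases Nat.lt_or_ge i 2911000 with h6 | h6
            · skip
              exact allRangeF_sound _ _ (checkFactF_eq cert) 2910000 1000 chkF_2910000 i (by omega) (by omega)
            · skip
              rcases Nat.lt_or_ge i 2912000 with h7 | h7
              · skip
                exact allRangeF_sound _ _ (checkFactF_eq cert) 2911000 1000 chkF_2911000 i (by omega) (by omega)
              · skip
                exact allRangeF_sound _ _ (checkFactF_eq cert) 2912000 1000 chkF_2912000 i (by omega) (by omega)
        · skip
          rcases Nat.lt_or_ge i 2916000 with h5 | h5
          · skip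
            rcases Nat.lt_or_ge i 2914000 with h6 | h6
            · skip
              exact allRangeF_sound _ _ (checkFactF_eq cert) 2913000 1000 chkF_2913000 i (by omega) (by omega)
            · skip
              rcases Nat.lt_or_ge i 2915000 with h7 | h7
              · skip
                exact allRangeF_sound _ _ (checkFactF_eq cert) 2914000 1000 chkF_2914000 i (by omega) (by omega)
              · skip
                exact allRangeF_sound _ _ (checkFactF_eq cert) 2915000 1000 chkF_2915000 i (by omega) (by omega)
          · skip
            rcases Nat.lt_or_ge i 2918000 with h6 | h6
            · skip
              rcases Nat.lt_or_ge i 2917000 with h7 | h7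
              · skip
                exact allRangeF_sound _ _ (checkFactF_eq cert) 2916000 1000 chkF_2916000 i (by omega) (by omega)
              · skip
                exact allRangeF_sound _ _ (checkFactF_eq cert) 2917000 1000 chkF_2917000 i (by omega) (by omega)
            · skip
              rcases Nat.lt_or_ge i 2919000 with h7 | h7
              · skip
                exact allRangeF_sound _ _ (checkFactF_eq cert) 2918000 1000 chkF_2918000 i (by omega) (by omega)
              · skip
                exact allRangeF_sound _ _ (checkFactF_eq cert) 2919000 1000 chkF_2919000 i (by omega) (by omega)
  · skip
    rcases Nat.lt_or_ge i 2945000 with h2 | h2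
    · skip
      rcases Nat.lt_or_ge i 2932000 with h3 | h3
      · skip
        rcases Nat.lt_or_ge i 2926000 with h4 | h4
        · skip
          rcases Nat.lt_or_ge i 2923000 with h5 | h5
          · skip
            rcases Nat.lt_or_ge i 2921000 with h6 | h6
            · skip
              exact allRangeF_sound _ _ (checkFactF_eq cert) 2920000 1000 chkF_2920000 i (by omega) (by omega)
            · skip
              rcases Nat.lt_or_ge i 2922000 with h7 | h7
              · skip
                exact allRangeF_sound _ _ (checkFactF_eq cert) 2921000 1000 chkF_2921000 i (by omega) (by omega)
              · skip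
                exact allRangeF_sound _ _ (checkFactF_eq cert) 2922000 1000 chkF_2922000 i (by omega) (by omega)
          · skip
            rcases Nat.lt_or_ge i 2924000 with h6 | h6
            · skip
              exact allRangeF_sound _ _ (checkFactF_eq cert) 2923000 1000 chkF_2923000 i (by omega) (by omega)
            · skip
              rcases Nat.lt_or_ge i 2925000 with h7 | h7
              · skip
                exact allRangeF_sound _ _ (checkFactF_eq cert) 2924000 1000 chkF_2924000 i (by omega) (by omega)
              · skip
                exact allRangeF_sound _ _ (checkFactF_eq cert) 2925000 1000 chkF_2925000 i (by omega) (by omega)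
        · skip
          rcases Nat.lt_or_ge i 2929000 with h5 | h5
          · skip
            rcases Nat.lt_or_ge i 2927000 with h6 | h6
            · skip
              exact allRangeF_sound _ _ (checkFactF_eq cert) 2926000 1000 chkF_2926000 i (by omega) (by omega)
            · skip
              rcases Nat.lt_or_ge i 2928000 with h7 | h7
              · skip
                exact allRangeF_sound _ _ (checkFactF_eq cert) 2927000 1000 chkF_2927000 i (by omega) (by omega)
              · skip
                exact allRangeF_sound _ _ (checkFactF_eq cert) 2928000 1000 chkF_2928000 i (by omega) (by omega)
          · skip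
            rcases Nat.lt_or_ge i 2930000 with h6 | h6
            · skip
              exact allRangeF_sound _ _ (checkFactF_eq cert) 2929000 1000 chkF_2929000 i (by omega) (by omega)
            · skip
              rcases Nat.lt_or_ge i 2931000 with h7 | h7
              · skip
                exact allRangeF_sound _ _ (checkFactF_eq cert) 2930000 1000 chkF_2930000 i (by omega) (by omega)
              · skip
                exact allRangeF_sound _ _ (checkFactF_eq cert) 2931000 1000 chkF_2931000 i (by omega) (by omega)
      · skip
        rcases Nat.lt_or_ge i 2938000 with h4 | h4
        · skip
          rcases Nat.lt_or_ge i 2935000 with h5 | h5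
          · skip
            rcases Nat.lt_or_ge i 2933000 with h6 | h6
            · skip
              exact allRangeF_sound _ _ (checkFactF_eq cert) 2932000 1000 chkF_2932000 i (by omega) (by omega)
            · skip
              rcases Nat.lt_or_ge i 2934000 with h7 | h7
              · skip
                exact allRangeF_sound _ _ (checkFactF_eq cert) 2933000 1000 chkF_2933000 i (by omega) (by omega)
              · skip
                exact allRangeF_sound _ _ (checkFactF_eq cert) 2934000 1000 chkF_2934000 i (by omega) (by omega)
          · skip
            rcases Nat.lt_or_ge i 2936000 with h6 | h6
            · skip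
              exact allRangeF_sound _ _ (checkFactF_eq cert) 2935000 1000 chkF_2935000 i (by omega) (by omega)
            · skip
              rcases Nat.lt_or_ge i 2937000 with h7 | h7
              · skip
                exact allRangeF_sound _ _ (checkFactF_eq cert) 2936000 1000 chkF_2936000 i (by omega) (by omega)
              · skip
                exact allRangeF_sound _ _ (checkFactF_eq cert) 2937000 1000 chkF_2937000 i (by omega) (by omega)
        · skip
          rcases Nat.lt_or_ge i 2941000 with h5 | h5
          · skip
            rcases Nat.lt_or_ge i 2939000 with h6 | h6
            · skip
              exact allRangeF_sound _ _ (checkFactF_eq cert) 2938000 1000 chkF_2938000 i (by omega) (by omega)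
            · skip
              rcases Nat.lt_or_ge i 2940000 with h7 | h7
              · skip
                exact allRangeF_sound _ _ (checkFactF_eq cert) 2939000 1000 chkF_2939000 i (by omega) (by omega)
              · skip
                exact allRangeF_sound _ _ (checkFactF_eq cert) 2940000 1000 chkF_2940000 i (by omega) (by omega)
          · skip
            rcases Nat.lt_or_ge i 2943000 with h6 | h6
            · skip
              rcases Nat.lt_or_ge i 2942000 with h7 | h7
              · skip
                exact allRangeF_sound _ _ (checkFactF_eq cert) 2941000 1000 chkF_2941000 i (by omega) (by omega)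
              · skip
                exact allRangeF_sound _ _ (checkFactF_eq cert) 2942000 1000 chkF_2942000 i (by omega) (by omega)
            · skip
              rcases Nat.lt_or_ge i 2944000 with h7 | h7
              · skip
                exact allRangeF_sound _ _ (checkFactF_eq cert) 2943000 1000 chkF_2943000 i (by omega) (by omega)
              · skip
                exact allRangeF_sound _ _ (checkFactF_eq cert) 2944000 1000 chkF_2944000 i (by omega) (by omega)
    · skip
      rcases Nat.lt_or_ge i 2957000 with h3 | h3
      · skip
        rcases Nat.lt_or_ge i 2951000 with h4 | h4
        · skip
          rcases Nat.lt_or_ge i 2948000 with h5 | h5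
          · skip
            rcases Nat.lt_or_ge i 2946000 with h6 | h6
            · skip
              exact allRangeF_sound _ _ (checkFactF_eq cert) 2945000 1000 chkF_2945000 i (by omega) (by omega)
            · skip
              rcases Nat.lt_or_ge i 2947000 with h7 | h7
              · skip
                exact allRangeF_sound _ _ (checkFactF_eq cert) 2946000 1000 chkF_2946000 i (by omega) (by omega)
              · skip
                exact allRangeF_sound _ _ (checkFactF_eq cert) 2947000 1000 chkF_2947000 i (by omega) (by omega)
          · skip
            rcases Nat.lt_or_ge i 2949000 with h6 | h6
            · skip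
              exact allRangeF_sound _ _ (checkFactF_eq cert) 2948000 1000 chkF_2948000 i (by omega) (by omega)
            · skip
              rcases Nat.lt_or_ge i 2950000 with h7 | h7
              · skip
                exact allRangeF_sound _ _ (checkFactF_eq cert) 2949000 1000 chkF_2949000 i (by omega) (by omega)
              · skip
                exact allRangeF_sound _ _ (checkFactF_eq cert) 2950000 1000 chkF_2950000 i (by omega) (by omega)
        · skip
          rcases Nat.lt_or_ge i 2954000 with h5 | h5
          · skip
            rcases Nat.lt_or_ge i 2952000 with h6 | h6
            · skip
              exact allRangeF_sound _ _ (checkFactF_eq cert) 2951000 1000 chkF_2951000 i (by omega) (by omega)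
            · skip
              rcases Nat.lt_or_ge i 2953000 with h7 | h7
              · skip
                exact allRangeF_sound _ _ (checkFactF_eq cert) 2952000 1000 chkF_2952000 i (by omega) (by omega)
              · skip
                exact allRangeF_sound _ _ (checkFactF_eq cert) 2953000 1000 chkF_2953000 i (by omega) (by omega)
          · skip
            rcases Nat.lt_or_ge i 2955000 with h6 | h6
            · skip
              exact allRangeF_sound _ _ (checkFactF_eq cert) 2954000 1000 chkF_2954000 i (by omega) (by omega)
            · skip
              rcases Nat.lt_or_ge i 2956000 with h7 | h7
              · skip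
                exact allRangeF_sound _ _ (checkFactF_eq cert) 2955000 1000 chkF_2955000 i (by omega) (by omega)
              · skip
                exact allRangeF_sound _ _ (checkFactF_eq cert) 2956000 1000 chkF_2956000 i (by omega) (by omega)
      · skip
        rcases Nat.lt_or_ge i 2963000 with h4 | h4
        · skip
          rcases Nat.lt_or_ge i 2960000 with h5 | h5
          · skip
            rcases Nat.lt_or_ge i 2958000 with h6 | h6
            · skip
              exact allRangeF_sound _ _ (checkFactF_eq cert) 2957000 1000 chkF_2957000 i (by omega) (by omega)
            · skip
              rcases Nat.lt_or_ge i 2959000 with h7 | h7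
              · skip
                exact allRangeF_sound _ _ (checkFactF_eq cert) 2958000 1000 chkF_2958000 i (by omega) (by omega)
              · skip
                exact allRangeF_sound _ _ (checkFactF_eq cert) 2959000 1000 chkF_2959000 i (by omega) (by omega)
          · skip
            rcases Nat.lt_or_ge i 2961000 with h6 | h6
            · skip
              exact allRangeF_sound _ _ (checkFactF_eq cert) 2960000 1000 chkF_2960000 i (by omega) (by omega)
            · skip
              rcases Nat.lt_or_ge i 2962000 with h7 | h7
              · skip
                exact allRangeF_sound _ _ (checkFactF_eq cert) 2961000 1000 chkF_2961000 i (by omega) (by omega)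
              · skip
                exact allRangeF_sound _ _ (checkFactF_eq cert) 2962000 1000 chkF_2962000 i (by omega) (by omega)
        · skip
          rcases Nat.lt_or_ge i 2966000 with h5 | h5
          · skip
            rcases Nat.lt_or_ge i 2964000 with h6 | h6
            · skip
              exact allRangeF_sound _ _ (checkFactF_eq cert) 2963000 1000 chkF_2963000 i (by omega) (by omega)
            · skip
              rcases Nat.lt_or_ge i 2965000 with h7 | h7
              · skip
                exact allRangeF_sound _ _ (checkFactF_eq cert) 2964000 1000 chkF_2964000 i (by omega) (by omega)
              · skip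
                exact allRangeF_sound _ _ (checkFactF_eq cert) 2965000 1000 chkF_2965000 i (by omega) (by omega)
          · skip
            rcases Nat.lt_or_ge i 2968000 with h6 | h6
            · skip
              rcases Nat.lt_or_ge i 2967000 with h7 | h7
              · skip
                exact allRangeF_sound _ _ (checkFactF_eq cert) 2966000 1000 chkF_2966000 i (by omega) (by omega)
              · skip
                exact allRangeF_sound _ _ (checkFactF_eq cert) 2967000 1000 chkF_2967000 i (by omega) (by omega)
            · skip
              rcases Nat.lt_or_ge i 2969000 with h7 | h7
              · skip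
                exact allRangeF_sound _ _ (checkFactF_eq cert) 2968000 1000 chkF_2968000 i (by omega) (by omega)
              · skip
                exact allRangeF_sound _ _ (checkFactF_eq cert) 2969000 1000 chkF_2969000 i (by omega) (by omega)

end Cfsg.Agent.Lib.Helper28.Fi24Data
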