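import Cfsg.Agent.Lib.Helper28.Fi24Data
import Cfsg.Agent.Lib.Helper28.TCFastFB

set_option autoImplicit false
set_option maxRecDepth 1000000
set_option linter.all false
set_option Elab.async false

namespace Cfsg.Agent.Lib.Helper28.Fi24Data

open Cfsg.Agent.Lib.Helper28B

theorem chkF_297000 : allRangeF (checkFactF cert) (nat_lit 297000) (nat_lit 1000) = true := by decide +kernel
theorem chkF_298000 : allRangeF (checkFactF cert) (nat_lit 298000) (nat_lit 1000) = true := by decide +kernel
theorem chkF_299000 : allRangeF (checkFactF cert) (nat_lit 299000) (nat_lit 1000) = true := by decide +kernel
theorem chkF_300000 : allRangeF (checkFactF cert) (nat_lit 300000) (nat_lit 1000) = true := by decide +kernel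
theorem chkF_301000 : allRangeF (checkFactF cert) (nat_lit 301000) (nat_lit 1000) = true := by decide +kernel
theorem chkF_302000 : allRangeF (checkFactF cert) (nat_lit 302000) (nat_lit 1000) = true := by decide +kernel
theorem chkF_303000 : allRangeF (checkFactF cert) (nat_lit 303000) (nat_lit 1000) = true := by decide +kernel
theorem chkF_304000 : allRangeF (checkFactF cert) (nat_lit 304000) (nat_lit 1000) = true := by decide +kernel
theorem chkF_305000 : allRangeF (checkFactF cert) (nat_lit 305000) (nat_lit 1000) = true := by decide +kernel
theorem chkF_306000 : allRangeF (checkFactF cert) (nat_lit 306000) (nat_lit 1000) = true := by decide +kernel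
theorem chkF_307000 : allRangeF (checkFactF cert) (nat_lit 307000) (nat_lit 1000) = true := by decide +kernel
theorem chkF_308000 : allRangeF (checkFactF cert) (nat_lit 308000) (nat_lit 1000) = true := by decide +kernel
theorem chkF_309000 : allRangeF (checkFactF cert) (nat_lit 309000) (nat_lit 1000) = true := by decide +kernel
theorem chkF_310000 : allRangeF (checkFactF cert) (nat_lit 310000) (nat_lit 1000) = true := by decide +kernel
theorem chkF_311000 : allRangeF (checkFactF cert) (nat_lit 311000) (nat_lit 1000) = true := by decide +kernel
theorem chkF_312000 : allRangeF (checkFactF cert) (nat_lit 312000) (nat_lit 1000) = true := by decide +kernel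
theorem chkF_313000 : allRangeF (checkFactF cert) (nat_lit 313000) (nat_lit 1000) = true := by decide +kernel
theorem chkF_314000 : allRangeF (checkFactF cert) (nat_lit 314000) (nat_lit 1000) = true := by decide +kernel
theorem chkF_315000 : allRangeF (checkFactF cert) (nat_lit 315000) (nat_lit 1000) = true := by decide +kernel
theorem chkF_316000 : allRangeF (checkFactF cert) (nat_lit 316000) (nat_lit 1000) = true := by decide +kernel
theorem chkF_317000 : allRangeF (checkFactF cert) (nat_lit 317000) (nat_lit 1000) = true := by decide +kernel
theorem chkF_318000 : allRangeF (checkFactF cert) (nat_lit 318000) (nat_lit 1000) = true := by decide +kernel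
theorem chkF_319000 : allRangeF (checkFactF cert) (nat_lit 319000) (nat_lit 1000) = true := by decide +kernel
theorem chkF_320000 : allRangeF (checkFactF cert) (nat_lit 320000) (nat_lit 1000) = true := by decide +kernel
theorem chkF_321000 : allRangeF (checkFactF cert) (nat_lit 321000) (nat_lit 1000) = true := by decide +kernel
theorem chkF_322000 : allRangeF (checkFactF cert) (nat_lit 322000) (nat_lit 1000) = true := by decide +kernel
theorem chkF_323000 : allRangeF (checkFactF cert) (nat_lit 323000) (nat_lit 1000) = true := by decide +kernel
theorem chkF_324000 : allRangeF (checkFactF cert) (nat_lit 324000) (nat_lit 1000) = true := by decide +kernel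
theorem chkF_325000 : allRangeF (checkFactF cert) (nat_lit 325000) (nat_lit 1000) = true := by decide +kernel
theorem chkF_326000 : allRangeF (checkFactF cert) (nat_lit 326000) (nat_lit 1000) = true := by decide +kernel
theorem chkF_327000 : allRangeF (checkFactF cert) (nat_lit 327000) (nat_lit 1000) = true := by decide +kernel
theorem chkF_328000 : allRangeF (checkFactF cert) (nat_lit 328000) (nat_lit 1000) = true := by decide +kernel
theorem chkF_329000 : allRangeF (checkFactF cert) (nat_lit 329000) (nat_lit 1000) = true := by decide +kernel
theorem chkF_330000 : allRangeF (checkFactF cert) (nat_lit 330000) (nat_lit 1000) = true := by decide +kernel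
theorem chkF_331000 : allRangeF (checkFactF cert) (nat_lit 331000) (nat_lit 1000) = true := by decide +kernel
theorem chkF_332000 : allRangeF (checkFactF cert) (nat_lit 332000) (nat_lit 1000) = true := by decide +kernel
theorem chkF_333000 : allRangeF (checkFactF cert) (nat_lit 333000) (nat_lit 1000) = true := by decide +kernel
theorem chkF_334000 : allRangeF (checkFactF cert) (nat_lit 334000) (nat_lit 1000) = true := by decide +kernel
theorem chkF_335000 : allRangeF (checkFactF cert) (nat_lit 335000) (nat_lit 1000) = true := by decide +kernel
theorem chkF_336000 : allRangeF (checkFactF cert) (nat_lit 336000) (nat_lit 1000) = true := by decide +kernel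
theorem chkF_337000 : allRangeF (checkFactF cert) (nat_lit 337000) (nat_lit 1000) = true := by decide +kernel
theorem chkF_338000 : allRangeF (checkFactF cert) (nat_lit 338000) (nat_lit 1000) = true := by decide +kernel
theorem chkF_339000 : allRangeF (checkFactF cert) (nat_lit 339000) (nat_lit 1000) = true := by decide +kernel
theorem chkF_340000 : allRangeF (checkFactF cert) (nat_lit 340000) (nat_lit 1000) = true := by decide +kernel
theorem chkF_341000 : allRangeF (checkFactF cert) (nat_lit 341000) (nat_lit 1000) = true := by decide +kernel
theorem chkF_342000 : allRangeF (checkFactF cert) (nat_lit 342000) (nat_lit 1000) = true := by decide +kernel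
theorem chkF_343000 : allRangeF (checkFactF cert) (nat_lit 343000) (nat_lit 1000) = true := by decide +kernel
theorem chkF_344000 : allRangeF (checkFactF cert) (nat_lit 344000) (nat_lit 1000) = true := by decide +kernel
theorem chkF_345000 : allRangeF (checkFactF cert) (nat_lit 345000) (nat_lit 1000) = true := by decide +kernel
theorem chkF_346000 : allRangeF (checkFactF cert) (nat_lit 346000) (nat_lit 1000) = true := by decide +kernel
theorem chkF_347000 : allRangeF (checkFactF cert) (nat_lit 347000) (nat_lit 1000) = true := by decide +kernel
theorem chkF_348000 : allRangeF (checkFactF cert) (nat_lit 348000) (nat_lit 1000) = true := by decide +kernel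
theorem chkF_349000 : allRangeF (checkFactF cert) (nat_lit 349000) (nat_lit 1000) = true := by decide +kernel
theorem chkF_350000 : allRangeF (checkFactF cert) (nat_lit 350000) (nat_lit 1000) = true := by decide +kernel
theorem chkF_351000 : allRangeF (checkFactF cert) (nat_lit 351000) (nat_lit 1000) = true := by decide +kernel
theorem chkF_352000 : allRangeF (checkFactF cert) (nat_lit 352000) (nat_lit 1000) = true := by decide +kernel
theorem chkF_353000 : allRangeF (checkFactF cert) (nat_lit 353000) (nat_lit 1000) = true := by decide +kernel
theorem chkF_354000 : allRangeF (checkFactF cert) (nat_lit 354000) (nat_lit 1000) = true := by decide +kernel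
theorem chkF_355000 : allRangeF (checkFactF cert) (nat_lit 355000) (nat_lit 1000) = true := by decide +kernel
theorem chkF_356000 : allRangeF (checkFactF cert) (nat_lit 356000) (nat_lit 1000) = true := by decide +kernel
theorem chkF_357000 : allRangeF (checkFactF cert) (nat_lit 357000) (nat_lit 1000) = true := by decide +kernel
theorem chkF_358000 : allRangeF (checkFactF cert) (nat_lit 358000) (nat_lit 1000) = true := by decide +kernel
theorem chkF_359000 : allRangeF (checkFactF cert) (nat_lit 359000) (nat_lit 1000) = true := by decide +kernel
theorem chkF_360000 : allRangeF (checkFactF cert) (nat_lit 360000) (nat_lit 1000) = true := by decide +kernel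
theorem chkF_361000 : allRangeF (checkFactF cert) (nat_lit 361000) (nat_lit 1000) = true := by decide +kernel
theorem chkF_362000 : allRangeF (checkFactF cert) (nat_lit 362000) (nat_lit 1000) = true := by decide +kernel
theorem chkF_363000 : allRangeF (checkFactF cert) (nat_lit 363000) (nat_lit 1000) = true := by decide +kernel
theorem chkF_364000 : allRangeF (checkFactF cert) (nat_lit 364000) (nat_lit 1000) = true := by decide +kernel
theorem chkF_365000 : allRangeF (checkFactF cert) (nat_lit 365000) (nat_lit 1000) = true := by decide +kernel
theorem chkF_366000 : allRangeF (checkFactF cert) (nat_lit 366000) (nat_lit 1000) = true := by decide +kernel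
theorem chkF_367000 : allRangeF (checkFactF cert) (nat_lit 367000) (nat_lit 1000) = true := by decide +kernel
theorem chkF_368000 : allRangeF (checkFactF cert) (nat_lit 368000) (nat_lit 1000) = true := by decide +kernel
theorem chkF_369000 : allRangeF (checkFactF cert) (nat_lit 369000) (nat_lit 1000) = true := by decide +kernel
theorem chkF_370000 : allRangeF (checkFactF cert) (nat_lit 370000) (nat_lit 1000) = true := by decide +kernel
theorem chkF_371000 : allRangeF (checkFactF cert) (nat_lit 371000) (nat_lit 1000) = true := by decide +kernel
theorem chkF_372000 : allRangeF (checkFactF cert) (nat_lit 372000) (nat_lit 1000) = true := by decide +kernel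
theorem chkF_373000 : allRangeF (checkFactF cert) (nat_lit 373000) (nat_lit 1000) = true := by decide +kernel
theorem chkF_374000 : allRangeF (checkFactF cert) (nat_lit 374000) (nat_lit 1000) = true := by decide +kernel
theorem chkF_375000 : allRangeF (checkFactF cert) (nat_lit 375000) (nat_lit 1000) = true := by decide +kernel
theorem chkF_376000 : allRangeF (checkFactF cert) (nat_lit 376000) (nat_lit 1000) = true := by decide +kernel
theorem chkF_377000 : allRangeF (checkFactF cert) (nat_lit 377000) (nat_lit 1000) = true := by decide +kernel
theorem chkF_378000 : allRangeF (checkFactF cert) (nat_lit 378000) (nat_lit 1000) = true := by decide +kernel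
theorem chkF_379000 : allRangeF (checkFactF cert) (nat_lit 379000) (nat_lit 1000) = true := by decide +kernel
theorem chkF_380000 : allRangeF (checkFactF cert) (nat_lit 380000) (nat_lit 1000) = true := by decide +kernel
theorem chkF_381000 : allRangeF (checkFactF cert) (nat_lit 381000) (nat_lit 1000) = true := by decide +kernel
theorem chkF_382000 : allRangeF (checkFactF cert) (nat_lit 382000) (nat_lit 1000) = true := by decide +kernel
theorem chkF_383000 : allRangeF (checkFactF cert) (nat_lit 383000) (nat_lit 1000) = true := by decide +kernel
theorem chkF_384000 : allRangeF (checkFactF cert) (nat_lit 384000) (nat_lit 1000) = true := by decide +kernel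
theorem chkF_385000 : allRangeF (checkFactF cert) (nat_lit 385000) (nat_lit 1000) = true := by decide +kernel
theorem chkF_386000 : allRangeF (checkFactF cert) (nat_lit 386000) (nat_lit 1000) = true := by decide +kernel
theorem chkF_387000 : allRangeF (checkFactF cert) (nat_lit 387000) (nat_lit 1000) = true := by decide +kernel
theorem chkF_388000 : allRangeF (checkFactF cert) (nat_lit 388000) (nat_lit 1000) = true := by decide +kernel
theorem chkF_389000 : allRangeF (checkFactF cert) (nat_lit 389000) (nat_lit 1000) = true := by decide +kernel
theorem chkF_390000 : allRangeF (checkFactF cert) (nat_lit 390000) (nat_lit 1000) = true := by decide +kernel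
theorem chkF_391000 : allRangeF (checkFactF cert) (nat_lit 391000) (nat_lit 1000) = true := by decide +kernel
theorem chkF_392000 : allRangeF (checkFactF cert) (nat_lit 392000) (nat_lit 1000) = true := by decide +kernel
theorem chkF_393000 : allRangeF (checkFactF cert) (nat_lit 393000) (nat_lit 1000) = true := by decide +kernel
theorem chkF_394000 : allRangeF (checkFactF cert) (nat_lit 394000) (nat_lit 1000) = true := by decide +kernel
theorem chkF_395000 : allRangeF (checkFactF cert) (nat_lit 395000) (nat_lit 1000) = true := by decide +kernel

theorem factsRange_3 : ∀ i, 297000 ≤ i → i < 396000 → checkFact cert i = true := by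
  intro i hlo hhi
  rcases Nat.lt_or_ge i 346000 with h1 | h1
  · skip
    rcases Nat.lt_or_ge i 321000 with h2 | h2
    · skip
      rcases Nat.lt_or_ge i 309000 with h3 | h3
      · skip
        rcases Nat.lt_or_ge i 303000 with h4 | h4
        · skip
          rcases Nat.lt_or_ge i 300000 with h5 | h5
          · skip
            rcases Nat.lt_or_ge i 298000 with h6 | h6
            · skip
              exact allRangeF_sound _ _ (checkFactF_eq cert) 297000 1000 chkF_297000 i (by omega) (by omega)
            · skip
              rcases Nat.lt_or_ge i 299000 with h7 | h7
              · skip
                exact allRangeF_sound _ _ (checkFactF_eq cert) 298000 1000 chkF_298000 i (by omega) (by omega)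
              · skip
                exact allRangeF_sound _ _ (checkFactF_eq cert) 299000 1000 chkF_299000 i (by omega) (by omega)
          · skip
            rcases Nat.lt_or_ge i 301000 with h6 | h6
            · skip
              exact allRangeF_sound _ _ (checkFactF_eq cert) 300000 1000 chkF_300000 i (by omega) (by omega)
            · skip
              rcases Nat.lt_or_ge i 302000 with h7 | h7
              · skip
                exact allRangeF_sound _ _ (checkFactF_eq cert) 301000 1000 chkF_301000 i (by omega) (by omega)
              · skip
                exact allRangeF_sound _ _ (checkFactF_eq cert) 302000 1000 chkF_302000 i (by omega) (by omega)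
        · skip
          rcases Nat.lt_or_ge i 306000 with h5 | h5
          · skip
            rcases Nat.lt_or_ge i 304000 with h6 | h6
            · skip
              exact allRangeF_sound _ _ (checkFactF_eq cert) 303000 1000 chkF_303000 i (by omega) (by omega)
            · skip
              rcases Nat.lt_or_ge i 305000 with h7 | h7
              · skip
                exact allRangeF_sound _ _ (checkFactF_eq cert) 304000 1000 chkF_304000 i (by omega) (by omega)
              · skip
                exact allRangeF_sound _ _ (checkFactF_eq cert) 305000 1000 chkF_305000 i (by omega) (by omega)
          · skip
            rcases Nat.lt_or_ge i 307000 with h6 | h6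
            · skip
              exact allRangeF_sound _ _ (checkFactF_eq cert) 306000 1000 chkF_306000 i (by omega) (by omega)
            · skip
              rcases Nat.lt_or_ge i 308000 with h7 | h7
              · skip
                exact allRangeF_sound _ _ (checkFactF_eq cert) 307000 1000 chkF_307000 i (by omega) (by omega)
              · skip
                exact allRangeF_sound _ _ (checkFactF_eq cert) 308000 1000 chkF_308000 i (by omega) (by omega)
      · skip
        rcases Nat.lt_or_ge i 315000 with h4 | h4
        · skip
          rcases Nat.lt_or_ge i 312000 with h5 | h5
          · skip
            rcases Nat.lt_or_ge i 310000 with h6 | h6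
            · skip
              exact allRangeF_sound _ _ (checkFactF_eq cert) 309000 1000 chkF_309000 i (by omega) (by omega)
            · skip
              rcases Nat.lt_or_ge i 311000 with h7 | h7
              · skip
                exact allRangeF_sound _ _ (checkFactF_eq cert) 310000 1000 chkF_310000 i (by omega) (by omega)
              · skip
                exact allRangeF_sound _ _ (checkFactF_eq cert) 311000 1000 chkF_311000 i (by omega) (by omega)
          · skip
            rcases Nat.lt_or_ge i 313000 with h6 | h6
            · skip
              exact allRangeF_sound _ _ (checkFactF_eq cert) 312000 1000 chkF_312000 i (by omega) (by omega)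
            · skip
              rcases Nat.lt_or_ge i 314000 with h7 | h7
              · skip
                exact allRangeF_sound _ _ (checkFactF_eq cert) 313000 1000 chkF_313000 i (by omega) (by omega)
              · skip
                exact allRangeF_sound _ _ (checkFactF_eq cert) 314000 1000 chkF_314000 i (by omega) (by omega)
        · skip
          rcases Nat.lt_or_ge i 318000 with h5 | h5
          · skip
            rcases Nat.lt_or_ge i 316000 with h6 | h6
            · skip
              exact allRangeF_sound _ _ (checkFactF_eq cert) 315000 1000 chkF_315000 i (by omega) (by omega)
            · skip
              rcases Nat.lt_or_ge i 317000 with h7 | h7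
              · skip
                exact allRangeF_sound _ _ (checkFactF_eq cert) 316000 1000 chkF_316000 i (by omega) (by omega)
              · skip
                exact allRangeF_sound _ _ (checkFactF_eq cert) 317000 1000 chkF_317000 i (by omega) (by omega)
          · skip
            rcases Nat.lt_or_ge i 319000 with h6 | h6
            · skip
              exact allRangeF_sound _ _ (checkFactF_eq cert) 318000 1000 chkF_318000 i (by omega) (by omega)
            · skip
              rcases Nat.lt_or_ge i 320000 with h7 | h7
              · skip
                exact allRangeF_sound _ _ (checkFactF_eq cert) 319000 1000 chkF_319000 i (by omega) (by omega)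
              · skip
                exact allRangeF_sound _ _ (checkFactF_eq cert) 320000 1000 chkF_320000 i (by omega) (by omega)
    · skip
      rcases Nat.lt_or_ge i 333000 with h3 | h3
      · skip
        rcases Nat.lt_or_ge i 327000 with h4 | h4
        · skip
          rcases Nat.lt_or_ge i 324000 with h5 | h5
          · skip
            rcases Nat.lt_or_ge i 322000 with h6 | h6
            · skip
              exact allRangeF_sound _ _ (checkFactF_eq cert) 321000 1000 chkF_321000 i (by omega) (by omega)
            · skip
              rcases Nat.lt_or_ge i 323000 with h7 | h7
              · skip
                exact allRangeF_sound _ _ (checkFactF_eq cert) 322000 1000 chkF_322000 i (by omega) (by omega)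
              · skip
                exact allRangeF_sound _ _ (checkFactF_eq cert) 323000 1000 chkF_323000 i (by omega) (by omega)
          · skip
            rcases Nat.lt_or_ge i 325000 with h6 | h6
            · skip
              exact allRangeF_sound _ _ (checkFactF_eq cert) 324000 1000 chkF_324000 i (by omega) (by omega)
            · skip
              rcases Nat.lt_or_ge i 326000 with h7 | h7
              · skip
                exact allRangeF_sound _ _ (checkFactF_eq cert) 325000 1000 chkF_325000 i (by omega) (by omega)
              · skip
                exact allRangeF_sound _ _ (checkFactF_eq cert) 326000 1000 chkF_326000 i (by omega) (by omega)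
        · skip
          rcases Nat.lt_or_ge i 330000 with h5 | h5
          · skip
            rcases Nat.lt_or_ge i 328000 with h6 | h6
            · skip
              exact allRangeF_sound _ _ (checkFactF_eq cert) 327000 1000 chkF_327000 i (by omega) (by omega)
            · skip
              rcases Nat.lt_or_ge i 329000 with h7 | h7
              · skip
                exact allRangeF_sound _ _ (checkFactF_eq cert) 328000 1000 chkF_328000 i (by omega) (by omega)
              · skip
                exact allRangeF_sound _ _ (checkFactF_eq cert) 329000 1000 chkF_329000 i (by omega) (by omega)
          · skip
            rcases Nat.lt_or_ge i 331000 with h6 | h6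
            · skip
              exact allRangeF_sound _ _ (checkFactF_eq cert) 330000 1000 chkF_330000 i (by omega) (by omega)
            · skip
              rcases Nat.lt_or_ge i 332000 with h7 | h7
              · skip
                exact allRangeF_sound _ _ (checkFactF_eq cert) 331000 1000 chkF_331000 i (by omega) (by omega)
              · skip
                exact allRangeF_sound _ _ (checkFactF_eq cert) 332000 1000 chkF_332000 i (by omega) (by omega)
      · skip
        rcases Nat.lt_or_ge i 339000 with h4 | h4
        · skip
          rcases Nat.lt_or_ge i 336000 with h5 | h5
          · skip
            rcases Nat.lt_or_ge i 334000 with h6 | h6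
            · skip
              exact allRangeF_sound _ _ (checkFactF_eq cert) 333000 1000 chkF_333000 i (by omega) (by omega)
            · skip
              rcases Nat.lt_or_ge i 335000 with h7 | h7
              · skip
                exact allRangeF_sound _ _ (checkFactF_eq cert) 334000 1000 chkF_334000 i (by omega) (by omega)
              · skip
                exact allRangeF_sound _ _ (checkFactF_eq cert) 335000 1000 chkF_335000 i (by omega) (by omega)
          · skip
            rcases Nat.lt_or_ge i 337000 with h6 | h6
            · skip
              exact allRangeF_sound _ _ (checkFactF_eq cert) 336000 1000 chkF_336000 i (by omega) (by omega)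
            · skip
              rcases Nat.lt_or_ge i 338000 with h7 | h7
              · skip
                exact allRangeF_sound _ _ (checkFactF_eq cert) 337000 1000 chkF_337000 i (by omega) (by omega)
              · skip
                exact allRangeF_sound _ _ (checkFactF_eq cert) 338000 1000 chkF_338000 i (by omega) (by omega)
        · skip
          rcases Nat.lt_or_ge i 342000 with h5 | h5
          · skip
            rcases Nat.lt_or_ge i 340000 with h6 | h6
            · skip
              exact allRangeF_sound _ _ (checkFactF_eq cert) 339000 1000 chkF_339000 i (by omega) (by omega)
            · skip
              rcases Nat.lt_or_ge i 341000 with h7 | h7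
              · skip
                exact allRangeF_sound _ _ (checkFactF_eq cert) 340000 1000 chkF_340000 i (by omega) (by omega)
              · skip
                exact allRangeF_sound _ _ (checkFactF_eq cert) 341000 1000 chkF_341000 i (by omega) (by omega)
          · skip
            rcases Nat.lt_or_ge i 344000 with h6 | h6
            · skip
              rcases Nat.lt_or_ge i 343000 with h7 | h7
              · skip
                exact allRangeF_sound _ _ (checkFactF_eq cert) 342000 1000 chkF_342000 i (by omega) (by omega)
              · skip
                exact allRangeF_sound _ _ (checkFactF_eq cert) 343000 1000 chkF_343000 i (by omega) (by omega)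
            · skip
              rcases Nat.lt_or_ge i 345000 with h7 | h7
              · skip
                exact allRangeF_sound _ _ (checkFactF_eq cert) 344000 1000 chkF_344000 i (by omega) (by omega)
              · skip
                exact allRangeF_sound _ _ (checkFactF_eq cert) 345000 1000 chkF_345000 i (by omega) (by omega)
  · skip
    rcases Nat.lt_or_ge i 371000 with h2 | h2
    · skip
      rcases Nat.lt_or_ge i 358000 with h3 | h3
      · skip
        rcases Nat.lt_or_ge i 352000 with h4 | h4
        · skip
          rcases Nat.lt_or_ge i 349000 with h5 | h5
          · skip
            rcases Nat.lt_or_ge i 347000 with h6 | h6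
            · skip
              exact allRangeF_sound _ _ (checkFactF_eq cert) 346000 1000 chkF_346000 i (by omega) (by omega)
            · skip
              rcases Nat.lt_or_ge i 348000 with h7 | h7
              · skip
                exact allRangeF_sound _ _ (checkFactF_eq cert) 347000 1000 chkF_347000 i (by omega) (by omega)
              · skip
                exact allRangeF_sound _ _ (checkFactF_eq cert) 348000 1000 chkF_348000 i (by omega) (by omega)
          · skip
            rcases Nat.lt_or_ge i 350000 with h6 | h6
            · skip
              exact allRangeF_sound _ _ (checkFactF_eq cert) 349000 1000 chkF_349000 i (by omega) (by omega)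
            · skip
              rcases Nat.lt_or_ge i 351000 with h7 | h7
              · skip
                exact allRangeF_sound _ _ (checkFactF_eq cert) 350000 1000 chkF_350000 i (by omega) (by omega)
              · skip
                exact allRangeF_sound _ _ (checkFactF_eq cert) 351000 1000 chkF_351000 i (by omega) (by omega)
        · skip
          rcases Nat.lt_or_ge i 355000 with h5 | h5
          · skip
            rcases Nat.lt_or_ge i 353000 with h6 | h6
            · skip
              exact allRangeF_sound _ _ (checkFactF_eq cert) 352000 1000 chkF_352000 i (by omega) (by omega)
            · skip
              rcases Nat.lt_or_ge i 354000 with h7 | h7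
              · skip
                exact allRangeF_sound _ _ (checkFactF_eq cert) 353000 1000 chkF_353000 i (by omega) (by omega)
              · skip
                exact allRangeF_sound _ _ (checkFactF_eq cert) 354000 1000 chkF_354000 i (by omega) (by omega)
          · skip
            rcases Nat.lt_or_ge i 356000 with h6 | h6
            · skip
              exact allRangeF_sound _ _ (checkFactF_eq cert) 355000 1000 chkF_355000 i (by omega) (by omega)
            · skip
              rcases Nat.lt_or_ge i 357000 with h7 | h7
              · skip
                exact allRangeF_sound _ _ (checkFactF_eq cert) 356000 1000 chkF_356000 i (by omega) (by omega)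
              · skip
                exact allRangeF_sound _ _ (checkFactF_eq cert) 357000 1000 chkF_357000 i (by omega) (by omega)
      · skip
        rcases Nat.lt_or_ge i 364000 with h4 | h4
        · skip
          rcases Nat.lt_or_ge i 361000 with h5 | h5
          · skip
            rcases Nat.lt_or_ge i 359000 with h6 | h6
            · skip
              exact allRangeF_sound _ _ (checkFactF_eq cert) 358000 1000 chkF_358000 i (by omega) (by omega)
            · skip
              rcases Nat.lt_or_ge i 360000 with h7 | h7
              · skip
                exact allRangeF_sound _ _ (checkFactF_eq cert) 359000 1000 chkF_359000 i (by omega) (by omega)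
              · skip
                exact allRangeF_sound _ _ (checkFactF_eq cert) 360000 1000 chkF_360000 i (by omega) (by omega)
          · skip
            rcases Nat.lt_or_ge i 362000 with h6 | h6
            · skip
              exact allRangeF_sound _ _ (checkFactF_eq cert) 361000 1000 chkF_361000 i (by omega) (by omega)
            · skip
              rcases Nat.lt_or_ge i 363000 with h7 | h7
              · skip
                exact allRangeF_sound _ _ (checkFactF_eq cert) 362000 1000 chkF_362000 i (by omega) (by omega)
              · skip
                exact allRangeF_sound _ _ (checkFactF_eq cert) 363000 1000 chkF_363000 i (by omega) (by omega)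
        · skip
          rcases Nat.lt_or_ge i 367000 with h5 | h5
          · skip
            rcases Nat.lt_or_ge i 365000 with h6 | h6
            · skip
              exact allRangeF_sound _ _ (checkFactF_eq cert) 364000 1000 chkF_364000 i (by omega) (by omega)
            · skip
              rcases Nat.lt_or_ge i 366000 with h7 | h7
              · skip
                exact allRangeF_sound _ _ (checkFactF_eq cert) 365000 1000 chkF_365000 i (by omega) (by omega)
              · skip
                exact allRangeF_sound _ _ (checkFactF_eq cert) 366000 1000 chkF_366000 i (by omega) (by omega)
          · skip
            rcases Nat.lt_or_ge i 369000 with h6 | h6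
            · skip
              rcases Nat.lt_or_ge i 368000 with h7 | h7
              · skip
                exact allRangeF_sound _ _ (checkFactF_eq cert) 367000 1000 chkF_367000 i (by omega) (by omega)
              · skip
                exact allRangeF_sound _ _ (checkFactF_eq cert) 368000 1000 chkF_368000 i (by omega) (by omega)
            · skip
              rcases Nat.lt_or_ge i 370000 with h7 | h7
              · skip
                exact allRangeF_sound _ _ (checkFactF_eq cert) 369000 1000 chkF_369000 i (by omega) (by omega)
              · skip
                exact allRangeF_sound _ _ (checkFactF_eq cert) 370000 1000 chkF_370000 i (by omega) (by omega)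
    · skip
      rcases Nat.lt_or_ge i 383000 with h3 | h3
      · skip
        rcases Nat.lt_or_ge i 377000 with h4 | h4
        · skip
          rcases Nat.lt_or_ge i 374000 with h5 | h5
          · skip
            rcases Nat.lt_or_ge i 372000 with h6 | h6
            · skip
              exact allRangeF_sound _ _ (checkFactF_eq cert) 371000 1000 chkF_371000 i (by omega) (by omega)
            · skip
              rcases Nat.lt_or_ge i 373000 with h7 | h7
              · skip
                exact allRangeF_sound _ _ (checkFactF_eq cert) 372000 1000 chkF_372000 i (by omega) (by omega)
              · skip
                exact allRangeF_sound _ _ (checkFactF_eq cert) 373000 1000 chkF_373000 i (by omega) (by omega)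
          · skip
            rcases Nat.lt_or_ge i 375000 with h6 | h6
            · skip
              exact allRangeF_sound _ _ (checkFactF_eq cert) 374000 1000 chkF_374000 i (by omega) (by omega)
            · skip
              rcases Nat.lt_or_ge i 376000 with h7 | h7
              · skip
                exact allRangeF_sound _ _ (checkFactF_eq cert) 375000 1000 chkF_375000 i (by omega) (by omega)
              · skip
                exact allRangeF_sound _ _ (checkFactF_eq cert) 376000 1000 chkF_376000 i (by omega) (by omega)
        · skip
          rcases Nat.lt_or_ge i 380000 with h5 | h5
          · skip
            rcases Nat.lt_or_ge i 378000 with h6 | h6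
            · skip
              exact allRangeF_sound _ _ (checkFactF_eq cert) 377000 1000 chkF_377000 i (by omega) (by omega)
            · skip
              rcases Nat.lt_or_ge i 379000 with h7 | h7
              · skip
                exact allRangeF_sound _ _ (checkFactF_eq cert) 378000 1000 chkF_378000 i (by omega) (by omega)
              · skip
                exact allRangeF_sound _ _ (checkFactF_eq cert) 379000 1000 chkF_379000 i (by omega) (by omega)
          · skip
            rcases Nat.lt_or_ge i 381000 with h6 | h6
            · skip
              exact allRangeF_sound _ _ (checkFactF_eq cert) 380000 1000 chkF_380000 i (by omega) (by omega)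
            · skip
              rcases Nat.lt_or_ge i 382000 with h7 | h7
              · skip
                exact allRangeF_sound _ _ (checkFactF_eq cert) 381000 1000 chkF_381000 i (by omega) (by omega)
              · skip
                exact allRangeF_sound _ _ (checkFactF_eq cert) 382000 1000 chkF_382000 i (by omega) (by omega)
      · skip
        rcases Nat.lt_or_ge i 389000 with h4 | h4
        · skip
          rcases Nat.lt_or_ge i 386000 with h5 | h5
          · skip
            rcases Nat.lt_or_ge i 384000 with h6 | h6
            · skip
              exact allRangeF_sound _ _ (checkFactF_eq cert) 383000 1000 chkF_383000 i (by omega) (by omega)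
            · skip
              rcases Nat.lt_or_ge i 385000 with h7 | h7
              · skip
                exact allRangeF_sound _ _ (checkFactF_eq cert) 384000 1000 chkF_384000 i (by omega) (by omega)
              · skip
                exact allRangeF_sound _ _ (checkFactF_eq cert) 385000 1000 chkF_385000 i (by omega) (by omega)
          · skip
            rcases Nat.lt_or_ge i 387000 with h6 | h6
            · skip
              exact allRangeF_sound _ _ (checkFactF_eq cert) 386000 1000 chkF_386000 i (by omega) (by omega)
            · skip
              rcases Nat.lt_or_ge i 388000 with h7 | h7
              · skip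
                exact allRangeF_sound _ _ (checkFactF_eq cert) 387000 1000 chkF_387000 i (by omega) (by omega)
              · skip
                exact allRangeF_sound _ _ (checkFactF_eq cert) 388000 1000 chkF_388000 i (by omega) (by omega)
        · skip
          rcases Nat.lt_or_ge i 392000 with h5 | h5
          · skip
            rcases Nat.lt_or_ge i 390000 with h6 | h6
            · skip
              exact allRangeF_sound _ _ (checkFactF_eq cert) 389000 1000 chkF_389000 i (by omega) (by omega)
            · skip
              rcases Nat.lt_or_ge i 391000 with h7 | h7
              · skip
                exact allRangeF_sound _ _ (checkFactF_eq cert) 390000 1000 chkF_390000 i (by omega) (by omega)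
              · skip
                exact allRangeF_sound _ _ (checkFactF_eq cert) 391000 1000 chkF_391000 i (by omega) (by omega)
          · skip
            rcases Nat.lt_or_ge i 394000 with h6 | h6
            · skip
              rcases Nat.lt_or_ge i 393000 with h7 | h7
              · skip
                exact allRangeF_sound _ _ (checkFactF_eq cert) 392000 1000 chkF_392000 i (by omega) (by omega)
              · skip
                exact allRangeF_sound _ _ (checkFactF_eq cert) 393000 1000 chkF_393000 i (by omega) (by omega)
            · skip
              rcases Nat.lt_or_ge i 395000 with h7 | h7
              · skip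
                exact allRangeF_sound _ _ (checkFactF_eq cert) 394000 1000 chkF_394000 i (by omega) (by omega)
              · skip
                exact allRangeF_sound _ _ (checkFactF_eq cert) 395000 1000 chkF_395000 i (by omega) (by omega)

end Cfsg.Agent.Lib.Helper28.Fi24Data
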