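import Cfsg.Agent.Lib.Helper28.Fi24Data
import Cfsg.Agent.Lib.Helper28.TCFastFB

set_option autoImplicit false
set_option maxRecDepth 1000000
set_option linter.all false
set_option Elab.async false

namespace Cfsg.Agent.Lib.Helper28.Fi24Data

open Cfsg.Agent.Lib.Helper28B

theorem chkF_2970000 : allRangeF (checkFactF cert) (nat_lit 2970000) (nat_lit 1000) = true := by decide +kernel
theorem chkF_2971000 : allRangeF (checkFactF cert) (nat_lit 2971000) (nat_lit 1000) = true := by decide +kernel
theorem chkF_2972000 : allRangeF (checkFactF cert) (nat_lit 2972000) (nat_lit 1000) = true := by decide +kernel
theorem chkF_2973000 : allRangeF (checkFactF cert) (nat_lit 2973000) (nat_lit 1000) = true := by decide +kernel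
theorem chkF_2974000 : allRangeF (checkFactF cert) (nat_lit 2974000) (nat_lit 1000) = true := by decide +kernel
theorem chkF_2975000 : allRangeF (checkFactF cert) (nat_lit 2975000) (nat_lit 1000) = true := by decide +kernel
theorem chkF_2976000 : allRangeF (checkFactF cert) (nat_lit 2976000) (nat_lit 1000) = true := by decide +kernel
theorem chkF_2977000 : allRangeF (checkFactF cert) (nat_lit 2977000) (nat_lit 1000) = true := by decide +kernel
theorem chkF_2978000 : allRangeF (checkFactF cert) (nat_lit 2978000) (nat_lit 1000) = true := by decide +kernel
theorem chkF_2979000 : allRangeF (checkFactF cert) (nat_lit 2979000) (nat_lit 1000) = true := by decide +kernel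
theorem chkF_2980000 : allRangeF (checkFactF cert) (nat_lit 2980000) (nat_lit 1000) = true := by decide +kernel
theorem chkF_2981000 : allRangeF (checkFactF cert) (nat_lit 2981000) (nat_lit 1000) = true := by decide +kernel
theorem chkF_2982000 : allRangeF (checkFactF cert) (nat_lit 2982000) (nat_lit 1000) = true := by decide +kernel
theorem chkF_2983000 : allRangeF (checkFactF cert) (nat_lit 2983000) (nat_lit 1000) = true := by decide +kernel
theorem chkF_2984000 : allRangeF (checkFactF cert) (nat_lit 2984000) (nat_lit 1000) = true := by decide +kernel
theorem chkF_2985000 : allRangeF (checkFactF cert) (nat_lit 2985000) (nat_lit 1000) = true := by decide +kernel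
theorem chkF_2986000 : allRangeF (checkFactF cert) (nat_lit 2986000) (nat_lit 1000) = true := by decide +kernel
theorem chkF_2987000 : allRangeF (checkFactF cert) (nat_lit 2987000) (nat_lit 1000) = true := by decide +kernel
theorem chkF_2988000 : allRangeF (checkFactF cert) (nat_lit 2988000) (nat_lit 1000) = true := by decide +kernel
theorem chkF_2989000 : allRangeF (checkFactF cert) (nat_lit 2989000) (nat_lit 1000) = true := by decide +kernel
theorem chkF_2990000 : allRangeF (checkFactF cert) (nat_lit 2990000) (nat_lit 1000) = true := by decide +kernel
theorem chkF_2991000 : allRangeF (checkFactF cert) (nat_lit 2991000) (nat_lit 1000) = true := by decide +kernel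
theorem chkF_2992000 : allRangeF (checkFactF cert) (nat_lit 2992000) (nat_lit 1000) = true := by decide +kernel
theorem chkF_2993000 : allRangeF (checkFactF cert) (nat_lit 2993000) (nat_lit 1000) = true := by decide +kernel
theorem chkF_2994000 : allRangeF (checkFactF cert) (nat_lit 2994000) (nat_lit 1000) = true := by decide +kernel
theorem chkF_2995000 : allRangeF (checkFactF cert) (nat_lit 2995000) (nat_lit 1000) = true := by decide +kernel
theorem chkF_2996000 : allRangeF (checkFactF cert) (nat_lit 2996000) (nat_lit 1000) = true := by decide +kernel
theorem chkF_2997000 : allRangeF (checkFactF cert) (nat_lit 2997000) (nat_lit 1000) = true := by decide +kernel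
theorem chkF_2998000 : allRangeF (checkFactF cert) (nat_lit 2998000) (nat_lit 1000) = true := by decide +kernel
theorem chkF_2999000 : allRangeF (checkFactF cert) (nat_lit 2999000) (nat_lit 1000) = true := by decide +kernel
theorem chkF_3000000 : allRangeF (checkFactF cert) (nat_lit 3000000) (nat_lit 1000) = true := by decide +kernel
theorem chkF_3001000 : allRangeF (checkFactF cert) (nat_lit 3001000) (nat_lit 1000) = true := by decide +kernel
theorem chkF_3002000 : allRangeF (checkFactF cert) (nat_lit 3002000) (nat_lit 1000) = true := by decide +kernel
theorem chkF_3003000 : allRangeF (checkFactF cert) (nat_lit 3003000) (nat_lit 1000) = true := by decide +kernel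
theorem chkF_3004000 : allRangeF (checkFactF cert) (nat_lit 3004000) (nat_lit 1000) = true := by decide +kernel
theorem chkF_3005000 : allRangeF (checkFactF cert) (nat_lit 3005000) (nat_lit 1000) = true := by decide +kernel
theorem chkF_3006000 : allRangeF (checkFactF cert) (nat_lit 3006000) (nat_lit 1000) = true := by decide +kernel
theorem chkF_3007000 : allRangeF (checkFactF cert) (nat_lit 3007000) (nat_lit 1000) = true := by decide +kernel
theorem chkF_3008000 : allRangeF (checkFactF cert) (nat_lit 3008000) (nat_lit 1000) = true := by decide +kernel
theorem chkF_3009000 : allRangeF (checkFactF cert) (nat_lit 3009000) (nat_lit 1000) = true := by decide +kernel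
theorem chkF_3010000 : allRangeF (checkFactF cert) (nat_lit 3010000) (nat_lit 1000) = true := by decide +kernel
theorem chkF_3011000 : allRangeF (checkFactF cert) (nat_lit 3011000) (nat_lit 1000) = true := by decide +kernel
theorem chkF_3012000 : allRangeF (checkFactF cert) (nat_lit 3012000) (nat_lit 1000) = true := by decide +kernel
theorem chkF_3013000 : allRangeF (checkFactF cert) (nat_lit 3013000) (nat_lit 1000) = true := by decide +kernel
theorem chkF_3014000 : allRangeF (checkFactF cert) (nat_lit 3014000) (nat_lit 1000) = true := by decide +kernel
theorem chkF_3015000 : allRangeF (checkFactF cert) (nat_lit 3015000) (nat_lit 1000) = true := by decide +kernel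
theorem chkF_3016000 : allRangeF (checkFactF cert) (nat_lit 3016000) (nat_lit 1000) = true := by decide +kernel
theorem chkF_3017000 : allRangeF (checkFactF cert) (nat_lit 3017000) (nat_lit 1000) = true := by decide +kernel
theorem chkF_3018000 : allRangeF (checkFactF cert) (nat_lit 3018000) (nat_lit 1000) = true := by decide +kernel
theorem chkF_3019000 : allRangeF (checkFactF cert) (nat_lit 3019000) (nat_lit 1000) = true := by decide +kernel
theorem chkF_3020000 : allRangeF (checkFactF cert) (nat_lit 3020000) (nat_lit 1000) = true := by decide +kernel
theorem chkF_3021000 : allRangeF (checkFactF cert) (nat_lit 3021000) (nat_lit 1000) = true := by decide +kernel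
theorem chkF_3022000 : allRangeF (checkFactF cert) (nat_lit 3022000) (nat_lit 1000) = true := by decide +kernel
theorem chkF_3023000 : allRangeF (checkFactF cert) (nat_lit 3023000) (nat_lit 1000) = true := by decide +kernel
theorem chkF_3024000 : allRangeF (checkFactF cert) (nat_lit 3024000) (nat_lit 1000) = true := by decide +kernel
theorem chkF_3025000 : allRangeF (checkFactF cert) (nat_lit 3025000) (nat_lit 1000) = true := by decide +kernel
theorem chkF_3026000 : allRangeF (checkFactF cert) (nat_lit 3026000) (nat_lit 1000) = true := by decide +kernel
theorem chkF_3027000 : allRangeF (checkFactF cert) (nat_lit 3027000) (nat_lit 1000) = true := by decide +kernel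
theorem chkF_3028000 : allRangeF (checkFactF cert) (nat_lit 3028000) (nat_lit 1000) = true := by decide +kernel
theorem chkF_3029000 : allRangeF (checkFactF cert) (nat_lit 3029000) (nat_lit 1000) = true := by decide +kernel
theorem chkF_3030000 : allRangeF (checkFactF cert) (nat_lit 3030000) (nat_lit 1000) = true := by decide +kernel
theorem chkF_3031000 : allRangeF (checkFactF cert) (nat_lit 3031000) (nat_lit 1000) = true := by decide +kernel
theorem chkF_3032000 : allRangeF (checkFactF cert) (nat_lit 3032000) (nat_lit 1000) = true := by decide +kernel
theorem chkF_3033000 : allRangeF (checkFactF cert) (nat_lit 3033000) (nat_lit 1000) = true := by decide +kernel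
theorem chkF_3034000 : allRangeF (checkFactF cert) (nat_lit 3034000) (nat_lit 1000) = true := by decide +kernel
theorem chkF_3035000 : allRangeF (checkFactF cert) (nat_lit 3035000) (nat_lit 1000) = true := by decide +kernel
theorem chkF_3036000 : allRangeF (checkFactF cert) (nat_lit 3036000) (nat_lit 1000) = true := by decide +kernel
theorem chkF_3037000 : allRangeF (checkFactF cert) (nat_lit 3037000) (nat_lit 1000) = true := by decide +kernel
theorem chkF_3038000 : allRangeF (checkFactF cert) (nat_lit 3038000) (nat_lit 1000) = true := by decide +kernel
theorem chkF_3039000 : allRangeF (checkFactF cert) (nat_lit 3039000) (nat_lit 1000) = true := by decide +kernel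
theorem chkF_3040000 : allRangeF (checkFactF cert) (nat_lit 3040000) (nat_lit 1000) = true := by decide +kernel
theorem chkF_3041000 : allRangeF (checkFactF cert) (nat_lit 3041000) (nat_lit 1000) = true := by decide +kernel
theorem chkF_3042000 : allRangeF (checkFactF cert) (nat_lit 3042000) (nat_lit 1000) = true := by decide +kernel
theorem chkF_3043000 : allRangeF (checkFactF cert) (nat_lit 3043000) (nat_lit 1000) = true := by decide +kernel
theorem chkF_3044000 : allRangeF (checkFactF cert) (nat_lit 3044000) (nat_lit 1000) = true := by decide +kernel
theorem chkF_3045000 : allRangeF (checkFactF cert) (nat_lit 3045000) (nat_lit 1000) = true := by decide +kernel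
theorem chkF_3046000 : allRangeF (checkFactF cert) (nat_lit 3046000) (nat_lit 1000) = true := by decide +kernel
theorem chkF_3047000 : allRangeF (checkFactF cert) (nat_lit 3047000) (nat_lit 1000) = true := by decide +kernel
theorem chkF_3048000 : allRangeF (checkFactF cert) (nat_lit 3048000) (nat_lit 1000) = true := by decide +kernel
theorem chkF_3049000 : allRangeF (checkFactF cert) (nat_lit 3049000) (nat_lit 1000) = true := by decide +kernel
theorem chkF_3050000 : allRangeF (checkFactF cert) (nat_lit 3050000) (nat_lit 1000) = true := by decide +kernel
theorem chkF_3051000 : allRangeF (checkFactF cert) (nat_lit 3051000) (nat_lit 1000) = true := by decide +kernel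
theorem chkF_3052000 : allRangeF (checkFactF cert) (nat_lit 3052000) (nat_lit 1000) = true := by decide +kernel
theorem chkF_3053000 : allRangeF (checkFactF cert) (nat_lit 3053000) (nat_lit 1000) = true := by decide +kernel
theorem chkF_3054000 : allRangeF (checkFactF cert) (nat_lit 3054000) (nat_lit 1000) = true := by decide +kernel
theorem chkF_3055000 : allRangeF (checkFactF cert) (nat_lit 3055000) (nat_lit 1000) = true := by decide +kernel
theorem chkF_3056000 : allRangeF (checkFactF cert) (nat_lit 3056000) (nat_lit 1000) = true := by decide +kernel
theorem chkF_3057000 : allRangeF (checkFactF cert) (nat_lit 3057000) (nat_lit 1000) = true := by decide +kernel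
theorem chkF_3058000 : allRangeF (checkFactF cert) (nat_lit 3058000) (nat_lit 1000) = true := by decide +kernel
theorem chkF_3059000 : allRangeF (checkFactF cert) (nat_lit 3059000) (nat_lit 1000) = true := by decide +kernel
theorem chkF_3060000 : allRangeF (checkFactF cert) (nat_lit 3060000) (nat_lit 1000) = true := by decide +kernel
theorem chkF_3061000 : allRangeF (checkFactF cert) (nat_lit 3061000) (nat_lit 1000) = true := by decide +kernel
theorem chkF_3062000 : allRangeF (checkFactF cert) (nat_lit 3062000) (nat_lit 1000) = true := by decide +kernel
theorem chkF_3063000 : allRangeF (checkFactF cert) (nat_lit 3063000) (nat_lit 1000) = true := by decide +kernel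
theorem chkF_3064000 : allRangeF (checkFactF cert) (nat_lit 3064000) (nat_lit 1000) = true := by decide +kernel
theorem chkF_3065000 : allRangeF (checkFactF cert) (nat_lit 3065000) (nat_lit 1000) = true := by decide +kernel
theorem chkF_3066000 : allRangeF (checkFactF cert) (nat_lit 3066000) (nat_lit 1000) = true := by decide +kernel
theorem chkF_3067000 : allRangeF (checkFactF cert) (nat_lit 3067000) (nat_lit 1000) = true := by decide +kernel
theorem chkF_3068000 : allRangeF (checkFactF cert) (nat_lit 3068000) (nat_lit 1000) = true := by decide +kernel

theorem factsRange_30 : ∀ i, 2970000 ≤ i → i < 3069000 → checkFact cert i = true := by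
  intro i hlo hhi
  rcases Nat.lt_or_ge i 3019000 with h1 | h1
  · skip
    rcases Nat.lt_or_ge i 2994000 with h2 | h2
    · skip
      rcases Nat.lt_or_ge i 2982000 with h3 | h3
      · skip
        rcases Nat.lt_or_ge i 2976000 with h4 | h4
        · skip
          rcases Nat.lt_or_ge i 2973000 with h5 | h5
          · skip
            rcases Nat.lt_or_ge i 2971000 with h6 | h6
            · skip
              exact allRangeF_sound _ _ (checkFactF_eq cert) 2970000 1000 chkF_2970000 i (by omega) (by omega)
            · skip
              rcases Nat.lt_or_ge i 2972000 with h7 | h7
              · skip
                exact allRangeF_sound _ _ (checkFactF_eq cert) 2971000 1000 chkF_2971000 i (by omega) (by omega)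
              · skip
                exact allRangeF_sound _ _ (checkFactF_eq cert) 2972000 1000 chkF_2972000 i (by omega) (by omega)
          · skip
            rcases Nat.lt_or_ge i 2974000 with h6 | h6
            · skip
              exact allRangeF_sound _ _ (checkFactF_eq cert) 2973000 1000 chkF_2973000 i (by omega) (by omega)
            · skip
              rcases Nat.lt_or_ge i 2975000 with h7 | h7
              · skip
                exact allRangeF_sound _ _ (checkFactF_eq cert) 2974000 1000 chkF_2974000 i (by omega) (by omega)
              · skip
                exact allRangeF_sound _ _ (checkFactF_eq cert) 2975000 1000 chkF_2975000 i (by omega) (by omega)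
        · skip
          rcases Nat.lt_or_ge i 2979000 with h5 | h5
          · skip
            rcases Nat.lt_or_ge i 2977000 with h6 | h6
            · skip
              exact allRangeF_sound _ _ (checkFactF_eq cert) 2976000 1000 chkF_2976000 i (by omega) (by omega)
            · skip
              rcases Nat.lt_or_ge i 2978000 with h7 | h7
              · skip
                exact allRangeF_sound _ _ (checkFactF_eq cert) 2977000 1000 chkF_2977000 i (by omega) (by omega)
              · skip
                exact allRangeF_sound _ _ (checkFactF_eq cert) 2978000 1000 chkF_2978000 i (by omega) (by omega)
          · skip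
            rcases Nat.lt_or_ge i 2980000 with h6 | h6
            · skip
              exact allRangeF_sound _ _ (checkFactF_eq cert) 2979000 1000 chkF_2979000 i (by omega) (by omega)
            · skip
              rcases Nat.lt_or_ge i 2981000 with h7 | h7
              · skip
                exact allRangeF_sound _ _ (checkFactF_eq cert) 2980000 1000 chkF_2980000 i (by omega) (by omega)
              · skip
                exact allRangeF_sound _ _ (checkFactF_eq cert) 2981000 1000 chkF_2981000 i (by omega) (by omega)
      · skip
        rcases Nat.lt_or_ge i 2988000 with h4 | h4
        · skip
          rcases Nat.lt_or_ge i 2985000 with h5 | h5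
          · skip
            rcases Nat.lt_or_ge i 2983000 with h6 | h6
            · skip
              exact allRangeF_sound _ _ (checkFactF_eq cert) 2982000 1000 chkF_2982000 i (by omega) (by omega)
            · skip
              rcases Nat.lt_or_ge i 2984000 with h7 | h7
              · skip
                exact allRangeF_sound _ _ (checkFactF_eq cert) 2983000 1000 chkF_2983000 i (by omega) (by omega)
              · skip
                exact allRangeF_sound _ _ (checkFactF_eq cert) 2984000 1000 chkF_2984000 i (by omega) (by omega)
          · skip
            rcases Nat.lt_or_ge i 2986000 with h6 | h6
            · skip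
              exact allRangeF_sound _ _ (checkFactF_eq cert) 2985000 1000 chkF_2985000 i (by omega) (by omega)
            · skip
              rcases Nat.lt_or_ge i 2987000 with h7 | h7
              · skip
                exact allRangeF_sound _ _ (checkFactF_eq cert) 2986000 1000 chkF_2986000 i (by omega) (by omega)
              · skip
                exact allRangeF_sound _ _ (checkFactF_eq cert) 2987000 1000 chkF_2987000 i (by omega) (by omega)
        · skip
          rcases Nat.lt_or_ge i 2991000 with h5 | h5
          · skip
            rcases Nat.lt_or_ge i 2989000 with h6 | h6
            · skip
              exact allRangeF_sound _ _ (checkFactF_eq cert) 2988000 1000 chkF_2988000 i (by omega) (by omega)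
            · skip
              rcases Nat.lt_or_ge i 2990000 with h7 | h7
              · skip
                exact allRangeF_sound _ _ (checkFactF_eq cert) 2989000 1000 chkF_2989000 i (by omega) (by omega)
              · skip
                exact allRangeF_sound _ _ (checkFactF_eq cert) 2990000 1000 chkF_2990000 i (by omega) (by omega)
          · skip
            rcases Nat.lt_or_ge i 2992000 with h6 | h6
            · skip
              exact allRangeF_sound _ _ (checkFactF_eq cert) 2991000 1000 chkF_2991000 i (by omega) (by omega)
            · skip
              rcases Nat.lt_or_ge i 2993000 with h7 | h7
              · skip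
                exact allRangeF_sound _ _ (checkFactF_eq cert) 2992000 1000 chkF_2992000 i (by omega) (by omega)
              · skip
                exact allRangeF_sound _ _ (checkFactF_eq cert) 2993000 1000 chkF_2993000 i (by omega) (by omega)
    · skip
      rcases Nat.lt_or_ge i 3006000 with h3 | h3
      · skip
        rcases Nat.lt_or_ge i 3000000 with h4 | h4
        · skip
          rcases Nat.lt_or_ge i 2997000 with h5 | h5
          · skip
            rcases Nat.lt_or_ge i 2995000 with h6 | h6
            · skip
              exact allRangeF_sound _ _ (checkFactF_eq cert) 2994000 1000 chkF_2994000 i (by omega) (by omega)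
            · skip
              rcases Nat.lt_or_ge i 2996000 with h7 | h7
              · skip
                exact allRangeF_sound _ _ (checkFactF_eq cert) 2995000 1000 chkF_2995000 i (by omega) (by omega)
              · skip
                exact allRangeF_sound _ _ (checkFactF_eq cert) 2996000 1000 chkF_2996000 i (by omega) (by omega)
          · skip
            rcases Nat.lt_or_ge i 2998000 with h6 | h6
            · skip
              exact allRangeF_sound _ _ (checkFactF_eq cert) 2997000 1000 chkF_2997000 i (by omega) (by omega)
            · skip
              rcases Nat.lt_or_ge i 2999000 with h7 | h7
              · skip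
                exact allRangeF_sound _ _ (checkFactF_eq cert) 2998000 1000 chkF_2998000 i (by omega) (by omega)
              · skip
                exact allRangeF_sound _ _ (checkFactF_eq cert) 2999000 1000 chkF_2999000 i (by omega) (by omega)
        · skip
          rcases Nat.lt_or_ge i 3003000 with h5 | h5
          · skip
            rcases Nat.lt_or_ge i 3001000 with h6 | h6
            · skip
              exact allRangeF_sound _ _ (checkFactF_eq cert) 3000000 1000 chkF_3000000 i (by omega) (by omega)
            · skip
              rcases Nat.lt_or_ge i 3002000 with h7 | h7
              · skip
                exact allRangeF_sound _ _ (checkFactF_eq cert) 3001000 1000 chkF_3001000 i (by omega) (by omega)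
              · skip
                exact allRangeF_sound _ _ (checkFactF_eq cert) 3002000 1000 chkF_3002000 i (by omega) (by omega)
          · skip
            rcases Nat.lt_or_ge i 3004000 with h6 | h6
            · skip
              exact allRangeF_sound _ _ (checkFactF_eq cert) 3003000 1000 chkF_3003000 i (by omega) (by omega)
            · skip
              rcases Nat.lt_or_ge i 3005000 with h7 | h7
              · skip
                exact allRangeF_sound _ _ (checkFactF_eq cert) 3004000 1000 chkF_3004000 i (by omega) (by omega)
              · skip
                exact allRangeF_sound _ _ (checkFactF_eq cert) 3005000 1000 chkF_3005000 i (by omega) (by omega)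
      · skip
        rcases Nat.lt_or_ge i 3012000 with h4 | h4
        · skip
          rcases Nat.lt_or_ge i 3009000 with h5 | h5
          · skip
            rcases Nat.lt_or_ge i 3007000 with h6 | h6
            · skip
              exact allRangeF_sound _ _ (checkFactF_eq cert) 3006000 1000 chkF_3006000 i (by omega) (by omega)
            · skip
              rcases Nat.lt_or_ge i 3008000 with h7 | h7
              · skip
                exact allRangeF_sound _ _ (checkFactF_eq cert) 3007000 1000 chkF_3007000 i (by omega) (by omega)
              · skip
                exact allRangeF_sound _ _ (checkFactF_eq cert) 3008000 1000 chkF_3008000 i (by omega) (by omega)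
          · skip
            rcases Nat.lt_or_ge i 3010000 with h6 | h6
            · skip
              exact allRangeF_sound _ _ (checkFactF_eq cert) 3009000 1000 chkF_3009000 i (by omega) (by omega)
            · skip
              rcases Nat.lt_or_ge i 3011000 with h7 | h7
              · skip
                exact allRangeF_sound _ _ (checkFactF_eq cert) 3010000 1000 chkF_3010000 i (by omega) (by omega)
              · skip
                exact allRangeF_sound _ _ (checkFactF_eq cert) 3011000 1000 chkF_3011000 i (by omega) (by omega)
        · skip
          rcases Nat.lt_or_ge i 3015000 with h5 | h5
          · skip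
            rcases Nat.lt_or_ge i 3013000 with h6 | h6
            · skip
              exact allRangeF_sound _ _ (checkFactF_eq cert) 3012000 1000 chkF_3012000 i (by omega) (by omega)
            · skip
              rcases Nat.lt_or_ge i 3014000 with h7 | h7
              · skip
                exact allRangeF_sound _ _ (checkFactF_eq cert) 3013000 1000 chkF_3013000 i (by omega) (by omega)
              · skip
                exact allRangeF_sound _ _ (checkFactF_eq cert) 3014000 1000 chkF_3014000 i (by omega) (by omega)
          · skip
            rcases Nat.lt_or_ge i 3017000 with h6 | h6
            · skip
              rcases Nat.lt_or_ge i 3016000 with h7 | h7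
              · skip
                exact allRangeF_sound _ _ (checkFactF_eq cert) 3015000 1000 chkF_3015000 i (by omega) (by omega)
              · skip
                exact allRangeF_sound _ _ (checkFactF_eq cert) 3016000 1000 chkF_3016000 i (by omega) (by omega)
            · skip
              rcases Nat.lt_or_ge i 3018000 with h7 | h7
              · skip
                exact allRangeF_sound _ _ (checkFactF_eq cert) 3017000 1000 chkF_3017000 i (by omega) (by omega)
              · skip
                exact allRangeF_sound _ _ (checkFactF_eq cert) 3018000 1000 chkF_3018000 i (by omega) (by omega)
  · skip
    rcases Nat.lt_or_ge i 3044000 with h2 | h2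
    · skip
      rcases Nat.lt_or_ge i 3031000 with h3 | h3
      · skip
        rcases Nat.lt_or_ge i 3025000 with h4 | h4
        · skip
          rcases Nat.lt_or_ge i 3022000 with h5 | h5
          · skip
            rcases Nat.lt_or_ge i 3020000 with h6 | h6
            · skip
              exact allRangeF_sound _ _ (checkFactF_eq cert) 3019000 1000 chkF_3019000 i (by omega) (by omega)
            · skip
              rcases Nat.lt_or_ge i 3021000 with h7 | h7
              · skip
                exact allRangeF_sound _ _ (checkFactF_eq cert) 3020000 1000 chkF_3020000 i (by omega) (by omega)
              · skip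
                exact allRangeF_sound _ _ (checkFactF_eq cert) 3021000 1000 chkF_3021000 i (by omega) (by omega)
          · skip
            rcases Nat.lt_or_ge i 3023000 with h6 | h6
            · skip
              exact allRangeF_sound _ _ (checkFactF_eq cert) 3022000 1000 chkF_3022000 i (by omega) (by omega)
            · skip
              rcases Nat.lt_or_ge i 3024000 with h7 | h7
              · skip
                exact allRangeF_sound _ _ (checkFactF_eq cert) 3023000 1000 chkF_3023000 i (by omega) (by omega)
              · skip
                exact allRangeF_sound _ _ (checkFactF_eq cert) 3024000 1000 chkF_3024000 i (by omega) (by omega)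
        · skip
          rcases Nat.lt_or_ge i 3028000 with h5 | h5
          · skip
            rcases Nat.lt_or_ge i 3026000 with h6 | h6
            · skip
              exact allRangeF_sound _ _ (checkFactF_eq cert) 3025000 1000 chkF_3025000 i (by omega) (by omega)
            · skip
              rcases Nat.lt_or_ge i 3027000 with h7 | h7
              · skip
                exact allRangeF_sound _ _ (checkFactF_eq cert) 3026000 1000 chkF_3026000 i (by omega) (by omega)
              · skip
                exact allRangeF_sound _ _ (checkFactF_eq cert) 3027000 1000 chkF_3027000 i (by omega) (by omega)
          · skip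
            rcases Nat.lt_or_ge i 3029000 with h6 | h6
            · skip
              exact allRangeF_sound _ _ (checkFactF_eq cert) 3028000 1000 chkF_3028000 i (by omega) (by omega)
            · skip
              rcases Nat.lt_or_ge i 3030000 with h7 | h7
              · skip
                exact allRangeF_sound _ _ (checkFactF_eq cert) 3029000 1000 chkF_3029000 i (by omega) (by omega)
              · skip
                exact allRangeF_sound _ _ (checkFactF_eq cert) 3030000 1000 chkF_3030000 i (by omega) (by omega)
      · skip
        rcases Nat.lt_or_ge i 3037000 with h4 | h4
        · skip
          rcases Nat.lt_or_ge i 3034000 with h5 | h5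
          · skip
            rcases Nat.lt_or_ge i 3032000 with h6 | h6
            · skip
              exact allRangeF_sound _ _ (checkFactF_eq cert) 3031000 1000 chkF_3031000 i (by omega) (by omega)
            · skip
              rcases Nat.lt_or_ge i 3033000 with h7 | h7
              · skip
                exact allRangeF_sound _ _ (checkFactF_eq cert) 3032000 1000 chkF_3032000 i (by omega) (by omega)
              · skip
                exact allRangeF_sound _ _ (checkFactF_eq cert) 3033000 1000 chkF_3033000 i (by omega) (by omega)
          · skip
            rcases Nat.lt_or_ge i 3035000 with h6 | h6
            · skip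
              exact allRangeF_sound _ _ (checkFactF_eq cert) 3034000 1000 chkF_3034000 i (by omega) (by omega)
            · skip
              rcases Nat.lt_or_ge i 3036000 with h7 | h7
              · skip
                exact allRangeF_sound _ _ (checkFactF_eq cert) 3035000 1000 chkF_3035000 i (by omega) (by omega)
              · skip
                exact allRangeF_sound _ _ (checkFactF_eq cert) 3036000 1000 chkF_3036000 i (by omega) (by omega)
        · skip
          rcases Nat.lt_or_ge i 3040000 with h5 | h5
          · skip
            rcases Nat.lt_or_ge i 3038000 with h6 | h6
            · skip
              exact allRangeF_sound _ _ (checkFactF_eq cert) 3037000 1000 chkF_3037000 i (by omega) (by omega)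
            · skip
              rcases Nat.lt_or_ge i 3039000 with h7 | h7
              · skip
                exact allRangeF_sound _ _ (checkFactF_eq cert) 3038000 1000 chkF_3038000 i (by omega) (by omega)
              · skip
                exact allRangeF_sound _ _ (checkFactF_eq cert) 3039000 1000 chkF_3039000 i (by omega) (by omega)
          · skip
            rcases Nat.lt_or_ge i 3042000 with h6 | h6
            · skip
              rcases Nat.lt_or_ge i 3041000 with h7 | h7
              · skip
                exact allRangeF_sound _ _ (checkFactF_eq cert) 3040000 1000 chkF_3040000 i (by omega) (by omega)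
              · skip
                exact allRangeF_sound _ _ (checkFactF_eq cert) 3041000 1000 chkF_3041000 i (by omega) (by omega)
            · skip
              rcases Nat.lt_or_ge i 3043000 with h7 | h7
              · skip
                exact allRangeF_sound _ _ (checkFactF_eq cert) 3042000 1000 chkF_3042000 i (by omega) (by omega)
              · skip
                exact allRangeF_sound _ _ (checkFactF_eq cert) 3043000 1000 chkF_3043000 i (by omega) (by omega)
    · skip
      rcases Nat.lt_or_ge i 3056000 with h3 | h3
      · skip
        rcases Nat.lt_or_ge i 3050000 with h4 | h4
        · skip
          rcases Nat.lt_or_ge i 3047000 with h5 | h5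
          · skip
            rcases Nat.lt_or_ge i 3045000 with h6 | h6
            · skip
              exact allRangeF_sound _ _ (checkFactF_eq cert) 3044000 1000 chkF_3044000 i (by omega) (by omega)
            · skip
              rcases Nat.lt_or_ge i 3046000 with h7 | h7
              · skip
                exact allRangeF_sound _ _ (checkFactF_eq cert) 3045000 1000 chkF_3045000 i (by omega) (by omega)
              · skip
                exact allRangeF_sound _ _ (checkFactF_eq cert) 3046000 1000 chkF_3046000 i (by omega) (by omega)
          · skip
            rcases Nat.lt_or_ge i 3048000 with h6 | h6
            · skip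
              exact allRangeF_sound _ _ (checkFactF_eq cert) 3047000 1000 chkF_3047000 i (by omega) (by omega)
            · skip
              rcases Nat.lt_or_ge i 3049000 with h7 | h7
              · skip
                exact allRangeF_sound _ _ (checkFactF_eq cert) 3048000 1000 chkF_3048000 i (by omega) (by omega)
              · skip
                exact allRangeF_sound _ _ (checkFactF_eq cert) 3049000 1000 chkF_3049000 i (by omega) (by omega)
        · skip
          rcases Nat.lt_or_ge i 3053000 with h5 | h5
          · skip
            rcases Nat.lt_or_ge i 3051000 with h6 | h6
            · skip
              exact allRangeF_sound _ _ (checkFactF_eq cert) 3050000 1000 chkF_3050000 i (by omega) (by omega)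
            · skip
              rcases Nat.lt_or_ge i 3052000 with h7 | h7
              · skip
                exact allRangeF_sound _ _ (checkFactF_eq cert) 3051000 1000 chkF_3051000 i (by omega) (by omega)
              · skip
                exact allRangeF_sound _ _ (checkFactF_eq cert) 3052000 1000 chkF_3052000 i (by omega) (by omega)
          · skip
            rcases Nat.lt_or_ge i 3054000 with h6 | h6
            · skip
              exact allRangeF_sound _ _ (checkFactF_eq cert) 3053000 1000 chkF_3053000 i (by omega) (by omega)
            · skip
              rcases Nat.lt_or_ge i 3055000 with h7 | h7
              · skip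
                exact allRangeF_sound _ _ (checkFactF_eq cert) 3054000 1000 chkF_3054000 i (by omega) (by omega)
              · skip
                exact allRangeF_sound _ _ (checkFactF_eq cert) 3055000 1000 chkF_3055000 i (by omega) (by omega)
      · skip
        rcases Nat.lt_or_ge i 3062000 with h4 | h4
        · skip
          rcases Nat.lt_or_ge i 3059000 with h5 | h5
          · skip
            rcases Nat.lt_or_ge i 3057000 with h6 | h6
            · skip
              exact allRangeF_sound _ _ (checkFactF_eq cert) 3056000 1000 chkF_3056000 i (by omega) (by omega)
            · skip
              rcases Nat.lt_or_ge i 3058000 with h7 | h7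
              · skip
                exact allRangeF_sound _ _ (checkFactF_eq cert) 3057000 1000 chkF_3057000 i (by omega) (by omega)
              · skip
                exact allRangeF_sound _ _ (checkFactF_eq cert) 3058000 1000 chkF_3058000 i (by omega) (by omega)
          · skip
            rcases Nat.lt_or_ge i 3060000 with h6 | h6
            · skip
              exact allRangeF_sound _ _ (checkFactF_eq cert) 3059000 1000 chkF_3059000 i (by omega) (by omega)
            · skip
              rcases Nat.lt_or_ge i 3061000 with h7 | h7
              · skip
                exact allRangeF_sound _ _ (checkFactF_eq cert) 3060000 1000 chkF_3060000 i (by omega) (by omega)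
              · skip
                exact allRangeF_sound _ _ (checkFactF_eq cert) 3061000 1000 chkF_3061000 i (by omega) (by omega)
        · skip
          rcases Nat.lt_or_ge i 3065000 with h5 | h5
          · skip
            rcases Nat.lt_or_ge i 3063000 with h6 | h6
            · skip
              exact allRangeF_sound _ _ (checkFactF_eq cert) 3062000 1000 chkF_3062000 i (by omega) (by omega)
            · skip
              rcases Nat.lt_or_ge i 3064000 with h7 | h7
              · skip
                exact allRangeF_sound _ _ (checkFactF_eq cert) 3063000 1000 chkF_3063000 i (by omega) (by omega)
              · skip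
                exact allRangeF_sound _ _ (checkFactF_eq cert) 3064000 1000 chkF_3064000 i (by omega) (by omega)
          · skip
            rcases Nat.lt_or_ge i 3067000 with h6 | h6
            · skip
              rcases Nat.lt_or_ge i 3066000 with h7 | h7
              · skip
                exact allRangeF_sound _ _ (checkFactF_eq cert) 3065000 1000 chkF_3065000 i (by omega) (by omega)
              · skip
                exact allRangeF_sound _ _ (checkFactF_eq cert) 3066000 1000 chkF_3066000 i (by omega) (by omega)
            · skip
              rcases Nat.lt_or_ge i 3068000 with h7 | h7
              · skip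
                exact allRangeF_sound _ _ (checkFactF_eq cert) 3067000 1000 chkF_3067000 i (by omega) (by omega)
              · skip
                exact allRangeF_sound _ _ (checkFactF_eq cert) 3068000 1000 chkF_3068000 i (by omega) (by omega)

end Cfsg.Agent.Lib.Helper28.Fi24Data
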