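import Cfsg.Agent.Lib.Helper28.Fi24Data
import Cfsg.Agent.Lib.Helper28.TCFastFB

set_option autoImplicit false
set_option maxRecDepth 1000000
set_option linter.all false
set_option Elab.async false

namespace Cfsg.Agent.Lib.Helper28.Fi24Data

open Cfsg.Agent.Lib.Helper28B

theorem chkF_3069000 : allRangeF (checkFactF cert) (nat_lit 3069000) (nat_lit 1000) = true := by decide +kernel
theorem chkF_3070000 : allRangeF (checkFactF cert) (nat_lit 3070000) (nat_lit 1000) = true := by decide +kernel
theorem chkF_3071000 : allRangeF (checkFactF cert) (nat_lit 3071000) (nat_lit 1000) = true := by decide +kernel
theorem chkF_3072000 : allRangeF (checkFactF cert) (nat_lit 3072000) (nat_lit 1000) = true := by decide +kernel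
theorem chkF_3073000 : allRangeF (checkFactF cert) (nat_lit 3073000) (nat_lit 1000) = true := by decide +kernel
theorem chkF_3074000 : allRangeF (checkFactF cert) (nat_lit 3074000) (nat_lit 1000) = true := by decide +kernel
theorem chkF_3075000 : allRangeF (checkFactF cert) (nat_lit 3075000) (nat_lit 1000) = true := by decide +kernel
theorem chkF_3076000 : allRangeF (checkFactF cert) (nat_lit 3076000) (nat_lit 1000) = true := by decide +kernel
theorem chkF_3077000 : allRangeF (checkFactF cert) (nat_lit 3077000) (nat_lit 1000) = true := by decide +kernel
theorem chkF_3078000 : allRangeF (checkFactF cert) (nat_lit 3078000) (nat_lit 1000) = true := by decide +kernel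
theorem chkF_3079000 : allRangeF (checkFactF cert) (nat_lit 3079000) (nat_lit 1000) = true := by decide +kernel
theorem chkF_3080000 : allRangeF (checkFactF cert) (nat_lit 3080000) (nat_lit 1000) = true := by decide +kernel
theorem chkF_3081000 : allRangeF (checkFactF cert) (nat_lit 3081000) (nat_lit 1000) = true := by decide +kernel
theorem chkF_3082000 : allRangeF (checkFactF cert) (nat_lit 3082000) (nat_lit 1000) = true := by decide +kernel
theorem chkF_3083000 : allRangeF (checkFactF cert) (nat_lit 3083000) (nat_lit 1000) = true := by decide +kernel
theorem chkF_3084000 : allRangeF (checkFactF cert) (nat_lit 3084000) (nat_lit 1000) = true := by decide +kernel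
theorem chkF_3085000 : allRangeF (checkFactF cert) (nat_lit 3085000) (nat_lit 1000) = true := by decide +kernel
theorem chkF_3086000 : allRangeF (checkFactF cert) (nat_lit 3086000) (nat_lit 1000) = true := by decide +kernel
theorem chkF_3087000 : allRangeF (checkFactF cert) (nat_lit 3087000) (nat_lit 1000) = true := by decide +kernel
theorem chkF_3088000 : allRangeF (checkFactF cert) (nat_lit 3088000) (nat_lit 1000) = true := by decide +kernel
theorem chkF_3089000 : allRangeF (checkFactF cert) (nat_lit 3089000) (nat_lit 1000) = true := by decide +kernel
theorem chkF_3090000 : allRangeF (checkFactF cert) (nat_lit 3090000) (nat_lit 1000) = true := by decide +kernel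
theorem chkF_3091000 : allRangeF (checkFactF cert) (nat_lit 3091000) (nat_lit 1000) = true := by decide +kernel
theorem chkF_3092000 : allRangeF (checkFactF cert) (nat_lit 3092000) (nat_lit 1000) = true := by decide +kernel
theorem chkF_3093000 : allRangeF (checkFactF cert) (nat_lit 3093000) (nat_lit 1000) = true := by decide +kernel
theorem chkF_3094000 : allRangeF (checkFactF cert) (nat_lit 3094000) (nat_lit 1000) = true := by decide +kernel
theorem chkF_3095000 : allRangeF (checkFactF cert) (nat_lit 3095000) (nat_lit 1000) = true := by decide +kernel
theorem chkF_3096000 : allRangeF (checkFactF cert) (nat_lit 3096000) (nat_lit 1000) = true := by decide +kernel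
theorem chkF_3097000 : allRangeF (checkFactF cert) (nat_lit 3097000) (nat_lit 1000) = true := by decide +kernel
theorem chkF_3098000 : allRangeF (checkFactF cert) (nat_lit 3098000) (nat_lit 1000) = true := by decide +kernel
theorem chkF_3099000 : allRangeF (checkFactF cert) (nat_lit 3099000) (nat_lit 1000) = true := by decide +kernel
theorem chkF_3100000 : allRangeF (checkFactF cert) (nat_lit 3100000) (nat_lit 1000) = true := by decide +kernel
theorem chkF_3101000 : allRangeF (checkFactF cert) (nat_lit 3101000) (nat_lit 1000) = true := by decide +kernel
theorem chkF_3102000 : allRangeF (checkFactF cert) (nat_lit 3102000) (nat_lit 1000) = true := by decide +kernel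
theorem chkF_3103000 : allRangeF (checkFactF cert) (nat_lit 3103000) (nat_lit 1000) = true := by decide +kernel
theorem chkF_3104000 : allRangeF (checkFactF cert) (nat_lit 3104000) (nat_lit 1000) = true := by decide +kernel
theorem chkF_3105000 : allRangeF (checkFactF cert) (nat_lit 3105000) (nat_lit 1000) = true := by decide +kernel
theorem chkF_3106000 : allRangeF (checkFactF cert) (nat_lit 3106000) (nat_lit 1000) = true := by decide +kernel
theorem chkF_3107000 : allRangeF (checkFactF cert) (nat_lit 3107000) (nat_lit 1000) = true := by decide +kernel
theorem chkF_3108000 : allRangeF (checkFactF cert) (nat_lit 3108000) (nat_lit 1000) = true := by decide +kernel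
theorem chkF_3109000 : allRangeF (checkFactF cert) (nat_lit 3109000) (nat_lit 1000) = true := by decide +kernel
theorem chkF_3110000 : allRangeF (checkFactF cert) (nat_lit 3110000) (nat_lit 1000) = true := by decide +kernel
theorem chkF_3111000 : allRangeF (checkFactF cert) (nat_lit 3111000) (nat_lit 1000) = true := by decide +kernel
theorem chkF_3112000 : allRangeF (checkFactF cert) (nat_lit 3112000) (nat_lit 1000) = true := by decide +kernel
theorem chkF_3113000 : allRangeF (checkFactF cert) (nat_lit 3113000) (nat_lit 1000) = true := by decide +kernel
theorem chkF_3114000 : allRangeF (checkFactF cert) (nat_lit 3114000) (nat_lit 1000) = true := by decide +kernel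
theorem chkF_3115000 : allRangeF (checkFactF cert) (nat_lit 3115000) (nat_lit 1000) = true := by decide +kernel
theorem chkF_3116000 : allRangeF (checkFactF cert) (nat_lit 3116000) (nat_lit 1000) = true := by decide +kernel
theorem chkF_3117000 : allRangeF (checkFactF cert) (nat_lit 3117000) (nat_lit 1000) = true := by decide +kernel
theorem chkF_3118000 : allRangeF (checkFactF cert) (nat_lit 3118000) (nat_lit 1000) = true := by decide +kernel
theorem chkF_3119000 : allRangeF (checkFactF cert) (nat_lit 3119000) (nat_lit 1000) = true := by decide +kernel
theorem chkF_3120000 : allRangeF (checkFactF cert) (nat_lit 3120000) (nat_lit 1000) = true := by decide +kernel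
theorem chkF_3121000 : allRangeF (checkFactF cert) (nat_lit 3121000) (nat_lit 1000) = true := by decide +kernel
theorem chkF_3122000 : allRangeF (checkFactF cert) (nat_lit 3122000) (nat_lit 1000) = true := by decide +kernel
theorem chkF_3123000 : allRangeF (checkFactF cert) (nat_lit 3123000) (nat_lit 1000) = true := by decide +kernel
theorem chkF_3124000 : allRangeF (checkFactF cert) (nat_lit 3124000) (nat_lit 1000) = true := by decide +kernel
theorem chkF_3125000 : allRangeF (checkFactF cert) (nat_lit 3125000) (nat_lit 1000) = true := by decide +kernel
theorem chkF_3126000 : allRangeF (checkFactF cert) (nat_lit 3126000) (nat_lit 1000) = true := by decide +kernel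
theorem chkF_3127000 : allRangeF (checkFactF cert) (nat_lit 3127000) (nat_lit 1000) = true := by decide +kernel
theorem chkF_3128000 : allRangeF (checkFactF cert) (nat_lit 3128000) (nat_lit 1000) = true := by decide +kernel
theorem chkF_3129000 : allRangeF (checkFactF cert) (nat_lit 3129000) (nat_lit 1000) = true := by decide +kernel
theorem chkF_3130000 : allRangeF (checkFactF cert) (nat_lit 3130000) (nat_lit 1000) = true := by decide +kernel
theorem chkF_3131000 : allRangeF (checkFactF cert) (nat_lit 3131000) (nat_lit 1000) = true := by decide +kernel
theorem chkF_3132000 : allRangeF (checkFactF cert) (nat_lit 3132000) (nat_lit 1000) = true := by decide +kernel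
theorem chkF_3133000 : allRangeF (checkFactF cert) (nat_lit 3133000) (nat_lit 1000) = true := by decide +kernel
theorem chkF_3134000 : allRangeF (checkFactF cert) (nat_lit 3134000) (nat_lit 1000) = true := by decide +kernel
theorem chkF_3135000 : allRangeF (checkFactF cert) (nat_lit 3135000) (nat_lit 1000) = true := by decide +kernel
theorem chkF_3136000 : allRangeF (checkFactF cert) (nat_lit 3136000) (nat_lit 1000) = true := by decide +kernel
theorem chkF_3137000 : allRangeF (checkFactF cert) (nat_lit 3137000) (nat_lit 1000) = true := by decide +kernel
theorem chkF_3138000 : allRangeF (checkFactF cert) (nat_lit 3138000) (nat_lit 1000) = true := by decide +kernel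
theorem chkF_3139000 : allRangeF (checkFactF cert) (nat_lit 3139000) (nat_lit 1000) = true := by decide +kernel
theorem chkF_3140000 : allRangeF (checkFactF cert) (nat_lit 3140000) (nat_lit 1000) = true := by decide +kernel
theorem chkF_3141000 : allRangeF (checkFactF cert) (nat_lit 3141000) (nat_lit 1000) = true := by decide +kernel
theorem chkF_3142000 : allRangeF (checkFactF cert) (nat_lit 3142000) (nat_lit 1000) = true := by decide +kernel
theorem chkF_3143000 : allRangeF (checkFactF cert) (nat_lit 3143000) (nat_lit 1000) = true := by decide +kernel
theorem chkF_3144000 : allRangeF (checkFactF cert) (nat_lit 3144000) (nat_lit 1000) = true := by decide +kernel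
theorem chkF_3145000 : allRangeF (checkFactF cert) (nat_lit 3145000) (nat_lit 1000) = true := by decide +kernel
theorem chkF_3146000 : allRangeF (checkFactF cert) (nat_lit 3146000) (nat_lit 1000) = true := by decide +kernel
theorem chkF_3147000 : allRangeF (checkFactF cert) (nat_lit 3147000) (nat_lit 1000) = true := by decide +kernel
theorem chkF_3148000 : allRangeF (checkFactF cert) (nat_lit 3148000) (nat_lit 1000) = true := by decide +kernel
theorem chkF_3149000 : allRangeF (checkFactF cert) (nat_lit 3149000) (nat_lit 1000) = true := by decide +kernel
theorem chkF_3150000 : allRangeF (checkFactF cert) (nat_lit 3150000) (nat_lit 1000) = true := by decide +kernel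
theorem chkF_3151000 : allRangeF (checkFactF cert) (nat_lit 3151000) (nat_lit 1000) = true := by decide +kernel
theorem chkF_3152000 : allRangeF (checkFactF cert) (nat_lit 3152000) (nat_lit 1000) = true := by decide +kernel
theorem chkF_3153000 : allRangeF (checkFactF cert) (nat_lit 3153000) (nat_lit 1000) = true := by decide +kernel
theorem chkF_3154000 : allRangeF (checkFactF cert) (nat_lit 3154000) (nat_lit 1000) = true := by decide +kernel
theorem chkF_3155000 : allRangeF (checkFactF cert) (nat_lit 3155000) (nat_lit 1000) = true := by decide +kernel
theorem chkF_3156000 : allRangeF (checkFactF cert) (nat_lit 3156000) (nat_lit 1000) = true := by decide +kernel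
theorem chkF_3157000 : allRangeF (checkFactF cert) (nat_lit 3157000) (nat_lit 1000) = true := by decide +kernel
theorem chkF_3158000 : allRangeF (checkFactF cert) (nat_lit 3158000) (nat_lit 1000) = true := by decide +kernel
theorem chkF_3159000 : allRangeF (checkFactF cert) (nat_lit 3159000) (nat_lit 1000) = true := by decide +kernel
theorem chkF_3160000 : allRangeF (checkFactF cert) (nat_lit 3160000) (nat_lit 1000) = true := by decide +kernel
theorem chkF_3161000 : allRangeF (checkFactF cert) (nat_lit 3161000) (nat_lit 1000) = true := by decide +kernel
theorem chkF_3162000 : allRangeF (checkFactF cert) (nat_lit 3162000) (nat_lit 1000) = true := by decide +kernel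
theorem chkF_3163000 : allRangeF (checkFactF cert) (nat_lit 3163000) (nat_lit 1000) = true := by decide +kernel
theorem chkF_3164000 : allRangeF (checkFactF cert) (nat_lit 3164000) (nat_lit 1000) = true := by decide +kernel
theorem chkF_3165000 : allRangeF (checkFactF cert) (nat_lit 3165000) (nat_lit 1000) = true := by decide +kernel
theorem chkF_3166000 : allRangeF (checkFactF cert) (nat_lit 3166000) (nat_lit 1000) = true := by decide +kernel
theorem chkF_3167000 : allRangeF (checkFactF cert) (nat_lit 3167000) (nat_lit 1000) = true := by decide +kernel

theorem factsRange_31 : ∀ i, 3069000 ≤ i → i < 3168000 → checkFact cert i = true := by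
  intro i hlo hhi
  rcases Nat.lt_or_ge i 3118000 with h1 | h1
  · skip
    rcases Nat.lt_or_ge i 3093000 with h2 | h2
    · skip
      rcases Nat.lt_or_ge i 3081000 with h3 | h3
      · skip
        rcases Nat.lt_or_ge i 3075000 with h4 | h4
        · skip
          rcases Nat.lt_or_ge i 3072000 with h5 | h5
          · skip
            rcases Nat.lt_or_ge i 3070000 with h6 | h6
            · skip
              exact allRangeF_sound _ _ (checkFactF_eq cert) 3069000 1000 chkF_3069000 i (by omega) (by omega)
            · skip
              rcases Nat.lt_or_ge i 3071000 with h7 | h7
              · skip
                exact allRangeF_sound _ _ (checkFactF_eq cert) 3070000 1000 chkF_3070000 i (by omega) (by omega)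
              · skip
                exact allRangeF_sound _ _ (checkFactF_eq cert) 3071000 1000 chkF_3071000 i (by omega) (by omega)
          · skip
            rcases Nat.lt_or_ge i 3073000 with h6 | h6
            · skip
              exact allRangeF_sound _ _ (checkFactF_eq cert) 3072000 1000 chkF_3072000 i (by omega) (by omega)
            · skip
              rcases Nat.lt_or_ge i 3074000 with h7 | h7
              · skip
                exact allRangeF_sound _ _ (checkFactF_eq cert) 3073000 1000 chkF_3073000 i (by omega) (by omega)
              · skip
                exact allRangeF_sound _ _ (checkFactF_eq cert) 3074000 1000 chkF_3074000 i (by omega) (by omega)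
        · skip
          rcases Nat.lt_or_ge i 3078000 with h5 | h5
          · skip
            rcases Nat.lt_or_ge i 3076000 with h6 | h6
            · skip
              exact allRangeF_sound _ _ (checkFactF_eq cert) 3075000 1000 chkF_3075000 i (by omega) (by omega)
            · skip
              rcases Nat.lt_or_ge i 3077000 with h7 | h7
              · skip
                exact allRangeF_sound _ _ (checkFactF_eq cert) 3076000 1000 chkF_3076000 i (by omega) (by omega)
              · skip
                exact allRangeF_sound _ _ (checkFactF_eq cert) 3077000 1000 chkF_3077000 i (by omega) (by omega)
          · skip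
            rcases Nat.lt_or_ge i 3079000 with h6 | h6
            · skip
              exact allRangeF_sound _ _ (checkFactF_eq cert) 3078000 1000 chkF_3078000 i (by omega) (by omega)
            · skip
              rcases Nat.lt_or_ge i 3080000 with h7 | h7
              · skip
                exact allRangeF_sound _ _ (checkFactF_eq cert) 3079000 1000 chkF_3079000 i (by omega) (by omega)
              · skip
                exact allRangeF_sound _ _ (checkFactF_eq cert) 3080000 1000 chkF_3080000 i (by omega) (by omega)
      · skip
        rcases Nat.lt_or_ge i 3087000 with h4 | h4
        · skip
          rcases Nat.lt_or_ge i 3084000 with h5 | h5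
          · skip
            rcases Nat.lt_or_ge i 3082000 with h6 | h6
            · skip
              exact allRangeF_sound _ _ (checkFactF_eq cert) 3081000 1000 chkF_3081000 i (by omega) (by omega)
            · skip
              rcases Nat.lt_or_ge i 3083000 with h7 | h7
              · skip
                exact allRangeF_sound _ _ (checkFactF_eq cert) 3082000 1000 chkF_3082000 i (by omega) (by omega)
              · skip
                exact allRangeF_sound _ _ (checkFactF_eq cert) 3083000 1000 chkF_3083000 i (by omega) (by omega)
          · skip
            rcases Nat.lt_or_ge i 3085000 with h6 | h6
            · skip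
              exact allRangeF_sound _ _ (checkFactF_eq cert) 3084000 1000 chkF_3084000 i (by omega) (by omega)
            · skip
              rcases Nat.lt_or_ge i 3086000 with h7 | h7
              · skip
                exact allRangeF_sound _ _ (checkFactF_eq cert) 3085000 1000 chkF_3085000 i (by omega) (by omega)
              · skip
                exact allRangeF_sound _ _ (checkFactF_eq cert) 3086000 1000 chkF_3086000 i (by omega) (by omega)
        · skip
          rcases Nat.lt_or_ge i 3090000 with h5 | h5
          · skip
            rcases Nat.lt_or_ge i 3088000 with h6 | h6
            · skip
              exact allRangeF_sound _ _ (checkFactF_eq cert) 3087000 1000 chkF_3087000 i (by omega) (by omega)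
            · skip
              rcases Nat.lt_or_ge i 3089000 with h7 | h7
              · skip
                exact allRangeF_sound _ _ (checkFactF_eq cert) 3088000 1000 chkF_3088000 i (by omega) (by omega)
              · skip
                exact allRangeF_sound _ _ (checkFactF_eq cert) 3089000 1000 chkF_3089000 i (by omega) (by omega)
          · skip
            rcases Nat.lt_or_ge i 3091000 with h6 | h6
            · skip
              exact allRangeF_sound _ _ (checkFactF_eq cert) 3090000 1000 chkF_3090000 i (by omega) (by omega)
            · skip
              rcases Nat.lt_or_ge i 3092000 with h7 | h7
              · skip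
                exact allRangeF_sound _ _ (checkFactF_eq cert) 3091000 1000 chkF_3091000 i (by omega) (by omega)
              · skip
                exact allRangeF_sound _ _ (checkFactF_eq cert) 3092000 1000 chkF_3092000 i (by omega) (by omega)
    · skip
      rcases Nat.lt_or_ge i 3105000 with h3 | h3
      · skip
        rcases Nat.lt_or_ge i 3099000 with h4 | h4
        · skip
          rcases Nat.lt_or_ge i 3096000 with h5 | h5
          · skip
            rcases Nat.lt_or_ge i 3094000 with h6 | h6
            · skip
              exact allRangeF_sound _ _ (checkFactF_eq cert) 3093000 1000 chkF_3093000 i (by omega) (by omega)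
            · skip
              rcases Nat.lt_or_ge i 3095000 with h7 | h7
              · skip
                exact allRangeF_sound _ _ (checkFactF_eq cert) 3094000 1000 chkF_3094000 i (by omega) (by omega)
              · skip
                exact allRangeF_sound _ _ (checkFactF_eq cert) 3095000 1000 chkF_3095000 i (by omega) (by omega)
          · skip
            rcases Nat.lt_or_ge i 3097000 with h6 | h6
            · skip
              exact allRangeF_sound _ _ (checkFactF_eq cert) 3096000 1000 chkF_3096000 i (by omega) (by omega)
            · skip
              rcases Nat.lt_or_ge i 3098000 with h7 | h7
              · skip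
                exact allRangeF_sound _ _ (checkFactF_eq cert) 3097000 1000 chkF_3097000 i (by omega) (by omega)
              · skip
                exact allRangeF_sound _ _ (checkFactF_eq cert) 3098000 1000 chkF_3098000 i (by omega) (by omega)
        · skip
          rcases Nat.lt_or_ge i 3102000 with h5 | h5
          · skip
            rcases Nat.lt_or_ge i 3100000 with h6 | h6
            · skip
              exact allRangeF_sound _ _ (checkFactF_eq cert) 3099000 1000 chkF_3099000 i (by omega) (by omega)
            · skip
              rcases Nat.lt_or_ge i 3101000 with h7 | h7
              · skip
                exact allRangeF_sound _ _ (checkFactF_eq cert) 3100000 1000 chkF_3100000 i (by omega) (by omega)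
              · skip
                exact allRangeF_sound _ _ (checkFactF_eq cert) 3101000 1000 chkF_3101000 i (by omega) (by omega)
          · skip
            rcases Nat.lt_or_ge i 3103000 with h6 | h6
            · skip
              exact allRangeF_sound _ _ (checkFactF_eq cert) 3102000 1000 chkF_3102000 i (by omega) (by omega)
            · skip
              rcases Nat.lt_or_ge i 3104000 with h7 | h7
              · skip
                exact allRangeF_sound _ _ (checkFactF_eq cert) 3103000 1000 chkF_3103000 i (by omega) (by omega)
              · skip
                exact allRangeF_sound _ _ (checkFactF_eq cert) 3104000 1000 chkF_3104000 i (by omega) (by omega)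
      · skip
        rcases Nat.lt_or_ge i 3111000 with h4 | h4
        · skip
          rcases Nat.lt_or_ge i 3108000 with h5 | h5
          · skip
            rcases Nat.lt_or_ge i 3106000 with h6 | h6
            · skip
              exact allRangeF_sound _ _ (checkFactF_eq cert) 3105000 1000 chkF_3105000 i (by omega) (by omega)
            · skip
              rcases Nat.lt_or_ge i 3107000 with h7 | h7
              · skip
                exact allRangeF_sound _ _ (checkFactF_eq cert) 3106000 1000 chkF_3106000 i (by omega) (by omega)
              · skip
                exact allRangeF_sound _ _ (checkFactF_eq cert) 3107000 1000 chkF_3107000 i (by omega) (by omega)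
          · skip
            rcases Nat.lt_or_ge i 3109000 with h6 | h6
            · skip
              exact allRangeF_sound _ _ (checkFactF_eq cert) 3108000 1000 chkF_3108000 i (by omega) (by omega)
            · skip
              rcases Nat.lt_or_ge i 3110000 with h7 | h7
              · skip
                exact allRangeF_sound _ _ (checkFactF_eq cert) 3109000 1000 chkF_3109000 i (by omega) (by omega)
              · skip
                exact allRangeF_sound _ _ (checkFactF_eq cert) 3110000 1000 chkF_3110000 i (by omega) (by omega)
        · skip
          rcases Nat.lt_or_ge i 3114000 with h5 | h5
          · skip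
            rcases Nat.lt_or_ge i 3112000 with h6 | h6
            · skip
              exact allRangeF_sound _ _ (checkFactF_eq cert) 3111000 1000 chkF_3111000 i (by omega) (by omega)
            · skip
              rcases Nat.lt_or_ge i 3113000 with h7 | h7
              · skip
                exact allRangeF_sound _ _ (checkFactF_eq cert) 3112000 1000 chkF_3112000 i (by omega) (by omega)
              · skip
                exact allRangeF_sound _ _ (checkFactF_eq cert) 3113000 1000 chkF_3113000 i (by omega) (by omega)
          · skip
            rcases Nat.lt_or_ge i 3116000 with h6 | h6
            · skip
              rcases Nat.lt_or_ge i 3115000 with h7 | h7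
              · skip
                exact allRangeF_sound _ _ (checkFactF_eq cert) 3114000 1000 chkF_3114000 i (by omega) (by omega)
              · skip
                exact allRangeF_sound _ _ (checkFactF_eq cert) 3115000 1000 chkF_3115000 i (by omega) (by omega)
            · skip
              rcases Nat.lt_or_ge i 3117000 with h7 | h7
              · skip
                exact allRangeF_sound _ _ (checkFactF_eq cert) 3116000 1000 chkF_3116000 i (by omega) (by omega)
              · skip
                exact allRangeF_sound _ _ (checkFactF_eq cert) 3117000 1000 chkF_3117000 i (by omega) (by omega)
  · skip
    rcases Nat.lt_or_ge i 3143000 with h2 | h2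
    · skip
      rcases Nat.lt_or_ge i 3130000 with h3 | h3
      · skip
        rcases Nat.lt_or_ge i 3124000 with h4 | h4
        · skip
          rcases Nat.lt_or_ge i 3121000 with h5 | h5
          · skip
            rcases Nat.lt_or_ge i 3119000 with h6 | h6
            · skip
              exact allRangeF_sound _ _ (checkFactF_eq cert) 3118000 1000 chkF_3118000 i (by omega) (by omega)
            · skip
              rcases Nat.lt_or_ge i 3120000 with h7 | h7
              · skip
                exact allRangeF_sound _ _ (checkFactF_eq cert) 3119000 1000 chkF_3119000 i (by omega) (by omega)
              · skip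
                exact allRangeF_sound _ _ (checkFactF_eq cert) 3120000 1000 chkF_3120000 i (by omega) (by omega)
          · skip
            rcases Nat.lt_or_ge i 3122000 with h6 | h6
            · skip
              exact allRangeF_sound _ _ (checkFactF_eq cert) 3121000 1000 chkF_3121000 i (by omega) (by omega)
            · skip
              rcases Nat.lt_or_ge i 3123000 with h7 | h7
              · skip
                exact allRangeF_sound _ _ (checkFactF_eq cert) 3122000 1000 chkF_3122000 i (by omega) (by omega)
              · skip
                exact allRangeF_sound _ _ (checkFactF_eq cert) 3123000 1000 chkF_3123000 i (by omega) (by omega)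
        · skip
          rcases Nat.lt_or_ge i 3127000 with h5 | h5
          · skip
            rcases Nat.lt_or_ge i 3125000 with h6 | h6
            · skip
              exact allRangeF_sound _ _ (checkFactF_eq cert) 3124000 1000 chkF_3124000 i (by omega) (by omega)
            · skip
              rcases Nat.lt_or_ge i 3126000 with h7 | h7
              · skip
                exact allRangeF_sound _ _ (checkFactF_eq cert) 3125000 1000 chkF_3125000 i (by omega) (by omega)
              · skip
                exact allRangeF_sound _ _ (checkFactF_eq cert) 3126000 1000 chkF_3126000 i (by omega) (by omega)
          · skip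
            rcases Nat.lt_or_ge i 3128000 with h6 | h6
            · skip
              exact allRangeF_sound _ _ (checkFactF_eq cert) 3127000 1000 chkF_3127000 i (by omega) (by omega)
            · skip
              rcases Nat.lt_or_ge i 3129000 with h7 | h7
              · skip
                exact allRangeF_sound _ _ (checkFactF_eq cert) 3128000 1000 chkF_3128000 i (by omega) (by omega)
              · skip
                exact allRangeF_sound _ _ (checkFactF_eq cert) 3129000 1000 chkF_3129000 i (by omega) (by omega)
      · skip
        rcases Nat.lt_or_ge i 3136000 with h4 | h4
        · skip
          rcases Nat.lt_or_ge i 3133000 with h5 | h5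
          · skip
            rcases Nat.lt_or_ge i 3131000 with h6 | h6
            · skip
              exact allRangeF_sound _ _ (checkFactF_eq cert) 3130000 1000 chkF_3130000 i (by omega) (by omega)
            · skip
              rcases Nat.lt_or_ge i 3132000 with h7 | h7
              · skip
                exact allRangeF_sound _ _ (checkFactF_eq cert) 3131000 1000 chkF_3131000 i (by omega) (by omega)
              · skip
                exact allRangeF_sound _ _ (checkFactF_eq cert) 3132000 1000 chkF_3132000 i (by omega) (by omega)
          · skip
            rcases Nat.lt_or_ge i 3134000 with h6 | h6
            · skip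
              exact allRangeF_sound _ _ (checkFactF_eq cert) 3133000 1000 chkF_3133000 i (by omega) (by omega)
            · skip
              rcases Nat.lt_or_ge i 3135000 with h7 | h7
              · skip
                exact allRangeF_sound _ _ (checkFactF_eq cert) 3134000 1000 chkF_3134000 i (by omega) (by omega)
              · skip
                exact allRangeF_sound _ _ (checkFactF_eq cert) 3135000 1000 chkF_3135000 i (by omega) (by omega)
        · skip
          rcases Nat.lt_or_ge i 3139000 with h5 | h5
          · skip
            rcases Nat.lt_or_ge i 3137000 with h6 | h6
            · skip
              exact allRangeF_sound _ _ (checkFactF_eq cert) 3136000 1000 chkF_3136000 i (by omega) (by omega)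
            · skip
              rcases Nat.lt_or_ge i 3138000 with h7 | h7
              · skip
                exact allRangeF_sound _ _ (checkFactF_eq cert) 3137000 1000 chkF_3137000 i (by omega) (by omega)
              · skip
                exact allRangeF_sound _ _ (checkFactF_eq cert) 3138000 1000 chkF_3138000 i (by omega) (by omega)
          · skip
            rcases Nat.lt_or_ge i 3141000 with h6 | h6
            · skip
              rcases Nat.lt_or_ge i 3140000 with h7 | h7
              · skip
                exact allRangeF_sound _ _ (checkFactF_eq cert) 3139000 1000 chkF_3139000 i (by omega) (by omega)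
              · skip
                exact allRangeF_sound _ _ (checkFactF_eq cert) 3140000 1000 chkF_3140000 i (by omega) (by omega)
            · skip
              rcases Nat.lt_or_ge i 3142000 with h7 | h7
              · skip
                exact allRangeF_sound _ _ (checkFactF_eq cert) 3141000 1000 chkF_3141000 i (by omega) (by omega)
              · skip
                exact allRangeF_sound _ _ (checkFactF_eq cert) 3142000 1000 chkF_3142000 i (by omega) (by omega)
    · skip
      rcases Nat.lt_or_ge i 3155000 with h3 | h3
      · skip
        rcases Nat.lt_or_ge i 3149000 with h4 | h4
        · skip
          rcases Nat.lt_or_ge i 3146000 with h5 | h5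
          · skip
            rcases Nat.lt_or_ge i 3144000 with h6 | h6
            · skip
              exact allRangeF_sound _ _ (checkFactF_eq cert) 3143000 1000 chkF_3143000 i (by omega) (by omega)
            · skip
              rcases Nat.lt_or_ge i 3145000 with h7 | h7
              · skip
                exact allRangeF_sound _ _ (checkFactF_eq cert) 3144000 1000 chkF_3144000 i (by omega) (by omega)
              · skip
                exact allRangeF_sound _ _ (checkFactF_eq cert) 3145000 1000 chkF_3145000 i (by omega) (by omega)
          · skip
            rcases Nat.lt_or_ge i 3147000 with h6 | h6
            · skip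
              exact allRangeF_sound _ _ (checkFactF_eq cert) 3146000 1000 chkF_3146000 i (by omega) (by omega)
            · skip
              rcases Nat.lt_or_ge i 3148000 with h7 | h7
              · skip
                exact allRangeF_sound _ _ (checkFactF_eq cert) 3147000 1000 chkF_3147000 i (by omega) (by omega)
              · skip
                exact allRangeF_sound _ _ (checkFactF_eq cert) 3148000 1000 chkF_3148000 i (by omega) (by omega)
        · skip
          rcases Nat.lt_or_ge i 3152000 with h5 | h5
          · skip
            rcases Nat.lt_or_ge i 3150000 with h6 | h6
            · skip
              exact allRangeF_sound _ _ (checkFactF_eq cert) 3149000 1000 chkF_3149000 i (by omega) (by omega)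
            · skip
              rcases Nat.lt_or_ge i 3151000 with h7 | h7
              · skip
                exact allRangeF_sound _ _ (checkFactF_eq cert) 3150000 1000 chkF_3150000 i (by omega) (by omega)
              · skip
                exact allRangeF_sound _ _ (checkFactF_eq cert) 3151000 1000 chkF_3151000 i (by omega) (by omega)
          · skip
            rcases Nat.lt_or_ge i 3153000 with h6 | h6
            · skip
              exact allRangeF_sound _ _ (checkFactF_eq cert) 3152000 1000 chkF_3152000 i (by omega) (by omega)
            · skip
              rcases Nat.lt_or_ge i 3154000 with h7 | h7
              · skip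
                exact allRangeF_sound _ _ (checkFactF_eq cert) 3153000 1000 chkF_3153000 i (by omega) (by omega)
              · skip
                exact allRangeF_sound _ _ (checkFactF_eq cert) 3154000 1000 chkF_3154000 i (by omega) (by omega)
      · skip
        rcases Nat.lt_or_ge i 3161000 with h4 | h4
        · skip
          rcases Nat.lt_or_ge i 3158000 with h5 | h5
          · skip
            rcases Nat.lt_or_ge i 3156000 with h6 | h6
            · skip
              exact allRangeF_sound _ _ (checkFactF_eq cert) 3155000 1000 chkF_3155000 i (by omega) (by omega)
            · skip
              rcases Nat.lt_or_ge i 3157000 with h7 | h7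
              · skip
                exact allRangeF_sound _ _ (checkFactF_eq cert) 3156000 1000 chkF_3156000 i (by omega) (by omega)
              · skip
                exact allRangeF_sound _ _ (checkFactF_eq cert) 3157000 1000 chkF_3157000 i (by omega) (by omega)
          · skip
            rcases Nat.lt_or_ge i 3159000 with h6 | h6
            · skip
              exact allRangeF_sound _ _ (checkFactF_eq cert) 3158000 1000 chkF_3158000 i (by omega) (by omega)
            · skip
              rcases Nat.lt_or_ge i 3160000 with h7 | h7
              · skip
                exact allRangeF_sound _ _ (checkFactF_eq cert) 3159000 1000 chkF_3159000 i (by omega) (by omega)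
              · skip
                exact allRangeF_sound _ _ (checkFactF_eq cert) 3160000 1000 chkF_3160000 i (by omega) (by omega)
        · skip
          rcases Nat.lt_or_ge i 3164000 with h5 | h5
          · skip
            rcases Nat.lt_or_ge i 3162000 with h6 | h6
            · skip
              exact allRangeF_sound _ _ (checkFactF_eq cert) 3161000 1000 chkF_3161000 i (by omega) (by omega)
            · skip
              rcases Nat.lt_or_ge i 3163000 with h7 | h7
              · skip
                exact allRangeF_sound _ _ (checkFactF_eq cert) 3162000 1000 chkF_3162000 i (by omega) (by omega)
              · skip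
                exact allRangeF_sound _ _ (checkFactF_eq cert) 3163000 1000 chkF_3163000 i (by omega) (by omega)
          · skip
            rcases Nat.lt_or_ge i 3166000 with h6 | h6
            · skip
              rcases Nat.lt_or_ge i 3165000 with h7 | h7
              · skip
                exact allRangeF_sound _ _ (checkFactF_eq cert) 3164000 1000 chkF_3164000 i (by omega) (by omega)
              · skip
                exact allRangeF_sound _ _ (checkFactF_eq cert) 3165000 1000 chkF_3165000 i (by omega) (by omega)
            · skip
              rcases Nat.lt_or_ge i 3167000 with h7 | h7
              · skip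
                exact allRangeF_sound _ _ (checkFactF_eq cert) 3166000 1000 chkF_3166000 i (by omega) (by omega)
              · skip
                exact allRangeF_sound _ _ (checkFactF_eq cert) 3167000 1000 chkF_3167000 i (by omega) (by omega)

end Cfsg.Agent.Lib.Helper28.Fi24Data
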