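import Cfsg.Agent.Lib.Helper28.Fi24Data
import Cfsg.Agent.Lib.Helper28.TCFastFB

set_option autoImplicit false
set_option maxRecDepth 1000000
set_option linter.all false
set_option Elab.async false

namespace Cfsg.Agent.Lib.Helper28.Fi24Data

open Cfsg.Agent.Lib.Helper28B

theorem chkF_3168000 : allRangeF (checkFactF cert) (nat_lit 3168000) (nat_lit 1000) = true := by decide +kernel
theorem chkF_3169000 : allRangeF (checkFactF cert) (nat_lit 3169000) (nat_lit 1000) = true := by decide +kernel
theorem chkF_3170000 : allRangeF (checkFactF cert) (nat_lit 3170000) (nat_lit 1000) = true := by decide +kernel
theorem chkF_3171000 : allRangeF (checkFactF cert) (nat_lit 3171000) (nat_lit 1000) = true := by decide +kernel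
theorem chkF_3172000 : allRangeF (checkFactF cert) (nat_lit 3172000) (nat_lit 1000) = true := by decide +kernel
theorem chkF_3173000 : allRangeF (checkFactF cert) (nat_lit 3173000) (nat_lit 1000) = true := by decide +kernel
theorem chkF_3174000 : allRangeF (checkFactF cert) (nat_lit 3174000) (nat_lit 1000) = true := by decide +kernel
theorem chkF_3175000 : allRangeF (checkFactF cert) (nat_lit 3175000) (nat_lit 1000) = true := by decide +kernel
theorem chkF_3176000 : allRangeF (checkFactF cert) (nat_lit 3176000) (nat_lit 1000) = true := by decide +kernel
theorem chkF_3177000 : allRangeF (checkFactF cert) (nat_lit 3177000) (nat_lit 1000) = true := by decide +kernel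
theorem chkF_3178000 : allRangeF (checkFactF cert) (nat_lit 3178000) (nat_lit 1000) = true := by decide +kernel
theorem chkF_3179000 : allRangeF (checkFactF cert) (nat_lit 3179000) (nat_lit 1000) = true := by decide +kernel
theorem chkF_3180000 : allRangeF (checkFactF cert) (nat_lit 3180000) (nat_lit 1000) = true := by decide +kernel
theorem chkF_3181000 : allRangeF (checkFactF cert) (nat_lit 3181000) (nat_lit 1000) = true := by decide +kernel
theorem chkF_3182000 : allRangeF (checkFactF cert) (nat_lit 3182000) (nat_lit 1000) = true := by decide +kernel
theorem chkF_3183000 : allRangeF (checkFactF cert) (nat_lit 3183000) (nat_lit 1000) = true := by decide +kernel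
theorem chkF_3184000 : allRangeF (checkFactF cert) (nat_lit 3184000) (nat_lit 1000) = true := by decide +kernel
theorem chkF_3185000 : allRangeF (checkFactF cert) (nat_lit 3185000) (nat_lit 1000) = true := by decide +kernel
theorem chkF_3186000 : allRangeF (checkFactF cert) (nat_lit 3186000) (nat_lit 1000) = true := by decide +kernel
theorem chkF_3187000 : allRangeF (checkFactF cert) (nat_lit 3187000) (nat_lit 1000) = true := by decide +kernel
theorem chkF_3188000 : allRangeF (checkFactF cert) (nat_lit 3188000) (nat_lit 1000) = true := by decide +kernel
theorem chkF_3189000 : allRangeF (checkFactF cert) (nat_lit 3189000) (nat_lit 1000) = true := by decide +kernel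
theorem chkF_3190000 : allRangeF (checkFactF cert) (nat_lit 3190000) (nat_lit 1000) = true := by decide +kernel
theorem chkF_3191000 : allRangeF (checkFactF cert) (nat_lit 3191000) (nat_lit 1000) = true := by decide +kernel
theorem chkF_3192000 : allRangeF (checkFactF cert) (nat_lit 3192000) (nat_lit 1000) = true := by decide +kernel
theorem chkF_3193000 : allRangeF (checkFactF cert) (nat_lit 3193000) (nat_lit 1000) = true := by decide +kernel
theorem chkF_3194000 : allRangeF (checkFactF cert) (nat_lit 3194000) (nat_lit 1000) = true := by decide +kernel
theorem chkF_3195000 : allRangeF (checkFactF cert) (nat_lit 3195000) (nat_lit 1000) = true := by decide +kernel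
theorem chkF_3196000 : allRangeF (checkFactF cert) (nat_lit 3196000) (nat_lit 1000) = true := by decide +kernel
theorem chkF_3197000 : allRangeF (checkFactF cert) (nat_lit 3197000) (nat_lit 1000) = true := by decide +kernel
theorem chkF_3198000 : allRangeF (checkFactF cert) (nat_lit 3198000) (nat_lit 1000) = true := by decide +kernel
theorem chkF_3199000 : allRangeF (checkFactF cert) (nat_lit 3199000) (nat_lit 1000) = true := by decide +kernel
theorem chkF_3200000 : allRangeF (checkFactF cert) (nat_lit 3200000) (nat_lit 1000) = true := by decide +kernel
theorem chkF_3201000 : allRangeF (checkFactF cert) (nat_lit 3201000) (nat_lit 1000) = true := by decide +kernel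
theorem chkF_3202000 : allRangeF (checkFactF cert) (nat_lit 3202000) (nat_lit 1000) = true := by decide +kernel
theorem chkF_3203000 : allRangeF (checkFactF cert) (nat_lit 3203000) (nat_lit 1000) = true := by decide +kernel
theorem chkF_3204000 : allRangeF (checkFactF cert) (nat_lit 3204000) (nat_lit 1000) = true := by decide +kernel
theorem chkF_3205000 : allRangeF (checkFactF cert) (nat_lit 3205000) (nat_lit 1000) = true := by decide +kernel
theorem chkF_3206000 : allRangeF (checkFactF cert) (nat_lit 3206000) (nat_lit 1000) = true := by decide +kernel
theorem chkF_3207000 : allRangeF (checkFactF cert) (nat_lit 3207000) (nat_lit 1000) = true := by decide +kernel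
theorem chkF_3208000 : allRangeF (checkFactF cert) (nat_lit 3208000) (nat_lit 1000) = true := by decide +kernel
theorem chkF_3209000 : allRangeF (checkFactF cert) (nat_lit 3209000) (nat_lit 1000) = true := by decide +kernel
theorem chkF_3210000 : allRangeF (checkFactF cert) (nat_lit 3210000) (nat_lit 1000) = true := by decide +kernel
theorem chkF_3211000 : allRangeF (checkFactF cert) (nat_lit 3211000) (nat_lit 1000) = true := by decide +kernel
theorem chkF_3212000 : allRangeF (checkFactF cert) (nat_lit 3212000) (nat_lit 1000) = true := by decide +kernel
theorem chkF_3213000 : allRangeF (checkFactF cert) (nat_lit 3213000) (nat_lit 1000) = true := by decide +kernel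
theorem chkF_3214000 : allRangeF (checkFactF cert) (nat_lit 3214000) (nat_lit 1000) = true := by decide +kernel
theorem chkF_3215000 : allRangeF (checkFactF cert) (nat_lit 3215000) (nat_lit 1000) = true := by decide +kernel
theorem chkF_3216000 : allRangeF (checkFactF cert) (nat_lit 3216000) (nat_lit 1000) = true := by decide +kernel
theorem chkF_3217000 : allRangeF (checkFactF cert) (nat_lit 3217000) (nat_lit 1000) = true := by decide +kernel
theorem chkF_3218000 : allRangeF (checkFactF cert) (nat_lit 3218000) (nat_lit 1000) = true := by decide +kernel
theorem chkF_3219000 : allRangeF (checkFactF cert) (nat_lit 3219000) (nat_lit 1000) = true := by decide +kernel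
theorem chkF_3220000 : allRangeF (checkFactF cert) (nat_lit 3220000) (nat_lit 1000) = true := by decide +kernel
theorem chkF_3221000 : allRangeF (checkFactF cert) (nat_lit 3221000) (nat_lit 1000) = true := by decide +kernel
theorem chkF_3222000 : allRangeF (checkFactF cert) (nat_lit 3222000) (nat_lit 1000) = true := by decide +kernel
theorem chkF_3223000 : allRangeF (checkFactF cert) (nat_lit 3223000) (nat_lit 1000) = true := by decide +kernel
theorem chkF_3224000 : allRangeF (checkFactF cert) (nat_lit 3224000) (nat_lit 1000) = true := by decide +kernel
theorem chkF_3225000 : allRangeF (checkFactF cert) (nat_lit 3225000) (nat_lit 1000) = true := by decide +kernel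
theorem chkF_3226000 : allRangeF (checkFactF cert) (nat_lit 3226000) (nat_lit 1000) = true := by decide +kernel
theorem chkF_3227000 : allRangeF (checkFactF cert) (nat_lit 3227000) (nat_lit 1000) = true := by decide +kernel
theorem chkF_3228000 : allRangeF (checkFactF cert) (nat_lit 3228000) (nat_lit 1000) = true := by decide +kernel
theorem chkF_3229000 : allRangeF (checkFactF cert) (nat_lit 3229000) (nat_lit 1000) = true := by decide +kernel
theorem chkF_3230000 : allRangeF (checkFactF cert) (nat_lit 3230000) (nat_lit 1000) = true := by decide +kernel
theorem chkF_3231000 : allRangeF (checkFactF cert) (nat_lit 3231000) (nat_lit 1000) = true := by decide +kernel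
theorem chkF_3232000 : allRangeF (checkFactF cert) (nat_lit 3232000) (nat_lit 1000) = true := by decide +kernel
theorem chkF_3233000 : allRangeF (checkFactF cert) (nat_lit 3233000) (nat_lit 1000) = true := by decide +kernel
theorem chkF_3234000 : allRangeF (checkFactF cert) (nat_lit 3234000) (nat_lit 1000) = true := by decide +kernel
theorem chkF_3235000 : allRangeF (checkFactF cert) (nat_lit 3235000) (nat_lit 1000) = true := by decide +kernel
theorem chkF_3236000 : allRangeF (checkFactF cert) (nat_lit 3236000) (nat_lit 1000) = true := by decide +kernel
theorem chkF_3237000 : allRangeF (checkFactF cert) (nat_lit 3237000) (nat_lit 1000) = true := by decide +kernel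
theorem chkF_3238000 : allRangeF (checkFactF cert) (nat_lit 3238000) (nat_lit 1000) = true := by decide +kernel
theorem chkF_3239000 : allRangeF (checkFactF cert) (nat_lit 3239000) (nat_lit 1000) = true := by decide +kernel
theorem chkF_3240000 : allRangeF (checkFactF cert) (nat_lit 3240000) (nat_lit 1000) = true := by decide +kernel
theorem chkF_3241000 : allRangeF (checkFactF cert) (nat_lit 3241000) (nat_lit 1000) = true := by decide +kernel
theorem chkF_3242000 : allRangeF (checkFactF cert) (nat_lit 3242000) (nat_lit 1000) = true := by decide +kernel
theorem chkF_3243000 : allRangeF (checkFactF cert) (nat_lit 3243000) (nat_lit 1000) = true := by decide +kernel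
theorem chkF_3244000 : allRangeF (checkFactF cert) (nat_lit 3244000) (nat_lit 1000) = true := by decide +kernel
theorem chkF_3245000 : allRangeF (checkFactF cert) (nat_lit 3245000) (nat_lit 1000) = true := by decide +kernel
theorem chkF_3246000 : allRangeF (checkFactF cert) (nat_lit 3246000) (nat_lit 1000) = true := by decide +kernel
theorem chkF_3247000 : allRangeF (checkFactF cert) (nat_lit 3247000) (nat_lit 1000) = true := by decide +kernel
theorem chkF_3248000 : allRangeF (checkFactF cert) (nat_lit 3248000) (nat_lit 1000) = true := by decide +kernel
theorem chkF_3249000 : allRangeF (checkFactF cert) (nat_lit 3249000) (nat_lit 1000) = true := by decide +kernel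
theorem chkF_3250000 : allRangeF (checkFactF cert) (nat_lit 3250000) (nat_lit 1000) = true := by decide +kernel
theorem chkF_3251000 : allRangeF (checkFactF cert) (nat_lit 3251000) (nat_lit 1000) = true := by decide +kernel
theorem chkF_3252000 : allRangeF (checkFactF cert) (nat_lit 3252000) (nat_lit 1000) = true := by decide +kernel
theorem chkF_3253000 : allRangeF (checkFactF cert) (nat_lit 3253000) (nat_lit 1000) = true := by decide +kernel
theorem chkF_3254000 : allRangeF (checkFactF cert) (nat_lit 3254000) (nat_lit 1000) = true := by decide +kernel
theorem chkF_3255000 : allRangeF (checkFactF cert) (nat_lit 3255000) (nat_lit 1000) = true := by decide +kernel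
theorem chkF_3256000 : allRangeF (checkFactF cert) (nat_lit 3256000) (nat_lit 1000) = true := by decide +kernel
theorem chkF_3257000 : allRangeF (checkFactF cert) (nat_lit 3257000) (nat_lit 1000) = true := by decide +kernel
theorem chkF_3258000 : allRangeF (checkFactF cert) (nat_lit 3258000) (nat_lit 1000) = true := by decide +kernel
theorem chkF_3259000 : allRangeF (checkFactF cert) (nat_lit 3259000) (nat_lit 1000) = true := by decide +kernel
theorem chkF_3260000 : allRangeF (checkFactF cert) (nat_lit 3260000) (nat_lit 1000) = true := by decide +kernel
theorem chkF_3261000 : allRangeF (checkFactF cert) (nat_lit 3261000) (nat_lit 1000) = true := by decide +kernel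
theorem chkF_3262000 : allRangeF (checkFactF cert) (nat_lit 3262000) (nat_lit 1000) = true := by decide +kernel
theorem chkF_3263000 : allRangeF (checkFactF cert) (nat_lit 3263000) (nat_lit 1000) = true := by decide +kernel
theorem chkF_3264000 : allRangeF (checkFactF cert) (nat_lit 3264000) (nat_lit 1000) = true := by decide +kernel
theorem chkF_3265000 : allRangeF (checkFactF cert) (nat_lit 3265000) (nat_lit 1000) = true := by decide +kernel
theorem chkF_3266000 : allRangeF (checkFactF cert) (nat_lit 3266000) (nat_lit 1000) = true := by decide +kernel

theorem factsRange_32 : ∀ i, 3168000 ≤ i → i < 3267000 → checkFact cert i = true := by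
  intro i hlo hhi
  rcases Nat.lt_or_ge i 3217000 with h1 | h1
  · skip
    rcases Nat.lt_or_ge i 3192000 with h2 | h2
    · skip
      rcases Nat.lt_or_ge i 3180000 with h3 | h3
      · skip
        rcases Nat.lt_or_ge i 3174000 with h4 | h4
        · skip
          rcases Nat.lt_or_ge i 3171000 with h5 | h5
          · skip
            rcases Nat.lt_or_ge i 3169000 with h6 | h6
            · skip
              exact allRangeF_sound _ _ (checkFactF_eq cert) 3168000 1000 chkF_3168000 i (by omega) (by omega)
            · skip
              rcases Nat.lt_or_ge i 3170000 with h7 | h7
              · skip
                exact allRangeF_sound _ _ (checkFactF_eq cert) 3169000 1000 chkF_3169000 i (by omega) (by omega)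
              · skip
                exact allRangeF_sound _ _ (checkFactF_eq cert) 3170000 1000 chkF_3170000 i (by omega) (by omega)
          · skip
            rcases Nat.lt_or_ge i 3172000 with h6 | h6
            · skip
              exact allRangeF_sound _ _ (checkFactF_eq cert) 3171000 1000 chkF_3171000 i (by omega) (by omega)
            · skip
              rcases Nat.lt_or_ge i 3173000 with h7 | h7
              · skip
                exact allRangeF_sound _ _ (checkFactF_eq cert) 3172000 1000 chkF_3172000 i (by omega) (by omega)
              · skip
                exact allRangeF_sound _ _ (checkFactF_eq cert) 3173000 1000 chkF_3173000 i (by omega) (by omega)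
        · skip
          rcases Nat.lt_or_ge i 3177000 with h5 | h5
          · skip
            rcases Nat.lt_or_ge i 3175000 with h6 | h6
            · skip
              exact allRangeF_sound _ _ (checkFactF_eq cert) 3174000 1000 chkF_3174000 i (by omega) (by omega)
            · skip
              rcases Nat.lt_or_ge i 3176000 with h7 | h7
              · skip
                exact allRangeF_sound _ _ (checkFactF_eq cert) 3175000 1000 chkF_3175000 i (by omega) (by omega)
              · skip
                exact allRangeF_sound _ _ (checkFactF_eq cert) 3176000 1000 chkF_3176000 i (by omega) (by omega)
          · skip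
            rcases Nat.lt_or_ge i 3178000 with h6 | h6
            · skip
              exact allRangeF_sound _ _ (checkFactF_eq cert) 3177000 1000 chkF_3177000 i (by omega) (by omega)
            · skip
              rcases Nat.lt_or_ge i 3179000 with h7 | h7
              · skip
                exact allRangeF_sound _ _ (checkFactF_eq cert) 3178000 1000 chkF_3178000 i (by omega) (by omega)
              · skip
                exact allRangeF_sound _ _ (checkFactF_eq cert) 3179000 1000 chkF_3179000 i (by omega) (by omega)
      · skip
        rcases Nat.lt_or_ge i 3186000 with h4 | h4
        · skip
          rcases Nat.lt_or_ge i 3183000 with h5 | h5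
          · skip
            rcases Nat.lt_or_ge i 3181000 with h6 | h6
            · skip
              exact allRangeF_sound _ _ (checkFactF_eq cert) 3180000 1000 chkF_3180000 i (by omega) (by omega)
            · skip
              rcases Nat.lt_or_ge i 3182000 with h7 | h7
              · skip
                exact allRangeF_sound _ _ (checkFactF_eq cert) 3181000 1000 chkF_3181000 i (by omega) (by omega)
              · skip
                exact allRangeF_sound _ _ (checkFactF_eq cert) 3182000 1000 chkF_3182000 i (by omega) (by omega)
          · skip
            rcases Nat.lt_or_ge i 3184000 with h6 | h6
            · skip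
              exact allRangeF_sound _ _ (checkFactF_eq cert) 3183000 1000 chkF_3183000 i (by omega) (by omega)
            · skip
              rcases Nat.lt_or_ge i 3185000 with h7 | h7
              · skip
                exact allRangeF_sound _ _ (checkFactF_eq cert) 3184000 1000 chkF_3184000 i (by omega) (by omega)
              · skip
                exact allRangeF_sound _ _ (checkFactF_eq cert) 3185000 1000 chkF_3185000 i (by omega) (by omega)
        · skip
          rcases Nat.lt_or_ge i 3189000 with h5 | h5
          · skip
            rcases Nat.lt_or_ge i 3187000 with h6 | h6
            · skip
              exact allRangeF_sound _ _ (checkFactF_eq cert) 3186000 1000 chkF_3186000 i (by omega) (by omega)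
            · skip
              rcases Nat.lt_or_ge i 3188000 with h7 | h7
              · skip
                exact allRangeF_sound _ _ (checkFactF_eq cert) 3187000 1000 chkF_3187000 i (by omega) (by omega)
              · skip
                exact allRangeF_sound _ _ (checkFactF_eq cert) 3188000 1000 chkF_3188000 i (by omega) (by omega)
          · skip
            rcases Nat.lt_or_ge i 3190000 with h6 | h6
            · skip
              exact allRangeF_sound _ _ (checkFactF_eq cert) 3189000 1000 chkF_3189000 i (by omega) (by omega)
            · skip
              rcases Nat.lt_or_ge i 3191000 with h7 | h7
              · skip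
                exact allRangeF_sound _ _ (checkFactF_eq cert) 3190000 1000 chkF_3190000 i (by omega) (by omega)
              · skip
                exact allRangeF_sound _ _ (checkFactF_eq cert) 3191000 1000 chkF_3191000 i (by omega) (by omega)
    · skip
      rcases Nat.lt_or_ge i 3204000 with h3 | h3
      · skip
        rcases Nat.lt_or_ge i 3198000 with h4 | h4
        · skip
          rcases Nat.lt_or_ge i 3195000 with h5 | h5
          · skip
            rcases Nat.lt_or_ge i 3193000 with h6 | h6
            · skip
              exact allRangeF_sound _ _ (checkFactF_eq cert) 3192000 1000 chkF_3192000 i (by omega) (by omega)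
            · skip
              rcases Nat.lt_or_ge i 3194000 with h7 | h7
              · skip
                exact allRangeF_sound _ _ (checkFactF_eq cert) 3193000 1000 chkF_3193000 i (by omega) (by omega)
              · skip
                exact allRangeF_sound _ _ (checkFactF_eq cert) 3194000 1000 chkF_3194000 i (by omega) (by omega)
          · skip
            rcases Nat.lt_or_ge i 3196000 with h6 | h6
            · skip
              exact allRangeF_sound _ _ (checkFactF_eq cert) 3195000 1000 chkF_3195000 i (by omega) (by omega)
            · skip
              rcases Nat.lt_or_ge i 3197000 with h7 | h7
              · skip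
                exact allRangeF_sound _ _ (checkFactF_eq cert) 3196000 1000 chkF_3196000 i (by omega) (by omega)
              · skip
                exact allRangeF_sound _ _ (checkFactF_eq cert) 3197000 1000 chkF_3197000 i (by omega) (by omega)
        · skip
          rcases Nat.lt_or_ge i 3201000 with h5 | h5
          · skip
            rcases Nat.lt_or_ge i 3199000 with h6 | h6
            · skip
              exact allRangeF_sound _ _ (checkFactF_eq cert) 3198000 1000 chkF_3198000 i (by omega) (by omega)
            · skip
              rcases Nat.lt_or_ge i 3200000 with h7 | h7
              · skip
                exact allRangeF_sound _ _ (checkFactF_eq cert) 3199000 1000 chkF_3199000 i (by omega) (by omega)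
              · skip
                exact allRangeF_sound _ _ (checkFactF_eq cert) 3200000 1000 chkF_3200000 i (by omega) (by omega)
          · skip
            rcases Nat.lt_or_ge i 3202000 with h6 | h6
            · skip
              exact allRangeF_sound _ _ (checkFactF_eq cert) 3201000 1000 chkF_3201000 i (by omega) (by omega)
            · skip
              rcases Nat.lt_or_ge i 3203000 with h7 | h7
              · skip
                exact allRangeF_sound _ _ (checkFactF_eq cert) 3202000 1000 chkF_3202000 i (by omega) (by omega)
              · skip
                exact allRangeF_sound _ _ (checkFactF_eq cert) 3203000 1000 chkF_3203000 i (by omega) (by omega)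
      · skip
        rcases Nat.lt_or_ge i 3210000 with h4 | h4
        · skip
          rcases Nat.lt_or_ge i 3207000 with h5 | h5
          · skip
            rcases Nat.lt_or_ge i 3205000 with h6 | h6
            · skip
              exact allRangeF_sound _ _ (checkFactF_eq cert) 3204000 1000 chkF_3204000 i (by omega) (by omega)
            · skip
              rcases Nat.lt_or_ge i 3206000 with h7 | h7
              · skip
                exact allRangeF_sound _ _ (checkFactF_eq cert) 3205000 1000 chkF_3205000 i (by omega) (by omega)
              · skip
                exact allRangeF_sound _ _ (checkFactF_eq cert) 3206000 1000 chkF_3206000 i (by omega) (by omega)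
          · skip
            rcases Nat.lt_or_ge i 3208000 with h6 | h6
            · skip
              exact allRangeF_sound _ _ (checkFactF_eq cert) 3207000 1000 chkF_3207000 i (by omega) (by omega)
            · skip
              rcases Nat.lt_or_ge i 3209000 with h7 | h7
              · skip
                exact allRangeF_sound _ _ (checkFactF_eq cert) 3208000 1000 chkF_3208000 i (by omega) (by omega)
              · skip
                exact allRangeF_sound _ _ (checkFactF_eq cert) 3209000 1000 chkF_3209000 i (by omega) (by omega)
        · skip
          rcases Nat.lt_or_ge i 3213000 with h5 | h5
          · skip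
            rcases Nat.lt_or_ge i 3211000 with h6 | h6
            · skip
              exact allRangeF_sound _ _ (checkFactF_eq cert) 3210000 1000 chkF_3210000 i (by omega) (by omega)
            · skip
              rcases Nat.lt_or_ge i 3212000 with h7 | h7
              · skip
                exact allRangeF_sound _ _ (checkFactF_eq cert) 3211000 1000 chkF_3211000 i (by omega) (by omega)
              · skip
                exact allRangeF_sound _ _ (checkFactF_eq cert) 3212000 1000 chkF_3212000 i (by omega) (by omega)
          · skip
            rcases Nat.lt_or_ge i 3215000 with h6 | h6
            · skip
              rcases Nat.lt_or_ge i 3214000 with h7 | h7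
              · skip
                exact allRangeF_sound _ _ (checkFactF_eq cert) 3213000 1000 chkF_3213000 i (by omega) (by omega)
              · skip
                exact allRangeF_sound _ _ (checkFactF_eq cert) 3214000 1000 chkF_3214000 i (by omega) (by omega)
            · skip
              rcases Nat.lt_or_ge i 3216000 with h7 | h7
              · skip
                exact allRangeF_sound _ _ (checkFactF_eq cert) 3215000 1000 chkF_3215000 i (by omega) (by omega)
              · skip
                exact allRangeF_sound _ _ (checkFactF_eq cert) 3216000 1000 chkF_3216000 i (by omega) (by omega)
  · skip
    rcases Nat.lt_or_ge i 3242000 with h2 | h2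
    · skip
      rcases Nat.lt_or_ge i 3229000 with h3 | h3
      · skip
        rcases Nat.lt_or_ge i 3223000 with h4 | h4
        · skip
          rcases Nat.lt_or_ge i 3220000 with h5 | h5
          · skip
            rcases Nat.lt_or_ge i 3218000 with h6 | h6
            · skip
              exact allRangeF_sound _ _ (checkFactF_eq cert) 3217000 1000 chkF_3217000 i (by omega) (by omega)
            · skip
              rcases Nat.lt_or_ge i 3219000 with h7 | h7
              · skip
                exact allRangeF_sound _ _ (checkFactF_eq cert) 3218000 1000 chkF_3218000 i (by omega) (by omega)
              · skip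
                exact allRangeF_sound _ _ (checkFactF_eq cert) 3219000 1000 chkF_3219000 i (by omega) (by omega)
          · skip
            rcases Nat.lt_or_ge i 3221000 with h6 | h6
            · skip
              exact allRangeF_sound _ _ (checkFactF_eq cert) 3220000 1000 chkF_3220000 i (by omega) (by omega)
            · skip
              rcases Nat.lt_or_ge i 3222000 with h7 | h7
              · skip
                exact allRangeF_sound _ _ (checkFactF_eq cert) 3221000 1000 chkF_3221000 i (by omega) (by omega)
              · skip
                exact allRangeF_sound _ _ (checkFactF_eq cert) 3222000 1000 chkF_3222000 i (by omega) (by omega)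
        · skip
          rcases Nat.lt_or_ge i 3226000 with h5 | h5
          · skip
            rcases Nat.lt_or_ge i 3224000 with h6 | h6
            · skip
              exact allRangeF_sound _ _ (checkFactF_eq cert) 3223000 1000 chkF_3223000 i (by omega) (by omega)
            · skip
              rcases Nat.lt_or_ge i 3225000 with h7 | h7
              · skip
                exact allRangeF_sound _ _ (checkFactF_eq cert) 3224000 1000 chkF_3224000 i (by omega) (by omega)
              · skip
                exact allRangeF_sound _ _ (checkFactF_eq cert) 3225000 1000 chkF_3225000 i (by omega) (by omega)
          · skip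
            rcases Nat.lt_or_ge i 3227000 with h6 | h6
            · skip
              exact allRangeF_sound _ _ (checkFactF_eq cert) 3226000 1000 chkF_3226000 i (by omega) (by omega)
            · skip
              rcases Nat.lt_or_ge i 3228000 with h7 | h7
              · skip
                exact allRangeF_sound _ _ (checkFactF_eq cert) 3227000 1000 chkF_3227000 i (by omega) (by omega)
              · skip
                exact allRangeF_sound _ _ (checkFactF_eq cert) 3228000 1000 chkF_3228000 i (by omega) (by omega)
      · skip
        rcases Nat.lt_or_ge i 3235000 with h4 | h4
        · skip
          rcases Nat.lt_or_ge i 3232000 with h5 | h5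
          · skip
            rcases Nat.lt_or_ge i 3230000 with h6 | h6
            · skip
              exact allRangeF_sound _ _ (checkFactF_eq cert) 3229000 1000 chkF_3229000 i (by omega) (by omega)
            · skip
              rcases Nat.lt_or_ge i 3231000 with h7 | h7
              · skip
                exact allRangeF_sound _ _ (checkFactF_eq cert) 3230000 1000 chkF_3230000 i (by omega) (by omega)
              · skip
                exact allRangeF_sound _ _ (checkFactF_eq cert) 3231000 1000 chkF_3231000 i (by omega) (by omega)
          · skip
            rcases Nat.lt_or_ge i 3233000 with h6 | h6
            · skip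
              exact allRangeF_sound _ _ (checkFactF_eq cert) 3232000 1000 chkF_3232000 i (by omega) (by omega)
            · skip
              rcases Nat.lt_or_ge i 3234000 with h7 | h7
              · skip
                exact allRangeF_sound _ _ (checkFactF_eq cert) 3233000 1000 chkF_3233000 i (by omega) (by omega)
              · skip
                exact allRangeF_sound _ _ (checkFactF_eq cert) 3234000 1000 chkF_3234000 i (by omega) (by omega)
        · skip
          rcases Nat.lt_or_ge i 3238000 with h5 | h5
          · skip
            rcases Nat.lt_or_ge i 3236000 with h6 | h6
            · skip
              exact allRangeF_sound _ _ (checkFactF_eq cert) 3235000 1000 chkF_3235000 i (by omega) (by omega)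
            · skip
              rcases Nat.lt_or_ge i 3237000 with h7 | h7
              · skip
                exact allRangeF_sound _ _ (checkFactF_eq cert) 3236000 1000 chkF_3236000 i (by omega) (by omega)
              · skip
                exact allRangeF_sound _ _ (checkFactF_eq cert) 3237000 1000 chkF_3237000 i (by omega) (by omega)
          · skip
            rcases Nat.lt_or_ge i 3240000 with h6 | h6
            · skip
              rcases Nat.lt_or_ge i 3239000 with h7 | h7
              · skip
                exact allRangeF_sound _ _ (checkFactF_eq cert) 3238000 1000 chkF_3238000 i (by omega) (by omega)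
              · skip
                exact allRangeF_sound _ _ (checkFactF_eq cert) 3239000 1000 chkF_3239000 i (by omega) (by omega)
            · skip
              rcases Nat.lt_or_ge i 3241000 with h7 | h7
              · skip
                exact allRangeF_sound _ _ (checkFactF_eq cert) 3240000 1000 chkF_3240000 i (by omega) (by omega)
              · skip
                exact allRangeF_sound _ _ (checkFactF_eq cert) 3241000 1000 chkF_3241000 i (by omega) (by omega)
    · skip
      rcases Nat.lt_or_ge i 3254000 with h3 | h3
      · skip
        rcases Nat.lt_or_ge i 3248000 with h4 | h4
        · skip
          rcases Nat.lt_or_ge i 3245000 with h5 | h5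
          · skip
            rcases Nat.lt_or_ge i 3243000 with h6 | h6
            · skip
              exact allRangeF_sound _ _ (checkFactF_eq cert) 3242000 1000 chkF_3242000 i (by omega) (by omega)
            · skip
              rcases Nat.lt_or_ge i 3244000 with h7 | h7
              · skip
                exact allRangeF_sound _ _ (checkFactF_eq cert) 3243000 1000 chkF_3243000 i (by omega) (by omega)
              · skip
                exact allRangeF_sound _ _ (checkFactF_eq cert) 3244000 1000 chkF_3244000 i (by omega) (by omega)
          · skip
            rcases Nat.lt_or_ge i 3246000 with h6 | h6
            · skip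
              exact allRangeF_sound _ _ (checkFactF_eq cert) 3245000 1000 chkF_3245000 i (by omega) (by omega)
            · skip
              rcases Nat.lt_or_ge i 3247000 with h7 | h7
              · skip
                exact allRangeF_sound _ _ (checkFactF_eq cert) 3246000 1000 chkF_3246000 i (by omega) (by omega)
              · skip
                exact allRangeF_sound _ _ (checkFactF_eq cert) 3247000 1000 chkF_3247000 i (by omega) (by omega)
        · skip
          rcases Nat.lt_or_ge i 3251000 with h5 | h5
          · skip
            rcases Nat.lt_or_ge i 3249000 with h6 | h6
            · skip
              exact allRangeF_sound _ _ (checkFactF_eq cert) 3248000 1000 chkF_3248000 i (by omega) (by omega)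
            · skip
              rcases Nat.lt_or_ge i 3250000 with h7 | h7
              · skip
                exact allRangeF_sound _ _ (checkFactF_eq cert) 3249000 1000 chkF_3249000 i (by omega) (by omega)
              · skip
                exact allRangeF_sound _ _ (checkFactF_eq cert) 3250000 1000 chkF_3250000 i (by omega) (by omega)
          · skip
            rcases Nat.lt_or_ge i 3252000 with h6 | h6
            · skip
              exact allRangeF_sound _ _ (checkFactF_eq cert) 3251000 1000 chkF_3251000 i (by omega) (by omega)
            · skip
              rcases Nat.lt_or_ge i 3253000 with h7 | h7
              · skip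
                exact allRangeF_sound _ _ (checkFactF_eq cert) 3252000 1000 chkF_3252000 i (by omega) (by omega)
              · skip
                exact allRangeF_sound _ _ (checkFactF_eq cert) 3253000 1000 chkF_3253000 i (by omega) (by omega)
      · skip
        rcases Nat.lt_or_ge i 3260000 with h4 | h4
        · skip
          rcases Nat.lt_or_ge i 3257000 with h5 | h5
          · skip
            rcases Nat.lt_or_ge i 3255000 with h6 | h6
            · skip
              exact allRangeF_sound _ _ (checkFactF_eq cert) 3254000 1000 chkF_3254000 i (by omega) (by omega)
            · skip
              rcases Nat.lt_or_ge i 3256000 with h7 | h7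
              · skip
                exact allRangeF_sound _ _ (checkFactF_eq cert) 3255000 1000 chkF_3255000 i (by omega) (by omega)
              · skip
                exact allRangeF_sound _ _ (checkFactF_eq cert) 3256000 1000 chkF_3256000 i (by omega) (by omega)
          · skip
            rcases Nat.lt_or_ge i 3258000 with h6 | h6
            · skip
              exact allRangeF_sound _ _ (checkFactF_eq cert) 3257000 1000 chkF_3257000 i (by omega) (by omega)
            · skip
              rcases Nat.lt_or_ge i 3259000 with h7 | h7
              · skip
                exact allRangeF_sound _ _ (checkFactF_eq cert) 3258000 1000 chkF_3258000 i (by omega) (by omega)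
              · skip
                exact allRangeF_sound _ _ (checkFactF_eq cert) 3259000 1000 chkF_3259000 i (by omega) (by omega)
        · skip
          rcases Nat.lt_or_ge i 3263000 with h5 | h5
          · skip
            rcases Nat.lt_or_ge i 3261000 with h6 | h6
            · skip
              exact allRangeF_sound _ _ (checkFactF_eq cert) 3260000 1000 chkF_3260000 i (by omega) (by omega)
            · skip
              rcases Nat.lt_or_ge i 3262000 with h7 | h7
              · skip
                exact allRangeF_sound _ _ (checkFactF_eq cert) 3261000 1000 chkF_3261000 i (by omega) (by omega)
              · skip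
                exact allRangeF_sound _ _ (checkFactF_eq cert) 3262000 1000 chkF_3262000 i (by omega) (by omega)
          · skip
            rcases Nat.lt_or_ge i 3265000 with h6 | h6
            · skip
              rcases Nat.lt_or_ge i 3264000 with h7 | h7
              · skip
                exact allRangeF_sound _ _ (checkFactF_eq cert) 3263000 1000 chkF_3263000 i (by omega) (by omega)
              · skip
                exact allRangeF_sound _ _ (checkFactF_eq cert) 3264000 1000 chkF_3264000 i (by omega) (by omega)
            · skip
              rcases Nat.lt_or_ge i 3266000 with h7 | h7
              · skip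
                exact allRangeF_sound _ _ (checkFactF_eq cert) 3265000 1000 chkF_3265000 i (by omega) (by omega)
              · skip
                exact allRangeF_sound _ _ (checkFactF_eq cert) 3266000 1000 chkF_3266000 i (by omega) (by omega)

end Cfsg.Agent.Lib.Helper28.Fi24Data
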