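import Cfsg.Agent.Lib.Helper28.Fi24Data
import Cfsg.Agent.Lib.Helper28.TCFastFB

set_option autoImplicit false
set_option maxRecDepth 1000000
set_option linter.all false
set_option Elab.async false

namespace Cfsg.Agent.Lib.Helper28.Fi24Data

open Cfsg.Agent.Lib.Helper28B

theorem chkF_3267000 : allRangeF (checkFactF cert) (nat_lit 3267000) (nat_lit 1000) = true := by decide +kernel
theorem chkF_3268000 : allRangeF (checkFactF cert) (nat_lit 3268000) (nat_lit 1000) = true := by decide +kernel
theorem chkF_3269000 : allRangeF (checkFactF cert) (nat_lit 3269000) (nat_lit 1000) = true := by decide +kernel
theorem chkF_3270000 : allRangeF (checkFactF cert) (nat_lit 3270000) (nat_lit 1000) = true := by decide +kernel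
theorem chkF_3271000 : allRangeF (checkFactF cert) (nat_lit 3271000) (nat_lit 1000) = true := by decide +kernel
theorem chkF_3272000 : allRangeF (checkFactF cert) (nat_lit 3272000) (nat_lit 1000) = true := by decide +kernel
theorem chkF_3273000 : allRangeF (checkFactF cert) (nat_lit 3273000) (nat_lit 1000) = true := by decide +kernel
theorem chkF_3274000 : allRangeF (checkFactF cert) (nat_lit 3274000) (nat_lit 1000) = true := by decide +kernel
theorem chkF_3275000 : allRangeF (checkFactF cert) (nat_lit 3275000) (nat_lit 1000) = true := by decide +kernel
theorem chkF_3276000 : allRangeF (checkFactF cert) (nat_lit 3276000) (nat_lit 1000) = true := by decide +kernel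
theorem chkF_3277000 : allRangeF (checkFactF cert) (nat_lit 3277000) (nat_lit 1000) = true := by decide +kernel
theorem chkF_3278000 : allRangeF (checkFactF cert) (nat_lit 3278000) (nat_lit 1000) = true := by decide +kernel
theorem chkF_3279000 : allRangeF (checkFactF cert) (nat_lit 3279000) (nat_lit 1000) = true := by decide +kernel
theorem chkF_3280000 : allRangeF (checkFactF cert) (nat_lit 3280000) (nat_lit 1000) = true := by decide +kernel
theorem chkF_3281000 : allRangeF (checkFactF cert) (nat_lit 3281000) (nat_lit 1000) = true := by decide +kernel
theorem chkF_3282000 : allRangeF (checkFactF cert) (nat_lit 3282000) (nat_lit 1000) = true := by decide +kernel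
theorem chkF_3283000 : allRangeF (checkFactF cert) (nat_lit 3283000) (nat_lit 1000) = true := by decide +kernel
theorem chkF_3284000 : allRangeF (checkFactF cert) (nat_lit 3284000) (nat_lit 1000) = true := by decide +kernel
theorem chkF_3285000 : allRangeF (checkFactF cert) (nat_lit 3285000) (nat_lit 1000) = true := by decide +kernel
theorem chkF_3286000 : allRangeF (checkFactF cert) (nat_lit 3286000) (nat_lit 1000) = true := by decide +kernel
theorem chkF_3287000 : allRangeF (checkFactF cert) (nat_lit 3287000) (nat_lit 1000) = true := by decide +kernel
theorem chkF_3288000 : allRangeF (checkFactF cert) (nat_lit 3288000) (nat_lit 1000) = true := by decide +kernel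
theorem chkF_3289000 : allRangeF (checkFactF cert) (nat_lit 3289000) (nat_lit 1000) = true := by decide +kernel
theorem chkF_3290000 : allRangeF (checkFactF cert) (nat_lit 3290000) (nat_lit 1000) = true := by decide +kernel
theorem chkF_3291000 : allRangeF (checkFactF cert) (nat_lit 3291000) (nat_lit 1000) = true := by decide +kernel
theorem chkF_3292000 : allRangeF (checkFactF cert) (nat_lit 3292000) (nat_lit 1000) = true := by decide +kernel
theorem chkF_3293000 : allRangeF (checkFactF cert) (nat_lit 3293000) (nat_lit 1000) = true := by decide +kernel
theorem chkF_3294000 : allRangeF (checkFactF cert) (nat_lit 3294000) (nat_lit 1000) = true := by decide +kernel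
theorem chkF_3295000 : allRangeF (checkFactF cert) (nat_lit 3295000) (nat_lit 1000) = true := by decide +kernel
theorem chkF_3296000 : allRangeF (checkFactF cert) (nat_lit 3296000) (nat_lit 1000) = true := by decide +kernel
theorem chkF_3297000 : allRangeF (checkFactF cert) (nat_lit 3297000) (nat_lit 1000) = true := by decide +kernel
theorem chkF_3298000 : allRangeF (checkFactF cert) (nat_lit 3298000) (nat_lit 1000) = true := by decide +kernel
theorem chkF_3299000 : allRangeF (checkFactF cert) (nat_lit 3299000) (nat_lit 1000) = true := by decide +kernel
theorem chkF_3300000 : allRangeF (checkFactF cert) (nat_lit 3300000) (nat_lit 1000) = true := by decide +kernel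
theorem chkF_3301000 : allRangeF (checkFactF cert) (nat_lit 3301000) (nat_lit 1000) = true := by decide +kernel
theorem chkF_3302000 : allRangeF (checkFactF cert) (nat_lit 3302000) (nat_lit 1000) = true := by decide +kernel
theorem chkF_3303000 : allRangeF (checkFactF cert) (nat_lit 3303000) (nat_lit 1000) = true := by decide +kernel
theorem chkF_3304000 : allRangeF (checkFactF cert) (nat_lit 3304000) (nat_lit 1000) = true := by decide +kernel
theorem chkF_3305000 : allRangeF (checkFactF cert) (nat_lit 3305000) (nat_lit 1000) = true := by decide +kernel
theorem chkF_3306000 : allRangeF (checkFactF cert) (nat_lit 3306000) (nat_lit 1000) = true := by decide +kernel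
theorem chkF_3307000 : allRangeF (checkFactF cert) (nat_lit 3307000) (nat_lit 1000) = true := by decide +kernel
theorem chkF_3308000 : allRangeF (checkFactF cert) (nat_lit 3308000) (nat_lit 1000) = true := by decide +kernel
theorem chkF_3309000 : allRangeF (checkFactF cert) (nat_lit 3309000) (nat_lit 1000) = true := by decide +kernel
theorem chkF_3310000 : allRangeF (checkFactF cert) (nat_lit 3310000) (nat_lit 1000) = true := by decide +kernel
theorem chkF_3311000 : allRangeF (checkFactF cert) (nat_lit 3311000) (nat_lit 1000) = true := by decide +kernel
theorem chkF_3312000 : allRangeF (checkFactF cert) (nat_lit 3312000) (nat_lit 1000) = true := by decide +kernel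
theorem chkF_3313000 : allRangeF (checkFactF cert) (nat_lit 3313000) (nat_lit 1000) = true := by decide +kernel
theorem chkF_3314000 : allRangeF (checkFactF cert) (nat_lit 3314000) (nat_lit 1000) = true := by decide +kernel
theorem chkF_3315000 : allRangeF (checkFactF cert) (nat_lit 3315000) (nat_lit 1000) = true := by decide +kernel
theorem chkF_3316000 : allRangeF (checkFactF cert) (nat_lit 3316000) (nat_lit 1000) = true := by decide +kernel
theorem chkF_3317000 : allRangeF (checkFactF cert) (nat_lit 3317000) (nat_lit 1000) = true := by decide +kernel
theorem chkF_3318000 : allRangeF (checkFactF cert) (nat_lit 3318000) (nat_lit 1000) = true := by decide +kernel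
theorem chkF_3319000 : allRangeF (checkFactF cert) (nat_lit 3319000) (nat_lit 1000) = true := by decide +kernel
theorem chkF_3320000 : allRangeF (checkFactF cert) (nat_lit 3320000) (nat_lit 1000) = true := by decide +kernel
theorem chkF_3321000 : allRangeF (checkFactF cert) (nat_lit 3321000) (nat_lit 1000) = true := by decide +kernel
theorem chkF_3322000 : allRangeF (checkFactF cert) (nat_lit 3322000) (nat_lit 1000) = true := by decide +kernel
theorem chkF_3323000 : allRangeF (checkFactF cert) (nat_lit 3323000) (nat_lit 1000) = true := by decide +kernel
theorem chkF_3324000 : allRangeF (checkFactF cert) (nat_lit 3324000) (nat_lit 1000) = true := by decide +kernel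
theorem chkF_3325000 : allRangeF (checkFactF cert) (nat_lit 3325000) (nat_lit 1000) = true := by decide +kernel
theorem chkF_3326000 : allRangeF (checkFactF cert) (nat_lit 3326000) (nat_lit 1000) = true := by decide +kernel
theorem chkF_3327000 : allRangeF (checkFactF cert) (nat_lit 3327000) (nat_lit 1000) = true := by decide +kernel
theorem chkF_3328000 : allRangeF (checkFactF cert) (nat_lit 3328000) (nat_lit 1000) = true := by decide +kernel
theorem chkF_3329000 : allRangeF (checkFactF cert) (nat_lit 3329000) (nat_lit 1000) = true := by decide +kernel
theorem chkF_3330000 : allRangeF (checkFactF cert) (nat_lit 3330000) (nat_lit 1000) = true := by decide +kernel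
theorem chkF_3331000 : allRangeF (checkFactF cert) (nat_lit 3331000) (nat_lit 1000) = true := by decide +kernel
theorem chkF_3332000 : allRangeF (checkFactF cert) (nat_lit 3332000) (nat_lit 1000) = true := by decide +kernel
theorem chkF_3333000 : allRangeF (checkFactF cert) (nat_lit 3333000) (nat_lit 1000) = true := by decide +kernel
theorem chkF_3334000 : allRangeF (checkFactF cert) (nat_lit 3334000) (nat_lit 1000) = true := by decide +kernel
theorem chkF_3335000 : allRangeF (checkFactF cert) (nat_lit 3335000) (nat_lit 1000) = true := by decide +kernel
theorem chkF_3336000 : allRangeF (checkFactF cert) (nat_lit 3336000) (nat_lit 1000) = true := by decide +kernel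
theorem chkF_3337000 : allRangeF (checkFactF cert) (nat_lit 3337000) (nat_lit 1000) = true := by decide +kernel
theorem chkF_3338000 : allRangeF (checkFactF cert) (nat_lit 3338000) (nat_lit 1000) = true := by decide +kernel
theorem chkF_3339000 : allRangeF (checkFactF cert) (nat_lit 3339000) (nat_lit 1000) = true := by decide +kernel
theorem chkF_3340000 : allRangeF (checkFactF cert) (nat_lit 3340000) (nat_lit 1000) = true := by decide +kernel
theorem chkF_3341000 : allRangeF (checkFactF cert) (nat_lit 3341000) (nat_lit 1000) = true := by decide +kernel
theorem chkF_3342000 : allRangeF (checkFactF cert) (nat_lit 3342000) (nat_lit 1000) = true := by decide +kernel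
theorem chkF_3343000 : allRangeF (checkFactF cert) (nat_lit 3343000) (nat_lit 1000) = true := by decide +kernel
theorem chkF_3344000 : allRangeF (checkFactF cert) (nat_lit 3344000) (nat_lit 1000) = true := by decide +kernel
theorem chkF_3345000 : allRangeF (checkFactF cert) (nat_lit 3345000) (nat_lit 1000) = true := by decide +kernel
theorem chkF_3346000 : allRangeF (checkFactF cert) (nat_lit 3346000) (nat_lit 1000) = true := by decide +kernel
theorem chkF_3347000 : allRangeF (checkFactF cert) (nat_lit 3347000) (nat_lit 1000) = true := by decide +kernel
theorem chkF_3348000 : allRangeF (checkFactF cert) (nat_lit 3348000) (nat_lit 1000) = true := by decide +kernel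
theorem chkF_3349000 : allRangeF (checkFactF cert) (nat_lit 3349000) (nat_lit 1000) = true := by decide +kernel
theorem chkF_3350000 : allRangeF (checkFactF cert) (nat_lit 3350000) (nat_lit 1000) = true := by decide +kernel
theorem chkF_3351000 : allRangeF (checkFactF cert) (nat_lit 3351000) (nat_lit 1000) = true := by decide +kernel
theorem chkF_3352000 : allRangeF (checkFactF cert) (nat_lit 3352000) (nat_lit 1000) = true := by decide +kernel
theorem chkF_3353000 : allRangeF (checkFactF cert) (nat_lit 3353000) (nat_lit 1000) = true := by decide +kernel
theorem chkF_3354000 : allRangeF (checkFactF cert) (nat_lit 3354000) (nat_lit 1000) = true := by decide +kernel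
theorem chkF_3355000 : allRangeF (checkFactF cert) (nat_lit 3355000) (nat_lit 1000) = true := by decide +kernel
theorem chkF_3356000 : allRangeF (checkFactF cert) (nat_lit 3356000) (nat_lit 1000) = true := by decide +kernel
theorem chkF_3357000 : allRangeF (checkFactF cert) (nat_lit 3357000) (nat_lit 1000) = true := by decide +kernel
theorem chkF_3358000 : allRangeF (checkFactF cert) (nat_lit 3358000) (nat_lit 1000) = true := by decide +kernel
theorem chkF_3359000 : allRangeF (checkFactF cert) (nat_lit 3359000) (nat_lit 1000) = true := by decide +kernel
theorem chkF_3360000 : allRangeF (checkFactF cert) (nat_lit 3360000) (nat_lit 1000) = true := by decide +kernel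
theorem chkF_3361000 : allRangeF (checkFactF cert) (nat_lit 3361000) (nat_lit 1000) = true := by decide +kernel
theorem chkF_3362000 : allRangeF (checkFactF cert) (nat_lit 3362000) (nat_lit 1000) = true := by decide +kernel
theorem chkF_3363000 : allRangeF (checkFactF cert) (nat_lit 3363000) (nat_lit 1000) = true := by decide +kernel
theorem chkF_3364000 : allRangeF (checkFactF cert) (nat_lit 3364000) (nat_lit 1000) = true := by decide +kernel
theorem chkF_3365000 : allRangeF (checkFactF cert) (nat_lit 3365000) (nat_lit 1000) = true := by decide +kernel

theorem factsRange_33 : ∀ i, 3267000 ≤ i → i < 3366000 → checkFact cert i = true := by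
  intro i hlo hhi
  rcases Nat.lt_or_ge i 3316000 with h1 | h1
  · skip
    rcases Nat.lt_or_ge i 3291000 with h2 | h2
    · skip
      rcases Nat.lt_or_ge i 3279000 with h3 | h3
      · skip
        rcases Nat.lt_or_ge i 3273000 with h4 | h4
        · skip
          rcases Nat.lt_or_ge i 3270000 with h5 | h5
          · skip
            rcases Nat.lt_or_ge i 3268000 with h6 | h6
            · skip
              exact allRangeF_sound _ _ (checkFactF_eq cert) 3267000 1000 chkF_3267000 i (by omega) (by omega)
            · skip
              rcases Nat.lt_or_ge i 3269000 with h7 | h7
              · skip
                exact allRangeF_sound _ _ (checkFactF_eq cert) 3268000 1000 chkF_3268000 i (by omega) (by omega)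
              · skip
                exact allRangeF_sound _ _ (checkFactF_eq cert) 3269000 1000 chkF_3269000 i (by omega) (by omega)
          · skip
            rcases Nat.lt_or_ge i 3271000 with h6 | h6
            · skip
              exact allRangeF_sound _ _ (checkFactF_eq cert) 3270000 1000 chkF_3270000 i (by omega) (by omega)
            · skip
              rcases Nat.lt_or_ge i 3272000 with h7 | h7
              · skip
                exact allRangeF_sound _ _ (checkFactF_eq cert) 3271000 1000 chkF_3271000 i (by omega) (by omega)
              · skip
                exact allRangeF_sound _ _ (checkFactF_eq cert) 3272000 1000 chkF_3272000 i (by omega) (by omega)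
        · skip
          rcases Nat.lt_or_ge i 3276000 with h5 | h5
          · skip
            rcases Nat.lt_or_ge i 3274000 with h6 | h6
            · skip
              exact allRangeF_sound _ _ (checkFactF_eq cert) 3273000 1000 chkF_3273000 i (by omega) (by omega)
            · skip
              rcases Nat.lt_or_ge i 3275000 with h7 | h7
              · skip
                exact allRangeF_sound _ _ (checkFactF_eq cert) 3274000 1000 chkF_3274000 i (by omega) (by omega)
              · skip
                exact allRangeF_sound _ _ (checkFactF_eq cert) 3275000 1000 chkF_3275000 i (by omega) (by omega)
          · skip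
            rcases Nat.lt_or_ge i 3277000 with h6 | h6
            · skip
              exact allRangeF_sound _ _ (checkFactF_eq cert) 3276000 1000 chkF_3276000 i (by omega) (by omega)
            · skip
              rcases Nat.lt_or_ge i 3278000 with h7 | h7
              · skip
                exact allRangeF_sound _ _ (checkFactF_eq cert) 3277000 1000 chkF_3277000 i (by omega) (by omega)
              · skip
                exact allRangeF_sound _ _ (checkFactF_eq cert) 3278000 1000 chkF_3278000 i (by omega) (by omega)
      · skip
        rcases Nat.lt_or_ge i 3285000 with h4 | h4
        · skip
          rcases Nat.lt_or_ge i 3282000 with h5 | h5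
          · skip
            rcases Nat.lt_or_ge i 3280000 with h6 | h6
            · skip
              exact allRangeF_sound _ _ (checkFactF_eq cert) 3279000 1000 chkF_3279000 i (by omega) (by omega)
            · skip
              rcases Nat.lt_or_ge i 3281000 with h7 | h7
              · skip
                exact allRangeF_sound _ _ (checkFactF_eq cert) 3280000 1000 chkF_3280000 i (by omega) (by omega)
              · skip
                exact allRangeF_sound _ _ (checkFactF_eq cert) 3281000 1000 chkF_3281000 i (by omega) (by omega)
          · skip
            rcases Nat.lt_or_ge i 3283000 with h6 | h6
            · skip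
              exact allRangeF_sound _ _ (checkFactF_eq cert) 3282000 1000 chkF_3282000 i (by omega) (by omega)
            · skip
              rcases Nat.lt_or_ge i 3284000 with h7 | h7
              · skip
                exact allRangeF_sound _ _ (checkFactF_eq cert) 3283000 1000 chkF_3283000 i (by omega) (by omega)
              · skip
                exact allRangeF_sound _ _ (checkFactF_eq cert) 3284000 1000 chkF_3284000 i (by omega) (by omega)
        · skip
          rcases Nat.lt_or_ge i 3288000 with h5 | h5
          · skip
            rcases Nat.lt_or_ge i 3286000 with h6 | h6
            · skip
              exact allRangeF_sound _ _ (checkFactF_eq cert) 3285000 1000 chkF_3285000 i (by omega) (by omega)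
            · skip
              rcases Nat.lt_or_ge i 3287000 with h7 | h7
              · skip
                exact allRangeF_sound _ _ (checkFactF_eq cert) 3286000 1000 chkF_3286000 i (by omega) (by omega)
              · skip
                exact allRangeF_sound _ _ (checkFactF_eq cert) 3287000 1000 chkF_3287000 i (by omega) (by omega)
          · skip
            rcases Nat.lt_or_ge i 3289000 with h6 | h6
            · skip
              exact allRangeF_sound _ _ (checkFactF_eq cert) 3288000 1000 chkF_3288000 i (by omega) (by omega)
            · skip
              rcases Nat.lt_or_ge i 3290000 with h7 | h7
              · skip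
                exact allRangeF_sound _ _ (checkFactF_eq cert) 3289000 1000 chkF_3289000 i (by omega) (by omega)
              · skip
                exact allRangeF_sound _ _ (checkFactF_eq cert) 3290000 1000 chkF_3290000 i (by omega) (by omega)
    · skip
      rcases Nat.lt_or_ge i 3303000 with h3 | h3
      · skip
        rcases Nat.lt_or_ge i 3297000 with h4 | h4
        · skip
          rcases Nat.lt_or_ge i 3294000 with h5 | h5
          · skip
            rcases Nat.lt_or_ge i 3292000 with h6 | h6
            · skip
              exact allRangeF_sound _ _ (checkFactF_eq cert) 3291000 1000 chkF_3291000 i (by omega) (by omega)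
            · skip
              rcases Nat.lt_or_ge i 3293000 with h7 | h7
              · skip
                exact allRangeF_sound _ _ (checkFactF_eq cert) 3292000 1000 chkF_3292000 i (by omega) (by omega)
              · skip
                exact allRangeF_sound _ _ (checkFactF_eq cert) 3293000 1000 chkF_3293000 i (by omega) (by omega)
          · skip
            rcases Nat.lt_or_ge i 3295000 with h6 | h6
            · skip
              exact allRangeF_sound _ _ (checkFactF_eq cert) 3294000 1000 chkF_3294000 i (by omega) (by omega)
            · skip
              rcases Nat.lt_or_ge i 3296000 with h7 | h7
              · skip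
                exact allRangeF_sound _ _ (checkFactF_eq cert) 3295000 1000 chkF_3295000 i (by omega) (by omega)
              · skip
                exact allRangeF_sound _ _ (checkFactF_eq cert) 3296000 1000 chkF_3296000 i (by omega) (by omega)
        · skip
          rcases Nat.lt_or_ge i 3300000 with h5 | h5
          · skip
            rcases Nat.lt_or_ge i 3298000 with h6 | h6
            · skip
              exact allRangeF_sound _ _ (checkFactF_eq cert) 3297000 1000 chkF_3297000 i (by omega) (by omega)
            · skip
              rcases Nat.lt_or_ge i 3299000 with h7 | h7
              · skip
                exact allRangeF_sound _ _ (checkFactF_eq cert) 3298000 1000 chkF_3298000 i (by omega) (by omega)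
              · skip
                exact allRangeF_sound _ _ (checkFactF_eq cert) 3299000 1000 chkF_3299000 i (by omega) (by omega)
          · skip
            rcases Nat.lt_or_ge i 3301000 with h6 | h6
            · skip
              exact allRangeF_sound _ _ (checkFactF_eq cert) 3300000 1000 chkF_3300000 i (by omega) (by omega)
            · skip
              rcases Nat.lt_or_ge i 3302000 with h7 | h7
              · skip
                exact allRangeF_sound _ _ (checkFactF_eq cert) 3301000 1000 chkF_3301000 i (by omega) (by omega)
              · skip
                exact allRangeF_sound _ _ (checkFactF_eq cert) 3302000 1000 chkF_3302000 i (by omega) (by omega)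
      · skip
        rcases Nat.lt_or_ge i 3309000 with h4 | h4
        · skip
          rcases Nat.lt_or_ge i 3306000 with h5 | h5
          · skip
            rcases Nat.lt_or_ge i 3304000 with h6 | h6
            · skip
              exact allRangeF_sound _ _ (checkFactF_eq cert) 3303000 1000 chkF_3303000 i (by omega) (by omega)
            · skip
              rcases Nat.lt_or_ge i 3305000 with h7 | h7
              · skip
                exact allRangeF_sound _ _ (checkFactF_eq cert) 3304000 1000 chkF_3304000 i (by omega) (by omega)
              · skip
                exact allRangeF_sound _ _ (checkFactF_eq cert) 3305000 1000 chkF_3305000 i (by omega) (by omega)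
          · skip
            rcases Nat.lt_or_ge i 3307000 with h6 | h6
            · skip
              exact allRangeF_sound _ _ (checkFactF_eq cert) 3306000 1000 chkF_3306000 i (by omega) (by omega)
            · skip
              rcases Nat.lt_or_ge i 3308000 with h7 | h7
              · skip
                exact allRangeF_sound _ _ (checkFactF_eq cert) 3307000 1000 chkF_3307000 i (by omega) (by omega)
              · skip
                exact allRangeF_sound _ _ (checkFactF_eq cert) 3308000 1000 chkF_3308000 i (by omega) (by omega)
        · skip
          rcases Nat.lt_or_ge i 3312000 with h5 | h5
          · skip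
            rcases Nat.lt_or_ge i 3310000 with h6 | h6
            · skip
              exact allRangeF_sound _ _ (checkFactF_eq cert) 3309000 1000 chkF_3309000 i (by omega) (by omega)
            · skip
              rcases Nat.lt_or_ge i 3311000 with h7 | h7
              · skip
                exact allRangeF_sound _ _ (checkFactF_eq cert) 3310000 1000 chkF_3310000 i (by omega) (by omega)
              · skip
                exact allRangeF_sound _ _ (checkFactF_eq cert) 3311000 1000 chkF_3311000 i (by omega) (by omega)
          · skip
            rcases Nat.lt_or_ge i 3314000 with h6 | h6
            · skip
              rcases Nat.lt_or_ge i 3313000 with h7 | h7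
              · skip
                exact allRangeF_sound _ _ (checkFactF_eq cert) 3312000 1000 chkF_3312000 i (by omega) (by omega)
              · skip
                exact allRangeF_sound _ _ (checkFactF_eq cert) 3313000 1000 chkF_3313000 i (by omega) (by omega)
            · skip
              rcases Nat.lt_or_ge i 3315000 with h7 | h7
              · skip
                exact allRangeF_sound _ _ (checkFactF_eq cert) 3314000 1000 chkF_3314000 i (by omega) (by omega)
              · skip
                exact allRangeF_sound _ _ (checkFactF_eq cert) 3315000 1000 chkF_3315000 i (by omega) (by omega)
  · skip
    rcases Nat.lt_or_ge i 3341000 with h2 | h2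
    · skip
      rcases Nat.lt_or_ge i 3328000 with h3 | h3
      · skip
        rcases Nat.lt_or_ge i 3322000 with h4 | h4
        · skip
          rcases Nat.lt_or_ge i 3319000 with h5 | h5
          · skip
            rcases Nat.lt_or_ge i 3317000 with h6 | h6
            · skip
              exact allRangeF_sound _ _ (checkFactF_eq cert) 3316000 1000 chkF_3316000 i (by omega) (by omega)
            · skip
              rcases Nat.lt_or_ge i 3318000 with h7 | h7
              · skip
                exact allRangeF_sound _ _ (checkFactF_eq cert) 3317000 1000 chkF_3317000 i (by omega) (by omega)
              · skip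
                exact allRangeF_sound _ _ (checkFactF_eq cert) 3318000 1000 chkF_3318000 i (by omega) (by omega)
          · skip
            rcases Nat.lt_or_ge i 3320000 with h6 | h6
            · skip
              exact allRangeF_sound _ _ (checkFactF_eq cert) 3319000 1000 chkF_3319000 i (by omega) (by omega)
            · skip
              rcases Nat.lt_or_ge i 3321000 with h7 | h7
              · skip
                exact allRangeF_sound _ _ (checkFactF_eq cert) 3320000 1000 chkF_3320000 i (by omega) (by omega)
              · skip
                exact allRangeF_sound _ _ (checkFactF_eq cert) 3321000 1000 chkF_3321000 i (by omega) (by omega)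
        · skip
          rcases Nat.lt_or_ge i 3325000 with h5 | h5
          · skip
            rcases Nat.lt_or_ge i 3323000 with h6 | h6
            · skip
              exact allRangeF_sound _ _ (checkFactF_eq cert) 3322000 1000 chkF_3322000 i (by omega) (by omega)
            · skip
              rcases Nat.lt_or_ge i 3324000 with h7 | h7
              · skip
                exact allRangeF_sound _ _ (checkFactF_eq cert) 3323000 1000 chkF_3323000 i (by omega) (by omega)
              · skip
                exact allRangeF_sound _ _ (checkFactF_eq cert) 3324000 1000 chkF_3324000 i (by omega) (by omega)
          · skip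
            rcases Nat.lt_or_ge i 3326000 with h6 | h6
            · skip
              exact allRangeF_sound _ _ (checkFactF_eq cert) 3325000 1000 chkF_3325000 i (by omega) (by omega)
            · skip
              rcases Nat.lt_or_ge i 3327000 with h7 | h7
              · skip
                exact allRangeF_sound _ _ (checkFactF_eq cert) 3326000 1000 chkF_3326000 i (by omega) (by omega)
              · skip
                exact allRangeF_sound _ _ (checkFactF_eq cert) 3327000 1000 chkF_3327000 i (by omega) (by omega)
      · skip
        rcases Nat.lt_or_ge i 3334000 with h4 | h4
        · skip
          rcases Nat.lt_or_ge i 3331000 with h5 | h5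
          · skip
            rcases Nat.lt_or_ge i 3329000 with h6 | h6
            · skip
              exact allRangeF_sound _ _ (checkFactF_eq cert) 3328000 1000 chkF_3328000 i (by omega) (by omega)
            · skip
              rcases Nat.lt_or_ge i 3330000 with h7 | h7
              · skip
                exact allRangeF_sound _ _ (checkFactF_eq cert) 3329000 1000 chkF_3329000 i (by omega) (by omega)
              · skip
                exact allRangeF_sound _ _ (checkFactF_eq cert) 3330000 1000 chkF_3330000 i (by omega) (by omega)
          · skip
            rcases Nat.lt_or_ge i 3332000 with h6 | h6
            · skip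
              exact allRangeF_sound _ _ (checkFactF_eq cert) 3331000 1000 chkF_3331000 i (by omega) (by omega)
            · skip
              rcases Nat.lt_or_ge i 3333000 with h7 | h7
              · skip
                exact allRangeF_sound _ _ (checkFactF_eq cert) 3332000 1000 chkF_3332000 i (by omega) (by omega)
              · skip
                exact allRangeF_sound _ _ (checkFactF_eq cert) 3333000 1000 chkF_3333000 i (by omega) (by omega)
        · skip
          rcases Nat.lt_or_ge i 3337000 with h5 | h5
          · skip
            rcases Nat.lt_or_ge i 3335000 with h6 | h6
            · skip
              exact allRangeF_sound _ _ (checkFactF_eq cert) 3334000 1000 chkF_3334000 i (by omega) (by omega)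
            · skip
              rcases Nat.lt_or_ge i 3336000 with h7 | h7
              · skip
                exact allRangeF_sound _ _ (checkFactF_eq cert) 3335000 1000 chkF_3335000 i (by omega) (by omega)
              · skip
                exact allRangeF_sound _ _ (checkFactF_eq cert) 3336000 1000 chkF_3336000 i (by omega) (by omega)
          · skip
            rcases Nat.lt_or_ge i 3339000 with h6 | h6
            · skip
              rcases Nat.lt_or_ge i 3338000 with h7 | h7
              · skip
                exact allRangeF_sound _ _ (checkFactF_eq cert) 3337000 1000 chkF_3337000 i (by omega) (by omega)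
              · skip
                exact allRangeF_sound _ _ (checkFactF_eq cert) 3338000 1000 chkF_3338000 i (by omega) (by omega)
            · skip
              rcases Nat.lt_or_ge i 3340000 with h7 | h7
              · skip
                exact allRangeF_sound _ _ (checkFactF_eq cert) 3339000 1000 chkF_3339000 i (by omega) (by omega)
              · skip
                exact allRangeF_sound _ _ (checkFactF_eq cert) 3340000 1000 chkF_3340000 i (by omega) (by omega)
    · skip
      rcases Nat.lt_or_ge i 3353000 with h3 | h3
      · skip
        rcases Nat.lt_or_ge i 3347000 with h4 | h4
        · skip
          rcases Nat.lt_or_ge i 3344000 with h5 | h5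
          · skip
            rcases Nat.lt_or_ge i 3342000 with h6 | h6
            · skip
              exact allRangeF_sound _ _ (checkFactF_eq cert) 3341000 1000 chkF_3341000 i (by omega) (by omega)
            · skip
              rcases Nat.lt_or_ge i 3343000 with h7 | h7
              · skip
                exact allRangeF_sound _ _ (checkFactF_eq cert) 3342000 1000 chkF_3342000 i (by omega) (by omega)
              · skip
                exact allRangeF_sound _ _ (checkFactF_eq cert) 3343000 1000 chkF_3343000 i (by omega) (by omega)
          · skip
            rcases Nat.lt_or_ge i 3345000 with h6 | h6
            · skip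
              exact allRangeF_sound _ _ (checkFactF_eq cert) 3344000 1000 chkF_3344000 i (by omega) (by omega)
            · skip
              rcases Nat.lt_or_ge i 3346000 with h7 | h7
              · skip
                exact allRangeF_sound _ _ (checkFactF_eq cert) 3345000 1000 chkF_3345000 i (by omega) (by omega)
              · skip
                exact allRangeF_sound _ _ (checkFactF_eq cert) 3346000 1000 chkF_3346000 i (by omega) (by omega)
        · skip
          rcases Nat.lt_or_ge i 3350000 with h5 | h5
          · skip
            rcases Nat.lt_or_ge i 3348000 with h6 | h6
            · skip
              exact allRangeF_sound _ _ (checkFactF_eq cert) 3347000 1000 chkF_3347000 i (by omega) (by omega)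
            · skip
              rcases Nat.lt_or_ge i 3349000 with h7 | h7
              · skip
                exact allRangeF_sound _ _ (checkFactF_eq cert) 3348000 1000 chkF_3348000 i (by omega) (by omega)
              · skip
                exact allRangeF_sound _ _ (checkFactF_eq cert) 3349000 1000 chkF_3349000 i (by omega) (by omega)
          · skip
            rcases Nat.lt_or_ge i 3351000 with h6 | h6
            · skip
              exact allRangeF_sound _ _ (checkFactF_eq cert) 3350000 1000 chkF_3350000 i (by omega) (by omega)
            · skip
              rcases Nat.lt_or_ge i 3352000 with h7 | h7
              · skip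
                exact allRangeF_sound _ _ (checkFactF_eq cert) 3351000 1000 chkF_3351000 i (by omega) (by omega)
              · skip
                exact allRangeF_sound _ _ (checkFactF_eq cert) 3352000 1000 chkF_3352000 i (by omega) (by omega)
      · skip
        rcases Nat.lt_or_ge i 3359000 with h4 | h4
        · skip
          rcases Nat.lt_or_ge i 3356000 with h5 | h5
          · skip
            rcases Nat.lt_or_ge i 3354000 with h6 | h6
            · skip
              exact allRangeF_sound _ _ (checkFactF_eq cert) 3353000 1000 chkF_3353000 i (by omega) (by omega)
            · skip
              rcases Nat.lt_or_ge i 3355000 with h7 | h7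
              · skip
                exact allRangeF_sound _ _ (checkFactF_eq cert) 3354000 1000 chkF_3354000 i (by omega) (by omega)
              · skip
                exact allRangeF_sound _ _ (checkFactF_eq cert) 3355000 1000 chkF_3355000 i (by omega) (by omega)
          · skip
            rcases Nat.lt_or_ge i 3357000 with h6 | h6
            · skip
              exact allRangeF_sound _ _ (checkFactF_eq cert) 3356000 1000 chkF_3356000 i (by omega) (by omega)
            · skip
              rcases Nat.lt_or_ge i 3358000 with h7 | h7
              · skip
                exact allRangeF_sound _ _ (checkFactF_eq cert) 3357000 1000 chkF_3357000 i (by omega) (by omega)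
              · skip
                exact allRangeF_sound _ _ (checkFactF_eq cert) 3358000 1000 chkF_3358000 i (by omega) (by omega)
        · skip
          rcases Nat.lt_or_ge i 3362000 with h5 | h5
          · skip
            rcases Nat.lt_or_ge i 3360000 with h6 | h6
            · skip
              exact allRangeF_sound _ _ (checkFactF_eq cert) 3359000 1000 chkF_3359000 i (by omega) (by omega)
            · skip
              rcases Nat.lt_or_ge i 3361000 with h7 | h7
              · skip
                exact allRangeF_sound _ _ (checkFactF_eq cert) 3360000 1000 chkF_3360000 i (by omega) (by omega)
              · skip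
                exact allRangeF_sound _ _ (checkFactF_eq cert) 3361000 1000 chkF_3361000 i (by omega) (by omega)
          · skip
            rcases Nat.lt_or_ge i 3364000 with h6 | h6
            · skip
              rcases Nat.lt_or_ge i 3363000 with h7 | h7
              · skip
                exact allRangeF_sound _ _ (checkFactF_eq cert) 3362000 1000 chkF_3362000 i (by omega) (by omega)
              · skip
                exact allRangeF_sound _ _ (checkFactF_eq cert) 3363000 1000 chkF_3363000 i (by omega) (by omega)
            · skip
              rcases Nat.lt_or_ge i 3365000 with h7 | h7
              · skip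
                exact allRangeF_sound _ _ (checkFactF_eq cert) 3364000 1000 chkF_3364000 i (by omega) (by omega)
              · skip
                exact allRangeF_sound _ _ (checkFactF_eq cert) 3365000 1000 chkF_3365000 i (by omega) (by omega)

end Cfsg.Agent.Lib.Helper28.Fi24Data
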