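import Cfsg.Agent.Lib.Helper28.Fi24Data
import Cfsg.Agent.Lib.Helper28.TCFastFB

set_option autoImplicit false
set_option maxRecDepth 1000000
set_option linter.all false
set_option Elab.async false

namespace Cfsg.Agent.Lib.Helper28.Fi24Data

open Cfsg.Agent.Lib.Helper28B

theorem chkF_3465000 : allRangeF (checkFactF cert) (nat_lit 3465000) (nat_lit 1000) = true := by decide +kernel
theorem chkF_3466000 : allRangeF (checkFactF cert) (nat_lit 3466000) (nat_lit 1000) = true := by decide +kernel
theorem chkF_3467000 : allRangeF (checkFactF cert) (nat_lit 3467000) (nat_lit 1000) = true := by decide +kernel
theorem chkF_3468000 : allRangeF (checkFactF cert) (nat_lit 3468000) (nat_lit 1000) = true := by decide +kernel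
theorem chkF_3469000 : allRangeF (checkFactF cert) (nat_lit 3469000) (nat_lit 1000) = true := by decide +kernel
theorem chkF_3470000 : allRangeF (checkFactF cert) (nat_lit 3470000) (nat_lit 1000) = true := by decide +kernel
theorem chkF_3471000 : allRangeF (checkFactF cert) (nat_lit 3471000) (nat_lit 1000) = true := by decide +kernel
theorem chkF_3472000 : allRangeF (checkFactF cert) (nat_lit 3472000) (nat_lit 1000) = true := by decide +kernel
theorem chkF_3473000 : allRangeF (checkFactF cert) (nat_lit 3473000) (nat_lit 1000) = true := by decide +kernel
theorem chkF_3474000 : allRangeF (checkFactF cert) (nat_lit 3474000) (nat_lit 1000) = true := by decide +kernel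
theorem chkF_3475000 : allRangeF (checkFactF cert) (nat_lit 3475000) (nat_lit 1000) = true := by decide +kernel
theorem chkF_3476000 : allRangeF (checkFactF cert) (nat_lit 3476000) (nat_lit 1000) = true := by decide +kernel
theorem chkF_3477000 : allRangeF (checkFactF cert) (nat_lit 3477000) (nat_lit 1000) = true := by decide +kernel
theorem chkF_3478000 : allRangeF (checkFactF cert) (nat_lit 3478000) (nat_lit 1000) = true := by decide +kernel
theorem chkF_3479000 : allRangeF (checkFactF cert) (nat_lit 3479000) (nat_lit 1000) = true := by decide +kernel
theorem chkF_3480000 : allRangeF (checkFactF cert) (nat_lit 3480000) (nat_lit 1000) = true := by decide +kernel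
theorem chkF_3481000 : allRangeF (checkFactF cert) (nat_lit 3481000) (nat_lit 1000) = true := by decide +kernel
theorem chkF_3482000 : allRangeF (checkFactF cert) (nat_lit 3482000) (nat_lit 1000) = true := by decide +kernel
theorem chkF_3483000 : allRangeF (checkFactF cert) (nat_lit 3483000) (nat_lit 1000) = true := by decide +kernel
theorem chkF_3484000 : allRangeF (checkFactF cert) (nat_lit 3484000) (nat_lit 1000) = true := by decide +kernel
theorem chkF_3485000 : allRangeF (checkFactF cert) (nat_lit 3485000) (nat_lit 1000) = true := by decide +kernel
theorem chkF_3486000 : allRangeF (checkFactF cert) (nat_lit 3486000) (nat_lit 1000) = true := by decide +kernel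
theorem chkF_3487000 : allRangeF (checkFactF cert) (nat_lit 3487000) (nat_lit 1000) = true := by decide +kernel
theorem chkF_3488000 : allRangeF (checkFactF cert) (nat_lit 3488000) (nat_lit 1000) = true := by decide +kernel
theorem chkF_3489000 : allRangeF (checkFactF cert) (nat_lit 3489000) (nat_lit 1000) = true := by decide +kernel
theorem chkF_3490000 : allRangeF (checkFactF cert) (nat_lit 3490000) (nat_lit 1000) = true := by decide +kernel
theorem chkF_3491000 : allRangeF (checkFactF cert) (nat_lit 3491000) (nat_lit 1000) = true := by decide +kernel
theorem chkF_3492000 : allRangeF (checkFactF cert) (nat_lit 3492000) (nat_lit 1000) = true := by decide +kernel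
theorem chkF_3493000 : allRangeF (checkFactF cert) (nat_lit 3493000) (nat_lit 1000) = true := by decide +kernel
theorem chkF_3494000 : allRangeF (checkFactF cert) (nat_lit 3494000) (nat_lit 1000) = true := by decide +kernel
theorem chkF_3495000 : allRangeF (checkFactF cert) (nat_lit 3495000) (nat_lit 1000) = true := by decide +kernel
theorem chkF_3496000 : allRangeF (checkFactF cert) (nat_lit 3496000) (nat_lit 1000) = true := by decide +kernel
theorem chkF_3497000 : allRangeF (checkFactF cert) (nat_lit 3497000) (nat_lit 1000) = true := by decide +kernel
theorem chkF_3498000 : allRangeF (checkFactF cert) (nat_lit 3498000) (nat_lit 1000) = true := by decide +kernel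
theorem chkF_3499000 : allRangeF (checkFactF cert) (nat_lit 3499000) (nat_lit 1000) = true := by decide +kernel
theorem chkF_3500000 : allRangeF (checkFactF cert) (nat_lit 3500000) (nat_lit 1000) = true := by decide +kernel
theorem chkF_3501000 : allRangeF (checkFactF cert) (nat_lit 3501000) (nat_lit 1000) = true := by decide +kernel
theorem chkF_3502000 : allRangeF (checkFactF cert) (nat_lit 3502000) (nat_lit 1000) = true := by decide +kernel
theorem chkF_3503000 : allRangeF (checkFactF cert) (nat_lit 3503000) (nat_lit 1000) = true := by decide +kernel
theorem chkF_3504000 : allRangeF (checkFactF cert) (nat_lit 3504000) (nat_lit 1000) = true := by decide +kernel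
theorem chkF_3505000 : allRangeF (checkFactF cert) (nat_lit 3505000) (nat_lit 1000) = true := by decide +kernel
theorem chkF_3506000 : allRangeF (checkFactF cert) (nat_lit 3506000) (nat_lit 1000) = true := by decide +kernel
theorem chkF_3507000 : allRangeF (checkFactF cert) (nat_lit 3507000) (nat_lit 1000) = true := by decide +kernel
theorem chkF_3508000 : allRangeF (checkFactF cert) (nat_lit 3508000) (nat_lit 1000) = true := by decide +kernel
theorem chkF_3509000 : allRangeF (checkFactF cert) (nat_lit 3509000) (nat_lit 1000) = true := by decide +kernel
theorem chkF_3510000 : allRangeF (checkFactF cert) (nat_lit 3510000) (nat_lit 1000) = true := by decide +kernel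
theorem chkF_3511000 : allRangeF (checkFactF cert) (nat_lit 3511000) (nat_lit 1000) = true := by decide +kernel
theorem chkF_3512000 : allRangeF (checkFactF cert) (nat_lit 3512000) (nat_lit 1000) = true := by decide +kernel
theorem chkF_3513000 : allRangeF (checkFactF cert) (nat_lit 3513000) (nat_lit 1000) = true := by decide +kernel
theorem chkF_3514000 : allRangeF (checkFactF cert) (nat_lit 3514000) (nat_lit 1000) = true := by decide +kernel
theorem chkF_3515000 : allRangeF (checkFactF cert) (nat_lit 3515000) (nat_lit 1000) = true := by decide +kernel
theorem chkF_3516000 : allRangeF (checkFactF cert) (nat_lit 3516000) (nat_lit 1000) = true := by decide +kernel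
theorem chkF_3517000 : allRangeF (checkFactF cert) (nat_lit 3517000) (nat_lit 1000) = true := by decide +kernel
theorem chkF_3518000 : allRangeF (checkFactF cert) (nat_lit 3518000) (nat_lit 1000) = true := by decide +kernel
theorem chkF_3519000 : allRangeF (checkFactF cert) (nat_lit 3519000) (nat_lit 1000) = true := by decide +kernel
theorem chkF_3520000 : allRangeF (checkFactF cert) (nat_lit 3520000) (nat_lit 1000) = true := by decide +kernel
theorem chkF_3521000 : allRangeF (checkFactF cert) (nat_lit 3521000) (nat_lit 1000) = true := by decide +kernel
theorem chkF_3522000 : allRangeF (checkFactF cert) (nat_lit 3522000) (nat_lit 1000) = true := by decide +kernel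
theorem chkF_3523000 : allRangeF (checkFactF cert) (nat_lit 3523000) (nat_lit 1000) = true := by decide +kernel
theorem chkF_3524000 : allRangeF (checkFactF cert) (nat_lit 3524000) (nat_lit 1000) = true := by decide +kernel
theorem chkF_3525000 : allRangeF (checkFactF cert) (nat_lit 3525000) (nat_lit 1000) = true := by decide +kernel
theorem chkF_3526000 : allRangeF (checkFactF cert) (nat_lit 3526000) (nat_lit 1000) = true := by decide +kernel
theorem chkF_3527000 : allRangeF (checkFactF cert) (nat_lit 3527000) (nat_lit 1000) = true := by decide +kernel
theorem chkF_3528000 : allRangeF (checkFactF cert) (nat_lit 3528000) (nat_lit 1000) = true := by decide +kernel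
theorem chkF_3529000 : allRangeF (checkFactF cert) (nat_lit 3529000) (nat_lit 1000) = true := by decide +kernel
theorem chkF_3530000 : allRangeF (checkFactF cert) (nat_lit 3530000) (nat_lit 1000) = true := by decide +kernel
theorem chkF_3531000 : allRangeF (checkFactF cert) (nat_lit 3531000) (nat_lit 1000) = true := by decide +kernel
theorem chkF_3532000 : allRangeF (checkFactF cert) (nat_lit 3532000) (nat_lit 1000) = true := by decide +kernel
theorem chkF_3533000 : allRangeF (checkFactF cert) (nat_lit 3533000) (nat_lit 1000) = true := by decide +kernel
theorem chkF_3534000 : allRangeF (checkFactF cert) (nat_lit 3534000) (nat_lit 1000) = true := by decide +kernel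
theorem chkF_3535000 : allRangeF (checkFactF cert) (nat_lit 3535000) (nat_lit 1000) = true := by decide +kernel
theorem chkF_3536000 : allRangeF (checkFactF cert) (nat_lit 3536000) (nat_lit 1000) = true := by decide +kernel
theorem chkF_3537000 : allRangeF (checkFactF cert) (nat_lit 3537000) (nat_lit 1000) = true := by decide +kernel
theorem chkF_3538000 : allRangeF (checkFactF cert) (nat_lit 3538000) (nat_lit 1000) = true := by decide +kernel
theorem chkF_3539000 : allRangeF (checkFactF cert) (nat_lit 3539000) (nat_lit 1000) = true := by decide +kernel
theorem chkF_3540000 : allRangeF (checkFactF cert) (nat_lit 3540000) (nat_lit 1000) = true := by decide +kernel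
theorem chkF_3541000 : allRangeF (checkFactF cert) (nat_lit 3541000) (nat_lit 1000) = true := by decide +kernel
theorem chkF_3542000 : allRangeF (checkFactF cert) (nat_lit 3542000) (nat_lit 1000) = true := by decide +kernel
theorem chkF_3543000 : allRangeF (checkFactF cert) (nat_lit 3543000) (nat_lit 1000) = true := by decide +kernel
theorem chkF_3544000 : allRangeF (checkFactF cert) (nat_lit 3544000) (nat_lit 1000) = true := by decide +kernel
theorem chkF_3545000 : allRangeF (checkFactF cert) (nat_lit 3545000) (nat_lit 1000) = true := by decide +kernel
theorem chkF_3546000 : allRangeF (checkFactF cert) (nat_lit 3546000) (nat_lit 1000) = true := by decide +kernel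
theorem chkF_3547000 : allRangeF (checkFactF cert) (nat_lit 3547000) (nat_lit 1000) = true := by decide +kernel
theorem chkF_3548000 : allRangeF (checkFactF cert) (nat_lit 3548000) (nat_lit 1000) = true := by decide +kernel
theorem chkF_3549000 : allRangeF (checkFactF cert) (nat_lit 3549000) (nat_lit 1000) = true := by decide +kernel
theorem chkF_3550000 : allRangeF (checkFactF cert) (nat_lit 3550000) (nat_lit 1000) = true := by decide +kernel
theorem chkF_3551000 : allRangeF (checkFactF cert) (nat_lit 3551000) (nat_lit 1000) = true := by decide +kernel
theorem chkF_3552000 : allRangeF (checkFactF cert) (nat_lit 3552000) (nat_lit 1000) = true := by decide +kernel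
theorem chkF_3553000 : allRangeF (checkFactF cert) (nat_lit 3553000) (nat_lit 1000) = true := by decide +kernel
theorem chkF_3554000 : allRangeF (checkFactF cert) (nat_lit 3554000) (nat_lit 1000) = true := by decide +kernel
theorem chkF_3555000 : allRangeF (checkFactF cert) (nat_lit 3555000) (nat_lit 1000) = true := by decide +kernel
theorem chkF_3556000 : allRangeF (checkFactF cert) (nat_lit 3556000) (nat_lit 1000) = true := by decide +kernel
theorem chkF_3557000 : allRangeF (checkFactF cert) (nat_lit 3557000) (nat_lit 1000) = true := by decide +kernel
theorem chkF_3558000 : allRangeF (checkFactF cert) (nat_lit 3558000) (nat_lit 1000) = true := by decide +kernel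
theorem chkF_3559000 : allRangeF (checkFactF cert) (nat_lit 3559000) (nat_lit 1000) = true := by decide +kernel
theorem chkF_3560000 : allRangeF (checkFactF cert) (nat_lit 3560000) (nat_lit 1000) = true := by decide +kernel
theorem chkF_3561000 : allRangeF (checkFactF cert) (nat_lit 3561000) (nat_lit 1000) = true := by decide +kernel
theorem chkF_3562000 : allRangeF (checkFactF cert) (nat_lit 3562000) (nat_lit 1000) = true := by decide +kernel
theorem chkF_3563000 : allRangeF (checkFactF cert) (nat_lit 3563000) (nat_lit 1000) = true := by decide +kernel

theorem factsRange_35 : ∀ i, 3465000 ≤ i → i < 3564000 → checkFact cert i = true := by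
  intro i hlo hhi
  rcases Nat.lt_or_ge i 3514000 with h1 | h1
  · skip
    rcases Nat.lt_or_ge i 3489000 with h2 | h2
    · skip
      rcases Nat.lt_or_ge i 3477000 with h3 | h3
      · skip
        rcases Nat.lt_or_ge i 3471000 with h4 | h4
        · skip
          rcases Nat.lt_or_ge i 3468000 with h5 | h5
          · skip
            rcases Nat.lt_or_ge i 3466000 with h6 | h6
            · skip
              exact allRangeF_sound _ _ (checkFactF_eq cert) 3465000 1000 chkF_3465000 i (by omega) (by omega)
            · skip
              rcases Nat.lt_or_ge i 3467000 with h7 | h7
              · skip
                exact allRangeF_sound _ _ (checkFactF_eq cert) 3466000 1000 chkF_3466000 i (by omega) (by omega)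
              · skip
                exact allRangeF_sound _ _ (checkFactF_eq cert) 3467000 1000 chkF_3467000 i (by omega) (by omega)
          · skip
            rcases Nat.lt_or_ge i 3469000 with h6 | h6
            · skip
              exact allRangeF_sound _ _ (checkFactF_eq cert) 3468000 1000 chkF_3468000 i (by omega) (by omega)
            · skip
              rcases Nat.lt_or_ge i 3470000 with h7 | h7
              · skip
                exact allRangeF_sound _ _ (checkFactF_eq cert) 3469000 1000 chkF_3469000 i (by omega) (by omega)
              · skip
                exact allRangeF_sound _ _ (checkFactF_eq cert) 3470000 1000 chkF_3470000 i (by omega) (by omega)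
        · skip
          rcases Nat.lt_or_ge i 3474000 with h5 | h5
          · skip
            rcases Nat.lt_or_ge i 3472000 with h6 | h6
            · skip
              exact allRangeF_sound _ _ (checkFactF_eq cert) 3471000 1000 chkF_3471000 i (by omega) (by omega)
            · skip
              rcases Nat.lt_or_ge i 3473000 with h7 | h7
              · skip
                exact allRangeF_sound _ _ (checkFactF_eq cert) 3472000 1000 chkF_3472000 i (by omega) (by omega)
              · skip
                exact allRangeF_sound _ _ (checkFactF_eq cert) 3473000 1000 chkF_3473000 i (by omega) (by omega)
          · skip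
            rcases Nat.lt_or_ge i 3475000 with h6 | h6
            · skip
              exact allRangeF_sound _ _ (checkFactF_eq cert) 3474000 1000 chkF_3474000 i (by omega) (by omega)
            · skip
              rcases Nat.lt_or_ge i 3476000 with h7 | h7
              · skip
                exact allRangeF_sound _ _ (checkFactF_eq cert) 3475000 1000 chkF_3475000 i (by omega) (by omega)
              · skip
                exact allRangeF_sound _ _ (checkFactF_eq cert) 3476000 1000 chkF_3476000 i (by omega) (by omega)
      · skip
        rcases Nat.lt_or_ge i 3483000 with h4 | h4
        · skip
          rcases Nat.lt_or_ge i 3480000 with h5 | h5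
          · skip
            rcases Nat.lt_or_ge i 3478000 with h6 | h6
            · skip
              exact allRangeF_sound _ _ (checkFactF_eq cert) 3477000 1000 chkF_3477000 i (by omega) (by omega)
            · skip
              rcases Nat.lt_or_ge i 3479000 with h7 | h7
              · skip
                exact allRangeF_sound _ _ (checkFactF_eq cert) 3478000 1000 chkF_3478000 i (by omega) (by omega)
              · skip
                exact allRangeF_sound _ _ (checkFactF_eq cert) 3479000 1000 chkF_3479000 i (by omega) (by omega)
          · skip
            rcases Nat.lt_or_ge i 3481000 with h6 | h6
            · skip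
              exact allRangeF_sound _ _ (checkFactF_eq cert) 3480000 1000 chkF_3480000 i (by omega) (by omega)
            · skip
              rcases Nat.lt_or_ge i 3482000 with h7 | h7
              · skip
                exact allRangeF_sound _ _ (checkFactF_eq cert) 3481000 1000 chkF_3481000 i (by omega) (by omega)
              · skip
                exact allRangeF_sound _ _ (checkFactF_eq cert) 3482000 1000 chkF_3482000 i (by omega) (by omega)
        · skip
          rcases Nat.lt_or_ge i 3486000 with h5 | h5
          · skip
            rcases Nat.lt_or_ge i 3484000 with h6 | h6
            · skip
              exact allRangeF_sound _ _ (checkFactF_eq cert) 3483000 1000 chkF_3483000 i (by omega) (by omega)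
            · skip
              rcases Nat.lt_or_ge i 3485000 with h7 | h7
              · skip
                exact allRangeF_sound _ _ (checkFactF_eq cert) 3484000 1000 chkF_3484000 i (by omega) (by omega)
              · skip
                exact allRangeF_sound _ _ (checkFactF_eq cert) 3485000 1000 chkF_3485000 i (by omega) (by omega)
          · skip
            rcases Nat.lt_or_ge i 3487000 with h6 | h6
            · skip
              exact allRangeF_sound _ _ (checkFactF_eq cert) 3486000 1000 chkF_3486000 i (by omega) (by omega)
            · skip
              rcases Nat.lt_or_ge i 3488000 with h7 | h7
              · skip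
                exact allRangeF_sound _ _ (checkFactF_eq cert) 3487000 1000 chkF_3487000 i (by omega) (by omega)
              · skip
                exact allRangeF_sound _ _ (checkFactF_eq cert) 3488000 1000 chkF_3488000 i (by omega) (by omega)
    · skip
      rcases Nat.lt_or_ge i 3501000 with h3 | h3
      · skip
        rcases Nat.lt_or_ge i 3495000 with h4 | h4
        · skip
          rcases Nat.lt_or_ge i 3492000 with h5 | h5
          · skip
            rcases Nat.lt_or_ge i 3490000 with h6 | h6
            · skip
              exact allRangeF_sound _ _ (checkFactF_eq cert) 3489000 1000 chkF_3489000 i (by omega) (by omega)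
            · skip
              rcases Nat.lt_or_ge i 3491000 with h7 | h7
              · skip
                exact allRangeF_sound _ _ (checkFactF_eq cert) 3490000 1000 chkF_3490000 i (by omega) (by omega)
              · skip
                exact allRangeF_sound _ _ (checkFactF_eq cert) 3491000 1000 chkF_3491000 i (by omega) (by omega)
          · skip
            rcases Nat.lt_or_ge i 3493000 with h6 | h6
            · skip
              exact allRangeF_sound _ _ (checkFactF_eq cert) 3492000 1000 chkF_3492000 i (by omega) (by omega)
            · skip
              rcases Nat.lt_or_ge i 3494000 with h7 | h7
              · skip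
                exact allRangeF_sound _ _ (checkFactF_eq cert) 3493000 1000 chkF_3493000 i (by omega) (by omega)
              · skip
                exact allRangeF_sound _ _ (checkFactF_eq cert) 3494000 1000 chkF_3494000 i (by omega) (by omega)
        · skip
          rcases Nat.lt_or_ge i 3498000 with h5 | h5
          · skip
            rcases Nat.lt_or_ge i 3496000 with h6 | h6
            · skip
              exact allRangeF_sound _ _ (checkFactF_eq cert) 3495000 1000 chkF_3495000 i (by omega) (by omega)
            · skip
              rcases Nat.lt_or_ge i 3497000 with h7 | h7
              · skip
                exact allRangeF_sound _ _ (checkFactF_eq cert) 3496000 1000 chkF_3496000 i (by omega) (by omega)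
              · skip
                exact allRangeF_sound _ _ (checkFactF_eq cert) 3497000 1000 chkF_3497000 i (by omega) (by omega)
          · skip
            rcases Nat.lt_or_ge i 3499000 with h6 | h6
            · skip
              exact allRangeF_sound _ _ (checkFactF_eq cert) 3498000 1000 chkF_3498000 i (by omega) (by omega)
            · skip
              rcases Nat.lt_or_ge i 3500000 with h7 | h7
              · skip
                exact allRangeF_sound _ _ (checkFactF_eq cert) 3499000 1000 chkF_3499000 i (by omega) (by omega)
              · skip
                exact allRangeF_sound _ _ (checkFactF_eq cert) 3500000 1000 chkF_3500000 i (by omega) (by omega)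
      · skip
        rcases Nat.lt_or_ge i 3507000 with h4 | h4
        · skip
          rcases Nat.lt_or_ge i 3504000 with h5 | h5
          · skip
            rcases Nat.lt_or_ge i 3502000 with h6 | h6
            · skip
              exact allRangeF_sound _ _ (checkFactF_eq cert) 3501000 1000 chkF_3501000 i (by omega) (by omega)
            · skip
              rcases Nat.lt_or_ge i 3503000 with h7 | h7
              · skip
                exact allRangeF_sound _ _ (checkFactF_eq cert) 3502000 1000 chkF_3502000 i (by omega) (by omega)
              · skip
                exact allRangeF_sound _ _ (checkFactF_eq cert) 3503000 1000 chkF_3503000 i (by omega) (by omega)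
          · skip
            rcases Nat.lt_or_ge i 3505000 with h6 | h6
            · skip
              exact allRangeF_sound _ _ (checkFactF_eq cert) 3504000 1000 chkF_3504000 i (by omega) (by omega)
            · skip
              rcases Nat.lt_or_ge i 3506000 with h7 | h7
              · skip
                exact allRangeF_sound _ _ (checkFactF_eq cert) 3505000 1000 chkF_3505000 i (by omega) (by omega)
              · skip
                exact allRangeF_sound _ _ (checkFactF_eq cert) 3506000 1000 chkF_3506000 i (by omega) (by omega)
        · skip
          rcases Nat.lt_or_ge i 3510000 with h5 | h5
          · skip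
            rcases Nat.lt_or_ge i 3508000 with h6 | h6
            · skip
              exact allRangeF_sound _ _ (checkFactF_eq cert) 3507000 1000 chkF_3507000 i (by omega) (by omega)
            · skip
              rcases Nat.lt_or_ge i 3509000 with h7 | h7
              · skip
                exact allRangeF_sound _ _ (checkFactF_eq cert) 3508000 1000 chkF_3508000 i (by omega) (by omega)
              · skip
                exact allRangeF_sound _ _ (checkFactF_eq cert) 3509000 1000 chkF_3509000 i (by omega) (by omega)
          · skip
            rcases Nat.lt_or_ge i 3512000 with h6 | h6
            · skip
              rcases Nat.lt_or_ge i 3511000 with h7 | h7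
              · skip
                exact allRangeF_sound _ _ (checkFactF_eq cert) 3510000 1000 chkF_3510000 i (by omega) (by omega)
              · skip
                exact allRangeF_sound _ _ (checkFactF_eq cert) 3511000 1000 chkF_3511000 i (by omega) (by omega)
            · skip
              rcases Nat.lt_or_ge i 3513000 with h7 | h7
              · skip
                exact allRangeF_sound _ _ (checkFactF_eq cert) 3512000 1000 chkF_3512000 i (by omega) (by omega)
              · skip
                exact allRangeF_sound _ _ (checkFactF_eq cert) 3513000 1000 chkF_3513000 i (by omega) (by omega)
  · skip
    rcases Nat.lt_or_ge i 3539000 with h2 | h2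
    · skip
      rcases Nat.lt_or_ge i 3526000 with h3 | h3
      · skip
        rcases Nat.lt_or_ge i 3520000 with h4 | h4
        · skip
          rcases Nat.lt_or_ge i 3517000 with h5 | h5
          · skip
            rcases Nat.lt_or_ge i 3515000 with h6 | h6
            · skip
              exact allRangeF_sound _ _ (checkFactF_eq cert) 3514000 1000 chkF_3514000 i (by omega) (by omega)
            · skip
              rcases Nat.lt_or_ge i 3516000 with h7 | h7
              · skip
                exact allRangeF_sound _ _ (checkFactF_eq cert) 3515000 1000 chkF_3515000 i (by omega) (by omega)
              · skip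
                exact allRangeF_sound _ _ (checkFactF_eq cert) 3516000 1000 chkF_3516000 i (by omega) (by omega)
          · skip
            rcases Nat.lt_or_ge i 3518000 with h6 | h6
            · skip
              exact allRangeF_sound _ _ (checkFactF_eq cert) 3517000 1000 chkF_3517000 i (by omega) (by omega)
            · skip
              rcases Nat.lt_or_ge i 3519000 with h7 | h7
              · skip
                exact allRangeF_sound _ _ (checkFactF_eq cert) 3518000 1000 chkF_3518000 i (by omega) (by omega)
              · skip
                exact allRangeF_sound _ _ (checkFactF_eq cert) 3519000 1000 chkF_3519000 i (by omega) (by omega)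
        · skip
          rcases Nat.lt_or_ge i 3523000 with h5 | h5
          · skip
            rcases Nat.lt_or_ge i 3521000 with h6 | h6
            · skip
              exact allRangeF_sound _ _ (checkFactF_eq cert) 3520000 1000 chkF_3520000 i (by omega) (by omega)
            · skip
              rcases Nat.lt_or_ge i 3522000 with h7 | h7
              · skip
                exact allRangeF_sound _ _ (checkFactF_eq cert) 3521000 1000 chkF_3521000 i (by omega) (by omega)
              · skip
                exact allRangeF_sound _ _ (checkFactF_eq cert) 3522000 1000 chkF_3522000 i (by omega) (by omega)
          · skip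
            rcases Nat.lt_or_ge i 3524000 with h6 | h6
            · skip
              exact allRangeF_sound _ _ (checkFactF_eq cert) 3523000 1000 chkF_3523000 i (by omega) (by omega)
            · skip
              rcases Nat.lt_or_ge i 3525000 with h7 | h7
              · skip
                exact allRangeF_sound _ _ (checkFactF_eq cert) 3524000 1000 chkF_3524000 i (by omega) (by omega)
              · skip
                exact allRangeF_sound _ _ (checkFactF_eq cert) 3525000 1000 chkF_3525000 i (by omega) (by omega)
      · skip
        rcases Nat.lt_or_ge i 3532000 with h4 | h4
        · skip
          rcases Nat.lt_or_ge i 3529000 with h5 | h5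
          · skip
            rcases Nat.lt_or_ge i 3527000 with h6 | h6
            · skip
              exact allRangeF_sound _ _ (checkFactF_eq cert) 3526000 1000 chkF_3526000 i (by omega) (by omega)
            · skip
              rcases Nat.lt_or_ge i 3528000 with h7 | h7
              · skip
                exact allRangeF_sound _ _ (checkFactF_eq cert) 3527000 1000 chkF_3527000 i (by omega) (by omega)
              · skip
                exact allRangeF_sound _ _ (checkFactF_eq cert) 3528000 1000 chkF_3528000 i (by omega) (by omega)
          · skip
            rcases Nat.lt_or_ge i 3530000 with h6 | h6
            · skip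
              exact allRangeF_sound _ _ (checkFactF_eq cert) 3529000 1000 chkF_3529000 i (by omega) (by omega)
            · skip
              rcases Nat.lt_or_ge i 3531000 with h7 | h7
              · skip
                exact allRangeF_sound _ _ (checkFactF_eq cert) 3530000 1000 chkF_3530000 i (by omega) (by omega)
              · skip
                exact allRangeF_sound _ _ (checkFactF_eq cert) 3531000 1000 chkF_3531000 i (by omega) (by omega)
        · skip
          rcases Nat.lt_or_ge i 3535000 with h5 | h5
          · skip
            rcases Nat.lt_or_ge i 3533000 with h6 | h6
            · skip
              exact allRangeF_sound _ _ (checkFactF_eq cert) 3532000 1000 chkF_3532000 i (by omega) (by omega)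
            · skip
              rcases Nat.lt_or_ge i 3534000 with h7 | h7
              · skip
                exact allRangeF_sound _ _ (checkFactF_eq cert) 3533000 1000 chkF_3533000 i (by omega) (by omega)
              · skip
                exact allRangeF_sound _ _ (checkFactF_eq cert) 3534000 1000 chkF_3534000 i (by omega) (by omega)
          · skip
            rcases Nat.lt_or_ge i 3537000 with h6 | h6
            · skip
              rcases Nat.lt_or_ge i 3536000 with h7 | h7
              · skip
                exact allRangeF_sound _ _ (checkFactF_eq cert) 3535000 1000 chkF_3535000 i (by omega) (by omega)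
              · skip
                exact allRangeF_sound _ _ (checkFactF_eq cert) 3536000 1000 chkF_3536000 i (by omega) (by omega)
            · skip
              rcases Nat.lt_or_ge i 3538000 with h7 | h7
              · skip
                exact allRangeF_sound _ _ (checkFactF_eq cert) 3537000 1000 chkF_3537000 i (by omega) (by omega)
              · skip
                exact allRangeF_sound _ _ (checkFactF_eq cert) 3538000 1000 chkF_3538000 i (by omega) (by omega)
    · skip
      rcases Nat.lt_or_ge i 3551000 with h3 | h3
      · skip
        rcases Nat.lt_or_ge i 3545000 with h4 | h4
        · skip
          rcases Nat.lt_or_ge i 3542000 with h5 | h5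
          · skip
            rcases Nat.lt_or_ge i 3540000 with h6 | h6
            · skip
              exact allRangeF_sound _ _ (checkFactF_eq cert) 3539000 1000 chkF_3539000 i (by omega) (by omega)
            · skip
              rcases Nat.lt_or_ge i 3541000 with h7 | h7
              · skip
                exact allRangeF_sound _ _ (checkFactF_eq cert) 3540000 1000 chkF_3540000 i (by omega) (by omega)
              · skip
                exact allRangeF_sound _ _ (checkFactF_eq cert) 3541000 1000 chkF_3541000 i (by omega) (by omega)
          · skip
            rcases Nat.lt_or_ge i 3543000 with h6 | h6
            · skip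
              exact allRangeF_sound _ _ (checkFactF_eq cert) 3542000 1000 chkF_3542000 i (by omega) (by omega)
            · skip
              rcases Nat.lt_or_ge i 3544000 with h7 | h7
              · skip
                exact allRangeF_sound _ _ (checkFactF_eq cert) 3543000 1000 chkF_3543000 i (by omega) (by omega)
              · skip
                exact allRangeF_sound _ _ (checkFactF_eq cert) 3544000 1000 chkF_3544000 i (by omega) (by omega)
        · skip
          rcases Nat.lt_or_ge i 3548000 with h5 | h5
          · skip
            rcases Nat.lt_or_ge i 3546000 with h6 | h6
            · skip
              exact allRangeF_sound _ _ (checkFactF_eq cert) 3545000 1000 chkF_3545000 i (by omega) (by omega)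
            · skip
              rcases Nat.lt_or_ge i 3547000 with h7 | h7
              · skip
                exact allRangeF_sound _ _ (checkFactF_eq cert) 3546000 1000 chkF_3546000 i (by omega) (by omega)
              · skip
                exact allRangeF_sound _ _ (checkFactF_eq cert) 3547000 1000 chkF_3547000 i (by omega) (by omega)
          · skip
            rcases Nat.lt_or_ge i 3549000 with h6 | h6
            · skip
              exact allRangeF_sound _ _ (checkFactF_eq cert) 3548000 1000 chkF_3548000 i (by omega) (by omega)
            · skip
              rcases Nat.lt_or_ge i 3550000 with h7 | h7
              · skip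
                exact allRangeF_sound _ _ (checkFactF_eq cert) 3549000 1000 chkF_3549000 i (by omega) (by omega)
              · skip
                exact allRangeF_sound _ _ (checkFactF_eq cert) 3550000 1000 chkF_3550000 i (by omega) (by omega)
      · skip
        rcases Nat.lt_or_ge i 3557000 with h4 | h4
        · skip
          rcases Nat.lt_or_ge i 3554000 with h5 | h5
          · skip
            rcases Nat.lt_or_ge i 3552000 with h6 | h6
            · skip
              exact allRangeF_sound _ _ (checkFactF_eq cert) 3551000 1000 chkF_3551000 i (by omega) (by omega)
            · skip
              rcases Nat.lt_or_ge i 3553000 with h7 | h7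
              · skip
                exact allRangeF_sound _ _ (checkFactF_eq cert) 3552000 1000 chkF_3552000 i (by omega) (by omega)
              · skip
                exact allRangeF_sound _ _ (checkFactF_eq cert) 3553000 1000 chkF_3553000 i (by omega) (by omega)
          · skip
            rcases Nat.lt_or_ge i 3555000 with h6 | h6
            · skip
              exact allRangeF_sound _ _ (checkFactF_eq cert) 3554000 1000 chkF_3554000 i (by omega) (by omega)
            · skip
              rcases Nat.lt_or_ge i 3556000 with h7 | h7
              · skip
                exact allRangeF_sound _ _ (checkFactF_eq cert) 3555000 1000 chkF_3555000 i (by omega) (by omega)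
              · skip
                exact allRangeF_sound _ _ (checkFactF_eq cert) 3556000 1000 chkF_3556000 i (by omega) (by omega)
        · skip
          rcases Nat.lt_or_ge i 3560000 with h5 | h5
          · skip
            rcases Nat.lt_or_ge i 3558000 with h6 | h6
            · skip
              exact allRangeF_sound _ _ (checkFactF_eq cert) 3557000 1000 chkF_3557000 i (by omega) (by omega)
            · skip
              rcases Nat.lt_or_ge i 3559000 with h7 | h7
              · skip
                exact allRangeF_sound _ _ (checkFactF_eq cert) 3558000 1000 chkF_3558000 i (by omega) (by omega)
              · skip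
                exact allRangeF_sound _ _ (checkFactF_eq cert) 3559000 1000 chkF_3559000 i (by omega) (by omega)
          · skip
            rcases Nat.lt_or_ge i 3562000 with h6 | h6
            · skip
              rcases Nat.lt_or_ge i 3561000 with h7 | h7
              · skip
                exact allRangeF_sound _ _ (checkFactF_eq cert) 3560000 1000 chkF_3560000 i (by omega) (by omega)
              · skip
                exact allRangeF_sound _ _ (checkFactF_eq cert) 3561000 1000 chkF_3561000 i (by omega) (by omega)
            · skip
              rcases Nat.lt_or_ge i 3563000 with h7 | h7
              · skip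
                exact allRangeF_sound _ _ (checkFactF_eq cert) 3562000 1000 chkF_3562000 i (by omega) (by omega)
              · skip
                exact allRangeF_sound _ _ (checkFactF_eq cert) 3563000 1000 chkF_3563000 i (by omega) (by omega)

end Cfsg.Agent.Lib.Helper28.Fi24Data
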