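import Cfsg.Agent.Lib.Helper28.Fi24Data
import Cfsg.Agent.Lib.Helper28.TCFastFB

set_option autoImplicit false
set_option maxRecDepth 1000000
set_option linter.all false
set_option Elab.async false

namespace Cfsg.Agent.Lib.Helper28.Fi24Data

open Cfsg.Agent.Lib.Helper28B

theorem chkF_3564000 : allRangeF (checkFactF cert) (nat_lit 3564000) (nat_lit 1000) = true := by decide +kernel
theorem chkF_3565000 : allRangeF (checkFactF cert) (nat_lit 3565000) (nat_lit 1000) = true := by decide +kernel
theorem chkF_3566000 : allRangeF (checkFactF cert) (nat_lit 3566000) (nat_lit 1000) = true := by decide +kernel
theorem chkF_3567000 : allRangeF (checkFactF cert) (nat_lit 3567000) (nat_lit 1000) = true := by decide +kernel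
theorem chkF_3568000 : allRangeF (checkFactF cert) (nat_lit 3568000) (nat_lit 1000) = true := by decide +kernel
theorem chkF_3569000 : allRangeF (checkFactF cert) (nat_lit 3569000) (nat_lit 1000) = true := by decide +kernel
theorem chkF_3570000 : allRangeF (checkFactF cert) (nat_lit 3570000) (nat_lit 1000) = true := by decide +kernel
theorem chkF_3571000 : allRangeF (checkFactF cert) (nat_lit 3571000) (nat_lit 1000) = true := by decide +kernel
theorem chkF_3572000 : allRangeF (checkFactF cert) (nat_lit 3572000) (nat_lit 1000) = true := by decide +kernel
theorem chkF_3573000 : allRangeF (checkFactF cert) (nat_lit 3573000) (nat_lit 1000) = true := by decide +kernel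
theorem chkF_3574000 : allRangeF (checkFactF cert) (nat_lit 3574000) (nat_lit 1000) = true := by decide +kernel
theorem chkF_3575000 : allRangeF (checkFactF cert) (nat_lit 3575000) (nat_lit 1000) = true := by decide +kernel
theorem chkF_3576000 : allRangeF (checkFactF cert) (nat_lit 3576000) (nat_lit 1000) = true := by decide +kernel
theorem chkF_3577000 : allRangeF (checkFactF cert) (nat_lit 3577000) (nat_lit 1000) = true := by decide +kernel
theorem chkF_3578000 : allRangeF (checkFactF cert) (nat_lit 3578000) (nat_lit 1000) = true := by decide +kernel
theorem chkF_3579000 : allRangeF (checkFactF cert) (nat_lit 3579000) (nat_lit 1000) = true := by decide +kernel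
theorem chkF_3580000 : allRangeF (checkFactF cert) (nat_lit 3580000) (nat_lit 1000) = true := by decide +kernel
theorem chkF_3581000 : allRangeF (checkFactF cert) (nat_lit 3581000) (nat_lit 1000) = true := by decide +kernel
theorem chkF_3582000 : allRangeF (checkFactF cert) (nat_lit 3582000) (nat_lit 1000) = true := by decide +kernel
theorem chkF_3583000 : allRangeF (checkFactF cert) (nat_lit 3583000) (nat_lit 1000) = true := by decide +kernel
theorem chkF_3584000 : allRangeF (checkFactF cert) (nat_lit 3584000) (nat_lit 1000) = true := by decide +kernel
theorem chkF_3585000 : allRangeF (checkFactF cert) (nat_lit 3585000) (nat_lit 1000) = true := by decide +kernel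
theorem chkF_3586000 : allRangeF (checkFactF cert) (nat_lit 3586000) (nat_lit 1000) = true := by decide +kernel
theorem chkF_3587000 : allRangeF (checkFactF cert) (nat_lit 3587000) (nat_lit 1000) = true := by decide +kernel
theorem chkF_3588000 : allRangeF (checkFactF cert) (nat_lit 3588000) (nat_lit 1000) = true := by decide +kernel
theorem chkF_3589000 : allRangeF (checkFactF cert) (nat_lit 3589000) (nat_lit 1000) = true := by decide +kernel
theorem chkF_3590000 : allRangeF (checkFactF cert) (nat_lit 3590000) (nat_lit 1000) = true := by decide +kernel
theorem chkF_3591000 : allRangeF (checkFactF cert) (nat_lit 3591000) (nat_lit 1000) = true := by decide +kernel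
theorem chkF_3592000 : allRangeF (checkFactF cert) (nat_lit 3592000) (nat_lit 1000) = true := by decide +kernel
theorem chkF_3593000 : allRangeF (checkFactF cert) (nat_lit 3593000) (nat_lit 1000) = true := by decide +kernel
theorem chkF_3594000 : allRangeF (checkFactF cert) (nat_lit 3594000) (nat_lit 1000) = true := by decide +kernel
theorem chkF_3595000 : allRangeF (checkFactF cert) (nat_lit 3595000) (nat_lit 1000) = true := by decide +kernel
theorem chkF_3596000 : allRangeF (checkFactF cert) (nat_lit 3596000) (nat_lit 1000) = true := by decide +kernel
theorem chkF_3597000 : allRangeF (checkFactF cert) (nat_lit 3597000) (nat_lit 1000) = true := by decide +kernel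
theorem chkF_3598000 : allRangeF (checkFactF cert) (nat_lit 3598000) (nat_lit 1000) = true := by decide +kernel
theorem chkF_3599000 : allRangeF (checkFactF cert) (nat_lit 3599000) (nat_lit 1000) = true := by decide +kernel
theorem chkF_3600000 : allRangeF (checkFactF cert) (nat_lit 3600000) (nat_lit 1000) = true := by decide +kernel
theorem chkF_3601000 : allRangeF (checkFactF cert) (nat_lit 3601000) (nat_lit 1000) = true := by decide +kernel
theorem chkF_3602000 : allRangeF (checkFactF cert) (nat_lit 3602000) (nat_lit 1000) = true := by decide +kernel
theorem chkF_3603000 : allRangeF (checkFactF cert) (nat_lit 3603000) (nat_lit 1000) = true := by decide +kernel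
theorem chkF_3604000 : allRangeF (checkFactF cert) (nat_lit 3604000) (nat_lit 1000) = true := by decide +kernel
theorem chkF_3605000 : allRangeF (checkFactF cert) (nat_lit 3605000) (nat_lit 1000) = true := by decide +kernel
theorem chkF_3606000 : allRangeF (checkFactF cert) (nat_lit 3606000) (nat_lit 1000) = true := by decide +kernel
theorem chkF_3607000 : allRangeF (checkFactF cert) (nat_lit 3607000) (nat_lit 1000) = true := by decide +kernel
theorem chkF_3608000 : allRangeF (checkFactF cert) (nat_lit 3608000) (nat_lit 1000) = true := by decide +kernel
theorem chkF_3609000 : allRangeF (checkFactF cert) (nat_lit 3609000) (nat_lit 1000) = true := by decide +kernel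
theorem chkF_3610000 : allRangeF (checkFactF cert) (nat_lit 3610000) (nat_lit 1000) = true := by decide +kernel
theorem chkF_3611000 : allRangeF (checkFactF cert) (nat_lit 3611000) (nat_lit 1000) = true := by decide +kernel
theorem chkF_3612000 : allRangeF (checkFactF cert) (nat_lit 3612000) (nat_lit 1000) = true := by decide +kernel
theorem chkF_3613000 : allRangeF (checkFactF cert) (nat_lit 3613000) (nat_lit 1000) = true := by decide +kernel
theorem chkF_3614000 : allRangeF (checkFactF cert) (nat_lit 3614000) (nat_lit 1000) = true := by decide +kernel
theorem chkF_3615000 : allRangeF (checkFactF cert) (nat_lit 3615000) (nat_lit 1000) = true := by decide +kernel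
theorem chkF_3616000 : allRangeF (checkFactF cert) (nat_lit 3616000) (nat_lit 1000) = true := by decide +kernel
theorem chkF_3617000 : allRangeF (checkFactF cert) (nat_lit 3617000) (nat_lit 1000) = true := by decide +kernel
theorem chkF_3618000 : allRangeF (checkFactF cert) (nat_lit 3618000) (nat_lit 1000) = true := by decide +kernel
theorem chkF_3619000 : allRangeF (checkFactF cert) (nat_lit 3619000) (nat_lit 1000) = true := by decide +kernel
theorem chkF_3620000 : allRangeF (checkFactF cert) (nat_lit 3620000) (nat_lit 1000) = true := by decide +kernel
theorem chkF_3621000 : allRangeF (checkFactF cert) (nat_lit 3621000) (nat_lit 1000) = true := by decide +kernel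
theorem chkF_3622000 : allRangeF (checkFactF cert) (nat_lit 3622000) (nat_lit 1000) = true := by decide +kernel
theorem chkF_3623000 : allRangeF (checkFactF cert) (nat_lit 3623000) (nat_lit 1000) = true := by decide +kernel
theorem chkF_3624000 : allRangeF (checkFactF cert) (nat_lit 3624000) (nat_lit 1000) = true := by decide +kernel
theorem chkF_3625000 : allRangeF (checkFactF cert) (nat_lit 3625000) (nat_lit 1000) = true := by decide +kernel
theorem chkF_3626000 : allRangeF (checkFactF cert) (nat_lit 3626000) (nat_lit 1000) = true := by decide +kernel
theorem chkF_3627000 : allRangeF (checkFactF cert) (nat_lit 3627000) (nat_lit 1000) = true := by decide +kernel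
theorem chkF_3628000 : allRangeF (checkFactF cert) (nat_lit 3628000) (nat_lit 1000) = true := by decide +kernel
theorem chkF_3629000 : allRangeF (checkFactF cert) (nat_lit 3629000) (nat_lit 1000) = true := by decide +kernel
theorem chkF_3630000 : allRangeF (checkFactF cert) (nat_lit 3630000) (nat_lit 1000) = true := by decide +kernel
theorem chkF_3631000 : allRangeF (checkFactF cert) (nat_lit 3631000) (nat_lit 1000) = true := by decide +kernel
theorem chkF_3632000 : allRangeF (checkFactF cert) (nat_lit 3632000) (nat_lit 1000) = true := by decide +kernel
theorem chkF_3633000 : allRangeF (checkFactF cert) (nat_lit 3633000) (nat_lit 1000) = true := by decide +kernel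
theorem chkF_3634000 : allRangeF (checkFactF cert) (nat_lit 3634000) (nat_lit 1000) = true := by decide +kernel
theorem chkF_3635000 : allRangeF (checkFactF cert) (nat_lit 3635000) (nat_lit 1000) = true := by decide +kernel
theorem chkF_3636000 : allRangeF (checkFactF cert) (nat_lit 3636000) (nat_lit 1000) = true := by decide +kernel
theorem chkF_3637000 : allRangeF (checkFactF cert) (nat_lit 3637000) (nat_lit 1000) = true := by decide +kernel
theorem chkF_3638000 : allRangeF (checkFactF cert) (nat_lit 3638000) (nat_lit 1000) = true := by decide +kernel
theorem chkF_3639000 : allRangeF (checkFactF cert) (nat_lit 3639000) (nat_lit 1000) = true := by decide +kernel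
theorem chkF_3640000 : allRangeF (checkFactF cert) (nat_lit 3640000) (nat_lit 1000) = true := by decide +kernel
theorem chkF_3641000 : allRangeF (checkFactF cert) (nat_lit 3641000) (nat_lit 1000) = true := by decide +kernel
theorem chkF_3642000 : allRangeF (checkFactF cert) (nat_lit 3642000) (nat_lit 1000) = true := by decide +kernel
theorem chkF_3643000 : allRangeF (checkFactF cert) (nat_lit 3643000) (nat_lit 1000) = true := by decide +kernel
theorem chkF_3644000 : allRangeF (checkFactF cert) (nat_lit 3644000) (nat_lit 1000) = true := by decide +kernel
theorem chkF_3645000 : allRangeF (checkFactF cert) (nat_lit 3645000) (nat_lit 1000) = true := by decide +kernel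
theorem chkF_3646000 : allRangeF (checkFactF cert) (nat_lit 3646000) (nat_lit 1000) = true := by decide +kernel
theorem chkF_3647000 : allRangeF (checkFactF cert) (nat_lit 3647000) (nat_lit 1000) = true := by decide +kernel
theorem chkF_3648000 : allRangeF (checkFactF cert) (nat_lit 3648000) (nat_lit 1000) = true := by decide +kernel
theorem chkF_3649000 : allRangeF (checkFactF cert) (nat_lit 3649000) (nat_lit 1000) = true := by decide +kernel
theorem chkF_3650000 : allRangeF (checkFactF cert) (nat_lit 3650000) (nat_lit 1000) = true := by decide +kernel
theorem chkF_3651000 : allRangeF (checkFactF cert) (nat_lit 3651000) (nat_lit 1000) = true := by decide +kernel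
theorem chkF_3652000 : allRangeF (checkFactF cert) (nat_lit 3652000) (nat_lit 1000) = true := by decide +kernel
theorem chkF_3653000 : allRangeF (checkFactF cert) (nat_lit 3653000) (nat_lit 1000) = true := by decide +kernel
theorem chkF_3654000 : allRangeF (checkFactF cert) (nat_lit 3654000) (nat_lit 1000) = true := by decide +kernel
theorem chkF_3655000 : allRangeF (checkFactF cert) (nat_lit 3655000) (nat_lit 1000) = true := by decide +kernel
theorem chkF_3656000 : allRangeF (checkFactF cert) (nat_lit 3656000) (nat_lit 1000) = true := by decide +kernel
theorem chkF_3657000 : allRangeF (checkFactF cert) (nat_lit 3657000) (nat_lit 1000) = true := by decide +kernel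
theorem chkF_3658000 : allRangeF (checkFactF cert) (nat_lit 3658000) (nat_lit 1000) = true := by decide +kernel
theorem chkF_3659000 : allRangeF (checkFactF cert) (nat_lit 3659000) (nat_lit 1000) = true := by decide +kernel
theorem chkF_3660000 : allRangeF (checkFactF cert) (nat_lit 3660000) (nat_lit 1000) = true := by decide +kernel
theorem chkF_3661000 : allRangeF (checkFactF cert) (nat_lit 3661000) (nat_lit 1000) = true := by decide +kernel
theorem chkF_3662000 : allRangeF (checkFactF cert) (nat_lit 3662000) (nat_lit 1000) = true := by decide +kernel

theorem factsRange_36 : ∀ i, 3564000 ≤ i → i < 3663000 → checkFact cert i = true := by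
  intro i hlo hhi
  rcases Nat.lt_or_ge i 3613000 with h1 | h1
  · skip
    rcases Nat.lt_or_ge i 3588000 with h2 | h2
    · skip
      rcases Nat.lt_or_ge i 3576000 with h3 | h3
      · skip
        rcases Nat.lt_or_ge i 3570000 with h4 | h4
        · skip
          rcases Nat.lt_or_ge i 3567000 with h5 | h5
          · skip
            rcases Nat.lt_or_ge i 3565000 with h6 | h6
            · skip
              exact allRangeF_sound _ _ (checkFactF_eq cert) 3564000 1000 chkF_3564000 i (by omega) (by omega)
            · skip
              rcases Nat.lt_or_ge i 3566000 with h7 | h7
              · skip
                exact allRangeF_sound _ _ (checkFactF_eq cert) 3565000 1000 chkF_3565000 i (by omega) (by omega)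
              · skip
                exact allRangeF_sound _ _ (checkFactF_eq cert) 3566000 1000 chkF_3566000 i (by omega) (by omega)
          · skip
            rcases Nat.lt_or_ge i 3568000 with h6 | h6
            · skip
              exact allRangeF_sound _ _ (checkFactF_eq cert) 3567000 1000 chkF_3567000 i (by omega) (by omega)
            · skip
              rcases Nat.lt_or_ge i 3569000 with h7 | h7
              · skip
                exact allRangeF_sound _ _ (checkFactF_eq cert) 3568000 1000 chkF_3568000 i (by omega) (by omega)
              · skip
                exact allRangeF_sound _ _ (checkFactF_eq cert) 3569000 1000 chkF_3569000 i (by omega) (by omega)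
        · skip
          rcases Nat.lt_or_ge i 3573000 with h5 | h5
          · skip
            rcases Nat.lt_or_ge i 3571000 with h6 | h6
            · skip
              exact allRangeF_sound _ _ (checkFactF_eq cert) 3570000 1000 chkF_3570000 i (by omega) (by omega)
            · skip
              rcases Nat.lt_or_ge i 3572000 with h7 | h7
              · skip
                exact allRangeF_sound _ _ (checkFactF_eq cert) 3571000 1000 chkF_3571000 i (by omega) (by omega)
              · skip
                exact allRangeF_sound _ _ (checkFactF_eq cert) 3572000 1000 chkF_3572000 i (by omega) (by omega)
          · skip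
            rcases Nat.lt_or_ge i 3574000 with h6 | h6
            · skip
              exact allRangeF_sound _ _ (checkFactF_eq cert) 3573000 1000 chkF_3573000 i (by omega) (by omega)
            · skip
              rcases Nat.lt_or_ge i 3575000 with h7 | h7
              · skip
                exact allRangeF_sound _ _ (checkFactF_eq cert) 3574000 1000 chkF_3574000 i (by omega) (by omega)
              · skip
                exact allRangeF_sound _ _ (checkFactF_eq cert) 3575000 1000 chkF_3575000 i (by omega) (by omega)
      · skip
        rcases Nat.lt_or_ge i 3582000 with h4 | h4
        · skip
          rcases Nat.lt_or_ge i 3579000 with h5 | h5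
          · skip
            rcases Nat.lt_or_ge i 3577000 with h6 | h6
            · skip
              exact allRangeF_sound _ _ (checkFactF_eq cert) 3576000 1000 chkF_3576000 i (by omega) (by omega)
            · skip
              rcases Nat.lt_or_ge i 3578000 with h7 | h7
              · skip
                exact allRangeF_sound _ _ (checkFactF_eq cert) 3577000 1000 chkF_3577000 i (by omega) (by omega)
              · skip
                exact allRangeF_sound _ _ (checkFactF_eq cert) 3578000 1000 chkF_3578000 i (by omega) (by omega)
          · skip
            rcases Nat.lt_or_ge i 3580000 with h6 | h6
            · skip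
              exact allRangeF_sound _ _ (checkFactF_eq cert) 3579000 1000 chkF_3579000 i (by omega) (by omega)
            · skip
              rcases Nat.lt_or_ge i 3581000 with h7 | h7
              · skip
                exact allRangeF_sound _ _ (checkFactF_eq cert) 3580000 1000 chkF_3580000 i (by omega) (by omega)
              · skip
                exact allRangeF_sound _ _ (checkFactF_eq cert) 3581000 1000 chkF_3581000 i (by omega) (by omega)
        · skip
          rcases Nat.lt_or_ge i 3585000 with h5 | h5
          · skip
            rcases Nat.lt_or_ge i 3583000 with h6 | h6
            · skip
              exact allRangeF_sound _ _ (checkFactF_eq cert) 3582000 1000 chkF_3582000 i (by omega) (by omega)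
            · skip
              rcases Nat.lt_or_ge i 3584000 with h7 | h7
              · skip
                exact allRangeF_sound _ _ (checkFactF_eq cert) 3583000 1000 chkF_3583000 i (by omega) (by omega)
              · skip
                exact allRangeF_sound _ _ (checkFactF_eq cert) 3584000 1000 chkF_3584000 i (by omega) (by omega)
          · skip
            rcases Nat.lt_or_ge i 3586000 with h6 | h6
            · skip
              exact allRangeF_sound _ _ (checkFactF_eq cert) 3585000 1000 chkF_3585000 i (by omega) (by omega)
            · skip
              rcases Nat.lt_or_ge i 3587000 with h7 | h7
              · skip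
                exact allRangeF_sound _ _ (checkFactF_eq cert) 3586000 1000 chkF_3586000 i (by omega) (by omega)
              · skip
                exact allRangeF_sound _ _ (checkFactF_eq cert) 3587000 1000 chkF_3587000 i (by omega) (by omega)
    · skip
      rcases Nat.lt_or_ge i 3600000 with h3 | h3
      · skip
        rcases Nat.lt_or_ge i 3594000 with h4 | h4
        · skip
          rcases Nat.lt_or_ge i 3591000 with h5 | h5
          · skip
            rcases Nat.lt_or_ge i 3589000 with h6 | h6
            · skip
              exact allRangeF_sound _ _ (checkFactF_eq cert) 3588000 1000 chkF_3588000 i (by omega) (by omega)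
            · skip
              rcases Nat.lt_or_ge i 3590000 with h7 | h7
              · skip
                exact allRangeF_sound _ _ (checkFactF_eq cert) 3589000 1000 chkF_3589000 i (by omega) (by omega)
              · skip
                exact allRangeF_sound _ _ (checkFactF_eq cert) 3590000 1000 chkF_3590000 i (by omega) (by omega)
          · skip
            rcases Nat.lt_or_ge i 3592000 with h6 | h6
            · skip
              exact allRangeF_sound _ _ (checkFactF_eq cert) 3591000 1000 chkF_3591000 i (by omega) (by omega)
            · skip
              rcases Nat.lt_or_ge i 3593000 with h7 | h7
              · skip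
                exact allRangeF_sound _ _ (checkFactF_eq cert) 3592000 1000 chkF_3592000 i (by omega) (by omega)
              · skip
                exact allRangeF_sound _ _ (checkFactF_eq cert) 3593000 1000 chkF_3593000 i (by omega) (by omega)
        · skip
          rcases Nat.lt_or_ge i 3597000 with h5 | h5
          · skip
            rcases Nat.lt_or_ge i 3595000 with h6 | h6
            · skip
              exact allRangeF_sound _ _ (checkFactF_eq cert) 3594000 1000 chkF_3594000 i (by omega) (by omega)
            · skip
              rcases Nat.lt_or_ge i 3596000 with h7 | h7
              · skip
                exact allRangeF_sound _ _ (checkFactF_eq cert) 3595000 1000 chkF_3595000 i (by omega) (by omega)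
              · skip
                exact allRangeF_sound _ _ (checkFactF_eq cert) 3596000 1000 chkF_3596000 i (by omega) (by omega)
          · skip
            rcases Nat.lt_or_ge i 3598000 with h6 | h6
            · skip
              exact allRangeF_sound _ _ (checkFactF_eq cert) 3597000 1000 chkF_3597000 i (by omega) (by omega)
            · skip
              rcases Nat.lt_or_ge i 3599000 with h7 | h7
              · skip
                exact allRangeF_sound _ _ (checkFactF_eq cert) 3598000 1000 chkF_3598000 i (by omega) (by omega)
              · skip
                exact allRangeF_sound _ _ (checkFactF_eq cert) 3599000 1000 chkF_3599000 i (by omega) (by omega)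
      · skip
        rcases Nat.lt_or_ge i 3606000 with h4 | h4
        · skip
          rcases Nat.lt_or_ge i 3603000 with h5 | h5
          · skip
            rcases Nat.lt_or_ge i 3601000 with h6 | h6
            · skip
              exact allRangeF_sound _ _ (checkFactF_eq cert) 3600000 1000 chkF_3600000 i (by omega) (by omega)
            · skip
              rcases Nat.lt_or_ge i 3602000 with h7 | h7
              · skip
                exact allRangeF_sound _ _ (checkFactF_eq cert) 3601000 1000 chkF_3601000 i (by omega) (by omega)
              · skip
                exact allRangeF_sound _ _ (checkFactF_eq cert) 3602000 1000 chkF_3602000 i (by omega) (by omega)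
          · skip
            rcases Nat.lt_or_ge i 3604000 with h6 | h6
            · skip
              exact allRangeF_sound _ _ (checkFactF_eq cert) 3603000 1000 chkF_3603000 i (by omega) (by omega)
            · skip
              rcases Nat.lt_or_ge i 3605000 with h7 | h7
              · skip
                exact allRangeF_sound _ _ (checkFactF_eq cert) 3604000 1000 chkF_3604000 i (by omega) (by omega)
              · skip
                exact allRangeF_sound _ _ (checkFactF_eq cert) 3605000 1000 chkF_3605000 i (by omega) (by omega)
        · skip
          rcases Nat.lt_or_ge i 3609000 with h5 | h5
          · skip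
            rcases Nat.lt_or_ge i 3607000 with h6 | h6
            · skip
              exact allRangeF_sound _ _ (checkFactF_eq cert) 3606000 1000 chkF_3606000 i (by omega) (by omega)
            · skip
              rcases Nat.lt_or_ge i 3608000 with h7 | h7
              · skip
                exact allRangeF_sound _ _ (checkFactF_eq cert) 3607000 1000 chkF_3607000 i (by omega) (by omega)
              · skip
                exact allRangeF_sound _ _ (checkFactF_eq cert) 3608000 1000 chkF_3608000 i (by omega) (by omega)
          · skip
            rcases Nat.lt_or_ge i 3611000 with h6 | h6
            · skip
              rcases Nat.lt_or_ge i 3610000 with h7 | h7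
              · skip
                exact allRangeF_sound _ _ (checkFactF_eq cert) 3609000 1000 chkF_3609000 i (by omega) (by omega)
              · skip
                exact allRangeF_sound _ _ (checkFactF_eq cert) 3610000 1000 chkF_3610000 i (by omega) (by omega)
            · skip
              rcases Nat.lt_or_ge i 3612000 with h7 | h7
              · skip
                exact allRangeF_sound _ _ (checkFactF_eq cert) 3611000 1000 chkF_3611000 i (by omega) (by omega)
              · skip
                exact allRangeF_sound _ _ (checkFactF_eq cert) 3612000 1000 chkF_3612000 i (by omega) (by omega)
  · skip
    rcases Nat.lt_or_ge i 3638000 with h2 | h2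
    · skip
      rcases Nat.lt_or_ge i 3625000 with h3 | h3
      · skip
        rcases Nat.lt_or_ge i 3619000 with h4 | h4
        · skip
          rcases Nat.lt_or_ge i 3616000 with h5 | h5
          · skip
            rcases Nat.lt_or_ge i 3614000 with h6 | h6
            · skip
              exact allRangeF_sound _ _ (checkFactF_eq cert) 3613000 1000 chkF_3613000 i (by omega) (by omega)
            · skip
              rcases Nat.lt_or_ge i 3615000 with h7 | h7
              · skip
                exact allRangeF_sound _ _ (checkFactF_eq cert) 3614000 1000 chkF_3614000 i (by omega) (by omega)
              · skip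
                exact allRangeF_sound _ _ (checkFactF_eq cert) 3615000 1000 chkF_3615000 i (by omega) (by omega)
          · skip
            rcases Nat.lt_or_ge i 3617000 with h6 | h6
            · skip
              exact allRangeF_sound _ _ (checkFactF_eq cert) 3616000 1000 chkF_3616000 i (by omega) (by omega)
            · skip
              rcases Nat.lt_or_ge i 3618000 with h7 | h7
              · skip
                exact allRangeF_sound _ _ (checkFactF_eq cert) 3617000 1000 chkF_3617000 i (by omega) (by omega)
              · skip
                exact allRangeF_sound _ _ (checkFactF_eq cert) 3618000 1000 chkF_3618000 i (by omega) (by omega)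
        · skip
          rcases Nat.lt_or_ge i 3622000 with h5 | h5
          · skip
            rcases Nat.lt_or_ge i 3620000 with h6 | h6
            · skip
              exact allRangeF_sound _ _ (checkFactF_eq cert) 3619000 1000 chkF_3619000 i (by omega) (by omega)
            · skip
              rcases Nat.lt_or_ge i 3621000 with h7 | h7
              · skip
                exact allRangeF_sound _ _ (checkFactF_eq cert) 3620000 1000 chkF_3620000 i (by omega) (by omega)
              · skip
                exact allRangeF_sound _ _ (checkFactF_eq cert) 3621000 1000 chkF_3621000 i (by omega) (by omega)
          · skip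
            rcases Nat.lt_or_ge i 3623000 with h6 | h6
            · skip
              exact allRangeF_sound _ _ (checkFactF_eq cert) 3622000 1000 chkF_3622000 i (by omega) (by omega)
            · skip
              rcases Nat.lt_or_ge i 3624000 with h7 | h7
              · skip
                exact allRangeF_sound _ _ (checkFactF_eq cert) 3623000 1000 chkF_3623000 i (by omega) (by omega)
              · skip
                exact allRangeF_sound _ _ (checkFactF_eq cert) 3624000 1000 chkF_3624000 i (by omega) (by omega)
      · skip
        rcases Nat.lt_or_ge i 3631000 with h4 | h4
        · skip
          rcases Nat.lt_or_ge i 3628000 with h5 | h5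
          · skip
            rcases Nat.lt_or_ge i 3626000 with h6 | h6
            · skip
              exact allRangeF_sound _ _ (checkFactF_eq cert) 3625000 1000 chkF_3625000 i (by omega) (by omega)
            · skip
              rcases Nat.lt_or_ge i 3627000 with h7 | h7
              · skip
                exact allRangeF_sound _ _ (checkFactF_eq cert) 3626000 1000 chkF_3626000 i (by omega) (by omega)
              · skip
                exact allRangeF_sound _ _ (checkFactF_eq cert) 3627000 1000 chkF_3627000 i (by omega) (by omega)
          · skip
            rcases Nat.lt_or_ge i 3629000 with h6 | h6
            · skip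
              exact allRangeF_sound _ _ (checkFactF_eq cert) 3628000 1000 chkF_3628000 i (by omega) (by omega)
            · skip
              rcases Nat.lt_or_ge i 3630000 with h7 | h7
              · skip
                exact allRangeF_sound _ _ (checkFactF_eq cert) 3629000 1000 chkF_3629000 i (by omega) (by omega)
              · skip
                exact allRangeF_sound _ _ (checkFactF_eq cert) 3630000 1000 chkF_3630000 i (by omega) (by omega)
        · skip
          rcases Nat.lt_or_ge i 3634000 with h5 | h5
          · skip
            rcases Nat.lt_or_ge i 3632000 with h6 | h6
            · skip
              exact allRangeF_sound _ _ (checkFactF_eq cert) 3631000 1000 chkF_3631000 i (by omega) (by omega)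
            · skip
              rcases Nat.lt_or_ge i 3633000 with h7 | h7
              · skip
                exact allRangeF_sound _ _ (checkFactF_eq cert) 3632000 1000 chkF_3632000 i (by omega) (by omega)
              · skip
                exact allRangeF_sound _ _ (checkFactF_eq cert) 3633000 1000 chkF_3633000 i (by omega) (by omega)
          · skip
            rcases Nat.lt_or_ge i 3636000 with h6 | h6
            · skip
              rcases Nat.lt_or_ge i 3635000 with h7 | h7
              · skip
                exact allRangeF_sound _ _ (checkFactF_eq cert) 3634000 1000 chkF_3634000 i (by omega) (by omega)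
              · skip
                exact allRangeF_sound _ _ (checkFactF_eq cert) 3635000 1000 chkF_3635000 i (by omega) (by omega)
            · skip
              rcases Nat.lt_or_ge i 3637000 with h7 | h7
              · skip
                exact allRangeF_sound _ _ (checkFactF_eq cert) 3636000 1000 chkF_3636000 i (by omega) (by omega)
              · skip
                exact allRangeF_sound _ _ (checkFactF_eq cert) 3637000 1000 chkF_3637000 i (by omega) (by omega)
    · skip
      rcases Nat.lt_or_ge i 3650000 with h3 | h3
      · skip
        rcases Nat.lt_or_ge i 3644000 with h4 | h4
        · skip
          rcases Nat.lt_or_ge i 3641000 with h5 | h5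
          · skip
            rcases Nat.lt_or_ge i 3639000 with h6 | h6
            · skip
              exact allRangeF_sound _ _ (checkFactF_eq cert) 3638000 1000 chkF_3638000 i (by omega) (by omega)
            · skip
              rcases Nat.lt_or_ge i 3640000 with h7 | h7
              · skip
                exact allRangeF_sound _ _ (checkFactF_eq cert) 3639000 1000 chkF_3639000 i (by omega) (by omega)
              · skip
                exact allRangeF_sound _ _ (checkFactF_eq cert) 3640000 1000 chkF_3640000 i (by omega) (by omega)
          · skip
            rcases Nat.lt_or_ge i 3642000 with h6 | h6
            · skip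
              exact allRangeF_sound _ _ (checkFactF_eq cert) 3641000 1000 chkF_3641000 i (by omega) (by omega)
            · skip
              rcases Nat.lt_or_ge i 3643000 with h7 | h7
              · skip
                exact allRangeF_sound _ _ (checkFactF_eq cert) 3642000 1000 chkF_3642000 i (by omega) (by omega)
              · skip
                exact allRangeF_sound _ _ (checkFactF_eq cert) 3643000 1000 chkF_3643000 i (by omega) (by omega)
        · skip
          rcases Nat.lt_or_ge i 3647000 with h5 | h5
          · skip
            rcases Nat.lt_or_ge i 3645000 with h6 | h6
            · skip
              exact allRangeF_sound _ _ (checkFactF_eq cert) 3644000 1000 chkF_3644000 i (by omega) (by omega)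
            · skip
              rcases Nat.lt_or_ge i 3646000 with h7 | h7
              · skip
                exact allRangeF_sound _ _ (checkFactF_eq cert) 3645000 1000 chkF_3645000 i (by omega) (by omega)
              · skip
                exact allRangeF_sound _ _ (checkFactF_eq cert) 3646000 1000 chkF_3646000 i (by omega) (by omega)
          · skip
            rcases Nat.lt_or_ge i 3648000 with h6 | h6
            · skip
              exact allRangeF_sound _ _ (checkFactF_eq cert) 3647000 1000 chkF_3647000 i (by omega) (by omega)
            · skip
              rcases Nat.lt_or_ge i 3649000 with h7 | h7
              · skip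
                exact allRangeF_sound _ _ (checkFactF_eq cert) 3648000 1000 chkF_3648000 i (by omega) (by omega)
              · skip
                exact allRangeF_sound _ _ (checkFactF_eq cert) 3649000 1000 chkF_3649000 i (by omega) (by omega)
      · skip
        rcases Nat.lt_or_ge i 3656000 with h4 | h4
        · skip
          rcases Nat.lt_or_ge i 3653000 with h5 | h5
          · skip
            rcases Nat.lt_or_ge i 3651000 with h6 | h6
            · skip
              exact allRangeF_sound _ _ (checkFactF_eq cert) 3650000 1000 chkF_3650000 i (by omega) (by omega)
            · skip
              rcases Nat.lt_or_ge i 3652000 with h7 | h7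
              · skip
                exact allRangeF_sound _ _ (checkFactF_eq cert) 3651000 1000 chkF_3651000 i (by omega) (by omega)
              · skip
                exact allRangeF_sound _ _ (checkFactF_eq cert) 3652000 1000 chkF_3652000 i (by omega) (by omega)
          · skip
            rcases Nat.lt_or_ge i 3654000 with h6 | h6
            · skip
              exact allRangeF_sound _ _ (checkFactF_eq cert) 3653000 1000 chkF_3653000 i (by omega) (by omega)
            · skip
              rcases Nat.lt_or_ge i 3655000 with h7 | h7
              · skip
                exact allRangeF_sound _ _ (checkFactF_eq cert) 3654000 1000 chkF_3654000 i (by omega) (by omega)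
              · skip
                exact allRangeF_sound _ _ (checkFactF_eq cert) 3655000 1000 chkF_3655000 i (by omega) (by omega)
        · skip
          rcases Nat.lt_or_ge i 3659000 with h5 | h5
          · skip
            rcases Nat.lt_or_ge i 3657000 with h6 | h6
            · skip
              exact allRangeF_sound _ _ (checkFactF_eq cert) 3656000 1000 chkF_3656000 i (by omega) (by omega)
            · skip
              rcases Nat.lt_or_ge i 3658000 with h7 | h7
              · skip
                exact allRangeF_sound _ _ (checkFactF_eq cert) 3657000 1000 chkF_3657000 i (by omega) (by omega)
              · skip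
                exact allRangeF_sound _ _ (checkFactF_eq cert) 3658000 1000 chkF_3658000 i (by omega) (by omega)
          · skip
            rcases Nat.lt_or_ge i 3661000 with h6 | h6
            · skip
              rcases Nat.lt_or_ge i 3660000 with h7 | h7
              · skip
                exact allRangeF_sound _ _ (checkFactF_eq cert) 3659000 1000 chkF_3659000 i (by omega) (by omega)
              · skip
                exact allRangeF_sound _ _ (checkFactF_eq cert) 3660000 1000 chkF_3660000 i (by omega) (by omega)
            · skip
              rcases Nat.lt_or_ge i 3662000 with h7 | h7
              · skip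
                exact allRangeF_sound _ _ (checkFactF_eq cert) 3661000 1000 chkF_3661000 i (by omega) (by omega)
              · skip
                exact allRangeF_sound _ _ (checkFactF_eq cert) 3662000 1000 chkF_3662000 i (by omega) (by omega)

end Cfsg.Agent.Lib.Helper28.Fi24Data
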