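import Cfsg.Agent.Lib.Helper28.Fi24Data
import Cfsg.Agent.Lib.Helper28.TCFastFB

set_option autoImplicit false
set_option maxRecDepth 1000000
set_option linter.all false
set_option Elab.async false

namespace Cfsg.Agent.Lib.Helper28.Fi24Data

open Cfsg.Agent.Lib.Helper28B

theorem chkF_3663000 : allRangeF (checkFactF cert) (nat_lit 3663000) (nat_lit 1000) = true := by decide +kernel
theorem chkF_3664000 : allRangeF (checkFactF cert) (nat_lit 3664000) (nat_lit 1000) = true := by decide +kernel
theorem chkF_3665000 : allRangeF (checkFactF cert) (nat_lit 3665000) (nat_lit 1000) = true := by decide +kernel
theorem chkF_3666000 : allRangeF (checkFactF cert) (nat_lit 3666000) (nat_lit 1000) = true := by decide +kernel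
theorem chkF_3667000 : allRangeF (checkFactF cert) (nat_lit 3667000) (nat_lit 1000) = true := by decide +kernel
theorem chkF_3668000 : allRangeF (checkFactF cert) (nat_lit 3668000) (nat_lit 1000) = true := by decide +kernel
theorem chkF_3669000 : allRangeF (checkFactF cert) (nat_lit 3669000) (nat_lit 1000) = true := by decide +kernel
theorem chkF_3670000 : allRangeF (checkFactF cert) (nat_lit 3670000) (nat_lit 1000) = true := by decide +kernel
theorem chkF_3671000 : allRangeF (checkFactF cert) (nat_lit 3671000) (nat_lit 1000) = true := by decide +kernel
theorem chkF_3672000 : allRangeF (checkFactF cert) (nat_lit 3672000) (nat_lit 1000) = true := by decide +kernel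
theorem chkF_3673000 : allRangeF (checkFactF cert) (nat_lit 3673000) (nat_lit 1000) = true := by decide +kernel
theorem chkF_3674000 : allRangeF (checkFactF cert) (nat_lit 3674000) (nat_lit 1000) = true := by decide +kernel
theorem chkF_3675000 : allRangeF (checkFactF cert) (nat_lit 3675000) (nat_lit 1000) = true := by decide +kernel
theorem chkF_3676000 : allRangeF (checkFactF cert) (nat_lit 3676000) (nat_lit 1000) = true := by decide +kernel
theorem chkF_3677000 : allRangeF (checkFactF cert) (nat_lit 3677000) (nat_lit 1000) = true := by decide +kernel
theorem chkF_3678000 : allRangeF (checkFactF cert) (nat_lit 3678000) (nat_lit 1000) = true := by decide +kernel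
theorem chkF_3679000 : allRangeF (checkFactF cert) (nat_lit 3679000) (nat_lit 1000) = true := by decide +kernel
theorem chkF_3680000 : allRangeF (checkFactF cert) (nat_lit 3680000) (nat_lit 1000) = true := by decide +kernel
theorem chkF_3681000 : allRangeF (checkFactF cert) (nat_lit 3681000) (nat_lit 1000) = true := by decide +kernel
theorem chkF_3682000 : allRangeF (checkFactF cert) (nat_lit 3682000) (nat_lit 1000) = true := by decide +kernel
theorem chkF_3683000 : allRangeF (checkFactF cert) (nat_lit 3683000) (nat_lit 1000) = true := by decide +kernel
theorem chkF_3684000 : allRangeF (checkFactF cert) (nat_lit 3684000) (nat_lit 1000) = true := by decide +kernel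
theorem chkF_3685000 : allRangeF (checkFactF cert) (nat_lit 3685000) (nat_lit 1000) = true := by decide +kernel
theorem chkF_3686000 : allRangeF (checkFactF cert) (nat_lit 3686000) (nat_lit 1000) = true := by decide +kernel
theorem chkF_3687000 : allRangeF (checkFactF cert) (nat_lit 3687000) (nat_lit 1000) = true := by decide +kernel
theorem chkF_3688000 : allRangeF (checkFactF cert) (nat_lit 3688000) (nat_lit 1000) = true := by decide +kernel
theorem chkF_3689000 : allRangeF (checkFactF cert) (nat_lit 3689000) (nat_lit 1000) = true := by decide +kernel
theorem chkF_3690000 : allRangeF (checkFactF cert) (nat_lit 3690000) (nat_lit 1000) = true := by decide +kernel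
theorem chkF_3691000 : allRangeF (checkFactF cert) (nat_lit 3691000) (nat_lit 1000) = true := by decide +kernel
theorem chkF_3692000 : allRangeF (checkFactF cert) (nat_lit 3692000) (nat_lit 1000) = true := by decide +kernel
theorem chkF_3693000 : allRangeF (checkFactF cert) (nat_lit 3693000) (nat_lit 1000) = true := by decide +kernel
theorem chkF_3694000 : allRangeF (checkFactF cert) (nat_lit 3694000) (nat_lit 1000) = true := by decide +kernel
theorem chkF_3695000 : allRangeF (checkFactF cert) (nat_lit 3695000) (nat_lit 1000) = true := by decide +kernel
theorem chkF_3696000 : allRangeF (checkFactF cert) (nat_lit 3696000) (nat_lit 1000) = true := by decide +kernel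
theorem chkF_3697000 : allRangeF (checkFactF cert) (nat_lit 3697000) (nat_lit 1000) = true := by decide +kernel
theorem chkF_3698000 : allRangeF (checkFactF cert) (nat_lit 3698000) (nat_lit 1000) = true := by decide +kernel
theorem chkF_3699000 : allRangeF (checkFactF cert) (nat_lit 3699000) (nat_lit 1000) = true := by decide +kernel
theorem chkF_3700000 : allRangeF (checkFactF cert) (nat_lit 3700000) (nat_lit 1000) = true := by decide +kernel
theorem chkF_3701000 : allRangeF (checkFactF cert) (nat_lit 3701000) (nat_lit 1000) = true := by decide +kernel
theorem chkF_3702000 : allRangeF (checkFactF cert) (nat_lit 3702000) (nat_lit 1000) = true := by decide +kernel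
theorem chkF_3703000 : allRangeF (checkFactF cert) (nat_lit 3703000) (nat_lit 1000) = true := by decide +kernel
theorem chkF_3704000 : allRangeF (checkFactF cert) (nat_lit 3704000) (nat_lit 1000) = true := by decide +kernel
theorem chkF_3705000 : allRangeF (checkFactF cert) (nat_lit 3705000) (nat_lit 1000) = true := by decide +kernel
theorem chkF_3706000 : allRangeF (checkFactF cert) (nat_lit 3706000) (nat_lit 1000) = true := by decide +kernel
theorem chkF_3707000 : allRangeF (checkFactF cert) (nat_lit 3707000) (nat_lit 1000) = true := by decide +kernel
theorem chkF_3708000 : allRangeF (checkFactF cert) (nat_lit 3708000) (nat_lit 1000) = true := by decide +kernel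
theorem chkF_3709000 : allRangeF (checkFactF cert) (nat_lit 3709000) (nat_lit 1000) = true := by decide +kernel
theorem chkF_3710000 : allRangeF (checkFactF cert) (nat_lit 3710000) (nat_lit 1000) = true := by decide +kernel
theorem chkF_3711000 : allRangeF (checkFactF cert) (nat_lit 3711000) (nat_lit 1000) = true := by decide +kernel
theorem chkF_3712000 : allRangeF (checkFactF cert) (nat_lit 3712000) (nat_lit 1000) = true := by decide +kernel
theorem chkF_3713000 : allRangeF (checkFactF cert) (nat_lit 3713000) (nat_lit 1000) = true := by decide +kernel
theorem chkF_3714000 : allRangeF (checkFactF cert) (nat_lit 3714000) (nat_lit 1000) = true := by decide +kernel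
theorem chkF_3715000 : allRangeF (checkFactF cert) (nat_lit 3715000) (nat_lit 1000) = true := by decide +kernel
theorem chkF_3716000 : allRangeF (checkFactF cert) (nat_lit 3716000) (nat_lit 1000) = true := by decide +kernel
theorem chkF_3717000 : allRangeF (checkFactF cert) (nat_lit 3717000) (nat_lit 1000) = true := by decide +kernel
theorem chkF_3718000 : allRangeF (checkFactF cert) (nat_lit 3718000) (nat_lit 1000) = true := by decide +kernel
theorem chkF_3719000 : allRangeF (checkFactF cert) (nat_lit 3719000) (nat_lit 1000) = true := by decide +kernel
theorem chkF_3720000 : allRangeF (checkFactF cert) (nat_lit 3720000) (nat_lit 1000) = true := by decide +kernel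
theorem chkF_3721000 : allRangeF (checkFactF cert) (nat_lit 3721000) (nat_lit 1000) = true := by decide +kernel
theorem chkF_3722000 : allRangeF (checkFactF cert) (nat_lit 3722000) (nat_lit 1000) = true := by decide +kernel
theorem chkF_3723000 : allRangeF (checkFactF cert) (nat_lit 3723000) (nat_lit 1000) = true := by decide +kernel
theorem chkF_3724000 : allRangeF (checkFactF cert) (nat_lit 3724000) (nat_lit 1000) = true := by decide +kernel
theorem chkF_3725000 : allRangeF (checkFactF cert) (nat_lit 3725000) (nat_lit 1000) = true := by decide +kernel
theorem chkF_3726000 : allRangeF (checkFactF cert) (nat_lit 3726000) (nat_lit 1000) = true := by decide +kernel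
theorem chkF_3727000 : allRangeF (checkFactF cert) (nat_lit 3727000) (nat_lit 1000) = true := by decide +kernel
theorem chkF_3728000 : allRangeF (checkFactF cert) (nat_lit 3728000) (nat_lit 1000) = true := by decide +kernel
theorem chkF_3729000 : allRangeF (checkFactF cert) (nat_lit 3729000) (nat_lit 1000) = true := by decide +kernel
theorem chkF_3730000 : allRangeF (checkFactF cert) (nat_lit 3730000) (nat_lit 1000) = true := by decide +kernel
theorem chkF_3731000 : allRangeF (checkFactF cert) (nat_lit 3731000) (nat_lit 1000) = true := by decide +kernel
theorem chkF_3732000 : allRangeF (checkFactF cert) (nat_lit 3732000) (nat_lit 1000) = true := by decide +kernel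
theorem chkF_3733000 : allRangeF (checkFactF cert) (nat_lit 3733000) (nat_lit 1000) = true := by decide +kernel
theorem chkF_3734000 : allRangeF (checkFactF cert) (nat_lit 3734000) (nat_lit 1000) = true := by decide +kernel
theorem chkF_3735000 : allRangeF (checkFactF cert) (nat_lit 3735000) (nat_lit 1000) = true := by decide +kernel
theorem chkF_3736000 : allRangeF (checkFactF cert) (nat_lit 3736000) (nat_lit 1000) = true := by decide +kernel
theorem chkF_3737000 : allRangeF (checkFactF cert) (nat_lit 3737000) (nat_lit 1000) = true := by decide +kernel
theorem chkF_3738000 : allRangeF (checkFactF cert) (nat_lit 3738000) (nat_lit 1000) = true := by decide +kernel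
theorem chkF_3739000 : allRangeF (checkFactF cert) (nat_lit 3739000) (nat_lit 1000) = true := by decide +kernel
theorem chkF_3740000 : allRangeF (checkFactF cert) (nat_lit 3740000) (nat_lit 1000) = true := by decide +kernel
theorem chkF_3741000 : allRangeF (checkFactF cert) (nat_lit 3741000) (nat_lit 1000) = true := by decide +kernel
theorem chkF_3742000 : allRangeF (checkFactF cert) (nat_lit 3742000) (nat_lit 1000) = true := by decide +kernel
theorem chkF_3743000 : allRangeF (checkFactF cert) (nat_lit 3743000) (nat_lit 1000) = true := by decide +kernel
theorem chkF_3744000 : allRangeF (checkFactF cert) (nat_lit 3744000) (nat_lit 1000) = true := by decide +kernel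
theorem chkF_3745000 : allRangeF (checkFactF cert) (nat_lit 3745000) (nat_lit 1000) = true := by decide +kernel
theorem chkF_3746000 : allRangeF (checkFactF cert) (nat_lit 3746000) (nat_lit 1000) = true := by decide +kernel
theorem chkF_3747000 : allRangeF (checkFactF cert) (nat_lit 3747000) (nat_lit 1000) = true := by decide +kernel
theorem chkF_3748000 : allRangeF (checkFactF cert) (nat_lit 3748000) (nat_lit 1000) = true := by decide +kernel
theorem chkF_3749000 : allRangeF (checkFactF cert) (nat_lit 3749000) (nat_lit 1000) = true := by decide +kernel
theorem chkF_3750000 : allRangeF (checkFactF cert) (nat_lit 3750000) (nat_lit 1000) = true := by decide +kernel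
theorem chkF_3751000 : allRangeF (checkFactF cert) (nat_lit 3751000) (nat_lit 1000) = true := by decide +kernel
theorem chkF_3752000 : allRangeF (checkFactF cert) (nat_lit 3752000) (nat_lit 1000) = true := by decide +kernel
theorem chkF_3753000 : allRangeF (checkFactF cert) (nat_lit 3753000) (nat_lit 1000) = true := by decide +kernel
theorem chkF_3754000 : allRangeF (checkFactF cert) (nat_lit 3754000) (nat_lit 1000) = true := by decide +kernel
theorem chkF_3755000 : allRangeF (checkFactF cert) (nat_lit 3755000) (nat_lit 1000) = true := by decide +kernel
theorem chkF_3756000 : allRangeF (checkFactF cert) (nat_lit 3756000) (nat_lit 1000) = true := by decide +kernel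
theorem chkF_3757000 : allRangeF (checkFactF cert) (nat_lit 3757000) (nat_lit 1000) = true := by decide +kernel
theorem chkF_3758000 : allRangeF (checkFactF cert) (nat_lit 3758000) (nat_lit 1000) = true := by decide +kernel
theorem chkF_3759000 : allRangeF (checkFactF cert) (nat_lit 3759000) (nat_lit 1000) = true := by decide +kernel
theorem chkF_3760000 : allRangeF (checkFactF cert) (nat_lit 3760000) (nat_lit 1000) = true := by decide +kernel
theorem chkF_3761000 : allRangeF (checkFactF cert) (nat_lit 3761000) (nat_lit 1000) = true := by decide +kernel

theorem factsRange_37 : ∀ i, 3663000 ≤ i → i < 3762000 → checkFact cert i = true := by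
  intro i hlo hhi
  rcases Nat.lt_or_ge i 3712000 with h1 | h1
  · skip
    rcases Nat.lt_or_ge i 3687000 with h2 | h2
    · skip
      rcases Nat.lt_or_ge i 3675000 with h3 | h3
      · skip
        rcases Nat.lt_or_ge i 3669000 with h4 | h4
        · skip
          rcases Nat.lt_or_ge i 3666000 with h5 | h5
          · skip
            rcases Nat.lt_or_ge i 3664000 with h6 | h6
            · skip
              exact allRangeF_sound _ _ (checkFactF_eq cert) 3663000 1000 chkF_3663000 i (by omega) (by omega)
            · skip
              rcases Nat.lt_or_ge i 3665000 with h7 | h7
              · skip
                exact allRangeF_sound _ _ (checkFactF_eq cert) 3664000 1000 chkF_3664000 i (by omega) (by omega)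
              · skip
                exact allRangeF_sound _ _ (checkFactF_eq cert) 3665000 1000 chkF_3665000 i (by omega) (by omega)
          · skip
            rcases Nat.lt_or_ge i 3667000 with h6 | h6
            · skip
              exact allRangeF_sound _ _ (checkFactF_eq cert) 3666000 1000 chkF_3666000 i (by omega) (by omega)
            · skip
              rcases Nat.lt_or_ge i 3668000 with h7 | h7
              · skip
                exact allRangeF_sound _ _ (checkFactF_eq cert) 3667000 1000 chkF_3667000 i (by omega) (by omega)
              · skip
                exact allRangeF_sound _ _ (checkFactF_eq cert) 3668000 1000 chkF_3668000 i (by omega) (by omega)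
        · skip
          rcases Nat.lt_or_ge i 3672000 with h5 | h5
          · skip
            rcases Nat.lt_or_ge i 3670000 with h6 | h6
            · skip
              exact allRangeF_sound _ _ (checkFactF_eq cert) 3669000 1000 chkF_3669000 i (by omega) (by omega)
            · skip
              rcases Nat.lt_or_ge i 3671000 with h7 | h7
              · skip
                exact allRangeF_sound _ _ (checkFactF_eq cert) 3670000 1000 chkF_3670000 i (by omega) (by omega)
              · skip
                exact allRangeF_sound _ _ (checkFactF_eq cert) 3671000 1000 chkF_3671000 i (by omega) (by omega)
          · skip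
            rcases Nat.lt_or_ge i 3673000 with h6 | h6
            · skip
              exact allRangeF_sound _ _ (checkFactF_eq cert) 3672000 1000 chkF_3672000 i (by omega) (by omega)
            · skip
              rcases Nat.lt_or_ge i 3674000 with h7 | h7
              · skip
                exact allRangeF_sound _ _ (checkFactF_eq cert) 3673000 1000 chkF_3673000 i (by omega) (by omega)
              · skip
                exact allRangeF_sound _ _ (checkFactF_eq cert) 3674000 1000 chkF_3674000 i (by omega) (by omega)
      · skip
        rcases Nat.lt_or_ge i 3681000 with h4 | h4
        · skip
          rcases Nat.lt_or_ge i 3678000 with h5 | h5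
          · skip
            rcases Nat.lt_or_ge i 3676000 with h6 | h6
            · skip
              exact allRangeF_sound _ _ (checkFactF_eq cert) 3675000 1000 chkF_3675000 i (by omega) (by omega)
            · skip
              rcases Nat.lt_or_ge i 3677000 with h7 | h7
              · skip
                exact allRangeF_sound _ _ (checkFactF_eq cert) 3676000 1000 chkF_3676000 i (by omega) (by omega)
              · skip
                exact allRangeF_sound _ _ (checkFactF_eq cert) 3677000 1000 chkF_3677000 i (by omega) (by omega)
          · skip
            rcases Nat.lt_or_ge i 3679000 with h6 | h6
            · skip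
              exact allRangeF_sound _ _ (checkFactF_eq cert) 3678000 1000 chkF_3678000 i (by omega) (by omega)
            · skip
              rcases Nat.lt_or_ge i 3680000 with h7 | h7
              · skip
                exact allRangeF_sound _ _ (checkFactF_eq cert) 3679000 1000 chkF_3679000 i (by omega) (by omega)
              · skip
                exact allRangeF_sound _ _ (checkFactF_eq cert) 3680000 1000 chkF_3680000 i (by omega) (by omega)
        · skip
          rcases Nat.lt_or_ge i 3684000 with h5 | h5
          · skip
            rcases Nat.lt_or_ge i 3682000 with h6 | h6
            · skip
              exact allRangeF_sound _ _ (checkFactF_eq cert) 3681000 1000 chkF_3681000 i (by omega) (by omega)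
            · skip
              rcases Nat.lt_or_ge i 3683000 with h7 | h7
              · skip
                exact allRangeF_sound _ _ (checkFactF_eq cert) 3682000 1000 chkF_3682000 i (by omega) (by omega)
              · skip
                exact allRangeF_sound _ _ (checkFactF_eq cert) 3683000 1000 chkF_3683000 i (by omega) (by omega)
          · skip
            rcases Nat.lt_or_ge i 3685000 with h6 | h6
            · skip
              exact allRangeF_sound _ _ (checkFactF_eq cert) 3684000 1000 chkF_3684000 i (by omega) (by omega)
            · skip
              rcases Nat.lt_or_ge i 3686000 with h7 | h7
              · skip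
                exact allRangeF_sound _ _ (checkFactF_eq cert) 3685000 1000 chkF_3685000 i (by omega) (by omega)
              · skip
                exact allRangeF_sound _ _ (checkFactF_eq cert) 3686000 1000 chkF_3686000 i (by omega) (by omega)
    · skip
      rcases Nat.lt_or_ge i 3699000 with h3 | h3
      · skip
        rcases Nat.lt_or_ge i 3693000 with h4 | h4
        · skip
          rcases Nat.lt_or_ge i 3690000 with h5 | h5
          · skip
            rcases Nat.lt_or_ge i 3688000 with h6 | h6
            · skip
              exact allRangeF_sound _ _ (checkFactF_eq cert) 3687000 1000 chkF_3687000 i (by omega) (by omega)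
            · skip
              rcases Nat.lt_or_ge i 3689000 with h7 | h7
              · skip
                exact allRangeF_sound _ _ (checkFactF_eq cert) 3688000 1000 chkF_3688000 i (by omega) (by omega)
              · skip
                exact allRangeF_sound _ _ (checkFactF_eq cert) 3689000 1000 chkF_3689000 i (by omega) (by omega)
          · skip
            rcases Nat.lt_or_ge i 3691000 with h6 | h6
            · skip
              exact allRangeF_sound _ _ (checkFactF_eq cert) 3690000 1000 chkF_3690000 i (by omega) (by omega)
            · skip
              rcases Nat.lt_or_ge i 3692000 with h7 | h7
              · skip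
                exact allRangeF_sound _ _ (checkFactF_eq cert) 3691000 1000 chkF_3691000 i (by omega) (by omega)
              · skip
                exact allRangeF_sound _ _ (checkFactF_eq cert) 3692000 1000 chkF_3692000 i (by omega) (by omega)
        · skip
          rcases Nat.lt_or_ge i 3696000 with h5 | h5
          · skip
            rcases Nat.lt_or_ge i 3694000 with h6 | h6
            · skip
              exact allRangeF_sound _ _ (checkFactF_eq cert) 3693000 1000 chkF_3693000 i (by omega) (by omega)
            · skip
              rcases Nat.lt_or_ge i 3695000 with h7 | h7
              · skip
                exact allRangeF_sound _ _ (checkFactF_eq cert) 3694000 1000 chkF_3694000 i (by omega) (by omega)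
              · skip
                exact allRangeF_sound _ _ (checkFactF_eq cert) 3695000 1000 chkF_3695000 i (by omega) (by omega)
          · skip
            rcases Nat.lt_or_ge i 3697000 with h6 | h6
            · skip
              exact allRangeF_sound _ _ (checkFactF_eq cert) 3696000 1000 chkF_3696000 i (by omega) (by omega)
            · skip
              rcases Nat.lt_or_ge i 3698000 with h7 | h7
              · skip
                exact allRangeF_sound _ _ (checkFactF_eq cert) 3697000 1000 chkF_3697000 i (by omega) (by omega)
              · skip
                exact allRangeF_sound _ _ (checkFactF_eq cert) 3698000 1000 chkF_3698000 i (by omega) (by omega)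
      · skip
        rcases Nat.lt_or_ge i 3705000 with h4 | h4
        · skip
          rcases Nat.lt_or_ge i 3702000 with h5 | h5
          · skip
            rcases Nat.lt_or_ge i 3700000 with h6 | h6
            · skip
              exact allRangeF_sound _ _ (checkFactF_eq cert) 3699000 1000 chkF_3699000 i (by omega) (by omega)
            · skip
              rcases Nat.lt_or_ge i 3701000 with h7 | h7
              · skip
                exact allRangeF_sound _ _ (checkFactF_eq cert) 3700000 1000 chkF_3700000 i (by omega) (by omega)
              · skip
                exact allRangeF_sound _ _ (checkFactF_eq cert) 3701000 1000 chkF_3701000 i (by omega) (by omega)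
          · skip
            rcases Nat.lt_or_ge i 3703000 with h6 | h6
            · skip
              exact allRangeF_sound _ _ (checkFactF_eq cert) 3702000 1000 chkF_3702000 i (by omega) (by omega)
            · skip
              rcases Nat.lt_or_ge i 3704000 with h7 | h7
              · skip
                exact allRangeF_sound _ _ (checkFactF_eq cert) 3703000 1000 chkF_3703000 i (by omega) (by omega)
              · skip
                exact allRangeF_sound _ _ (checkFactF_eq cert) 3704000 1000 chkF_3704000 i (by omega) (by omega)
        · skip
          rcases Nat.lt_or_ge i 3708000 with h5 | h5
          · skip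
            rcases Nat.lt_or_ge i 3706000 with h6 | h6
            · skip
              exact allRangeF_sound _ _ (checkFactF_eq cert) 3705000 1000 chkF_3705000 i (by omega) (by omega)
            · skip
              rcases Nat.lt_or_ge i 3707000 with h7 | h7
              · skip
                exact allRangeF_sound _ _ (checkFactF_eq cert) 3706000 1000 chkF_3706000 i (by omega) (by omega)
              · skip
                exact allRangeF_sound _ _ (checkFactF_eq cert) 3707000 1000 chkF_3707000 i (by omega) (by omega)
          · skip
            rcases Nat.lt_or_ge i 3710000 with h6 | h6
            · skip
              rcases Nat.lt_or_ge i 3709000 with h7 | h7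
              · skip
                exact allRangeF_sound _ _ (checkFactF_eq cert) 3708000 1000 chkF_3708000 i (by omega) (by omega)
              · skip
                exact allRangeF_sound _ _ (checkFactF_eq cert) 3709000 1000 chkF_3709000 i (by omega) (by omega)
            · skip
              rcases Nat.lt_or_ge i 3711000 with h7 | h7
              · skip
                exact allRangeF_sound _ _ (checkFactF_eq cert) 3710000 1000 chkF_3710000 i (by omega) (by omega)
              · skip
                exact allRangeF_sound _ _ (checkFactF_eq cert) 3711000 1000 chkF_3711000 i (by omega) (by omega)
  · skip
    rcases Nat.lt_or_ge i 3737000 with h2 | h2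
    · skip
      rcases Nat.lt_or_ge i 3724000 with h3 | h3
      · skip
        rcases Nat.lt_or_ge i 3718000 with h4 | h4
        · skip
          rcases Nat.lt_or_ge i 3715000 with h5 | h5
          · skip
            rcases Nat.lt_or_ge i 3713000 with h6 | h6
            · skip
              exact allRangeF_sound _ _ (checkFactF_eq cert) 3712000 1000 chkF_3712000 i (by omega) (by omega)
            · skip
              rcases Nat.lt_or_ge i 3714000 with h7 | h7
              · skip
                exact allRangeF_sound _ _ (checkFactF_eq cert) 3713000 1000 chkF_3713000 i (by omega) (by omega)
              · skip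
                exact allRangeF_sound _ _ (checkFactF_eq cert) 3714000 1000 chkF_3714000 i (by omega) (by omega)
          · skip
            rcases Nat.lt_or_ge i 3716000 with h6 | h6
            · skip
              exact allRangeF_sound _ _ (checkFactF_eq cert) 3715000 1000 chkF_3715000 i (by omega) (by omega)
            · skip
              rcases Nat.lt_or_ge i 3717000 with h7 | h7
              · skip
                exact allRangeF_sound _ _ (checkFactF_eq cert) 3716000 1000 chkF_3716000 i (by omega) (by omega)
              · skip
                exact allRangeF_sound _ _ (checkFactF_eq cert) 3717000 1000 chkF_3717000 i (by omega) (by omega)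
        · skip
          rcases Nat.lt_or_ge i 3721000 with h5 | h5
          · skip
            rcases Nat.lt_or_ge i 3719000 with h6 | h6
            · skip
              exact allRangeF_sound _ _ (checkFactF_eq cert) 3718000 1000 chkF_3718000 i (by omega) (by omega)
            · skip
              rcases Nat.lt_or_ge i 3720000 with h7 | h7
              · skip
                exact allRangeF_sound _ _ (checkFactF_eq cert) 3719000 1000 chkF_3719000 i (by omega) (by omega)
              · skip
                exact allRangeF_sound _ _ (checkFactF_eq cert) 3720000 1000 chkF_3720000 i (by omega) (by omega)
          · skip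
            rcases Nat.lt_or_ge i 3722000 with h6 | h6
            · skip
              exact allRangeF_sound _ _ (checkFactF_eq cert) 3721000 1000 chkF_3721000 i (by omega) (by omega)
            · skip
              rcases Nat.lt_or_ge i 3723000 with h7 | h7
              · skip
                exact allRangeF_sound _ _ (checkFactF_eq cert) 3722000 1000 chkF_3722000 i (by omega) (by omega)
              · skip
                exact allRangeF_sound _ _ (checkFactF_eq cert) 3723000 1000 chkF_3723000 i (by omega) (by omega)
      · skip
        rcases Nat.lt_or_ge i 3730000 with h4 | h4
        · skip
          rcases Nat.lt_or_ge i 3727000 with h5 | h5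
          · skip
            rcases Nat.lt_or_ge i 3725000 with h6 | h6
            · skip
              exact allRangeF_sound _ _ (checkFactF_eq cert) 3724000 1000 chkF_3724000 i (by omega) (by omega)
            · skip
              rcases Nat.lt_or_ge i 3726000 with h7 | h7
              · skip
                exact allRangeF_sound _ _ (checkFactF_eq cert) 3725000 1000 chkF_3725000 i (by omega) (by omega)
              · skip
                exact allRangeF_sound _ _ (checkFactF_eq cert) 3726000 1000 chkF_3726000 i (by omega) (by omega)
          · skip
            rcases Nat.lt_or_ge i 3728000 with h6 | h6
            · skip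
              exact allRangeF_sound _ _ (checkFactF_eq cert) 3727000 1000 chkF_3727000 i (by omega) (by omega)
            · skip
              rcases Nat.lt_or_ge i 3729000 with h7 | h7
              · skip
                exact allRangeF_sound _ _ (checkFactF_eq cert) 3728000 1000 chkF_3728000 i (by omega) (by omega)
              · skip
                exact allRangeF_sound _ _ (checkFactF_eq cert) 3729000 1000 chkF_3729000 i (by omega) (by omega)
        · skip
          rcases Nat.lt_or_ge i 3733000 with h5 | h5
          · skip
            rcases Nat.lt_or_ge i 3731000 with h6 | h6
            · skip
              exact allRangeF_sound _ _ (checkFactF_eq cert) 3730000 1000 chkF_3730000 i (by omega) (by omega)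
            · skip
              rcases Nat.lt_or_ge i 3732000 with h7 | h7
              · skip
                exact allRangeF_sound _ _ (checkFactF_eq cert) 3731000 1000 chkF_3731000 i (by omega) (by omega)
              · skip
                exact allRangeF_sound _ _ (checkFactF_eq cert) 3732000 1000 chkF_3732000 i (by omega) (by omega)
          · skip
            rcases Nat.lt_or_ge i 3735000 with h6 | h6
            · skip
              rcases Nat.lt_or_ge i 3734000 with h7 | h7
              · skip
                exact allRangeF_sound _ _ (checkFactF_eq cert) 3733000 1000 chkF_3733000 i (by omega) (by omega)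
              · skip
                exact allRangeF_sound _ _ (checkFactF_eq cert) 3734000 1000 chkF_3734000 i (by omega) (by omega)
            · skip
              rcases Nat.lt_or_ge i 3736000 with h7 | h7
              · skip
                exact allRangeF_sound _ _ (checkFactF_eq cert) 3735000 1000 chkF_3735000 i (by omega) (by omega)
              · skip
                exact allRangeF_sound _ _ (checkFactF_eq cert) 3736000 1000 chkF_3736000 i (by omega) (by omega)
    · skip
      rcases Nat.lt_or_ge i 3749000 with h3 | h3
      · skip
        rcases Nat.lt_or_ge i 3743000 with h4 | h4
        · skip
          rcases Nat.lt_or_ge i 3740000 with h5 | h5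
          · skip
            rcases Nat.lt_or_ge i 3738000 with h6 | h6
            · skip
              exact allRangeF_sound _ _ (checkFactF_eq cert) 3737000 1000 chkF_3737000 i (by omega) (by omega)
            · skip
              rcases Nat.lt_or_ge i 3739000 with h7 | h7
              · skip
                exact allRangeF_sound _ _ (checkFactF_eq cert) 3738000 1000 chkF_3738000 i (by omega) (by omega)
              · skip
                exact allRangeF_sound _ _ (checkFactF_eq cert) 3739000 1000 chkF_3739000 i (by omega) (by omega)
          · skip
            rcases Nat.lt_or_ge i 3741000 with h6 | h6
            · skip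
              exact allRangeF_sound _ _ (checkFactF_eq cert) 3740000 1000 chkF_3740000 i (by omega) (by omega)
            · skip
              rcases Nat.lt_or_ge i 3742000 with h7 | h7
              · skip
                exact allRangeF_sound _ _ (checkFactF_eq cert) 3741000 1000 chkF_3741000 i (by omega) (by omega)
              · skip
                exact allRangeF_sound _ _ (checkFactF_eq cert) 3742000 1000 chkF_3742000 i (by omega) (by omega)
        · skip
          rcases Nat.lt_or_ge i 3746000 with h5 | h5
          · skip
            rcases Nat.lt_or_ge i 3744000 with h6 | h6
            · skip
              exact allRangeF_sound _ _ (checkFactF_eq cert) 3743000 1000 chkF_3743000 i (by omega) (by omega)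
            · skip
              rcases Nat.lt_or_ge i 3745000 with h7 | h7
              · skip
                exact allRangeF_sound _ _ (checkFactF_eq cert) 3744000 1000 chkF_3744000 i (by omega) (by omega)
              · skip
                exact allRangeF_sound _ _ (checkFactF_eq cert) 3745000 1000 chkF_3745000 i (by omega) (by omega)
          · skip
            rcases Nat.lt_or_ge i 3747000 with h6 | h6
            · skip
              exact allRangeF_sound _ _ (checkFactF_eq cert) 3746000 1000 chkF_3746000 i (by omega) (by omega)
            · skip
              rcases Nat.lt_or_ge i 3748000 with h7 | h7
              · skip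
                exact allRangeF_sound _ _ (checkFactF_eq cert) 3747000 1000 chkF_3747000 i (by omega) (by omega)
              · skip
                exact allRangeF_sound _ _ (checkFactF_eq cert) 3748000 1000 chkF_3748000 i (by omega) (by omega)
      · skip
        rcases Nat.lt_or_ge i 3755000 with h4 | h4
        · skip
          rcases Nat.lt_or_ge i 3752000 with h5 | h5
          · skip
            rcases Nat.lt_or_ge i 3750000 with h6 | h6
            · skip
              exact allRangeF_sound _ _ (checkFactF_eq cert) 3749000 1000 chkF_3749000 i (by omega) (by omega)
            · skip
              rcases Nat.lt_or_ge i 3751000 with h7 | h7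
              · skip
                exact allRangeF_sound _ _ (checkFactF_eq cert) 3750000 1000 chkF_3750000 i (by omega) (by omega)
              · skip
                exact allRangeF_sound _ _ (checkFactF_eq cert) 3751000 1000 chkF_3751000 i (by omega) (by omega)
          · skip
            rcases Nat.lt_or_ge i 3753000 with h6 | h6
            · skip
              exact allRangeF_sound _ _ (checkFactF_eq cert) 3752000 1000 chkF_3752000 i (by omega) (by omega)
            · skip
              rcases Nat.lt_or_ge i 3754000 with h7 | h7
              · skip
                exact allRangeF_sound _ _ (checkFactF_eq cert) 3753000 1000 chkF_3753000 i (by omega) (by omega)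
              · skip
                exact allRangeF_sound _ _ (checkFactF_eq cert) 3754000 1000 chkF_3754000 i (by omega) (by omega)
        · skip
          rcases Nat.lt_or_ge i 3758000 with h5 | h5
          · skip
            rcases Nat.lt_or_ge i 3756000 with h6 | h6
            · skip
              exact allRangeF_sound _ _ (checkFactF_eq cert) 3755000 1000 chkF_3755000 i (by omega) (by omega)
            · skip
              rcases Nat.lt_or_ge i 3757000 with h7 | h7
              · skip
                exact allRangeF_sound _ _ (checkFactF_eq cert) 3756000 1000 chkF_3756000 i (by omega) (by omega)
              · skip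
                exact allRangeF_sound _ _ (checkFactF_eq cert) 3757000 1000 chkF_3757000 i (by omega) (by omega)
          · skip
            rcases Nat.lt_or_ge i 3760000 with h6 | h6
            · skip
              rcases Nat.lt_or_ge i 3759000 with h7 | h7
              · skip
                exact allRangeF_sound _ _ (checkFactF_eq cert) 3758000 1000 chkF_3758000 i (by omega) (by omega)
              · skip
                exact allRangeF_sound _ _ (checkFactF_eq cert) 3759000 1000 chkF_3759000 i (by omega) (by omega)
            · skip
              rcases Nat.lt_or_ge i 3761000 with h7 | h7
              · skip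
                exact allRangeF_sound _ _ (checkFactF_eq cert) 3760000 1000 chkF_3760000 i (by omega) (by omega)
              · skip
                exact allRangeF_sound _ _ (checkFactF_eq cert) 3761000 1000 chkF_3761000 i (by omega) (by omega)

end Cfsg.Agent.Lib.Helper28.Fi24Data
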