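import Cfsg.Agent.Lib.Helper28.Fi24Data
import Cfsg.Agent.Lib.Helper28.TCFastFB

set_option autoImplicit false
set_option maxRecDepth 1000000
set_option linter.all false
set_option Elab.async false

namespace Cfsg.Agent.Lib.Helper28.Fi24Data

open Cfsg.Agent.Lib.Helper28B

theorem chkF_3762000 : allRangeF (checkFactF cert) (nat_lit 3762000) (nat_lit 1000) = true := by decide +kernel
theorem chkF_3763000 : allRangeF (checkFactF cert) (nat_lit 3763000) (nat_lit 1000) = true := by decide +kernel
theorem chkF_3764000 : allRangeF (checkFactF cert) (nat_lit 3764000) (nat_lit 1000) = true := by decide +kernel
theorem chkF_3765000 : allRangeF (checkFactF cert) (nat_lit 3765000) (nat_lit 1000) = true := by decide +kernel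
theorem chkF_3766000 : allRangeF (checkFactF cert) (nat_lit 3766000) (nat_lit 1000) = true := by decide +kernel
theorem chkF_3767000 : allRangeF (checkFactF cert) (nat_lit 3767000) (nat_lit 1000) = true := by decide +kernel
theorem chkF_3768000 : allRangeF (checkFactF cert) (nat_lit 3768000) (nat_lit 1000) = true := by decide +kernel
theorem chkF_3769000 : allRangeF (checkFactF cert) (nat_lit 3769000) (nat_lit 1000) = true := by decide +kernel
theorem chkF_3770000 : allRangeF (checkFactF cert) (nat_lit 3770000) (nat_lit 1000) = true := by decide +kernel
theorem chkF_3771000 : allRangeF (checkFactF cert) (nat_lit 3771000) (nat_lit 1000) = true := by decide +kernel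
theorem chkF_3772000 : allRangeF (checkFactF cert) (nat_lit 3772000) (nat_lit 1000) = true := by decide +kernel
theorem chkF_3773000 : allRangeF (checkFactF cert) (nat_lit 3773000) (nat_lit 1000) = true := by decide +kernel
theorem chkF_3774000 : allRangeF (checkFactF cert) (nat_lit 3774000) (nat_lit 1000) = true := by decide +kernel
theorem chkF_3775000 : allRangeF (checkFactF cert) (nat_lit 3775000) (nat_lit 1000) = true := by decide +kernel
theorem chkF_3776000 : allRangeF (checkFactF cert) (nat_lit 3776000) (nat_lit 1000) = true := by decide +kernel
theorem chkF_3777000 : allRangeF (checkFactF cert) (nat_lit 3777000) (nat_lit 1000) = true := by decide +kernel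
theorem chkF_3778000 : allRangeF (checkFactF cert) (nat_lit 3778000) (nat_lit 1000) = true := by decide +kernel
theorem chkF_3779000 : allRangeF (checkFactF cert) (nat_lit 3779000) (nat_lit 1000) = true := by decide +kernel
theorem chkF_3780000 : allRangeF (checkFactF cert) (nat_lit 3780000) (nat_lit 1000) = true := by decide +kernel
theorem chkF_3781000 : allRangeF (checkFactF cert) (nat_lit 3781000) (nat_lit 1000) = true := by decide +kernel
theorem chkF_3782000 : allRangeF (checkFactF cert) (nat_lit 3782000) (nat_lit 1000) = true := by decide +kernel
theorem chkF_3783000 : allRangeF (checkFactF cert) (nat_lit 3783000) (nat_lit 1000) = true := by decide +kernel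
theorem chkF_3784000 : allRangeF (checkFactF cert) (nat_lit 3784000) (nat_lit 1000) = true := by decide +kernel
theorem chkF_3785000 : allRangeF (checkFactF cert) (nat_lit 3785000) (nat_lit 1000) = true := by decide +kernel
theorem chkF_3786000 : allRangeF (checkFactF cert) (nat_lit 3786000) (nat_lit 1000) = true := by decide +kernel
theorem chkF_3787000 : allRangeF (checkFactF cert) (nat_lit 3787000) (nat_lit 1000) = true := by decide +kernel
theorem chkF_3788000 : allRangeF (checkFactF cert) (nat_lit 3788000) (nat_lit 1000) = true := by decide +kernel
theorem chkF_3789000 : allRangeF (checkFactF cert) (nat_lit 3789000) (nat_lit 1000) = true := by decide +kernel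
theorem chkF_3790000 : allRangeF (checkFactF cert) (nat_lit 3790000) (nat_lit 1000) = true := by decide +kernel
theorem chkF_3791000 : allRangeF (checkFactF cert) (nat_lit 3791000) (nat_lit 1000) = true := by decide +kernel
theorem chkF_3792000 : allRangeF (checkFactF cert) (nat_lit 3792000) (nat_lit 1000) = true := by decide +kernel
theorem chkF_3793000 : allRangeF (checkFactF cert) (nat_lit 3793000) (nat_lit 1000) = true := by decide +kernel
theorem chkF_3794000 : allRangeF (checkFactF cert) (nat_lit 3794000) (nat_lit 1000) = true := by decide +kernel
theorem chkF_3795000 : allRangeF (checkFactF cert) (nat_lit 3795000) (nat_lit 1000) = true := by decide +kernel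
theorem chkF_3796000 : allRangeF (checkFactF cert) (nat_lit 3796000) (nat_lit 1000) = true := by decide +kernel
theorem chkF_3797000 : allRangeF (checkFactF cert) (nat_lit 3797000) (nat_lit 1000) = true := by decide +kernel
theorem chkF_3798000 : allRangeF (checkFactF cert) (nat_lit 3798000) (nat_lit 1000) = true := by decide +kernel
theorem chkF_3799000 : allRangeF (checkFactF cert) (nat_lit 3799000) (nat_lit 1000) = true := by decide +kernel
theorem chkF_3800000 : allRangeF (checkFactF cert) (nat_lit 3800000) (nat_lit 1000) = true := by decide +kernel
theorem chkF_3801000 : allRangeF (checkFactF cert) (nat_lit 3801000) (nat_lit 1000) = true := by decide +kernel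
theorem chkF_3802000 : allRangeF (checkFactF cert) (nat_lit 3802000) (nat_lit 1000) = true := by decide +kernel
theorem chkF_3803000 : allRangeF (checkFactF cert) (nat_lit 3803000) (nat_lit 1000) = true := by decide +kernel
theorem chkF_3804000 : allRangeF (checkFactF cert) (nat_lit 3804000) (nat_lit 1000) = true := by decide +kernel
theorem chkF_3805000 : allRangeF (checkFactF cert) (nat_lit 3805000) (nat_lit 1000) = true := by decide +kernel
theorem chkF_3806000 : allRangeF (checkFactF cert) (nat_lit 3806000) (nat_lit 1000) = true := by decide +kernel
theorem chkF_3807000 : allRangeF (checkFactF cert) (nat_lit 3807000) (nat_lit 1000) = true := by decide +kernel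
theorem chkF_3808000 : allRangeF (checkFactF cert) (nat_lit 3808000) (nat_lit 1000) = true := by decide +kernel
theorem chkF_3809000 : allRangeF (checkFactF cert) (nat_lit 3809000) (nat_lit 1000) = true := by decide +kernel
theorem chkF_3810000 : allRangeF (checkFactF cert) (nat_lit 3810000) (nat_lit 1000) = true := by decide +kernel
theorem chkF_3811000 : allRangeF (checkFactF cert) (nat_lit 3811000) (nat_lit 1000) = true := by decide +kernel
theorem chkF_3812000 : allRangeF (checkFactF cert) (nat_lit 3812000) (nat_lit 1000) = true := by decide +kernel
theorem chkF_3813000 : allRangeF (checkFactF cert) (nat_lit 3813000) (nat_lit 1000) = true := by decide +kernel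
theorem chkF_3814000 : allRangeF (checkFactF cert) (nat_lit 3814000) (nat_lit 1000) = true := by decide +kernel
theorem chkF_3815000 : allRangeF (checkFactF cert) (nat_lit 3815000) (nat_lit 1000) = true := by decide +kernel
theorem chkF_3816000 : allRangeF (checkFactF cert) (nat_lit 3816000) (nat_lit 1000) = true := by decide +kernel
theorem chkF_3817000 : allRangeF (checkFactF cert) (nat_lit 3817000) (nat_lit 1000) = true := by decide +kernel
theorem chkF_3818000 : allRangeF (checkFactF cert) (nat_lit 3818000) (nat_lit 1000) = true := by decide +kernel
theorem chkF_3819000 : allRangeF (checkFactF cert) (nat_lit 3819000) (nat_lit 1000) = true := by decide +kernel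
theorem chkF_3820000 : allRangeF (checkFactF cert) (nat_lit 3820000) (nat_lit 1000) = true := by decide +kernel
theorem chkF_3821000 : allRangeF (checkFactF cert) (nat_lit 3821000) (nat_lit 1000) = true := by decide +kernel
theorem chkF_3822000 : allRangeF (checkFactF cert) (nat_lit 3822000) (nat_lit 1000) = true := by decide +kernel
theorem chkF_3823000 : allRangeF (checkFactF cert) (nat_lit 3823000) (nat_lit 1000) = true := by decide +kernel
theorem chkF_3824000 : allRangeF (checkFactF cert) (nat_lit 3824000) (nat_lit 1000) = true := by decide +kernel
theorem chkF_3825000 : allRangeF (checkFactF cert) (nat_lit 3825000) (nat_lit 1000) = true := by decide +kernel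
theorem chkF_3826000 : allRangeF (checkFactF cert) (nat_lit 3826000) (nat_lit 1000) = true := by decide +kernel
theorem chkF_3827000 : allRangeF (checkFactF cert) (nat_lit 3827000) (nat_lit 1000) = true := by decide +kernel
theorem chkF_3828000 : allRangeF (checkFactF cert) (nat_lit 3828000) (nat_lit 1000) = true := by decide +kernel
theorem chkF_3829000 : allRangeF (checkFactF cert) (nat_lit 3829000) (nat_lit 1000) = true := by decide +kernel
theorem chkF_3830000 : allRangeF (checkFactF cert) (nat_lit 3830000) (nat_lit 1000) = true := by decide +kernel
theorem chkF_3831000 : allRangeF (checkFactF cert) (nat_lit 3831000) (nat_lit 1000) = true := by decide +kernel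
theorem chkF_3832000 : allRangeF (checkFactF cert) (nat_lit 3832000) (nat_lit 1000) = true := by decide +kernel
theorem chkF_3833000 : allRangeF (checkFactF cert) (nat_lit 3833000) (nat_lit 1000) = true := by decide +kernel
theorem chkF_3834000 : allRangeF (checkFactF cert) (nat_lit 3834000) (nat_lit 1000) = true := by decide +kernel
theorem chkF_3835000 : allRangeF (checkFactF cert) (nat_lit 3835000) (nat_lit 1000) = true := by decide +kernel
theorem chkF_3836000 : allRangeF (checkFactF cert) (nat_lit 3836000) (nat_lit 1000) = true := by decide +kernel
theorem chkF_3837000 : allRangeF (checkFactF cert) (nat_lit 3837000) (nat_lit 1000) = true := by decide +kernel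
theorem chkF_3838000 : allRangeF (checkFactF cert) (nat_lit 3838000) (nat_lit 1000) = true := by decide +kernel
theorem chkF_3839000 : allRangeF (checkFactF cert) (nat_lit 3839000) (nat_lit 1000) = true := by decide +kernel
theorem chkF_3840000 : allRangeF (checkFactF cert) (nat_lit 3840000) (nat_lit 1000) = true := by decide +kernel
theorem chkF_3841000 : allRangeF (checkFactF cert) (nat_lit 3841000) (nat_lit 1000) = true := by decide +kernel
theorem chkF_3842000 : allRangeF (checkFactF cert) (nat_lit 3842000) (nat_lit 1000) = true := by decide +kernel
theorem chkF_3843000 : allRangeF (checkFactF cert) (nat_lit 3843000) (nat_lit 1000) = true := by decide +kernel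
theorem chkF_3844000 : allRangeF (checkFactF cert) (nat_lit 3844000) (nat_lit 1000) = true := by decide +kernel
theorem chkF_3845000 : allRangeF (checkFactF cert) (nat_lit 3845000) (nat_lit 1000) = true := by decide +kernel
theorem chkF_3846000 : allRangeF (checkFactF cert) (nat_lit 3846000) (nat_lit 1000) = true := by decide +kernel
theorem chkF_3847000 : allRangeF (checkFactF cert) (nat_lit 3847000) (nat_lit 1000) = true := by decide +kernel
theorem chkF_3848000 : allRangeF (checkFactF cert) (nat_lit 3848000) (nat_lit 1000) = true := by decide +kernel
theorem chkF_3849000 : allRangeF (checkFactF cert) (nat_lit 3849000) (nat_lit 1000) = true := by decide +kernel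
theorem chkF_3850000 : allRangeF (checkFactF cert) (nat_lit 3850000) (nat_lit 1000) = true := by decide +kernel
theorem chkF_3851000 : allRangeF (checkFactF cert) (nat_lit 3851000) (nat_lit 1000) = true := by decide +kernel
theorem chkF_3852000 : allRangeF (checkFactF cert) (nat_lit 3852000) (nat_lit 1000) = true := by decide +kernel
theorem chkF_3853000 : allRangeF (checkFactF cert) (nat_lit 3853000) (nat_lit 1000) = true := by decide +kernel
theorem chkF_3854000 : allRangeF (checkFactF cert) (nat_lit 3854000) (nat_lit 1000) = true := by decide +kernel
theorem chkF_3855000 : allRangeF (checkFactF cert) (nat_lit 3855000) (nat_lit 1000) = true := by decide +kernel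
theorem chkF_3856000 : allRangeF (checkFactF cert) (nat_lit 3856000) (nat_lit 1000) = true := by decide +kernel
theorem chkF_3857000 : allRangeF (checkFactF cert) (nat_lit 3857000) (nat_lit 1000) = true := by decide +kernel
theorem chkF_3858000 : allRangeF (checkFactF cert) (nat_lit 3858000) (nat_lit 1000) = true := by decide +kernel
theorem chkF_3859000 : allRangeF (checkFactF cert) (nat_lit 3859000) (nat_lit 1000) = true := by decide +kernel
theorem chkF_3860000 : allRangeF (checkFactF cert) (nat_lit 3860000) (nat_lit 1000) = true := by decide +kernel

theorem factsRange_38 : ∀ i, 3762000 ≤ i → i < 3861000 → checkFact cert i = true := by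
  intro i hlo hhi
  rcases Nat.lt_or_ge i 3811000 with h1 | h1
  · skip
    rcases Nat.lt_or_ge i 3786000 with h2 | h2
    · skip
      rcases Nat.lt_or_ge i 3774000 with h3 | h3
      · skip
        rcases Nat.lt_or_ge i 3768000 with h4 | h4
        · skip
          rcases Nat.lt_or_ge i 3765000 with h5 | h5
          · skip
            rcases Nat.lt_or_ge i 3763000 with h6 | h6
            · skip
              exact allRangeF_sound _ _ (checkFactF_eq cert) 3762000 1000 chkF_3762000 i (by omega) (by omega)
            · skip
              rcases Nat.lt_or_ge i 3764000 with h7 | h7
              · skip
                exact allRangeF_sound _ _ (checkFactF_eq cert) 3763000 1000 chkF_3763000 i (by omega) (by omega)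
              · skip
                exact allRangeF_sound _ _ (checkFactF_eq cert) 3764000 1000 chkF_3764000 i (by omega) (by omega)
          · skip
            rcases Nat.lt_or_ge i 3766000 with h6 | h6
            · skip
              exact allRangeF_sound _ _ (checkFactF_eq cert) 3765000 1000 chkF_3765000 i (by omega) (by omega)
            · skip
              rcases Nat.lt_or_ge i 3767000 with h7 | h7
              · skip
                exact allRangeF_sound _ _ (checkFactF_eq cert) 3766000 1000 chkF_3766000 i (by omega) (by omega)
              · skip
                exact allRangeF_sound _ _ (checkFactF_eq cert) 3767000 1000 chkF_3767000 i (by omega) (by omega)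
        · skip
          rcases Nat.lt_or_ge i 3771000 with h5 | h5
          · skip
            rcases Nat.lt_or_ge i 3769000 with h6 | h6
            · skip
              exact allRangeF_sound _ _ (checkFactF_eq cert) 3768000 1000 chkF_3768000 i (by omega) (by omega)
            · skip
              rcases Nat.lt_or_ge i 3770000 with h7 | h7
              · skip
                exact allRangeF_sound _ _ (checkFactF_eq cert) 3769000 1000 chkF_3769000 i (by omega) (by omega)
              · skip
                exact allRangeF_sound _ _ (checkFactF_eq cert) 3770000 1000 chkF_3770000 i (by omega) (by omega)
          · skip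
            rcases Nat.lt_or_ge i 3772000 with h6 | h6
            · skip
              exact allRangeF_sound _ _ (checkFactF_eq cert) 3771000 1000 chkF_3771000 i (by omega) (by omega)
            · skip
              rcases Nat.lt_or_ge i 3773000 with h7 | h7
              · skip
                exact allRangeF_sound _ _ (checkFactF_eq cert) 3772000 1000 chkF_3772000 i (by omega) (by omega)
              · skip
                exact allRangeF_sound _ _ (checkFactF_eq cert) 3773000 1000 chkF_3773000 i (by omega) (by omega)
      · skip
        rcases Nat.lt_or_ge i 3780000 with h4 | h4
        · skip
          rcases Nat.lt_or_ge i 3777000 with h5 | h5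
          · skip
            rcases Nat.lt_or_ge i 3775000 with h6 | h6
            · skip
              exact allRangeF_sound _ _ (checkFactF_eq cert) 3774000 1000 chkF_3774000 i (by omega) (by omega)
            · skip
              rcases Nat.lt_or_ge i 3776000 with h7 | h7
              · skip
                exact allRangeF_sound _ _ (checkFactF_eq cert) 3775000 1000 chkF_3775000 i (by omega) (by omega)
              · skip
                exact allRangeF_sound _ _ (checkFactF_eq cert) 3776000 1000 chkF_3776000 i (by omega) (by omega)
          · skip
            rcases Nat.lt_or_ge i 3778000 with h6 | h6
            · skip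
              exact allRangeF_sound _ _ (checkFactF_eq cert) 3777000 1000 chkF_3777000 i (by omega) (by omega)
            · skip
              rcases Nat.lt_or_ge i 3779000 with h7 | h7
              · skip
                exact allRangeF_sound _ _ (checkFactF_eq cert) 3778000 1000 chkF_3778000 i (by omega) (by omega)
              · skip
                exact allRangeF_sound _ _ (checkFactF_eq cert) 3779000 1000 chkF_3779000 i (by omega) (by omega)
        · skip
          rcases Nat.lt_or_ge i 3783000 with h5 | h5
          · skip
            rcases Nat.lt_or_ge i 3781000 with h6 | h6
            · skip
              exact allRangeF_sound _ _ (checkFactF_eq cert) 3780000 1000 chkF_3780000 i (by omega) (by omega)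
            · skip
              rcases Nat.lt_or_ge i 3782000 with h7 | h7
              · skip
                exact allRangeF_sound _ _ (checkFactF_eq cert) 3781000 1000 chkF_3781000 i (by omega) (by omega)
              · skip
                exact allRangeF_sound _ _ (checkFactF_eq cert) 3782000 1000 chkF_3782000 i (by omega) (by omega)
          · skip
            rcases Nat.lt_or_ge i 3784000 with h6 | h6
            · skip
              exact allRangeF_sound _ _ (checkFactF_eq cert) 3783000 1000 chkF_3783000 i (by omega) (by omega)
            · skip
              rcases Nat.lt_or_ge i 3785000 with h7 | h7
              · skip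
                exact allRangeF_sound _ _ (checkFactF_eq cert) 3784000 1000 chkF_3784000 i (by omega) (by omega)
              · skip
                exact allRangeF_sound _ _ (checkFactF_eq cert) 3785000 1000 chkF_3785000 i (by omega) (by omega)
    · skip
      rcases Nat.lt_or_ge i 3798000 with h3 | h3
      · skip
        rcases Nat.lt_or_ge i 3792000 with h4 | h4
        · skip
          rcases Nat.lt_or_ge i 3789000 with h5 | h5
          · skip
            rcases Nat.lt_or_ge i 3787000 with h6 | h6
            · skip
              exact allRangeF_sound _ _ (checkFactF_eq cert) 3786000 1000 chkF_3786000 i (by omega) (by omega)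
            · skip
              rcases Nat.lt_or_ge i 3788000 with h7 | h7
              · skip
                exact allRangeF_sound _ _ (checkFactF_eq cert) 3787000 1000 chkF_3787000 i (by omega) (by omega)
              · skip
                exact allRangeF_sound _ _ (checkFactF_eq cert) 3788000 1000 chkF_3788000 i (by omega) (by omega)
          · skip
            rcases Nat.lt_or_ge i 3790000 with h6 | h6
            · skip
              exact allRangeF_sound _ _ (checkFactF_eq cert) 3789000 1000 chkF_3789000 i (by omega) (by omega)
            · skip
              rcases Nat.lt_or_ge i 3791000 with h7 | h7
              · skip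
                exact allRangeF_sound _ _ (checkFactF_eq cert) 3790000 1000 chkF_3790000 i (by omega) (by omega)
              · skip
                exact allRangeF_sound _ _ (checkFactF_eq cert) 3791000 1000 chkF_3791000 i (by omega) (by omega)
        · skip
          rcases Nat.lt_or_ge i 3795000 with h5 | h5
          · skip
            rcases Nat.lt_or_ge i 3793000 with h6 | h6
            · skip
              exact allRangeF_sound _ _ (checkFactF_eq cert) 3792000 1000 chkF_3792000 i (by omega) (by omega)
            · skip
              rcases Nat.lt_or_ge i 3794000 with h7 | h7
              · skip
                exact allRangeF_sound _ _ (checkFactF_eq cert) 3793000 1000 chkF_3793000 i (by omega) (by omega)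
              · skip
                exact allRangeF_sound _ _ (checkFactF_eq cert) 3794000 1000 chkF_3794000 i (by omega) (by omega)
          · skip
            rcases Nat.lt_or_ge i 3796000 with h6 | h6
            · skip
              exact allRangeF_sound _ _ (checkFactF_eq cert) 3795000 1000 chkF_3795000 i (by omega) (by omega)
            · skip
              rcases Nat.lt_or_ge i 3797000 with h7 | h7
              · skip
                exact allRangeF_sound _ _ (checkFactF_eq cert) 3796000 1000 chkF_3796000 i (by omega) (by omega)
              · skip
                exact allRangeF_sound _ _ (checkFactF_eq cert) 3797000 1000 chkF_3797000 i (by omega) (by omega)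
      · skip
        rcases Nat.lt_or_ge i 3804000 with h4 | h4
        · skip
          rcases Nat.lt_or_ge i 3801000 with h5 | h5
          · skip
            rcases Nat.lt_or_ge i 3799000 with h6 | h6
            · skip
              exact allRangeF_sound _ _ (checkFactF_eq cert) 3798000 1000 chkF_3798000 i (by omega) (by omega)
            · skip
              rcases Nat.lt_or_ge i 3800000 with h7 | h7
              · skip
                exact allRangeF_sound _ _ (checkFactF_eq cert) 3799000 1000 chkF_3799000 i (by omega) (by omega)
              · skip
                exact allRangeF_sound _ _ (checkFactF_eq cert) 3800000 1000 chkF_3800000 i (by omega) (by omega)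
          · skip
            rcases Nat.lt_or_ge i 3802000 with h6 | h6
            · skip
              exact allRangeF_sound _ _ (checkFactF_eq cert) 3801000 1000 chkF_3801000 i (by omega) (by omega)
            · skip
              rcases Nat.lt_or_ge i 3803000 with h7 | h7
              · skip
                exact allRangeF_sound _ _ (checkFactF_eq cert) 3802000 1000 chkF_3802000 i (by omega) (by omega)
              · skip
                exact allRangeF_sound _ _ (checkFactF_eq cert) 3803000 1000 chkF_3803000 i (by omega) (by omega)
        · skip
          rcases Nat.lt_or_ge i 3807000 with h5 | h5
          · skip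
            rcases Nat.lt_or_ge i 3805000 with h6 | h6
            · skip
              exact allRangeF_sound _ _ (checkFactF_eq cert) 3804000 1000 chkF_3804000 i (by omega) (by omega)
            · skip
              rcases Nat.lt_or_ge i 3806000 with h7 | h7
              · skip
                exact allRangeF_sound _ _ (checkFactF_eq cert) 3805000 1000 chkF_3805000 i (by omega) (by omega)
              · skip
                exact allRangeF_sound _ _ (checkFactF_eq cert) 3806000 1000 chkF_3806000 i (by omega) (by omega)
          · skip
            rcases Nat.lt_or_ge i 3809000 with h6 | h6
            · skip
              rcases Nat.lt_or_ge i 3808000 with h7 | h7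
              · skip
                exact allRangeF_sound _ _ (checkFactF_eq cert) 3807000 1000 chkF_3807000 i (by omega) (by omega)
              · skip
                exact allRangeF_sound _ _ (checkFactF_eq cert) 3808000 1000 chkF_3808000 i (by omega) (by omega)
            · skip
              rcases Nat.lt_or_ge i 3810000 with h7 | h7
              · skip
                exact allRangeF_sound _ _ (checkFactF_eq cert) 3809000 1000 chkF_3809000 i (by omega) (by omega)
              · skip
                exact allRangeF_sound _ _ (checkFactF_eq cert) 3810000 1000 chkF_3810000 i (by omega) (by omega)
  · skip
    rcases Nat.lt_or_ge i 3836000 with h2 | h2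
    · skip
      rcases Nat.lt_or_ge i 3823000 with h3 | h3
      · skip
        rcases Nat.lt_or_ge i 3817000 with h4 | h4
        · skip
          rcases Nat.lt_or_ge i 3814000 with h5 | h5
          · skip
            rcases Nat.lt_or_ge i 3812000 with h6 | h6
            · skip
              exact allRangeF_sound _ _ (checkFactF_eq cert) 3811000 1000 chkF_3811000 i (by omega) (by omega)
            · skip
              rcases Nat.lt_or_ge i 3813000 with h7 | h7
              · skip
                exact allRangeF_sound _ _ (checkFactF_eq cert) 3812000 1000 chkF_3812000 i (by omega) (by omega)
              · skip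
                exact allRangeF_sound _ _ (checkFactF_eq cert) 3813000 1000 chkF_3813000 i (by omega) (by omega)
          · skip
            rcases Nat.lt_or_ge i 3815000 with h6 | h6
            · skip
              exact allRangeF_sound _ _ (checkFactF_eq cert) 3814000 1000 chkF_3814000 i (by omega) (by omega)
            · skip
              rcases Nat.lt_or_ge i 3816000 with h7 | h7
              · skip
                exact allRangeF_sound _ _ (checkFactF_eq cert) 3815000 1000 chkF_3815000 i (by omega) (by omega)
              · skip
                exact allRangeF_sound _ _ (checkFactF_eq cert) 3816000 1000 chkF_3816000 i (by omega) (by omega)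
        · skip
          rcases Nat.lt_or_ge i 3820000 with h5 | h5
          · skip
            rcases Nat.lt_or_ge i 3818000 with h6 | h6
            · skip
              exact allRangeF_sound _ _ (checkFactF_eq cert) 3817000 1000 chkF_3817000 i (by omega) (by omega)
            · skip
              rcases Nat.lt_or_ge i 3819000 with h7 | h7
              · skip
                exact allRangeF_sound _ _ (checkFactF_eq cert) 3818000 1000 chkF_3818000 i (by omega) (by omega)
              · skip
                exact allRangeF_sound _ _ (checkFactF_eq cert) 3819000 1000 chkF_3819000 i (by omega) (by omega)
          · skip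
            rcases Nat.lt_or_ge i 3821000 with h6 | h6
            · skip
              exact allRangeF_sound _ _ (checkFactF_eq cert) 3820000 1000 chkF_3820000 i (by omega) (by omega)
            · skip
              rcases Nat.lt_or_ge i 3822000 with h7 | h7
              · skip
                exact allRangeF_sound _ _ (checkFactF_eq cert) 3821000 1000 chkF_3821000 i (by omega) (by omega)
              · skip
                exact allRangeF_sound _ _ (checkFactF_eq cert) 3822000 1000 chkF_3822000 i (by omega) (by omega)
      · skip
        rcases Nat.lt_or_ge i 3829000 with h4 | h4
        · skip
          rcases Nat.lt_or_ge i 3826000 with h5 | h5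
          · skip
            rcases Nat.lt_or_ge i 3824000 with h6 | h6
            · skip
              exact allRangeF_sound _ _ (checkFactF_eq cert) 3823000 1000 chkF_3823000 i (by omega) (by omega)
            · skip
              rcases Nat.lt_or_ge i 3825000 with h7 | h7
              · skip
                exact allRangeF_sound _ _ (checkFactF_eq cert) 3824000 1000 chkF_3824000 i (by omega) (by omega)
              · skip
                exact allRangeF_sound _ _ (checkFactF_eq cert) 3825000 1000 chkF_3825000 i (by omega) (by omega)
          · skip
            rcases Nat.lt_or_ge i 3827000 with h6 | h6
            · skip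
              exact allRangeF_sound _ _ (checkFactF_eq cert) 3826000 1000 chkF_3826000 i (by omega) (by omega)
            · skip
              rcases Nat.lt_or_ge i 3828000 with h7 | h7
              · skip
                exact allRangeF_sound _ _ (checkFactF_eq cert) 3827000 1000 chkF_3827000 i (by omega) (by omega)
              · skip
                exact allRangeF_sound _ _ (checkFactF_eq cert) 3828000 1000 chkF_3828000 i (by omega) (by omega)
        · skip
          rcases Nat.lt_or_ge i 3832000 with h5 | h5
          · skip
            rcases Nat.lt_or_ge i 3830000 with h6 | h6
            · skip
              exact allRangeF_sound _ _ (checkFactF_eq cert) 3829000 1000 chkF_3829000 i (by omega) (by omega)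
            · skip
              rcases Nat.lt_or_ge i 3831000 with h7 | h7
              · skip
                exact allRangeF_sound _ _ (checkFactF_eq cert) 3830000 1000 chkF_3830000 i (by omega) (by omega)
              · skip
                exact allRangeF_sound _ _ (checkFactF_eq cert) 3831000 1000 chkF_3831000 i (by omega) (by omega)
          · skip
            rcases Nat.lt_or_ge i 3834000 with h6 | h6
            · skip
              rcases Nat.lt_or_ge i 3833000 with h7 | h7
              · skip
                exact allRangeF_sound _ _ (checkFactF_eq cert) 3832000 1000 chkF_3832000 i (by omega) (by omega)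
              · skip
                exact allRangeF_sound _ _ (checkFactF_eq cert) 3833000 1000 chkF_3833000 i (by omega) (by omega)
            · skip
              rcases Nat.lt_or_ge i 3835000 with h7 | h7
              · skip
                exact allRangeF_sound _ _ (checkFactF_eq cert) 3834000 1000 chkF_3834000 i (by omega) (by omega)
              · skip
                exact allRangeF_sound _ _ (checkFactF_eq cert) 3835000 1000 chkF_3835000 i (by omega) (by omega)
    · skip
      rcases Nat.lt_or_ge i 3848000 with h3 | h3
      · skip
        rcases Nat.lt_or_ge i 3842000 with h4 | h4
        · skip
          rcases Nat.lt_or_ge i 3839000 with h5 | h5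
          · skip
            rcases Nat.lt_or_ge i 3837000 with h6 | h6
            · skip
              exact allRangeF_sound _ _ (checkFactF_eq cert) 3836000 1000 chkF_3836000 i (by omega) (by omega)
            · skip
              rcases Nat.lt_or_ge i 3838000 with h7 | h7
              · skip
                exact allRangeF_sound _ _ (checkFactF_eq cert) 3837000 1000 chkF_3837000 i (by omega) (by omega)
              · skip
                exact allRangeF_sound _ _ (checkFactF_eq cert) 3838000 1000 chkF_3838000 i (by omega) (by omega)
          · skip
            rcases Nat.lt_or_ge i 3840000 with h6 | h6
            · skip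
              exact allRangeF_sound _ _ (checkFactF_eq cert) 3839000 1000 chkF_3839000 i (by omega) (by omega)
            · skip
              rcases Nat.lt_or_ge i 3841000 with h7 | h7
              · skip
                exact allRangeF_sound _ _ (checkFactF_eq cert) 3840000 1000 chkF_3840000 i (by omega) (by omega)
              · skip
                exact allRangeF_sound _ _ (checkFactF_eq cert) 3841000 1000 chkF_3841000 i (by omega) (by omega)
        · skip
          rcases Nat.lt_or_ge i 3845000 with h5 | h5
          · skip
            rcases Nat.lt_or_ge i 3843000 with h6 | h6
            · skip
              exact allRangeF_sound _ _ (checkFactF_eq cert) 3842000 1000 chkF_3842000 i (by omega) (by omega)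
            · skip
              rcases Nat.lt_or_ge i 3844000 with h7 | h7
              · skip
                exact allRangeF_sound _ _ (checkFactF_eq cert) 3843000 1000 chkF_3843000 i (by omega) (by omega)
              · skip
                exact allRangeF_sound _ _ (checkFactF_eq cert) 3844000 1000 chkF_3844000 i (by omega) (by omega)
          · skip
            rcases Nat.lt_or_ge i 3846000 with h6 | h6
            · skip
              exact allRangeF_sound _ _ (checkFactF_eq cert) 3845000 1000 chkF_3845000 i (by omega) (by omega)
            · skip
              rcases Nat.lt_or_ge i 3847000 with h7 | h7
              · skip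
                exact allRangeF_sound _ _ (checkFactF_eq cert) 3846000 1000 chkF_3846000 i (by omega) (by omega)
              · skip
                exact allRangeF_sound _ _ (checkFactF_eq cert) 3847000 1000 chkF_3847000 i (by omega) (by omega)
      · skip
        rcases Nat.lt_or_ge i 3854000 with h4 | h4
        · skip
          rcases Nat.lt_or_ge i 3851000 with h5 | h5
          · skip
            rcases Nat.lt_or_ge i 3849000 with h6 | h6
            · skip
              exact allRangeF_sound _ _ (checkFactF_eq cert) 3848000 1000 chkF_3848000 i (by omega) (by omega)
            · skip
              rcases Nat.lt_or_ge i 3850000 with h7 | h7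
              · skip
                exact allRangeF_sound _ _ (checkFactF_eq cert) 3849000 1000 chkF_3849000 i (by omega) (by omega)
              · skip
                exact allRangeF_sound _ _ (checkFactF_eq cert) 3850000 1000 chkF_3850000 i (by omega) (by omega)
          · skip
            rcases Nat.lt_or_ge i 3852000 with h6 | h6
            · skip
              exact allRangeF_sound _ _ (checkFactF_eq cert) 3851000 1000 chkF_3851000 i (by omega) (by omega)
            · skip
              rcases Nat.lt_or_ge i 3853000 with h7 | h7
              · skip
                exact allRangeF_sound _ _ (checkFactF_eq cert) 3852000 1000 chkF_3852000 i (by omega) (by omega)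
              · skip
                exact allRangeF_sound _ _ (checkFactF_eq cert) 3853000 1000 chkF_3853000 i (by omega) (by omega)
        · skip
          rcases Nat.lt_or_ge i 3857000 with h5 | h5
          · skip
            rcases Nat.lt_or_ge i 3855000 with h6 | h6
            · skip
              exact allRangeF_sound _ _ (checkFactF_eq cert) 3854000 1000 chkF_3854000 i (by omega) (by omega)
            · skip
              rcases Nat.lt_or_ge i 3856000 with h7 | h7
              · skip
                exact allRangeF_sound _ _ (checkFactF_eq cert) 3855000 1000 chkF_3855000 i (by omega) (by omega)
              · skip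
                exact allRangeF_sound _ _ (checkFactF_eq cert) 3856000 1000 chkF_3856000 i (by omega) (by omega)
          · skip
            rcases Nat.lt_or_ge i 3859000 with h6 | h6
            · skip
              rcases Nat.lt_or_ge i 3858000 with h7 | h7
              · skip
                exact allRangeF_sound _ _ (checkFactF_eq cert) 3857000 1000 chkF_3857000 i (by omega) (by omega)
              · skip
                exact allRangeF_sound _ _ (checkFactF_eq cert) 3858000 1000 chkF_3858000 i (by omega) (by omega)
            · skip
              rcases Nat.lt_or_ge i 3860000 with h7 | h7
              · skip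
                exact allRangeF_sound _ _ (checkFactF_eq cert) 3859000 1000 chkF_3859000 i (by omega) (by omega)
              · skip
                exact allRangeF_sound _ _ (checkFactF_eq cert) 3860000 1000 chkF_3860000 i (by omega) (by omega)

end Cfsg.Agent.Lib.Helper28.Fi24Data
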