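import Cfsg.Agent.Lib.Helper28.Fi24Data
import Cfsg.Agent.Lib.Helper28.TCFastFB

set_option autoImplicit false
set_option maxRecDepth 1000000
set_option linter.all false
set_option Elab.async false

namespace Cfsg.Agent.Lib.Helper28.Fi24Data

open Cfsg.Agent.Lib.Helper28B

theorem chkF_3861000 : allRangeF (checkFactF cert) (nat_lit 3861000) (nat_lit 1000) = true := by decide +kernel
theorem chkF_3862000 : allRangeF (checkFactF cert) (nat_lit 3862000) (nat_lit 1000) = true := by decide +kernel
theorem chkF_3863000 : allRangeF (checkFactF cert) (nat_lit 3863000) (nat_lit 1000) = true := by decide +kernel
theorem chkF_3864000 : allRangeF (checkFactF cert) (nat_lit 3864000) (nat_lit 1000) = true := by decide +kernel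
theorem chkF_3865000 : allRangeF (checkFactF cert) (nat_lit 3865000) (nat_lit 1000) = true := by decide +kernel
theorem chkF_3866000 : allRangeF (checkFactF cert) (nat_lit 3866000) (nat_lit 1000) = true := by decide +kernel
theorem chkF_3867000 : allRangeF (checkFactF cert) (nat_lit 3867000) (nat_lit 1000) = true := by decide +kernel
theorem chkF_3868000 : allRangeF (checkFactF cert) (nat_lit 3868000) (nat_lit 1000) = true := by decide +kernel
theorem chkF_3869000 : allRangeF (checkFactF cert) (nat_lit 3869000) (nat_lit 1000) = true := by decide +kernel
theorem chkF_3870000 : allRangeF (checkFactF cert) (nat_lit 3870000) (nat_lit 1000) = true := by decide +kernel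
theorem chkF_3871000 : allRangeF (checkFactF cert) (nat_lit 3871000) (nat_lit 1000) = true := by decide +kernel
theorem chkF_3872000 : allRangeF (checkFactF cert) (nat_lit 3872000) (nat_lit 1000) = true := by decide +kernel
theorem chkF_3873000 : allRangeF (checkFactF cert) (nat_lit 3873000) (nat_lit 1000) = true := by decide +kernel
theorem chkF_3874000 : allRangeF (checkFactF cert) (nat_lit 3874000) (nat_lit 1000) = true := by decide +kernel
theorem chkF_3875000 : allRangeF (checkFactF cert) (nat_lit 3875000) (nat_lit 1000) = true := by decide +kernel
theorem chkF_3876000 : allRangeF (checkFactF cert) (nat_lit 3876000) (nat_lit 1000) = true := by decide +kernel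
theorem chkF_3877000 : allRangeF (checkFactF cert) (nat_lit 3877000) (nat_lit 1000) = true := by decide +kernel
theorem chkF_3878000 : allRangeF (checkFactF cert) (nat_lit 3878000) (nat_lit 1000) = true := by decide +kernel
theorem chkF_3879000 : allRangeF (checkFactF cert) (nat_lit 3879000) (nat_lit 1000) = true := by decide +kernel
theorem chkF_3880000 : allRangeF (checkFactF cert) (nat_lit 3880000) (nat_lit 1000) = true := by decide +kernel
theorem chkF_3881000 : allRangeF (checkFactF cert) (nat_lit 3881000) (nat_lit 1000) = true := by decide +kernel
theorem chkF_3882000 : allRangeF (checkFactF cert) (nat_lit 3882000) (nat_lit 1000) = true := by decide +kernel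
theorem chkF_3883000 : allRangeF (checkFactF cert) (nat_lit 3883000) (nat_lit 1000) = true := by decide +kernel
theorem chkF_3884000 : allRangeF (checkFactF cert) (nat_lit 3884000) (nat_lit 1000) = true := by decide +kernel
theorem chkF_3885000 : allRangeF (checkFactF cert) (nat_lit 3885000) (nat_lit 1000) = true := by decide +kernel
theorem chkF_3886000 : allRangeF (checkFactF cert) (nat_lit 3886000) (nat_lit 1000) = true := by decide +kernel
theorem chkF_3887000 : allRangeF (checkFactF cert) (nat_lit 3887000) (nat_lit 1000) = true := by decide +kernel
theorem chkF_3888000 : allRangeF (checkFactF cert) (nat_lit 3888000) (nat_lit 1000) = true := by decide +kernel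
theorem chkF_3889000 : allRangeF (checkFactF cert) (nat_lit 3889000) (nat_lit 1000) = true := by decide +kernel
theorem chkF_3890000 : allRangeF (checkFactF cert) (nat_lit 3890000) (nat_lit 1000) = true := by decide +kernel
theorem chkF_3891000 : allRangeF (checkFactF cert) (nat_lit 3891000) (nat_lit 1000) = true := by decide +kernel
theorem chkF_3892000 : allRangeF (checkFactF cert) (nat_lit 3892000) (nat_lit 1000) = true := by decide +kernel
theorem chkF_3893000 : allRangeF (checkFactF cert) (nat_lit 3893000) (nat_lit 1000) = true := by decide +kernel
theorem chkF_3894000 : allRangeF (checkFactF cert) (nat_lit 3894000) (nat_lit 1000) = true := by decide +kernel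
theorem chkF_3895000 : allRangeF (checkFactF cert) (nat_lit 3895000) (nat_lit 1000) = true := by decide +kernel
theorem chkF_3896000 : allRangeF (checkFactF cert) (nat_lit 3896000) (nat_lit 1000) = true := by decide +kernel
theorem chkF_3897000 : allRangeF (checkFactF cert) (nat_lit 3897000) (nat_lit 1000) = true := by decide +kernel
theorem chkF_3898000 : allRangeF (checkFactF cert) (nat_lit 3898000) (nat_lit 1000) = true := by decide +kernel
theorem chkF_3899000 : allRangeF (checkFactF cert) (nat_lit 3899000) (nat_lit 1000) = true := by decide +kernel
theorem chkF_3900000 : allRangeF (checkFactF cert) (nat_lit 3900000) (nat_lit 1000) = true := by decide +kernel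
theorem chkF_3901000 : allRangeF (checkFactF cert) (nat_lit 3901000) (nat_lit 1000) = true := by decide +kernel
theorem chkF_3902000 : allRangeF (checkFactF cert) (nat_lit 3902000) (nat_lit 1000) = true := by decide +kernel
theorem chkF_3903000 : allRangeF (checkFactF cert) (nat_lit 3903000) (nat_lit 1000) = true := by decide +kernel
theorem chkF_3904000 : allRangeF (checkFactF cert) (nat_lit 3904000) (nat_lit 1000) = true := by decide +kernel
theorem chkF_3905000 : allRangeF (checkFactF cert) (nat_lit 3905000) (nat_lit 1000) = true := by decide +kernel
theorem chkF_3906000 : allRangeF (checkFactF cert) (nat_lit 3906000) (nat_lit 1000) = true := by decide +kernel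
theorem chkF_3907000 : allRangeF (checkFactF cert) (nat_lit 3907000) (nat_lit 1000) = true := by decide +kernel
theorem chkF_3908000 : allRangeF (checkFactF cert) (nat_lit 3908000) (nat_lit 1000) = true := by decide +kernel
theorem chkF_3909000 : allRangeF (checkFactF cert) (nat_lit 3909000) (nat_lit 1000) = true := by decide +kernel
theorem chkF_3910000 : allRangeF (checkFactF cert) (nat_lit 3910000) (nat_lit 1000) = true := by decide +kernel
theorem chkF_3911000 : allRangeF (checkFactF cert) (nat_lit 3911000) (nat_lit 1000) = true := by decide +kernel
theorem chkF_3912000 : allRangeF (checkFactF cert) (nat_lit 3912000) (nat_lit 1000) = true := by decide +kernel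
theorem chkF_3913000 : allRangeF (checkFactF cert) (nat_lit 3913000) (nat_lit 1000) = true := by decide +kernel
theorem chkF_3914000 : allRangeF (checkFactF cert) (nat_lit 3914000) (nat_lit 1000) = true := by decide +kernel
theorem chkF_3915000 : allRangeF (checkFactF cert) (nat_lit 3915000) (nat_lit 1000) = true := by decide +kernel
theorem chkF_3916000 : allRangeF (checkFactF cert) (nat_lit 3916000) (nat_lit 1000) = true := by decide +kernel
theorem chkF_3917000 : allRangeF (checkFactF cert) (nat_lit 3917000) (nat_lit 1000) = true := by decide +kernel
theorem chkF_3918000 : allRangeF (checkFactF cert) (nat_lit 3918000) (nat_lit 1000) = true := by decide +kernel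
theorem chkF_3919000 : allRangeF (checkFactF cert) (nat_lit 3919000) (nat_lit 1000) = true := by decide +kernel
theorem chkF_3920000 : allRangeF (checkFactF cert) (nat_lit 3920000) (nat_lit 1000) = true := by decide +kernel
theorem chkF_3921000 : allRangeF (checkFactF cert) (nat_lit 3921000) (nat_lit 1000) = true := by decide +kernel
theorem chkF_3922000 : allRangeF (checkFactF cert) (nat_lit 3922000) (nat_lit 1000) = true := by decide +kernel
theorem chkF_3923000 : allRangeF (checkFactF cert) (nat_lit 3923000) (nat_lit 1000) = true := by decide +kernel
theorem chkF_3924000 : allRangeF (checkFactF cert) (nat_lit 3924000) (nat_lit 1000) = true := by decide +kernel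
theorem chkF_3925000 : allRangeF (checkFactF cert) (nat_lit 3925000) (nat_lit 1000) = true := by decide +kernel
theorem chkF_3926000 : allRangeF (checkFactF cert) (nat_lit 3926000) (nat_lit 1000) = true := by decide +kernel
theorem chkF_3927000 : allRangeF (checkFactF cert) (nat_lit 3927000) (nat_lit 1000) = true := by decide +kernel
theorem chkF_3928000 : allRangeF (checkFactF cert) (nat_lit 3928000) (nat_lit 1000) = true := by decide +kernel
theorem chkF_3929000 : allRangeF (checkFactF cert) (nat_lit 3929000) (nat_lit 1000) = true := by decide +kernel
theorem chkF_3930000 : allRangeF (checkFactF cert) (nat_lit 3930000) (nat_lit 1000) = true := by decide +kernel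
theorem chkF_3931000 : allRangeF (checkFactF cert) (nat_lit 3931000) (nat_lit 1000) = true := by decide +kernel
theorem chkF_3932000 : allRangeF (checkFactF cert) (nat_lit 3932000) (nat_lit 1000) = true := by decide +kernel
theorem chkF_3933000 : allRangeF (checkFactF cert) (nat_lit 3933000) (nat_lit 1000) = true := by decide +kernel
theorem chkF_3934000 : allRangeF (checkFactF cert) (nat_lit 3934000) (nat_lit 1000) = true := by decide +kernel
theorem chkF_3935000 : allRangeF (checkFactF cert) (nat_lit 3935000) (nat_lit 1000) = true := by decide +kernel
theorem chkF_3936000 : allRangeF (checkFactF cert) (nat_lit 3936000) (nat_lit 1000) = true := by decide +kernel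
theorem chkF_3937000 : allRangeF (checkFactF cert) (nat_lit 3937000) (nat_lit 1000) = true := by decide +kernel
theorem chkF_3938000 : allRangeF (checkFactF cert) (nat_lit 3938000) (nat_lit 1000) = true := by decide +kernel
theorem chkF_3939000 : allRangeF (checkFactF cert) (nat_lit 3939000) (nat_lit 1000) = true := by decide +kernel
theorem chkF_3940000 : allRangeF (checkFactF cert) (nat_lit 3940000) (nat_lit 1000) = true := by decide +kernel
theorem chkF_3941000 : allRangeF (checkFactF cert) (nat_lit 3941000) (nat_lit 1000) = true := by decide +kernel
theorem chkF_3942000 : allRangeF (checkFactF cert) (nat_lit 3942000) (nat_lit 1000) = true := by decide +kernel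
theorem chkF_3943000 : allRangeF (checkFactF cert) (nat_lit 3943000) (nat_lit 1000) = true := by decide +kernel
theorem chkF_3944000 : allRangeF (checkFactF cert) (nat_lit 3944000) (nat_lit 575) = true := by decide +kernel

theorem factsRange_39 : ∀ i, 3861000 ≤ i → i < 3944575 → checkFact cert i = true := by
  intro i hlo hhi
  rcases Nat.lt_or_ge i 3903000 with h1 | h1
  · skip
    rcases Nat.lt_or_ge i 3882000 with h2 | h2
    · skip
      rcases Nat.lt_or_ge i 3871000 with h3 | h3
      · skip
        rcases Nat.lt_or_ge i 3866000 with h4 | h4
        · skip
          rcases Nat.lt_or_ge i 3863000 with h5 | h5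
          · skip
            rcases Nat.lt_or_ge i 3862000 with h6 | h6
            · skip
              exact allRangeF_sound _ _ (checkFactF_eq cert) 3861000 1000 chkF_3861000 i (by omega) (by omega)
            · skip
              exact allRangeF_sound _ _ (checkFactF_eq cert) 3862000 1000 chkF_3862000 i (by omega) (by omega)
          · skip
            rcases Nat.lt_or_ge i 3864000 with h6 | h6
            · skip
              exact allRangeF_sound _ _ (checkFactF_eq cert) 3863000 1000 chkF_3863000 i (by omega) (by omega)
            · skip
              rcases Nat.lt_or_ge i 3865000 with h7 | h7
              · skip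
                exact allRangeF_sound _ _ (checkFactF_eq cert) 3864000 1000 chkF_3864000 i (by omega) (by omega)
              · skip
                exact allRangeF_sound _ _ (checkFactF_eq cert) 3865000 1000 chkF_3865000 i (by omega) (by omega)
        · skip
          rcases Nat.lt_or_ge i 3868000 with h5 | h5
          · skip
            rcases Nat.lt_or_ge i 3867000 with h6 | h6
            · skip
              exact allRangeF_sound _ _ (checkFactF_eq cert) 3866000 1000 chkF_3866000 i (by omega) (by omega)
            · skip
              exact allRangeF_sound _ _ (checkFactF_eq cert) 3867000 1000 chkF_3867000 i (by omega) (by omega)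
          · skip
            rcases Nat.lt_or_ge i 3869000 with h6 | h6
            · skip
              exact allRangeF_sound _ _ (checkFactF_eq cert) 3868000 1000 chkF_3868000 i (by omega) (by omega)
            · skip
              rcases Nat.lt_or_ge i 3870000 with h7 | h7
              · skip
                exact allRangeF_sound _ _ (checkFactF_eq cert) 3869000 1000 chkF_3869000 i (by omega) (by omega)
              · skip
                exact allRangeF_sound _ _ (checkFactF_eq cert) 3870000 1000 chkF_3870000 i (by omega) (by omega)
      · skip
        rcases Nat.lt_or_ge i 3876000 with h4 | h4
        · skip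
          rcases Nat.lt_or_ge i 3873000 with h5 | h5
          · skip
            rcases Nat.lt_or_ge i 3872000 with h6 | h6
            · skip
              exact allRangeF_sound _ _ (checkFactF_eq cert) 3871000 1000 chkF_3871000 i (by omega) (by omega)
            · skip
              exact allRangeF_sound _ _ (checkFactF_eq cert) 3872000 1000 chkF_3872000 i (by omega) (by omega)
          · skip
            rcases Nat.lt_or_ge i 3874000 with h6 | h6
            · skip
              exact allRangeF_sound _ _ (checkFactF_eq cert) 3873000 1000 chkF_3873000 i (by omega) (by omega)
            · skip
              rcases Nat.lt_or_ge i 3875000 with h7 | h7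
              · skip
                exact allRangeF_sound _ _ (checkFactF_eq cert) 3874000 1000 chkF_3874000 i (by omega) (by omega)
              · skip
                exact allRangeF_sound _ _ (checkFactF_eq cert) 3875000 1000 chkF_3875000 i (by omega) (by omega)
        · skip
          rcases Nat.lt_or_ge i 3879000 with h5 | h5
          · skip
            rcases Nat.lt_or_ge i 3877000 with h6 | h6
            · skip
              exact allRangeF_sound _ _ (checkFactF_eq cert) 3876000 1000 chkF_3876000 i (by omega) (by omega)
            · skip
              rcases Nat.lt_or_ge i 3878000 with h7 | h7
              · skip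
                exact allRangeF_sound _ _ (checkFactF_eq cert) 3877000 1000 chkF_3877000 i (by omega) (by omega)
              · skip
                exact allRangeF_sound _ _ (checkFactF_eq cert) 3878000 1000 chkF_3878000 i (by omega) (by omega)
          · skip
            rcases Nat.lt_or_ge i 3880000 with h6 | h6
            · skip
              exact allRangeF_sound _ _ (checkFactF_eq cert) 3879000 1000 chkF_3879000 i (by omega) (by omega)
            · skip
              rcases Nat.lt_or_ge i 3881000 with h7 | h7
              · skip
                exact allRangeF_sound _ _ (checkFactF_eq cert) 3880000 1000 chkF_3880000 i (by omega) (by omega)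
              · skip
                exact allRangeF_sound _ _ (checkFactF_eq cert) 3881000 1000 chkF_3881000 i (by omega) (by omega)
    · skip
      rcases Nat.lt_or_ge i 3892000 with h3 | h3
      · skip
        rcases Nat.lt_or_ge i 3887000 with h4 | h4
        · skip
          rcases Nat.lt_or_ge i 3884000 with h5 | h5
          · skip
            rcases Nat.lt_or_ge i 3883000 with h6 | h6
            · skip
              exact allRangeF_sound _ _ (checkFactF_eq cert) 3882000 1000 chkF_3882000 i (by omega) (by omega)
            · skip
              exact allRangeF_sound _ _ (checkFactF_eq cert) 3883000 1000 chkF_3883000 i (by omega) (by omega)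
          · skip
            rcases Nat.lt_or_ge i 3885000 with h6 | h6
            · skip
              exact allRangeF_sound _ _ (checkFactF_eq cert) 3884000 1000 chkF_3884000 i (by omega) (by omega)
            · skip
              rcases Nat.lt_or_ge i 3886000 with h7 | h7
              · skip
                exact allRangeF_sound _ _ (checkFactF_eq cert) 3885000 1000 chkF_3885000 i (by omega) (by omega)
              · skip
                exact allRangeF_sound _ _ (checkFactF_eq cert) 3886000 1000 chkF_3886000 i (by omega) (by omega)
        · skip
          rcases Nat.lt_or_ge i 3889000 with h5 | h5
          · skip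
            rcases Nat.lt_or_ge i 3888000 with h6 | h6
            · skip
              exact allRangeF_sound _ _ (checkFactF_eq cert) 3887000 1000 chkF_3887000 i (by omega) (by omega)
            · skip
              exact allRangeF_sound _ _ (checkFactF_eq cert) 3888000 1000 chkF_3888000 i (by omega) (by omega)
          · skip
            rcases Nat.lt_or_ge i 3890000 with h6 | h6
            · skip
              exact allRangeF_sound _ _ (checkFactF_eq cert) 3889000 1000 chkF_3889000 i (by omega) (by omega)
            · skip
              rcases Nat.lt_or_ge i 3891000 with h7 | h7
              · skip
                exact allRangeF_sound _ _ (checkFactF_eq cert) 3890000 1000 chkF_3890000 i (by omega) (by omega)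
              · skip
                exact allRangeF_sound _ _ (checkFactF_eq cert) 3891000 1000 chkF_3891000 i (by omega) (by omega)
      · skip
        rcases Nat.lt_or_ge i 3897000 with h4 | h4
        · skip
          rcases Nat.lt_or_ge i 3894000 with h5 | h5
          · skip
            rcases Nat.lt_or_ge i 3893000 with h6 | h6
            · skip
              exact allRangeF_sound _ _ (checkFactF_eq cert) 3892000 1000 chkF_3892000 i (by omega) (by omega)
            · skip
              exact allRangeF_sound _ _ (checkFactF_eq cert) 3893000 1000 chkF_3893000 i (by omega) (by omega)
          · skip
            rcases Nat.lt_or_ge i 3895000 with h6 | h6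
            · skip
              exact allRangeF_sound _ _ (checkFactF_eq cert) 3894000 1000 chkF_3894000 i (by omega) (by omega)
            · skip
              rcases Nat.lt_or_ge i 3896000 with h7 | h7
              · skip
                exact allRangeF_sound _ _ (checkFactF_eq cert) 3895000 1000 chkF_3895000 i (by omega) (by omega)
              · skip
                exact allRangeF_sound _ _ (checkFactF_eq cert) 3896000 1000 chkF_3896000 i (by omega) (by omega)
        · skip
          rcases Nat.lt_or_ge i 3900000 with h5 | h5
          · skip
            rcases Nat.lt_or_ge i 3898000 with h6 | h6
            · skip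
              exact allRangeF_sound _ _ (checkFactF_eq cert) 3897000 1000 chkF_3897000 i (by omega) (by omega)
            · skip
              rcases Nat.lt_or_ge i 3899000 with h7 | h7
              · skip
                exact allRangeF_sound _ _ (checkFactF_eq cert) 3898000 1000 chkF_3898000 i (by omega) (by omega)
              · skip
                exact allRangeF_sound _ _ (checkFactF_eq cert) 3899000 1000 chkF_3899000 i (by omega) (by omega)
          · skip
            rcases Nat.lt_or_ge i 3901000 with h6 | h6
            · skip
              exact allRangeF_sound _ _ (checkFactF_eq cert) 3900000 1000 chkF_3900000 i (by omega) (by omega)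
            · skip
              rcases Nat.lt_or_ge i 3902000 with h7 | h7
              · skip
                exact allRangeF_sound _ _ (checkFactF_eq cert) 3901000 1000 chkF_3901000 i (by omega) (by omega)
              · skip
                exact allRangeF_sound _ _ (checkFactF_eq cert) 3902000 1000 chkF_3902000 i (by omega) (by omega)
  · skip
    rcases Nat.lt_or_ge i 3924000 with h2 | h2
    · skip
      rcases Nat.lt_or_ge i 3913000 with h3 | h3
      · skip
        rcases Nat.lt_or_ge i 3908000 with h4 | h4
        · skip
          rcases Nat.lt_or_ge i 3905000 with h5 | h5
          · skip
            rcases Nat.lt_or_ge i 3904000 with h6 | h6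
            · skip
              exact allRangeF_sound _ _ (checkFactF_eq cert) 3903000 1000 chkF_3903000 i (by omega) (by omega)
            · skip
              exact allRangeF_sound _ _ (checkFactF_eq cert) 3904000 1000 chkF_3904000 i (by omega) (by omega)
          · skip
            rcases Nat.lt_or_ge i 3906000 with h6 | h6
            · skip
              exact allRangeF_sound _ _ (checkFactF_eq cert) 3905000 1000 chkF_3905000 i (by omega) (by omega)
            · skip
              rcases Nat.lt_or_ge i 3907000 with h7 | h7
              · skip
                exact allRangeF_sound _ _ (checkFactF_eq cert) 3906000 1000 chkF_3906000 i (by omega) (by omega)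
              · skip
                exact allRangeF_sound _ _ (checkFactF_eq cert) 3907000 1000 chkF_3907000 i (by omega) (by omega)
        · skip
          rcases Nat.lt_or_ge i 3910000 with h5 | h5
          · skip
            rcases Nat.lt_or_ge i 3909000 with h6 | h6
            · skip
              exact allRangeF_sound _ _ (checkFactF_eq cert) 3908000 1000 chkF_3908000 i (by omega) (by omega)
            · skip
              exact allRangeF_sound _ _ (checkFactF_eq cert) 3909000 1000 chkF_3909000 i (by omega) (by omega)
          · skip
            rcases Nat.lt_or_ge i 3911000 with h6 | h6
            · skip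
              exact allRangeF_sound _ _ (checkFactF_eq cert) 3910000 1000 chkF_3910000 i (by omega) (by omega)
            · skip
              rcases Nat.lt_or_ge i 3912000 with h7 | h7
              · skip
                exact allRangeF_sound _ _ (checkFactF_eq cert) 3911000 1000 chkF_3911000 i (by omega) (by omega)
              · skip
                exact allRangeF_sound _ _ (checkFactF_eq cert) 3912000 1000 chkF_3912000 i (by omega) (by omega)
      · skip
        rcases Nat.lt_or_ge i 3918000 with h4 | h4
        · skip
          rcases Nat.lt_or_ge i 3915000 with h5 | h5
          · skip
            rcases Nat.lt_or_ge i 3914000 with h6 | h6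
            · skip
              exact allRangeF_sound _ _ (checkFactF_eq cert) 3913000 1000 chkF_3913000 i (by omega) (by omega)
            · skip
              exact allRangeF_sound _ _ (checkFactF_eq cert) 3914000 1000 chkF_3914000 i (by omega) (by omega)
          · skip
            rcases Nat.lt_or_ge i 3916000 with h6 | h6
            · skip
              exact allRangeF_sound _ _ (checkFactF_eq cert) 3915000 1000 chkF_3915000 i (by omega) (by omega)
            · skip
              rcases Nat.lt_or_ge i 3917000 with h7 | h7
              · skip
                exact allRangeF_sound _ _ (checkFactF_eq cert) 3916000 1000 chkF_3916000 i (by omega) (by omega)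
              · skip
                exact allRangeF_sound _ _ (checkFactF_eq cert) 3917000 1000 chkF_3917000 i (by omega) (by omega)
        · skip
          rcases Nat.lt_or_ge i 3921000 with h5 | h5
          · skip
            rcases Nat.lt_or_ge i 3919000 with h6 | h6
            · skip
              exact allRangeF_sound _ _ (checkFactF_eq cert) 3918000 1000 chkF_3918000 i (by omega) (by omega)
            · skip
              rcases Nat.lt_or_ge i 3920000 with h7 | h7
              · skip
                exact allRangeF_sound _ _ (checkFactF_eq cert) 3919000 1000 chkF_3919000 i (by omega) (by omega)
              · skip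
                exact allRangeF_sound _ _ (checkFactF_eq cert) 3920000 1000 chkF_3920000 i (by omega) (by omega)
          · skip
            rcases Nat.lt_or_ge i 3922000 with h6 | h6
            · skip
              exact allRangeF_sound _ _ (checkFactF_eq cert) 3921000 1000 chkF_3921000 i (by omega) (by omega)
            · skip
              rcases Nat.lt_or_ge i 3923000 with h7 | h7
              · skip
                exact allRangeF_sound _ _ (checkFactF_eq cert) 3922000 1000 chkF_3922000 i (by omega) (by omega)
              · skip
                exact allRangeF_sound _ _ (checkFactF_eq cert) 3923000 1000 chkF_3923000 i (by omega) (by omega)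
    · skip
      rcases Nat.lt_or_ge i 3934000 with h3 | h3
      · skip
        rcases Nat.lt_or_ge i 3929000 with h4 | h4
        · skip
          rcases Nat.lt_or_ge i 3926000 with h5 | h5
          · skip
            rcases Nat.lt_or_ge i 3925000 with h6 | h6
            · skip
              exact allRangeF_sound _ _ (checkFactF_eq cert) 3924000 1000 chkF_3924000 i (by omega) (by omega)
            · skip
              exact allRangeF_sound _ _ (checkFactF_eq cert) 3925000 1000 chkF_3925000 i (by omega) (by omega)
          · skip
            rcases Nat.lt_or_ge i 3927000 with h6 | h6
            · skip
              exact allRangeF_sound _ _ (checkFactF_eq cert) 3926000 1000 chkF_3926000 i (by omega) (by omega)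
            · skip
              rcases Nat.lt_or_ge i 3928000 with h7 | h7
              · skip
                exact allRangeF_sound _ _ (checkFactF_eq cert) 3927000 1000 chkF_3927000 i (by omega) (by omega)
              · skip
                exact allRangeF_sound _ _ (checkFactF_eq cert) 3928000 1000 chkF_3928000 i (by omega) (by omega)
        · skip
          rcases Nat.lt_or_ge i 3931000 with h5 | h5
          · skip
            rcases Nat.lt_or_ge i 3930000 with h6 | h6
            · skip
              exact allRangeF_sound _ _ (checkFactF_eq cert) 3929000 1000 chkF_3929000 i (by omega) (by omega)
            · skip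
              exact allRangeF_sound _ _ (checkFactF_eq cert) 3930000 1000 chkF_3930000 i (by omega) (by omega)
          · skip
            rcases Nat.lt_or_ge i 3932000 with h6 | h6
            · skip
              exact allRangeF_sound _ _ (checkFactF_eq cert) 3931000 1000 chkF_3931000 i (by omega) (by omega)
            · skip
              rcases Nat.lt_or_ge i 3933000 with h7 | h7
              · skip
                exact allRangeF_sound _ _ (checkFactF_eq cert) 3932000 1000 chkF_3932000 i (by omega) (by omega)
              · skip
                exact allRangeF_sound _ _ (checkFactF_eq cert) 3933000 1000 chkF_3933000 i (by omega) (by omega)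
      · skip
        rcases Nat.lt_or_ge i 3939000 with h4 | h4
        · skip
          rcases Nat.lt_or_ge i 3936000 with h5 | h5
          · skip
            rcases Nat.lt_or_ge i 3935000 with h6 | h6
            · skip
              exact allRangeF_sound _ _ (checkFactF_eq cert) 3934000 1000 chkF_3934000 i (by omega) (by omega)
            · skip
              exact allRangeF_sound _ _ (checkFactF_eq cert) 3935000 1000 chkF_3935000 i (by omega) (by omega)
          · skip
            rcases Nat.lt_or_ge i 3937000 with h6 | h6
            · skip
              exact allRangeF_sound _ _ (checkFactF_eq cert) 3936000 1000 chkF_3936000 i (by omega) (by omega)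
            · skip
              rcases Nat.lt_or_ge i 3938000 with h7 | h7
              · skip
                exact allRangeF_sound _ _ (checkFactF_eq cert) 3937000 1000 chkF_3937000 i (by omega) (by omega)
              · skip
                exact allRangeF_sound _ _ (checkFactF_eq cert) 3938000 1000 chkF_3938000 i (by omega) (by omega)
        · skip
          rcases Nat.lt_or_ge i 3942000 with h5 | h5
          · skip
            rcases Nat.lt_or_ge i 3940000 with h6 | h6
            · skip
              exact allRangeF_sound _ _ (checkFactF_eq cert) 3939000 1000 chkF_3939000 i (by omega) (by omega)
            · skip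
              rcases Nat.lt_or_ge i 3941000 with h7 | h7
              · skip
                exact allRangeF_sound _ _ (checkFactF_eq cert) 3940000 1000 chkF_3940000 i (by omega) (by omega)
              · skip
                exact allRangeF_sound _ _ (checkFactF_eq cert) 3941000 1000 chkF_3941000 i (by omega) (by omega)
          · skip
            rcases Nat.lt_or_ge i 3943000 with h6 | h6
            · skip
              exact allRangeF_sound _ _ (checkFactF_eq cert) 3942000 1000 chkF_3942000 i (by omega) (by omega)
            · skip
              rcases Nat.lt_or_ge i 3944000 with h7 | h7
              · skip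
                exact allRangeF_sound _ _ (checkFactF_eq cert) 3943000 1000 chkF_3943000 i (by omega) (by omega)
              · skip
                exact allRangeF_sound _ _ (checkFactF_eq cert) 3944000 575 chkF_3944000 i (by omega) (by omega)

end Cfsg.Agent.Lib.Helper28.Fi24Data
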