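import Cfsg.Agent.Lib.Helper28.Fi24Data
import Cfsg.Agent.Lib.Helper28.TCFastFB

set_option autoImplicit false
set_option maxRecDepth 1000000
set_option linter.all false
set_option Elab.async false

namespace Cfsg.Agent.Lib.Helper28.Fi24Data

open Cfsg.Agent.Lib.Helper28B

theorem chkF_594000 : allRangeF (checkFactF cert) (nat_lit 594000) (nat_lit 1000) = true := by decide +kernel
theorem chkF_595000 : allRangeF (checkFactF cert) (nat_lit 595000) (nat_lit 1000) = true := by decide +kernel
theorem chkF_596000 : allRangeF (checkFactF cert) (nat_lit 596000) (nat_lit 1000) = true := by decide +kernel
theorem chkF_597000 : allRangeF (checkFactF cert) (nat_lit 597000) (nat_lit 1000) = true := by decide +kernel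
theorem chkF_598000 : allRangeF (checkFactF cert) (nat_lit 598000) (nat_lit 1000) = true := by decide +kernel
theorem chkF_599000 : allRangeF (checkFactF cert) (nat_lit 599000) (nat_lit 1000) = true := by decide +kernel
theorem chkF_600000 : allRangeF (checkFactF cert) (nat_lit 600000) (nat_lit 1000) = true := by decide +kernel
theorem chkF_601000 : allRangeF (checkFactF cert) (nat_lit 601000) (nat_lit 1000) = true := by decide +kernel
theorem chkF_602000 : allRangeF (checkFactF cert) (nat_lit 602000) (nat_lit 1000) = true := by decide +kernel
theorem chkF_603000 : allRangeF (checkFactF cert) (nat_lit 603000) (nat_lit 1000) = true := by decide +kernel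
theorem chkF_604000 : allRangeF (checkFactF cert) (nat_lit 604000) (nat_lit 1000) = true := by decide +kernel
theorem chkF_605000 : allRangeF (checkFactF cert) (nat_lit 605000) (nat_lit 1000) = true := by decide +kernel
theorem chkF_606000 : allRangeF (checkFactF cert) (nat_lit 606000) (nat_lit 1000) = true := by decide +kernel
theorem chkF_607000 : allRangeF (checkFactF cert) (nat_lit 607000) (nat_lit 1000) = true := by decide +kernel
theorem chkF_608000 : allRangeF (checkFactF cert) (nat_lit 608000) (nat_lit 1000) = true := by decide +kernel
theorem chkF_609000 : allRangeF (checkFactF cert) (nat_lit 609000) (nat_lit 1000) = true := by decide +kernel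
theorem chkF_610000 : allRangeF (checkFactF cert) (nat_lit 610000) (nat_lit 1000) = true := by decide +kernel
theorem chkF_611000 : allRangeF (checkFactF cert) (nat_lit 611000) (nat_lit 1000) = true := by decide +kernel
theorem chkF_612000 : allRangeF (checkFactF cert) (nat_lit 612000) (nat_lit 1000) = true := by decide +kernel
theorem chkF_613000 : allRangeF (checkFactF cert) (nat_lit 613000) (nat_lit 1000) = true := by decide +kernel
theorem chkF_614000 : allRangeF (checkFactF cert) (nat_lit 614000) (nat_lit 1000) = true := by decide +kernel
theorem chkF_615000 : allRangeF (checkFactF cert) (nat_lit 615000) (nat_lit 1000) = true := by decide +kernel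
theorem chkF_616000 : allRangeF (checkFactF cert) (nat_lit 616000) (nat_lit 1000) = true := by decide +kernel
theorem chkF_617000 : allRangeF (checkFactF cert) (nat_lit 617000) (nat_lit 1000) = true := by decide +kernel
theorem chkF_618000 : allRangeF (checkFactF cert) (nat_lit 618000) (nat_lit 1000) = true := by decide +kernel
theorem chkF_619000 : allRangeF (checkFactF cert) (nat_lit 619000) (nat_lit 1000) = true := by decide +kernel
theorem chkF_620000 : allRangeF (checkFactF cert) (nat_lit 620000) (nat_lit 1000) = true := by decide +kernel
theorem chkF_621000 : allRangeF (checkFactF cert) (nat_lit 621000) (nat_lit 1000) = true := by decide +kernel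
theorem chkF_622000 : allRangeF (checkFactF cert) (nat_lit 622000) (nat_lit 1000) = true := by decide +kernel
theorem chkF_623000 : allRangeF (checkFactF cert) (nat_lit 623000) (nat_lit 1000) = true := by decide +kernel
theorem chkF_624000 : allRangeF (checkFactF cert) (nat_lit 624000) (nat_lit 1000) = true := by decide +kernel
theorem chkF_625000 : allRangeF (checkFactF cert) (nat_lit 625000) (nat_lit 1000) = true := by decide +kernel
theorem chkF_626000 : allRangeF (checkFactF cert) (nat_lit 626000) (nat_lit 1000) = true := by decide +kernel
theorem chkF_627000 : allRangeF (checkFactF cert) (nat_lit 627000) (nat_lit 1000) = true := by decide +kernel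
theorem chkF_628000 : allRangeF (checkFactF cert) (nat_lit 628000) (nat_lit 1000) = true := by decide +kernel
theorem chkF_629000 : allRangeF (checkFactF cert) (nat_lit 629000) (nat_lit 1000) = true := by decide +kernel
theorem chkF_630000 : allRangeF (checkFactF cert) (nat_lit 630000) (nat_lit 1000) = true := by decide +kernel
theorem chkF_631000 : allRangeF (checkFactF cert) (nat_lit 631000) (nat_lit 1000) = true := by decide +kernel
theorem chkF_632000 : allRangeF (checkFactF cert) (nat_lit 632000) (nat_lit 1000) = true := by decide +kernel
theorem chkF_633000 : allRangeF (checkFactF cert) (nat_lit 633000) (nat_lit 1000) = true := by decide +kernel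
theorem chkF_634000 : allRangeF (checkFactF cert) (nat_lit 634000) (nat_lit 1000) = true := by decide +kernel
theorem chkF_635000 : allRangeF (checkFactF cert) (nat_lit 635000) (nat_lit 1000) = true := by decide +kernel
theorem chkF_636000 : allRangeF (checkFactF cert) (nat_lit 636000) (nat_lit 1000) = true := by decide +kernel
theorem chkF_637000 : allRangeF (checkFactF cert) (nat_lit 637000) (nat_lit 1000) = true := by decide +kernel
theorem chkF_638000 : allRangeF (checkFactF cert) (nat_lit 638000) (nat_lit 1000) = true := by decide +kernel
theorem chkF_639000 : allRangeF (checkFactF cert) (nat_lit 639000) (nat_lit 1000) = true := by decide +kernel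
theorem chkF_640000 : allRangeF (checkFactF cert) (nat_lit 640000) (nat_lit 1000) = true := by decide +kernel
theorem chkF_641000 : allRangeF (checkFactF cert) (nat_lit 641000) (nat_lit 1000) = true := by decide +kernel
theorem chkF_642000 : allRangeF (checkFactF cert) (nat_lit 642000) (nat_lit 1000) = true := by decide +kernel
theorem chkF_643000 : allRangeF (checkFactF cert) (nat_lit 643000) (nat_lit 1000) = true := by decide +kernel
theorem chkF_644000 : allRangeF (checkFactF cert) (nat_lit 644000) (nat_lit 1000) = true := by decide +kernel
theorem chkF_645000 : allRangeF (checkFactF cert) (nat_lit 645000) (nat_lit 1000) = true := by decide +kernel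
theorem chkF_646000 : allRangeF (checkFactF cert) (nat_lit 646000) (nat_lit 1000) = true := by decide +kernel
theorem chkF_647000 : allRangeF (checkFactF cert) (nat_lit 647000) (nat_lit 1000) = true := by decide +kernel
theorem chkF_648000 : allRangeF (checkFactF cert) (nat_lit 648000) (nat_lit 1000) = true := by decide +kernel
theorem chkF_649000 : allRangeF (checkFactF cert) (nat_lit 649000) (nat_lit 1000) = true := by decide +kernel
theorem chkF_650000 : allRangeF (checkFactF cert) (nat_lit 650000) (nat_lit 1000) = true := by decide +kernel
theorem chkF_651000 : allRangeF (checkFactF cert) (nat_lit 651000) (nat_lit 1000) = true := by decide +kernel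
theorem chkF_652000 : allRangeF (checkFactF cert) (nat_lit 652000) (nat_lit 1000) = true := by decide +kernel
theorem chkF_653000 : allRangeF (checkFactF cert) (nat_lit 653000) (nat_lit 1000) = true := by decide +kernel
theorem chkF_654000 : allRangeF (checkFactF cert) (nat_lit 654000) (nat_lit 1000) = true := by decide +kernel
theorem chkF_655000 : allRangeF (checkFactF cert) (nat_lit 655000) (nat_lit 1000) = true := by decide +kernel
theorem chkF_656000 : allRangeF (checkFactF cert) (nat_lit 656000) (nat_lit 1000) = true := by decide +kernel
theorem chkF_657000 : allRangeF (checkFactF cert) (nat_lit 657000) (nat_lit 1000) = true := by decide +kernel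
theorem chkF_658000 : allRangeF (checkFactF cert) (nat_lit 658000) (nat_lit 1000) = true := by decide +kernel
theorem chkF_659000 : allRangeF (checkFactF cert) (nat_lit 659000) (nat_lit 1000) = true := by decide +kernel
theorem chkF_660000 : allRangeF (checkFactF cert) (nat_lit 660000) (nat_lit 1000) = true := by decide +kernel
theorem chkF_661000 : allRangeF (checkFactF cert) (nat_lit 661000) (nat_lit 1000) = true := by decide +kernel
theorem chkF_662000 : allRangeF (checkFactF cert) (nat_lit 662000) (nat_lit 1000) = true := by decide +kernel
theorem chkF_663000 : allRangeF (checkFactF cert) (nat_lit 663000) (nat_lit 1000) = true := by decide +kernel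
theorem chkF_664000 : allRangeF (checkFactF cert) (nat_lit 664000) (nat_lit 1000) = true := by decide +kernel
theorem chkF_665000 : allRangeF (checkFactF cert) (nat_lit 665000) (nat_lit 1000) = true := by decide +kernel
theorem chkF_666000 : allRangeF (checkFactF cert) (nat_lit 666000) (nat_lit 1000) = true := by decide +kernel
theorem chkF_667000 : allRangeF (checkFactF cert) (nat_lit 667000) (nat_lit 1000) = true := by decide +kernel
theorem chkF_668000 : allRangeF (checkFactF cert) (nat_lit 668000) (nat_lit 1000) = true := by decide +kernel
theorem chkF_669000 : allRangeF (checkFactF cert) (nat_lit 669000) (nat_lit 1000) = true := by decide +kernel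
theorem chkF_670000 : allRangeF (checkFactF cert) (nat_lit 670000) (nat_lit 1000) = true := by decide +kernel
theorem chkF_671000 : allRangeF (checkFactF cert) (nat_lit 671000) (nat_lit 1000) = true := by decide +kernel
theorem chkF_672000 : allRangeF (checkFactF cert) (nat_lit 672000) (nat_lit 1000) = true := by decide +kernel
theorem chkF_673000 : allRangeF (checkFactF cert) (nat_lit 673000) (nat_lit 1000) = true := by decide +kernel
theorem chkF_674000 : allRangeF (checkFactF cert) (nat_lit 674000) (nat_lit 1000) = true := by decide +kernel
theorem chkF_675000 : allRangeF (checkFactF cert) (nat_lit 675000) (nat_lit 1000) = true := by decide +kernel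
theorem chkF_676000 : allRangeF (checkFactF cert) (nat_lit 676000) (nat_lit 1000) = true := by decide +kernel
theorem chkF_677000 : allRangeF (checkFactF cert) (nat_lit 677000) (nat_lit 1000) = true := by decide +kernel
theorem chkF_678000 : allRangeF (checkFactF cert) (nat_lit 678000) (nat_lit 1000) = true := by decide +kernel
theorem chkF_679000 : allRangeF (checkFactF cert) (nat_lit 679000) (nat_lit 1000) = true := by decide +kernel
theorem chkF_680000 : allRangeF (checkFactF cert) (nat_lit 680000) (nat_lit 1000) = true := by decide +kernel
theorem chkF_681000 : allRangeF (checkFactF cert) (nat_lit 681000) (nat_lit 1000) = true := by decide +kernel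
theorem chkF_682000 : allRangeF (checkFactF cert) (nat_lit 682000) (nat_lit 1000) = true := by decide +kernel
theorem chkF_683000 : allRangeF (checkFactF cert) (nat_lit 683000) (nat_lit 1000) = true := by decide +kernel
theorem chkF_684000 : allRangeF (checkFactF cert) (nat_lit 684000) (nat_lit 1000) = true := by decide +kernel
theorem chkF_685000 : allRangeF (checkFactF cert) (nat_lit 685000) (nat_lit 1000) = true := by decide +kernel
theorem chkF_686000 : allRangeF (checkFactF cert) (nat_lit 686000) (nat_lit 1000) = true := by decide +kernel
theorem chkF_687000 : allRangeF (checkFactF cert) (nat_lit 687000) (nat_lit 1000) = true := by decide +kernel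
theorem chkF_688000 : allRangeF (checkFactF cert) (nat_lit 688000) (nat_lit 1000) = true := by decide +kernel
theorem chkF_689000 : allRangeF (checkFactF cert) (nat_lit 689000) (nat_lit 1000) = true := by decide +kernel
theorem chkF_690000 : allRangeF (checkFactF cert) (nat_lit 690000) (nat_lit 1000) = true := by decide +kernel
theorem chkF_691000 : allRangeF (checkFactF cert) (nat_lit 691000) (nat_lit 1000) = true := by decide +kernel
theorem chkF_692000 : allRangeF (checkFactF cert) (nat_lit 692000) (nat_lit 1000) = true := by decide +kernel

theorem factsRange_6 : ∀ i, 594000 ≤ i → i < 693000 → checkFact cert i = true := by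
  intro i hlo hhi
  rcases Nat.lt_or_ge i 643000 with h1 | h1
  · skip
    rcases Nat.lt_or_ge i 618000 with h2 | h2
    · skip
      rcases Nat.lt_or_ge i 606000 with h3 | h3
      · skip
        rcases Nat.lt_or_ge i 600000 with h4 | h4
        · skip
          rcases Nat.lt_or_ge i 597000 with h5 | h5
          · skip
            rcases Nat.lt_or_ge i 595000 with h6 | h6
            · skip
              exact allRangeF_sound _ _ (checkFactF_eq cert) 594000 1000 chkF_594000 i (by omega) (by omega)
            · skip
              rcases Nat.lt_or_ge i 596000 with h7 | h7
              · skip
                exact allRangeF_sound _ _ (checkFactF_eq cert) 595000 1000 chkF_595000 i (by omega) (by omega)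
              · skip
                exact allRangeF_sound _ _ (checkFactF_eq cert) 596000 1000 chkF_596000 i (by omega) (by omega)
          · skip
            rcases Nat.lt_or_ge i 598000 with h6 | h6
            · skip
              exact allRangeF_sound _ _ (checkFactF_eq cert) 597000 1000 chkF_597000 i (by omega) (by omega)
            · skip
              rcases Nat.lt_or_ge i 599000 with h7 | h7
              · skip
                exact allRangeF_sound _ _ (checkFactF_eq cert) 598000 1000 chkF_598000 i (by omega) (by omega)
              · skip
                exact allRangeF_sound _ _ (checkFactF_eq cert) 599000 1000 chkF_599000 i (by omega) (by omega)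
        · skip
          rcases Nat.lt_or_ge i 603000 with h5 | h5
          · skip
            rcases Nat.lt_or_ge i 601000 with h6 | h6
            · skip
              exact allRangeF_sound _ _ (checkFactF_eq cert) 600000 1000 chkF_600000 i (by omega) (by omega)
            · skip
              rcases Nat.lt_or_ge i 602000 with h7 | h7
              · skip
                exact allRangeF_sound _ _ (checkFactF_eq cert) 601000 1000 chkF_601000 i (by omega) (by omega)
              · skip
                exact allRangeF_sound _ _ (checkFactF_eq cert) 602000 1000 chkF_602000 i (by omega) (by omega)
          · skip
            rcases Nat.lt_or_ge i 604000 with h6 | h6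
            · skip
              exact allRangeF_sound _ _ (checkFactF_eq cert) 603000 1000 chkF_603000 i (by omega) (by omega)
            · skip
              rcases Nat.lt_or_ge i 605000 with h7 | h7
              · skip
                exact allRangeF_sound _ _ (checkFactF_eq cert) 604000 1000 chkF_604000 i (by omega) (by omega)
              · skip
                exact allRangeF_sound _ _ (checkFactF_eq cert) 605000 1000 chkF_605000 i (by omega) (by omega)
      · skip
        rcases Nat.lt_or_ge i 612000 with h4 | h4
        · skip
          rcases Nat.lt_or_ge i 609000 with h5 | h5
          · skip
            rcases Nat.lt_or_ge i 607000 with h6 | h6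
            · skip
              exact allRangeF_sound _ _ (checkFactF_eq cert) 606000 1000 chkF_606000 i (by omega) (by omega)
            · skip
              rcases Nat.lt_or_ge i 608000 with h7 | h7
              · skip
                exact allRangeF_sound _ _ (checkFactF_eq cert) 607000 1000 chkF_607000 i (by omega) (by omega)
              · skip
                exact allRangeF_sound _ _ (checkFactF_eq cert) 608000 1000 chkF_608000 i (by omega) (by omega)
          · skip
            rcases Nat.lt_or_ge i 610000 with h6 | h6
            · skip
              exact allRangeF_sound _ _ (checkFactF_eq cert) 609000 1000 chkF_609000 i (by omega) (by omega)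
            · skip
              rcases Nat.lt_or_ge i 611000 with h7 | h7
              · skip
                exact allRangeF_sound _ _ (checkFactF_eq cert) 610000 1000 chkF_610000 i (by omega) (by omega)
              · skip
                exact allRangeF_sound _ _ (checkFactF_eq cert) 611000 1000 chkF_611000 i (by omega) (by omega)
        · skip
          rcases Nat.lt_or_ge i 615000 with h5 | h5
          · skip
            rcases Nat.lt_or_ge i 613000 with h6 | h6
            · skip
              exact allRangeF_sound _ _ (checkFactF_eq cert) 612000 1000 chkF_612000 i (by omega) (by omega)
            · skip
              rcases Nat.lt_or_ge i 614000 with h7 | h7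
              · skip
                exact allRangeF_sound _ _ (checkFactF_eq cert) 613000 1000 chkF_613000 i (by omega) (by omega)
              · skip
                exact allRangeF_sound _ _ (checkFactF_eq cert) 614000 1000 chkF_614000 i (by omega) (by omega)
          · skip
            rcases Nat.lt_or_ge i 616000 with h6 | h6
            · skip
              exact allRangeF_sound _ _ (checkFactF_eq cert) 615000 1000 chkF_615000 i (by omega) (by omega)
            · skip
              rcases Nat.lt_or_ge i 617000 with h7 | h7
              · skip
                exact allRangeF_sound _ _ (checkFactF_eq cert) 616000 1000 chkF_616000 i (by omega) (by omega)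
              · skip
                exact allRangeF_sound _ _ (checkFactF_eq cert) 617000 1000 chkF_617000 i (by omega) (by omega)
    · skip
      rcases Nat.lt_or_ge i 630000 with h3 | h3
      · skip
        rcases Nat.lt_or_ge i 624000 with h4 | h4
        · skip
          rcases Nat.lt_or_ge i 621000 with h5 | h5
          · skip
            rcases Nat.lt_or_ge i 619000 with h6 | h6
            · skip
              exact allRangeF_sound _ _ (checkFactF_eq cert) 618000 1000 chkF_618000 i (by omega) (by omega)
            · skip
              rcases Nat.lt_or_ge i 620000 with h7 | h7
              · skip
                exact allRangeF_sound _ _ (checkFactF_eq cert) 619000 1000 chkF_619000 i (by omega) (by omega)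
              · skip
                exact allRangeF_sound _ _ (checkFactF_eq cert) 620000 1000 chkF_620000 i (by omega) (by omega)
          · skip
            rcases Nat.lt_or_ge i 622000 with h6 | h6
            · skip
              exact allRangeF_sound _ _ (checkFactF_eq cert) 621000 1000 chkF_621000 i (by omega) (by omega)
            · skip
              rcases Nat.lt_or_ge i 623000 with h7 | h7
              · skip
                exact allRangeF_sound _ _ (checkFactF_eq cert) 622000 1000 chkF_622000 i (by omega) (by omega)
              · skip
                exact allRangeF_sound _ _ (checkFactF_eq cert) 623000 1000 chkF_623000 i (by omega) (by omega)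
        · skip
          rcases Nat.lt_or_ge i 627000 with h5 | h5
          · skip
            rcases Nat.lt_or_ge i 625000 with h6 | h6
            · skip
              exact allRangeF_sound _ _ (checkFactF_eq cert) 624000 1000 chkF_624000 i (by omega) (by omega)
            · skip
              rcases Nat.lt_or_ge i 626000 with h7 | h7
              · skip
                exact allRangeF_sound _ _ (checkFactF_eq cert) 625000 1000 chkF_625000 i (by omega) (by omega)
              · skip
                exact allRangeF_sound _ _ (checkFactF_eq cert) 626000 1000 chkF_626000 i (by omega) (by omega)
          · skip
            rcases Nat.lt_or_ge i 628000 with h6 | h6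
            · skip
              exact allRangeF_sound _ _ (checkFactF_eq cert) 627000 1000 chkF_627000 i (by omega) (by omega)
            · skip
              rcases Nat.lt_or_ge i 629000 with h7 | h7
              · skip
                exact allRangeF_sound _ _ (checkFactF_eq cert) 628000 1000 chkF_628000 i (by omega) (by omega)
              · skip
                exact allRangeF_sound _ _ (checkFactF_eq cert) 629000 1000 chkF_629000 i (by omega) (by omega)
      · skip
        rcases Nat.lt_or_ge i 636000 with h4 | h4
        · skip
          rcases Nat.lt_or_ge i 633000 with h5 | h5
          · skip
            rcases Nat.lt_or_ge i 631000 with h6 | h6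
            · skip
              exact allRangeF_sound _ _ (checkFactF_eq cert) 630000 1000 chkF_630000 i (by omega) (by omega)
            · skip
              rcases Nat.lt_or_ge i 632000 with h7 | h7
              · skip
                exact allRangeF_sound _ _ (checkFactF_eq cert) 631000 1000 chkF_631000 i (by omega) (by omega)
              · skip
                exact allRangeF_sound _ _ (checkFactF_eq cert) 632000 1000 chkF_632000 i (by omega) (by omega)
          · skip
            rcases Nat.lt_or_ge i 634000 with h6 | h6
            · skip
              exact allRangeF_sound _ _ (checkFactF_eq cert) 633000 1000 chkF_633000 i (by omega) (by omega)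
            · skip
              rcases Nat.lt_or_ge i 635000 with h7 | h7
              · skip
                exact allRangeF_sound _ _ (checkFactF_eq cert) 634000 1000 chkF_634000 i (by omega) (by omega)
              · skip
                exact allRangeF_sound _ _ (checkFactF_eq cert) 635000 1000 chkF_635000 i (by omega) (by omega)
        · skip
          rcases Nat.lt_or_ge i 639000 with h5 | h5
          · skip
            rcases Nat.lt_or_ge i 637000 with h6 | h6
            · skip
              exact allRangeF_sound _ _ (checkFactF_eq cert) 636000 1000 chkF_636000 i (by omega) (by omega)
            · skip
              rcases Nat.lt_or_ge i 638000 with h7 | h7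
              · skip
                exact allRangeF_sound _ _ (checkFactF_eq cert) 637000 1000 chkF_637000 i (by omega) (by omega)
              · skip
                exact allRangeF_sound _ _ (checkFactF_eq cert) 638000 1000 chkF_638000 i (by omega) (by omega)
          · skip
            rcases Nat.lt_or_ge i 641000 with h6 | h6
            · skip
              rcases Nat.lt_or_ge i 640000 with h7 | h7
              · skip
                exact allRangeF_sound _ _ (checkFactF_eq cert) 639000 1000 chkF_639000 i (by omega) (by omega)
              · skip
                exact allRangeF_sound _ _ (checkFactF_eq cert) 640000 1000 chkF_640000 i (by omega) (by omega)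
            · skip
              rcases Nat.lt_or_ge i 642000 with h7 | h7
              · skip
                exact allRangeF_sound _ _ (checkFactF_eq cert) 641000 1000 chkF_641000 i (by omega) (by omega)
              · skip
                exact allRangeF_sound _ _ (checkFactF_eq cert) 642000 1000 chkF_642000 i (by omega) (by omega)
  · skip
    rcases Nat.lt_or_ge i 668000 with h2 | h2
    · skip
      rcases Nat.lt_or_ge i 655000 with h3 | h3
      · skip
        rcases Nat.lt_or_ge i 649000 with h4 | h4
        · skip
          rcases Nat.lt_or_ge i 646000 with h5 | h5
          · skip
            rcases Nat.lt_or_ge i 644000 with h6 | h6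
            · skip
              exact allRangeF_sound _ _ (checkFactF_eq cert) 643000 1000 chkF_643000 i (by omega) (by omega)
            · skip
              rcases Nat.lt_or_ge i 645000 with h7 | h7
              · skip
                exact allRangeF_sound _ _ (checkFactF_eq cert) 644000 1000 chkF_644000 i (by omega) (by omega)
              · skip
                exact allRangeF_sound _ _ (checkFactF_eq cert) 645000 1000 chkF_645000 i (by omega) (by omega)
          · skip
            rcases Nat.lt_or_ge i 647000 with h6 | h6
            · skip
              exact allRangeF_sound _ _ (checkFactF_eq cert) 646000 1000 chkF_646000 i (by omega) (by omega)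
            · skip
              rcases Nat.lt_or_ge i 648000 with h7 | h7
              · skip
                exact allRangeF_sound _ _ (checkFactF_eq cert) 647000 1000 chkF_647000 i (by omega) (by omega)
              · skip
                exact allRangeF_sound _ _ (checkFactF_eq cert) 648000 1000 chkF_648000 i (by omega) (by omega)
        · skip
          rcases Nat.lt_or_ge i 652000 with h5 | h5
          · skip
            rcases Nat.lt_or_ge i 650000 with h6 | h6
            · skip
              exact allRangeF_sound _ _ (checkFactF_eq cert) 649000 1000 chkF_649000 i (by omega) (by omega)
            · skip
              rcases Nat.lt_or_ge i 651000 with h7 | h7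
              · skip
                exact allRangeF_sound _ _ (checkFactF_eq cert) 650000 1000 chkF_650000 i (by omega) (by omega)
              · skip
                exact allRangeF_sound _ _ (checkFactF_eq cert) 651000 1000 chkF_651000 i (by omega) (by omega)
          · skip
            rcases Nat.lt_or_ge i 653000 with h6 | h6
            · skip
              exact allRangeF_sound _ _ (checkFactF_eq cert) 652000 1000 chkF_652000 i (by omega) (by omega)
            · skip
              rcases Nat.lt_or_ge i 654000 with h7 | h7
              · skip
                exact allRangeF_sound _ _ (checkFactF_eq cert) 653000 1000 chkF_653000 i (by omega) (by omega)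
              · skip
                exact allRangeF_sound _ _ (checkFactF_eq cert) 654000 1000 chkF_654000 i (by omega) (by omega)
      · skip
        rcases Nat.lt_or_ge i 661000 with h4 | h4
        · skip
          rcases Nat.lt_or_ge i 658000 with h5 | h5
          · skip
            rcases Nat.lt_or_ge i 656000 with h6 | h6
            · skip
              exact allRangeF_sound _ _ (checkFactF_eq cert) 655000 1000 chkF_655000 i (by omega) (by omega)
            · skip
              rcases Nat.lt_or_ge i 657000 with h7 | h7
              · skip
                exact allRangeF_sound _ _ (checkFactF_eq cert) 656000 1000 chkF_656000 i (by omega) (by omega)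
              · skip
                exact allRangeF_sound _ _ (checkFactF_eq cert) 657000 1000 chkF_657000 i (by omega) (by omega)
          · skip
            rcases Nat.lt_or_ge i 659000 with h6 | h6
            · skip
              exact allRangeF_sound _ _ (checkFactF_eq cert) 658000 1000 chkF_658000 i (by omega) (by omega)
            · skip
              rcases Nat.lt_or_ge i 660000 with h7 | h7
              · skip
                exact allRangeF_sound _ _ (checkFactF_eq cert) 659000 1000 chkF_659000 i (by omega) (by omega)
              · skip
                exact allRangeF_sound _ _ (checkFactF_eq cert) 660000 1000 chkF_660000 i (by omega) (by omega)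
        · skip
          rcases Nat.lt_or_ge i 664000 with h5 | h5
          · skip
            rcases Nat.lt_or_ge i 662000 with h6 | h6
            · skip
              exact allRangeF_sound _ _ (checkFactF_eq cert) 661000 1000 chkF_661000 i (by omega) (by omega)
            · skip
              rcases Nat.lt_or_ge i 663000 with h7 | h7
              · skip
                exact allRangeF_sound _ _ (checkFactF_eq cert) 662000 1000 chkF_662000 i (by omega) (by omega)
              · skip
                exact allRangeF_sound _ _ (checkFactF_eq cert) 663000 1000 chkF_663000 i (by omega) (by omega)
          · skip
            rcases Nat.lt_or_ge i 666000 with h6 | h6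
            · skip
              rcases Nat.lt_or_ge i 665000 with h7 | h7
              · skip
                exact allRangeF_sound _ _ (checkFactF_eq cert) 664000 1000 chkF_664000 i (by omega) (by omega)
              · skip
                exact allRangeF_sound _ _ (checkFactF_eq cert) 665000 1000 chkF_665000 i (by omega) (by omega)
            · skip
              rcases Nat.lt_or_ge i 667000 with h7 | h7
              · skip
                exact allRangeF_sound _ _ (checkFactF_eq cert) 666000 1000 chkF_666000 i (by omega) (by omega)
              · skip
                exact allRangeF_sound _ _ (checkFactF_eq cert) 667000 1000 chkF_667000 i (by omega) (by omega)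
    · skip
      rcases Nat.lt_or_ge i 680000 with h3 | h3
      · skip
        rcases Nat.lt_or_ge i 674000 with h4 | h4
        · skip
          rcases Nat.lt_or_ge i 671000 with h5 | h5
          · skip
            rcases Nat.lt_or_ge i 669000 with h6 | h6
            · skip
              exact allRangeF_sound _ _ (checkFactF_eq cert) 668000 1000 chkF_668000 i (by omega) (by omega)
            · skip
              rcases Nat.lt_or_ge i 670000 with h7 | h7
              · skip
                exact allRangeF_sound _ _ (checkFactF_eq cert) 669000 1000 chkF_669000 i (by omega) (by omega)
              · skip
                exact allRangeF_sound _ _ (checkFactF_eq cert) 670000 1000 chkF_670000 i (by omega) (by omega)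
          · skip
            rcases Nat.lt_or_ge i 672000 with h6 | h6
            · skip
              exact allRangeF_sound _ _ (checkFactF_eq cert) 671000 1000 chkF_671000 i (by omega) (by omega)
            · skip
              rcases Nat.lt_or_ge i 673000 with h7 | h7
              · skip
                exact allRangeF_sound _ _ (checkFactF_eq cert) 672000 1000 chkF_672000 i (by omega) (by omega)
              · skip
                exact allRangeF_sound _ _ (checkFactF_eq cert) 673000 1000 chkF_673000 i (by omega) (by omega)
        · skip
          rcases Nat.lt_or_ge i 677000 with h5 | h5
          · skip
            rcases Nat.lt_or_ge i 675000 with h6 | h6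
            · skip
              exact allRangeF_sound _ _ (checkFactF_eq cert) 674000 1000 chkF_674000 i (by omega) (by omega)
            · skip
              rcases Nat.lt_or_ge i 676000 with h7 | h7
              · skip
                exact allRangeF_sound _ _ (checkFactF_eq cert) 675000 1000 chkF_675000 i (by omega) (by omega)
              · skip
                exact allRangeF_sound _ _ (checkFactF_eq cert) 676000 1000 chkF_676000 i (by omega) (by omega)
          · skip
            rcases Nat.lt_or_ge i 678000 with h6 | h6
            · skip
              exact allRangeF_sound _ _ (checkFactF_eq cert) 677000 1000 chkF_677000 i (by omega) (by omega)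
            · skip
              rcases Nat.lt_or_ge i 679000 with h7 | h7
              · skip
                exact allRangeF_sound _ _ (checkFactF_eq cert) 678000 1000 chkF_678000 i (by omega) (by omega)
              · skip
                exact allRangeF_sound _ _ (checkFactF_eq cert) 679000 1000 chkF_679000 i (by omega) (by omega)
      · skip
        rcases Nat.lt_or_ge i 686000 with h4 | h4
        · skip
          rcases Nat.lt_or_ge i 683000 with h5 | h5
          · skip
            rcases Nat.lt_or_ge i 681000 with h6 | h6
            · skip
              exact allRangeF_sound _ _ (checkFactF_eq cert) 680000 1000 chkF_680000 i (by omega) (by omega)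
            · skip
              rcases Nat.lt_or_ge i 682000 with h7 | h7
              · skip
                exact allRangeF_sound _ _ (checkFactF_eq cert) 681000 1000 chkF_681000 i (by omega) (by omega)
              · skip
                exact allRangeF_sound _ _ (checkFactF_eq cert) 682000 1000 chkF_682000 i (by omega) (by omega)
          · skip
            rcases Nat.lt_or_ge i 684000 with h6 | h6
            · skip
              exact allRangeF_sound _ _ (checkFactF_eq cert) 683000 1000 chkF_683000 i (by omega) (by omega)
            · skip
              rcases Nat.lt_or_ge i 685000 with h7 | h7
              · skip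
                exact allRangeF_sound _ _ (checkFactF_eq cert) 684000 1000 chkF_684000 i (by omega) (by omega)
              · skip
                exact allRangeF_sound _ _ (checkFactF_eq cert) 685000 1000 chkF_685000 i (by omega) (by omega)
        · skip
          rcases Nat.lt_or_ge i 689000 with h5 | h5
          · skip
            rcases Nat.lt_or_ge i 687000 with h6 | h6
            · skip
              exact allRangeF_sound _ _ (checkFactF_eq cert) 686000 1000 chkF_686000 i (by omega) (by omega)
            · skip
              rcases Nat.lt_or_ge i 688000 with h7 | h7
              · skip
                exact allRangeF_sound _ _ (checkFactF_eq cert) 687000 1000 chkF_687000 i (by omega) (by omega)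
              · skip
                exact allRangeF_sound _ _ (checkFactF_eq cert) 688000 1000 chkF_688000 i (by omega) (by omega)
          · skip
            rcases Nat.lt_or_ge i 691000 with h6 | h6
            · skip
              rcases Nat.lt_or_ge i 690000 with h7 | h7
              · skip
                exact allRangeF_sound _ _ (checkFactF_eq cert) 689000 1000 chkF_689000 i (by omega) (by omega)
              · skip
                exact allRangeF_sound _ _ (checkFactF_eq cert) 690000 1000 chkF_690000 i (by omega) (by omega)
            · skip
              rcases Nat.lt_or_ge i 692000 with h7 | h7
              · skip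
                exact allRangeF_sound _ _ (checkFactF_eq cert) 691000 1000 chkF_691000 i (by omega) (by omega)
              · skip
                exact allRangeF_sound _ _ (checkFactF_eq cert) 692000 1000 chkF_692000 i (by omega) (by omega)

end Cfsg.Agent.Lib.Helper28.Fi24Data
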