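import Cfsg.Agent.Lib.Helper28.Fi24Data
import Cfsg.Agent.Lib.Helper28.TCFastFB

set_option autoImplicit false
set_option maxRecDepth 1000000
set_option linter.all false
set_option Elab.async false

namespace Cfsg.Agent.Lib.Helper28.Fi24Data

open Cfsg.Agent.Lib.Helper28B

theorem chkF_792000 : allRangeF (checkFactF cert) (nat_lit 792000) (nat_lit 1000) = true := by decide +kernel
theorem chkF_793000 : allRangeF (checkFactF cert) (nat_lit 793000) (nat_lit 1000) = true := by decide +kernel
theorem chkF_794000 : allRangeF (checkFactF cert) (nat_lit 794000) (nat_lit 1000) = true := by decide +kernel
theorem chkF_795000 : allRangeF (checkFactF cert) (nat_lit 795000) (nat_lit 1000) = true := by decide +kernel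
theorem chkF_796000 : allRangeF (checkFactF cert) (nat_lit 796000) (nat_lit 1000) = true := by decide +kernel
theorem chkF_797000 : allRangeF (checkFactF cert) (nat_lit 797000) (nat_lit 1000) = true := by decide +kernel
theorem chkF_798000 : allRangeF (checkFactF cert) (nat_lit 798000) (nat_lit 1000) = true := by decide +kernel
theorem chkF_799000 : allRangeF (checkFactF cert) (nat_lit 799000) (nat_lit 1000) = true := by decide +kernel
theorem chkF_800000 : allRangeF (checkFactF cert) (nat_lit 800000) (nat_lit 1000) = true := by decide +kernel
theorem chkF_801000 : allRangeF (checkFactF cert) (nat_lit 801000) (nat_lit 1000) = true := by decide +kernel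
theorem chkF_802000 : allRangeF (checkFactF cert) (nat_lit 802000) (nat_lit 1000) = true := by decide +kernel
theorem chkF_803000 : allRangeF (checkFactF cert) (nat_lit 803000) (nat_lit 1000) = true := by decide +kernel
theorem chkF_804000 : allRangeF (checkFactF cert) (nat_lit 804000) (nat_lit 1000) = true := by decide +kernel
theorem chkF_805000 : allRangeF (checkFactF cert) (nat_lit 805000) (nat_lit 1000) = true := by decide +kernel
theorem chkF_806000 : allRangeF (checkFactF cert) (nat_lit 806000) (nat_lit 1000) = true := by decide +kernel
theorem chkF_807000 : allRangeF (checkFactF cert) (nat_lit 807000) (nat_lit 1000) = true := by decide +kernel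
theorem chkF_808000 : allRangeF (checkFactF cert) (nat_lit 808000) (nat_lit 1000) = true := by decide +kernel
theorem chkF_809000 : allRangeF (checkFactF cert) (nat_lit 809000) (nat_lit 1000) = true := by decide +kernel
theorem chkF_810000 : allRangeF (checkFactF cert) (nat_lit 810000) (nat_lit 1000) = true := by decide +kernel
theorem chkF_811000 : allRangeF (checkFactF cert) (nat_lit 811000) (nat_lit 1000) = true := by decide +kernel
theorem chkF_812000 : allRangeF (checkFactF cert) (nat_lit 812000) (nat_lit 1000) = true := by decide +kernel
theorem chkF_813000 : allRangeF (checkFactF cert) (nat_lit 813000) (nat_lit 1000) = true := by decide +kernel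
theorem chkF_814000 : allRangeF (checkFactF cert) (nat_lit 814000) (nat_lit 1000) = true := by decide +kernel
theorem chkF_815000 : allRangeF (checkFactF cert) (nat_lit 815000) (nat_lit 1000) = true := by decide +kernel
theorem chkF_816000 : allRangeF (checkFactF cert) (nat_lit 816000) (nat_lit 1000) = true := by decide +kernel
theorem chkF_817000 : allRangeF (checkFactF cert) (nat_lit 817000) (nat_lit 1000) = true := by decide +kernel
theorem chkF_818000 : allRangeF (checkFactF cert) (nat_lit 818000) (nat_lit 1000) = true := by decide +kernel
theorem chkF_819000 : allRangeF (checkFactF cert) (nat_lit 819000) (nat_lit 1000) = true := by decide +kernel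
theorem chkF_820000 : allRangeF (checkFactF cert) (nat_lit 820000) (nat_lit 1000) = true := by decide +kernel
theorem chkF_821000 : allRangeF (checkFactF cert) (nat_lit 821000) (nat_lit 1000) = true := by decide +kernel
theorem chkF_822000 : allRangeF (checkFactF cert) (nat_lit 822000) (nat_lit 1000) = true := by decide +kernel
theorem chkF_823000 : allRangeF (checkFactF cert) (nat_lit 823000) (nat_lit 1000) = true := by decide +kernel
theorem chkF_824000 : allRangeF (checkFactF cert) (nat_lit 824000) (nat_lit 1000) = true := by decide +kernel
theorem chkF_825000 : allRangeF (checkFactF cert) (nat_lit 825000) (nat_lit 1000) = true := by decide +kernel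
theorem chkF_826000 : allRangeF (checkFactF cert) (nat_lit 826000) (nat_lit 1000) = true := by decide +kernel
theorem chkF_827000 : allRangeF (checkFactF cert) (nat_lit 827000) (nat_lit 1000) = true := by decide +kernel
theorem chkF_828000 : allRangeF (checkFactF cert) (nat_lit 828000) (nat_lit 1000) = true := by decide +kernel
theorem chkF_829000 : allRangeF (checkFactF cert) (nat_lit 829000) (nat_lit 1000) = true := by decide +kernel
theorem chkF_830000 : allRangeF (checkFactF cert) (nat_lit 830000) (nat_lit 1000) = true := by decide +kernel
theorem chkF_831000 : allRangeF (checkFactF cert) (nat_lit 831000) (nat_lit 1000) = true := by decide +kernel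
theorem chkF_832000 : allRangeF (checkFactF cert) (nat_lit 832000) (nat_lit 1000) = true := by decide +kernel
theorem chkF_833000 : allRangeF (checkFactF cert) (nat_lit 833000) (nat_lit 1000) = true := by decide +kernel
theorem chkF_834000 : allRangeF (checkFactF cert) (nat_lit 834000) (nat_lit 1000) = true := by decide +kernel
theorem chkF_835000 : allRangeF (checkFactF cert) (nat_lit 835000) (nat_lit 1000) = true := by decide +kernel
theorem chkF_836000 : allRangeF (checkFactF cert) (nat_lit 836000) (nat_lit 1000) = true := by decide +kernel
theorem chkF_837000 : allRangeF (checkFactF cert) (nat_lit 837000) (nat_lit 1000) = true := by decide +kernel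
theorem chkF_838000 : allRangeF (checkFactF cert) (nat_lit 838000) (nat_lit 1000) = true := by decide +kernel
theorem chkF_839000 : allRangeF (checkFactF cert) (nat_lit 839000) (nat_lit 1000) = true := by decide +kernel
theorem chkF_840000 : allRangeF (checkFactF cert) (nat_lit 840000) (nat_lit 1000) = true := by decide +kernel
theorem chkF_841000 : allRangeF (checkFactF cert) (nat_lit 841000) (nat_lit 1000) = true := by decide +kernel
theorem chkF_842000 : allRangeF (checkFactF cert) (nat_lit 842000) (nat_lit 1000) = true := by decide +kernel
theorem chkF_843000 : allRangeF (checkFactF cert) (nat_lit 843000) (nat_lit 1000) = true := by decide +kernel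
theorem chkF_844000 : allRangeF (checkFactF cert) (nat_lit 844000) (nat_lit 1000) = true := by decide +kernel
theorem chkF_845000 : allRangeF (checkFactF cert) (nat_lit 845000) (nat_lit 1000) = true := by decide +kernel
theorem chkF_846000 : allRangeF (checkFactF cert) (nat_lit 846000) (nat_lit 1000) = true := by decide +kernel
theorem chkF_847000 : allRangeF (checkFactF cert) (nat_lit 847000) (nat_lit 1000) = true := by decide +kernel
theorem chkF_848000 : allRangeF (checkFactF cert) (nat_lit 848000) (nat_lit 1000) = true := by decide +kernel
theorem chkF_849000 : allRangeF (checkFactF cert) (nat_lit 849000) (nat_lit 1000) = true := by decide +kernel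
theorem chkF_850000 : allRangeF (checkFactF cert) (nat_lit 850000) (nat_lit 1000) = true := by decide +kernel
theorem chkF_851000 : allRangeF (checkFactF cert) (nat_lit 851000) (nat_lit 1000) = true := by decide +kernel
theorem chkF_852000 : allRangeF (checkFactF cert) (nat_lit 852000) (nat_lit 1000) = true := by decide +kernel
theorem chkF_853000 : allRangeF (checkFactF cert) (nat_lit 853000) (nat_lit 1000) = true := by decide +kernel
theorem chkF_854000 : allRangeF (checkFactF cert) (nat_lit 854000) (nat_lit 1000) = true := by decide +kernel
theorem chkF_855000 : allRangeF (checkFactF cert) (nat_lit 855000) (nat_lit 1000) = true := by decide +kernel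
theorem chkF_856000 : allRangeF (checkFactF cert) (nat_lit 856000) (nat_lit 1000) = true := by decide +kernel
theorem chkF_857000 : allRangeF (checkFactF cert) (nat_lit 857000) (nat_lit 1000) = true := by decide +kernel
theorem chkF_858000 : allRangeF (checkFactF cert) (nat_lit 858000) (nat_lit 1000) = true := by decide +kernel
theorem chkF_859000 : allRangeF (checkFactF cert) (nat_lit 859000) (nat_lit 1000) = true := by decide +kernel
theorem chkF_860000 : allRangeF (checkFactF cert) (nat_lit 860000) (nat_lit 1000) = true := by decide +kernel
theorem chkF_861000 : allRangeF (checkFactF cert) (nat_lit 861000) (nat_lit 1000) = true := by decide +kernel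
theorem chkF_862000 : allRangeF (checkFactF cert) (nat_lit 862000) (nat_lit 1000) = true := by decide +kernel
theorem chkF_863000 : allRangeF (checkFactF cert) (nat_lit 863000) (nat_lit 1000) = true := by decide +kernel
theorem chkF_864000 : allRangeF (checkFactF cert) (nat_lit 864000) (nat_lit 1000) = true := by decide +kernel
theorem chkF_865000 : allRangeF (checkFactF cert) (nat_lit 865000) (nat_lit 1000) = true := by decide +kernel
theorem chkF_866000 : allRangeF (checkFactF cert) (nat_lit 866000) (nat_lit 1000) = true := by decide +kernel
theorem chkF_867000 : allRangeF (checkFactF cert) (nat_lit 867000) (nat_lit 1000) = true := by decide +kernel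
theorem chkF_868000 : allRangeF (checkFactF cert) (nat_lit 868000) (nat_lit 1000) = true := by decide +kernel
theorem chkF_869000 : allRangeF (checkFactF cert) (nat_lit 869000) (nat_lit 1000) = true := by decide +kernel
theorem chkF_870000 : allRangeF (checkFactF cert) (nat_lit 870000) (nat_lit 1000) = true := by decide +kernel
theorem chkF_871000 : allRangeF (checkFactF cert) (nat_lit 871000) (nat_lit 1000) = true := by decide +kernel
theorem chkF_872000 : allRangeF (checkFactF cert) (nat_lit 872000) (nat_lit 1000) = true := by decide +kernel
theorem chkF_873000 : allRangeF (checkFactF cert) (nat_lit 873000) (nat_lit 1000) = true := by decide +kernel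
theorem chkF_874000 : allRangeF (checkFactF cert) (nat_lit 874000) (nat_lit 1000) = true := by decide +kernel
theorem chkF_875000 : allRangeF (checkFactF cert) (nat_lit 875000) (nat_lit 1000) = true := by decide +kernel
theorem chkF_876000 : allRangeF (checkFactF cert) (nat_lit 876000) (nat_lit 1000) = true := by decide +kernel
theorem chkF_877000 : allRangeF (checkFactF cert) (nat_lit 877000) (nat_lit 1000) = true := by decide +kernel
theorem chkF_878000 : allRangeF (checkFactF cert) (nat_lit 878000) (nat_lit 1000) = true := by decide +kernel
theorem chkF_879000 : allRangeF (checkFactF cert) (nat_lit 879000) (nat_lit 1000) = true := by decide +kernel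
theorem chkF_880000 : allRangeF (checkFactF cert) (nat_lit 880000) (nat_lit 1000) = true := by decide +kernel
theorem chkF_881000 : allRangeF (checkFactF cert) (nat_lit 881000) (nat_lit 1000) = true := by decide +kernel
theorem chkF_882000 : allRangeF (checkFactF cert) (nat_lit 882000) (nat_lit 1000) = true := by decide +kernel
theorem chkF_883000 : allRangeF (checkFactF cert) (nat_lit 883000) (nat_lit 1000) = true := by decide +kernel
theorem chkF_884000 : allRangeF (checkFactF cert) (nat_lit 884000) (nat_lit 1000) = true := by decide +kernel
theorem chkF_885000 : allRangeF (checkFactF cert) (nat_lit 885000) (nat_lit 1000) = true := by decide +kernel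
theorem chkF_886000 : allRangeF (checkFactF cert) (nat_lit 886000) (nat_lit 1000) = true := by decide +kernel
theorem chkF_887000 : allRangeF (checkFactF cert) (nat_lit 887000) (nat_lit 1000) = true := by decide +kernel
theorem chkF_888000 : allRangeF (checkFactF cert) (nat_lit 888000) (nat_lit 1000) = true := by decide +kernel
theorem chkF_889000 : allRangeF (checkFactF cert) (nat_lit 889000) (nat_lit 1000) = true := by decide +kernel
theorem chkF_890000 : allRangeF (checkFactF cert) (nat_lit 890000) (nat_lit 1000) = true := by decide +kernel

theorem factsRange_8 : ∀ i, 792000 ≤ i → i < 891000 → checkFact cert i = true := by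
  intro i hlo hhi
  rcases Nat.lt_or_ge i 841000 with h1 | h1
  · skip
    rcases Nat.lt_or_ge i 816000 with h2 | h2
    · skip
      rcases Nat.lt_or_ge i 804000 with h3 | h3
      · skip
        rcases Nat.lt_or_ge i 798000 with h4 | h4
        · skip
          rcases Nat.lt_or_ge i 795000 with h5 | h5
          · skip
            rcases Nat.lt_or_ge i 793000 with h6 | h6
            · skip
              exact allRangeF_sound _ _ (checkFactF_eq cert) 792000 1000 chkF_792000 i (by omega) (by omega)
            · skip
              rcases Nat.lt_or_ge i 794000 with h7 | h7
              · skip
                exact allRangeF_sound _ _ (checkFactF_eq cert) 793000 1000 chkF_793000 i (by omega) (by omega)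
              · skip
                exact allRangeF_sound _ _ (checkFactF_eq cert) 794000 1000 chkF_794000 i (by omega) (by omega)
          · skip
            rcases Nat.lt_or_ge i 796000 with h6 | h6
            · skip
              exact allRangeF_sound _ _ (checkFactF_eq cert) 795000 1000 chkF_795000 i (by omega) (by omega)
            · skip
              rcases Nat.lt_or_ge i 797000 with h7 | h7
              · skip
                exact allRangeF_sound _ _ (checkFactF_eq cert) 796000 1000 chkF_796000 i (by omega) (by omega)
              · skip
                exact allRangeF_sound _ _ (checkFactF_eq cert) 797000 1000 chkF_797000 i (by omega) (by omega)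
        · skip
          rcases Nat.lt_or_ge i 801000 with h5 | h5
          · skip
            rcases Nat.lt_or_ge i 799000 with h6 | h6
            · skip
              exact allRangeF_sound _ _ (checkFactF_eq cert) 798000 1000 chkF_798000 i (by omega) (by omega)
            · skip
              rcases Nat.lt_or_ge i 800000 with h7 | h7
              · skip
                exact allRangeF_sound _ _ (checkFactF_eq cert) 799000 1000 chkF_799000 i (by omega) (by omega)
              · skip
                exact allRangeF_sound _ _ (checkFactF_eq cert) 800000 1000 chkF_800000 i (by omega) (by omega)
          · skip
            rcases Nat.lt_or_ge i 802000 with h6 | h6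
            · skip
              exact allRangeF_sound _ _ (checkFactF_eq cert) 801000 1000 chkF_801000 i (by omega) (by omega)
            · skip
              rcases Nat.lt_or_ge i 803000 with h7 | h7
              · skip
                exact allRangeF_sound _ _ (checkFactF_eq cert) 802000 1000 chkF_802000 i (by omega) (by omega)
              · skip
                exact allRangeF_sound _ _ (checkFactF_eq cert) 803000 1000 chkF_803000 i (by omega) (by omega)
      · skip
        rcases Nat.lt_or_ge i 810000 with h4 | h4
        · skip
          rcases Nat.lt_or_ge i 807000 with h5 | h5
          · skip
            rcases Nat.lt_or_ge i 805000 with h6 | h6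
            · skip
              exact allRangeF_sound _ _ (checkFactF_eq cert) 804000 1000 chkF_804000 i (by omega) (by omega)
            · skip
              rcases Nat.lt_or_ge i 806000 with h7 | h7
              · skip
                exact allRangeF_sound _ _ (checkFactF_eq cert) 805000 1000 chkF_805000 i (by omega) (by omega)
              · skip
                exact allRangeF_sound _ _ (checkFactF_eq cert) 806000 1000 chkF_806000 i (by omega) (by omega)
          · skip
            rcases Nat.lt_or_ge i 808000 with h6 | h6
            · skip
              exact allRangeF_sound _ _ (checkFactF_eq cert) 807000 1000 chkF_807000 i (by omega) (by omega)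
            · skip
              rcases Nat.lt_or_ge i 809000 with h7 | h7
              · skip
                exact allRangeF_sound _ _ (checkFactF_eq cert) 808000 1000 chkF_808000 i (by omega) (by omega)
              · skip
                exact allRangeF_sound _ _ (checkFactF_eq cert) 809000 1000 chkF_809000 i (by omega) (by omega)
        · skip
          rcases Nat.lt_or_ge i 813000 with h5 | h5
          · skip
            rcases Nat.lt_or_ge i 811000 with h6 | h6
            · skip
              exact allRangeF_sound _ _ (checkFactF_eq cert) 810000 1000 chkF_810000 i (by omega) (by omega)
            · skip
              rcases Nat.lt_or_ge i 812000 with h7 | h7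
              · skip
                exact allRangeF_sound _ _ (checkFactF_eq cert) 811000 1000 chkF_811000 i (by omega) (by omega)
              · skip
                exact allRangeF_sound _ _ (checkFactF_eq cert) 812000 1000 chkF_812000 i (by omega) (by omega)
          · skip
            rcases Nat.lt_or_ge i 814000 with h6 | h6
            · skip
              exact allRangeF_sound _ _ (checkFactF_eq cert) 813000 1000 chkF_813000 i (by omega) (by omega)
            · skip
              rcases Nat.lt_or_ge i 815000 with h7 | h7
              · skip
                exact allRangeF_sound _ _ (checkFactF_eq cert) 814000 1000 chkF_814000 i (by omega) (by omega)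
              · skip
                exact allRangeF_sound _ _ (checkFactF_eq cert) 815000 1000 chkF_815000 i (by omega) (by omega)
    · skip
      rcases Nat.lt_or_ge i 828000 with h3 | h3
      · skip
        rcases Nat.lt_or_ge i 822000 with h4 | h4
        · skip
          rcases Nat.lt_or_ge i 819000 with h5 | h5
          · skip
            rcases Nat.lt_or_ge i 817000 with h6 | h6
            · skip
              exact allRangeF_sound _ _ (checkFactF_eq cert) 816000 1000 chkF_816000 i (by omega) (by omega)
            · skip
              rcases Nat.lt_or_ge i 818000 with h7 | h7
              · skip
                exact allRangeF_sound _ _ (checkFactF_eq cert) 817000 1000 chkF_817000 i (by omega) (by omega)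
              · skip
                exact allRangeF_sound _ _ (checkFactF_eq cert) 818000 1000 chkF_818000 i (by omega) (by omega)
          · skip
            rcases Nat.lt_or_ge i 820000 with h6 | h6
            · skip
              exact allRangeF_sound _ _ (checkFactF_eq cert) 819000 1000 chkF_819000 i (by omega) (by omega)
            · skip
              rcases Nat.lt_or_ge i 821000 with h7 | h7
              · skip
                exact allRangeF_sound _ _ (checkFactF_eq cert) 820000 1000 chkF_820000 i (by omega) (by omega)
              · skip
                exact allRangeF_sound _ _ (checkFactF_eq cert) 821000 1000 chkF_821000 i (by omega) (by omega)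
        · skip
          rcases Nat.lt_or_ge i 825000 with h5 | h5
          · skip
            rcases Nat.lt_or_ge i 823000 with h6 | h6
            · skip
              exact allRangeF_sound _ _ (checkFactF_eq cert) 822000 1000 chkF_822000 i (by omega) (by omega)
            · skip
              rcases Nat.lt_or_ge i 824000 with h7 | h7
              · skip
                exact allRangeF_sound _ _ (checkFactF_eq cert) 823000 1000 chkF_823000 i (by omega) (by omega)
              · skip
                exact allRangeF_sound _ _ (checkFactF_eq cert) 824000 1000 chkF_824000 i (by omega) (by omega)
          · skip
            rcases Nat.lt_or_ge i 826000 with h6 | h6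
            · skip
              exact allRangeF_sound _ _ (checkFactF_eq cert) 825000 1000 chkF_825000 i (by omega) (by omega)
            · skip
              rcases Nat.lt_or_ge i 827000 with h7 | h7
              · skip
                exact allRangeF_sound _ _ (checkFactF_eq cert) 826000 1000 chkF_826000 i (by omega) (by omega)
              · skip
                exact allRangeF_sound _ _ (checkFactF_eq cert) 827000 1000 chkF_827000 i (by omega) (by omega)
      · skip
        rcases Nat.lt_or_ge i 834000 with h4 | h4
        · skip
          rcases Nat.lt_or_ge i 831000 with h5 | h5
          · skip
            rcases Nat.lt_or_ge i 829000 with h6 | h6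
            · skip
              exact allRangeF_sound _ _ (checkFactF_eq cert) 828000 1000 chkF_828000 i (by omega) (by omega)
            · skip
              rcases Nat.lt_or_ge i 830000 with h7 | h7
              · skip
                exact allRangeF_sound _ _ (checkFactF_eq cert) 829000 1000 chkF_829000 i (by omega) (by omega)
              · skip
                exact allRangeF_sound _ _ (checkFactF_eq cert) 830000 1000 chkF_830000 i (by omega) (by omega)
          · skip
            rcases Nat.lt_or_ge i 832000 with h6 | h6
            · skip
              exact allRangeF_sound _ _ (checkFactF_eq cert) 831000 1000 chkF_831000 i (by omega) (by omega)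
            · skip
              rcases Nat.lt_or_ge i 833000 with h7 | h7
              · skip
                exact allRangeF_sound _ _ (checkFactF_eq cert) 832000 1000 chkF_832000 i (by omega) (by omega)
              · skip
                exact allRangeF_sound _ _ (checkFactF_eq cert) 833000 1000 chkF_833000 i (by omega) (by omega)
        · skip
          rcases Nat.lt_or_ge i 837000 with h5 | h5
          · skip
            rcases Nat.lt_or_ge i 835000 with h6 | h6
            · skip
              exact allRangeF_sound _ _ (checkFactF_eq cert) 834000 1000 chkF_834000 i (by omega) (by omega)
            · skip
              rcases Nat.lt_or_ge i 836000 with h7 | h7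
              · skip
                exact allRangeF_sound _ _ (checkFactF_eq cert) 835000 1000 chkF_835000 i (by omega) (by omega)
              · skip
                exact allRangeF_sound _ _ (checkFactF_eq cert) 836000 1000 chkF_836000 i (by omega) (by omega)
          · skip
            rcases Nat.lt_or_ge i 839000 with h6 | h6
            · skip
              rcases Nat.lt_or_ge i 838000 with h7 | h7
              · skip
                exact allRangeF_sound _ _ (checkFactF_eq cert) 837000 1000 chkF_837000 i (by omega) (by omega)
              · skip
                exact allRangeF_sound _ _ (checkFactF_eq cert) 838000 1000 chkF_838000 i (by omega) (by omega)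
            · skip
              rcases Nat.lt_or_ge i 840000 with h7 | h7
              · skip
                exact allRangeF_sound _ _ (checkFactF_eq cert) 839000 1000 chkF_839000 i (by omega) (by omega)
              · skip
                exact allRangeF_sound _ _ (checkFactF_eq cert) 840000 1000 chkF_840000 i (by omega) (by omega)
  · skip
    rcases Nat.lt_or_ge i 866000 with h2 | h2
    · skip
      rcases Nat.lt_or_ge i 853000 with h3 | h3
      · skip
        rcases Nat.lt_or_ge i 847000 with h4 | h4
        · skip
          rcases Nat.lt_or_ge i 844000 with h5 | h5
          · skip
            rcases Nat.lt_or_ge i 842000 with h6 | h6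
            · skip
              exact allRangeF_sound _ _ (checkFactF_eq cert) 841000 1000 chkF_841000 i (by omega) (by omega)
            · skip
              rcases Nat.lt_or_ge i 843000 with h7 | h7
              · skip
                exact allRangeF_sound _ _ (checkFactF_eq cert) 842000 1000 chkF_842000 i (by omega) (by omega)
              · skip
                exact allRangeF_sound _ _ (checkFactF_eq cert) 843000 1000 chkF_843000 i (by omega) (by omega)
          · skip
            rcases Nat.lt_or_ge i 845000 with h6 | h6
            · skip
              exact allRangeF_sound _ _ (checkFactF_eq cert) 844000 1000 chkF_844000 i (by omega) (by omega)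
            · skip
              rcases Nat.lt_or_ge i 846000 with h7 | h7
              · skip
                exact allRangeF_sound _ _ (checkFactF_eq cert) 845000 1000 chkF_845000 i (by omega) (by omega)
              · skip
                exact allRangeF_sound _ _ (checkFactF_eq cert) 846000 1000 chkF_846000 i (by omega) (by omega)
        · skip
          rcases Nat.lt_or_ge i 850000 with h5 | h5
          · skip
            rcases Nat.lt_or_ge i 848000 with h6 | h6
            · skip
              exact allRangeF_sound _ _ (checkFactF_eq cert) 847000 1000 chkF_847000 i (by omega) (by omega)
            · skip
              rcases Nat.lt_or_ge i 849000 with h7 | h7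
              · skip
                exact allRangeF_sound _ _ (checkFactF_eq cert) 848000 1000 chkF_848000 i (by omega) (by omega)
              · skip
                exact allRangeF_sound _ _ (checkFactF_eq cert) 849000 1000 chkF_849000 i (by omega) (by omega)
          · skip
            rcases Nat.lt_or_ge i 851000 with h6 | h6
            · skip
              exact allRangeF_sound _ _ (checkFactF_eq cert) 850000 1000 chkF_850000 i (by omega) (by omega)
            · skip
              rcases Nat.lt_or_ge i 852000 with h7 | h7
              · skip
                exact allRangeF_sound _ _ (checkFactF_eq cert) 851000 1000 chkF_851000 i (by omega) (by omega)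
              · skip
                exact allRangeF_sound _ _ (checkFactF_eq cert) 852000 1000 chkF_852000 i (by omega) (by omega)
      · skip
        rcases Nat.lt_or_ge i 859000 with h4 | h4
        · skip
          rcases Nat.lt_or_ge i 856000 with h5 | h5
          · skip
            rcases Nat.lt_or_ge i 854000 with h6 | h6
            · skip
              exact allRangeF_sound _ _ (checkFactF_eq cert) 853000 1000 chkF_853000 i (by omega) (by omega)
            · skip
              rcases Nat.lt_or_ge i 855000 with h7 | h7
              · skip
                exact allRangeF_sound _ _ (checkFactF_eq cert) 854000 1000 chkF_854000 i (by omega) (by omega)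
              · skip
                exact allRangeF_sound _ _ (checkFactF_eq cert) 855000 1000 chkF_855000 i (by omega) (by omega)
          · skip
            rcases Nat.lt_or_ge i 857000 with h6 | h6
            · skip
              exact allRangeF_sound _ _ (checkFactF_eq cert) 856000 1000 chkF_856000 i (by omega) (by omega)
            · skip
              rcases Nat.lt_or_ge i 858000 with h7 | h7
              · skip
                exact allRangeF_sound _ _ (checkFactF_eq cert) 857000 1000 chkF_857000 i (by omega) (by omega)
              · skip
                exact allRangeF_sound _ _ (checkFactF_eq cert) 858000 1000 chkF_858000 i (by omega) (by omega)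
        · skip
          rcases Nat.lt_or_ge i 862000 with h5 | h5
          · skip
            rcases Nat.lt_or_ge i 860000 with h6 | h6
            · skip
              exact allRangeF_sound _ _ (checkFactF_eq cert) 859000 1000 chkF_859000 i (by omega) (by omega)
            · skip
              rcases Nat.lt_or_ge i 861000 with h7 | h7
              · skip
                exact allRangeF_sound _ _ (checkFactF_eq cert) 860000 1000 chkF_860000 i (by omega) (by omega)
              · skip
                exact allRangeF_sound _ _ (checkFactF_eq cert) 861000 1000 chkF_861000 i (by omega) (by omega)
          · skip
            rcases Nat.lt_or_ge i 864000 with h6 | h6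
            · skip
              rcases Nat.lt_or_ge i 863000 with h7 | h7
              · skip
                exact allRangeF_sound _ _ (checkFactF_eq cert) 862000 1000 chkF_862000 i (by omega) (by omega)
              · skip
                exact allRangeF_sound _ _ (checkFactF_eq cert) 863000 1000 chkF_863000 i (by omega) (by omega)
            · skip
              rcases Nat.lt_or_ge i 865000 with h7 | h7
              · skip
                exact allRangeF_sound _ _ (checkFactF_eq cert) 864000 1000 chkF_864000 i (by omega) (by omega)
              · skip
                exact allRangeF_sound _ _ (checkFactF_eq cert) 865000 1000 chkF_865000 i (by omega) (by omega)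
    · skip
      rcases Nat.lt_or_ge i 878000 with h3 | h3
      · skip
        rcases Nat.lt_or_ge i 872000 with h4 | h4
        · skip
          rcases Nat.lt_or_ge i 869000 with h5 | h5
          · skip
            rcases Nat.lt_or_ge i 867000 with h6 | h6
            · skip
              exact allRangeF_sound _ _ (checkFactF_eq cert) 866000 1000 chkF_866000 i (by omega) (by omega)
            · skip
              rcases Nat.lt_or_ge i 868000 with h7 | h7
              · skip
                exact allRangeF_sound _ _ (checkFactF_eq cert) 867000 1000 chkF_867000 i (by omega) (by omega)
              · skip
                exact allRangeF_sound _ _ (checkFactF_eq cert) 868000 1000 chkF_868000 i (by omega) (by omega)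
          · skip
            rcases Nat.lt_or_ge i 870000 with h6 | h6
            · skip
              exact allRangeF_sound _ _ (checkFactF_eq cert) 869000 1000 chkF_869000 i (by omega) (by omega)
            · skip
              rcases Nat.lt_or_ge i 871000 with h7 | h7
              · skip
                exact allRangeF_sound _ _ (checkFactF_eq cert) 870000 1000 chkF_870000 i (by omega) (by omega)
              · skip
                exact allRangeF_sound _ _ (checkFactF_eq cert) 871000 1000 chkF_871000 i (by omega) (by omega)
        · skip
          rcases Nat.lt_or_ge i 875000 with h5 | h5
          · skip
            rcases Nat.lt_or_ge i 873000 with h6 | h6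
            · skip
              exact allRangeF_sound _ _ (checkFactF_eq cert) 872000 1000 chkF_872000 i (by omega) (by omega)
            · skip
              rcases Nat.lt_or_ge i 874000 with h7 | h7
              · skip
                exact allRangeF_sound _ _ (checkFactF_eq cert) 873000 1000 chkF_873000 i (by omega) (by omega)
              · skip
                exact allRangeF_sound _ _ (checkFactF_eq cert) 874000 1000 chkF_874000 i (by omega) (by omega)
          · skip
            rcases Nat.lt_or_ge i 876000 with h6 | h6
            · skip
              exact allRangeF_sound _ _ (checkFactF_eq cert) 875000 1000 chkF_875000 i (by omega) (by omega)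
            · skip
              rcases Nat.lt_or_ge i 877000 with h7 | h7
              · skip
                exact allRangeF_sound _ _ (checkFactF_eq cert) 876000 1000 chkF_876000 i (by omega) (by omega)
              · skip
                exact allRangeF_sound _ _ (checkFactF_eq cert) 877000 1000 chkF_877000 i (by omega) (by omega)
      · skip
        rcases Nat.lt_or_ge i 884000 with h4 | h4
        · skip
          rcases Nat.lt_or_ge i 881000 with h5 | h5
          · skip
            rcases Nat.lt_or_ge i 879000 with h6 | h6
            · skip
              exact allRangeF_sound _ _ (checkFactF_eq cert) 878000 1000 chkF_878000 i (by omega) (by omega)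
            · skip
              rcases Nat.lt_or_ge i 880000 with h7 | h7
              · skip
                exact allRangeF_sound _ _ (checkFactF_eq cert) 879000 1000 chkF_879000 i (by omega) (by omega)
              · skip
                exact allRangeF_sound _ _ (checkFactF_eq cert) 880000 1000 chkF_880000 i (by omega) (by omega)
          · skip
            rcases Nat.lt_or_ge i 882000 with h6 | h6
            · skip
              exact allRangeF_sound _ _ (checkFactF_eq cert) 881000 1000 chkF_881000 i (by omega) (by omega)
            · skip
              rcases Nat.lt_or_ge i 883000 with h7 | h7
              · skip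
                exact allRangeF_sound _ _ (checkFactF_eq cert) 882000 1000 chkF_882000 i (by omega) (by omega)
              · skip
                exact allRangeF_sound _ _ (checkFactF_eq cert) 883000 1000 chkF_883000 i (by omega) (by omega)
        · skip
          rcases Nat.lt_or_ge i 887000 with h5 | h5
          · skip
            rcases Nat.lt_or_ge i 885000 with h6 | h6
            · skip
              exact allRangeF_sound _ _ (checkFactF_eq cert) 884000 1000 chkF_884000 i (by omega) (by omega)
            · skip
              rcases Nat.lt_or_ge i 886000 with h7 | h7
              · skip
                exact allRangeF_sound _ _ (checkFactF_eq cert) 885000 1000 chkF_885000 i (by omega) (by omega)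
              · skip
                exact allRangeF_sound _ _ (checkFactF_eq cert) 886000 1000 chkF_886000 i (by omega) (by omega)
          · skip
            rcases Nat.lt_or_ge i 889000 with h6 | h6
            · skip
              rcases Nat.lt_or_ge i 888000 with h7 | h7
              · skip
                exact allRangeF_sound _ _ (checkFactF_eq cert) 887000 1000 chkF_887000 i (by omega) (by omega)
              · skip
                exact allRangeF_sound _ _ (checkFactF_eq cert) 888000 1000 chkF_888000 i (by omega) (by omega)
            · skip
              rcases Nat.lt_or_ge i 890000 with h7 | h7
              · skip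
                exact allRangeF_sound _ _ (checkFactF_eq cert) 889000 1000 chkF_889000 i (by omega) (by omega)
              · skip
                exact allRangeF_sound _ _ (checkFactF_eq cert) 890000 1000 chkF_890000 i (by omega) (by omega)

end Cfsg.Agent.Lib.Helper28.Fi24Data
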