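import Cfsg.Agent.Lib.Helper28.Fi24Data
import Cfsg.Agent.Lib.Helper28.TCFastFB

set_option autoImplicit false
set_option maxRecDepth 1000000
set_option linter.all false
set_option Elab.async false

namespace Cfsg.Agent.Lib.Helper28.Fi24Data

open Cfsg.Agent.Lib.Helper28B

theorem chkF_891000 : allRangeF (checkFactF cert) (nat_lit 891000) (nat_lit 1000) = true := by decide +kernel
theorem chkF_892000 : allRangeF (checkFactF cert) (nat_lit 892000) (nat_lit 1000) = true := by decide +kernel
theorem chkF_893000 : allRangeF (checkFactF cert) (nat_lit 893000) (nat_lit 1000) = true := by decide +kernel
theorem chkF_894000 : allRangeF (checkFactF cert) (nat_lit 894000) (nat_lit 1000) = true := by decide +kernel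
theorem chkF_895000 : allRangeF (checkFactF cert) (nat_lit 895000) (nat_lit 1000) = true := by decide +kernel
theorem chkF_896000 : allRangeF (checkFactF cert) (nat_lit 896000) (nat_lit 1000) = true := by decide +kernel
theorem chkF_897000 : allRangeF (checkFactF cert) (nat_lit 897000) (nat_lit 1000) = true := by decide +kernel
theorem chkF_898000 : allRangeF (checkFactF cert) (nat_lit 898000) (nat_lit 1000) = true := by decide +kernel
theorem chkF_899000 : allRangeF (checkFactF cert) (nat_lit 899000) (nat_lit 1000) = true := by decide +kernel
theorem chkF_900000 : allRangeF (checkFactF cert) (nat_lit 900000) (nat_lit 1000) = true := by decide +kernel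
theorem chkF_901000 : allRangeF (checkFactF cert) (nat_lit 901000) (nat_lit 1000) = true := by decide +kernel
theorem chkF_902000 : allRangeF (checkFactF cert) (nat_lit 902000) (nat_lit 1000) = true := by decide +kernel
theorem chkF_903000 : allRangeF (checkFactF cert) (nat_lit 903000) (nat_lit 1000) = true := by decide +kernel
theorem chkF_904000 : allRangeF (checkFactF cert) (nat_lit 904000) (nat_lit 1000) = true := by decide +kernel
theorem chkF_905000 : allRangeF (checkFactF cert) (nat_lit 905000) (nat_lit 1000) = true := by decide +kernel
theorem chkF_906000 : allRangeF (checkFactF cert) (nat_lit 906000) (nat_lit 1000) = true := by decide +kernel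
theorem chkF_907000 : allRangeF (checkFactF cert) (nat_lit 907000) (nat_lit 1000) = true := by decide +kernel
theorem chkF_908000 : allRangeF (checkFactF cert) (nat_lit 908000) (nat_lit 1000) = true := by decide +kernel
theorem chkF_909000 : allRangeF (checkFactF cert) (nat_lit 909000) (nat_lit 1000) = true := by decide +kernel
theorem chkF_910000 : allRangeF (checkFactF cert) (nat_lit 910000) (nat_lit 1000) = true := by decide +kernel
theorem chkF_911000 : allRangeF (checkFactF cert) (nat_lit 911000) (nat_lit 1000) = true := by decide +kernel
theorem chkF_912000 : allRangeF (checkFactF cert) (nat_lit 912000) (nat_lit 1000) = true := by decide +kernel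
theorem chkF_913000 : allRangeF (checkFactF cert) (nat_lit 913000) (nat_lit 1000) = true := by decide +kernel
theorem chkF_914000 : allRangeF (checkFactF cert) (nat_lit 914000) (nat_lit 1000) = true := by decide +kernel
theorem chkF_915000 : allRangeF (checkFactF cert) (nat_lit 915000) (nat_lit 1000) = true := by decide +kernel
theorem chkF_916000 : allRangeF (checkFactF cert) (nat_lit 916000) (nat_lit 1000) = true := by decide +kernel
theorem chkF_917000 : allRangeF (checkFactF cert) (nat_lit 917000) (nat_lit 1000) = true := by decide +kernel
theorem chkF_918000 : allRangeF (checkFactF cert) (nat_lit 918000) (nat_lit 1000) = true := by decide +kernel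
theorem chkF_919000 : allRangeF (checkFactF cert) (nat_lit 919000) (nat_lit 1000) = true := by decide +kernel
theorem chkF_920000 : allRangeF (checkFactF cert) (nat_lit 920000) (nat_lit 1000) = true := by decide +kernel
theorem chkF_921000 : allRangeF (checkFactF cert) (nat_lit 921000) (nat_lit 1000) = true := by decide +kernel
theorem chkF_922000 : allRangeF (checkFactF cert) (nat_lit 922000) (nat_lit 1000) = true := by decide +kernel
theorem chkF_923000 : allRangeF (checkFactF cert) (nat_lit 923000) (nat_lit 1000) = true := by decide +kernel
theorem chkF_924000 : allRangeF (checkFactF cert) (nat_lit 924000) (nat_lit 1000) = true := by decide +kernel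
theorem chkF_925000 : allRangeF (checkFactF cert) (nat_lit 925000) (nat_lit 1000) = true := by decide +kernel
theorem chkF_926000 : allRangeF (checkFactF cert) (nat_lit 926000) (nat_lit 1000) = true := by decide +kernel
theorem chkF_927000 : allRangeF (checkFactF cert) (nat_lit 927000) (nat_lit 1000) = true := by decide +kernel
theorem chkF_928000 : allRangeF (checkFactF cert) (nat_lit 928000) (nat_lit 1000) = true := by decide +kernel
theorem chkF_929000 : allRangeF (checkFactF cert) (nat_lit 929000) (nat_lit 1000) = true := by decide +kernel
theorem chkF_930000 : allRangeF (checkFactF cert) (nat_lit 930000) (nat_lit 1000) = true := by decide +kernel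
theorem chkF_931000 : allRangeF (checkFactF cert) (nat_lit 931000) (nat_lit 1000) = true := by decide +kernel
theorem chkF_932000 : allRangeF (checkFactF cert) (nat_lit 932000) (nat_lit 1000) = true := by decide +kernel
theorem chkF_933000 : allRangeF (checkFactF cert) (nat_lit 933000) (nat_lit 1000) = true := by decide +kernel
theorem chkF_934000 : allRangeF (checkFactF cert) (nat_lit 934000) (nat_lit 1000) = true := by decide +kernel
theorem chkF_935000 : allRangeF (checkFactF cert) (nat_lit 935000) (nat_lit 1000) = true := by decide +kernel
theorem chkF_936000 : allRangeF (checkFactF cert) (nat_lit 936000) (nat_lit 1000) = true := by decide +kernel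
theorem chkF_937000 : allRangeF (checkFactF cert) (nat_lit 937000) (nat_lit 1000) = true := by decide +kernel
theorem chkF_938000 : allRangeF (checkFactF cert) (nat_lit 938000) (nat_lit 1000) = true := by decide +kernel
theorem chkF_939000 : allRangeF (checkFactF cert) (nat_lit 939000) (nat_lit 1000) = true := by decide +kernel
theorem chkF_940000 : allRangeF (checkFactF cert) (nat_lit 940000) (nat_lit 1000) = true := by decide +kernel
theorem chkF_941000 : allRangeF (checkFactF cert) (nat_lit 941000) (nat_lit 1000) = true := by decide +kernel
theorem chkF_942000 : allRangeF (checkFactF cert) (nat_lit 942000) (nat_lit 1000) = true := by decide +kernel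
theorem chkF_943000 : allRangeF (checkFactF cert) (nat_lit 943000) (nat_lit 1000) = true := by decide +kernel
theorem chkF_944000 : allRangeF (checkFactF cert) (nat_lit 944000) (nat_lit 1000) = true := by decide +kernel
theorem chkF_945000 : allRangeF (checkFactF cert) (nat_lit 945000) (nat_lit 1000) = true := by decide +kernel
theorem chkF_946000 : allRangeF (checkFactF cert) (nat_lit 946000) (nat_lit 1000) = true := by decide +kernel
theorem chkF_947000 : allRangeF (checkFactF cert) (nat_lit 947000) (nat_lit 1000) = true := by decide +kernel
theorem chkF_948000 : allRangeF (checkFactF cert) (nat_lit 948000) (nat_lit 1000) = true := by decide +kernel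
theorem chkF_949000 : allRangeF (checkFactF cert) (nat_lit 949000) (nat_lit 1000) = true := by decide +kernel
theorem chkF_950000 : allRangeF (checkFactF cert) (nat_lit 950000) (nat_lit 1000) = true := by decide +kernel
theorem chkF_951000 : allRangeF (checkFactF cert) (nat_lit 951000) (nat_lit 1000) = true := by decide +kernel
theorem chkF_952000 : allRangeF (checkFactF cert) (nat_lit 952000) (nat_lit 1000) = true := by decide +kernel
theorem chkF_953000 : allRangeF (checkFactF cert) (nat_lit 953000) (nat_lit 1000) = true := by decide +kernel
theorem chkF_954000 : allRangeF (checkFactF cert) (nat_lit 954000) (nat_lit 1000) = true := by decide +kernel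
theorem chkF_955000 : allRangeF (checkFactF cert) (nat_lit 955000) (nat_lit 1000) = true := by decide +kernel
theorem chkF_956000 : allRangeF (checkFactF cert) (nat_lit 956000) (nat_lit 1000) = true := by decide +kernel
theorem chkF_957000 : allRangeF (checkFactF cert) (nat_lit 957000) (nat_lit 1000) = true := by decide +kernel
theorem chkF_958000 : allRangeF (checkFactF cert) (nat_lit 958000) (nat_lit 1000) = true := by decide +kernel
theorem chkF_959000 : allRangeF (checkFactF cert) (nat_lit 959000) (nat_lit 1000) = true := by decide +kernel
theorem chkF_960000 : allRangeF (checkFactF cert) (nat_lit 960000) (nat_lit 1000) = true := by decide +kernel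
theorem chkF_961000 : allRangeF (checkFactF cert) (nat_lit 961000) (nat_lit 1000) = true := by decide +kernel
theorem chkF_962000 : allRangeF (checkFactF cert) (nat_lit 962000) (nat_lit 1000) = true := by decide +kernel
theorem chkF_963000 : allRangeF (checkFactF cert) (nat_lit 963000) (nat_lit 1000) = true := by decide +kernel
theorem chkF_964000 : allRangeF (checkFactF cert) (nat_lit 964000) (nat_lit 1000) = true := by decide +kernel
theorem chkF_965000 : allRangeF (checkFactF cert) (nat_lit 965000) (nat_lit 1000) = true := by decide +kernel
theorem chkF_966000 : allRangeF (checkFactF cert) (nat_lit 966000) (nat_lit 1000) = true := by decide +kernel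
theorem chkF_967000 : allRangeF (checkFactF cert) (nat_lit 967000) (nat_lit 1000) = true := by decide +kernel
theorem chkF_968000 : allRangeF (checkFactF cert) (nat_lit 968000) (nat_lit 1000) = true := by decide +kernel
theorem chkF_969000 : allRangeF (checkFactF cert) (nat_lit 969000) (nat_lit 1000) = true := by decide +kernel
theorem chkF_970000 : allRangeF (checkFactF cert) (nat_lit 970000) (nat_lit 1000) = true := by decide +kernel
theorem chkF_971000 : allRangeF (checkFactF cert) (nat_lit 971000) (nat_lit 1000) = true := by decide +kernel
theorem chkF_972000 : allRangeF (checkFactF cert) (nat_lit 972000) (nat_lit 1000) = true := by decide +kernel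
theorem chkF_973000 : allRangeF (checkFactF cert) (nat_lit 973000) (nat_lit 1000) = true := by decide +kernel
theorem chkF_974000 : allRangeF (checkFactF cert) (nat_lit 974000) (nat_lit 1000) = true := by decide +kernel
theorem chkF_975000 : allRangeF (checkFactF cert) (nat_lit 975000) (nat_lit 1000) = true := by decide +kernel
theorem chkF_976000 : allRangeF (checkFactF cert) (nat_lit 976000) (nat_lit 1000) = true := by decide +kernel
theorem chkF_977000 : allRangeF (checkFactF cert) (nat_lit 977000) (nat_lit 1000) = true := by decide +kernel
theorem chkF_978000 : allRangeF (checkFactF cert) (nat_lit 978000) (nat_lit 1000) = true := by decide +kernel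
theorem chkF_979000 : allRangeF (checkFactF cert) (nat_lit 979000) (nat_lit 1000) = true := by decide +kernel
theorem chkF_980000 : allRangeF (checkFactF cert) (nat_lit 980000) (nat_lit 1000) = true := by decide +kernel
theorem chkF_981000 : allRangeF (checkFactF cert) (nat_lit 981000) (nat_lit 1000) = true := by decide +kernel
theorem chkF_982000 : allRangeF (checkFactF cert) (nat_lit 982000) (nat_lit 1000) = true := by decide +kernel
theorem chkF_983000 : allRangeF (checkFactF cert) (nat_lit 983000) (nat_lit 1000) = true := by decide +kernel
theorem chkF_984000 : allRangeF (checkFactF cert) (nat_lit 984000) (nat_lit 1000) = true := by decide +kernel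
theorem chkF_985000 : allRangeF (checkFactF cert) (nat_lit 985000) (nat_lit 1000) = true := by decide +kernel
theorem chkF_986000 : allRangeF (checkFactF cert) (nat_lit 986000) (nat_lit 1000) = true := by decide +kernel
theorem chkF_987000 : allRangeF (checkFactF cert) (nat_lit 987000) (nat_lit 1000) = true := by decide +kernel
theorem chkF_988000 : allRangeF (checkFactF cert) (nat_lit 988000) (nat_lit 1000) = true := by decide +kernel
theorem chkF_989000 : allRangeF (checkFactF cert) (nat_lit 989000) (nat_lit 1000) = true := by decide +kernel

theorem factsRange_9 : ∀ i, 891000 ≤ i → i < 990000 → checkFact cert i = true := by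
  intro i hlo hhi
  rcases Nat.lt_or_ge i 940000 with h1 | h1
  · skip
    rcases Nat.lt_or_ge i 915000 with h2 | h2
    · skip
      rcases Nat.lt_or_ge i 903000 with h3 | h3
      · skip
        rcases Nat.lt_or_ge i 897000 with h4 | h4
        · skip
          rcases Nat.lt_or_ge i 894000 with h5 | h5
          · skip
            rcases Nat.lt_or_ge i 892000 with h6 | h6
            · skip
              exact allRangeF_sound _ _ (checkFactF_eq cert) 891000 1000 chkF_891000 i (by omega) (by omega)
            · skip
              rcases Nat.lt_or_ge i 893000 with h7 | h7
              · skip
                exact allRangeF_sound _ _ (checkFactF_eq cert) 892000 1000 chkF_892000 i (by omega) (by omega)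
              · skip
                exact allRangeF_sound _ _ (checkFactF_eq cert) 893000 1000 chkF_893000 i (by omega) (by omega)
          · skip
            rcases Nat.lt_or_ge i 895000 with h6 | h6
            · skip
              exact allRangeF_sound _ _ (checkFactF_eq cert) 894000 1000 chkF_894000 i (by omega) (by omega)
            · skip
              rcases Nat.lt_or_ge i 896000 with h7 | h7
              · skip
                exact allRangeF_sound _ _ (checkFactF_eq cert) 895000 1000 chkF_895000 i (by omega) (by omega)
              · skip
                exact allRangeF_sound _ _ (checkFactF_eq cert) 896000 1000 chkF_896000 i (by omega) (by omega)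
        · skip
          rcases Nat.lt_or_ge i 900000 with h5 | h5
          · skip
            rcases Nat.lt_or_ge i 898000 with h6 | h6
            · skip
              exact allRangeF_sound _ _ (checkFactF_eq cert) 897000 1000 chkF_897000 i (by omega) (by omega)
            · skip
              rcases Nat.lt_or_ge i 899000 with h7 | h7
              · skip
                exact allRangeF_sound _ _ (checkFactF_eq cert) 898000 1000 chkF_898000 i (by omega) (by omega)
              · skip
                exact allRangeF_sound _ _ (checkFactF_eq cert) 899000 1000 chkF_899000 i (by omega) (by omega)
          · skip
            rcases Nat.lt_or_ge i 901000 with h6 | h6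
            · skip
              exact allRangeF_sound _ _ (checkFactF_eq cert) 900000 1000 chkF_900000 i (by omega) (by omega)
            · skip
              rcases Nat.lt_or_ge i 902000 with h7 | h7
              · skip
                exact allRangeF_sound _ _ (checkFactF_eq cert) 901000 1000 chkF_901000 i (by omega) (by omega)
              · skip
                exact allRangeF_sound _ _ (checkFactF_eq cert) 902000 1000 chkF_902000 i (by omega) (by omega)
      · skip
        rcases Nat.lt_or_ge i 909000 with h4 | h4
        · skip
          rcases Nat.lt_or_ge i 906000 with h5 | h5
          · skip
            rcases Nat.lt_or_ge i 904000 with h6 | h6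
            · skip
              exact allRangeF_sound _ _ (checkFactF_eq cert) 903000 1000 chkF_903000 i (by omega) (by omega)
            · skip
              rcases Nat.lt_or_ge i 905000 with h7 | h7
              · skip
                exact allRangeF_sound _ _ (checkFactF_eq cert) 904000 1000 chkF_904000 i (by omega) (by omega)
              · skip
                exact allRangeF_sound _ _ (checkFactF_eq cert) 905000 1000 chkF_905000 i (by omega) (by omega)
          · skip
            rcases Nat.lt_or_ge i 907000 with h6 | h6
            · skip
              exact allRangeF_sound _ _ (checkFactF_eq cert) 906000 1000 chkF_906000 i (by omega) (by omega)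
            · skip
              rcases Nat.lt_or_ge i 908000 with h7 | h7
              · skip
                exact allRangeF_sound _ _ (checkFactF_eq cert) 907000 1000 chkF_907000 i (by omega) (by omega)
              · skip
                exact allRangeF_sound _ _ (checkFactF_eq cert) 908000 1000 chkF_908000 i (by omega) (by omega)
        · skip
          rcases Nat.lt_or_ge i 912000 with h5 | h5
          · skip
            rcases Nat.lt_or_ge i 910000 with h6 | h6
            · skip
              exact allRangeF_sound _ _ (checkFactF_eq cert) 909000 1000 chkF_909000 i (by omega) (by omega)
            · skip
              rcases Nat.lt_or_ge i 911000 with h7 | h7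
              · skip
                exact allRangeF_sound _ _ (checkFactF_eq cert) 910000 1000 chkF_910000 i (by omega) (by omega)
              · skip
                exact allRangeF_sound _ _ (checkFactF_eq cert) 911000 1000 chkF_911000 i (by omega) (by omega)
          · skip
            rcases Nat.lt_or_ge i 913000 with h6 | h6
            · skip
              exact allRangeF_sound _ _ (checkFactF_eq cert) 912000 1000 chkF_912000 i (by omega) (by omega)
            · skip
              rcases Nat.lt_or_ge i 914000 with h7 | h7
              · skip
                exact allRangeF_sound _ _ (checkFactF_eq cert) 913000 1000 chkF_913000 i (by omega) (by omega)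
              · skip
                exact allRangeF_sound _ _ (checkFactF_eq cert) 914000 1000 chkF_914000 i (by omega) (by omega)
    · skip
      rcases Nat.lt_or_ge i 927000 with h3 | h3
      · skip
        rcases Nat.lt_or_ge i 921000 with h4 | h4
        · skip
          rcases Nat.lt_or_ge i 918000 with h5 | h5
          · skip
            rcases Nat.lt_or_ge i 916000 with h6 | h6
            · skip
              exact allRangeF_sound _ _ (checkFactF_eq cert) 915000 1000 chkF_915000 i (by omega) (by omega)
            · skip
              rcases Nat.lt_or_ge i 917000 with h7 | h7
              · skip
                exact allRangeF_sound _ _ (checkFactF_eq cert) 916000 1000 chkF_916000 i (by omega) (by omega)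
              · skip
                exact allRangeF_sound _ _ (checkFactF_eq cert) 917000 1000 chkF_917000 i (by omega) (by omega)
          · skip
            rcases Nat.lt_or_ge i 919000 with h6 | h6
            · skip
              exact allRangeF_sound _ _ (checkFactF_eq cert) 918000 1000 chkF_918000 i (by omega) (by omega)
            · skip
              rcases Nat.lt_or_ge i 920000 with h7 | h7
              · skip
                exact allRangeF_sound _ _ (checkFactF_eq cert) 919000 1000 chkF_919000 i (by omega) (by omega)
              · skip
                exact allRangeF_sound _ _ (checkFactF_eq cert) 920000 1000 chkF_920000 i (by omega) (by omega)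
        · skip
          rcases Nat.lt_or_ge i 924000 with h5 | h5
          · skip
            rcases Nat.lt_or_ge i 922000 with h6 | h6
            · skip
              exact allRangeF_sound _ _ (checkFactF_eq cert) 921000 1000 chkF_921000 i (by omega) (by omega)
            · skip
              rcases Nat.lt_or_ge i 923000 with h7 | h7
              · skip
                exact allRangeF_sound _ _ (checkFactF_eq cert) 922000 1000 chkF_922000 i (by omega) (by omega)
              · skip
                exact allRangeF_sound _ _ (checkFactF_eq cert) 923000 1000 chkF_923000 i (by omega) (by omega)
          · skip
            rcases Nat.lt_or_ge i 925000 with h6 | h6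
            · skip
              exact allRangeF_sound _ _ (checkFactF_eq cert) 924000 1000 chkF_924000 i (by omega) (by omega)
            · skip
              rcases Nat.lt_or_ge i 926000 with h7 | h7
              · skip
                exact allRangeF_sound _ _ (checkFactF_eq cert) 925000 1000 chkF_925000 i (by omega) (by omega)
              · skip
                exact allRangeF_sound _ _ (checkFactF_eq cert) 926000 1000 chkF_926000 i (by omega) (by omega)
      · skip
        rcases Nat.lt_or_ge i 933000 with h4 | h4
        · skip
          rcases Nat.lt_or_ge i 930000 with h5 | h5
          · skip
            rcases Nat.lt_or_ge i 928000 with h6 | h6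
            · skip
              exact allRangeF_sound _ _ (checkFactF_eq cert) 927000 1000 chkF_927000 i (by omega) (by omega)
            · skip
              rcases Nat.lt_or_ge i 929000 with h7 | h7
              · skip
                exact allRangeF_sound _ _ (checkFactF_eq cert) 928000 1000 chkF_928000 i (by omega) (by omega)
              · skip
                exact allRangeF_sound _ _ (checkFactF_eq cert) 929000 1000 chkF_929000 i (by omega) (by omega)
          · skip
            rcases Nat.lt_or_ge i 931000 with h6 | h6
            · skip
              exact allRangeF_sound _ _ (checkFactF_eq cert) 930000 1000 chkF_930000 i (by omega) (by omega)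
            · skip
              rcases Nat.lt_or_ge i 932000 with h7 | h7
              · skip
                exact allRangeF_sound _ _ (checkFactF_eq cert) 931000 1000 chkF_931000 i (by omega) (by omega)
              · skip
                exact allRangeF_sound _ _ (checkFactF_eq cert) 932000 1000 chkF_932000 i (by omega) (by omega)
        · skip
          rcases Nat.lt_or_ge i 936000 with h5 | h5
          · skip
            rcases Nat.lt_or_ge i 934000 with h6 | h6
            · skip
              exact allRangeF_sound _ _ (checkFactF_eq cert) 933000 1000 chkF_933000 i (by omega) (by omega)
            · skip
              rcases Nat.lt_or_ge i 935000 with h7 | h7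
              · skip
                exact allRangeF_sound _ _ (checkFactF_eq cert) 934000 1000 chkF_934000 i (by omega) (by omega)
              · skip
                exact allRangeF_sound _ _ (checkFactF_eq cert) 935000 1000 chkF_935000 i (by omega) (by omega)
          · skip
            rcases Nat.lt_or_ge i 938000 with h6 | h6
            · skip
              rcases Nat.lt_or_ge i 937000 with h7 | h7
              · skip
                exact allRangeF_sound _ _ (checkFactF_eq cert) 936000 1000 chkF_936000 i (by omega) (by omega)
              · skip
                exact allRangeF_sound _ _ (checkFactF_eq cert) 937000 1000 chkF_937000 i (by omega) (by omega)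
            · skip
              rcases Nat.lt_or_ge i 939000 with h7 | h7
              · skip
                exact allRangeF_sound _ _ (checkFactF_eq cert) 938000 1000 chkF_938000 i (by omega) (by omega)
              · skip
                exact allRangeF_sound _ _ (checkFactF_eq cert) 939000 1000 chkF_939000 i (by omega) (by omega)
  · skip
    rcases Nat.lt_or_ge i 965000 with h2 | h2
    · skip
      rcases Nat.lt_or_ge i 952000 with h3 | h3
      · skip
        rcases Nat.lt_or_ge i 946000 with h4 | h4
        · skip
          rcases Nat.lt_or_ge i 943000 with h5 | h5
          · skip
            rcases Nat.lt_or_ge i 941000 with h6 | h6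
            · skip
              exact allRangeF_sound _ _ (checkFactF_eq cert) 940000 1000 chkF_940000 i (by omega) (by omega)
            · skip
              rcases Nat.lt_or_ge i 942000 with h7 | h7
              · skip
                exact allRangeF_sound _ _ (checkFactF_eq cert) 941000 1000 chkF_941000 i (by omega) (by omega)
              · skip
                exact allRangeF_sound _ _ (checkFactF_eq cert) 942000 1000 chkF_942000 i (by omega) (by omega)
          · skip
            rcases Nat.lt_or_ge i 944000 with h6 | h6
            · skip
              exact allRangeF_sound _ _ (checkFactF_eq cert) 943000 1000 chkF_943000 i (by omega) (by omega)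
            · skip
              rcases Nat.lt_or_ge i 945000 with h7 | h7
              · skip
                exact allRangeF_sound _ _ (checkFactF_eq cert) 944000 1000 chkF_944000 i (by omega) (by omega)
              · skip
                exact allRangeF_sound _ _ (checkFactF_eq cert) 945000 1000 chkF_945000 i (by omega) (by omega)
        · skip
          rcases Nat.lt_or_ge i 949000 with h5 | h5
          · skip
            rcases Nat.lt_or_ge i 947000 with h6 | h6
            · skip
              exact allRangeF_sound _ _ (checkFactF_eq cert) 946000 1000 chkF_946000 i (by omega) (by omega)
            · skip
              rcases Nat.lt_or_ge i 948000 with h7 | h7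
              · skip
                exact allRangeF_sound _ _ (checkFactF_eq cert) 947000 1000 chkF_947000 i (by omega) (by omega)
              · skip
                exact allRangeF_sound _ _ (checkFactF_eq cert) 948000 1000 chkF_948000 i (by omega) (by omega)
          · skip
            rcases Nat.lt_or_ge i 950000 with h6 | h6
            · skip
              exact allRangeF_sound _ _ (checkFactF_eq cert) 949000 1000 chkF_949000 i (by omega) (by omega)
            · skip
              rcases Nat.lt_or_ge i 951000 with h7 | h7
              · skip
                exact allRangeF_sound _ _ (checkFactF_eq cert) 950000 1000 chkF_950000 i (by omega) (by omega)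
              · skip
                exact allRangeF_sound _ _ (checkFactF_eq cert) 951000 1000 chkF_951000 i (by omega) (by omega)
      · skip
        rcases Nat.lt_or_ge i 958000 with h4 | h4
        · skip
          rcases Nat.lt_or_ge i 955000 with h5 | h5
          · skip
            rcases Nat.lt_or_ge i 953000 with h6 | h6
            · skip
              exact allRangeF_sound _ _ (checkFactF_eq cert) 952000 1000 chkF_952000 i (by omega) (by omega)
            · skip
              rcases Nat.lt_or_ge i 954000 with h7 | h7
              · skip
                exact allRangeF_sound _ _ (checkFactF_eq cert) 953000 1000 chkF_953000 i (by omega) (by omega)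
              · skip
                exact allRangeF_sound _ _ (checkFactF_eq cert) 954000 1000 chkF_954000 i (by omega) (by omega)
          · skip
            rcases Nat.lt_or_ge i 956000 with h6 | h6
            · skip
              exact allRangeF_sound _ _ (checkFactF_eq cert) 955000 1000 chkF_955000 i (by omega) (by omega)
            · skip
              rcases Nat.lt_or_ge i 957000 with h7 | h7
              · skip
                exact allRangeF_sound _ _ (checkFactF_eq cert) 956000 1000 chkF_956000 i (by omega) (by omega)
              · skip
                exact allRangeF_sound _ _ (checkFactF_eq cert) 957000 1000 chkF_957000 i (by omega) (by omega)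
        · skip
          rcases Nat.lt_or_ge i 961000 with h5 | h5
          · skip
            rcases Nat.lt_or_ge i 959000 with h6 | h6
            · skip
              exact allRangeF_sound _ _ (checkFactF_eq cert) 958000 1000 chkF_958000 i (by omega) (by omega)
            · skip
              rcases Nat.lt_or_ge i 960000 with h7 | h7
              · skip
                exact allRangeF_sound _ _ (checkFactF_eq cert) 959000 1000 chkF_959000 i (by omega) (by omega)
              · skip
                exact allRangeF_sound _ _ (checkFactF_eq cert) 960000 1000 chkF_960000 i (by omega) (by omega)
          · skip
            rcases Nat.lt_or_ge i 963000 with h6 | h6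
            · skip
              rcases Nat.lt_or_ge i 962000 with h7 | h7
              · skip
                exact allRangeF_sound _ _ (checkFactF_eq cert) 961000 1000 chkF_961000 i (by omega) (by omega)
              · skip
                exact allRangeF_sound _ _ (checkFactF_eq cert) 962000 1000 chkF_962000 i (by omega) (by omega)
            · skip
              rcases Nat.lt_or_ge i 964000 with h7 | h7
              · skip
                exact allRangeF_sound _ _ (checkFactF_eq cert) 963000 1000 chkF_963000 i (by omega) (by omega)
              · skip
                exact allRangeF_sound _ _ (checkFactF_eq cert) 964000 1000 chkF_964000 i (by omega) (by omega)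
    · skip
      rcases Nat.lt_or_ge i 977000 with h3 | h3
      · skip
        rcases Nat.lt_or_ge i 971000 with h4 | h4
        · skip
          rcases Nat.lt_or_ge i 968000 with h5 | h5
          · skip
            rcases Nat.lt_or_ge i 966000 with h6 | h6
            · skip
              exact allRangeF_sound _ _ (checkFactF_eq cert) 965000 1000 chkF_965000 i (by omega) (by omega)
            · skip
              rcases Nat.lt_or_ge i 967000 with h7 | h7
              · skip
                exact allRangeF_sound _ _ (checkFactF_eq cert) 966000 1000 chkF_966000 i (by omega) (by omega)
              · skip
                exact allRangeF_sound _ _ (checkFactF_eq cert) 967000 1000 chkF_967000 i (by omega) (by omega)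
          · skip
            rcases Nat.lt_or_ge i 969000 with h6 | h6
            · skip
              exact allRangeF_sound _ _ (checkFactF_eq cert) 968000 1000 chkF_968000 i (by omega) (by omega)
            · skip
              rcases Nat.lt_or_ge i 970000 with h7 | h7
              · skip
                exact allRangeF_sound _ _ (checkFactF_eq cert) 969000 1000 chkF_969000 i (by omega) (by omega)
              · skip
                exact allRangeF_sound _ _ (checkFactF_eq cert) 970000 1000 chkF_970000 i (by omega) (by omega)
        · skip
          rcases Nat.lt_or_ge i 974000 with h5 | h5
          · skip
            rcases Nat.lt_or_ge i 972000 with h6 | h6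
            · skip
              exact allRangeF_sound _ _ (checkFactF_eq cert) 971000 1000 chkF_971000 i (by omega) (by omega)
            · skip
              rcases Nat.lt_or_ge i 973000 with h7 | h7
              · skip
                exact allRangeF_sound _ _ (checkFactF_eq cert) 972000 1000 chkF_972000 i (by omega) (by omega)
              · skip
                exact allRangeF_sound _ _ (checkFactF_eq cert) 973000 1000 chkF_973000 i (by omega) (by omega)
          · skip
            rcases Nat.lt_or_ge i 975000 with h6 | h6
            · skip
              exact allRangeF_sound _ _ (checkFactF_eq cert) 974000 1000 chkF_974000 i (by omega) (by omega)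
            · skip
              rcases Nat.lt_or_ge i 976000 with h7 | h7
              · skip
                exact allRangeF_sound _ _ (checkFactF_eq cert) 975000 1000 chkF_975000 i (by omega) (by omega)
              · skip
                exact allRangeF_sound _ _ (checkFactF_eq cert) 976000 1000 chkF_976000 i (by omega) (by omega)
      · skip
        rcases Nat.lt_or_ge i 983000 with h4 | h4
        · skip
          rcases Nat.lt_or_ge i 980000 with h5 | h5
          · skip
            rcases Nat.lt_or_ge i 978000 with h6 | h6
            · skip
              exact allRangeF_sound _ _ (checkFactF_eq cert) 977000 1000 chkF_977000 i (by omega) (by omega)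
            · skip
              rcases Nat.lt_or_ge i 979000 with h7 | h7
              · skip
                exact allRangeF_sound _ _ (checkFactF_eq cert) 978000 1000 chkF_978000 i (by omega) (by omega)
              · skip
                exact allRangeF_sound _ _ (checkFactF_eq cert) 979000 1000 chkF_979000 i (by omega) (by omega)
          · skip
            rcases Nat.lt_or_ge i 981000 with h6 | h6
            · skip
              exact allRangeF_sound _ _ (checkFactF_eq cert) 980000 1000 chkF_980000 i (by omega) (by omega)
            · skip
              rcases Nat.lt_or_ge i 982000 with h7 | h7
              · skip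
                exact allRangeF_sound _ _ (checkFactF_eq cert) 981000 1000 chkF_981000 i (by omega) (by omega)
              · skip
                exact allRangeF_sound _ _ (checkFactF_eq cert) 982000 1000 chkF_982000 i (by omega) (by omega)
        · skip
          rcases Nat.lt_or_ge i 986000 with h5 | h5
          · skip
            rcases Nat.lt_or_ge i 984000 with h6 | h6
            · skip
              exact allRangeF_sound _ _ (checkFactF_eq cert) 983000 1000 chkF_983000 i (by omega) (by omega)
            · skip
              rcases Nat.lt_or_ge i 985000 with h7 | h7
              · skip
                exact allRangeF_sound _ _ (checkFactF_eq cert) 984000 1000 chkF_984000 i (by omega) (by omega)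
              · skip
                exact allRangeF_sound _ _ (checkFactF_eq cert) 985000 1000 chkF_985000 i (by omega) (by omega)
          · skip
            rcases Nat.lt_or_ge i 988000 with h6 | h6
            · skip
              rcases Nat.lt_or_ge i 987000 with h7 | h7
              · skip
                exact allRangeF_sound _ _ (checkFactF_eq cert) 986000 1000 chkF_986000 i (by omega) (by omega)
              · skip
                exact allRangeF_sound _ _ (checkFactF_eq cert) 987000 1000 chkF_987000 i (by omega) (by omega)
            · skip
              rcases Nat.lt_or_ge i 989000 with h7 | h7
              · skip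
                exact allRangeF_sound _ _ (checkFactF_eq cert) 988000 1000 chkF_988000 i (by omega) (by omega)
              · skip
                exact allRangeF_sound _ _ (checkFactF_eq cert) 989000 1000 chkF_989000 i (by omega) (by omega)

end Cfsg.Agent.Lib.Helper28.Fi24Data
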