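import Cfsg.Agent.Lib.Helper28.Fi24Data
import Cfsg.Agent.Lib.Helper28.TCFastB

set_option autoImplicit false
set_option maxRecDepth 1000000
set_option linter.all false
set_option Elab.async false

namespace Cfsg.Agent.Lib.Helper28.Fi24Data

open Cfsg.Agent.Lib.Helper28B

theorem chkP_7675 : allRangeF (checkPointF cert) (nat_lit 7675) (nat_lit 25) = true := by decide +kernel
theorem chkP_7700 : allRangeF (checkPointF cert) (nat_lit 7700) (nat_lit 25) = true := by decide +kernel
theorem chkP_7725 : allRangeF (checkPointF cert) (nat_lit 7725) (nat_lit 25) = true := by decide +kernel
theorem chkP_7750 : allRangeF (checkPointF cert) (nat_lit 7750) (nat_lit 25) = true := by decide +kernel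
theorem chkP_7775 : allRangeF (checkPointF cert) (nat_lit 7775) (nat_lit 25) = true := by decide +kernel
theorem chkP_7800 : allRangeF (checkPointF cert) (nat_lit 7800) (nat_lit 25) = true := by decide +kernel
theorem chkP_7825 : allRangeF (checkPointF cert) (nat_lit 7825) (nat_lit 25) = true := by decide +kernel
theorem chkP_7850 : allRangeF (checkPointF cert) (nat_lit 7850) (nat_lit 25) = true := by decide +kernel
theorem chkP_7875 : allRangeF (checkPointF cert) (nat_lit 7875) (nat_lit 25) = true := by decide +kernel
theorem chkP_7900 : allRangeF (checkPointF cert) (nat_lit 7900) (nat_lit 25) = true := by decide +kernel
theorem chkP_7925 : allRangeF (checkPointF cert) (nat_lit 7925) (nat_lit 25) = true := by decide +kernel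
theorem chkP_7950 : allRangeF (checkPointF cert) (nat_lit 7950) (nat_lit 25) = true := by decide +kernel
theorem chkP_7975 : allRangeF (checkPointF cert) (nat_lit 7975) (nat_lit 25) = true := by decide +kernel
theorem chkP_8000 : allRangeF (checkPointF cert) (nat_lit 8000) (nat_lit 25) = true := by decide +kernel
theorem chkP_8025 : allRangeF (checkPointF cert) (nat_lit 8025) (nat_lit 25) = true := by decide +kernel
theorem chkP_8050 : allRangeF (checkPointF cert) (nat_lit 8050) (nat_lit 25) = true := by decide +kernel
theorem chkP_8075 : allRangeF (checkPointF cert) (nat_lit 8075) (nat_lit 25) = true := by decide +kernel
theorem chkP_8100 : allRangeF (checkPointF cert) (nat_lit 8100) (nat_lit 25) = true := by decide +kernel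
theorem chkP_8125 : allRangeF (checkPointF cert) (nat_lit 8125) (nat_lit 25) = true := by decide +kernel
theorem chkP_8150 : allRangeF (checkPointF cert) (nat_lit 8150) (nat_lit 25) = true := by decide +kernel
theorem chkP_8175 : allRangeF (checkPointF cert) (nat_lit 8175) (nat_lit 25) = true := by decide +kernel
theorem chkP_8200 : allRangeF (checkPointF cert) (nat_lit 8200) (nat_lit 25) = true := by decide +kernel
theorem chkP_8225 : allRangeF (checkPointF cert) (nat_lit 8225) (nat_lit 25) = true := by decide +kernel
theorem chkP_8250 : allRangeF (checkPointF cert) (nat_lit 8250) (nat_lit 25) = true := by decide +kernel
theorem chkP_8275 : allRangeF (checkPointF cert) (nat_lit 8275) (nat_lit 25) = true := by decide +kernel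
theorem chkP_8300 : allRangeF (checkPointF cert) (nat_lit 8300) (nat_lit 25) = true := by decide +kernel
theorem chkP_8325 : allRangeF (checkPointF cert) (nat_lit 8325) (nat_lit 25) = true := by decide +kernel
theorem chkP_8350 : allRangeF (checkPointF cert) (nat_lit 8350) (nat_lit 25) = true := by decide +kernel
theorem chkP_8375 : allRangeF (checkPointF cert) (nat_lit 8375) (nat_lit 25) = true := by decide +kernel
theorem chkP_8400 : allRangeF (checkPointF cert) (nat_lit 8400) (nat_lit 25) = true := by decide +kernel
theorem chkP_8425 : allRangeF (checkPointF cert) (nat_lit 8425) (nat_lit 25) = true := by decide +kernel
theorem chkP_8450 : allRangeF (checkPointF cert) (nat_lit 8450) (nat_lit 25) = true := by decide +kernel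
theorem chkP_8475 : allRangeF (checkPointF cert) (nat_lit 8475) (nat_lit 25) = true := by decide +kernel
theorem chkP_8500 : allRangeF (checkPointF cert) (nat_lit 8500) (nat_lit 25) = true := by decide +kernel
theorem chkP_8525 : allRangeF (checkPointF cert) (nat_lit 8525) (nat_lit 25) = true := by decide +kernel
theorem chkP_8550 : allRangeF (checkPointF cert) (nat_lit 8550) (nat_lit 25) = true := by decide +kernel
theorem chkP_8575 : allRangeF (checkPointF cert) (nat_lit 8575) (nat_lit 25) = true := by decide +kernel
theorem chkP_8600 : allRangeF (checkPointF cert) (nat_lit 8600) (nat_lit 25) = true := by decide +kernel
theorem chkP_8625 : allRangeF (checkPointF cert) (nat_lit 8625) (nat_lit 25) = true := by decide +kernel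
theorem chkP_8650 : allRangeF (checkPointF cert) (nat_lit 8650) (nat_lit 25) = true := by decide +kernel
theorem chkP_8675 : allRangeF (checkPointF cert) (nat_lit 8675) (nat_lit 25) = true := by decide +kernel
theorem chkP_8700 : allRangeF (checkPointF cert) (nat_lit 8700) (nat_lit 25) = true := by decide +kernel
theorem chkP_8725 : allRangeF (checkPointF cert) (nat_lit 8725) (nat_lit 25) = true := by decide +kernel
theorem chkP_8750 : allRangeF (checkPointF cert) (nat_lit 8750) (nat_lit 25) = true := by decide +kernel
theorem chkP_8775 : allRangeF (checkPointF cert) (nat_lit 8775) (nat_lit 25) = true := by decide +kernel
theorem chkP_8800 : allRangeF (checkPointF cert) (nat_lit 8800) (nat_lit 25) = true := by decide +kernel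
theorem chkP_8825 : allRangeF (checkPointF cert) (nat_lit 8825) (nat_lit 25) = true := by decide +kernel
theorem chkP_8850 : allRangeF (checkPointF cert) (nat_lit 8850) (nat_lit 25) = true := by decide +kernel
theorem chkP_8875 : allRangeF (checkPointF cert) (nat_lit 8875) (nat_lit 25) = true := by decide +kernel
theorem chkP_8900 : allRangeF (checkPointF cert) (nat_lit 8900) (nat_lit 25) = true := by decide +kernel
theorem chkP_8925 : allRangeF (checkPointF cert) (nat_lit 8925) (nat_lit 25) = true := by decide +kernel
theorem chkP_8950 : allRangeF (checkPointF cert) (nat_lit 8950) (nat_lit 25) = true := by decide +kernel
theorem chkP_8975 : allRangeF (checkPointF cert) (nat_lit 8975) (nat_lit 25) = true := by decide +kernel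
theorem chkP_9000 : allRangeF (checkPointF cert) (nat_lit 9000) (nat_lit 25) = true := by decide +kernel
theorem chkP_9025 : allRangeF (checkPointF cert) (nat_lit 9025) (nat_lit 25) = true := by decide +kernel
theorem chkP_9050 : allRangeF (checkPointF cert) (nat_lit 9050) (nat_lit 25) = true := by decide +kernel
theorem chkP_9075 : allRangeF (checkPointF cert) (nat_lit 9075) (nat_lit 25) = true := by decide +kernel
theorem chkP_9100 : allRangeF (checkPointF cert) (nat_lit 9100) (nat_lit 25) = true := by decide +kernel
theorem chkP_9125 : allRangeF (checkPointF cert) (nat_lit 9125) (nat_lit 25) = true := by decide +kernel
theorem chkP_9150 : allRangeF (checkPointF cert) (nat_lit 9150) (nat_lit 25) = true := by decide +kernel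
theorem chkP_9175 : allRangeF (checkPointF cert) (nat_lit 9175) (nat_lit 25) = true := by decide +kernel
theorem chkP_9200 : allRangeF (checkPointF cert) (nat_lit 9200) (nat_lit 25) = true := by decide +kernel
theorem chkP_9225 : allRangeF (checkPointF cert) (nat_lit 9225) (nat_lit 25) = true := by decide +kernel
theorem chkP_9250 : allRangeF (checkPointF cert) (nat_lit 9250) (nat_lit 25) = true := by decide +kernel
theorem chkP_9275 : allRangeF (checkPointF cert) (nat_lit 9275) (nat_lit 25) = true := by decide +kernel
theorem chkP_9300 : allRangeF (checkPointF cert) (nat_lit 9300) (nat_lit 25) = true := by decide +kernel
theorem chkP_9325 : allRangeF (checkPointF cert) (nat_lit 9325) (nat_lit 25) = true := by decide +kernel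
theorem chkP_9350 : allRangeF (checkPointF cert) (nat_lit 9350) (nat_lit 25) = true := by decide +kernel
theorem chkP_9375 : allRangeF (checkPointF cert) (nat_lit 9375) (nat_lit 25) = true := by decide +kernel
theorem chkP_9400 : allRangeF (checkPointF cert) (nat_lit 9400) (nat_lit 25) = true := by decide +kernel
theorem chkP_9425 : allRangeF (checkPointF cert) (nat_lit 9425) (nat_lit 25) = true := by decide +kernel
theorem chkP_9450 : allRangeF (checkPointF cert) (nat_lit 9450) (nat_lit 25) = true := by decide +kernel
theorem chkP_9475 : allRangeF (checkPointF cert) (nat_lit 9475) (nat_lit 25) = true := by decide +kernel
theorem chkP_9500 : allRangeF (checkPointF cert) (nat_lit 9500) (nat_lit 25) = true := by decide +kernel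
theorem chkP_9525 : allRangeF (checkPointF cert) (nat_lit 9525) (nat_lit 25) = true := by decide +kernel
theorem chkP_9550 : allRangeF (checkPointF cert) (nat_lit 9550) (nat_lit 25) = true := by decide +kernel
theorem chkP_9575 : allRangeF (checkPointF cert) (nat_lit 9575) (nat_lit 25) = true := by decide +kernel
theorem chkP_9600 : allRangeF (checkPointF cert) (nat_lit 9600) (nat_lit 25) = true := by decide +kernel
theorem chkP_9625 : allRangeF (checkPointF cert) (nat_lit 9625) (nat_lit 25) = true := by decide +kernel
theorem chkP_9650 : allRangeF (checkPointF cert) (nat_lit 9650) (nat_lit 25) = true := by decide +kernel
theorem chkP_9675 : allRangeF (checkPointF cert) (nat_lit 9675) (nat_lit 25) = true := by decide +kernel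
theorem chkP_9700 : allRangeF (checkPointF cert) (nat_lit 9700) (nat_lit 25) = true := by decide +kernel
theorem chkP_9725 : allRangeF (checkPointF cert) (nat_lit 9725) (nat_lit 25) = true := by decide +kernel
theorem chkP_9750 : allRangeF (checkPointF cert) (nat_lit 9750) (nat_lit 25) = true := by decide +kernel
theorem chkP_9775 : allRangeF (checkPointF cert) (nat_lit 9775) (nat_lit 25) = true := by decide +kernel
theorem chkP_9800 : allRangeF (checkPointF cert) (nat_lit 9800) (nat_lit 25) = true := by decide +kernel
theorem chkP_9825 : allRangeF (checkPointF cert) (nat_lit 9825) (nat_lit 25) = true := by decide +kernel
theorem chkP_9850 : allRangeF (checkPointF cert) (nat_lit 9850) (nat_lit 25) = true := by decide +kernel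
theorem chkP_9875 : allRangeF (checkPointF cert) (nat_lit 9875) (nat_lit 25) = true := by decide +kernel
theorem chkP_9900 : allRangeF (checkPointF cert) (nat_lit 9900) (nat_lit 25) = true := by decide +kernel
theorem chkP_9925 : allRangeF (checkPointF cert) (nat_lit 9925) (nat_lit 25) = true := by decide +kernel
theorem chkP_9950 : allRangeF (checkPointF cert) (nat_lit 9950) (nat_lit 25) = true := by decide +kernel
theorem chkP_9975 : allRangeF (checkPointF cert) (nat_lit 9975) (nat_lit 25) = true := by decide +kernel
theorem chkP_10000 : allRangeF (checkPointF cert) (nat_lit 10000) (nat_lit 25) = true := by decide +kernel
theorem chkP_10025 : allRangeF (checkPointF cert) (nat_lit 10025) (nat_lit 25) = true := by decide +kernel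
theorem chkP_10050 : allRangeF (checkPointF cert) (nat_lit 10050) (nat_lit 25) = true := by decide +kernel
theorem chkP_10075 : allRangeF (checkPointF cert) (nat_lit 10075) (nat_lit 25) = true := by decide +kernel
theorem chkP_10100 : allRangeF (checkPointF cert) (nat_lit 10100) (nat_lit 25) = true := by decide +kernel
theorem chkP_10125 : allRangeF (checkPointF cert) (nat_lit 10125) (nat_lit 25) = true := by decide +kernel
theorem chkP_10150 : allRangeF (checkPointF cert) (nat_lit 10150) (nat_lit 25) = true := by decide +kernel
theorem chkP_10175 : allRangeF (checkPointF cert) (nat_lit 10175) (nat_lit 25) = true := by decide +kernel
theorem chkP_10200 : allRangeF (checkPointF cert) (nat_lit 10200) (nat_lit 25) = true := by decide +kernel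
theorem chkP_10225 : allRangeF (checkPointF cert) (nat_lit 10225) (nat_lit 25) = true := by decide +kernel
theorem chkP_10250 : allRangeF (checkPointF cert) (nat_lit 10250) (nat_lit 25) = true := by decide +kernel
theorem chkP_10275 : allRangeF (checkPointF cert) (nat_lit 10275) (nat_lit 25) = true := by decide +kernel
theorem chkP_10300 : allRangeF (checkPointF cert) (nat_lit 10300) (nat_lit 25) = true := by decide +kernel
theorem chkP_10325 : allRangeF (checkPointF cert) (nat_lit 10325) (nat_lit 25) = true := by decide +kernel
theorem chkP_10350 : allRangeF (checkPointF cert) (nat_lit 10350) (nat_lit 25) = true := by decide +kernel
theorem chkP_10375 : allRangeF (checkPointF cert) (nat_lit 10375) (nat_lit 25) = true := by decide +kernel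
theorem chkP_10400 : allRangeF (checkPointF cert) (nat_lit 10400) (nat_lit 25) = true := by decide +kernel
theorem chkP_10425 : allRangeF (checkPointF cert) (nat_lit 10425) (nat_lit 25) = true := by decide +kernel
theorem chkP_10450 : allRangeF (checkPointF cert) (nat_lit 10450) (nat_lit 25) = true := by decide +kernel
theorem chkP_10475 : allRangeF (checkPointF cert) (nat_lit 10475) (nat_lit 25) = true := by decide +kernel
theorem chkP_10500 : allRangeF (checkPointF cert) (nat_lit 10500) (nat_lit 25) = true := by decide +kernel
theorem chkP_10525 : allRangeF (checkPointF cert) (nat_lit 10525) (nat_lit 25) = true := by decide +kernel
theorem chkP_10550 : allRangeF (checkPointF cert) (nat_lit 10550) (nat_lit 25) = true := by decide +kernel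
theorem chkP_10575 : allRangeF (checkPointF cert) (nat_lit 10575) (nat_lit 25) = true := by decide +kernel
theorem chkP_10600 : allRangeF (checkPointF cert) (nat_lit 10600) (nat_lit 25) = true := by decide +kernel
theorem chkP_10625 : allRangeF (checkPointF cert) (nat_lit 10625) (nat_lit 25) = true := by decide +kernel
theorem chkP_10650 : allRangeF (checkPointF cert) (nat_lit 10650) (nat_lit 25) = true := by decide +kernel
theorem chkP_10675 : allRangeF (checkPointF cert) (nat_lit 10675) (nat_lit 25) = true := by decide +kernel
theorem chkP_10700 : allRangeF (checkPointF cert) (nat_lit 10700) (nat_lit 25) = true := by decide +kernel
theorem chkP_10725 : allRangeF (checkPointF cert) (nat_lit 10725) (nat_lit 25) = true := by decide +kernel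
theorem chkP_10750 : allRangeF (checkPointF cert) (nat_lit 10750) (nat_lit 25) = true := by decide +kernel
theorem chkP_10775 : allRangeF (checkPointF cert) (nat_lit 10775) (nat_lit 25) = true := by decide +kernel
theorem chkP_10800 : allRangeF (checkPointF cert) (nat_lit 10800) (nat_lit 25) = true := by decide +kernel
theorem chkP_10825 : allRangeF (checkPointF cert) (nat_lit 10825) (nat_lit 25) = true := by decide +kernel
theorem chkP_10850 : allRangeF (checkPointF cert) (nat_lit 10850) (nat_lit 25) = true := by decide +kernel
theorem chkP_10875 : allRangeF (checkPointF cert) (nat_lit 10875) (nat_lit 25) = true := by decide +kernel
theorem chkP_10900 : allRangeF (checkPointF cert) (nat_lit 10900) (nat_lit 25) = true := by decide +kernel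
theorem chkP_10925 : allRangeF (checkPointF cert) (nat_lit 10925) (nat_lit 25) = true := by decide +kernel
theorem chkP_10950 : allRangeF (checkPointF cert) (nat_lit 10950) (nat_lit 25) = true := by decide +kernel
theorem chkP_10975 : allRangeF (checkPointF cert) (nat_lit 10975) (nat_lit 25) = true := by decide +kernel
theorem chkP_11000 : allRangeF (checkPointF cert) (nat_lit 11000) (nat_lit 25) = true := by decide +kernel
theorem chkP_11025 : allRangeF (checkPointF cert) (nat_lit 11025) (nat_lit 25) = true := by decide +kernel
theorem chkP_11050 : allRangeF (checkPointF cert) (nat_lit 11050) (nat_lit 25) = true := by decide +kernel
theorem chkP_11075 : allRangeF (checkPointF cert) (nat_lit 11075) (nat_lit 25) = true := by decide +kernel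
theorem chkP_11100 : allRangeF (checkPointF cert) (nat_lit 11100) (nat_lit 25) = true := by decide +kernel
theorem chkP_11125 : allRangeF (checkPointF cert) (nat_lit 11125) (nat_lit 25) = true := by decide +kernel
theorem chkP_11150 : allRangeF (checkPointF cert) (nat_lit 11150) (nat_lit 25) = true := by decide +kernel
theorem chkP_11175 : allRangeF (checkPointF cert) (nat_lit 11175) (nat_lit 25) = true := by decide +kernel
theorem chkP_11200 : allRangeF (checkPointF cert) (nat_lit 11200) (nat_lit 25) = true := by decide +kernel
theorem chkP_11225 : allRangeF (checkPointF cert) (nat_lit 11225) (nat_lit 25) = true := by decide +kernel
theorem chkP_11250 : allRangeF (checkPointF cert) (nat_lit 11250) (nat_lit 25) = true := by decide +kernel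
theorem chkP_11275 : allRangeF (checkPointF cert) (nat_lit 11275) (nat_lit 25) = true := by decide +kernel
theorem chkP_11300 : allRangeF (checkPointF cert) (nat_lit 11300) (nat_lit 25) = true := by decide +kernel
theorem chkP_11325 : allRangeF (checkPointF cert) (nat_lit 11325) (nat_lit 25) = true := by decide +kernel
theorem chkP_11350 : allRangeF (checkPointF cert) (nat_lit 11350) (nat_lit 25) = true := by decide +kernel
theorem chkP_11375 : allRangeF (checkPointF cert) (nat_lit 11375) (nat_lit 25) = true := by decide +kernel
theorem chkP_11400 : allRangeF (checkPointF cert) (nat_lit 11400) (nat_lit 25) = true := by decide +kernel
theorem chkP_11425 : allRangeF (checkPointF cert) (nat_lit 11425) (nat_lit 25) = true := by decide +kernel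
theorem chkP_11450 : allRangeF (checkPointF cert) (nat_lit 11450) (nat_lit 25) = true := by decide +kernel
theorem chkP_11475 : allRangeF (checkPointF cert) (nat_lit 11475) (nat_lit 25) = true := by decide +kernel
theorem chkP_11500 : allRangeF (checkPointF cert) (nat_lit 11500) (nat_lit 25) = true := by decide +kernel
theorem chkP_11525 : allRangeF (checkPointF cert) (nat_lit 11525) (nat_lit 25) = true := by decide +kernel
theorem chkP_11550 : allRangeF (checkPointF cert) (nat_lit 11550) (nat_lit 25) = true := by decide +kernel
theorem chkP_11575 : allRangeF (checkPointF cert) (nat_lit 11575) (nat_lit 25) = true := by decide +kernel
theorem chkP_11600 : allRangeF (checkPointF cert) (nat_lit 11600) (nat_lit 25) = true := by decide +kernel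
theorem chkP_11625 : allRangeF (checkPointF cert) (nat_lit 11625) (nat_lit 25) = true := by decide +kernel
theorem chkP_11650 : allRangeF (checkPointF cert) (nat_lit 11650) (nat_lit 25) = true := by decide +kernel
theorem chkP_11675 : allRangeF (checkPointF cert) (nat_lit 11675) (nat_lit 25) = true := by decide +kernel
theorem chkP_11700 : allRangeF (checkPointF cert) (nat_lit 11700) (nat_lit 25) = true := by decide +kernel
theorem chkP_11725 : allRangeF (checkPointF cert) (nat_lit 11725) (nat_lit 25) = true := by decide +kernel
theorem chkP_11750 : allRangeF (checkPointF cert) (nat_lit 11750) (nat_lit 25) = true := by decide +kernel
theorem chkP_11775 : allRangeF (checkPointF cert) (nat_lit 11775) (nat_lit 25) = true := by decide +kernel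
theorem chkP_11800 : allRangeF (checkPointF cert) (nat_lit 11800) (nat_lit 25) = true := by decide +kernel
theorem chkP_11825 : allRangeF (checkPointF cert) (nat_lit 11825) (nat_lit 25) = true := by decide +kernel
theorem chkP_11850 : allRangeF (checkPointF cert) (nat_lit 11850) (nat_lit 25) = true := by decide +kernel
theorem chkP_11875 : allRangeF (checkPointF cert) (nat_lit 11875) (nat_lit 25) = true := by decide +kernel
theorem chkP_11900 : allRangeF (checkPointF cert) (nat_lit 11900) (nat_lit 25) = true := by decide +kernel
theorem chkP_11925 : allRangeF (checkPointF cert) (nat_lit 11925) (nat_lit 25) = true := by decide +kernel
theorem chkP_11950 : allRangeF (checkPointF cert) (nat_lit 11950) (nat_lit 25) = true := by decide +kernel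
theorem chkP_11975 : allRangeF (checkPointF cert) (nat_lit 11975) (nat_lit 25) = true := by decide +kernel
theorem chkP_12000 : allRangeF (checkPointF cert) (nat_lit 12000) (nat_lit 25) = true := by decide +kernel
theorem chkP_12025 : allRangeF (checkPointF cert) (nat_lit 12025) (nat_lit 25) = true := by decide +kernel
theorem chkP_12050 : allRangeF (checkPointF cert) (nat_lit 12050) (nat_lit 25) = true := by decide +kernel
theorem chkP_12075 : allRangeF (checkPointF cert) (nat_lit 12075) (nat_lit 25) = true := by decide +kernel
theorem chkP_12100 : allRangeF (checkPointF cert) (nat_lit 12100) (nat_lit 25) = true := by decide +kernel
theorem chkP_12125 : allRangeF (checkPointF cert) (nat_lit 12125) (nat_lit 25) = true := by decide +kernel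
theorem chkP_12150 : allRangeF (checkPointF cert) (nat_lit 12150) (nat_lit 25) = true := by decide +kernel
theorem chkP_12175 : allRangeF (checkPointF cert) (nat_lit 12175) (nat_lit 25) = true := by decide +kernel
theorem chkP_12200 : allRangeF (checkPointF cert) (nat_lit 12200) (nat_lit 25) = true := by decide +kernel
theorem chkP_12225 : allRangeF (checkPointF cert) (nat_lit 12225) (nat_lit 25) = true := by decide +kernel
theorem chkP_12250 : allRangeF (checkPointF cert) (nat_lit 12250) (nat_lit 25) = true := by decide +kernel
theorem chkP_12275 : allRangeF (checkPointF cert) (nat_lit 12275) (nat_lit 25) = true := by decide +kernel
theorem chkP_12300 : allRangeF (checkPointF cert) (nat_lit 12300) (nat_lit 25) = true := by decide +kernel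
theorem chkP_12325 : allRangeF (checkPointF cert) (nat_lit 12325) (nat_lit 25) = true := by decide +kernel
theorem chkP_12350 : allRangeF (checkPointF cert) (nat_lit 12350) (nat_lit 25) = true := by decide +kernel
theorem chkP_12375 : allRangeF (checkPointF cert) (nat_lit 12375) (nat_lit 25) = true := by decide +kernel
theorem chkP_12400 : allRangeF (checkPointF cert) (nat_lit 12400) (nat_lit 25) = true := by decide +kernel
theorem chkP_12425 : allRangeF (checkPointF cert) (nat_lit 12425) (nat_lit 25) = true := by decide +kernel
theorem chkP_12450 : allRangeF (checkPointF cert) (nat_lit 12450) (nat_lit 25) = true := by decide +kernel
theorem chkP_12475 : allRangeF (checkPointF cert) (nat_lit 12475) (nat_lit 25) = true := by decide +kernel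
theorem chkP_12500 : allRangeF (checkPointF cert) (nat_lit 12500) (nat_lit 25) = true := by decide +kernel
theorem chkP_12525 : allRangeF (checkPointF cert) (nat_lit 12525) (nat_lit 25) = true := by decide +kernel
theorem chkP_12550 : allRangeF (checkPointF cert) (nat_lit 12550) (nat_lit 25) = true := by decide +kernel
theorem chkP_12575 : allRangeF (checkPointF cert) (nat_lit 12575) (nat_lit 25) = true := by decide +kernel
theorem chkP_12600 : allRangeF (checkPointF cert) (nat_lit 12600) (nat_lit 25) = true := by decide +kernel
theorem chkP_12625 : allRangeF (checkPointF cert) (nat_lit 12625) (nat_lit 25) = true := by decide +kernel
theorem chkP_12650 : allRangeF (checkPointF cert) (nat_lit 12650) (nat_lit 25) = true := by decide +kernel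
theorem chkP_12675 : allRangeF (checkPointF cert) (nat_lit 12675) (nat_lit 25) = true := by decide +kernel
theorem chkP_12700 : allRangeF (checkPointF cert) (nat_lit 12700) (nat_lit 25) = true := by decide +kernel
theorem chkP_12725 : allRangeF (checkPointF cert) (nat_lit 12725) (nat_lit 25) = true := by decide +kernel
theorem chkP_12750 : allRangeF (checkPointF cert) (nat_lit 12750) (nat_lit 25) = true := by decide +kernel
theorem chkP_12775 : allRangeF (checkPointF cert) (nat_lit 12775) (nat_lit 25) = true := by decide +kernel
theorem chkP_12800 : allRangeF (checkPointF cert) (nat_lit 12800) (nat_lit 25) = true := by decide +kernel
theorem chkP_12825 : allRangeF (checkPointF cert) (nat_lit 12825) (nat_lit 25) = true := by decide +kernel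
theorem chkP_12850 : allRangeF (checkPointF cert) (nat_lit 12850) (nat_lit 25) = true := by decide +kernel
theorem chkP_12875 : allRangeF (checkPointF cert) (nat_lit 12875) (nat_lit 25) = true := by decide +kernel
theorem chkP_12900 : allRangeF (checkPointF cert) (nat_lit 12900) (nat_lit 25) = true := by decide +kernel
theorem chkP_12925 : allRangeF (checkPointF cert) (nat_lit 12925) (nat_lit 25) = true := by decide +kernel
theorem chkP_12950 : allRangeF (checkPointF cert) (nat_lit 12950) (nat_lit 25) = true := by decide +kernel
theorem chkP_12975 : allRangeF (checkPointF cert) (nat_lit 12975) (nat_lit 25) = true := by decide +kernel
theorem chkP_13000 : allRangeF (checkPointF cert) (nat_lit 13000) (nat_lit 25) = true := by decide +kernel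
theorem chkP_13025 : allRangeF (checkPointF cert) (nat_lit 13025) (nat_lit 25) = true := by decide +kernel
theorem chkP_13050 : allRangeF (checkPointF cert) (nat_lit 13050) (nat_lit 25) = true := by decide +kernel
theorem chkP_13075 : allRangeF (checkPointF cert) (nat_lit 13075) (nat_lit 25) = true := by decide +kernel
theorem chkP_13100 : allRangeF (checkPointF cert) (nat_lit 13100) (nat_lit 25) = true := by decide +kernel
theorem chkP_13125 : allRangeF (checkPointF cert) (nat_lit 13125) (nat_lit 25) = true := by decide +kernel
theorem chkP_13150 : allRangeF (checkPointF cert) (nat_lit 13150) (nat_lit 25) = true := by decide +kernel
theorem chkP_13175 : allRangeF (checkPointF cert) (nat_lit 13175) (nat_lit 25) = true := by decide +kernel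
theorem chkP_13200 : allRangeF (checkPointF cert) (nat_lit 13200) (nat_lit 25) = true := by decide +kernel
theorem chkP_13225 : allRangeF (checkPointF cert) (nat_lit 13225) (nat_lit 25) = true := by decide +kernel
theorem chkP_13250 : allRangeF (checkPointF cert) (nat_lit 13250) (nat_lit 25) = true := by decide +kernel
theorem chkP_13275 : allRangeF (checkPointF cert) (nat_lit 13275) (nat_lit 25) = true := by decide +kernel
theorem chkP_13300 : allRangeF (checkPointF cert) (nat_lit 13300) (nat_lit 25) = true := by decide +kernel
theorem chkP_13325 : allRangeF (checkPointF cert) (nat_lit 13325) (nat_lit 25) = true := by decide +kernel
theorem chkP_13350 : allRangeF (checkPointF cert) (nat_lit 13350) (nat_lit 25) = true := by decide +kernel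
theorem chkP_13375 : allRangeF (checkPointF cert) (nat_lit 13375) (nat_lit 25) = true := by decide +kernel
theorem chkP_13400 : allRangeF (checkPointF cert) (nat_lit 13400) (nat_lit 25) = true := by decide +kernel
theorem chkP_13425 : allRangeF (checkPointF cert) (nat_lit 13425) (nat_lit 25) = true := by decide +kernel
theorem chkP_13450 : allRangeF (checkPointF cert) (nat_lit 13450) (nat_lit 25) = true := by decide +kernel
theorem chkP_13475 : allRangeF (checkPointF cert) (nat_lit 13475) (nat_lit 25) = true := by decide +kernel
theorem chkP_13500 : allRangeF (checkPointF cert) (nat_lit 13500) (nat_lit 25) = true := by decide +kernel
theorem chkP_13525 : allRangeF (checkPointF cert) (nat_lit 13525) (nat_lit 25) = true := by decide +kernel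
theorem chkP_13550 : allRangeF (checkPointF cert) (nat_lit 13550) (nat_lit 25) = true := by decide +kernel
theorem chkP_13575 : allRangeF (checkPointF cert) (nat_lit 13575) (nat_lit 25) = true := by decide +kernel
theorem chkP_13600 : allRangeF (checkPointF cert) (nat_lit 13600) (nat_lit 25) = true := by decide +kernel
theorem chkP_13625 : allRangeF (checkPointF cert) (nat_lit 13625) (nat_lit 25) = true := by decide +kernel
theorem chkP_13650 : allRangeF (checkPointF cert) (nat_lit 13650) (nat_lit 25) = true := by decide +kernel
theorem chkP_13675 : allRangeF (checkPointF cert) (nat_lit 13675) (nat_lit 25) = true := by decide +kernel
theorem chkP_13700 : allRangeF (checkPointF cert) (nat_lit 13700) (nat_lit 25) = true := by decide +kernel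
theorem chkP_13725 : allRangeF (checkPointF cert) (nat_lit 13725) (nat_lit 25) = true := by decide +kernel
theorem chkP_13750 : allRangeF (checkPointF cert) (nat_lit 13750) (nat_lit 25) = true := by decide +kernel
theorem chkP_13775 : allRangeF (checkPointF cert) (nat_lit 13775) (nat_lit 25) = true := by decide +kernel
theorem chkP_13800 : allRangeF (checkPointF cert) (nat_lit 13800) (nat_lit 25) = true := by decide +kernel
theorem chkP_13825 : allRangeF (checkPointF cert) (nat_lit 13825) (nat_lit 25) = true := by decide +kernel
theorem chkP_13850 : allRangeF (checkPointF cert) (nat_lit 13850) (nat_lit 25) = true := by decide +kernel
theorem chkP_13875 : allRangeF (checkPointF cert) (nat_lit 13875) (nat_lit 25) = true := by decide +kernel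
theorem chkP_13900 : allRangeF (checkPointF cert) (nat_lit 13900) (nat_lit 25) = true := by decide +kernel
theorem chkP_13925 : allRangeF (checkPointF cert) (nat_lit 13925) (nat_lit 25) = true := by decide +kernel
theorem chkP_13950 : allRangeF (checkPointF cert) (nat_lit 13950) (nat_lit 25) = true := by decide +kernel
theorem chkP_13975 : allRangeF (checkPointF cert) (nat_lit 13975) (nat_lit 25) = true := by decide +kernel
theorem chkP_14000 : allRangeF (checkPointF cert) (nat_lit 14000) (nat_lit 25) = true := by decide +kernel
theorem chkP_14025 : allRangeF (checkPointF cert) (nat_lit 14025) (nat_lit 25) = true := by decide +kernel
theorem chkP_14050 : allRangeF (checkPointF cert) (nat_lit 14050) (nat_lit 25) = true := by decide +kernel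
theorem chkP_14075 : allRangeF (checkPointF cert) (nat_lit 14075) (nat_lit 25) = true := by decide +kernel
theorem chkP_14100 : allRangeF (checkPointF cert) (nat_lit 14100) (nat_lit 25) = true := by decide +kernel
theorem chkP_14125 : allRangeF (checkPointF cert) (nat_lit 14125) (nat_lit 25) = true := by decide +kernel
theorem chkP_14150 : allRangeF (checkPointF cert) (nat_lit 14150) (nat_lit 25) = true := by decide +kernel
theorem chkP_14175 : allRangeF (checkPointF cert) (nat_lit 14175) (nat_lit 25) = true := by decide +kernel
theorem chkP_14200 : allRangeF (checkPointF cert) (nat_lit 14200) (nat_lit 25) = true := by decide +kernel
theorem chkP_14225 : allRangeF (checkPointF cert) (nat_lit 14225) (nat_lit 25) = true := by decide +kernel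
theorem chkP_14250 : allRangeF (checkPointF cert) (nat_lit 14250) (nat_lit 25) = true := by decide +kernel
theorem chkP_14275 : allRangeF (checkPointF cert) (nat_lit 14275) (nat_lit 25) = true := by decide +kernel
theorem chkP_14300 : allRangeF (checkPointF cert) (nat_lit 14300) (nat_lit 25) = true := by decide +kernel
theorem chkP_14325 : allRangeF (checkPointF cert) (nat_lit 14325) (nat_lit 25) = true := by decide +kernel
theorem chkP_14350 : allRangeF (checkPointF cert) (nat_lit 14350) (nat_lit 25) = true := by decide +kernel
theorem chkP_14375 : allRangeF (checkPointF cert) (nat_lit 14375) (nat_lit 25) = true := by decide +kernel
theorem chkP_14400 : allRangeF (checkPointF cert) (nat_lit 14400) (nat_lit 25) = true := by decide +kernel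
theorem chkP_14425 : allRangeF (checkPointF cert) (nat_lit 14425) (nat_lit 25) = true := by decide +kernel
theorem chkP_14450 : allRangeF (checkPointF cert) (nat_lit 14450) (nat_lit 25) = true := by decide +kernel
theorem chkP_14475 : allRangeF (checkPointF cert) (nat_lit 14475) (nat_lit 25) = true := by decide +kernel
theorem chkP_14500 : allRangeF (checkPointF cert) (nat_lit 14500) (nat_lit 25) = true := by decide +kernel
theorem chkP_14525 : allRangeF (checkPointF cert) (nat_lit 14525) (nat_lit 25) = true := by decide +kernel
theorem chkP_14550 : allRangeF (checkPointF cert) (nat_lit 14550) (nat_lit 25) = true := by decide +kernel
theorem chkP_14575 : allRangeF (checkPointF cert) (nat_lit 14575) (nat_lit 25) = true := by decide +kernel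
theorem chkP_14600 : allRangeF (checkPointF cert) (nat_lit 14600) (nat_lit 25) = true := by decide +kernel
theorem chkP_14625 : allRangeF (checkPointF cert) (nat_lit 14625) (nat_lit 25) = true := by decide +kernel
theorem chkP_14650 : allRangeF (checkPointF cert) (nat_lit 14650) (nat_lit 25) = true := by decide +kernel
theorem chkP_14675 : allRangeF (checkPointF cert) (nat_lit 14675) (nat_lit 25) = true := by decide +kernel
theorem chkP_14700 : allRangeF (checkPointF cert) (nat_lit 14700) (nat_lit 25) = true := by decide +kernel
theorem chkP_14725 : allRangeF (checkPointF cert) (nat_lit 14725) (nat_lit 25) = true := by decide +kernel
theorem chkP_14750 : allRangeF (checkPointF cert) (nat_lit 14750) (nat_lit 25) = true := by decide +kernel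
theorem chkP_14775 : allRangeF (checkPointF cert) (nat_lit 14775) (nat_lit 25) = true := by decide +kernel
theorem chkP_14800 : allRangeF (checkPointF cert) (nat_lit 14800) (nat_lit 25) = true := by decide +kernel
theorem chkP_14825 : allRangeF (checkPointF cert) (nat_lit 14825) (nat_lit 25) = true := by decide +kernel
theorem chkP_14850 : allRangeF (checkPointF cert) (nat_lit 14850) (nat_lit 25) = true := by decide +kernel
theorem chkP_14875 : allRangeF (checkPointF cert) (nat_lit 14875) (nat_lit 25) = true := by decide +kernel
theorem chkP_14900 : allRangeF (checkPointF cert) (nat_lit 14900) (nat_lit 25) = true := by decide +kernel
theorem chkP_14925 : allRangeF (checkPointF cert) (nat_lit 14925) (nat_lit 25) = true := by decide +kernel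
theorem chkP_14950 : allRangeF (checkPointF cert) (nat_lit 14950) (nat_lit 25) = true := by decide +kernel
theorem chkP_14975 : allRangeF (checkPointF cert) (nat_lit 14975) (nat_lit 25) = true := by decide +kernel
theorem chkP_15000 : allRangeF (checkPointF cert) (nat_lit 15000) (nat_lit 25) = true := by decide +kernel
theorem chkP_15025 : allRangeF (checkPointF cert) (nat_lit 15025) (nat_lit 25) = true := by decide +kernel
theorem chkP_15050 : allRangeF (checkPointF cert) (nat_lit 15050) (nat_lit 25) = true := by decide +kernel
theorem chkP_15075 : allRangeF (checkPointF cert) (nat_lit 15075) (nat_lit 25) = true := by decide +kernel
theorem chkP_15100 : allRangeF (checkPointF cert) (nat_lit 15100) (nat_lit 25) = true := by decide +kernel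
theorem chkP_15125 : allRangeF (checkPointF cert) (nat_lit 15125) (nat_lit 25) = true := by decide +kernel
theorem chkP_15150 : allRangeF (checkPointF cert) (nat_lit 15150) (nat_lit 25) = true := by decide +kernel
theorem chkP_15175 : allRangeF (checkPointF cert) (nat_lit 15175) (nat_lit 25) = true := by decide +kernel
theorem chkP_15200 : allRangeF (checkPointF cert) (nat_lit 15200) (nat_lit 25) = true := by decide +kernel
theorem chkP_15225 : allRangeF (checkPointF cert) (nat_lit 15225) (nat_lit 25) = true := by decide +kernel
theorem chkP_15250 : allRangeF (checkPointF cert) (nat_lit 15250) (nat_lit 25) = true := by decide +kernel
theorem chkP_15275 : allRangeF (checkPointF cert) (nat_lit 15275) (nat_lit 25) = true := by decide +kernel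
theorem chkP_15300 : allRangeF (checkPointF cert) (nat_lit 15300) (nat_lit 25) = true := by decide +kernel
theorem chkP_15325 : allRangeF (checkPointF cert) (nat_lit 15325) (nat_lit 25) = true := by decide +kernel

theorem ptsRange_1 : ∀ i, 7675 ≤ i → i < 15350 → checkPoint cert i = true := by
  intro i hlo hhi
  rcases Nat.lt_or_ge i 11500 with h1 | h1
  · skip
    rcases Nat.lt_or_ge i 9575 with h2 | h2
    · skip
      rcases Nat.lt_or_ge i 8625 with h3 | h3
      · skip
        rcases Nat.lt_or_ge i 8150 with h4 | h4
        · skip
          rcases Nat.lt_or_ge i 7900 with h5 | h5
          · skip
            rcases Nat.lt_or_ge i 7775 with h6 | h6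
            · skip
              rcases Nat.lt_or_ge i 7725 with h7 | h7
              · skip
                rcases Nat.lt_or_ge i 7700 with h8 | h8
                · skip
                  exact allRangeF_sound _ _ (checkPointF_eq cert) 7675 25 chkP_7675 i (by omega) (by omega)
                · skip
                  exact allRangeF_sound _ _ (checkPointF_eq cert) 7700 25 chkP_7700 i (by omega) (by omega)
              · skip
                rcases Nat.lt_or_ge i 7750 with h8 | h8
                · skip
                  exact allRangeF_sound _ _ (checkPointF_eq cert) 7725 25 chkP_7725 i (by omega) (by omega)
                · skip
                  exact allRangeF_sound _ _ (checkPointF_eq cert) 7750 25 chkP_7750 i (by omega) (by omega)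
            · skip
              rcases Nat.lt_or_ge i 7825 with h7 | h7
              · skip
                rcases Nat.lt_or_ge i 7800 with h8 | h8
                · skip
                  exact allRangeF_sound _ _ (checkPointF_eq cert) 7775 25 chkP_7775 i (by omega) (by omega)
                · skip
                  exact allRangeF_sound _ _ (checkPointF_eq cert) 7800 25 chkP_7800 i (by omega) (by omega)
              · skip
                rcases Nat.lt_or_ge i 7850 with h8 | h8
                · skip
                  exact allRangeF_sound _ _ (checkPointF_eq cert) 7825 25 chkP_7825 i (by omega) (by omega)
                · skip
                  rcases Nat.lt_or_ge i 7875 with h9 | h9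
                  · skip
                    exact allRangeF_sound _ _ (checkPointF_eq cert) 7850 25 chkP_7850 i (by omega) (by omega)
                  · skip
                    exact allRangeF_sound _ _ (checkPointF_eq cert) 7875 25 chkP_7875 i (by omega) (by omega)
          · skip
            rcases Nat.lt_or_ge i 8025 with h6 | h6
            · skip
              rcases Nat.lt_or_ge i 7950 with h7 | h7
              · skip
                rcases Nat.lt_or_ge i 7925 with h8 | h8
                · skip
                  exact allRangeF_sound _ _ (checkPointF_eq cert) 7900 25 chkP_7900 i (by omega) (by omega)
                · skip
                  exact allRangeF_sound _ _ (checkPointF_eq cert) 7925 25 chkP_7925 i (by omega) (by omega)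
              · skip
                rcases Nat.lt_or_ge i 7975 with h8 | h8
                · skip
                  exact allRangeF_sound _ _ (checkPointF_eq cert) 7950 25 chkP_7950 i (by omega) (by omega)
                · skip
                  rcases Nat.lt_or_ge i 8000 with h9 | h9
                  · skip
                    exact allRangeF_sound _ _ (checkPointF_eq cert) 7975 25 chkP_7975 i (by omega) (by omega)
                  · skip
                    exact allRangeF_sound _ _ (checkPointF_eq cert) 8000 25 chkP_8000 i (by omega) (by omega)
            · skip
              rcases Nat.lt_or_ge i 8075 with h7 | h7
              · skip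
                rcases Nat.lt_or_ge i 8050 with h8 | h8
                · skip
                  exact allRangeF_sound _ _ (checkPointF_eq cert) 8025 25 chkP_8025 i (by omega) (by omega)
                · skip
                  exact allRangeF_sound _ _ (checkPointF_eq cert) 8050 25 chkP_8050 i (by omega) (by omega)
              · skip
                rcases Nat.lt_or_ge i 8100 with h8 | h8
                · skip
                  exact allRangeF_sound _ _ (checkPointF_eq cert) 8075 25 chkP_8075 i (by omega) (by omega)
                · skip
                  rcases Nat.lt_or_ge i 8125 with h9 | h9
                  · skip
                    exact allRangeF_sound _ _ (checkPointF_eq cert) 8100 25 chkP_8100 i (by omega) (by omega)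
                  · skip
                    exact allRangeF_sound _ _ (checkPointF_eq cert) 8125 25 chkP_8125 i (by omega) (by omega)
        · skip
          rcases Nat.lt_or_ge i 8375 with h5 | h5
          · skip
            rcases Nat.lt_or_ge i 8250 with h6 | h6
            · skip
              rcases Nat.lt_or_ge i 8200 with h7 | h7
              · skip
                rcases Nat.lt_or_ge i 8175 with h8 | h8
                · skip
                  exact allRangeF_sound _ _ (checkPointF_eq cert) 8150 25 chkP_8150 i (by omega) (by omega)
                · skip
                  exact allRangeF_sound _ _ (checkPointF_eq cert) 8175 25 chkP_8175 i (by omega) (by omega)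
              · skip
                rcases Nat.lt_or_ge i 8225 with h8 | h8
                · skip
                  exact allRangeF_sound _ _ (checkPointF_eq cert) 8200 25 chkP_8200 i (by omega) (by omega)
                · skip
                  exact allRangeF_sound _ _ (checkPointF_eq cert) 8225 25 chkP_8225 i (by omega) (by omega)
            · skip
              rcases Nat.lt_or_ge i 8300 with h7 | h7
              · skip
                rcases Nat.lt_or_ge i 8275 with h8 | h8
                · skip
                  exact allRangeF_sound _ _ (checkPointF_eq cert) 8250 25 chkP_8250 i (by omega) (by omega)
                · skip
                  exact allRangeF_sound _ _ (checkPointF_eq cert) 8275 25 chkP_8275 i (by omega) (by omega)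
              · skip
                rcases Nat.lt_or_ge i 8325 with h8 | h8
                · skip
                  exact allRangeF_sound _ _ (checkPointF_eq cert) 8300 25 chkP_8300 i (by omega) (by omega)
                · skip
                  rcases Nat.lt_or_ge i 8350 with h9 | h9
                  · skip
                    exact allRangeF_sound _ _ (checkPointF_eq cert) 8325 25 chkP_8325 i (by omega) (by omega)
                  · skip
                    exact allRangeF_sound _ _ (checkPointF_eq cert) 8350 25 chkP_8350 i (by omega) (by omega)
          · skip
            rcases Nat.lt_or_ge i 8500 with h6 | h6
            · skip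
              rcases Nat.lt_or_ge i 8425 with h7 | h7
              · skip
                rcases Nat.lt_or_ge i 8400 with h8 | h8
                · skip
                  exact allRangeF_sound _ _ (checkPointF_eq cert) 8375 25 chkP_8375 i (by omega) (by omega)
                · skip
                  exact allRangeF_sound _ _ (checkPointF_eq cert) 8400 25 chkP_8400 i (by omega) (by omega)
              · skip
                rcases Nat.lt_or_ge i 8450 with h8 | h8
                · skip
                  exact allRangeF_sound _ _ (checkPointF_eq cert) 8425 25 chkP_8425 i (by omega) (by omega)
                · skip
                  rcases Nat.lt_or_ge i 8475 with h9 | h9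
                  · skip
                    exact allRangeF_sound _ _ (checkPointF_eq cert) 8450 25 chkP_8450 i (by omega) (by omega)
                  · skip
                    exact allRangeF_sound _ _ (checkPointF_eq cert) 8475 25 chkP_8475 i (by omega) (by omega)
            · skip
              rcases Nat.lt_or_ge i 8550 with h7 | h7
              · skip
                rcases Nat.lt_or_ge i 8525 with h8 | h8
                · skip
                  exact allRangeF_sound _ _ (checkPointF_eq cert) 8500 25 chkP_8500 i (by omega) (by omega)
                · skip
                  exact allRangeF_sound _ _ (checkPointF_eq cert) 8525 25 chkP_8525 i (by omega) (by omega)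
              · skip
                rcases Nat.lt_or_ge i 8575 with h8 | h8
                · skip
                  exact allRangeF_sound _ _ (checkPointF_eq cert) 8550 25 chkP_8550 i (by omega) (by omega)
                · skip
                  rcases Nat.lt_or_ge i 8600 with h9 | h9
                  · skip
                    exact allRangeF_sound _ _ (checkPointF_eq cert) 8575 25 chkP_8575 i (by omega) (by omega)
                  · skip
                    exact allRangeF_sound _ _ (checkPointF_eq cert) 8600 25 chkP_8600 i (by omega) (by omega)
      · skip
        rcases Nat.lt_or_ge i 9100 with h4 | h4
        · skip
          rcases Nat.lt_or_ge i 8850 with h5 | h5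
          · skip
            rcases Nat.lt_or_ge i 8725 with h6 | h6
            · skip
              rcases Nat.lt_or_ge i 8675 with h7 | h7
              · skip
                rcases Nat.lt_or_ge i 8650 with h8 | h8
                · skip
                  exact allRangeF_sound _ _ (checkPointF_eq cert) 8625 25 chkP_8625 i (by omega) (by omega)
                · skip
                  exact allRangeF_sound _ _ (checkPointF_eq cert) 8650 25 chkP_8650 i (by omega) (by omega)
              · skip
                rcases Nat.lt_or_ge i 8700 with h8 | h8
                · skip
                  exact allRangeF_sound _ _ (checkPointF_eq cert) 8675 25 chkP_8675 i (by omega) (by omega)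
                · skip
                  exact allRangeF_sound _ _ (checkPointF_eq cert) 8700 25 chkP_8700 i (by omega) (by omega)
            · skip
              rcases Nat.lt_or_ge i 8775 with h7 | h7
              · skip
                rcases Nat.lt_or_ge i 8750 with h8 | h8
                · skip
                  exact allRangeF_sound _ _ (checkPointF_eq cert) 8725 25 chkP_8725 i (by omega) (by omega)
                · skip
                  exact allRangeF_sound _ _ (checkPointF_eq cert) 8750 25 chkP_8750 i (by omega) (by omega)
              · skip
                rcases Nat.lt_or_ge i 8800 with h8 | h8
                · skip
                  exact allRangeF_sound _ _ (checkPointF_eq cert) 8775 25 chkP_8775 i (by omega) (by omega)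
                · skip
                  rcases Nat.lt_or_ge i 8825 with h9 | h9
                  · skip
                    exact allRangeF_sound _ _ (checkPointF_eq cert) 8800 25 chkP_8800 i (by omega) (by omega)
                  · skip
                    exact allRangeF_sound _ _ (checkPointF_eq cert) 8825 25 chkP_8825 i (by omega) (by omega)
          · skip
            rcases Nat.lt_or_ge i 8975 with h6 | h6
            · skip
              rcases Nat.lt_or_ge i 8900 with h7 | h7
              · skip
                rcases Nat.lt_or_ge i 8875 with h8 | h8
                · skip
                  exact allRangeF_sound _ _ (checkPointF_eq cert) 8850 25 chkP_8850 i (by omega) (by omega)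
                · skip
                  exact allRangeF_sound _ _ (checkPointF_eq cert) 8875 25 chkP_8875 i (by omega) (by omega)
              · skip
                rcases Nat.lt_or_ge i 8925 with h8 | h8
                · skip
                  exact allRangeF_sound _ _ (checkPointF_eq cert) 8900 25 chkP_8900 i (by omega) (by omega)
                · skip
                  rcases Nat.lt_or_ge i 8950 with h9 | h9
                  · skip
                    exact allRangeF_sound _ _ (checkPointF_eq cert) 8925 25 chkP_8925 i (by omega) (by omega)
                  · skip
                    exact allRangeF_sound _ _ (checkPointF_eq cert) 8950 25 chkP_8950 i (by omega) (by omega)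
            · skip
              rcases Nat.lt_or_ge i 9025 with h7 | h7
              · skip
                rcases Nat.lt_or_ge i 9000 with h8 | h8
                · skip
                  exact allRangeF_sound _ _ (checkPointF_eq cert) 8975 25 chkP_8975 i (by omega) (by omega)
                · skip
                  exact allRangeF_sound _ _ (checkPointF_eq cert) 9000 25 chkP_9000 i (by omega) (by omega)
              · skip
                rcases Nat.lt_or_ge i 9050 with h8 | h8
                · skip
                  exact allRangeF_sound _ _ (checkPointF_eq cert) 9025 25 chkP_9025 i (by omega) (by omega)
                · skip
                  rcases Nat.lt_or_ge i 9075 with h9 | h9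
                  · skip
                    exact allRangeF_sound _ _ (checkPointF_eq cert) 9050 25 chkP_9050 i (by omega) (by omega)
                  · skip
                    exact allRangeF_sound _ _ (checkPointF_eq cert) 9075 25 chkP_9075 i (by omega) (by omega)
        · skip
          rcases Nat.lt_or_ge i 9325 with h5 | h5
          · skip
            rcases Nat.lt_or_ge i 9200 with h6 | h6
            · skip
              rcases Nat.lt_or_ge i 9150 with h7 | h7
              · skip
                rcases Nat.lt_or_ge i 9125 with h8 | h8
                · skip
                  exact allRangeF_sound _ _ (checkPointF_eq cert) 9100 25 chkP_9100 i (by omega) (by omega)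
                · skip
                  exact allRangeF_sound _ _ (checkPointF_eq cert) 9125 25 chkP_9125 i (by omega) (by omega)
              · skip
                rcases Nat.lt_or_ge i 9175 with h8 | h8
                · skip
                  exact allRangeF_sound _ _ (checkPointF_eq cert) 9150 25 chkP_9150 i (by omega) (by omega)
                · skip
                  exact allRangeF_sound _ _ (checkPointF_eq cert) 9175 25 chkP_9175 i (by omega) (by omega)
            · skip
              rcases Nat.lt_or_ge i 9250 with h7 | h7
              · skip
                rcases Nat.lt_or_ge i 9225 with h8 | h8
                · skip
                  exact allRangeF_sound _ _ (checkPointF_eq cert) 9200 25 chkP_9200 i (by omega) (by omega)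
                · skip
                  exact allRangeF_sound _ _ (checkPointF_eq cert) 9225 25 chkP_9225 i (by omega) (by omega)
              · skip
                rcases Nat.lt_or_ge i 9275 with h8 | h8
                · skip
                  exact allRangeF_sound _ _ (checkPointF_eq cert) 9250 25 chkP_9250 i (by omega) (by omega)
                · skip
                  rcases Nat.lt_or_ge i 9300 with h9 | h9
                  · skip
                    exact allRangeF_sound _ _ (checkPointF_eq cert) 9275 25 chkP_9275 i (by omega) (by omega)
                  · skip
                    exact allRangeF_sound _ _ (checkPointF_eq cert) 9300 25 chkP_9300 i (by omega) (by omega)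
          · skip
            rcases Nat.lt_or_ge i 9450 with h6 | h6
            · skip
              rcases Nat.lt_or_ge i 9375 with h7 | h7
              · skip
                rcases Nat.lt_or_ge i 9350 with h8 | h8
                · skip
                  exact allRangeF_sound _ _ (checkPointF_eq cert) 9325 25 chkP_9325 i (by omega) (by omega)
                · skip
                  exact allRangeF_sound _ _ (checkPointF_eq cert) 9350 25 chkP_9350 i (by omega) (by omega)
              · skip
                rcases Nat.lt_or_ge i 9400 with h8 | h8
                · skip
                  exact allRangeF_sound _ _ (checkPointF_eq cert) 9375 25 chkP_9375 i (by omega) (by omega)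
                · skip
                  rcases Nat.lt_or_ge i 9425 with h9 | h9
                  · skip
                    exact allRangeF_sound _ _ (checkPointF_eq cert) 9400 25 chkP_9400 i (by omega) (by omega)
                  · skip
                    exact allRangeF_sound _ _ (checkPointF_eq cert) 9425 25 chkP_9425 i (by omega) (by omega)
            · skip
              rcases Nat.lt_or_ge i 9500 with h7 | h7
              · skip
                rcases Nat.lt_or_ge i 9475 with h8 | h8
                · skip
                  exact allRangeF_sound _ _ (checkPointF_eq cert) 9450 25 chkP_9450 i (by omega) (by omega)
                · skip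
                  exact allRangeF_sound _ _ (checkPointF_eq cert) 9475 25 chkP_9475 i (by omega) (by omega)
              · skip
                rcases Nat.lt_or_ge i 9525 with h8 | h8
                · skip
                  exact allRangeF_sound _ _ (checkPointF_eq cert) 9500 25 chkP_9500 i (by omega) (by omega)
                · skip
                  rcases Nat.lt_or_ge i 9550 with h9 | h9
                  · skip
                    exact allRangeF_sound _ _ (checkPointF_eq cert) 9525 25 chkP_9525 i (by omega) (by omega)
                  · skip
                    exact allRangeF_sound _ _ (checkPointF_eq cert) 9550 25 chkP_9550 i (by omega) (by omega)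
    · skip
      rcases Nat.lt_or_ge i 10525 with h3 | h3
      · skip
        rcases Nat.lt_or_ge i 10050 with h4 | h4
        · skip
          rcases Nat.lt_or_ge i 9800 with h5 | h5
          · skip
            rcases Nat.lt_or_ge i 9675 with h6 | h6
            · skip
              rcases Nat.lt_or_ge i 9625 with h7 | h7
              · skip
                rcases Nat.lt_or_ge i 9600 with h8 | h8
                · skip
                  exact allRangeF_sound _ _ (checkPointF_eq cert) 9575 25 chkP_9575 i (by omega) (by omega)
                · skip
                  exact allRangeF_sound _ _ (checkPointF_eq cert) 9600 25 chkP_9600 i (by omega) (by omega)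
              · skip
                rcases Nat.lt_or_ge i 9650 with h8 | h8
                · skip
                  exact allRangeF_sound _ _ (checkPointF_eq cert) 9625 25 chkP_9625 i (by omega) (by omega)
                · skip
                  exact allRangeF_sound _ _ (checkPointF_eq cert) 9650 25 chkP_9650 i (by omega) (by omega)
            · skip
              rcases Nat.lt_or_ge i 9725 with h7 | h7
              · skip
                rcases Nat.lt_or_ge i 9700 with h8 | h8
                · skip
                  exact allRangeF_sound _ _ (checkPointF_eq cert) 9675 25 chkP_9675 i (by omega) (by omega)
                · skip
                  exact allRangeF_sound _ _ (checkPointF_eq cert) 9700 25 chkP_9700 i (by omega) (by omega)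
              · skip
                rcases Nat.lt_or_ge i 9750 with h8 | h8
                · skip
                  exact allRangeF_sound _ _ (checkPointF_eq cert) 9725 25 chkP_9725 i (by omega) (by omega)
                · skip
                  rcases Nat.lt_or_ge i 9775 with h9 | h9
                  · skip
                    exact allRangeF_sound _ _ (checkPointF_eq cert) 9750 25 chkP_9750 i (by omega) (by omega)
                  · skip
                    exact allRangeF_sound _ _ (checkPointF_eq cert) 9775 25 chkP_9775 i (by omega) (by omega)
          · skip
            rcases Nat.lt_or_ge i 9925 with h6 | h6
            · skip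
              rcases Nat.lt_or_ge i 9850 with h7 | h7
              · skip
                rcases Nat.lt_or_ge i 9825 with h8 | h8
                · skip
                  exact allRangeF_sound _ _ (checkPointF_eq cert) 9800 25 chkP_9800 i (by omega) (by omega)
                · skip
                  exact allRangeF_sound _ _ (checkPointF_eq cert) 9825 25 chkP_9825 i (by omega) (by omega)
              · skip
                rcases Nat.lt_or_ge i 9875 with h8 | h8
                · skip
                  exact allRangeF_sound _ _ (checkPointF_eq cert) 9850 25 chkP_9850 i (by omega) (by omega)
                · skip
                  rcases Nat.lt_or_ge i 9900 with h9 | h9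
                  · skip
                    exact allRangeF_sound _ _ (checkPointF_eq cert) 9875 25 chkP_9875 i (by omega) (by omega)
                  · skip
                    exact allRangeF_sound _ _ (checkPointF_eq cert) 9900 25 chkP_9900 i (by omega) (by omega)
            · skip
              rcases Nat.lt_or_ge i 9975 with h7 | h7
              · skip
                rcases Nat.lt_or_ge i 9950 with h8 | h8
                · skip
                  exact allRangeF_sound _ _ (checkPointF_eq cert) 9925 25 chkP_9925 i (by omega) (by omega)
                · skip
                  exact allRangeF_sound _ _ (checkPointF_eq cert) 9950 25 chkP_9950 i (by omega) (by omega)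
              · skip
                rcases Nat.lt_or_ge i 10000 with h8 | h8
                · skip
                  exact allRangeF_sound _ _ (checkPointF_eq cert) 9975 25 chkP_9975 i (by omega) (by omega)
                · skip
                  rcases Nat.lt_or_ge i 10025 with h9 | h9
                  · skip
                    exact allRangeF_sound _ _ (checkPointF_eq cert) 10000 25 chkP_10000 i (by omega) (by omega)
                  · skip
                    exact allRangeF_sound _ _ (checkPointF_eq cert) 10025 25 chkP_10025 i (by omega) (by omega)
        · skip
          rcases Nat.lt_or_ge i 10275 with h5 | h5
          · skip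
            rcases Nat.lt_or_ge i 10150 with h6 | h6
            · skip
              rcases Nat.lt_or_ge i 10100 with h7 | h7
              · skip
                rcases Nat.lt_or_ge i 10075 with h8 | h8
                · skip
                  exact allRangeF_sound _ _ (checkPointF_eq cert) 10050 25 chkP_10050 i (by omega) (by omega)
                · skip
                  exact allRangeF_sound _ _ (checkPointF_eq cert) 10075 25 chkP_10075 i (by omega) (by omega)
              · skip
                rcases Nat.lt_or_ge i 10125 with h8 | h8
                · skip
                  exact allRangeF_sound _ _ (checkPointF_eq cert) 10100 25 chkP_10100 i (by omega) (by omega)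
                · skip
                  exact allRangeF_sound _ _ (checkPointF_eq cert) 10125 25 chkP_10125 i (by omega) (by omega)
            · skip
              rcases Nat.lt_or_ge i 10200 with h7 | h7
              · skip
                rcases Nat.lt_or_ge i 10175 with h8 | h8
                · skip
                  exact allRangeF_sound _ _ (checkPointF_eq cert) 10150 25 chkP_10150 i (by omega) (by omega)
                · skip
                  exact allRangeF_sound _ _ (checkPointF_eq cert) 10175 25 chkP_10175 i (by omega) (by omega)
              · skip
                rcases Nat.lt_or_ge i 10225 with h8 | h8
                · skip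
                  exact allRangeF_sound _ _ (checkPointF_eq cert) 10200 25 chkP_10200 i (by omega) (by omega)
                · skip
                  rcases Nat.lt_or_ge i 10250 with h9 | h9
                  · skip
                    exact allRangeF_sound _ _ (checkPointF_eq cert) 10225 25 chkP_10225 i (by omega) (by omega)
                  · skip
                    exact allRangeF_sound _ _ (checkPointF_eq cert) 10250 25 chkP_10250 i (by omega) (by omega)
          · skip
            rcases Nat.lt_or_ge i 10400 with h6 | h6
            · skip
              rcases Nat.lt_or_ge i 10325 with h7 | h7
              · skip
                rcases Nat.lt_or_ge i 10300 with h8 | h8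
                · skip
                  exact allRangeF_sound _ _ (checkPointF_eq cert) 10275 25 chkP_10275 i (by omega) (by omega)
                · skip
                  exact allRangeF_sound _ _ (checkPointF_eq cert) 10300 25 chkP_10300 i (by omega) (by omega)
              · skip
                rcases Nat.lt_or_ge i 10350 with h8 | h8
                · skip
                  exact allRangeF_sound _ _ (checkPointF_eq cert) 10325 25 chkP_10325 i (by omega) (by omega)
                · skip
                  rcases Nat.lt_or_ge i 10375 with h9 | h9
                  · skip
                    exact allRangeF_sound _ _ (checkPointF_eq cert) 10350 25 chkP_10350 i (by omega) (by omega)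
                  · skip
                    exact allRangeF_sound _ _ (checkPointF_eq cert) 10375 25 chkP_10375 i (by omega) (by omega)
            · skip
              rcases Nat.lt_or_ge i 10450 with h7 | h7
              · skip
                rcases Nat.lt_or_ge i 10425 with h8 | h8
                · skip
                  exact allRangeF_sound _ _ (checkPointF_eq cert) 10400 25 chkP_10400 i (by omega) (by omega)
                · skip
                  exact allRangeF_sound _ _ (checkPointF_eq cert) 10425 25 chkP_10425 i (by omega) (by omega)
              · skip
                rcases Nat.lt_or_ge i 10475 with h8 | h8
                · skip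
                  exact allRangeF_sound _ _ (checkPointF_eq cert) 10450 25 chkP_10450 i (by omega) (by omega)
                · skip
                  rcases Nat.lt_or_ge i 10500 with h9 | h9
                  · skip
                    exact allRangeF_sound _ _ (checkPointF_eq cert) 10475 25 chkP_10475 i (by omega) (by omega)
                  · skip
                    exact allRangeF_sound _ _ (checkPointF_eq cert) 10500 25 chkP_10500 i (by omega) (by omega)
      · skip
        rcases Nat.lt_or_ge i 11000 with h4 | h4
        · skip
          rcases Nat.lt_or_ge i 10750 with h5 | h5
          · skip
            rcases Nat.lt_or_ge i 10625 with h6 | h6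
            · skip
              rcases Nat.lt_or_ge i 10575 with h7 | h7
              · skip
                rcases Nat.lt_or_ge i 10550 with h8 | h8
                · skip
                  exact allRangeF_sound _ _ (checkPointF_eq cert) 10525 25 chkP_10525 i (by omega) (by omega)
                · skip
                  exact allRangeF_sound _ _ (checkPointF_eq cert) 10550 25 chkP_10550 i (by omega) (by omega)
              · skip
                rcases Nat.lt_or_ge i 10600 with h8 | h8
                · skip
                  exact allRangeF_sound _ _ (checkPointF_eq cert) 10575 25 chkP_10575 i (by omega) (by omega)
                · skip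
                  exact allRangeF_sound _ _ (checkPointF_eq cert) 10600 25 chkP_10600 i (by omega) (by omega)
            · skip
              rcases Nat.lt_or_ge i 10675 with h7 | h7
              · skip
                rcases Nat.lt_or_ge i 10650 with h8 | h8
                · skip
                  exact allRangeF_sound _ _ (checkPointF_eq cert) 10625 25 chkP_10625 i (by omega) (by omega)
                · skip
                  exact allRangeF_sound _ _ (checkPointF_eq cert) 10650 25 chkP_10650 i (by omega) (by omega)
              · skip
                rcases Nat.lt_or_ge i 10700 with h8 | h8
                · skip
                  exact allRangeF_sound _ _ (checkPointF_eq cert) 10675 25 chkP_10675 i (by omega) (by omega)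
                · skip
                  rcases Nat.lt_or_ge i 10725 with h9 | h9
                  · skip
                    exact allRangeF_sound _ _ (checkPointF_eq cert) 10700 25 chkP_10700 i (by omega) (by omega)
                  · skip
                    exact allRangeF_sound _ _ (checkPointF_eq cert) 10725 25 chkP_10725 i (by omega) (by omega)
          · skip
            rcases Nat.lt_or_ge i 10875 with h6 | h6
            · skip
              rcases Nat.lt_or_ge i 10800 with h7 | h7
              · skip
                rcases Nat.lt_or_ge i 10775 with h8 | h8
                · skip
                  exact allRangeF_sound _ _ (checkPointF_eq cert) 10750 25 chkP_10750 i (by omega) (by omega)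
                · skip
                  exact allRangeF_sound _ _ (checkPointF_eq cert) 10775 25 chkP_10775 i (by omega) (by omega)
              · skip
                rcases Nat.lt_or_ge i 10825 with h8 | h8
                · skip
                  exact allRangeF_sound _ _ (checkPointF_eq cert) 10800 25 chkP_10800 i (by omega) (by omega)
                · skip
                  rcases Nat.lt_or_ge i 10850 with h9 | h9
                  · skip
                    exact allRangeF_sound _ _ (checkPointF_eq cert) 10825 25 chkP_10825 i (by omega) (by omega)
                  · skip
                    exact allRangeF_sound _ _ (checkPointF_eq cert) 10850 25 chkP_10850 i (by omega) (by omega)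
            · skip
              rcases Nat.lt_or_ge i 10925 with h7 | h7
              · skip
                rcases Nat.lt_or_ge i 10900 with h8 | h8
                · skip
                  exact allRangeF_sound _ _ (checkPointF_eq cert) 10875 25 chkP_10875 i (by omega) (by omega)
                · skip
                  exact allRangeF_sound _ _ (checkPointF_eq cert) 10900 25 chkP_10900 i (by omega) (by omega)
              · skip
                rcases Nat.lt_or_ge i 10950 with h8 | h8
                · skip
                  exact allRangeF_sound _ _ (checkPointF_eq cert) 10925 25 chkP_10925 i (by omega) (by omega)
                · skip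
                  rcases Nat.lt_or_ge i 10975 with h9 | h9
                  · skip
                    exact allRangeF_sound _ _ (checkPointF_eq cert) 10950 25 chkP_10950 i (by omega) (by omega)
                  · skip
                    exact allRangeF_sound _ _ (checkPointF_eq cert) 10975 25 chkP_10975 i (by omega) (by omega)
        · skip
          rcases Nat.lt_or_ge i 11250 with h5 | h5
          · skip
            rcases Nat.lt_or_ge i 11125 with h6 | h6
            · skip
              rcases Nat.lt_or_ge i 11050 with h7 | h7
              · skip
                rcases Nat.lt_or_ge i 11025 with h8 | h8
                · skip
                  exact allRangeF_sound _ _ (checkPointF_eq cert) 11000 25 chkP_11000 i (by omega) (by omega)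
                · skip
                  exact allRangeF_sound _ _ (checkPointF_eq cert) 11025 25 chkP_11025 i (by omega) (by omega)
              · skip
                rcases Nat.lt_or_ge i 11075 with h8 | h8
                · skip
                  exact allRangeF_sound _ _ (checkPointF_eq cert) 11050 25 chkP_11050 i (by omega) (by omega)
                · skip
                  rcases Nat.lt_or_ge i 11100 with h9 | h9
                  · skip
                    exact allRangeF_sound _ _ (checkPointF_eq cert) 11075 25 chkP_11075 i (by omega) (by omega)
                  · skip
                    exact allRangeF_sound _ _ (checkPointF_eq cert) 11100 25 chkP_11100 i (by omega) (by omega)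
            · skip
              rcases Nat.lt_or_ge i 11175 with h7 | h7
              · skip
                rcases Nat.lt_or_ge i 11150 with h8 | h8
                · skip
                  exact allRangeF_sound _ _ (checkPointF_eq cert) 11125 25 chkP_11125 i (by omega) (by omega)
                · skip
                  exact allRangeF_sound _ _ (checkPointF_eq cert) 11150 25 chkP_11150 i (by omega) (by omega)
              · skip
                rcases Nat.lt_or_ge i 11200 with h8 | h8
                · skip
                  exact allRangeF_sound _ _ (checkPointF_eq cert) 11175 25 chkP_11175 i (by omega) (by omega)
                · skip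
                  rcases Nat.lt_or_ge i 11225 with h9 | h9
                  · skip
                    exact allRangeF_sound _ _ (checkPointF_eq cert) 11200 25 chkP_11200 i (by omega) (by omega)
                  · skip
                    exact allRangeF_sound _ _ (checkPointF_eq cert) 11225 25 chkP_11225 i (by omega) (by omega)
          · skip
            rcases Nat.lt_or_ge i 11375 with h6 | h6
            · skip
              rcases Nat.lt_or_ge i 11300 with h7 | h7
              · skip
                rcases Nat.lt_or_ge i 11275 with h8 | h8
                · skip
                  exact allRangeF_sound _ _ (checkPointF_eq cert) 11250 25 chkP_11250 i (by omega) (by omega)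
                · skip
                  exact allRangeF_sound _ _ (checkPointF_eq cert) 11275 25 chkP_11275 i (by omega) (by omega)
              · skip
                rcases Nat.lt_or_ge i 11325 with h8 | h8
                · skip
                  exact allRangeF_sound _ _ (checkPointF_eq cert) 11300 25 chkP_11300 i (by omega) (by omega)
                · skip
                  rcases Nat.lt_or_ge i 11350 with h9 | h9
                  · skip
                    exact allRangeF_sound _ _ (checkPointF_eq cert) 11325 25 chkP_11325 i (by omega) (by omega)
                  · skip
                    exact allRangeF_sound _ _ (checkPointF_eq cert) 11350 25 chkP_11350 i (by omega) (by omega)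
            · skip
              rcases Nat.lt_or_ge i 11425 with h7 | h7
              · skip
                rcases Nat.lt_or_ge i 11400 with h8 | h8
                · skip
                  exact allRangeF_sound _ _ (checkPointF_eq cert) 11375 25 chkP_11375 i (by omega) (by omega)
                · skip
                  exact allRangeF_sound _ _ (checkPointF_eq cert) 11400 25 chkP_11400 i (by omega) (by omega)
              · skip
                rcases Nat.lt_or_ge i 11450 with h8 | h8
                · skip
                  exact allRangeF_sound _ _ (checkPointF_eq cert) 11425 25 chkP_11425 i (by omega) (by omega)
                · skip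
                  rcases Nat.lt_or_ge i 11475 with h9 | h9
                  · skip
                    exact allRangeF_sound _ _ (checkPointF_eq cert) 11450 25 chkP_11450 i (by omega) (by omega)
                  · skip
                    exact allRangeF_sound _ _ (checkPointF_eq cert) 11475 25 chkP_11475 i (by omega) (by omega)
  · skip
    rcases Nat.lt_or_ge i 13425 with h2 | h2
    · skip
      rcases Nat.lt_or_ge i 12450 with h3 | h3
      · skip
        rcases Nat.lt_or_ge i 11975 with h4 | h4
        · skip
          rcases Nat.lt_or_ge i 11725 with h5 | h5
          · skip
            rcases Nat.lt_or_ge i 11600 with h6 | h6
            · skip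
              rcases Nat.lt_or_ge i 11550 with h7 | h7
              · skip
                rcases Nat.lt_or_ge i 11525 with h8 | h8
                · skip
                  exact allRangeF_sound _ _ (checkPointF_eq cert) 11500 25 chkP_11500 i (by omega) (by omega)
                · skip
                  exact allRangeF_sound _ _ (checkPointF_eq cert) 11525 25 chkP_11525 i (by omega) (by omega)
              · skip
                rcases Nat.lt_or_ge i 11575 with h8 | h8
                · skip
                  exact allRangeF_sound _ _ (checkPointF_eq cert) 11550 25 chkP_11550 i (by omega) (by omega)
                · skip
                  exact allRangeF_sound _ _ (checkPointF_eq cert) 11575 25 chkP_11575 i (by omega) (by omega)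
            · skip
              rcases Nat.lt_or_ge i 11650 with h7 | h7
              · skip
                rcases Nat.lt_or_ge i 11625 with h8 | h8
                · skip
                  exact allRangeF_sound _ _ (checkPointF_eq cert) 11600 25 chkP_11600 i (by omega) (by omega)
                · skip
                  exact allRangeF_sound _ _ (checkPointF_eq cert) 11625 25 chkP_11625 i (by omega) (by omega)
              · skip
                rcases Nat.lt_or_ge i 11675 with h8 | h8
                · skip
                  exact allRangeF_sound _ _ (checkPointF_eq cert) 11650 25 chkP_11650 i (by omega) (by omega)
                · skip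
                  rcases Nat.lt_or_ge i 11700 with h9 | h9
                  · skip
                    exact allRangeF_sound _ _ (checkPointF_eq cert) 11675 25 chkP_11675 i (by omega) (by omega)
                  · skip
                    exact allRangeF_sound _ _ (checkPointF_eq cert) 11700 25 chkP_11700 i (by omega) (by omega)
          · skip
            rcases Nat.lt_or_ge i 11850 with h6 | h6
            · skip
              rcases Nat.lt_or_ge i 11775 with h7 | h7
              · skip
                rcases Nat.lt_or_ge i 11750 with h8 | h8
                · skip
                  exact allRangeF_sound _ _ (checkPointF_eq cert) 11725 25 chkP_11725 i (by omega) (by omega)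
                · skip
                  exact allRangeF_sound _ _ (checkPointF_eq cert) 11750 25 chkP_11750 i (by omega) (by omega)
              · skip
                rcases Nat.lt_or_ge i 11800 with h8 | h8
                · skip
                  exact allRangeF_sound _ _ (checkPointF_eq cert) 11775 25 chkP_11775 i (by omega) (by omega)
                · skip
                  rcases Nat.lt_or_ge i 11825 with h9 | h9
                  · skip
                    exact allRangeF_sound _ _ (checkPointF_eq cert) 11800 25 chkP_11800 i (by omega) (by omega)
                  · skip
                    exact allRangeF_sound _ _ (checkPointF_eq cert) 11825 25 chkP_11825 i (by omega) (by omega)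
            · skip
              rcases Nat.lt_or_ge i 11900 with h7 | h7
              · skip
                rcases Nat.lt_or_ge i 11875 with h8 | h8
                · skip
                  exact allRangeF_sound _ _ (checkPointF_eq cert) 11850 25 chkP_11850 i (by omega) (by omega)
                · skip
                  exact allRangeF_sound _ _ (checkPointF_eq cert) 11875 25 chkP_11875 i (by omega) (by omega)
              · skip
                rcases Nat.lt_or_ge i 11925 with h8 | h8
                · skip
                  exact allRangeF_sound _ _ (checkPointF_eq cert) 11900 25 chkP_11900 i (by omega) (by omega)
                · skip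
                  rcases Nat.lt_or_ge i 11950 with h9 | h9
                  · skip
                    exact allRangeF_sound _ _ (checkPointF_eq cert) 11925 25 chkP_11925 i (by omega) (by omega)
                  · skip
                    exact allRangeF_sound _ _ (checkPointF_eq cert) 11950 25 chkP_11950 i (by omega) (by omega)
        · skip
          rcases Nat.lt_or_ge i 12200 with h5 | h5
          · skip
            rcases Nat.lt_or_ge i 12075 with h6 | h6
            · skip
              rcases Nat.lt_or_ge i 12025 with h7 | h7
              · skip
                rcases Nat.lt_or_ge i 12000 with h8 | h8
                · skip
                  exact allRangeF_sound _ _ (checkPointF_eq cert) 11975 25 chkP_11975 i (by omega) (by omega)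
                · skip
                  exact allRangeF_sound _ _ (checkPointF_eq cert) 12000 25 chkP_12000 i (by omega) (by omega)
              · skip
                rcases Nat.lt_or_ge i 12050 with h8 | h8
                · skip
                  exact allRangeF_sound _ _ (checkPointF_eq cert) 12025 25 chkP_12025 i (by omega) (by omega)
                · skip
                  exact allRangeF_sound _ _ (checkPointF_eq cert) 12050 25 chkP_12050 i (by omega) (by omega)
            · skip
              rcases Nat.lt_or_ge i 12125 with h7 | h7
              · skip
                rcases Nat.lt_or_ge i 12100 with h8 | h8
                · skip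
                  exact allRangeF_sound _ _ (checkPointF_eq cert) 12075 25 chkP_12075 i (by omega) (by omega)
                · skip
                  exact allRangeF_sound _ _ (checkPointF_eq cert) 12100 25 chkP_12100 i (by omega) (by omega)
              · skip
                rcases Nat.lt_or_ge i 12150 with h8 | h8
                · skip
                  exact allRangeF_sound _ _ (checkPointF_eq cert) 12125 25 chkP_12125 i (by omega) (by omega)
                · skip
                  rcases Nat.lt_or_ge i 12175 with h9 | h9
                  · skip
                    exact allRangeF_sound _ _ (checkPointF_eq cert) 12150 25 chkP_12150 i (by omega) (by omega)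
                  · skip
                    exact allRangeF_sound _ _ (checkPointF_eq cert) 12175 25 chkP_12175 i (by omega) (by omega)
          · skip
            rcases Nat.lt_or_ge i 12325 with h6 | h6
            · skip
              rcases Nat.lt_or_ge i 12250 with h7 | h7
              · skip
                rcases Nat.lt_or_ge i 12225 with h8 | h8
                · skip
                  exact allRangeF_sound _ _ (checkPointF_eq cert) 12200 25 chkP_12200 i (by omega) (by omega)
                · skip
                  exact allRangeF_sound _ _ (checkPointF_eq cert) 12225 25 chkP_12225 i (by omega) (by omega)
              · skip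
                rcases Nat.lt_or_ge i 12275 with h8 | h8
                · skip
                  exact allRangeF_sound _ _ (checkPointF_eq cert) 12250 25 chkP_12250 i (by omega) (by omega)
                · skip
                  rcases Nat.lt_or_ge i 12300 with h9 | h9
                  · skip
                    exact allRangeF_sound _ _ (checkPointF_eq cert) 12275 25 chkP_12275 i (by omega) (by omega)
                  · skip
                    exact allRangeF_sound _ _ (checkPointF_eq cert) 12300 25 chkP_12300 i (by omega) (by omega)
            · skip
              rcases Nat.lt_or_ge i 12375 with h7 | h7
              · skip
                rcases Nat.lt_or_ge i 12350 with h8 | h8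
                · skip
                  exact allRangeF_sound _ _ (checkPointF_eq cert) 12325 25 chkP_12325 i (by omega) (by omega)
                · skip
                  exact allRangeF_sound _ _ (checkPointF_eq cert) 12350 25 chkP_12350 i (by omega) (by omega)
              · skip
                rcases Nat.lt_or_ge i 12400 with h8 | h8
                · skip
                  exact allRangeF_sound _ _ (checkPointF_eq cert) 12375 25 chkP_12375 i (by omega) (by omega)
                · skip
                  rcases Nat.lt_or_ge i 12425 with h9 | h9
                  · skip
                    exact allRangeF_sound _ _ (checkPointF_eq cert) 12400 25 chkP_12400 i (by omega) (by omega)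
                  · skip
                    exact allRangeF_sound _ _ (checkPointF_eq cert) 12425 25 chkP_12425 i (by omega) (by omega)
      · skip
        rcases Nat.lt_or_ge i 12925 with h4 | h4
        · skip
          rcases Nat.lt_or_ge i 12675 with h5 | h5
          · skip
            rcases Nat.lt_or_ge i 12550 with h6 | h6
            · skip
              rcases Nat.lt_or_ge i 12500 with h7 | h7
              · skip
                rcases Nat.lt_or_ge i 12475 with h8 | h8
                · skip
                  exact allRangeF_sound _ _ (checkPointF_eq cert) 12450 25 chkP_12450 i (by omega) (by omega)
                · skip
                  exact allRangeF_sound _ _ (checkPointF_eq cert) 12475 25 chkP_12475 i (by omega) (by omega)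
              · skip
                rcases Nat.lt_or_ge i 12525 with h8 | h8
                · skip
                  exact allRangeF_sound _ _ (checkPointF_eq cert) 12500 25 chkP_12500 i (by omega) (by omega)
                · skip
                  exact allRangeF_sound _ _ (checkPointF_eq cert) 12525 25 chkP_12525 i (by omega) (by omega)
            · skip
              rcases Nat.lt_or_ge i 12600 with h7 | h7
              · skip
                rcases Nat.lt_or_ge i 12575 with h8 | h8
                · skip
                  exact allRangeF_sound _ _ (checkPointF_eq cert) 12550 25 chkP_12550 i (by omega) (by omega)
                · skip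
                  exact allRangeF_sound _ _ (checkPointF_eq cert) 12575 25 chkP_12575 i (by omega) (by omega)
              · skip
                rcases Nat.lt_or_ge i 12625 with h8 | h8
                · skip
                  exact allRangeF_sound _ _ (checkPointF_eq cert) 12600 25 chkP_12600 i (by omega) (by omega)
                · skip
                  rcases Nat.lt_or_ge i 12650 with h9 | h9
                  · skip
                    exact allRangeF_sound _ _ (checkPointF_eq cert) 12625 25 chkP_12625 i (by omega) (by omega)
                  · skip
                    exact allRangeF_sound _ _ (checkPointF_eq cert) 12650 25 chkP_12650 i (by omega) (by omega)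
          · skip
            rcases Nat.lt_or_ge i 12800 with h6 | h6
            · skip
              rcases Nat.lt_or_ge i 12725 with h7 | h7
              · skip
                rcases Nat.lt_or_ge i 12700 with h8 | h8
                · skip
                  exact allRangeF_sound _ _ (checkPointF_eq cert) 12675 25 chkP_12675 i (by omega) (by omega)
                · skip
                  exact allRangeF_sound _ _ (checkPointF_eq cert) 12700 25 chkP_12700 i (by omega) (by omega)
              · skip
                rcases Nat.lt_or_ge i 12750 with h8 | h8
                · skip
                  exact allRangeF_sound _ _ (checkPointF_eq cert) 12725 25 chkP_12725 i (by omega) (by omega)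
                · skip
                  rcases Nat.lt_or_ge i 12775 with h9 | h9
                  · skip
                    exact allRangeF_sound _ _ (checkPointF_eq cert) 12750 25 chkP_12750 i (by omega) (by omega)
                  · skip
                    exact allRangeF_sound _ _ (checkPointF_eq cert) 12775 25 chkP_12775 i (by omega) (by omega)
            · skip
              rcases Nat.lt_or_ge i 12850 with h7 | h7
              · skip
                rcases Nat.lt_or_ge i 12825 with h8 | h8
                · skip
                  exact allRangeF_sound _ _ (checkPointF_eq cert) 12800 25 chkP_12800 i (by omega) (by omega)
                · skip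
                  exact allRangeF_sound _ _ (checkPointF_eq cert) 12825 25 chkP_12825 i (by omega) (by omega)
              · skip
                rcases Nat.lt_or_ge i 12875 with h8 | h8
                · skip
                  exact allRangeF_sound _ _ (checkPointF_eq cert) 12850 25 chkP_12850 i (by omega) (by omega)
                · skip
                  rcases Nat.lt_or_ge i 12900 with h9 | h9
                  · skip
                    exact allRangeF_sound _ _ (checkPointF_eq cert) 12875 25 chkP_12875 i (by omega) (by omega)
                  · skip
                    exact allRangeF_sound _ _ (checkPointF_eq cert) 12900 25 chkP_12900 i (by omega) (by omega)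
        · skip
          rcases Nat.lt_or_ge i 13175 with h5 | h5
          · skip
            rcases Nat.lt_or_ge i 13050 with h6 | h6
            · skip
              rcases Nat.lt_or_ge i 12975 with h7 | h7
              · skip
                rcases Nat.lt_or_ge i 12950 with h8 | h8
                · skip
                  exact allRangeF_sound _ _ (checkPointF_eq cert) 12925 25 chkP_12925 i (by omega) (by omega)
                · skip
                  exact allRangeF_sound _ _ (checkPointF_eq cert) 12950 25 chkP_12950 i (by omega) (by omega)
              · skip
                rcases Nat.lt_or_ge i 13000 with h8 | h8
                · skip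
                  exact allRangeF_sound _ _ (checkPointF_eq cert) 12975 25 chkP_12975 i (by omega) (by omega)
                · skip
                  rcases Nat.lt_or_ge i 13025 with h9 | h9
                  · skip
                    exact allRangeF_sound _ _ (checkPointF_eq cert) 13000 25 chkP_13000 i (by omega) (by omega)
                  · skip
                    exact allRangeF_sound _ _ (checkPointF_eq cert) 13025 25 chkP_13025 i (by omega) (by omega)
            · skip
              rcases Nat.lt_or_ge i 13100 with h7 | h7
              · skip
                rcases Nat.lt_or_ge i 13075 with h8 | h8
                · skip
                  exact allRangeF_sound _ _ (checkPointF_eq cert) 13050 25 chkP_13050 i (by omega) (by omega)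
                · skip
                  exact allRangeF_sound _ _ (checkPointF_eq cert) 13075 25 chkP_13075 i (by omega) (by omega)
              · skip
                rcases Nat.lt_or_ge i 13125 with h8 | h8
                · skip
                  exact allRangeF_sound _ _ (checkPointF_eq cert) 13100 25 chkP_13100 i (by omega) (by omega)
                · skip
                  rcases Nat.lt_or_ge i 13150 with h9 | h9
                  · skip
                    exact allRangeF_sound _ _ (checkPointF_eq cert) 13125 25 chkP_13125 i (by omega) (by omega)
                  · skip
                    exact allRangeF_sound _ _ (checkPointF_eq cert) 13150 25 chkP_13150 i (by omega) (by omega)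
          · skip
            rcases Nat.lt_or_ge i 13300 with h6 | h6
            · skip
              rcases Nat.lt_or_ge i 13225 with h7 | h7
              · skip
                rcases Nat.lt_or_ge i 13200 with h8 | h8
                · skip
                  exact allRangeF_sound _ _ (checkPointF_eq cert) 13175 25 chkP_13175 i (by omega) (by omega)
                · skip
                  exact allRangeF_sound _ _ (checkPointF_eq cert) 13200 25 chkP_13200 i (by omega) (by omega)
              · skip
                rcases Nat.lt_or_ge i 13250 with h8 | h8
                · skip
                  exact allRangeF_sound _ _ (checkPointF_eq cert) 13225 25 chkP_13225 i (by omega) (by omega)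
                · skip
                  rcases Nat.lt_or_ge i 13275 with h9 | h9
                  · skip
                    exact allRangeF_sound _ _ (checkPointF_eq cert) 13250 25 chkP_13250 i (by omega) (by omega)
                  · skip
                    exact allRangeF_sound _ _ (checkPointF_eq cert) 13275 25 chkP_13275 i (by omega) (by omega)
            · skip
              rcases Nat.lt_or_ge i 13350 with h7 | h7
              · skip
                rcases Nat.lt_or_ge i 13325 with h8 | h8
                · skip
                  exact allRangeF_sound _ _ (checkPointF_eq cert) 13300 25 chkP_13300 i (by omega) (by omega)
                · skip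
                  exact allRangeF_sound _ _ (checkPointF_eq cert) 13325 25 chkP_13325 i (by omega) (by omega)
              · skip
                rcases Nat.lt_or_ge i 13375 with h8 | h8
                · skip
                  exact allRangeF_sound _ _ (checkPointF_eq cert) 13350 25 chkP_13350 i (by omega) (by omega)
                · skip
                  rcases Nat.lt_or_ge i 13400 with h9 | h9
                  · skip
                    exact allRangeF_sound _ _ (checkPointF_eq cert) 13375 25 chkP_13375 i (by omega) (by omega)
                  · skip
                    exact allRangeF_sound _ _ (checkPointF_eq cert) 13400 25 chkP_13400 i (by omega) (by omega)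
    · skip
      rcases Nat.lt_or_ge i 14375 with h3 | h3
      · skip
        rcases Nat.lt_or_ge i 13900 with h4 | h4
        · skip
          rcases Nat.lt_or_ge i 13650 with h5 | h5
          · skip
            rcases Nat.lt_or_ge i 13525 with h6 | h6
            · skip
              rcases Nat.lt_or_ge i 13475 with h7 | h7
              · skip
                rcases Nat.lt_or_ge i 13450 with h8 | h8
                · skip
                  exact allRangeF_sound _ _ (checkPointF_eq cert) 13425 25 chkP_13425 i (by omega) (by omega)
                · skip
                  exact allRangeF_sound _ _ (checkPointF_eq cert) 13450 25 chkP_13450 i (by omega) (by omega)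
              · skip
                rcases Nat.lt_or_ge i 13500 with h8 | h8
                · skip
                  exact allRangeF_sound _ _ (checkPointF_eq cert) 13475 25 chkP_13475 i (by omega) (by omega)
                · skip
                  exact allRangeF_sound _ _ (checkPointF_eq cert) 13500 25 chkP_13500 i (by omega) (by omega)
            · skip
              rcases Nat.lt_or_ge i 13575 with h7 | h7
              · skip
                rcases Nat.lt_or_ge i 13550 with h8 | h8
                · skip
                  exact allRangeF_sound _ _ (checkPointF_eq cert) 13525 25 chkP_13525 i (by omega) (by omega)
                · skip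
                  exact allRangeF_sound _ _ (checkPointF_eq cert) 13550 25 chkP_13550 i (by omega) (by omega)
              · skip
                rcases Nat.lt_or_ge i 13600 with h8 | h8
                · skip
                  exact allRangeF_sound _ _ (checkPointF_eq cert) 13575 25 chkP_13575 i (by omega) (by omega)
                · skip
                  rcases Nat.lt_or_ge i 13625 with h9 | h9
                  · skip
                    exact allRangeF_sound _ _ (checkPointF_eq cert) 13600 25 chkP_13600 i (by omega) (by omega)
                  · skip
                    exact allRangeF_sound _ _ (checkPointF_eq cert) 13625 25 chkP_13625 i (by omega) (by omega)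
          · skip
            rcases Nat.lt_or_ge i 13775 with h6 | h6
            · skip
              rcases Nat.lt_or_ge i 13700 with h7 | h7
              · skip
                rcases Nat.lt_or_ge i 13675 with h8 | h8
                · skip
                  exact allRangeF_sound _ _ (checkPointF_eq cert) 13650 25 chkP_13650 i (by omega) (by omega)
                · skip
                  exact allRangeF_sound _ _ (checkPointF_eq cert) 13675 25 chkP_13675 i (by omega) (by omega)
              · skip
                rcases Nat.lt_or_ge i 13725 with h8 | h8
                · skip
                  exact allRangeF_sound _ _ (checkPointF_eq cert) 13700 25 chkP_13700 i (by omega) (by omega)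
                · skip
                  rcases Nat.lt_or_ge i 13750 with h9 | h9
                  · skip
                    exact allRangeF_sound _ _ (checkPointF_eq cert) 13725 25 chkP_13725 i (by omega) (by omega)
                  · skip
                    exact allRangeF_sound _ _ (checkPointF_eq cert) 13750 25 chkP_13750 i (by omega) (by omega)
            · skip
              rcases Nat.lt_or_ge i 13825 with h7 | h7
              · skip
                rcases Nat.lt_or_ge i 13800 with h8 | h8
                · skip
                  exact allRangeF_sound _ _ (checkPointF_eq cert) 13775 25 chkP_13775 i (by omega) (by omega)
                · skip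
                  exact allRangeF_sound _ _ (checkPointF_eq cert) 13800 25 chkP_13800 i (by omega) (by omega)
              · skip
                rcases Nat.lt_or_ge i 13850 with h8 | h8
                · skip
                  exact allRangeF_sound _ _ (checkPointF_eq cert) 13825 25 chkP_13825 i (by omega) (by omega)
                · skip
                  rcases Nat.lt_or_ge i 13875 with h9 | h9
                  · skip
                    exact allRangeF_sound _ _ (checkPointF_eq cert) 13850 25 chkP_13850 i (by omega) (by omega)
                  · skip
                    exact allRangeF_sound _ _ (checkPointF_eq cert) 13875 25 chkP_13875 i (by omega) (by omega)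
        · skip
          rcases Nat.lt_or_ge i 14125 with h5 | h5
          · skip
            rcases Nat.lt_or_ge i 14000 with h6 | h6
            · skip
              rcases Nat.lt_or_ge i 13950 with h7 | h7
              · skip
                rcases Nat.lt_or_ge i 13925 with h8 | h8
                · skip
                  exact allRangeF_sound _ _ (checkPointF_eq cert) 13900 25 chkP_13900 i (by omega) (by omega)
                · skip
                  exact allRangeF_sound _ _ (checkPointF_eq cert) 13925 25 chkP_13925 i (by omega) (by omega)
              · skip
                rcases Nat.lt_or_ge i 13975 with h8 | h8
                · skip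
                  exact allRangeF_sound _ _ (checkPointF_eq cert) 13950 25 chkP_13950 i (by omega) (by omega)
                · skip
                  exact allRangeF_sound _ _ (checkPointF_eq cert) 13975 25 chkP_13975 i (by omega) (by omega)
            · skip
              rcases Nat.lt_or_ge i 14050 with h7 | h7
              · skip
                rcases Nat.lt_or_ge i 14025 with h8 | h8
                · skip
                  exact allRangeF_sound _ _ (checkPointF_eq cert) 14000 25 chkP_14000 i (by omega) (by omega)
                · skip
                  exact allRangeF_sound _ _ (checkPointF_eq cert) 14025 25 chkP_14025 i (by omega) (by omega)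
              · skip
                rcases Nat.lt_or_ge i 14075 with h8 | h8
                · skip
                  exact allRangeF_sound _ _ (checkPointF_eq cert) 14050 25 chkP_14050 i (by omega) (by omega)
                · skip
                  rcases Nat.lt_or_ge i 14100 with h9 | h9
                  · skip
                    exact allRangeF_sound _ _ (checkPointF_eq cert) 14075 25 chkP_14075 i (by omega) (by omega)
                  · skip
                    exact allRangeF_sound _ _ (checkPointF_eq cert) 14100 25 chkP_14100 i (by omega) (by omega)
          · skip
            rcases Nat.lt_or_ge i 14250 with h6 | h6
            · skip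
              rcases Nat.lt_or_ge i 14175 with h7 | h7
              · skip
                rcases Nat.lt_or_ge i 14150 with h8 | h8
                · skip
                  exact allRangeF_sound _ _ (checkPointF_eq cert) 14125 25 chkP_14125 i (by omega) (by omega)
                · skip
                  exact allRangeF_sound _ _ (checkPointF_eq cert) 14150 25 chkP_14150 i (by omega) (by omega)
              · skip
                rcases Nat.lt_or_ge i 14200 with h8 | h8
                · skip
                  exact allRangeF_sound _ _ (checkPointF_eq cert) 14175 25 chkP_14175 i (by omega) (by omega)
                · skip
                  rcases Nat.lt_or_ge i 14225 with h9 | h9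
                  · skip
                    exact allRangeF_sound _ _ (checkPointF_eq cert) 14200 25 chkP_14200 i (by omega) (by omega)
                  · skip
                    exact allRangeF_sound _ _ (checkPointF_eq cert) 14225 25 chkP_14225 i (by omega) (by omega)
            · skip
              rcases Nat.lt_or_ge i 14300 with h7 | h7
              · skip
                rcases Nat.lt_or_ge i 14275 with h8 | h8
                · skip
                  exact allRangeF_sound _ _ (checkPointF_eq cert) 14250 25 chkP_14250 i (by omega) (by omega)
                · skip
                  exact allRangeF_sound _ _ (checkPointF_eq cert) 14275 25 chkP_14275 i (by omega) (by omega)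
              · skip
                rcases Nat.lt_or_ge i 14325 with h8 | h8
                · skip
                  exact allRangeF_sound _ _ (checkPointF_eq cert) 14300 25 chkP_14300 i (by omega) (by omega)
                · skip
                  rcases Nat.lt_or_ge i 14350 with h9 | h9
                  · skip
                    exact allRangeF_sound _ _ (checkPointF_eq cert) 14325 25 chkP_14325 i (by omega) (by omega)
                  · skip
                    exact allRangeF_sound _ _ (checkPointF_eq cert) 14350 25 chkP_14350 i (by omega) (by omega)
      · skip
        rcases Nat.lt_or_ge i 14850 with h4 | h4
        · skip
          rcases Nat.lt_or_ge i 14600 with h5 | h5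
          · skip
            rcases Nat.lt_or_ge i 14475 with h6 | h6
            · skip
              rcases Nat.lt_or_ge i 14425 with h7 | h7
              · skip
                rcases Nat.lt_or_ge i 14400 with h8 | h8
                · skip
                  exact allRangeF_sound _ _ (checkPointF_eq cert) 14375 25 chkP_14375 i (by omega) (by omega)
                · skip
                  exact allRangeF_sound _ _ (checkPointF_eq cert) 14400 25 chkP_14400 i (by omega) (by omega)
              · skip
                rcases Nat.lt_or_ge i 14450 with h8 | h8
                · skip
                  exact allRangeF_sound _ _ (checkPointF_eq cert) 14425 25 chkP_14425 i (by omega) (by omega)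
                · skip
                  exact allRangeF_sound _ _ (checkPointF_eq cert) 14450 25 chkP_14450 i (by omega) (by omega)
            · skip
              rcases Nat.lt_or_ge i 14525 with h7 | h7
              · skip
                rcases Nat.lt_or_ge i 14500 with h8 | h8
                · skip
                  exact allRangeF_sound _ _ (checkPointF_eq cert) 14475 25 chkP_14475 i (by omega) (by omega)
                · skip
                  exact allRangeF_sound _ _ (checkPointF_eq cert) 14500 25 chkP_14500 i (by omega) (by omega)
              · skip
                rcases Nat.lt_or_ge i 14550 with h8 | h8
                · skip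
                  exact allRangeF_sound _ _ (checkPointF_eq cert) 14525 25 chkP_14525 i (by omega) (by omega)
                · skip
                  rcases Nat.lt_or_ge i 14575 with h9 | h9
                  · skip
                    exact allRangeF_sound _ _ (checkPointF_eq cert) 14550 25 chkP_14550 i (by omega) (by omega)
                  · skip
                    exact allRangeF_sound _ _ (checkPointF_eq cert) 14575 25 chkP_14575 i (by omega) (by omega)
          · skip
            rcases Nat.lt_or_ge i 14725 with h6 | h6
            · skip
              rcases Nat.lt_or_ge i 14650 with h7 | h7
              · skip
                rcases Nat.lt_or_ge i 14625 with h8 | h8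
                · skip
                  exact allRangeF_sound _ _ (checkPointF_eq cert) 14600 25 chkP_14600 i (by omega) (by omega)
                · skip
                  exact allRangeF_sound _ _ (checkPointF_eq cert) 14625 25 chkP_14625 i (by omega) (by omega)
              · skip
                rcases Nat.lt_or_ge i 14675 with h8 | h8
                · skip
                  exact allRangeF_sound _ _ (checkPointF_eq cert) 14650 25 chkP_14650 i (by omega) (by omega)
                · skip
                  rcases Nat.lt_or_ge i 14700 with h9 | h9
                  · skip
                    exact allRangeF_sound _ _ (checkPointF_eq cert) 14675 25 chkP_14675 i (by omega) (by omega)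
                  · skip
                    exact allRangeF_sound _ _ (checkPointF_eq cert) 14700 25 chkP_14700 i (by omega) (by omega)
            · skip
              rcases Nat.lt_or_ge i 14775 with h7 | h7
              · skip
                rcases Nat.lt_or_ge i 14750 with h8 | h8
                · skip
                  exact allRangeF_sound _ _ (checkPointF_eq cert) 14725 25 chkP_14725 i (by omega) (by omega)
                · skip
                  exact allRangeF_sound _ _ (checkPointF_eq cert) 14750 25 chkP_14750 i (by omega) (by omega)
              · skip
                rcases Nat.lt_or_ge i 14800 with h8 | h8
                · skip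
                  exact allRangeF_sound _ _ (checkPointF_eq cert) 14775 25 chkP_14775 i (by omega) (by omega)
                · skip
                  rcases Nat.lt_or_ge i 14825 with h9 | h9
                  · skip
                    exact allRangeF_sound _ _ (checkPointF_eq cert) 14800 25 chkP_14800 i (by omega) (by omega)
                  · skip
                    exact allRangeF_sound _ _ (checkPointF_eq cert) 14825 25 chkP_14825 i (by omega) (by omega)
        · skip
          rcases Nat.lt_or_ge i 15100 with h5 | h5
          · skip
            rcases Nat.lt_or_ge i 14975 with h6 | h6
            · skip
              rcases Nat.lt_or_ge i 14900 with h7 | h7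
              · skip
                rcases Nat.lt_or_ge i 14875 with h8 | h8
                · skip
                  exact allRangeF_sound _ _ (checkPointF_eq cert) 14850 25 chkP_14850 i (by omega) (by omega)
                · skip
                  exact allRangeF_sound _ _ (checkPointF_eq cert) 14875 25 chkP_14875 i (by omega) (by omega)
              · skip
                rcases Nat.lt_or_ge i 14925 with h8 | h8
                · skip
                  exact allRangeF_sound _ _ (checkPointF_eq cert) 14900 25 chkP_14900 i (by omega) (by omega)
                · skip
                  rcases Nat.lt_or_ge i 14950 with h9 | h9
                  · skip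
                    exact allRangeF_sound _ _ (checkPointF_eq cert) 14925 25 chkP_14925 i (by omega) (by omega)
                  · skip
                    exact allRangeF_sound _ _ (checkPointF_eq cert) 14950 25 chkP_14950 i (by omega) (by omega)
            · skip
              rcases Nat.lt_or_ge i 15025 with h7 | h7
              · skip
                rcases Nat.lt_or_ge i 15000 with h8 | h8
                · skip
                  exact allRangeF_sound _ _ (checkPointF_eq cert) 14975 25 chkP_14975 i (by omega) (by omega)
                · skip
                  exact allRangeF_sound _ _ (checkPointF_eq cert) 15000 25 chkP_15000 i (by omega) (by omega)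
              · skip
                rcases Nat.lt_or_ge i 15050 with h8 | h8
                · skip
                  exact allRangeF_sound _ _ (checkPointF_eq cert) 15025 25 chkP_15025 i (by omega) (by omega)
                · skip
                  rcases Nat.lt_or_ge i 15075 with h9 | h9
                  · skip
                    exact allRangeF_sound _ _ (checkPointF_eq cert) 15050 25 chkP_15050 i (by omega) (by omega)
                  · skip
                    exact allRangeF_sound _ _ (checkPointF_eq cert) 15075 25 chkP_15075 i (by omega) (by omega)
          · skip
            rcases Nat.lt_or_ge i 15225 with h6 | h6
            · skip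
              rcases Nat.lt_or_ge i 15150 with h7 | h7
              · skip
                rcases Nat.lt_or_ge i 15125 with h8 | h8
                · skip
                  exact allRangeF_sound _ _ (checkPointF_eq cert) 15100 25 chkP_15100 i (by omega) (by omega)
                · skip
                  exact allRangeF_sound _ _ (checkPointF_eq cert) 15125 25 chkP_15125 i (by omega) (by omega)
              · skip
                rcases Nat.lt_or_ge i 15175 with h8 | h8
                · skip
                  exact allRangeF_sound _ _ (checkPointF_eq cert) 15150 25 chkP_15150 i (by omega) (by omega)
                · skip
                  rcases Nat.lt_or_ge i 15200 with h9 | h9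
                  · skip
                    exact allRangeF_sound _ _ (checkPointF_eq cert) 15175 25 chkP_15175 i (by omega) (by omega)
                  · skip
                    exact allRangeF_sound _ _ (checkPointF_eq cert) 15200 25 chkP_15200 i (by omega) (by omega)
            · skip
              rcases Nat.lt_or_ge i 15275 with h7 | h7
              · skip
                rcases Nat.lt_or_ge i 15250 with h8 | h8
                · skip
                  exact allRangeF_sound _ _ (checkPointF_eq cert) 15225 25 chkP_15225 i (by omega) (by omega)
                · skip
                  exact allRangeF_sound _ _ (checkPointF_eq cert) 15250 25 chkP_15250 i (by omega) (by omega)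
              · skip
                rcases Nat.lt_or_ge i 15300 with h8 | h8
                · skip
                  exact allRangeF_sound _ _ (checkPointF_eq cert) 15275 25 chkP_15275 i (by omega) (by omega)
                · skip
                  rcases Nat.lt_or_ge i 15325 with h9 | h9
                  · skip
                    exact allRangeF_sound _ _ (checkPointF_eq cert) 15300 25 chkP_15300 i (by omega) (by omega)
                  · skip
                    exact allRangeF_sound _ _ (checkPointF_eq cert) 15325 25 chkP_15325 i (by omega) (by omega)

end Cfsg.Agent.Lib.Helper28.Fi24Data
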