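import Cfsg.Agent.Lib.Helper28.Fi24Data
import Cfsg.Agent.Lib.Helper28.TCFastB

set_option autoImplicit false
set_option maxRecDepth 1000000
set_option linter.all false
set_option Elab.async false

namespace Cfsg.Agent.Lib.Helper28.Fi24Data

open Cfsg.Agent.Lib.Helper28B

theorem chkP_76750 : allRangeF (checkPointF cert) (nat_lit 76750) (nat_lit 25) = true := by decide +kernel
theorem chkP_76775 : allRangeF (checkPointF cert) (nat_lit 76775) (nat_lit 25) = true := by decide +kernel
theorem chkP_76800 : allRangeF (checkPointF cert) (nat_lit 76800) (nat_lit 25) = true := by decide +kernel
theorem chkP_76825 : allRangeF (checkPointF cert) (nat_lit 76825) (nat_lit 25) = true := by decide +kernel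
theorem chkP_76850 : allRangeF (checkPointF cert) (nat_lit 76850) (nat_lit 25) = true := by decide +kernel
theorem chkP_76875 : allRangeF (checkPointF cert) (nat_lit 76875) (nat_lit 25) = true := by decide +kernel
theorem chkP_76900 : allRangeF (checkPointF cert) (nat_lit 76900) (nat_lit 25) = true := by decide +kernel
theorem chkP_76925 : allRangeF (checkPointF cert) (nat_lit 76925) (nat_lit 25) = true := by decide +kernel
theorem chkP_76950 : allRangeF (checkPointF cert) (nat_lit 76950) (nat_lit 25) = true := by decide +kernel
theorem chkP_76975 : allRangeF (checkPointF cert) (nat_lit 76975) (nat_lit 25) = true := by decide +kernel
theorem chkP_77000 : allRangeF (checkPointF cert) (nat_lit 77000) (nat_lit 25) = true := by decide +kernel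
theorem chkP_77025 : allRangeF (checkPointF cert) (nat_lit 77025) (nat_lit 25) = true := by decide +kernel
theorem chkP_77050 : allRangeF (checkPointF cert) (nat_lit 77050) (nat_lit 25) = true := by decide +kernel
theorem chkP_77075 : allRangeF (checkPointF cert) (nat_lit 77075) (nat_lit 25) = true := by decide +kernel
theorem chkP_77100 : allRangeF (checkPointF cert) (nat_lit 77100) (nat_lit 25) = true := by decide +kernel
theorem chkP_77125 : allRangeF (checkPointF cert) (nat_lit 77125) (nat_lit 25) = true := by decide +kernel
theorem chkP_77150 : allRangeF (checkPointF cert) (nat_lit 77150) (nat_lit 25) = true := by decide +kernel
theorem chkP_77175 : allRangeF (checkPointF cert) (nat_lit 77175) (nat_lit 25) = true := by decide +kernel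
theorem chkP_77200 : allRangeF (checkPointF cert) (nat_lit 77200) (nat_lit 25) = true := by decide +kernel
theorem chkP_77225 : allRangeF (checkPointF cert) (nat_lit 77225) (nat_lit 25) = true := by decide +kernel
theorem chkP_77250 : allRangeF (checkPointF cert) (nat_lit 77250) (nat_lit 25) = true := by decide +kernel
theorem chkP_77275 : allRangeF (checkPointF cert) (nat_lit 77275) (nat_lit 25) = true := by decide +kernel
theorem chkP_77300 : allRangeF (checkPointF cert) (nat_lit 77300) (nat_lit 25) = true := by decide +kernel
theorem chkP_77325 : allRangeF (checkPointF cert) (nat_lit 77325) (nat_lit 25) = true := by decide +kernel
theorem chkP_77350 : allRangeF (checkPointF cert) (nat_lit 77350) (nat_lit 25) = true := by decide +kernel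
theorem chkP_77375 : allRangeF (checkPointF cert) (nat_lit 77375) (nat_lit 25) = true := by decide +kernel
theorem chkP_77400 : allRangeF (checkPointF cert) (nat_lit 77400) (nat_lit 25) = true := by decide +kernel
theorem chkP_77425 : allRangeF (checkPointF cert) (nat_lit 77425) (nat_lit 25) = true := by decide +kernel
theorem chkP_77450 : allRangeF (checkPointF cert) (nat_lit 77450) (nat_lit 25) = true := by decide +kernel
theorem chkP_77475 : allRangeF (checkPointF cert) (nat_lit 77475) (nat_lit 25) = true := by decide +kernel
theorem chkP_77500 : allRangeF (checkPointF cert) (nat_lit 77500) (nat_lit 25) = true := by decide +kernel
theorem chkP_77525 : allRangeF (checkPointF cert) (nat_lit 77525) (nat_lit 25) = true := by decide +kernel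
theorem chkP_77550 : allRangeF (checkPointF cert) (nat_lit 77550) (nat_lit 25) = true := by decide +kernel
theorem chkP_77575 : allRangeF (checkPointF cert) (nat_lit 77575) (nat_lit 25) = true := by decide +kernel
theorem chkP_77600 : allRangeF (checkPointF cert) (nat_lit 77600) (nat_lit 25) = true := by decide +kernel
theorem chkP_77625 : allRangeF (checkPointF cert) (nat_lit 77625) (nat_lit 25) = true := by decide +kernel
theorem chkP_77650 : allRangeF (checkPointF cert) (nat_lit 77650) (nat_lit 25) = true := by decide +kernel
theorem chkP_77675 : allRangeF (checkPointF cert) (nat_lit 77675) (nat_lit 25) = true := by decide +kernel
theorem chkP_77700 : allRangeF (checkPointF cert) (nat_lit 77700) (nat_lit 25) = true := by decide +kernel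
theorem chkP_77725 : allRangeF (checkPointF cert) (nat_lit 77725) (nat_lit 25) = true := by decide +kernel
theorem chkP_77750 : allRangeF (checkPointF cert) (nat_lit 77750) (nat_lit 25) = true := by decide +kernel
theorem chkP_77775 : allRangeF (checkPointF cert) (nat_lit 77775) (nat_lit 25) = true := by decide +kernel
theorem chkP_77800 : allRangeF (checkPointF cert) (nat_lit 77800) (nat_lit 25) = true := by decide +kernel
theorem chkP_77825 : allRangeF (checkPointF cert) (nat_lit 77825) (nat_lit 25) = true := by decide +kernel
theorem chkP_77850 : allRangeF (checkPointF cert) (nat_lit 77850) (nat_lit 25) = true := by decide +kernel
theorem chkP_77875 : allRangeF (checkPointF cert) (nat_lit 77875) (nat_lit 25) = true := by decide +kernel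
theorem chkP_77900 : allRangeF (checkPointF cert) (nat_lit 77900) (nat_lit 25) = true := by decide +kernel
theorem chkP_77925 : allRangeF (checkPointF cert) (nat_lit 77925) (nat_lit 25) = true := by decide +kernel
theorem chkP_77950 : allRangeF (checkPointF cert) (nat_lit 77950) (nat_lit 25) = true := by decide +kernel
theorem chkP_77975 : allRangeF (checkPointF cert) (nat_lit 77975) (nat_lit 25) = true := by decide +kernel
theorem chkP_78000 : allRangeF (checkPointF cert) (nat_lit 78000) (nat_lit 25) = true := by decide +kernel
theorem chkP_78025 : allRangeF (checkPointF cert) (nat_lit 78025) (nat_lit 25) = true := by decide +kernel
theorem chkP_78050 : allRangeF (checkPointF cert) (nat_lit 78050) (nat_lit 25) = true := by decide +kernel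
theorem chkP_78075 : allRangeF (checkPointF cert) (nat_lit 78075) (nat_lit 25) = true := by decide +kernel
theorem chkP_78100 : allRangeF (checkPointF cert) (nat_lit 78100) (nat_lit 25) = true := by decide +kernel
theorem chkP_78125 : allRangeF (checkPointF cert) (nat_lit 78125) (nat_lit 25) = true := by decide +kernel
theorem chkP_78150 : allRangeF (checkPointF cert) (nat_lit 78150) (nat_lit 25) = true := by decide +kernel
theorem chkP_78175 : allRangeF (checkPointF cert) (nat_lit 78175) (nat_lit 25) = true := by decide +kernel
theorem chkP_78200 : allRangeF (checkPointF cert) (nat_lit 78200) (nat_lit 25) = true := by decide +kernel
theorem chkP_78225 : allRangeF (checkPointF cert) (nat_lit 78225) (nat_lit 25) = true := by decide +kernel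
theorem chkP_78250 : allRangeF (checkPointF cert) (nat_lit 78250) (nat_lit 25) = true := by decide +kernel
theorem chkP_78275 : allRangeF (checkPointF cert) (nat_lit 78275) (nat_lit 25) = true := by decide +kernel
theorem chkP_78300 : allRangeF (checkPointF cert) (nat_lit 78300) (nat_lit 25) = true := by decide +kernel
theorem chkP_78325 : allRangeF (checkPointF cert) (nat_lit 78325) (nat_lit 25) = true := by decide +kernel
theorem chkP_78350 : allRangeF (checkPointF cert) (nat_lit 78350) (nat_lit 25) = true := by decide +kernel
theorem chkP_78375 : allRangeF (checkPointF cert) (nat_lit 78375) (nat_lit 25) = true := by decide +kernel
theorem chkP_78400 : allRangeF (checkPointF cert) (nat_lit 78400) (nat_lit 25) = true := by decide +kernel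
theorem chkP_78425 : allRangeF (checkPointF cert) (nat_lit 78425) (nat_lit 25) = true := by decide +kernel
theorem chkP_78450 : allRangeF (checkPointF cert) (nat_lit 78450) (nat_lit 25) = true := by decide +kernel
theorem chkP_78475 : allRangeF (checkPointF cert) (nat_lit 78475) (nat_lit 25) = true := by decide +kernel
theorem chkP_78500 : allRangeF (checkPointF cert) (nat_lit 78500) (nat_lit 25) = true := by decide +kernel
theorem chkP_78525 : allRangeF (checkPointF cert) (nat_lit 78525) (nat_lit 25) = true := by decide +kernel
theorem chkP_78550 : allRangeF (checkPointF cert) (nat_lit 78550) (nat_lit 25) = true := by decide +kernel
theorem chkP_78575 : allRangeF (checkPointF cert) (nat_lit 78575) (nat_lit 25) = true := by decide +kernel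
theorem chkP_78600 : allRangeF (checkPointF cert) (nat_lit 78600) (nat_lit 25) = true := by decide +kernel
theorem chkP_78625 : allRangeF (checkPointF cert) (nat_lit 78625) (nat_lit 25) = true := by decide +kernel
theorem chkP_78650 : allRangeF (checkPointF cert) (nat_lit 78650) (nat_lit 25) = true := by decide +kernel
theorem chkP_78675 : allRangeF (checkPointF cert) (nat_lit 78675) (nat_lit 25) = true := by decide +kernel
theorem chkP_78700 : allRangeF (checkPointF cert) (nat_lit 78700) (nat_lit 25) = true := by decide +kernel
theorem chkP_78725 : allRangeF (checkPointF cert) (nat_lit 78725) (nat_lit 25) = true := by decide +kernel
theorem chkP_78750 : allRangeF (checkPointF cert) (nat_lit 78750) (nat_lit 25) = true := by decide +kernel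
theorem chkP_78775 : allRangeF (checkPointF cert) (nat_lit 78775) (nat_lit 25) = true := by decide +kernel
theorem chkP_78800 : allRangeF (checkPointF cert) (nat_lit 78800) (nat_lit 25) = true := by decide +kernel
theorem chkP_78825 : allRangeF (checkPointF cert) (nat_lit 78825) (nat_lit 25) = true := by decide +kernel
theorem chkP_78850 : allRangeF (checkPointF cert) (nat_lit 78850) (nat_lit 25) = true := by decide +kernel
theorem chkP_78875 : allRangeF (checkPointF cert) (nat_lit 78875) (nat_lit 25) = true := by decide +kernel
theorem chkP_78900 : allRangeF (checkPointF cert) (nat_lit 78900) (nat_lit 25) = true := by decide +kernel
theorem chkP_78925 : allRangeF (checkPointF cert) (nat_lit 78925) (nat_lit 25) = true := by decide +kernel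
theorem chkP_78950 : allRangeF (checkPointF cert) (nat_lit 78950) (nat_lit 25) = true := by decide +kernel
theorem chkP_78975 : allRangeF (checkPointF cert) (nat_lit 78975) (nat_lit 25) = true := by decide +kernel
theorem chkP_79000 : allRangeF (checkPointF cert) (nat_lit 79000) (nat_lit 25) = true := by decide +kernel
theorem chkP_79025 : allRangeF (checkPointF cert) (nat_lit 79025) (nat_lit 25) = true := by decide +kernel
theorem chkP_79050 : allRangeF (checkPointF cert) (nat_lit 79050) (nat_lit 25) = true := by decide +kernel
theorem chkP_79075 : allRangeF (checkPointF cert) (nat_lit 79075) (nat_lit 25) = true := by decide +kernel
theorem chkP_79100 : allRangeF (checkPointF cert) (nat_lit 79100) (nat_lit 25) = true := by decide +kernel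
theorem chkP_79125 : allRangeF (checkPointF cert) (nat_lit 79125) (nat_lit 25) = true := by decide +kernel
theorem chkP_79150 : allRangeF (checkPointF cert) (nat_lit 79150) (nat_lit 25) = true := by decide +kernel
theorem chkP_79175 : allRangeF (checkPointF cert) (nat_lit 79175) (nat_lit 25) = true := by decide +kernel
theorem chkP_79200 : allRangeF (checkPointF cert) (nat_lit 79200) (nat_lit 25) = true := by decide +kernel
theorem chkP_79225 : allRangeF (checkPointF cert) (nat_lit 79225) (nat_lit 25) = true := by decide +kernel
theorem chkP_79250 : allRangeF (checkPointF cert) (nat_lit 79250) (nat_lit 25) = true := by decide +kernel
theorem chkP_79275 : allRangeF (checkPointF cert) (nat_lit 79275) (nat_lit 25) = true := by decide +kernel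
theorem chkP_79300 : allRangeF (checkPointF cert) (nat_lit 79300) (nat_lit 25) = true := by decide +kernel
theorem chkP_79325 : allRangeF (checkPointF cert) (nat_lit 79325) (nat_lit 25) = true := by decide +kernel
theorem chkP_79350 : allRangeF (checkPointF cert) (nat_lit 79350) (nat_lit 25) = true := by decide +kernel
theorem chkP_79375 : allRangeF (checkPointF cert) (nat_lit 79375) (nat_lit 25) = true := by decide +kernel
theorem chkP_79400 : allRangeF (checkPointF cert) (nat_lit 79400) (nat_lit 25) = true := by decide +kernel
theorem chkP_79425 : allRangeF (checkPointF cert) (nat_lit 79425) (nat_lit 25) = true := by decide +kernel
theorem chkP_79450 : allRangeF (checkPointF cert) (nat_lit 79450) (nat_lit 25) = true := by decide +kernel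
theorem chkP_79475 : allRangeF (checkPointF cert) (nat_lit 79475) (nat_lit 25) = true := by decide +kernel
theorem chkP_79500 : allRangeF (checkPointF cert) (nat_lit 79500) (nat_lit 25) = true := by decide +kernel
theorem chkP_79525 : allRangeF (checkPointF cert) (nat_lit 79525) (nat_lit 25) = true := by decide +kernel
theorem chkP_79550 : allRangeF (checkPointF cert) (nat_lit 79550) (nat_lit 25) = true := by decide +kernel
theorem chkP_79575 : allRangeF (checkPointF cert) (nat_lit 79575) (nat_lit 25) = true := by decide +kernel
theorem chkP_79600 : allRangeF (checkPointF cert) (nat_lit 79600) (nat_lit 25) = true := by decide +kernel
theorem chkP_79625 : allRangeF (checkPointF cert) (nat_lit 79625) (nat_lit 25) = true := by decide +kernel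
theorem chkP_79650 : allRangeF (checkPointF cert) (nat_lit 79650) (nat_lit 25) = true := by decide +kernel
theorem chkP_79675 : allRangeF (checkPointF cert) (nat_lit 79675) (nat_lit 25) = true := by decide +kernel
theorem chkP_79700 : allRangeF (checkPointF cert) (nat_lit 79700) (nat_lit 25) = true := by decide +kernel
theorem chkP_79725 : allRangeF (checkPointF cert) (nat_lit 79725) (nat_lit 25) = true := by decide +kernel
theorem chkP_79750 : allRangeF (checkPointF cert) (nat_lit 79750) (nat_lit 25) = true := by decide +kernel
theorem chkP_79775 : allRangeF (checkPointF cert) (nat_lit 79775) (nat_lit 25) = true := by decide +kernel
theorem chkP_79800 : allRangeF (checkPointF cert) (nat_lit 79800) (nat_lit 25) = true := by decide +kernel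
theorem chkP_79825 : allRangeF (checkPointF cert) (nat_lit 79825) (nat_lit 25) = true := by decide +kernel
theorem chkP_79850 : allRangeF (checkPointF cert) (nat_lit 79850) (nat_lit 25) = true := by decide +kernel
theorem chkP_79875 : allRangeF (checkPointF cert) (nat_lit 79875) (nat_lit 25) = true := by decide +kernel
theorem chkP_79900 : allRangeF (checkPointF cert) (nat_lit 79900) (nat_lit 25) = true := by decide +kernel
theorem chkP_79925 : allRangeF (checkPointF cert) (nat_lit 79925) (nat_lit 25) = true := by decide +kernel
theorem chkP_79950 : allRangeF (checkPointF cert) (nat_lit 79950) (nat_lit 25) = true := by decide +kernel
theorem chkP_79975 : allRangeF (checkPointF cert) (nat_lit 79975) (nat_lit 25) = true := by decide +kernel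
theorem chkP_80000 : allRangeF (checkPointF cert) (nat_lit 80000) (nat_lit 25) = true := by decide +kernel
theorem chkP_80025 : allRangeF (checkPointF cert) (nat_lit 80025) (nat_lit 25) = true := by decide +kernel
theorem chkP_80050 : allRangeF (checkPointF cert) (nat_lit 80050) (nat_lit 25) = true := by decide +kernel
theorem chkP_80075 : allRangeF (checkPointF cert) (nat_lit 80075) (nat_lit 25) = true := by decide +kernel
theorem chkP_80100 : allRangeF (checkPointF cert) (nat_lit 80100) (nat_lit 25) = true := by decide +kernel
theorem chkP_80125 : allRangeF (checkPointF cert) (nat_lit 80125) (nat_lit 25) = true := by decide +kernel
theorem chkP_80150 : allRangeF (checkPointF cert) (nat_lit 80150) (nat_lit 25) = true := by decide +kernel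
theorem chkP_80175 : allRangeF (checkPointF cert) (nat_lit 80175) (nat_lit 25) = true := by decide +kernel
theorem chkP_80200 : allRangeF (checkPointF cert) (nat_lit 80200) (nat_lit 25) = true := by decide +kernel
theorem chkP_80225 : allRangeF (checkPointF cert) (nat_lit 80225) (nat_lit 25) = true := by decide +kernel
theorem chkP_80250 : allRangeF (checkPointF cert) (nat_lit 80250) (nat_lit 25) = true := by decide +kernel
theorem chkP_80275 : allRangeF (checkPointF cert) (nat_lit 80275) (nat_lit 25) = true := by decide +kernel
theorem chkP_80300 : allRangeF (checkPointF cert) (nat_lit 80300) (nat_lit 25) = true := by decide +kernel
theorem chkP_80325 : allRangeF (checkPointF cert) (nat_lit 80325) (nat_lit 25) = true := by decide +kernel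
theorem chkP_80350 : allRangeF (checkPointF cert) (nat_lit 80350) (nat_lit 25) = true := by decide +kernel
theorem chkP_80375 : allRangeF (checkPointF cert) (nat_lit 80375) (nat_lit 25) = true := by decide +kernel
theorem chkP_80400 : allRangeF (checkPointF cert) (nat_lit 80400) (nat_lit 25) = true := by decide +kernel
theorem chkP_80425 : allRangeF (checkPointF cert) (nat_lit 80425) (nat_lit 25) = true := by decide +kernel
theorem chkP_80450 : allRangeF (checkPointF cert) (nat_lit 80450) (nat_lit 25) = true := by decide +kernel
theorem chkP_80475 : allRangeF (checkPointF cert) (nat_lit 80475) (nat_lit 25) = true := by decide +kernel
theorem chkP_80500 : allRangeF (checkPointF cert) (nat_lit 80500) (nat_lit 25) = true := by decide +kernel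
theorem chkP_80525 : allRangeF (checkPointF cert) (nat_lit 80525) (nat_lit 25) = true := by decide +kernel
theorem chkP_80550 : allRangeF (checkPointF cert) (nat_lit 80550) (nat_lit 25) = true := by decide +kernel
theorem chkP_80575 : allRangeF (checkPointF cert) (nat_lit 80575) (nat_lit 25) = true := by decide +kernel
theorem chkP_80600 : allRangeF (checkPointF cert) (nat_lit 80600) (nat_lit 25) = true := by decide +kernel
theorem chkP_80625 : allRangeF (checkPointF cert) (nat_lit 80625) (nat_lit 25) = true := by decide +kernel
theorem chkP_80650 : allRangeF (checkPointF cert) (nat_lit 80650) (nat_lit 25) = true := by decide +kernel
theorem chkP_80675 : allRangeF (checkPointF cert) (nat_lit 80675) (nat_lit 25) = true := by decide +kernel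
theorem chkP_80700 : allRangeF (checkPointF cert) (nat_lit 80700) (nat_lit 25) = true := by decide +kernel
theorem chkP_80725 : allRangeF (checkPointF cert) (nat_lit 80725) (nat_lit 25) = true := by decide +kernel
theorem chkP_80750 : allRangeF (checkPointF cert) (nat_lit 80750) (nat_lit 25) = true := by decide +kernel
theorem chkP_80775 : allRangeF (checkPointF cert) (nat_lit 80775) (nat_lit 25) = true := by decide +kernel
theorem chkP_80800 : allRangeF (checkPointF cert) (nat_lit 80800) (nat_lit 25) = true := by decide +kernel
theorem chkP_80825 : allRangeF (checkPointF cert) (nat_lit 80825) (nat_lit 25) = true := by decide +kernel
theorem chkP_80850 : allRangeF (checkPointF cert) (nat_lit 80850) (nat_lit 25) = true := by decide +kernel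
theorem chkP_80875 : allRangeF (checkPointF cert) (nat_lit 80875) (nat_lit 25) = true := by decide +kernel
theorem chkP_80900 : allRangeF (checkPointF cert) (nat_lit 80900) (nat_lit 25) = true := by decide +kernel
theorem chkP_80925 : allRangeF (checkPointF cert) (nat_lit 80925) (nat_lit 25) = true := by decide +kernel
theorem chkP_80950 : allRangeF (checkPointF cert) (nat_lit 80950) (nat_lit 25) = true := by decide +kernel
theorem chkP_80975 : allRangeF (checkPointF cert) (nat_lit 80975) (nat_lit 25) = true := by decide +kernel
theorem chkP_81000 : allRangeF (checkPointF cert) (nat_lit 81000) (nat_lit 25) = true := by decide +kernel
theorem chkP_81025 : allRangeF (checkPointF cert) (nat_lit 81025) (nat_lit 25) = true := by decide +kernel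
theorem chkP_81050 : allRangeF (checkPointF cert) (nat_lit 81050) (nat_lit 25) = true := by decide +kernel
theorem chkP_81075 : allRangeF (checkPointF cert) (nat_lit 81075) (nat_lit 25) = true := by decide +kernel
theorem chkP_81100 : allRangeF (checkPointF cert) (nat_lit 81100) (nat_lit 25) = true := by decide +kernel
theorem chkP_81125 : allRangeF (checkPointF cert) (nat_lit 81125) (nat_lit 25) = true := by decide +kernel
theorem chkP_81150 : allRangeF (checkPointF cert) (nat_lit 81150) (nat_lit 25) = true := by decide +kernel
theorem chkP_81175 : allRangeF (checkPointF cert) (nat_lit 81175) (nat_lit 25) = true := by decide +kernel
theorem chkP_81200 : allRangeF (checkPointF cert) (nat_lit 81200) (nat_lit 25) = true := by decide +kernel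
theorem chkP_81225 : allRangeF (checkPointF cert) (nat_lit 81225) (nat_lit 25) = true := by decide +kernel
theorem chkP_81250 : allRangeF (checkPointF cert) (nat_lit 81250) (nat_lit 25) = true := by decide +kernel
theorem chkP_81275 : allRangeF (checkPointF cert) (nat_lit 81275) (nat_lit 25) = true := by decide +kernel
theorem chkP_81300 : allRangeF (checkPointF cert) (nat_lit 81300) (nat_lit 25) = true := by decide +kernel
theorem chkP_81325 : allRangeF (checkPointF cert) (nat_lit 81325) (nat_lit 25) = true := by decide +kernel
theorem chkP_81350 : allRangeF (checkPointF cert) (nat_lit 81350) (nat_lit 25) = true := by decide +kernel
theorem chkP_81375 : allRangeF (checkPointF cert) (nat_lit 81375) (nat_lit 25) = true := by decide +kernel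
theorem chkP_81400 : allRangeF (checkPointF cert) (nat_lit 81400) (nat_lit 25) = true := by decide +kernel
theorem chkP_81425 : allRangeF (checkPointF cert) (nat_lit 81425) (nat_lit 25) = true := by decide +kernel
theorem chkP_81450 : allRangeF (checkPointF cert) (nat_lit 81450) (nat_lit 25) = true := by decide +kernel
theorem chkP_81475 : allRangeF (checkPointF cert) (nat_lit 81475) (nat_lit 25) = true := by decide +kernel
theorem chkP_81500 : allRangeF (checkPointF cert) (nat_lit 81500) (nat_lit 25) = true := by decide +kernel
theorem chkP_81525 : allRangeF (checkPointF cert) (nat_lit 81525) (nat_lit 25) = true := by decide +kernel
theorem chkP_81550 : allRangeF (checkPointF cert) (nat_lit 81550) (nat_lit 25) = true := by decide +kernel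
theorem chkP_81575 : allRangeF (checkPointF cert) (nat_lit 81575) (nat_lit 25) = true := by decide +kernel
theorem chkP_81600 : allRangeF (checkPointF cert) (nat_lit 81600) (nat_lit 25) = true := by decide +kernel
theorem chkP_81625 : allRangeF (checkPointF cert) (nat_lit 81625) (nat_lit 25) = true := by decide +kernel
theorem chkP_81650 : allRangeF (checkPointF cert) (nat_lit 81650) (nat_lit 25) = true := by decide +kernel
theorem chkP_81675 : allRangeF (checkPointF cert) (nat_lit 81675) (nat_lit 25) = true := by decide +kernel
theorem chkP_81700 : allRangeF (checkPointF cert) (nat_lit 81700) (nat_lit 25) = true := by decide +kernel
theorem chkP_81725 : allRangeF (checkPointF cert) (nat_lit 81725) (nat_lit 25) = true := by decide +kernel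
theorem chkP_81750 : allRangeF (checkPointF cert) (nat_lit 81750) (nat_lit 25) = true := by decide +kernel
theorem chkP_81775 : allRangeF (checkPointF cert) (nat_lit 81775) (nat_lit 25) = true := by decide +kernel
theorem chkP_81800 : allRangeF (checkPointF cert) (nat_lit 81800) (nat_lit 25) = true := by decide +kernel
theorem chkP_81825 : allRangeF (checkPointF cert) (nat_lit 81825) (nat_lit 25) = true := by decide +kernel
theorem chkP_81850 : allRangeF (checkPointF cert) (nat_lit 81850) (nat_lit 25) = true := by decide +kernel
theorem chkP_81875 : allRangeF (checkPointF cert) (nat_lit 81875) (nat_lit 25) = true := by decide +kernel
theorem chkP_81900 : allRangeF (checkPointF cert) (nat_lit 81900) (nat_lit 25) = true := by decide +kernel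
theorem chkP_81925 : allRangeF (checkPointF cert) (nat_lit 81925) (nat_lit 25) = true := by decide +kernel
theorem chkP_81950 : allRangeF (checkPointF cert) (nat_lit 81950) (nat_lit 25) = true := by decide +kernel
theorem chkP_81975 : allRangeF (checkPointF cert) (nat_lit 81975) (nat_lit 25) = true := by decide +kernel
theorem chkP_82000 : allRangeF (checkPointF cert) (nat_lit 82000) (nat_lit 25) = true := by decide +kernel
theorem chkP_82025 : allRangeF (checkPointF cert) (nat_lit 82025) (nat_lit 25) = true := by decide +kernel
theorem chkP_82050 : allRangeF (checkPointF cert) (nat_lit 82050) (nat_lit 25) = true := by decide +kernel
theorem chkP_82075 : allRangeF (checkPointF cert) (nat_lit 82075) (nat_lit 25) = true := by decide +kernel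
theorem chkP_82100 : allRangeF (checkPointF cert) (nat_lit 82100) (nat_lit 25) = true := by decide +kernel
theorem chkP_82125 : allRangeF (checkPointF cert) (nat_lit 82125) (nat_lit 25) = true := by decide +kernel
theorem chkP_82150 : allRangeF (checkPointF cert) (nat_lit 82150) (nat_lit 25) = true := by decide +kernel
theorem chkP_82175 : allRangeF (checkPointF cert) (nat_lit 82175) (nat_lit 25) = true := by decide +kernel
theorem chkP_82200 : allRangeF (checkPointF cert) (nat_lit 82200) (nat_lit 25) = true := by decide +kernel
theorem chkP_82225 : allRangeF (checkPointF cert) (nat_lit 82225) (nat_lit 25) = true := by decide +kernel
theorem chkP_82250 : allRangeF (checkPointF cert) (nat_lit 82250) (nat_lit 25) = true := by decide +kernel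
theorem chkP_82275 : allRangeF (checkPointF cert) (nat_lit 82275) (nat_lit 25) = true := by decide +kernel
theorem chkP_82300 : allRangeF (checkPointF cert) (nat_lit 82300) (nat_lit 25) = true := by decide +kernel
theorem chkP_82325 : allRangeF (checkPointF cert) (nat_lit 82325) (nat_lit 25) = true := by decide +kernel
theorem chkP_82350 : allRangeF (checkPointF cert) (nat_lit 82350) (nat_lit 25) = true := by decide +kernel
theorem chkP_82375 : allRangeF (checkPointF cert) (nat_lit 82375) (nat_lit 25) = true := by decide +kernel
theorem chkP_82400 : allRangeF (checkPointF cert) (nat_lit 82400) (nat_lit 25) = true := by decide +kernel
theorem chkP_82425 : allRangeF (checkPointF cert) (nat_lit 82425) (nat_lit 25) = true := by decide +kernel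
theorem chkP_82450 : allRangeF (checkPointF cert) (nat_lit 82450) (nat_lit 25) = true := by decide +kernel
theorem chkP_82475 : allRangeF (checkPointF cert) (nat_lit 82475) (nat_lit 25) = true := by decide +kernel
theorem chkP_82500 : allRangeF (checkPointF cert) (nat_lit 82500) (nat_lit 25) = true := by decide +kernel
theorem chkP_82525 : allRangeF (checkPointF cert) (nat_lit 82525) (nat_lit 25) = true := by decide +kernel
theorem chkP_82550 : allRangeF (checkPointF cert) (nat_lit 82550) (nat_lit 25) = true := by decide +kernel
theorem chkP_82575 : allRangeF (checkPointF cert) (nat_lit 82575) (nat_lit 25) = true := by decide +kernel
theorem chkP_82600 : allRangeF (checkPointF cert) (nat_lit 82600) (nat_lit 25) = true := by decide +kernel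
theorem chkP_82625 : allRangeF (checkPointF cert) (nat_lit 82625) (nat_lit 25) = true := by decide +kernel
theorem chkP_82650 : allRangeF (checkPointF cert) (nat_lit 82650) (nat_lit 25) = true := by decide +kernel
theorem chkP_82675 : allRangeF (checkPointF cert) (nat_lit 82675) (nat_lit 25) = true := by decide +kernel
theorem chkP_82700 : allRangeF (checkPointF cert) (nat_lit 82700) (nat_lit 25) = true := by decide +kernel
theorem chkP_82725 : allRangeF (checkPointF cert) (nat_lit 82725) (nat_lit 25) = true := by decide +kernel
theorem chkP_82750 : allRangeF (checkPointF cert) (nat_lit 82750) (nat_lit 25) = true := by decide +kernel
theorem chkP_82775 : allRangeF (checkPointF cert) (nat_lit 82775) (nat_lit 25) = true := by decide +kernel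
theorem chkP_82800 : allRangeF (checkPointF cert) (nat_lit 82800) (nat_lit 25) = true := by decide +kernel
theorem chkP_82825 : allRangeF (checkPointF cert) (nat_lit 82825) (nat_lit 25) = true := by decide +kernel
theorem chkP_82850 : allRangeF (checkPointF cert) (nat_lit 82850) (nat_lit 25) = true := by decide +kernel
theorem chkP_82875 : allRangeF (checkPointF cert) (nat_lit 82875) (nat_lit 25) = true := by decide +kernel
theorem chkP_82900 : allRangeF (checkPointF cert) (nat_lit 82900) (nat_lit 25) = true := by decide +kernel
theorem chkP_82925 : allRangeF (checkPointF cert) (nat_lit 82925) (nat_lit 25) = true := by decide +kernel
theorem chkP_82950 : allRangeF (checkPointF cert) (nat_lit 82950) (nat_lit 25) = true := by decide +kernel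
theorem chkP_82975 : allRangeF (checkPointF cert) (nat_lit 82975) (nat_lit 25) = true := by decide +kernel
theorem chkP_83000 : allRangeF (checkPointF cert) (nat_lit 83000) (nat_lit 25) = true := by decide +kernel
theorem chkP_83025 : allRangeF (checkPointF cert) (nat_lit 83025) (nat_lit 25) = true := by decide +kernel
theorem chkP_83050 : allRangeF (checkPointF cert) (nat_lit 83050) (nat_lit 25) = true := by decide +kernel
theorem chkP_83075 : allRangeF (checkPointF cert) (nat_lit 83075) (nat_lit 25) = true := by decide +kernel
theorem chkP_83100 : allRangeF (checkPointF cert) (nat_lit 83100) (nat_lit 25) = true := by decide +kernel
theorem chkP_83125 : allRangeF (checkPointF cert) (nat_lit 83125) (nat_lit 25) = true := by decide +kernel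
theorem chkP_83150 : allRangeF (checkPointF cert) (nat_lit 83150) (nat_lit 25) = true := by decide +kernel
theorem chkP_83175 : allRangeF (checkPointF cert) (nat_lit 83175) (nat_lit 25) = true := by decide +kernel
theorem chkP_83200 : allRangeF (checkPointF cert) (nat_lit 83200) (nat_lit 25) = true := by decide +kernel
theorem chkP_83225 : allRangeF (checkPointF cert) (nat_lit 83225) (nat_lit 25) = true := by decide +kernel
theorem chkP_83250 : allRangeF (checkPointF cert) (nat_lit 83250) (nat_lit 25) = true := by decide +kernel
theorem chkP_83275 : allRangeF (checkPointF cert) (nat_lit 83275) (nat_lit 25) = true := by decide +kernel
theorem chkP_83300 : allRangeF (checkPointF cert) (nat_lit 83300) (nat_lit 25) = true := by decide +kernel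
theorem chkP_83325 : allRangeF (checkPointF cert) (nat_lit 83325) (nat_lit 25) = true := by decide +kernel
theorem chkP_83350 : allRangeF (checkPointF cert) (nat_lit 83350) (nat_lit 25) = true := by decide +kernel
theorem chkP_83375 : allRangeF (checkPointF cert) (nat_lit 83375) (nat_lit 25) = true := by decide +kernel
theorem chkP_83400 : allRangeF (checkPointF cert) (nat_lit 83400) (nat_lit 25) = true := by decide +kernel
theorem chkP_83425 : allRangeF (checkPointF cert) (nat_lit 83425) (nat_lit 25) = true := by decide +kernel
theorem chkP_83450 : allRangeF (checkPointF cert) (nat_lit 83450) (nat_lit 25) = true := by decide +kernel
theorem chkP_83475 : allRangeF (checkPointF cert) (nat_lit 83475) (nat_lit 25) = true := by decide +kernel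
theorem chkP_83500 : allRangeF (checkPointF cert) (nat_lit 83500) (nat_lit 25) = true := by decide +kernel
theorem chkP_83525 : allRangeF (checkPointF cert) (nat_lit 83525) (nat_lit 25) = true := by decide +kernel
theorem chkP_83550 : allRangeF (checkPointF cert) (nat_lit 83550) (nat_lit 25) = true := by decide +kernel
theorem chkP_83575 : allRangeF (checkPointF cert) (nat_lit 83575) (nat_lit 25) = true := by decide +kernel
theorem chkP_83600 : allRangeF (checkPointF cert) (nat_lit 83600) (nat_lit 25) = true := by decide +kernel
theorem chkP_83625 : allRangeF (checkPointF cert) (nat_lit 83625) (nat_lit 25) = true := by decide +kernel
theorem chkP_83650 : allRangeF (checkPointF cert) (nat_lit 83650) (nat_lit 25) = true := by decide +kernel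
theorem chkP_83675 : allRangeF (checkPointF cert) (nat_lit 83675) (nat_lit 25) = true := by decide +kernel
theorem chkP_83700 : allRangeF (checkPointF cert) (nat_lit 83700) (nat_lit 25) = true := by decide +kernel
theorem chkP_83725 : allRangeF (checkPointF cert) (nat_lit 83725) (nat_lit 25) = true := by decide +kernel
theorem chkP_83750 : allRangeF (checkPointF cert) (nat_lit 83750) (nat_lit 25) = true := by decide +kernel
theorem chkP_83775 : allRangeF (checkPointF cert) (nat_lit 83775) (nat_lit 25) = true := by decide +kernel
theorem chkP_83800 : allRangeF (checkPointF cert) (nat_lit 83800) (nat_lit 25) = true := by decide +kernel
theorem chkP_83825 : allRangeF (checkPointF cert) (nat_lit 83825) (nat_lit 25) = true := by decide +kernel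
theorem chkP_83850 : allRangeF (checkPointF cert) (nat_lit 83850) (nat_lit 25) = true := by decide +kernel
theorem chkP_83875 : allRangeF (checkPointF cert) (nat_lit 83875) (nat_lit 25) = true := by decide +kernel
theorem chkP_83900 : allRangeF (checkPointF cert) (nat_lit 83900) (nat_lit 25) = true := by decide +kernel
theorem chkP_83925 : allRangeF (checkPointF cert) (nat_lit 83925) (nat_lit 25) = true := by decide +kernel
theorem chkP_83950 : allRangeF (checkPointF cert) (nat_lit 83950) (nat_lit 25) = true := by decide +kernel
theorem chkP_83975 : allRangeF (checkPointF cert) (nat_lit 83975) (nat_lit 25) = true := by decide +kernel
theorem chkP_84000 : allRangeF (checkPointF cert) (nat_lit 84000) (nat_lit 25) = true := by decide +kernel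
theorem chkP_84025 : allRangeF (checkPointF cert) (nat_lit 84025) (nat_lit 25) = true := by decide +kernel
theorem chkP_84050 : allRangeF (checkPointF cert) (nat_lit 84050) (nat_lit 25) = true := by decide +kernel
theorem chkP_84075 : allRangeF (checkPointF cert) (nat_lit 84075) (nat_lit 25) = true := by decide +kernel
theorem chkP_84100 : allRangeF (checkPointF cert) (nat_lit 84100) (nat_lit 25) = true := by decide +kernel
theorem chkP_84125 : allRangeF (checkPointF cert) (nat_lit 84125) (nat_lit 25) = true := by decide +kernel
theorem chkP_84150 : allRangeF (checkPointF cert) (nat_lit 84150) (nat_lit 25) = true := by decide +kernel
theorem chkP_84175 : allRangeF (checkPointF cert) (nat_lit 84175) (nat_lit 25) = true := by decide +kernel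
theorem chkP_84200 : allRangeF (checkPointF cert) (nat_lit 84200) (nat_lit 25) = true := by decide +kernel
theorem chkP_84225 : allRangeF (checkPointF cert) (nat_lit 84225) (nat_lit 25) = true := by decide +kernel
theorem chkP_84250 : allRangeF (checkPointF cert) (nat_lit 84250) (nat_lit 25) = true := by decide +kernel
theorem chkP_84275 : allRangeF (checkPointF cert) (nat_lit 84275) (nat_lit 25) = true := by decide +kernel
theorem chkP_84300 : allRangeF (checkPointF cert) (nat_lit 84300) (nat_lit 25) = true := by decide +kernel
theorem chkP_84325 : allRangeF (checkPointF cert) (nat_lit 84325) (nat_lit 25) = true := by decide +kernel
theorem chkP_84350 : allRangeF (checkPointF cert) (nat_lit 84350) (nat_lit 25) = true := by decide +kernel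
theorem chkP_84375 : allRangeF (checkPointF cert) (nat_lit 84375) (nat_lit 25) = true := by decide +kernel
theorem chkP_84400 : allRangeF (checkPointF cert) (nat_lit 84400) (nat_lit 25) = true := by decide +kernel

theorem ptsRange_10 : ∀ i, 76750 ≤ i → i < 84425 → checkPoint cert i = true := by
  intro i hlo hhi
  rcases Nat.lt_or_ge i 80575 with h1 | h1
  · skip
    rcases Nat.lt_or_ge i 78650 with h2 | h2
    · skip
      rcases Nat.lt_or_ge i 77700 with h3 | h3
      · skip
        rcases Nat.lt_or_ge i 77225 with h4 | h4
        · skip
          rcases Nat.lt_or_ge i 76975 with h5 | h5
          · skip
            rcases Nat.lt_or_ge i 76850 with h6 | h6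
            · skip
              rcases Nat.lt_or_ge i 76800 with h7 | h7
              · skip
                rcases Nat.lt_or_ge i 76775 with h8 | h8
                · skip
                  exact allRangeF_sound _ _ (checkPointF_eq cert) 76750 25 chkP_76750 i (by omega) (by omega)
                · skip
                  exact allRangeF_sound _ _ (checkPointF_eq cert) 76775 25 chkP_76775 i (by omega) (by omega)
              · skip
                rcases Nat.lt_or_ge i 76825 with h8 | h8
                · skip
                  exact allRangeF_sound _ _ (checkPointF_eq cert) 76800 25 chkP_76800 i (by omega) (by omega)
                · skip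
                  exact allRangeF_sound _ _ (checkPointF_eq cert) 76825 25 chkP_76825 i (by omega) (by omega)
            · skip
              rcases Nat.lt_or_ge i 76900 with h7 | h7
              · skip
                rcases Nat.lt_or_ge i 76875 with h8 | h8
                · skip
                  exact allRangeF_sound _ _ (checkPointF_eq cert) 76850 25 chkP_76850 i (by omega) (by omega)
                · skip
                  exact allRangeF_sound _ _ (checkPointF_eq cert) 76875 25 chkP_76875 i (by omega) (by omega)
              · skip
                rcases Nat.lt_or_ge i 76925 with h8 | h8
                · skip
                  exact allRangeF_sound _ _ (checkPointF_eq cert) 76900 25 chkP_76900 i (by omega) (by omega)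
                · skip
                  rcases Nat.lt_or_ge i 76950 with h9 | h9
                  · skip
                    exact allRangeF_sound _ _ (checkPointF_eq cert) 76925 25 chkP_76925 i (by omega) (by omega)
                  · skip
                    exact allRangeF_sound _ _ (checkPointF_eq cert) 76950 25 chkP_76950 i (by omega) (by omega)
          · skip
            rcases Nat.lt_or_ge i 77100 with h6 | h6
            · skip
              rcases Nat.lt_or_ge i 77025 with h7 | h7
              · skip
                rcases Nat.lt_or_ge i 77000 with h8 | h8
                · skip
                  exact allRangeF_sound _ _ (checkPointF_eq cert) 76975 25 chkP_76975 i (by omega) (by omega)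
                · skip
                  exact allRangeF_sound _ _ (checkPointF_eq cert) 77000 25 chkP_77000 i (by omega) (by omega)
              · skip
                rcases Nat.lt_or_ge i 77050 with h8 | h8
                · skip
                  exact allRangeF_sound _ _ (checkPointF_eq cert) 77025 25 chkP_77025 i (by omega) (by omega)
                · skip
                  rcases Nat.lt_or_ge i 77075 with h9 | h9
                  · skip
                    exact allRangeF_sound _ _ (checkPointF_eq cert) 77050 25 chkP_77050 i (by omega) (by omega)
                  · skip
                    exact allRangeF_sound _ _ (checkPointF_eq cert) 77075 25 chkP_77075 i (by omega) (by omega)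
            · skip
              rcases Nat.lt_or_ge i 77150 with h7 | h7
              · skip
                rcases Nat.lt_or_ge i 77125 with h8 | h8
                · skip
                  exact allRangeF_sound _ _ (checkPointF_eq cert) 77100 25 chkP_77100 i (by omega) (by omega)
                · skip
                  exact allRangeF_sound _ _ (checkPointF_eq cert) 77125 25 chkP_77125 i (by omega) (by omega)
              · skip
                rcases Nat.lt_or_ge i 77175 with h8 | h8
                · skip
                  exact allRangeF_sound _ _ (checkPointF_eq cert) 77150 25 chkP_77150 i (by omega) (by omega)
                · skip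
                  rcases Nat.lt_or_ge i 77200 with h9 | h9
                  · skip
                    exact allRangeF_sound _ _ (checkPointF_eq cert) 77175 25 chkP_77175 i (by omega) (by omega)
                  · skip
                    exact allRangeF_sound _ _ (checkPointF_eq cert) 77200 25 chkP_77200 i (by omega) (by omega)
        · skip
          rcases Nat.lt_or_ge i 77450 with h5 | h5
          · skip
            rcases Nat.lt_or_ge i 77325 with h6 | h6
            · skip
              rcases Nat.lt_or_ge i 77275 with h7 | h7
              · skip
                rcases Nat.lt_or_ge i 77250 with h8 | h8
                · skip
                  exact allRangeF_sound _ _ (checkPointF_eq cert) 77225 25 chkP_77225 i (by omega) (by omega)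
                · skip
                  exact allRangeF_sound _ _ (checkPointF_eq cert) 77250 25 chkP_77250 i (by omega) (by omega)
              · skip
                rcases Nat.lt_or_ge i 77300 with h8 | h8
                · skip
                  exact allRangeF_sound _ _ (checkPointF_eq cert) 77275 25 chkP_77275 i (by omega) (by omega)
                · skip
                  exact allRangeF_sound _ _ (checkPointF_eq cert) 77300 25 chkP_77300 i (by omega) (by omega)
            · skip
              rcases Nat.lt_or_ge i 77375 with h7 | h7
              · skip
                rcases Nat.lt_or_ge i 77350 with h8 | h8
                · skip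
                  exact allRangeF_sound _ _ (checkPointF_eq cert) 77325 25 chkP_77325 i (by omega) (by omega)
                · skip
                  exact allRangeF_sound _ _ (checkPointF_eq cert) 77350 25 chkP_77350 i (by omega) (by omega)
              · skip
                rcases Nat.lt_or_ge i 77400 with h8 | h8
                · skip
                  exact allRangeF_sound _ _ (checkPointF_eq cert) 77375 25 chkP_77375 i (by omega) (by omega)
                · skip
                  rcases Nat.lt_or_ge i 77425 with h9 | h9
                  · skip
                    exact allRangeF_sound _ _ (checkPointF_eq cert) 77400 25 chkP_77400 i (by omega) (by omega)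
                  · skip
                    exact allRangeF_sound _ _ (checkPointF_eq cert) 77425 25 chkP_77425 i (by omega) (by omega)
          · skip
            rcases Nat.lt_or_ge i 77575 with h6 | h6
            · skip
              rcases Nat.lt_or_ge i 77500 with h7 | h7
              · skip
                rcases Nat.lt_or_ge i 77475 with h8 | h8
                · skip
                  exact allRangeF_sound _ _ (checkPointF_eq cert) 77450 25 chkP_77450 i (by omega) (by omega)
                · skip
                  exact allRangeF_sound _ _ (checkPointF_eq cert) 77475 25 chkP_77475 i (by omega) (by omega)
              · skip
                rcases Nat.lt_or_ge i 77525 with h8 | h8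
                · skip
                  exact allRangeF_sound _ _ (checkPointF_eq cert) 77500 25 chkP_77500 i (by omega) (by omega)
                · skip
                  rcases Nat.lt_or_ge i 77550 with h9 | h9
                  · skip
                    exact allRangeF_sound _ _ (checkPointF_eq cert) 77525 25 chkP_77525 i (by omega) (by omega)
                  · skip
                    exact allRangeF_sound _ _ (checkPointF_eq cert) 77550 25 chkP_77550 i (by omega) (by omega)
            · skip
              rcases Nat.lt_or_ge i 77625 with h7 | h7
              · skip
                rcases Nat.lt_or_ge i 77600 with h8 | h8
                · skip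
                  exact allRangeF_sound _ _ (checkPointF_eq cert) 77575 25 chkP_77575 i (by omega) (by omega)
                · skip
                  exact allRangeF_sound _ _ (checkPointF_eq cert) 77600 25 chkP_77600 i (by omega) (by omega)
              · skip
                rcases Nat.lt_or_ge i 77650 with h8 | h8
                · skip
                  exact allRangeF_sound _ _ (checkPointF_eq cert) 77625 25 chkP_77625 i (by omega) (by omega)
                · skip
                  rcases Nat.lt_or_ge i 77675 with h9 | h9
                  · skip
                    exact allRangeF_sound _ _ (checkPointF_eq cert) 77650 25 chkP_77650 i (by omega) (by omega)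
                  · skip
                    exact allRangeF_sound _ _ (checkPointF_eq cert) 77675 25 chkP_77675 i (by omega) (by omega)
      · skip
        rcases Nat.lt_or_ge i 78175 with h4 | h4
        · skip
          rcases Nat.lt_or_ge i 77925 with h5 | h5
          · skip
            rcases Nat.lt_or_ge i 77800 with h6 | h6
            · skip
              rcases Nat.lt_or_ge i 77750 with h7 | h7
              · skip
                rcases Nat.lt_or_ge i 77725 with h8 | h8
                · skip
                  exact allRangeF_sound _ _ (checkPointF_eq cert) 77700 25 chkP_77700 i (by omega) (by omega)
                · skip
                  exact allRangeF_sound _ _ (checkPointF_eq cert) 77725 25 chkP_77725 i (by omega) (by omega)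
              · skip
                rcases Nat.lt_or_ge i 77775 with h8 | h8
                · skip
                  exact allRangeF_sound _ _ (checkPointF_eq cert) 77750 25 chkP_77750 i (by omega) (by omega)
                · skip
                  exact allRangeF_sound _ _ (checkPointF_eq cert) 77775 25 chkP_77775 i (by omega) (by omega)
            · skip
              rcases Nat.lt_or_ge i 77850 with h7 | h7
              · skip
                rcases Nat.lt_or_ge i 77825 with h8 | h8
                · skip
                  exact allRangeF_sound _ _ (checkPointF_eq cert) 77800 25 chkP_77800 i (by omega) (by omega)
                · skip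
                  exact allRangeF_sound _ _ (checkPointF_eq cert) 77825 25 chkP_77825 i (by omega) (by omega)
              · skip
                rcases Nat.lt_or_ge i 77875 with h8 | h8
                · skip
                  exact allRangeF_sound _ _ (checkPointF_eq cert) 77850 25 chkP_77850 i (by omega) (by omega)
                · skip
                  rcases Nat.lt_or_ge i 77900 with h9 | h9
                  · skip
                    exact allRangeF_sound _ _ (checkPointF_eq cert) 77875 25 chkP_77875 i (by omega) (by omega)
                  · skip
                    exact allRangeF_sound _ _ (checkPointF_eq cert) 77900 25 chkP_77900 i (by omega) (by omega)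
          · skip
            rcases Nat.lt_or_ge i 78050 with h6 | h6
            · skip
              rcases Nat.lt_or_ge i 77975 with h7 | h7
              · skip
                rcases Nat.lt_or_ge i 77950 with h8 | h8
                · skip
                  exact allRangeF_sound _ _ (checkPointF_eq cert) 77925 25 chkP_77925 i (by omega) (by omega)
                · skip
                  exact allRangeF_sound _ _ (checkPointF_eq cert) 77950 25 chkP_77950 i (by omega) (by omega)
              · skip
                rcases Nat.lt_or_ge i 78000 with h8 | h8
                · skip
                  exact allRangeF_sound _ _ (checkPointF_eq cert) 77975 25 chkP_77975 i (by omega) (by omega)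
                · skip
                  rcases Nat.lt_or_ge i 78025 with h9 | h9
                  · skip
                    exact allRangeF_sound _ _ (checkPointF_eq cert) 78000 25 chkP_78000 i (by omega) (by omega)
                  · skip
                    exact allRangeF_sound _ _ (checkPointF_eq cert) 78025 25 chkP_78025 i (by omega) (by omega)
            · skip
              rcases Nat.lt_or_ge i 78100 with h7 | h7
              · skip
                rcases Nat.lt_or_ge i 78075 with h8 | h8
                · skip
                  exact allRangeF_sound _ _ (checkPointF_eq cert) 78050 25 chkP_78050 i (by omega) (by omega)
                · skip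
                  exact allRangeF_sound _ _ (checkPointF_eq cert) 78075 25 chkP_78075 i (by omega) (by omega)
              · skip
                rcases Nat.lt_or_ge i 78125 with h8 | h8
                · skip
                  exact allRangeF_sound _ _ (checkPointF_eq cert) 78100 25 chkP_78100 i (by omega) (by omega)
                · skip
                  rcases Nat.lt_or_ge i 78150 with h9 | h9
                  · skip
                    exact allRangeF_sound _ _ (checkPointF_eq cert) 78125 25 chkP_78125 i (by omega) (by omega)
                  · skip
                    exact allRangeF_sound _ _ (checkPointF_eq cert) 78150 25 chkP_78150 i (by omega) (by omega)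
        · skip
          rcases Nat.lt_or_ge i 78400 with h5 | h5
          · skip
            rcases Nat.lt_or_ge i 78275 with h6 | h6
            · skip
              rcases Nat.lt_or_ge i 78225 with h7 | h7
              · skip
                rcases Nat.lt_or_ge i 78200 with h8 | h8
                · skip
                  exact allRangeF_sound _ _ (checkPointF_eq cert) 78175 25 chkP_78175 i (by omega) (by omega)
                · skip
                  exact allRangeF_sound _ _ (checkPointF_eq cert) 78200 25 chkP_78200 i (by omega) (by omega)
              · skip
                rcases Nat.lt_or_ge i 78250 with h8 | h8
                · skip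
                  exact allRangeF_sound _ _ (checkPointF_eq cert) 78225 25 chkP_78225 i (by omega) (by omega)
                · skip
                  exact allRangeF_sound _ _ (checkPointF_eq cert) 78250 25 chkP_78250 i (by omega) (by omega)
            · skip
              rcases Nat.lt_or_ge i 78325 with h7 | h7
              · skip
                rcases Nat.lt_or_ge i 78300 with h8 | h8
                · skip
                  exact allRangeF_sound _ _ (checkPointF_eq cert) 78275 25 chkP_78275 i (by omega) (by omega)
                · skip
                  exact allRangeF_sound _ _ (checkPointF_eq cert) 78300 25 chkP_78300 i (by omega) (by omega)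
              · skip
                rcases Nat.lt_or_ge i 78350 with h8 | h8
                · skip
                  exact allRangeF_sound _ _ (checkPointF_eq cert) 78325 25 chkP_78325 i (by omega) (by omega)
                · skip
                  rcases Nat.lt_or_ge i 78375 with h9 | h9
                  · skip
                    exact allRangeF_sound _ _ (checkPointF_eq cert) 78350 25 chkP_78350 i (by omega) (by omega)
                  · skip
                    exact allRangeF_sound _ _ (checkPointF_eq cert) 78375 25 chkP_78375 i (by omega) (by omega)
          · skip
            rcases Nat.lt_or_ge i 78525 with h6 | h6
            · skip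
              rcases Nat.lt_or_ge i 78450 with h7 | h7
              · skip
                rcases Nat.lt_or_ge i 78425 with h8 | h8
                · skip
                  exact allRangeF_sound _ _ (checkPointF_eq cert) 78400 25 chkP_78400 i (by omega) (by omega)
                · skip
                  exact allRangeF_sound _ _ (checkPointF_eq cert) 78425 25 chkP_78425 i (by omega) (by omega)
              · skip
                rcases Nat.lt_or_ge i 78475 with h8 | h8
                · skip
                  exact allRangeF_sound _ _ (checkPointF_eq cert) 78450 25 chkP_78450 i (by omega) (by omega)
                · skip
                  rcases Nat.lt_or_ge i 78500 with h9 | h9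
                  · skip
                    exact allRangeF_sound _ _ (checkPointF_eq cert) 78475 25 chkP_78475 i (by omega) (by omega)
                  · skip
                    exact allRangeF_sound _ _ (checkPointF_eq cert) 78500 25 chkP_78500 i (by omega) (by omega)
            · skip
              rcases Nat.lt_or_ge i 78575 with h7 | h7
              · skip
                rcases Nat.lt_or_ge i 78550 with h8 | h8
                · skip
                  exact allRangeF_sound _ _ (checkPointF_eq cert) 78525 25 chkP_78525 i (by omega) (by omega)
                · skip
                  exact allRangeF_sound _ _ (checkPointF_eq cert) 78550 25 chkP_78550 i (by omega) (by omega)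
              · skip
                rcases Nat.lt_or_ge i 78600 with h8 | h8
                · skip
                  exact allRangeF_sound _ _ (checkPointF_eq cert) 78575 25 chkP_78575 i (by omega) (by omega)
                · skip
                  rcases Nat.lt_or_ge i 78625 with h9 | h9
                  · skip
                    exact allRangeF_sound _ _ (checkPointF_eq cert) 78600 25 chkP_78600 i (by omega) (by omega)
                  · skip
                    exact allRangeF_sound _ _ (checkPointF_eq cert) 78625 25 chkP_78625 i (by omega) (by omega)
    · skip
      rcases Nat.lt_or_ge i 79600 with h3 | h3
      · skip
        rcases Nat.lt_or_ge i 79125 with h4 | h4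
        · skip
          rcases Nat.lt_or_ge i 78875 with h5 | h5
          · skip
            rcases Nat.lt_or_ge i 78750 with h6 | h6
            · skip
              rcases Nat.lt_or_ge i 78700 with h7 | h7
              · skip
                rcases Nat.lt_or_ge i 78675 with h8 | h8
                · skip
                  exact allRangeF_sound _ _ (checkPointF_eq cert) 78650 25 chkP_78650 i (by omega) (by omega)
                · skip
                  exact allRangeF_sound _ _ (checkPointF_eq cert) 78675 25 chkP_78675 i (by omega) (by omega)
              · skip
                rcases Nat.lt_or_ge i 78725 with h8 | h8
                · skip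
                  exact allRangeF_sound _ _ (checkPointF_eq cert) 78700 25 chkP_78700 i (by omega) (by omega)
                · skip
                  exact allRangeF_sound _ _ (checkPointF_eq cert) 78725 25 chkP_78725 i (by omega) (by omega)
            · skip
              rcases Nat.lt_or_ge i 78800 with h7 | h7
              · skip
                rcases Nat.lt_or_ge i 78775 with h8 | h8
                · skip
                  exact allRangeF_sound _ _ (checkPointF_eq cert) 78750 25 chkP_78750 i (by omega) (by omega)
                · skip
                  exact allRangeF_sound _ _ (checkPointF_eq cert) 78775 25 chkP_78775 i (by omega) (by omega)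
              · skip
                rcases Nat.lt_or_ge i 78825 with h8 | h8
                · skip
                  exact allRangeF_sound _ _ (checkPointF_eq cert) 78800 25 chkP_78800 i (by omega) (by omega)
                · skip
                  rcases Nat.lt_or_ge i 78850 with h9 | h9
                  · skip
                    exact allRangeF_sound _ _ (checkPointF_eq cert) 78825 25 chkP_78825 i (by omega) (by omega)
                  · skip
                    exact allRangeF_sound _ _ (checkPointF_eq cert) 78850 25 chkP_78850 i (by omega) (by omega)
          · skip
            rcases Nat.lt_or_ge i 79000 with h6 | h6
            · skip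
              rcases Nat.lt_or_ge i 78925 with h7 | h7
              · skip
                rcases Nat.lt_or_ge i 78900 with h8 | h8
                · skip
                  exact allRangeF_sound _ _ (checkPointF_eq cert) 78875 25 chkP_78875 i (by omega) (by omega)
                · skip
                  exact allRangeF_sound _ _ (checkPointF_eq cert) 78900 25 chkP_78900 i (by omega) (by omega)
              · skip
                rcases Nat.lt_or_ge i 78950 with h8 | h8
                · skip
                  exact allRangeF_sound _ _ (checkPointF_eq cert) 78925 25 chkP_78925 i (by omega) (by omega)
                · skip
                  rcases Nat.lt_or_ge i 78975 with h9 | h9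
                  · skip
                    exact allRangeF_sound _ _ (checkPointF_eq cert) 78950 25 chkP_78950 i (by omega) (by omega)
                  · skip
                    exact allRangeF_sound _ _ (checkPointF_eq cert) 78975 25 chkP_78975 i (by omega) (by omega)
            · skip
              rcases Nat.lt_or_ge i 79050 with h7 | h7
              · skip
                rcases Nat.lt_or_ge i 79025 with h8 | h8
                · skip
                  exact allRangeF_sound _ _ (checkPointF_eq cert) 79000 25 chkP_79000 i (by omega) (by omega)
                · skip
                  exact allRangeF_sound _ _ (checkPointF_eq cert) 79025 25 chkP_79025 i (by omega) (by omega)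
              · skip
                rcases Nat.lt_or_ge i 79075 with h8 | h8
                · skip
                  exact allRangeF_sound _ _ (checkPointF_eq cert) 79050 25 chkP_79050 i (by omega) (by omega)
                · skip
                  rcases Nat.lt_or_ge i 79100 with h9 | h9
                  · skip
                    exact allRangeF_sound _ _ (checkPointF_eq cert) 79075 25 chkP_79075 i (by omega) (by omega)
                  · skip
                    exact allRangeF_sound _ _ (checkPointF_eq cert) 79100 25 chkP_79100 i (by omega) (by omega)
        · skip
          rcases Nat.lt_or_ge i 79350 with h5 | h5
          · skip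
            rcases Nat.lt_or_ge i 79225 with h6 | h6
            · skip
              rcases Nat.lt_or_ge i 79175 with h7 | h7
              · skip
                rcases Nat.lt_or_ge i 79150 with h8 | h8
                · skip
                  exact allRangeF_sound _ _ (checkPointF_eq cert) 79125 25 chkP_79125 i (by omega) (by omega)
                · skip
                  exact allRangeF_sound _ _ (checkPointF_eq cert) 79150 25 chkP_79150 i (by omega) (by omega)
              · skip
                rcases Nat.lt_or_ge i 79200 with h8 | h8
                · skip
                  exact allRangeF_sound _ _ (checkPointF_eq cert) 79175 25 chkP_79175 i (by omega) (by omega)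
                · skip
                  exact allRangeF_sound _ _ (checkPointF_eq cert) 79200 25 chkP_79200 i (by omega) (by omega)
            · skip
              rcases Nat.lt_or_ge i 79275 with h7 | h7
              · skip
                rcases Nat.lt_or_ge i 79250 with h8 | h8
                · skip
                  exact allRangeF_sound _ _ (checkPointF_eq cert) 79225 25 chkP_79225 i (by omega) (by omega)
                · skip
                  exact allRangeF_sound _ _ (checkPointF_eq cert) 79250 25 chkP_79250 i (by omega) (by omega)
              · skip
                rcases Nat.lt_or_ge i 79300 with h8 | h8
                · skip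
                  exact allRangeF_sound _ _ (checkPointF_eq cert) 79275 25 chkP_79275 i (by omega) (by omega)
                · skip
                  rcases Nat.lt_or_ge i 79325 with h9 | h9
                  · skip
                    exact allRangeF_sound _ _ (checkPointF_eq cert) 79300 25 chkP_79300 i (by omega) (by omega)
                  · skip
                    exact allRangeF_sound _ _ (checkPointF_eq cert) 79325 25 chkP_79325 i (by omega) (by omega)
          · skip
            rcases Nat.lt_or_ge i 79475 with h6 | h6
            · skip
              rcases Nat.lt_or_ge i 79400 with h7 | h7
              · skip
                rcases Nat.lt_or_ge i 79375 with h8 | h8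
                · skip
                  exact allRangeF_sound _ _ (checkPointF_eq cert) 79350 25 chkP_79350 i (by omega) (by omega)
                · skip
                  exact allRangeF_sound _ _ (checkPointF_eq cert) 79375 25 chkP_79375 i (by omega) (by omega)
              · skip
                rcases Nat.lt_or_ge i 79425 with h8 | h8
                · skip
                  exact allRangeF_sound _ _ (checkPointF_eq cert) 79400 25 chkP_79400 i (by omega) (by omega)
                · skip
                  rcases Nat.lt_or_ge i 79450 with h9 | h9
                  · skip
                    exact allRangeF_sound _ _ (checkPointF_eq cert) 79425 25 chkP_79425 i (by omega) (by omega)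
                  · skip
                    exact allRangeF_sound _ _ (checkPointF_eq cert) 79450 25 chkP_79450 i (by omega) (by omega)
            · skip
              rcases Nat.lt_or_ge i 79525 with h7 | h7
              · skip
                rcases Nat.lt_or_ge i 79500 with h8 | h8
                · skip
                  exact allRangeF_sound _ _ (checkPointF_eq cert) 79475 25 chkP_79475 i (by omega) (by omega)
                · skip
                  exact allRangeF_sound _ _ (checkPointF_eq cert) 79500 25 chkP_79500 i (by omega) (by omega)
              · skip
                rcases Nat.lt_or_ge i 79550 with h8 | h8
                · skip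
                  exact allRangeF_sound _ _ (checkPointF_eq cert) 79525 25 chkP_79525 i (by omega) (by omega)
                · skip
                  rcases Nat.lt_or_ge i 79575 with h9 | h9
                  · skip
                    exact allRangeF_sound _ _ (checkPointF_eq cert) 79550 25 chkP_79550 i (by omega) (by omega)
                  · skip
                    exact allRangeF_sound _ _ (checkPointF_eq cert) 79575 25 chkP_79575 i (by omega) (by omega)
      · skip
        rcases Nat.lt_or_ge i 80075 with h4 | h4
        · skip
          rcases Nat.lt_or_ge i 79825 with h5 | h5
          · skip
            rcases Nat.lt_or_ge i 79700 with h6 | h6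
            · skip
              rcases Nat.lt_or_ge i 79650 with h7 | h7
              · skip
                rcases Nat.lt_or_ge i 79625 with h8 | h8
                · skip
                  exact allRangeF_sound _ _ (checkPointF_eq cert) 79600 25 chkP_79600 i (by omega) (by omega)
                · skip
                  exact allRangeF_sound _ _ (checkPointF_eq cert) 79625 25 chkP_79625 i (by omega) (by omega)
              · skip
                rcases Nat.lt_or_ge i 79675 with h8 | h8
                · skip
                  exact allRangeF_sound _ _ (checkPointF_eq cert) 79650 25 chkP_79650 i (by omega) (by omega)
                · skip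
                  exact allRangeF_sound _ _ (checkPointF_eq cert) 79675 25 chkP_79675 i (by omega) (by omega)
            · skip
              rcases Nat.lt_or_ge i 79750 with h7 | h7
              · skip
                rcases Nat.lt_or_ge i 79725 with h8 | h8
                · skip
                  exact allRangeF_sound _ _ (checkPointF_eq cert) 79700 25 chkP_79700 i (by omega) (by omega)
                · skip
                  exact allRangeF_sound _ _ (checkPointF_eq cert) 79725 25 chkP_79725 i (by omega) (by omega)
              · skip
                rcases Nat.lt_or_ge i 79775 with h8 | h8
                · skip
                  exact allRangeF_sound _ _ (checkPointF_eq cert) 79750 25 chkP_79750 i (by omega) (by omega)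
                · skip
                  rcases Nat.lt_or_ge i 79800 with h9 | h9
                  · skip
                    exact allRangeF_sound _ _ (checkPointF_eq cert) 79775 25 chkP_79775 i (by omega) (by omega)
                  · skip
                    exact allRangeF_sound _ _ (checkPointF_eq cert) 79800 25 chkP_79800 i (by omega) (by omega)
          · skip
            rcases Nat.lt_or_ge i 79950 with h6 | h6
            · skip
              rcases Nat.lt_or_ge i 79875 with h7 | h7
              · skip
                rcases Nat.lt_or_ge i 79850 with h8 | h8
                · skip
                  exact allRangeF_sound _ _ (checkPointF_eq cert) 79825 25 chkP_79825 i (by omega) (by omega)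
                · skip
                  exact allRangeF_sound _ _ (checkPointF_eq cert) 79850 25 chkP_79850 i (by omega) (by omega)
              · skip
                rcases Nat.lt_or_ge i 79900 with h8 | h8
                · skip
                  exact allRangeF_sound _ _ (checkPointF_eq cert) 79875 25 chkP_79875 i (by omega) (by omega)
                · skip
                  rcases Nat.lt_or_ge i 79925 with h9 | h9
                  · skip
                    exact allRangeF_sound _ _ (checkPointF_eq cert) 79900 25 chkP_79900 i (by omega) (by omega)
                  · skip
                    exact allRangeF_sound _ _ (checkPointF_eq cert) 79925 25 chkP_79925 i (by omega) (by omega)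
            · skip
              rcases Nat.lt_or_ge i 80000 with h7 | h7
              · skip
                rcases Nat.lt_or_ge i 79975 with h8 | h8
                · skip
                  exact allRangeF_sound _ _ (checkPointF_eq cert) 79950 25 chkP_79950 i (by omega) (by omega)
                · skip
                  exact allRangeF_sound _ _ (checkPointF_eq cert) 79975 25 chkP_79975 i (by omega) (by omega)
              · skip
                rcases Nat.lt_or_ge i 80025 with h8 | h8
                · skip
                  exact allRangeF_sound _ _ (checkPointF_eq cert) 80000 25 chkP_80000 i (by omega) (by omega)
                · skip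
                  rcases Nat.lt_or_ge i 80050 with h9 | h9
                  · skip
                    exact allRangeF_sound _ _ (checkPointF_eq cert) 80025 25 chkP_80025 i (by omega) (by omega)
                  · skip
                    exact allRangeF_sound _ _ (checkPointF_eq cert) 80050 25 chkP_80050 i (by omega) (by omega)
        · skip
          rcases Nat.lt_or_ge i 80325 with h5 | h5
          · skip
            rcases Nat.lt_or_ge i 80200 with h6 | h6
            · skip
              rcases Nat.lt_or_ge i 80125 with h7 | h7
              · skip
                rcases Nat.lt_or_ge i 80100 with h8 | h8
                · skip
                  exact allRangeF_sound _ _ (checkPointF_eq cert) 80075 25 chkP_80075 i (by omega) (by omega)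
                · skip
                  exact allRangeF_sound _ _ (checkPointF_eq cert) 80100 25 chkP_80100 i (by omega) (by omega)
              · skip
                rcases Nat.lt_or_ge i 80150 with h8 | h8
                · skip
                  exact allRangeF_sound _ _ (checkPointF_eq cert) 80125 25 chkP_80125 i (by omega) (by omega)
                · skip
                  rcases Nat.lt_or_ge i 80175 with h9 | h9
                  · skip
                    exact allRangeF_sound _ _ (checkPointF_eq cert) 80150 25 chkP_80150 i (by omega) (by omega)
                  · skip
                    exact allRangeF_sound _ _ (checkPointF_eq cert) 80175 25 chkP_80175 i (by omega) (by omega)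
            · skip
              rcases Nat.lt_or_ge i 80250 with h7 | h7
              · skip
                rcases Nat.lt_or_ge i 80225 with h8 | h8
                · skip
                  exact allRangeF_sound _ _ (checkPointF_eq cert) 80200 25 chkP_80200 i (by omega) (by omega)
                · skip
                  exact allRangeF_sound _ _ (checkPointF_eq cert) 80225 25 chkP_80225 i (by omega) (by omega)
              · skip
                rcases Nat.lt_or_ge i 80275 with h8 | h8
                · skip
                  exact allRangeF_sound _ _ (checkPointF_eq cert) 80250 25 chkP_80250 i (by omega) (by omega)
                · skip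
                  rcases Nat.lt_or_ge i 80300 with h9 | h9
                  · skip
                    exact allRangeF_sound _ _ (checkPointF_eq cert) 80275 25 chkP_80275 i (by omega) (by omega)
                  · skip
                    exact allRangeF_sound _ _ (checkPointF_eq cert) 80300 25 chkP_80300 i (by omega) (by omega)
          · skip
            rcases Nat.lt_or_ge i 80450 with h6 | h6
            · skip
              rcases Nat.lt_or_ge i 80375 with h7 | h7
              · skip
                rcases Nat.lt_or_ge i 80350 with h8 | h8
                · skip
                  exact allRangeF_sound _ _ (checkPointF_eq cert) 80325 25 chkP_80325 i (by omega) (by omega)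
                · skip
                  exact allRangeF_sound _ _ (checkPointF_eq cert) 80350 25 chkP_80350 i (by omega) (by omega)
              · skip
                rcases Nat.lt_or_ge i 80400 with h8 | h8
                · skip
                  exact allRangeF_sound _ _ (checkPointF_eq cert) 80375 25 chkP_80375 i (by omega) (by omega)
                · skip
                  rcases Nat.lt_or_ge i 80425 with h9 | h9
                  · skip
                    exact allRangeF_sound _ _ (checkPointF_eq cert) 80400 25 chkP_80400 i (by omega) (by omega)
                  · skip
                    exact allRangeF_sound _ _ (checkPointF_eq cert) 80425 25 chkP_80425 i (by omega) (by omega)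
            · skip
              rcases Nat.lt_or_ge i 80500 with h7 | h7
              · skip
                rcases Nat.lt_or_ge i 80475 with h8 | h8
                · skip
                  exact allRangeF_sound _ _ (checkPointF_eq cert) 80450 25 chkP_80450 i (by omega) (by omega)
                · skip
                  exact allRangeF_sound _ _ (checkPointF_eq cert) 80475 25 chkP_80475 i (by omega) (by omega)
              · skip
                rcases Nat.lt_or_ge i 80525 with h8 | h8
                · skip
                  exact allRangeF_sound _ _ (checkPointF_eq cert) 80500 25 chkP_80500 i (by omega) (by omega)
                · skip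
                  rcases Nat.lt_or_ge i 80550 with h9 | h9
                  · skip
                    exact allRangeF_sound _ _ (checkPointF_eq cert) 80525 25 chkP_80525 i (by omega) (by omega)
                  · skip
                    exact allRangeF_sound _ _ (checkPointF_eq cert) 80550 25 chkP_80550 i (by omega) (by omega)
  · skip
    rcases Nat.lt_or_ge i 82500 with h2 | h2
    · skip
      rcases Nat.lt_or_ge i 81525 with h3 | h3
      · skip
        rcases Nat.lt_or_ge i 81050 with h4 | h4
        · skip
          rcases Nat.lt_or_ge i 80800 with h5 | h5
          · skip
            rcases Nat.lt_or_ge i 80675 with h6 | h6
            · skip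
              rcases Nat.lt_or_ge i 80625 with h7 | h7
              · skip
                rcases Nat.lt_or_ge i 80600 with h8 | h8
                · skip
                  exact allRangeF_sound _ _ (checkPointF_eq cert) 80575 25 chkP_80575 i (by omega) (by omega)
                · skip
                  exact allRangeF_sound _ _ (checkPointF_eq cert) 80600 25 chkP_80600 i (by omega) (by omega)
              · skip
                rcases Nat.lt_or_ge i 80650 with h8 | h8
                · skip
                  exact allRangeF_sound _ _ (checkPointF_eq cert) 80625 25 chkP_80625 i (by omega) (by omega)
                · skip
                  exact allRangeF_sound _ _ (checkPointF_eq cert) 80650 25 chkP_80650 i (by omega) (by omega)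
            · skip
              rcases Nat.lt_or_ge i 80725 with h7 | h7
              · skip
                rcases Nat.lt_or_ge i 80700 with h8 | h8
                · skip
                  exact allRangeF_sound _ _ (checkPointF_eq cert) 80675 25 chkP_80675 i (by omega) (by omega)
                · skip
                  exact allRangeF_sound _ _ (checkPointF_eq cert) 80700 25 chkP_80700 i (by omega) (by omega)
              · skip
                rcases Nat.lt_or_ge i 80750 with h8 | h8
                · skip
                  exact allRangeF_sound _ _ (checkPointF_eq cert) 80725 25 chkP_80725 i (by omega) (by omega)
                · skip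
                  rcases Nat.lt_or_ge i 80775 with h9 | h9
                  · skip
                    exact allRangeF_sound _ _ (checkPointF_eq cert) 80750 25 chkP_80750 i (by omega) (by omega)
                  · skip
                    exact allRangeF_sound _ _ (checkPointF_eq cert) 80775 25 chkP_80775 i (by omega) (by omega)
          · skip
            rcases Nat.lt_or_ge i 80925 with h6 | h6
            · skip
              rcases Nat.lt_or_ge i 80850 with h7 | h7
              · skip
                rcases Nat.lt_or_ge i 80825 with h8 | h8
                · skip
                  exact allRangeF_sound _ _ (checkPointF_eq cert) 80800 25 chkP_80800 i (by omega) (by omega)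
                · skip
                  exact allRangeF_sound _ _ (checkPointF_eq cert) 80825 25 chkP_80825 i (by omega) (by omega)
              · skip
                rcases Nat.lt_or_ge i 80875 with h8 | h8
                · skip
                  exact allRangeF_sound _ _ (checkPointF_eq cert) 80850 25 chkP_80850 i (by omega) (by omega)
                · skip
                  rcases Nat.lt_or_ge i 80900 with h9 | h9
                  · skip
                    exact allRangeF_sound _ _ (checkPointF_eq cert) 80875 25 chkP_80875 i (by omega) (by omega)
                  · skip
                    exact allRangeF_sound _ _ (checkPointF_eq cert) 80900 25 chkP_80900 i (by omega) (by omega)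
            · skip
              rcases Nat.lt_or_ge i 80975 with h7 | h7
              · skip
                rcases Nat.lt_or_ge i 80950 with h8 | h8
                · skip
                  exact allRangeF_sound _ _ (checkPointF_eq cert) 80925 25 chkP_80925 i (by omega) (by omega)
                · skip
                  exact allRangeF_sound _ _ (checkPointF_eq cert) 80950 25 chkP_80950 i (by omega) (by omega)
              · skip
                rcases Nat.lt_or_ge i 81000 with h8 | h8
                · skip
                  exact allRangeF_sound _ _ (checkPointF_eq cert) 80975 25 chkP_80975 i (by omega) (by omega)
                · skip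
                  rcases Nat.lt_or_ge i 81025 with h9 | h9
                  · skip
                    exact allRangeF_sound _ _ (checkPointF_eq cert) 81000 25 chkP_81000 i (by omega) (by omega)
                  · skip
                    exact allRangeF_sound _ _ (checkPointF_eq cert) 81025 25 chkP_81025 i (by omega) (by omega)
        · skip
          rcases Nat.lt_or_ge i 81275 with h5 | h5
          · skip
            rcases Nat.lt_or_ge i 81150 with h6 | h6
            · skip
              rcases Nat.lt_or_ge i 81100 with h7 | h7
              · skip
                rcases Nat.lt_or_ge i 81075 with h8 | h8
                · skip
                  exact allRangeF_sound _ _ (checkPointF_eq cert) 81050 25 chkP_81050 i (by omega) (by omega)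
                · skip
                  exact allRangeF_sound _ _ (checkPointF_eq cert) 81075 25 chkP_81075 i (by omega) (by omega)
              · skip
                rcases Nat.lt_or_ge i 81125 with h8 | h8
                · skip
                  exact allRangeF_sound _ _ (checkPointF_eq cert) 81100 25 chkP_81100 i (by omega) (by omega)
                · skip
                  exact allRangeF_sound _ _ (checkPointF_eq cert) 81125 25 chkP_81125 i (by omega) (by omega)
            · skip
              rcases Nat.lt_or_ge i 81200 with h7 | h7
              · skip
                rcases Nat.lt_or_ge i 81175 with h8 | h8
                · skip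
                  exact allRangeF_sound _ _ (checkPointF_eq cert) 81150 25 chkP_81150 i (by omega) (by omega)
                · skip
                  exact allRangeF_sound _ _ (checkPointF_eq cert) 81175 25 chkP_81175 i (by omega) (by omega)
              · skip
                rcases Nat.lt_or_ge i 81225 with h8 | h8
                · skip
                  exact allRangeF_sound _ _ (checkPointF_eq cert) 81200 25 chkP_81200 i (by omega) (by omega)
                · skip
                  rcases Nat.lt_or_ge i 81250 with h9 | h9
                  · skip
                    exact allRangeF_sound _ _ (checkPointF_eq cert) 81225 25 chkP_81225 i (by omega) (by omega)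
                  · skip
                    exact allRangeF_sound _ _ (checkPointF_eq cert) 81250 25 chkP_81250 i (by omega) (by omega)
          · skip
            rcases Nat.lt_or_ge i 81400 with h6 | h6
            · skip
              rcases Nat.lt_or_ge i 81325 with h7 | h7
              · skip
                rcases Nat.lt_or_ge i 81300 with h8 | h8
                · skip
                  exact allRangeF_sound _ _ (checkPointF_eq cert) 81275 25 chkP_81275 i (by omega) (by omega)
                · skip
                  exact allRangeF_sound _ _ (checkPointF_eq cert) 81300 25 chkP_81300 i (by omega) (by omega)
              · skip
                rcases Nat.lt_or_ge i 81350 with h8 | h8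
                · skip
                  exact allRangeF_sound _ _ (checkPointF_eq cert) 81325 25 chkP_81325 i (by omega) (by omega)
                · skip
                  rcases Nat.lt_or_ge i 81375 with h9 | h9
                  · skip
                    exact allRangeF_sound _ _ (checkPointF_eq cert) 81350 25 chkP_81350 i (by omega) (by omega)
                  · skip
                    exact allRangeF_sound _ _ (checkPointF_eq cert) 81375 25 chkP_81375 i (by omega) (by omega)
            · skip
              rcases Nat.lt_or_ge i 81450 with h7 | h7
              · skip
                rcases Nat.lt_or_ge i 81425 with h8 | h8
                · skip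
                  exact allRangeF_sound _ _ (checkPointF_eq cert) 81400 25 chkP_81400 i (by omega) (by omega)
                · skip
                  exact allRangeF_sound _ _ (checkPointF_eq cert) 81425 25 chkP_81425 i (by omega) (by omega)
              · skip
                rcases Nat.lt_or_ge i 81475 with h8 | h8
                · skip
                  exact allRangeF_sound _ _ (checkPointF_eq cert) 81450 25 chkP_81450 i (by omega) (by omega)
                · skip
                  rcases Nat.lt_or_ge i 81500 with h9 | h9
                  · skip
                    exact allRangeF_sound _ _ (checkPointF_eq cert) 81475 25 chkP_81475 i (by omega) (by omega)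
                  · skip
                    exact allRangeF_sound _ _ (checkPointF_eq cert) 81500 25 chkP_81500 i (by omega) (by omega)
      · skip
        rcases Nat.lt_or_ge i 82000 with h4 | h4
        · skip
          rcases Nat.lt_or_ge i 81750 with h5 | h5
          · skip
            rcases Nat.lt_or_ge i 81625 with h6 | h6
            · skip
              rcases Nat.lt_or_ge i 81575 with h7 | h7
              · skip
                rcases Nat.lt_or_ge i 81550 with h8 | h8
                · skip
                  exact allRangeF_sound _ _ (checkPointF_eq cert) 81525 25 chkP_81525 i (by omega) (by omega)
                · skip
                  exact allRangeF_sound _ _ (checkPointF_eq cert) 81550 25 chkP_81550 i (by omega) (by omega)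
              · skip
                rcases Nat.lt_or_ge i 81600 with h8 | h8
                · skip
                  exact allRangeF_sound _ _ (checkPointF_eq cert) 81575 25 chkP_81575 i (by omega) (by omega)
                · skip
                  exact allRangeF_sound _ _ (checkPointF_eq cert) 81600 25 chkP_81600 i (by omega) (by omega)
            · skip
              rcases Nat.lt_or_ge i 81675 with h7 | h7
              · skip
                rcases Nat.lt_or_ge i 81650 with h8 | h8
                · skip
                  exact allRangeF_sound _ _ (checkPointF_eq cert) 81625 25 chkP_81625 i (by omega) (by omega)
                · skip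
                  exact allRangeF_sound _ _ (checkPointF_eq cert) 81650 25 chkP_81650 i (by omega) (by omega)
              · skip
                rcases Nat.lt_or_ge i 81700 with h8 | h8
                · skip
                  exact allRangeF_sound _ _ (checkPointF_eq cert) 81675 25 chkP_81675 i (by omega) (by omega)
                · skip
                  rcases Nat.lt_or_ge i 81725 with h9 | h9
                  · skip
                    exact allRangeF_sound _ _ (checkPointF_eq cert) 81700 25 chkP_81700 i (by omega) (by omega)
                  · skip
                    exact allRangeF_sound _ _ (checkPointF_eq cert) 81725 25 chkP_81725 i (by omega) (by omega)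
          · skip
            rcases Nat.lt_or_ge i 81875 with h6 | h6
            · skip
              rcases Nat.lt_or_ge i 81800 with h7 | h7
              · skip
                rcases Nat.lt_or_ge i 81775 with h8 | h8
                · skip
                  exact allRangeF_sound _ _ (checkPointF_eq cert) 81750 25 chkP_81750 i (by omega) (by omega)
                · skip
                  exact allRangeF_sound _ _ (checkPointF_eq cert) 81775 25 chkP_81775 i (by omega) (by omega)
              · skip
                rcases Nat.lt_or_ge i 81825 with h8 | h8
                · skip
                  exact allRangeF_sound _ _ (checkPointF_eq cert) 81800 25 chkP_81800 i (by omega) (by omega)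
                · skip
                  rcases Nat.lt_or_ge i 81850 with h9 | h9
                  · skip
                    exact allRangeF_sound _ _ (checkPointF_eq cert) 81825 25 chkP_81825 i (by omega) (by omega)
                  · skip
                    exact allRangeF_sound _ _ (checkPointF_eq cert) 81850 25 chkP_81850 i (by omega) (by omega)
            · skip
              rcases Nat.lt_or_ge i 81925 with h7 | h7
              · skip
                rcases Nat.lt_or_ge i 81900 with h8 | h8
                · skip
                  exact allRangeF_sound _ _ (checkPointF_eq cert) 81875 25 chkP_81875 i (by omega) (by omega)
                · skip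
                  exact allRangeF_sound _ _ (checkPointF_eq cert) 81900 25 chkP_81900 i (by omega) (by omega)
              · skip
                rcases Nat.lt_or_ge i 81950 with h8 | h8
                · skip
                  exact allRangeF_sound _ _ (checkPointF_eq cert) 81925 25 chkP_81925 i (by omega) (by omega)
                · skip
                  rcases Nat.lt_or_ge i 81975 with h9 | h9
                  · skip
                    exact allRangeF_sound _ _ (checkPointF_eq cert) 81950 25 chkP_81950 i (by omega) (by omega)
                  · skip
                    exact allRangeF_sound _ _ (checkPointF_eq cert) 81975 25 chkP_81975 i (by omega) (by omega)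
        · skip
          rcases Nat.lt_or_ge i 82250 with h5 | h5
          · skip
            rcases Nat.lt_or_ge i 82125 with h6 | h6
            · skip
              rcases Nat.lt_or_ge i 82050 with h7 | h7
              · skip
                rcases Nat.lt_or_ge i 82025 with h8 | h8
                · skip
                  exact allRangeF_sound _ _ (checkPointF_eq cert) 82000 25 chkP_82000 i (by omega) (by omega)
                · skip
                  exact allRangeF_sound _ _ (checkPointF_eq cert) 82025 25 chkP_82025 i (by omega) (by omega)
              · skip
                rcases Nat.lt_or_ge i 82075 with h8 | h8
                · skip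
                  exact allRangeF_sound _ _ (checkPointF_eq cert) 82050 25 chkP_82050 i (by omega) (by omega)
                · skip
                  rcases Nat.lt_or_ge i 82100 with h9 | h9
                  · skip
                    exact allRangeF_sound _ _ (checkPointF_eq cert) 82075 25 chkP_82075 i (by omega) (by omega)
                  · skip
                    exact allRangeF_sound _ _ (checkPointF_eq cert) 82100 25 chkP_82100 i (by omega) (by omega)
            · skip
              rcases Nat.lt_or_ge i 82175 with h7 | h7
              · skip
                rcases Nat.lt_or_ge i 82150 with h8 | h8
                · skip
                  exact allRangeF_sound _ _ (checkPointF_eq cert) 82125 25 chkP_82125 i (by omega) (by omega)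
                · skip
                  exact allRangeF_sound _ _ (checkPointF_eq cert) 82150 25 chkP_82150 i (by omega) (by omega)
              · skip
                rcases Nat.lt_or_ge i 82200 with h8 | h8
                · skip
                  exact allRangeF_sound _ _ (checkPointF_eq cert) 82175 25 chkP_82175 i (by omega) (by omega)
                · skip
                  rcases Nat.lt_or_ge i 82225 with h9 | h9
                  · skip
                    exact allRangeF_sound _ _ (checkPointF_eq cert) 82200 25 chkP_82200 i (by omega) (by omega)
                  · skip
                    exact allRangeF_sound _ _ (checkPointF_eq cert) 82225 25 chkP_82225 i (by omega) (by omega)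
          · skip
            rcases Nat.lt_or_ge i 82375 with h6 | h6
            · skip
              rcases Nat.lt_or_ge i 82300 with h7 | h7
              · skip
                rcases Nat.lt_or_ge i 82275 with h8 | h8
                · skip
                  exact allRangeF_sound _ _ (checkPointF_eq cert) 82250 25 chkP_82250 i (by omega) (by omega)
                · skip
                  exact allRangeF_sound _ _ (checkPointF_eq cert) 82275 25 chkP_82275 i (by omega) (by omega)
              · skip
                rcases Nat.lt_or_ge i 82325 with h8 | h8
                · skip
                  exact allRangeF_sound _ _ (checkPointF_eq cert) 82300 25 chkP_82300 i (by omega) (by omega)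
                · skip
                  rcases Nat.lt_or_ge i 82350 with h9 | h9
                  · skip
                    exact allRangeF_sound _ _ (checkPointF_eq cert) 82325 25 chkP_82325 i (by omega) (by omega)
                  · skip
                    exact allRangeF_sound _ _ (checkPointF_eq cert) 82350 25 chkP_82350 i (by omega) (by omega)
            · skip
              rcases Nat.lt_or_ge i 82425 with h7 | h7
              · skip
                rcases Nat.lt_or_ge i 82400 with h8 | h8
                · skip
                  exact allRangeF_sound _ _ (checkPointF_eq cert) 82375 25 chkP_82375 i (by omega) (by omega)
                · skip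
                  exact allRangeF_sound _ _ (checkPointF_eq cert) 82400 25 chkP_82400 i (by omega) (by omega)
              · skip
                rcases Nat.lt_or_ge i 82450 with h8 | h8
                · skip
                  exact allRangeF_sound _ _ (checkPointF_eq cert) 82425 25 chkP_82425 i (by omega) (by omega)
                · skip
                  rcases Nat.lt_or_ge i 82475 with h9 | h9
                  · skip
                    exact allRangeF_sound _ _ (checkPointF_eq cert) 82450 25 chkP_82450 i (by omega) (by omega)
                  · skip
                    exact allRangeF_sound _ _ (checkPointF_eq cert) 82475 25 chkP_82475 i (by omega) (by omega)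
    · skip
      rcases Nat.lt_or_ge i 83450 with h3 | h3
      · skip
        rcases Nat.lt_or_ge i 82975 with h4 | h4
        · skip
          rcases Nat.lt_or_ge i 82725 with h5 | h5
          · skip
            rcases Nat.lt_or_ge i 82600 with h6 | h6
            · skip
              rcases Nat.lt_or_ge i 82550 with h7 | h7
              · skip
                rcases Nat.lt_or_ge i 82525 with h8 | h8
                · skip
                  exact allRangeF_sound _ _ (checkPointF_eq cert) 82500 25 chkP_82500 i (by omega) (by omega)
                · skip
                  exact allRangeF_sound _ _ (checkPointF_eq cert) 82525 25 chkP_82525 i (by omega) (by omega)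
              · skip
                rcases Nat.lt_or_ge i 82575 with h8 | h8
                · skip
                  exact allRangeF_sound _ _ (checkPointF_eq cert) 82550 25 chkP_82550 i (by omega) (by omega)
                · skip
                  exact allRangeF_sound _ _ (checkPointF_eq cert) 82575 25 chkP_82575 i (by omega) (by omega)
            · skip
              rcases Nat.lt_or_ge i 82650 with h7 | h7
              · skip
                rcases Nat.lt_or_ge i 82625 with h8 | h8
                · skip
                  exact allRangeF_sound _ _ (checkPointF_eq cert) 82600 25 chkP_82600 i (by omega) (by omega)
                · skip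
                  exact allRangeF_sound _ _ (checkPointF_eq cert) 82625 25 chkP_82625 i (by omega) (by omega)
              · skip
                rcases Nat.lt_or_ge i 82675 with h8 | h8
                · skip
                  exact allRangeF_sound _ _ (checkPointF_eq cert) 82650 25 chkP_82650 i (by omega) (by omega)
                · skip
                  rcases Nat.lt_or_ge i 82700 with h9 | h9
                  · skip
                    exact allRangeF_sound _ _ (checkPointF_eq cert) 82675 25 chkP_82675 i (by omega) (by omega)
                  · skip
                    exact allRangeF_sound _ _ (checkPointF_eq cert) 82700 25 chkP_82700 i (by omega) (by omega)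
          · skip
            rcases Nat.lt_or_ge i 82850 with h6 | h6
            · skip
              rcases Nat.lt_or_ge i 82775 with h7 | h7
              · skip
                rcases Nat.lt_or_ge i 82750 with h8 | h8
                · skip
                  exact allRangeF_sound _ _ (checkPointF_eq cert) 82725 25 chkP_82725 i (by omega) (by omega)
                · skip
                  exact allRangeF_sound _ _ (checkPointF_eq cert) 82750 25 chkP_82750 i (by omega) (by omega)
              · skip
                rcases Nat.lt_or_ge i 82800 with h8 | h8
                · skip
                  exact allRangeF_sound _ _ (checkPointF_eq cert) 82775 25 chkP_82775 i (by omega) (by omega)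
                · skip
                  rcases Nat.lt_or_ge i 82825 with h9 | h9
                  · skip
                    exact allRangeF_sound _ _ (checkPointF_eq cert) 82800 25 chkP_82800 i (by omega) (by omega)
                  · skip
                    exact allRangeF_sound _ _ (checkPointF_eq cert) 82825 25 chkP_82825 i (by omega) (by omega)
            · skip
              rcases Nat.lt_or_ge i 82900 with h7 | h7
              · skip
                rcases Nat.lt_or_ge i 82875 with h8 | h8
                · skip
                  exact allRangeF_sound _ _ (checkPointF_eq cert) 82850 25 chkP_82850 i (by omega) (by omega)
                · skip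
                  exact allRangeF_sound _ _ (checkPointF_eq cert) 82875 25 chkP_82875 i (by omega) (by omega)
              · skip
                rcases Nat.lt_or_ge i 82925 with h8 | h8
                · skip
                  exact allRangeF_sound _ _ (checkPointF_eq cert) 82900 25 chkP_82900 i (by omega) (by omega)
                · skip
                  rcases Nat.lt_or_ge i 82950 with h9 | h9
                  · skip
                    exact allRangeF_sound _ _ (checkPointF_eq cert) 82925 25 chkP_82925 i (by omega) (by omega)
                  · skip
                    exact allRangeF_sound _ _ (checkPointF_eq cert) 82950 25 chkP_82950 i (by omega) (by omega)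
        · skip
          rcases Nat.lt_or_ge i 83200 with h5 | h5
          · skip
            rcases Nat.lt_or_ge i 83075 with h6 | h6
            · skip
              rcases Nat.lt_or_ge i 83025 with h7 | h7
              · skip
                rcases Nat.lt_or_ge i 83000 with h8 | h8
                · skip
                  exact allRangeF_sound _ _ (checkPointF_eq cert) 82975 25 chkP_82975 i (by omega) (by omega)
                · skip
                  exact allRangeF_sound _ _ (checkPointF_eq cert) 83000 25 chkP_83000 i (by omega) (by omega)
              · skip
                rcases Nat.lt_or_ge i 83050 with h8 | h8
                · skip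
                  exact allRangeF_sound _ _ (checkPointF_eq cert) 83025 25 chkP_83025 i (by omega) (by omega)
                · skip
                  exact allRangeF_sound _ _ (checkPointF_eq cert) 83050 25 chkP_83050 i (by omega) (by omega)
            · skip
              rcases Nat.lt_or_ge i 83125 with h7 | h7
              · skip
                rcases Nat.lt_or_ge i 83100 with h8 | h8
                · skip
                  exact allRangeF_sound _ _ (checkPointF_eq cert) 83075 25 chkP_83075 i (by omega) (by omega)
                · skip
                  exact allRangeF_sound _ _ (checkPointF_eq cert) 83100 25 chkP_83100 i (by omega) (by omega)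
              · skip
                rcases Nat.lt_or_ge i 83150 with h8 | h8
                · skip
                  exact allRangeF_sound _ _ (checkPointF_eq cert) 83125 25 chkP_83125 i (by omega) (by omega)
                · skip
                  rcases Nat.lt_or_ge i 83175 with h9 | h9
                  · skip
                    exact allRangeF_sound _ _ (checkPointF_eq cert) 83150 25 chkP_83150 i (by omega) (by omega)
                  · skip
                    exact allRangeF_sound _ _ (checkPointF_eq cert) 83175 25 chkP_83175 i (by omega) (by omega)
          · skip
            rcases Nat.lt_or_ge i 83325 with h6 | h6
            · skip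
              rcases Nat.lt_or_ge i 83250 with h7 | h7
              · skip
                rcases Nat.lt_or_ge i 83225 with h8 | h8
                · skip
                  exact allRangeF_sound _ _ (checkPointF_eq cert) 83200 25 chkP_83200 i (by omega) (by omega)
                · skip
                  exact allRangeF_sound _ _ (checkPointF_eq cert) 83225 25 chkP_83225 i (by omega) (by omega)
              · skip
                rcases Nat.lt_or_ge i 83275 with h8 | h8
                · skip
                  exact allRangeF_sound _ _ (checkPointF_eq cert) 83250 25 chkP_83250 i (by omega) (by omega)
                · skip
                  rcases Nat.lt_or_ge i 83300 with h9 | h9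
                  · skip
                    exact allRangeF_sound _ _ (checkPointF_eq cert) 83275 25 chkP_83275 i (by omega) (by omega)
                  · skip
                    exact allRangeF_sound _ _ (checkPointF_eq cert) 83300 25 chkP_83300 i (by omega) (by omega)
            · skip
              rcases Nat.lt_or_ge i 83375 with h7 | h7
              · skip
                rcases Nat.lt_or_ge i 83350 with h8 | h8
                · skip
                  exact allRangeF_sound _ _ (checkPointF_eq cert) 83325 25 chkP_83325 i (by omega) (by omega)
                · skip
                  exact allRangeF_sound _ _ (checkPointF_eq cert) 83350 25 chkP_83350 i (by omega) (by omega)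
              · skip
                rcases Nat.lt_or_ge i 83400 with h8 | h8
                · skip
                  exact allRangeF_sound _ _ (checkPointF_eq cert) 83375 25 chkP_83375 i (by omega) (by omega)
                · skip
                  rcases Nat.lt_or_ge i 83425 with h9 | h9
                  · skip
                    exact allRangeF_sound _ _ (checkPointF_eq cert) 83400 25 chkP_83400 i (by omega) (by omega)
                  · skip
                    exact allRangeF_sound _ _ (checkPointF_eq cert) 83425 25 chkP_83425 i (by omega) (by omega)
      · skip
        rcases Nat.lt_or_ge i 83925 with h4 | h4
        · skip
          rcases Nat.lt_or_ge i 83675 with h5 | h5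
          · skip
            rcases Nat.lt_or_ge i 83550 with h6 | h6
            · skip
              rcases Nat.lt_or_ge i 83500 with h7 | h7
              · skip
                rcases Nat.lt_or_ge i 83475 with h8 | h8
                · skip
                  exact allRangeF_sound _ _ (checkPointF_eq cert) 83450 25 chkP_83450 i (by omega) (by omega)
                · skip
                  exact allRangeF_sound _ _ (checkPointF_eq cert) 83475 25 chkP_83475 i (by omega) (by omega)
              · skip
                rcases Nat.lt_or_ge i 83525 with h8 | h8
                · skip
                  exact allRangeF_sound _ _ (checkPointF_eq cert) 83500 25 chkP_83500 i (by omega) (by omega)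
                · skip
                  exact allRangeF_sound _ _ (checkPointF_eq cert) 83525 25 chkP_83525 i (by omega) (by omega)
            · skip
              rcases Nat.lt_or_ge i 83600 with h7 | h7
              · skip
                rcases Nat.lt_or_ge i 83575 with h8 | h8
                · skip
                  exact allRangeF_sound _ _ (checkPointF_eq cert) 83550 25 chkP_83550 i (by omega) (by omega)
                · skip
                  exact allRangeF_sound _ _ (checkPointF_eq cert) 83575 25 chkP_83575 i (by omega) (by omega)
              · skip
                rcases Nat.lt_or_ge i 83625 with h8 | h8
                · skip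
                  exact allRangeF_sound _ _ (checkPointF_eq cert) 83600 25 chkP_83600 i (by omega) (by omega)
                · skip
                  rcases Nat.lt_or_ge i 83650 with h9 | h9
                  · skip
                    exact allRangeF_sound _ _ (checkPointF_eq cert) 83625 25 chkP_83625 i (by omega) (by omega)
                  · skip
                    exact allRangeF_sound _ _ (checkPointF_eq cert) 83650 25 chkP_83650 i (by omega) (by omega)
          · skip
            rcases Nat.lt_or_ge i 83800 with h6 | h6
            · skip
              rcases Nat.lt_or_ge i 83725 with h7 | h7
              · skip
                rcases Nat.lt_or_ge i 83700 with h8 | h8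
                · skip
                  exact allRangeF_sound _ _ (checkPointF_eq cert) 83675 25 chkP_83675 i (by omega) (by omega)
                · skip
                  exact allRangeF_sound _ _ (checkPointF_eq cert) 83700 25 chkP_83700 i (by omega) (by omega)
              · skip
                rcases Nat.lt_or_ge i 83750 with h8 | h8
                · skip
                  exact allRangeF_sound _ _ (checkPointF_eq cert) 83725 25 chkP_83725 i (by omega) (by omega)
                · skip
                  rcases Nat.lt_or_ge i 83775 with h9 | h9
                  · skip
                    exact allRangeF_sound _ _ (checkPointF_eq cert) 83750 25 chkP_83750 i (by omega) (by omega)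
                  · skip
                    exact allRangeF_sound _ _ (checkPointF_eq cert) 83775 25 chkP_83775 i (by omega) (by omega)
            · skip
              rcases Nat.lt_or_ge i 83850 with h7 | h7
              · skip
                rcases Nat.lt_or_ge i 83825 with h8 | h8
                · skip
                  exact allRangeF_sound _ _ (checkPointF_eq cert) 83800 25 chkP_83800 i (by omega) (by omega)
                · skip
                  exact allRangeF_sound _ _ (checkPointF_eq cert) 83825 25 chkP_83825 i (by omega) (by omega)
              · skip
                rcases Nat.lt_or_ge i 83875 with h8 | h8
                · skip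
                  exact allRangeF_sound _ _ (checkPointF_eq cert) 83850 25 chkP_83850 i (by omega) (by omega)
                · skip
                  rcases Nat.lt_or_ge i 83900 with h9 | h9
                  · skip
                    exact allRangeF_sound _ _ (checkPointF_eq cert) 83875 25 chkP_83875 i (by omega) (by omega)
                  · skip
                    exact allRangeF_sound _ _ (checkPointF_eq cert) 83900 25 chkP_83900 i (by omega) (by omega)
        · skip
          rcases Nat.lt_or_ge i 84175 with h5 | h5
          · skip
            rcases Nat.lt_or_ge i 84050 with h6 | h6
            · skip
              rcases Nat.lt_or_ge i 83975 with h7 | h7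
              · skip
                rcases Nat.lt_or_ge i 83950 with h8 | h8
                · skip
                  exact allRangeF_sound _ _ (checkPointF_eq cert) 83925 25 chkP_83925 i (by omega) (by omega)
                · skip
                  exact allRangeF_sound _ _ (checkPointF_eq cert) 83950 25 chkP_83950 i (by omega) (by omega)
              · skip
                rcases Nat.lt_or_ge i 84000 with h8 | h8
                · skip
                  exact allRangeF_sound _ _ (checkPointF_eq cert) 83975 25 chkP_83975 i (by omega) (by omega)
                · skip
                  rcases Nat.lt_or_ge i 84025 with h9 | h9
                  · skip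
                    exact allRangeF_sound _ _ (checkPointF_eq cert) 84000 25 chkP_84000 i (by omega) (by omega)
                  · skip
                    exact allRangeF_sound _ _ (checkPointF_eq cert) 84025 25 chkP_84025 i (by omega) (by omega)
            · skip
              rcases Nat.lt_or_ge i 84100 with h7 | h7
              · skip
                rcases Nat.lt_or_ge i 84075 with h8 | h8
                · skip
                  exact allRangeF_sound _ _ (checkPointF_eq cert) 84050 25 chkP_84050 i (by omega) (by omega)
                · skip
                  exact allRangeF_sound _ _ (checkPointF_eq cert) 84075 25 chkP_84075 i (by omega) (by omega)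
              · skip
                rcases Nat.lt_or_ge i 84125 with h8 | h8
                · skip
                  exact allRangeF_sound _ _ (checkPointF_eq cert) 84100 25 chkP_84100 i (by omega) (by omega)
                · skip
                  rcases Nat.lt_or_ge i 84150 with h9 | h9
                  · skip
                    exact allRangeF_sound _ _ (checkPointF_eq cert) 84125 25 chkP_84125 i (by omega) (by omega)
                  · skip
                    exact allRangeF_sound _ _ (checkPointF_eq cert) 84150 25 chkP_84150 i (by omega) (by omega)
          · skip
            rcases Nat.lt_or_ge i 84300 with h6 | h6
            · skip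
              rcases Nat.lt_or_ge i 84225 with h7 | h7
              · skip
                rcases Nat.lt_or_ge i 84200 with h8 | h8
                · skip
                  exact allRangeF_sound _ _ (checkPointF_eq cert) 84175 25 chkP_84175 i (by omega) (by omega)
                · skip
                  exact allRangeF_sound _ _ (checkPointF_eq cert) 84200 25 chkP_84200 i (by omega) (by omega)
              · skip
                rcases Nat.lt_or_ge i 84250 with h8 | h8
                · skip
                  exact allRangeF_sound _ _ (checkPointF_eq cert) 84225 25 chkP_84225 i (by omega) (by omega)
                · skip
                  rcases Nat.lt_or_ge i 84275 with h9 | h9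
                  · skip
                    exact allRangeF_sound _ _ (checkPointF_eq cert) 84250 25 chkP_84250 i (by omega) (by omega)
                  · skip
                    exact allRangeF_sound _ _ (checkPointF_eq cert) 84275 25 chkP_84275 i (by omega) (by omega)
            · skip
              rcases Nat.lt_or_ge i 84350 with h7 | h7
              · skip
                rcases Nat.lt_or_ge i 84325 with h8 | h8
                · skip
                  exact allRangeF_sound _ _ (checkPointF_eq cert) 84300 25 chkP_84300 i (by omega) (by omega)
                · skip
                  exact allRangeF_sound _ _ (checkPointF_eq cert) 84325 25 chkP_84325 i (by omega) (by omega)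
              · skip
                rcases Nat.lt_or_ge i 84375 with h8 | h8
                · skip
                  exact allRangeF_sound _ _ (checkPointF_eq cert) 84350 25 chkP_84350 i (by omega) (by omega)
                · skip
                  rcases Nat.lt_or_ge i 84400 with h9 | h9
                  · skip
                    exact allRangeF_sound _ _ (checkPointF_eq cert) 84375 25 chkP_84375 i (by omega) (by omega)
                  · skip
                    exact allRangeF_sound _ _ (checkPointF_eq cert) 84400 25 chkP_84400 i (by omega) (by omega)

end Cfsg.Agent.Lib.Helper28.Fi24Data
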