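import Cfsg.Agent.Lib.Helper28.Fi24Data
import Cfsg.Agent.Lib.Helper28.TCFastB

set_option autoImplicit false
set_option maxRecDepth 1000000
set_option linter.all false
set_option Elab.async false

namespace Cfsg.Agent.Lib.Helper28.Fi24Data

open Cfsg.Agent.Lib.Helper28B

theorem chkP_84425 : allRangeF (checkPointF cert) (nat_lit 84425) (nat_lit 25) = true := by decide +kernel
theorem chkP_84450 : allRangeF (checkPointF cert) (nat_lit 84450) (nat_lit 25) = true := by decide +kernel
theorem chkP_84475 : allRangeF (checkPointF cert) (nat_lit 84475) (nat_lit 25) = true := by decide +kernel
theorem chkP_84500 : allRangeF (checkPointF cert) (nat_lit 84500) (nat_lit 25) = true := by decide +kernel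
theorem chkP_84525 : allRangeF (checkPointF cert) (nat_lit 84525) (nat_lit 25) = true := by decide +kernel
theorem chkP_84550 : allRangeF (checkPointF cert) (nat_lit 84550) (nat_lit 25) = true := by decide +kernel
theorem chkP_84575 : allRangeF (checkPointF cert) (nat_lit 84575) (nat_lit 25) = true := by decide +kernel
theorem chkP_84600 : allRangeF (checkPointF cert) (nat_lit 84600) (nat_lit 25) = true := by decide +kernel
theorem chkP_84625 : allRangeF (checkPointF cert) (nat_lit 84625) (nat_lit 25) = true := by decide +kernel
theorem chkP_84650 : allRangeF (checkPointF cert) (nat_lit 84650) (nat_lit 25) = true := by decide +kernel
theorem chkP_84675 : allRangeF (checkPointF cert) (nat_lit 84675) (nat_lit 25) = true := by decide +kernel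
theorem chkP_84700 : allRangeF (checkPointF cert) (nat_lit 84700) (nat_lit 25) = true := by decide +kernel
theorem chkP_84725 : allRangeF (checkPointF cert) (nat_lit 84725) (nat_lit 25) = true := by decide +kernel
theorem chkP_84750 : allRangeF (checkPointF cert) (nat_lit 84750) (nat_lit 25) = true := by decide +kernel
theorem chkP_84775 : allRangeF (checkPointF cert) (nat_lit 84775) (nat_lit 25) = true := by decide +kernel
theorem chkP_84800 : allRangeF (checkPointF cert) (nat_lit 84800) (nat_lit 25) = true := by decide +kernel
theorem chkP_84825 : allRangeF (checkPointF cert) (nat_lit 84825) (nat_lit 25) = true := by decide +kernel
theorem chkP_84850 : allRangeF (checkPointF cert) (nat_lit 84850) (nat_lit 25) = true := by decide +kernel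
theorem chkP_84875 : allRangeF (checkPointF cert) (nat_lit 84875) (nat_lit 25) = true := by decide +kernel
theorem chkP_84900 : allRangeF (checkPointF cert) (nat_lit 84900) (nat_lit 25) = true := by decide +kernel
theorem chkP_84925 : allRangeF (checkPointF cert) (nat_lit 84925) (nat_lit 25) = true := by decide +kernel
theorem chkP_84950 : allRangeF (checkPointF cert) (nat_lit 84950) (nat_lit 25) = true := by decide +kernel
theorem chkP_84975 : allRangeF (checkPointF cert) (nat_lit 84975) (nat_lit 25) = true := by decide +kernel
theorem chkP_85000 : allRangeF (checkPointF cert) (nat_lit 85000) (nat_lit 25) = true := by decide +kernel
theorem chkP_85025 : allRangeF (checkPointF cert) (nat_lit 85025) (nat_lit 25) = true := by decide +kernel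
theorem chkP_85050 : allRangeF (checkPointF cert) (nat_lit 85050) (nat_lit 25) = true := by decide +kernel
theorem chkP_85075 : allRangeF (checkPointF cert) (nat_lit 85075) (nat_lit 25) = true := by decide +kernel
theorem chkP_85100 : allRangeF (checkPointF cert) (nat_lit 85100) (nat_lit 25) = true := by decide +kernel
theorem chkP_85125 : allRangeF (checkPointF cert) (nat_lit 85125) (nat_lit 25) = true := by decide +kernel
theorem chkP_85150 : allRangeF (checkPointF cert) (nat_lit 85150) (nat_lit 25) = true := by decide +kernel
theorem chkP_85175 : allRangeF (checkPointF cert) (nat_lit 85175) (nat_lit 25) = true := by decide +kernel
theorem chkP_85200 : allRangeF (checkPointF cert) (nat_lit 85200) (nat_lit 25) = true := by decide +kernel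
theorem chkP_85225 : allRangeF (checkPointF cert) (nat_lit 85225) (nat_lit 25) = true := by decide +kernel
theorem chkP_85250 : allRangeF (checkPointF cert) (nat_lit 85250) (nat_lit 25) = true := by decide +kernel
theorem chkP_85275 : allRangeF (checkPointF cert) (nat_lit 85275) (nat_lit 25) = true := by decide +kernel
theorem chkP_85300 : allRangeF (checkPointF cert) (nat_lit 85300) (nat_lit 25) = true := by decide +kernel
theorem chkP_85325 : allRangeF (checkPointF cert) (nat_lit 85325) (nat_lit 25) = true := by decide +kernel
theorem chkP_85350 : allRangeF (checkPointF cert) (nat_lit 85350) (nat_lit 25) = true := by decide +kernel
theorem chkP_85375 : allRangeF (checkPointF cert) (nat_lit 85375) (nat_lit 25) = true := by decide +kernel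
theorem chkP_85400 : allRangeF (checkPointF cert) (nat_lit 85400) (nat_lit 25) = true := by decide +kernel
theorem chkP_85425 : allRangeF (checkPointF cert) (nat_lit 85425) (nat_lit 25) = true := by decide +kernel
theorem chkP_85450 : allRangeF (checkPointF cert) (nat_lit 85450) (nat_lit 25) = true := by decide +kernel
theorem chkP_85475 : allRangeF (checkPointF cert) (nat_lit 85475) (nat_lit 25) = true := by decide +kernel
theorem chkP_85500 : allRangeF (checkPointF cert) (nat_lit 85500) (nat_lit 25) = true := by decide +kernel
theorem chkP_85525 : allRangeF (checkPointF cert) (nat_lit 85525) (nat_lit 25) = true := by decide +kernel
theorem chkP_85550 : allRangeF (checkPointF cert) (nat_lit 85550) (nat_lit 25) = true := by decide +kernel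
theorem chkP_85575 : allRangeF (checkPointF cert) (nat_lit 85575) (nat_lit 25) = true := by decide +kernel
theorem chkP_85600 : allRangeF (checkPointF cert) (nat_lit 85600) (nat_lit 25) = true := by decide +kernel
theorem chkP_85625 : allRangeF (checkPointF cert) (nat_lit 85625) (nat_lit 25) = true := by decide +kernel
theorem chkP_85650 : allRangeF (checkPointF cert) (nat_lit 85650) (nat_lit 25) = true := by decide +kernel
theorem chkP_85675 : allRangeF (checkPointF cert) (nat_lit 85675) (nat_lit 25) = true := by decide +kernel
theorem chkP_85700 : allRangeF (checkPointF cert) (nat_lit 85700) (nat_lit 25) = true := by decide +kernel
theorem chkP_85725 : allRangeF (checkPointF cert) (nat_lit 85725) (nat_lit 25) = true := by decide +kernel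
theorem chkP_85750 : allRangeF (checkPointF cert) (nat_lit 85750) (nat_lit 25) = true := by decide +kernel
theorem chkP_85775 : allRangeF (checkPointF cert) (nat_lit 85775) (nat_lit 25) = true := by decide +kernel
theorem chkP_85800 : allRangeF (checkPointF cert) (nat_lit 85800) (nat_lit 25) = true := by decide +kernel
theorem chkP_85825 : allRangeF (checkPointF cert) (nat_lit 85825) (nat_lit 25) = true := by decide +kernel
theorem chkP_85850 : allRangeF (checkPointF cert) (nat_lit 85850) (nat_lit 25) = true := by decide +kernel
theorem chkP_85875 : allRangeF (checkPointF cert) (nat_lit 85875) (nat_lit 25) = true := by decide +kernel
theorem chkP_85900 : allRangeF (checkPointF cert) (nat_lit 85900) (nat_lit 25) = true := by decide +kernel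
theorem chkP_85925 : allRangeF (checkPointF cert) (nat_lit 85925) (nat_lit 25) = true := by decide +kernel
theorem chkP_85950 : allRangeF (checkPointF cert) (nat_lit 85950) (nat_lit 25) = true := by decide +kernel
theorem chkP_85975 : allRangeF (checkPointF cert) (nat_lit 85975) (nat_lit 25) = true := by decide +kernel
theorem chkP_86000 : allRangeF (checkPointF cert) (nat_lit 86000) (nat_lit 25) = true := by decide +kernel
theorem chkP_86025 : allRangeF (checkPointF cert) (nat_lit 86025) (nat_lit 25) = true := by decide +kernel
theorem chkP_86050 : allRangeF (checkPointF cert) (nat_lit 86050) (nat_lit 25) = true := by decide +kernel
theorem chkP_86075 : allRangeF (checkPointF cert) (nat_lit 86075) (nat_lit 25) = true := by decide +kernel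
theorem chkP_86100 : allRangeF (checkPointF cert) (nat_lit 86100) (nat_lit 25) = true := by decide +kernel
theorem chkP_86125 : allRangeF (checkPointF cert) (nat_lit 86125) (nat_lit 25) = true := by decide +kernel
theorem chkP_86150 : allRangeF (checkPointF cert) (nat_lit 86150) (nat_lit 25) = true := by decide +kernel
theorem chkP_86175 : allRangeF (checkPointF cert) (nat_lit 86175) (nat_lit 25) = true := by decide +kernel
theorem chkP_86200 : allRangeF (checkPointF cert) (nat_lit 86200) (nat_lit 25) = true := by decide +kernel
theorem chkP_86225 : allRangeF (checkPointF cert) (nat_lit 86225) (nat_lit 25) = true := by decide +kernel
theorem chkP_86250 : allRangeF (checkPointF cert) (nat_lit 86250) (nat_lit 25) = true := by decide +kernel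
theorem chkP_86275 : allRangeF (checkPointF cert) (nat_lit 86275) (nat_lit 25) = true := by decide +kernel
theorem chkP_86300 : allRangeF (checkPointF cert) (nat_lit 86300) (nat_lit 25) = true := by decide +kernel
theorem chkP_86325 : allRangeF (checkPointF cert) (nat_lit 86325) (nat_lit 25) = true := by decide +kernel
theorem chkP_86350 : allRangeF (checkPointF cert) (nat_lit 86350) (nat_lit 25) = true := by decide +kernel
theorem chkP_86375 : allRangeF (checkPointF cert) (nat_lit 86375) (nat_lit 25) = true := by decide +kernel
theorem chkP_86400 : allRangeF (checkPointF cert) (nat_lit 86400) (nat_lit 25) = true := by decide +kernel
theorem chkP_86425 : allRangeF (checkPointF cert) (nat_lit 86425) (nat_lit 25) = true := by decide +kernel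
theorem chkP_86450 : allRangeF (checkPointF cert) (nat_lit 86450) (nat_lit 25) = true := by decide +kernel
theorem chkP_86475 : allRangeF (checkPointF cert) (nat_lit 86475) (nat_lit 25) = true := by decide +kernel
theorem chkP_86500 : allRangeF (checkPointF cert) (nat_lit 86500) (nat_lit 25) = true := by decide +kernel
theorem chkP_86525 : allRangeF (checkPointF cert) (nat_lit 86525) (nat_lit 25) = true := by decide +kernel
theorem chkP_86550 : allRangeF (checkPointF cert) (nat_lit 86550) (nat_lit 25) = true := by decide +kernel
theorem chkP_86575 : allRangeF (checkPointF cert) (nat_lit 86575) (nat_lit 25) = true := by decide +kernel
theorem chkP_86600 : allRangeF (checkPointF cert) (nat_lit 86600) (nat_lit 25) = true := by decide +kernel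
theorem chkP_86625 : allRangeF (checkPointF cert) (nat_lit 86625) (nat_lit 25) = true := by decide +kernel
theorem chkP_86650 : allRangeF (checkPointF cert) (nat_lit 86650) (nat_lit 25) = true := by decide +kernel
theorem chkP_86675 : allRangeF (checkPointF cert) (nat_lit 86675) (nat_lit 25) = true := by decide +kernel
theorem chkP_86700 : allRangeF (checkPointF cert) (nat_lit 86700) (nat_lit 25) = true := by decide +kernel
theorem chkP_86725 : allRangeF (checkPointF cert) (nat_lit 86725) (nat_lit 25) = true := by decide +kernel
theorem chkP_86750 : allRangeF (checkPointF cert) (nat_lit 86750) (nat_lit 25) = true := by decide +kernel
theorem chkP_86775 : allRangeF (checkPointF cert) (nat_lit 86775) (nat_lit 25) = true := by decide +kernel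
theorem chkP_86800 : allRangeF (checkPointF cert) (nat_lit 86800) (nat_lit 25) = true := by decide +kernel
theorem chkP_86825 : allRangeF (checkPointF cert) (nat_lit 86825) (nat_lit 25) = true := by decide +kernel
theorem chkP_86850 : allRangeF (checkPointF cert) (nat_lit 86850) (nat_lit 25) = true := by decide +kernel
theorem chkP_86875 : allRangeF (checkPointF cert) (nat_lit 86875) (nat_lit 25) = true := by decide +kernel
theorem chkP_86900 : allRangeF (checkPointF cert) (nat_lit 86900) (nat_lit 25) = true := by decide +kernel
theorem chkP_86925 : allRangeF (checkPointF cert) (nat_lit 86925) (nat_lit 25) = true := by decide +kernel
theorem chkP_86950 : allRangeF (checkPointF cert) (nat_lit 86950) (nat_lit 25) = true := by decide +kernel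
theorem chkP_86975 : allRangeF (checkPointF cert) (nat_lit 86975) (nat_lit 25) = true := by decide +kernel
theorem chkP_87000 : allRangeF (checkPointF cert) (nat_lit 87000) (nat_lit 25) = true := by decide +kernel
theorem chkP_87025 : allRangeF (checkPointF cert) (nat_lit 87025) (nat_lit 25) = true := by decide +kernel
theorem chkP_87050 : allRangeF (checkPointF cert) (nat_lit 87050) (nat_lit 25) = true := by decide +kernel
theorem chkP_87075 : allRangeF (checkPointF cert) (nat_lit 87075) (nat_lit 25) = true := by decide +kernel
theorem chkP_87100 : allRangeF (checkPointF cert) (nat_lit 87100) (nat_lit 25) = true := by decide +kernel
theorem chkP_87125 : allRangeF (checkPointF cert) (nat_lit 87125) (nat_lit 25) = true := by decide +kernel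
theorem chkP_87150 : allRangeF (checkPointF cert) (nat_lit 87150) (nat_lit 25) = true := by decide +kernel
theorem chkP_87175 : allRangeF (checkPointF cert) (nat_lit 87175) (nat_lit 25) = true := by decide +kernel
theorem chkP_87200 : allRangeF (checkPointF cert) (nat_lit 87200) (nat_lit 25) = true := by decide +kernel
theorem chkP_87225 : allRangeF (checkPointF cert) (nat_lit 87225) (nat_lit 25) = true := by decide +kernel
theorem chkP_87250 : allRangeF (checkPointF cert) (nat_lit 87250) (nat_lit 25) = true := by decide +kernel
theorem chkP_87275 : allRangeF (checkPointF cert) (nat_lit 87275) (nat_lit 25) = true := by decide +kernel
theorem chkP_87300 : allRangeF (checkPointF cert) (nat_lit 87300) (nat_lit 25) = true := by decide +kernel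
theorem chkP_87325 : allRangeF (checkPointF cert) (nat_lit 87325) (nat_lit 25) = true := by decide +kernel
theorem chkP_87350 : allRangeF (checkPointF cert) (nat_lit 87350) (nat_lit 25) = true := by decide +kernel
theorem chkP_87375 : allRangeF (checkPointF cert) (nat_lit 87375) (nat_lit 25) = true := by decide +kernel
theorem chkP_87400 : allRangeF (checkPointF cert) (nat_lit 87400) (nat_lit 25) = true := by decide +kernel
theorem chkP_87425 : allRangeF (checkPointF cert) (nat_lit 87425) (nat_lit 25) = true := by decide +kernel
theorem chkP_87450 : allRangeF (checkPointF cert) (nat_lit 87450) (nat_lit 25) = true := by decide +kernel
theorem chkP_87475 : allRangeF (checkPointF cert) (nat_lit 87475) (nat_lit 25) = true := by decide +kernel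
theorem chkP_87500 : allRangeF (checkPointF cert) (nat_lit 87500) (nat_lit 25) = true := by decide +kernel
theorem chkP_87525 : allRangeF (checkPointF cert) (nat_lit 87525) (nat_lit 25) = true := by decide +kernel
theorem chkP_87550 : allRangeF (checkPointF cert) (nat_lit 87550) (nat_lit 25) = true := by decide +kernel
theorem chkP_87575 : allRangeF (checkPointF cert) (nat_lit 87575) (nat_lit 25) = true := by decide +kernel
theorem chkP_87600 : allRangeF (checkPointF cert) (nat_lit 87600) (nat_lit 25) = true := by decide +kernel
theorem chkP_87625 : allRangeF (checkPointF cert) (nat_lit 87625) (nat_lit 25) = true := by decide +kernel
theorem chkP_87650 : allRangeF (checkPointF cert) (nat_lit 87650) (nat_lit 25) = true := by decide +kernel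
theorem chkP_87675 : allRangeF (checkPointF cert) (nat_lit 87675) (nat_lit 25) = true := by decide +kernel
theorem chkP_87700 : allRangeF (checkPointF cert) (nat_lit 87700) (nat_lit 25) = true := by decide +kernel
theorem chkP_87725 : allRangeF (checkPointF cert) (nat_lit 87725) (nat_lit 25) = true := by decide +kernel
theorem chkP_87750 : allRangeF (checkPointF cert) (nat_lit 87750) (nat_lit 25) = true := by decide +kernel
theorem chkP_87775 : allRangeF (checkPointF cert) (nat_lit 87775) (nat_lit 25) = true := by decide +kernel
theorem chkP_87800 : allRangeF (checkPointF cert) (nat_lit 87800) (nat_lit 25) = true := by decide +kernel
theorem chkP_87825 : allRangeF (checkPointF cert) (nat_lit 87825) (nat_lit 25) = true := by decide +kernel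
theorem chkP_87850 : allRangeF (checkPointF cert) (nat_lit 87850) (nat_lit 25) = true := by decide +kernel
theorem chkP_87875 : allRangeF (checkPointF cert) (nat_lit 87875) (nat_lit 25) = true := by decide +kernel
theorem chkP_87900 : allRangeF (checkPointF cert) (nat_lit 87900) (nat_lit 25) = true := by decide +kernel
theorem chkP_87925 : allRangeF (checkPointF cert) (nat_lit 87925) (nat_lit 25) = true := by decide +kernel
theorem chkP_87950 : allRangeF (checkPointF cert) (nat_lit 87950) (nat_lit 25) = true := by decide +kernel
theorem chkP_87975 : allRangeF (checkPointF cert) (nat_lit 87975) (nat_lit 25) = true := by decide +kernel
theorem chkP_88000 : allRangeF (checkPointF cert) (nat_lit 88000) (nat_lit 25) = true := by decide +kernel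
theorem chkP_88025 : allRangeF (checkPointF cert) (nat_lit 88025) (nat_lit 25) = true := by decide +kernel
theorem chkP_88050 : allRangeF (checkPointF cert) (nat_lit 88050) (nat_lit 25) = true := by decide +kernel
theorem chkP_88075 : allRangeF (checkPointF cert) (nat_lit 88075) (nat_lit 25) = true := by decide +kernel
theorem chkP_88100 : allRangeF (checkPointF cert) (nat_lit 88100) (nat_lit 25) = true := by decide +kernel
theorem chkP_88125 : allRangeF (checkPointF cert) (nat_lit 88125) (nat_lit 25) = true := by decide +kernel
theorem chkP_88150 : allRangeF (checkPointF cert) (nat_lit 88150) (nat_lit 25) = true := by decide +kernel
theorem chkP_88175 : allRangeF (checkPointF cert) (nat_lit 88175) (nat_lit 25) = true := by decide +kernel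
theorem chkP_88200 : allRangeF (checkPointF cert) (nat_lit 88200) (nat_lit 25) = true := by decide +kernel
theorem chkP_88225 : allRangeF (checkPointF cert) (nat_lit 88225) (nat_lit 25) = true := by decide +kernel
theorem chkP_88250 : allRangeF (checkPointF cert) (nat_lit 88250) (nat_lit 25) = true := by decide +kernel
theorem chkP_88275 : allRangeF (checkPointF cert) (nat_lit 88275) (nat_lit 25) = true := by decide +kernel
theorem chkP_88300 : allRangeF (checkPointF cert) (nat_lit 88300) (nat_lit 25) = true := by decide +kernel
theorem chkP_88325 : allRangeF (checkPointF cert) (nat_lit 88325) (nat_lit 25) = true := by decide +kernel
theorem chkP_88350 : allRangeF (checkPointF cert) (nat_lit 88350) (nat_lit 25) = true := by decide +kernel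
theorem chkP_88375 : allRangeF (checkPointF cert) (nat_lit 88375) (nat_lit 25) = true := by decide +kernel
theorem chkP_88400 : allRangeF (checkPointF cert) (nat_lit 88400) (nat_lit 25) = true := by decide +kernel
theorem chkP_88425 : allRangeF (checkPointF cert) (nat_lit 88425) (nat_lit 25) = true := by decide +kernel
theorem chkP_88450 : allRangeF (checkPointF cert) (nat_lit 88450) (nat_lit 25) = true := by decide +kernel
theorem chkP_88475 : allRangeF (checkPointF cert) (nat_lit 88475) (nat_lit 25) = true := by decide +kernel
theorem chkP_88500 : allRangeF (checkPointF cert) (nat_lit 88500) (nat_lit 25) = true := by decide +kernel
theorem chkP_88525 : allRangeF (checkPointF cert) (nat_lit 88525) (nat_lit 25) = true := by decide +kernel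
theorem chkP_88550 : allRangeF (checkPointF cert) (nat_lit 88550) (nat_lit 25) = true := by decide +kernel
theorem chkP_88575 : allRangeF (checkPointF cert) (nat_lit 88575) (nat_lit 25) = true := by decide +kernel
theorem chkP_88600 : allRangeF (checkPointF cert) (nat_lit 88600) (nat_lit 25) = true := by decide +kernel
theorem chkP_88625 : allRangeF (checkPointF cert) (nat_lit 88625) (nat_lit 25) = true := by decide +kernel
theorem chkP_88650 : allRangeF (checkPointF cert) (nat_lit 88650) (nat_lit 25) = true := by decide +kernel
theorem chkP_88675 : allRangeF (checkPointF cert) (nat_lit 88675) (nat_lit 25) = true := by decide +kernel
theorem chkP_88700 : allRangeF (checkPointF cert) (nat_lit 88700) (nat_lit 25) = true := by decide +kernel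
theorem chkP_88725 : allRangeF (checkPointF cert) (nat_lit 88725) (nat_lit 25) = true := by decide +kernel
theorem chkP_88750 : allRangeF (checkPointF cert) (nat_lit 88750) (nat_lit 25) = true := by decide +kernel
theorem chkP_88775 : allRangeF (checkPointF cert) (nat_lit 88775) (nat_lit 25) = true := by decide +kernel
theorem chkP_88800 : allRangeF (checkPointF cert) (nat_lit 88800) (nat_lit 25) = true := by decide +kernel
theorem chkP_88825 : allRangeF (checkPointF cert) (nat_lit 88825) (nat_lit 25) = true := by decide +kernel
theorem chkP_88850 : allRangeF (checkPointF cert) (nat_lit 88850) (nat_lit 25) = true := by decide +kernel
theorem chkP_88875 : allRangeF (checkPointF cert) (nat_lit 88875) (nat_lit 25) = true := by decide +kernel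
theorem chkP_88900 : allRangeF (checkPointF cert) (nat_lit 88900) (nat_lit 25) = true := by decide +kernel
theorem chkP_88925 : allRangeF (checkPointF cert) (nat_lit 88925) (nat_lit 25) = true := by decide +kernel
theorem chkP_88950 : allRangeF (checkPointF cert) (nat_lit 88950) (nat_lit 25) = true := by decide +kernel
theorem chkP_88975 : allRangeF (checkPointF cert) (nat_lit 88975) (nat_lit 25) = true := by decide +kernel
theorem chkP_89000 : allRangeF (checkPointF cert) (nat_lit 89000) (nat_lit 25) = true := by decide +kernel
theorem chkP_89025 : allRangeF (checkPointF cert) (nat_lit 89025) (nat_lit 25) = true := by decide +kernel
theorem chkP_89050 : allRangeF (checkPointF cert) (nat_lit 89050) (nat_lit 25) = true := by decide +kernel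
theorem chkP_89075 : allRangeF (checkPointF cert) (nat_lit 89075) (nat_lit 25) = true := by decide +kernel
theorem chkP_89100 : allRangeF (checkPointF cert) (nat_lit 89100) (nat_lit 25) = true := by decide +kernel
theorem chkP_89125 : allRangeF (checkPointF cert) (nat_lit 89125) (nat_lit 25) = true := by decide +kernel
theorem chkP_89150 : allRangeF (checkPointF cert) (nat_lit 89150) (nat_lit 25) = true := by decide +kernel
theorem chkP_89175 : allRangeF (checkPointF cert) (nat_lit 89175) (nat_lit 25) = true := by decide +kernel
theorem chkP_89200 : allRangeF (checkPointF cert) (nat_lit 89200) (nat_lit 25) = true := by decide +kernel
theorem chkP_89225 : allRangeF (checkPointF cert) (nat_lit 89225) (nat_lit 25) = true := by decide +kernel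
theorem chkP_89250 : allRangeF (checkPointF cert) (nat_lit 89250) (nat_lit 25) = true := by decide +kernel
theorem chkP_89275 : allRangeF (checkPointF cert) (nat_lit 89275) (nat_lit 25) = true := by decide +kernel
theorem chkP_89300 : allRangeF (checkPointF cert) (nat_lit 89300) (nat_lit 25) = true := by decide +kernel
theorem chkP_89325 : allRangeF (checkPointF cert) (nat_lit 89325) (nat_lit 25) = true := by decide +kernel
theorem chkP_89350 : allRangeF (checkPointF cert) (nat_lit 89350) (nat_lit 25) = true := by decide +kernel
theorem chkP_89375 : allRangeF (checkPointF cert) (nat_lit 89375) (nat_lit 25) = true := by decide +kernel
theorem chkP_89400 : allRangeF (checkPointF cert) (nat_lit 89400) (nat_lit 25) = true := by decide +kernel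
theorem chkP_89425 : allRangeF (checkPointF cert) (nat_lit 89425) (nat_lit 25) = true := by decide +kernel
theorem chkP_89450 : allRangeF (checkPointF cert) (nat_lit 89450) (nat_lit 25) = true := by decide +kernel
theorem chkP_89475 : allRangeF (checkPointF cert) (nat_lit 89475) (nat_lit 25) = true := by decide +kernel
theorem chkP_89500 : allRangeF (checkPointF cert) (nat_lit 89500) (nat_lit 25) = true := by decide +kernel
theorem chkP_89525 : allRangeF (checkPointF cert) (nat_lit 89525) (nat_lit 25) = true := by decide +kernel
theorem chkP_89550 : allRangeF (checkPointF cert) (nat_lit 89550) (nat_lit 25) = true := by decide +kernel
theorem chkP_89575 : allRangeF (checkPointF cert) (nat_lit 89575) (nat_lit 25) = true := by decide +kernel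
theorem chkP_89600 : allRangeF (checkPointF cert) (nat_lit 89600) (nat_lit 25) = true := by decide +kernel
theorem chkP_89625 : allRangeF (checkPointF cert) (nat_lit 89625) (nat_lit 25) = true := by decide +kernel
theorem chkP_89650 : allRangeF (checkPointF cert) (nat_lit 89650) (nat_lit 25) = true := by decide +kernel
theorem chkP_89675 : allRangeF (checkPointF cert) (nat_lit 89675) (nat_lit 25) = true := by decide +kernel
theorem chkP_89700 : allRangeF (checkPointF cert) (nat_lit 89700) (nat_lit 25) = true := by decide +kernel
theorem chkP_89725 : allRangeF (checkPointF cert) (nat_lit 89725) (nat_lit 25) = true := by decide +kernel
theorem chkP_89750 : allRangeF (checkPointF cert) (nat_lit 89750) (nat_lit 25) = true := by decide +kernel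
theorem chkP_89775 : allRangeF (checkPointF cert) (nat_lit 89775) (nat_lit 25) = true := by decide +kernel
theorem chkP_89800 : allRangeF (checkPointF cert) (nat_lit 89800) (nat_lit 25) = true := by decide +kernel
theorem chkP_89825 : allRangeF (checkPointF cert) (nat_lit 89825) (nat_lit 25) = true := by decide +kernel
theorem chkP_89850 : allRangeF (checkPointF cert) (nat_lit 89850) (nat_lit 25) = true := by decide +kernel
theorem chkP_89875 : allRangeF (checkPointF cert) (nat_lit 89875) (nat_lit 25) = true := by decide +kernel
theorem chkP_89900 : allRangeF (checkPointF cert) (nat_lit 89900) (nat_lit 25) = true := by decide +kernel
theorem chkP_89925 : allRangeF (checkPointF cert) (nat_lit 89925) (nat_lit 25) = true := by decide +kernel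
theorem chkP_89950 : allRangeF (checkPointF cert) (nat_lit 89950) (nat_lit 25) = true := by decide +kernel
theorem chkP_89975 : allRangeF (checkPointF cert) (nat_lit 89975) (nat_lit 25) = true := by decide +kernel
theorem chkP_90000 : allRangeF (checkPointF cert) (nat_lit 90000) (nat_lit 25) = true := by decide +kernel
theorem chkP_90025 : allRangeF (checkPointF cert) (nat_lit 90025) (nat_lit 25) = true := by decide +kernel
theorem chkP_90050 : allRangeF (checkPointF cert) (nat_lit 90050) (nat_lit 25) = true := by decide +kernel
theorem chkP_90075 : allRangeF (checkPointF cert) (nat_lit 90075) (nat_lit 25) = true := by decide +kernel
theorem chkP_90100 : allRangeF (checkPointF cert) (nat_lit 90100) (nat_lit 25) = true := by decide +kernel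
theorem chkP_90125 : allRangeF (checkPointF cert) (nat_lit 90125) (nat_lit 25) = true := by decide +kernel
theorem chkP_90150 : allRangeF (checkPointF cert) (nat_lit 90150) (nat_lit 25) = true := by decide +kernel
theorem chkP_90175 : allRangeF (checkPointF cert) (nat_lit 90175) (nat_lit 25) = true := by decide +kernel
theorem chkP_90200 : allRangeF (checkPointF cert) (nat_lit 90200) (nat_lit 25) = true := by decide +kernel
theorem chkP_90225 : allRangeF (checkPointF cert) (nat_lit 90225) (nat_lit 25) = true := by decide +kernel
theorem chkP_90250 : allRangeF (checkPointF cert) (nat_lit 90250) (nat_lit 25) = true := by decide +kernel
theorem chkP_90275 : allRangeF (checkPointF cert) (nat_lit 90275) (nat_lit 25) = true := by decide +kernel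
theorem chkP_90300 : allRangeF (checkPointF cert) (nat_lit 90300) (nat_lit 25) = true := by decide +kernel
theorem chkP_90325 : allRangeF (checkPointF cert) (nat_lit 90325) (nat_lit 25) = true := by decide +kernel
theorem chkP_90350 : allRangeF (checkPointF cert) (nat_lit 90350) (nat_lit 25) = true := by decide +kernel
theorem chkP_90375 : allRangeF (checkPointF cert) (nat_lit 90375) (nat_lit 25) = true := by decide +kernel
theorem chkP_90400 : allRangeF (checkPointF cert) (nat_lit 90400) (nat_lit 25) = true := by decide +kernel
theorem chkP_90425 : allRangeF (checkPointF cert) (nat_lit 90425) (nat_lit 25) = true := by decide +kernel
theorem chkP_90450 : allRangeF (checkPointF cert) (nat_lit 90450) (nat_lit 25) = true := by decide +kernel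
theorem chkP_90475 : allRangeF (checkPointF cert) (nat_lit 90475) (nat_lit 25) = true := by decide +kernel
theorem chkP_90500 : allRangeF (checkPointF cert) (nat_lit 90500) (nat_lit 25) = true := by decide +kernel
theorem chkP_90525 : allRangeF (checkPointF cert) (nat_lit 90525) (nat_lit 25) = true := by decide +kernel
theorem chkP_90550 : allRangeF (checkPointF cert) (nat_lit 90550) (nat_lit 25) = true := by decide +kernel
theorem chkP_90575 : allRangeF (checkPointF cert) (nat_lit 90575) (nat_lit 25) = true := by decide +kernel
theorem chkP_90600 : allRangeF (checkPointF cert) (nat_lit 90600) (nat_lit 25) = true := by decide +kernel
theorem chkP_90625 : allRangeF (checkPointF cert) (nat_lit 90625) (nat_lit 25) = true := by decide +kernel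
theorem chkP_90650 : allRangeF (checkPointF cert) (nat_lit 90650) (nat_lit 25) = true := by decide +kernel
theorem chkP_90675 : allRangeF (checkPointF cert) (nat_lit 90675) (nat_lit 25) = true := by decide +kernel
theorem chkP_90700 : allRangeF (checkPointF cert) (nat_lit 90700) (nat_lit 25) = true := by decide +kernel
theorem chkP_90725 : allRangeF (checkPointF cert) (nat_lit 90725) (nat_lit 25) = true := by decide +kernel
theorem chkP_90750 : allRangeF (checkPointF cert) (nat_lit 90750) (nat_lit 25) = true := by decide +kernel
theorem chkP_90775 : allRangeF (checkPointF cert) (nat_lit 90775) (nat_lit 25) = true := by decide +kernel
theorem chkP_90800 : allRangeF (checkPointF cert) (nat_lit 90800) (nat_lit 25) = true := by decide +kernel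
theorem chkP_90825 : allRangeF (checkPointF cert) (nat_lit 90825) (nat_lit 25) = true := by decide +kernel
theorem chkP_90850 : allRangeF (checkPointF cert) (nat_lit 90850) (nat_lit 25) = true := by decide +kernel
theorem chkP_90875 : allRangeF (checkPointF cert) (nat_lit 90875) (nat_lit 25) = true := by decide +kernel
theorem chkP_90900 : allRangeF (checkPointF cert) (nat_lit 90900) (nat_lit 25) = true := by decide +kernel
theorem chkP_90925 : allRangeF (checkPointF cert) (nat_lit 90925) (nat_lit 25) = true := by decide +kernel
theorem chkP_90950 : allRangeF (checkPointF cert) (nat_lit 90950) (nat_lit 25) = true := by decide +kernel
theorem chkP_90975 : allRangeF (checkPointF cert) (nat_lit 90975) (nat_lit 25) = true := by decide +kernel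
theorem chkP_91000 : allRangeF (checkPointF cert) (nat_lit 91000) (nat_lit 25) = true := by decide +kernel
theorem chkP_91025 : allRangeF (checkPointF cert) (nat_lit 91025) (nat_lit 25) = true := by decide +kernel
theorem chkP_91050 : allRangeF (checkPointF cert) (nat_lit 91050) (nat_lit 25) = true := by decide +kernel
theorem chkP_91075 : allRangeF (checkPointF cert) (nat_lit 91075) (nat_lit 25) = true := by decide +kernel
theorem chkP_91100 : allRangeF (checkPointF cert) (nat_lit 91100) (nat_lit 25) = true := by decide +kernel
theorem chkP_91125 : allRangeF (checkPointF cert) (nat_lit 91125) (nat_lit 25) = true := by decide +kernel
theorem chkP_91150 : allRangeF (checkPointF cert) (nat_lit 91150) (nat_lit 25) = true := by decide +kernel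
theorem chkP_91175 : allRangeF (checkPointF cert) (nat_lit 91175) (nat_lit 25) = true := by decide +kernel
theorem chkP_91200 : allRangeF (checkPointF cert) (nat_lit 91200) (nat_lit 25) = true := by decide +kernel
theorem chkP_91225 : allRangeF (checkPointF cert) (nat_lit 91225) (nat_lit 25) = true := by decide +kernel
theorem chkP_91250 : allRangeF (checkPointF cert) (nat_lit 91250) (nat_lit 25) = true := by decide +kernel
theorem chkP_91275 : allRangeF (checkPointF cert) (nat_lit 91275) (nat_lit 25) = true := by decide +kernel
theorem chkP_91300 : allRangeF (checkPointF cert) (nat_lit 91300) (nat_lit 25) = true := by decide +kernel
theorem chkP_91325 : allRangeF (checkPointF cert) (nat_lit 91325) (nat_lit 25) = true := by decide +kernel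
theorem chkP_91350 : allRangeF (checkPointF cert) (nat_lit 91350) (nat_lit 25) = true := by decide +kernel
theorem chkP_91375 : allRangeF (checkPointF cert) (nat_lit 91375) (nat_lit 25) = true := by decide +kernel
theorem chkP_91400 : allRangeF (checkPointF cert) (nat_lit 91400) (nat_lit 25) = true := by decide +kernel
theorem chkP_91425 : allRangeF (checkPointF cert) (nat_lit 91425) (nat_lit 25) = true := by decide +kernel
theorem chkP_91450 : allRangeF (checkPointF cert) (nat_lit 91450) (nat_lit 25) = true := by decide +kernel
theorem chkP_91475 : allRangeF (checkPointF cert) (nat_lit 91475) (nat_lit 25) = true := by decide +kernel
theorem chkP_91500 : allRangeF (checkPointF cert) (nat_lit 91500) (nat_lit 25) = true := by decide +kernel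
theorem chkP_91525 : allRangeF (checkPointF cert) (nat_lit 91525) (nat_lit 25) = true := by decide +kernel
theorem chkP_91550 : allRangeF (checkPointF cert) (nat_lit 91550) (nat_lit 25) = true := by decide +kernel
theorem chkP_91575 : allRangeF (checkPointF cert) (nat_lit 91575) (nat_lit 25) = true := by decide +kernel
theorem chkP_91600 : allRangeF (checkPointF cert) (nat_lit 91600) (nat_lit 25) = true := by decide +kernel
theorem chkP_91625 : allRangeF (checkPointF cert) (nat_lit 91625) (nat_lit 25) = true := by decide +kernel
theorem chkP_91650 : allRangeF (checkPointF cert) (nat_lit 91650) (nat_lit 25) = true := by decide +kernel
theorem chkP_91675 : allRangeF (checkPointF cert) (nat_lit 91675) (nat_lit 25) = true := by decide +kernel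
theorem chkP_91700 : allRangeF (checkPointF cert) (nat_lit 91700) (nat_lit 25) = true := by decide +kernel
theorem chkP_91725 : allRangeF (checkPointF cert) (nat_lit 91725) (nat_lit 25) = true := by decide +kernel
theorem chkP_91750 : allRangeF (checkPointF cert) (nat_lit 91750) (nat_lit 25) = true := by decide +kernel
theorem chkP_91775 : allRangeF (checkPointF cert) (nat_lit 91775) (nat_lit 25) = true := by decide +kernel
theorem chkP_91800 : allRangeF (checkPointF cert) (nat_lit 91800) (nat_lit 25) = true := by decide +kernel
theorem chkP_91825 : allRangeF (checkPointF cert) (nat_lit 91825) (nat_lit 25) = true := by decide +kernel
theorem chkP_91850 : allRangeF (checkPointF cert) (nat_lit 91850) (nat_lit 25) = true := by decide +kernel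
theorem chkP_91875 : allRangeF (checkPointF cert) (nat_lit 91875) (nat_lit 25) = true := by decide +kernel
theorem chkP_91900 : allRangeF (checkPointF cert) (nat_lit 91900) (nat_lit 25) = true := by decide +kernel
theorem chkP_91925 : allRangeF (checkPointF cert) (nat_lit 91925) (nat_lit 25) = true := by decide +kernel
theorem chkP_91950 : allRangeF (checkPointF cert) (nat_lit 91950) (nat_lit 25) = true := by decide +kernel
theorem chkP_91975 : allRangeF (checkPointF cert) (nat_lit 91975) (nat_lit 25) = true := by decide +kernel
theorem chkP_92000 : allRangeF (checkPointF cert) (nat_lit 92000) (nat_lit 25) = true := by decide +kernel
theorem chkP_92025 : allRangeF (checkPointF cert) (nat_lit 92025) (nat_lit 25) = true := by decide +kernel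
theorem chkP_92050 : allRangeF (checkPointF cert) (nat_lit 92050) (nat_lit 25) = true := by decide +kernel
theorem chkP_92075 : allRangeF (checkPointF cert) (nat_lit 92075) (nat_lit 25) = true := by decide +kernel

theorem ptsRange_11 : ∀ i, 84425 ≤ i → i < 92100 → checkPoint cert i = true := by
  intro i hlo hhi
  rcases Nat.lt_or_ge i 88250 with h1 | h1
  · skip
    rcases Nat.lt_or_ge i 86325 with h2 | h2
    · skip
      rcases Nat.lt_or_ge i 85375 with h3 | h3
      · skip
        rcases Nat.lt_or_ge i 84900 with h4 | h4
        · skip
          rcases Nat.lt_or_ge i 84650 with h5 | h5
          · skip
            rcases Nat.lt_or_ge i 84525 with h6 | h6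
            · skip
              rcases Nat.lt_or_ge i 84475 with h7 | h7
              · skip
                rcases Nat.lt_or_ge i 84450 with h8 | h8
                · skip
                  exact allRangeF_sound _ _ (checkPointF_eq cert) 84425 25 chkP_84425 i (by omega) (by omega)
                · skip
                  exact allRangeF_sound _ _ (checkPointF_eq cert) 84450 25 chkP_84450 i (by omega) (by omega)
              · skip
                rcases Nat.lt_or_ge i 84500 with h8 | h8
                · skip
                  exact allRangeF_sound _ _ (checkPointF_eq cert) 84475 25 chkP_84475 i (by omega) (by omega)
                · skip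
                  exact allRangeF_sound _ _ (checkPointF_eq cert) 84500 25 chkP_84500 i (by omega) (by omega)
            · skip
              rcases Nat.lt_or_ge i 84575 with h7 | h7
              · skip
                rcases Nat.lt_or_ge i 84550 with h8 | h8
                · skip
                  exact allRangeF_sound _ _ (checkPointF_eq cert) 84525 25 chkP_84525 i (by omega) (by omega)
                · skip
                  exact allRangeF_sound _ _ (checkPointF_eq cert) 84550 25 chkP_84550 i (by omega) (by omega)
              · skip
                rcases Nat.lt_or_ge i 84600 with h8 | h8
                · skip
                  exact allRangeF_sound _ _ (checkPointF_eq cert) 84575 25 chkP_84575 i (by omega) (by omega)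
                · skip
                  rcases Nat.lt_or_ge i 84625 with h9 | h9
                  · skip
                    exact allRangeF_sound _ _ (checkPointF_eq cert) 84600 25 chkP_84600 i (by omega) (by omega)
                  · skip
                    exact allRangeF_sound _ _ (checkPointF_eq cert) 84625 25 chkP_84625 i (by omega) (by omega)
          · skip
            rcases Nat.lt_or_ge i 84775 with h6 | h6
            · skip
              rcases Nat.lt_or_ge i 84700 with h7 | h7
              · skip
                rcases Nat.lt_or_ge i 84675 with h8 | h8
                · skip
                  exact allRangeF_sound _ _ (checkPointF_eq cert) 84650 25 chkP_84650 i (by omega) (by omega)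
                · skip
                  exact allRangeF_sound _ _ (checkPointF_eq cert) 84675 25 chkP_84675 i (by omega) (by omega)
              · skip
                rcases Nat.lt_or_ge i 84725 with h8 | h8
                · skip
                  exact allRangeF_sound _ _ (checkPointF_eq cert) 84700 25 chkP_84700 i (by omega) (by omega)
                · skip
                  rcases Nat.lt_or_ge i 84750 with h9 | h9
                  · skip
                    exact allRangeF_sound _ _ (checkPointF_eq cert) 84725 25 chkP_84725 i (by omega) (by omega)
                  · skip
                    exact allRangeF_sound _ _ (checkPointF_eq cert) 84750 25 chkP_84750 i (by omega) (by omega)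
            · skip
              rcases Nat.lt_or_ge i 84825 with h7 | h7
              · skip
                rcases Nat.lt_or_ge i 84800 with h8 | h8
                · skip
                  exact allRangeF_sound _ _ (checkPointF_eq cert) 84775 25 chkP_84775 i (by omega) (by omega)
                · skip
                  exact allRangeF_sound _ _ (checkPointF_eq cert) 84800 25 chkP_84800 i (by omega) (by omega)
              · skip
                rcases Nat.lt_or_ge i 84850 with h8 | h8
                · skip
                  exact allRangeF_sound _ _ (checkPointF_eq cert) 84825 25 chkP_84825 i (by omega) (by omega)
                · skip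
                  rcases Nat.lt_or_ge i 84875 with h9 | h9
                  · skip
                    exact allRangeF_sound _ _ (checkPointF_eq cert) 84850 25 chkP_84850 i (by omega) (by omega)
                  · skip
                    exact allRangeF_sound _ _ (checkPointF_eq cert) 84875 25 chkP_84875 i (by omega) (by omega)
        · skip
          rcases Nat.lt_or_ge i 85125 with h5 | h5
          · skip
            rcases Nat.lt_or_ge i 85000 with h6 | h6
            · skip
              rcases Nat.lt_or_ge i 84950 with h7 | h7
              · skip
                rcases Nat.lt_or_ge i 84925 with h8 | h8
                · skip
                  exact allRangeF_sound _ _ (checkPointF_eq cert) 84900 25 chkP_84900 i (by omega) (by omega)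
                · skip
                  exact allRangeF_sound _ _ (checkPointF_eq cert) 84925 25 chkP_84925 i (by omega) (by omega)
              · skip
                rcases Nat.lt_or_ge i 84975 with h8 | h8
                · skip
                  exact allRangeF_sound _ _ (checkPointF_eq cert) 84950 25 chkP_84950 i (by omega) (by omega)
                · skip
                  exact allRangeF_sound _ _ (checkPointF_eq cert) 84975 25 chkP_84975 i (by omega) (by omega)
            · skip
              rcases Nat.lt_or_ge i 85050 with h7 | h7
              · skip
                rcases Nat.lt_or_ge i 85025 with h8 | h8
                · skip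
                  exact allRangeF_sound _ _ (checkPointF_eq cert) 85000 25 chkP_85000 i (by omega) (by omega)
                · skip
                  exact allRangeF_sound _ _ (checkPointF_eq cert) 85025 25 chkP_85025 i (by omega) (by omega)
              · skip
                rcases Nat.lt_or_ge i 85075 with h8 | h8
                · skip
                  exact allRangeF_sound _ _ (checkPointF_eq cert) 85050 25 chkP_85050 i (by omega) (by omega)
                · skip
                  rcases Nat.lt_or_ge i 85100 with h9 | h9
                  · skip
                    exact allRangeF_sound _ _ (checkPointF_eq cert) 85075 25 chkP_85075 i (by omega) (by omega)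
                  · skip
                    exact allRangeF_sound _ _ (checkPointF_eq cert) 85100 25 chkP_85100 i (by omega) (by omega)
          · skip
            rcases Nat.lt_or_ge i 85250 with h6 | h6
            · skip
              rcases Nat.lt_or_ge i 85175 with h7 | h7
              · skip
                rcases Nat.lt_or_ge i 85150 with h8 | h8
                · skip
                  exact allRangeF_sound _ _ (checkPointF_eq cert) 85125 25 chkP_85125 i (by omega) (by omega)
                · skip
                  exact allRangeF_sound _ _ (checkPointF_eq cert) 85150 25 chkP_85150 i (by omega) (by omega)
              · skip
                rcases Nat.lt_or_ge i 85200 with h8 | h8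
                · skip
                  exact allRangeF_sound _ _ (checkPointF_eq cert) 85175 25 chkP_85175 i (by omega) (by omega)
                · skip
                  rcases Nat.lt_or_ge i 85225 with h9 | h9
                  · skip
                    exact allRangeF_sound _ _ (checkPointF_eq cert) 85200 25 chkP_85200 i (by omega) (by omega)
                  · skip
                    exact allRangeF_sound _ _ (checkPointF_eq cert) 85225 25 chkP_85225 i (by omega) (by omega)
            · skip
              rcases Nat.lt_or_ge i 85300 with h7 | h7
              · skip
                rcases Nat.lt_or_ge i 85275 with h8 | h8
                · skip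
                  exact allRangeF_sound _ _ (checkPointF_eq cert) 85250 25 chkP_85250 i (by omega) (by omega)
                · skip
                  exact allRangeF_sound _ _ (checkPointF_eq cert) 85275 25 chkP_85275 i (by omega) (by omega)
              · skip
                rcases Nat.lt_or_ge i 85325 with h8 | h8
                · skip
                  exact allRangeF_sound _ _ (checkPointF_eq cert) 85300 25 chkP_85300 i (by omega) (by omega)
                · skip
                  rcases Nat.lt_or_ge i 85350 with h9 | h9
                  · skip
                    exact allRangeF_sound _ _ (checkPointF_eq cert) 85325 25 chkP_85325 i (by omega) (by omega)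
                  · skip
                    exact allRangeF_sound _ _ (checkPointF_eq cert) 85350 25 chkP_85350 i (by omega) (by omega)
      · skip
        rcases Nat.lt_or_ge i 85850 with h4 | h4
        · skip
          rcases Nat.lt_or_ge i 85600 with h5 | h5
          · skip
            rcases Nat.lt_or_ge i 85475 with h6 | h6
            · skip
              rcases Nat.lt_or_ge i 85425 with h7 | h7
              · skip
                rcases Nat.lt_or_ge i 85400 with h8 | h8
                · skip
                  exact allRangeF_sound _ _ (checkPointF_eq cert) 85375 25 chkP_85375 i (by omega) (by omega)
                · skip
                  exact allRangeF_sound _ _ (checkPointF_eq cert) 85400 25 chkP_85400 i (by omega) (by omega)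
              · skip
                rcases Nat.lt_or_ge i 85450 with h8 | h8
                · skip
                  exact allRangeF_sound _ _ (checkPointF_eq cert) 85425 25 chkP_85425 i (by omega) (by omega)
                · skip
                  exact allRangeF_sound _ _ (checkPointF_eq cert) 85450 25 chkP_85450 i (by omega) (by omega)
            · skip
              rcases Nat.lt_or_ge i 85525 with h7 | h7
              · skip
                rcases Nat.lt_or_ge i 85500 with h8 | h8
                · skip
                  exact allRangeF_sound _ _ (checkPointF_eq cert) 85475 25 chkP_85475 i (by omega) (by omega)
                · skip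
                  exact allRangeF_sound _ _ (checkPointF_eq cert) 85500 25 chkP_85500 i (by omega) (by omega)
              · skip
                rcases Nat.lt_or_ge i 85550 with h8 | h8
                · skip
                  exact allRangeF_sound _ _ (checkPointF_eq cert) 85525 25 chkP_85525 i (by omega) (by omega)
                · skip
                  rcases Nat.lt_or_ge i 85575 with h9 | h9
                  · skip
                    exact allRangeF_sound _ _ (checkPointF_eq cert) 85550 25 chkP_85550 i (by omega) (by omega)
                  · skip
                    exact allRangeF_sound _ _ (checkPointF_eq cert) 85575 25 chkP_85575 i (by omega) (by omega)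
          · skip
            rcases Nat.lt_or_ge i 85725 with h6 | h6
            · skip
              rcases Nat.lt_or_ge i 85650 with h7 | h7
              · skip
                rcases Nat.lt_or_ge i 85625 with h8 | h8
                · skip
                  exact allRangeF_sound _ _ (checkPointF_eq cert) 85600 25 chkP_85600 i (by omega) (by omega)
                · skip
                  exact allRangeF_sound _ _ (checkPointF_eq cert) 85625 25 chkP_85625 i (by omega) (by omega)
              · skip
                rcases Nat.lt_or_ge i 85675 with h8 | h8
                · skip
                  exact allRangeF_sound _ _ (checkPointF_eq cert) 85650 25 chkP_85650 i (by omega) (by omega)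
                · skip
                  rcases Nat.lt_or_ge i 85700 with h9 | h9
                  · skip
                    exact allRangeF_sound _ _ (checkPointF_eq cert) 85675 25 chkP_85675 i (by omega) (by omega)
                  · skip
                    exact allRangeF_sound _ _ (checkPointF_eq cert) 85700 25 chkP_85700 i (by omega) (by omega)
            · skip
              rcases Nat.lt_or_ge i 85775 with h7 | h7
              · skip
                rcases Nat.lt_or_ge i 85750 with h8 | h8
                · skip
                  exact allRangeF_sound _ _ (checkPointF_eq cert) 85725 25 chkP_85725 i (by omega) (by omega)
                · skip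
                  exact allRangeF_sound _ _ (checkPointF_eq cert) 85750 25 chkP_85750 i (by omega) (by omega)
              · skip
                rcases Nat.lt_or_ge i 85800 with h8 | h8
                · skip
                  exact allRangeF_sound _ _ (checkPointF_eq cert) 85775 25 chkP_85775 i (by omega) (by omega)
                · skip
                  rcases Nat.lt_or_ge i 85825 with h9 | h9
                  · skip
                    exact allRangeF_sound _ _ (checkPointF_eq cert) 85800 25 chkP_85800 i (by omega) (by omega)
                  · skip
                    exact allRangeF_sound _ _ (checkPointF_eq cert) 85825 25 chkP_85825 i (by omega) (by omega)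
        · skip
          rcases Nat.lt_or_ge i 86075 with h5 | h5
          · skip
            rcases Nat.lt_or_ge i 85950 with h6 | h6
            · skip
              rcases Nat.lt_or_ge i 85900 with h7 | h7
              · skip
                rcases Nat.lt_or_ge i 85875 with h8 | h8
                · skip
                  exact allRangeF_sound _ _ (checkPointF_eq cert) 85850 25 chkP_85850 i (by omega) (by omega)
                · skip
                  exact allRangeF_sound _ _ (checkPointF_eq cert) 85875 25 chkP_85875 i (by omega) (by omega)
              · skip
                rcases Nat.lt_or_ge i 85925 with h8 | h8
                · skip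
                  exact allRangeF_sound _ _ (checkPointF_eq cert) 85900 25 chkP_85900 i (by omega) (by omega)
                · skip
                  exact allRangeF_sound _ _ (checkPointF_eq cert) 85925 25 chkP_85925 i (by omega) (by omega)
            · skip
              rcases Nat.lt_or_ge i 86000 with h7 | h7
              · skip
                rcases Nat.lt_or_ge i 85975 with h8 | h8
                · skip
                  exact allRangeF_sound _ _ (checkPointF_eq cert) 85950 25 chkP_85950 i (by omega) (by omega)
                · skip
                  exact allRangeF_sound _ _ (checkPointF_eq cert) 85975 25 chkP_85975 i (by omega) (by omega)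
              · skip
                rcases Nat.lt_or_ge i 86025 with h8 | h8
                · skip
                  exact allRangeF_sound _ _ (checkPointF_eq cert) 86000 25 chkP_86000 i (by omega) (by omega)
                · skip
                  rcases Nat.lt_or_ge i 86050 with h9 | h9
                  · skip
                    exact allRangeF_sound _ _ (checkPointF_eq cert) 86025 25 chkP_86025 i (by omega) (by omega)
                  · skip
                    exact allRangeF_sound _ _ (checkPointF_eq cert) 86050 25 chkP_86050 i (by omega) (by omega)
          · skip
            rcases Nat.lt_or_ge i 86200 with h6 | h6
            · skip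
              rcases Nat.lt_or_ge i 86125 with h7 | h7
              · skip
                rcases Nat.lt_or_ge i 86100 with h8 | h8
                · skip
                  exact allRangeF_sound _ _ (checkPointF_eq cert) 86075 25 chkP_86075 i (by omega) (by omega)
                · skip
                  exact allRangeF_sound _ _ (checkPointF_eq cert) 86100 25 chkP_86100 i (by omega) (by omega)
              · skip
                rcases Nat.lt_or_ge i 86150 with h8 | h8
                · skip
                  exact allRangeF_sound _ _ (checkPointF_eq cert) 86125 25 chkP_86125 i (by omega) (by omega)
                · skip
                  rcases Nat.lt_or_ge i 86175 with h9 | h9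
                  · skip
                    exact allRangeF_sound _ _ (checkPointF_eq cert) 86150 25 chkP_86150 i (by omega) (by omega)
                  · skip
                    exact allRangeF_sound _ _ (checkPointF_eq cert) 86175 25 chkP_86175 i (by omega) (by omega)
            · skip
              rcases Nat.lt_or_ge i 86250 with h7 | h7
              · skip
                rcases Nat.lt_or_ge i 86225 with h8 | h8
                · skip
                  exact allRangeF_sound _ _ (checkPointF_eq cert) 86200 25 chkP_86200 i (by omega) (by omega)
                · skip
                  exact allRangeF_sound _ _ (checkPointF_eq cert) 86225 25 chkP_86225 i (by omega) (by omega)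
              · skip
                rcases Nat.lt_or_ge i 86275 with h8 | h8
                · skip
                  exact allRangeF_sound _ _ (checkPointF_eq cert) 86250 25 chkP_86250 i (by omega) (by omega)
                · skip
                  rcases Nat.lt_or_ge i 86300 with h9 | h9
                  · skip
                    exact allRangeF_sound _ _ (checkPointF_eq cert) 86275 25 chkP_86275 i (by omega) (by omega)
                  · skip
                    exact allRangeF_sound _ _ (checkPointF_eq cert) 86300 25 chkP_86300 i (by omega) (by omega)
    · skip
      rcases Nat.lt_or_ge i 87275 with h3 | h3
      · skip
        rcases Nat.lt_or_ge i 86800 with h4 | h4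
        · skip
          rcases Nat.lt_or_ge i 86550 with h5 | h5
          · skip
            rcases Nat.lt_or_ge i 86425 with h6 | h6
            · skip
              rcases Nat.lt_or_ge i 86375 with h7 | h7
              · skip
                rcases Nat.lt_or_ge i 86350 with h8 | h8
                · skip
                  exact allRangeF_sound _ _ (checkPointF_eq cert) 86325 25 chkP_86325 i (by omega) (by omega)
                · skip
                  exact allRangeF_sound _ _ (checkPointF_eq cert) 86350 25 chkP_86350 i (by omega) (by omega)
              · skip
                rcases Nat.lt_or_ge i 86400 with h8 | h8
                · skip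
                  exact allRangeF_sound _ _ (checkPointF_eq cert) 86375 25 chkP_86375 i (by omega) (by omega)
                · skip
                  exact allRangeF_sound _ _ (checkPointF_eq cert) 86400 25 chkP_86400 i (by omega) (by omega)
            · skip
              rcases Nat.lt_or_ge i 86475 with h7 | h7
              · skip
                rcases Nat.lt_or_ge i 86450 with h8 | h8
                · skip
                  exact allRangeF_sound _ _ (checkPointF_eq cert) 86425 25 chkP_86425 i (by omega) (by omega)
                · skip
                  exact allRangeF_sound _ _ (checkPointF_eq cert) 86450 25 chkP_86450 i (by omega) (by omega)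
              · skip
                rcases Nat.lt_or_ge i 86500 with h8 | h8
                · skip
                  exact allRangeF_sound _ _ (checkPointF_eq cert) 86475 25 chkP_86475 i (by omega) (by omega)
                · skip
                  rcases Nat.lt_or_ge i 86525 with h9 | h9
                  · skip
                    exact allRangeF_sound _ _ (checkPointF_eq cert) 86500 25 chkP_86500 i (by omega) (by omega)
                  · skip
                    exact allRangeF_sound _ _ (checkPointF_eq cert) 86525 25 chkP_86525 i (by omega) (by omega)
          · skip
            rcases Nat.lt_or_ge i 86675 with h6 | h6
            · skip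
              rcases Nat.lt_or_ge i 86600 with h7 | h7
              · skip
                rcases Nat.lt_or_ge i 86575 with h8 | h8
                · skip
                  exact allRangeF_sound _ _ (checkPointF_eq cert) 86550 25 chkP_86550 i (by omega) (by omega)
                · skip
                  exact allRangeF_sound _ _ (checkPointF_eq cert) 86575 25 chkP_86575 i (by omega) (by omega)
              · skip
                rcases Nat.lt_or_ge i 86625 with h8 | h8
                · skip
                  exact allRangeF_sound _ _ (checkPointF_eq cert) 86600 25 chkP_86600 i (by omega) (by omega)
                · skip
                  rcases Nat.lt_or_ge i 86650 with h9 | h9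
                  · skip
                    exact allRangeF_sound _ _ (checkPointF_eq cert) 86625 25 chkP_86625 i (by omega) (by omega)
                  · skip
                    exact allRangeF_sound _ _ (checkPointF_eq cert) 86650 25 chkP_86650 i (by omega) (by omega)
            · skip
              rcases Nat.lt_or_ge i 86725 with h7 | h7
              · skip
                rcases Nat.lt_or_ge i 86700 with h8 | h8
                · skip
                  exact allRangeF_sound _ _ (checkPointF_eq cert) 86675 25 chkP_86675 i (by omega) (by omega)
                · skip
                  exact allRangeF_sound _ _ (checkPointF_eq cert) 86700 25 chkP_86700 i (by omega) (by omega)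
              · skip
                rcases Nat.lt_or_ge i 86750 with h8 | h8
                · skip
                  exact allRangeF_sound _ _ (checkPointF_eq cert) 86725 25 chkP_86725 i (by omega) (by omega)
                · skip
                  rcases Nat.lt_or_ge i 86775 with h9 | h9
                  · skip
                    exact allRangeF_sound _ _ (checkPointF_eq cert) 86750 25 chkP_86750 i (by omega) (by omega)
                  · skip
                    exact allRangeF_sound _ _ (checkPointF_eq cert) 86775 25 chkP_86775 i (by omega) (by omega)
        · skip
          rcases Nat.lt_or_ge i 87025 with h5 | h5
          · skip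
            rcases Nat.lt_or_ge i 86900 with h6 | h6
            · skip
              rcases Nat.lt_or_ge i 86850 with h7 | h7
              · skip
                rcases Nat.lt_or_ge i 86825 with h8 | h8
                · skip
                  exact allRangeF_sound _ _ (checkPointF_eq cert) 86800 25 chkP_86800 i (by omega) (by omega)
                · skip
                  exact allRangeF_sound _ _ (checkPointF_eq cert) 86825 25 chkP_86825 i (by omega) (by omega)
              · skip
                rcases Nat.lt_or_ge i 86875 with h8 | h8
                · skip
                  exact allRangeF_sound _ _ (checkPointF_eq cert) 86850 25 chkP_86850 i (by omega) (by omega)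
                · skip
                  exact allRangeF_sound _ _ (checkPointF_eq cert) 86875 25 chkP_86875 i (by omega) (by omega)
            · skip
              rcases Nat.lt_or_ge i 86950 with h7 | h7
              · skip
                rcases Nat.lt_or_ge i 86925 with h8 | h8
                · skip
                  exact allRangeF_sound _ _ (checkPointF_eq cert) 86900 25 chkP_86900 i (by omega) (by omega)
                · skip
                  exact allRangeF_sound _ _ (checkPointF_eq cert) 86925 25 chkP_86925 i (by omega) (by omega)
              · skip
                rcases Nat.lt_or_ge i 86975 with h8 | h8
                · skip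
                  exact allRangeF_sound _ _ (checkPointF_eq cert) 86950 25 chkP_86950 i (by omega) (by omega)
                · skip
                  rcases Nat.lt_or_ge i 87000 with h9 | h9
                  · skip
                    exact allRangeF_sound _ _ (checkPointF_eq cert) 86975 25 chkP_86975 i (by omega) (by omega)
                  · skip
                    exact allRangeF_sound _ _ (checkPointF_eq cert) 87000 25 chkP_87000 i (by omega) (by omega)
          · skip
            rcases Nat.lt_or_ge i 87150 with h6 | h6
            · skip
              rcases Nat.lt_or_ge i 87075 with h7 | h7
              · skip
                rcases Nat.lt_or_ge i 87050 with h8 | h8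
                · skip
                  exact allRangeF_sound _ _ (checkPointF_eq cert) 87025 25 chkP_87025 i (by omega) (by omega)
                · skip
                  exact allRangeF_sound _ _ (checkPointF_eq cert) 87050 25 chkP_87050 i (by omega) (by omega)
              · skip
                rcases Nat.lt_or_ge i 87100 with h8 | h8
                · skip
                  exact allRangeF_sound _ _ (checkPointF_eq cert) 87075 25 chkP_87075 i (by omega) (by omega)
                · skip
                  rcases Nat.lt_or_ge i 87125 with h9 | h9
                  · skip
                    exact allRangeF_sound _ _ (checkPointF_eq cert) 87100 25 chkP_87100 i (by omega) (by omega)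
                  · skip
                    exact allRangeF_sound _ _ (checkPointF_eq cert) 87125 25 chkP_87125 i (by omega) (by omega)
            · skip
              rcases Nat.lt_or_ge i 87200 with h7 | h7
              · skip
                rcases Nat.lt_or_ge i 87175 with h8 | h8
                · skip
                  exact allRangeF_sound _ _ (checkPointF_eq cert) 87150 25 chkP_87150 i (by omega) (by omega)
                · skip
                  exact allRangeF_sound _ _ (checkPointF_eq cert) 87175 25 chkP_87175 i (by omega) (by omega)
              · skip
                rcases Nat.lt_or_ge i 87225 with h8 | h8
                · skip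
                  exact allRangeF_sound _ _ (checkPointF_eq cert) 87200 25 chkP_87200 i (by omega) (by omega)
                · skip
                  rcases Nat.lt_or_ge i 87250 with h9 | h9
                  · skip
                    exact allRangeF_sound _ _ (checkPointF_eq cert) 87225 25 chkP_87225 i (by omega) (by omega)
                  · skip
                    exact allRangeF_sound _ _ (checkPointF_eq cert) 87250 25 chkP_87250 i (by omega) (by omega)
      · skip
        rcases Nat.lt_or_ge i 87750 with h4 | h4
        · skip
          rcases Nat.lt_or_ge i 87500 with h5 | h5
          · skip
            rcases Nat.lt_or_ge i 87375 with h6 | h6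
            · skip
              rcases Nat.lt_or_ge i 87325 with h7 | h7
              · skip
                rcases Nat.lt_or_ge i 87300 with h8 | h8
                · skip
                  exact allRangeF_sound _ _ (checkPointF_eq cert) 87275 25 chkP_87275 i (by omega) (by omega)
                · skip
                  exact allRangeF_sound _ _ (checkPointF_eq cert) 87300 25 chkP_87300 i (by omega) (by omega)
              · skip
                rcases Nat.lt_or_ge i 87350 with h8 | h8
                · skip
                  exact allRangeF_sound _ _ (checkPointF_eq cert) 87325 25 chkP_87325 i (by omega) (by omega)
                · skip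
                  exact allRangeF_sound _ _ (checkPointF_eq cert) 87350 25 chkP_87350 i (by omega) (by omega)
            · skip
              rcases Nat.lt_or_ge i 87425 with h7 | h7
              · skip
                rcases Nat.lt_or_ge i 87400 with h8 | h8
                · skip
                  exact allRangeF_sound _ _ (checkPointF_eq cert) 87375 25 chkP_87375 i (by omega) (by omega)
                · skip
                  exact allRangeF_sound _ _ (checkPointF_eq cert) 87400 25 chkP_87400 i (by omega) (by omega)
              · skip
                rcases Nat.lt_or_ge i 87450 with h8 | h8
                · skip
                  exact allRangeF_sound _ _ (checkPointF_eq cert) 87425 25 chkP_87425 i (by omega) (by omega)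
                · skip
                  rcases Nat.lt_or_ge i 87475 with h9 | h9
                  · skip
                    exact allRangeF_sound _ _ (checkPointF_eq cert) 87450 25 chkP_87450 i (by omega) (by omega)
                  · skip
                    exact allRangeF_sound _ _ (checkPointF_eq cert) 87475 25 chkP_87475 i (by omega) (by omega)
          · skip
            rcases Nat.lt_or_ge i 87625 with h6 | h6
            · skip
              rcases Nat.lt_or_ge i 87550 with h7 | h7
              · skip
                rcases Nat.lt_or_ge i 87525 with h8 | h8
                · skip
                  exact allRangeF_sound _ _ (checkPointF_eq cert) 87500 25 chkP_87500 i (by omega) (by omega)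
                · skip
                  exact allRangeF_sound _ _ (checkPointF_eq cert) 87525 25 chkP_87525 i (by omega) (by omega)
              · skip
                rcases Nat.lt_or_ge i 87575 with h8 | h8
                · skip
                  exact allRangeF_sound _ _ (checkPointF_eq cert) 87550 25 chkP_87550 i (by omega) (by omega)
                · skip
                  rcases Nat.lt_or_ge i 87600 with h9 | h9
                  · skip
                    exact allRangeF_sound _ _ (checkPointF_eq cert) 87575 25 chkP_87575 i (by omega) (by omega)
                  · skip
                    exact allRangeF_sound _ _ (checkPointF_eq cert) 87600 25 chkP_87600 i (by omega) (by omega)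
            · skip
              rcases Nat.lt_or_ge i 87675 with h7 | h7
              · skip
                rcases Nat.lt_or_ge i 87650 with h8 | h8
                · skip
                  exact allRangeF_sound _ _ (checkPointF_eq cert) 87625 25 chkP_87625 i (by omega) (by omega)
                · skip
                  exact allRangeF_sound _ _ (checkPointF_eq cert) 87650 25 chkP_87650 i (by omega) (by omega)
              · skip
                rcases Nat.lt_or_ge i 87700 with h8 | h8
                · skip
                  exact allRangeF_sound _ _ (checkPointF_eq cert) 87675 25 chkP_87675 i (by omega) (by omega)
                · skip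
                  rcases Nat.lt_or_ge i 87725 with h9 | h9
                  · skip
                    exact allRangeF_sound _ _ (checkPointF_eq cert) 87700 25 chkP_87700 i (by omega) (by omega)
                  · skip
                    exact allRangeF_sound _ _ (checkPointF_eq cert) 87725 25 chkP_87725 i (by omega) (by omega)
        · skip
          rcases Nat.lt_or_ge i 88000 with h5 | h5
          · skip
            rcases Nat.lt_or_ge i 87875 with h6 | h6
            · skip
              rcases Nat.lt_or_ge i 87800 with h7 | h7
              · skip
                rcases Nat.lt_or_ge i 87775 with h8 | h8
                · skip
                  exact allRangeF_sound _ _ (checkPointF_eq cert) 87750 25 chkP_87750 i (by omega) (by omega)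
                · skip
                  exact allRangeF_sound _ _ (checkPointF_eq cert) 87775 25 chkP_87775 i (by omega) (by omega)
              · skip
                rcases Nat.lt_or_ge i 87825 with h8 | h8
                · skip
                  exact allRangeF_sound _ _ (checkPointF_eq cert) 87800 25 chkP_87800 i (by omega) (by omega)
                · skip
                  rcases Nat.lt_or_ge i 87850 with h9 | h9
                  · skip
                    exact allRangeF_sound _ _ (checkPointF_eq cert) 87825 25 chkP_87825 i (by omega) (by omega)
                  · skip
                    exact allRangeF_sound _ _ (checkPointF_eq cert) 87850 25 chkP_87850 i (by omega) (by omega)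
            · skip
              rcases Nat.lt_or_ge i 87925 with h7 | h7
              · skip
                rcases Nat.lt_or_ge i 87900 with h8 | h8
                · skip
                  exact allRangeF_sound _ _ (checkPointF_eq cert) 87875 25 chkP_87875 i (by omega) (by omega)
                · skip
                  exact allRangeF_sound _ _ (checkPointF_eq cert) 87900 25 chkP_87900 i (by omega) (by omega)
              · skip
                rcases Nat.lt_or_ge i 87950 with h8 | h8
                · skip
                  exact allRangeF_sound _ _ (checkPointF_eq cert) 87925 25 chkP_87925 i (by omega) (by omega)
                · skip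
                  rcases Nat.lt_or_ge i 87975 with h9 | h9
                  · skip
                    exact allRangeF_sound _ _ (checkPointF_eq cert) 87950 25 chkP_87950 i (by omega) (by omega)
                  · skip
                    exact allRangeF_sound _ _ (checkPointF_eq cert) 87975 25 chkP_87975 i (by omega) (by omega)
          · skip
            rcases Nat.lt_or_ge i 88125 with h6 | h6
            · skip
              rcases Nat.lt_or_ge i 88050 with h7 | h7
              · skip
                rcases Nat.lt_or_ge i 88025 with h8 | h8
                · skip
                  exact allRangeF_sound _ _ (checkPointF_eq cert) 88000 25 chkP_88000 i (by omega) (by omega)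
                · skip
                  exact allRangeF_sound _ _ (checkPointF_eq cert) 88025 25 chkP_88025 i (by omega) (by omega)
              · skip
                rcases Nat.lt_or_ge i 88075 with h8 | h8
                · skip
                  exact allRangeF_sound _ _ (checkPointF_eq cert) 88050 25 chkP_88050 i (by omega) (by omega)
                · skip
                  rcases Nat.lt_or_ge i 88100 with h9 | h9
                  · skip
                    exact allRangeF_sound _ _ (checkPointF_eq cert) 88075 25 chkP_88075 i (by omega) (by omega)
                  · skip
                    exact allRangeF_sound _ _ (checkPointF_eq cert) 88100 25 chkP_88100 i (by omega) (by omega)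
            · skip
              rcases Nat.lt_or_ge i 88175 with h7 | h7
              · skip
                rcases Nat.lt_or_ge i 88150 with h8 | h8
                · skip
                  exact allRangeF_sound _ _ (checkPointF_eq cert) 88125 25 chkP_88125 i (by omega) (by omega)
                · skip
                  exact allRangeF_sound _ _ (checkPointF_eq cert) 88150 25 chkP_88150 i (by omega) (by omega)
              · skip
                rcases Nat.lt_or_ge i 88200 with h8 | h8
                · skip
                  exact allRangeF_sound _ _ (checkPointF_eq cert) 88175 25 chkP_88175 i (by omega) (by omega)
                · skip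
                  rcases Nat.lt_or_ge i 88225 with h9 | h9
                  · skip
                    exact allRangeF_sound _ _ (checkPointF_eq cert) 88200 25 chkP_88200 i (by omega) (by omega)
                  · skip
                    exact allRangeF_sound _ _ (checkPointF_eq cert) 88225 25 chkP_88225 i (by omega) (by omega)
  · skip
    rcases Nat.lt_or_ge i 90175 with h2 | h2
    · skip
      rcases Nat.lt_or_ge i 89200 with h3 | h3
      · skip
        rcases Nat.lt_or_ge i 88725 with h4 | h4
        · skip
          rcases Nat.lt_or_ge i 88475 with h5 | h5
          · skip
            rcases Nat.lt_or_ge i 88350 with h6 | h6
            · skip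
              rcases Nat.lt_or_ge i 88300 with h7 | h7
              · skip
                rcases Nat.lt_or_ge i 88275 with h8 | h8
                · skip
                  exact allRangeF_sound _ _ (checkPointF_eq cert) 88250 25 chkP_88250 i (by omega) (by omega)
                · skip
                  exact allRangeF_sound _ _ (checkPointF_eq cert) 88275 25 chkP_88275 i (by omega) (by omega)
              · skip
                rcases Nat.lt_or_ge i 88325 with h8 | h8
                · skip
                  exact allRangeF_sound _ _ (checkPointF_eq cert) 88300 25 chkP_88300 i (by omega) (by omega)
                · skip
                  exact allRangeF_sound _ _ (checkPointF_eq cert) 88325 25 chkP_88325 i (by omega) (by omega)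
            · skip
              rcases Nat.lt_or_ge i 88400 with h7 | h7
              · skip
                rcases Nat.lt_or_ge i 88375 with h8 | h8
                · skip
                  exact allRangeF_sound _ _ (checkPointF_eq cert) 88350 25 chkP_88350 i (by omega) (by omega)
                · skip
                  exact allRangeF_sound _ _ (checkPointF_eq cert) 88375 25 chkP_88375 i (by omega) (by omega)
              · skip
                rcases Nat.lt_or_ge i 88425 with h8 | h8
                · skip
                  exact allRangeF_sound _ _ (checkPointF_eq cert) 88400 25 chkP_88400 i (by omega) (by omega)
                · skip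
                  rcases Nat.lt_or_ge i 88450 with h9 | h9
                  · skip
                    exact allRangeF_sound _ _ (checkPointF_eq cert) 88425 25 chkP_88425 i (by omega) (by omega)
                  · skip
                    exact allRangeF_sound _ _ (checkPointF_eq cert) 88450 25 chkP_88450 i (by omega) (by omega)
          · skip
            rcases Nat.lt_or_ge i 88600 with h6 | h6
            · skip
              rcases Nat.lt_or_ge i 88525 with h7 | h7
              · skip
                rcases Nat.lt_or_ge i 88500 with h8 | h8
                · skip
                  exact allRangeF_sound _ _ (checkPointF_eq cert) 88475 25 chkP_88475 i (by omega) (by omega)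
                · skip
                  exact allRangeF_sound _ _ (checkPointF_eq cert) 88500 25 chkP_88500 i (by omega) (by omega)
              · skip
                rcases Nat.lt_or_ge i 88550 with h8 | h8
                · skip
                  exact allRangeF_sound _ _ (checkPointF_eq cert) 88525 25 chkP_88525 i (by omega) (by omega)
                · skip
                  rcases Nat.lt_or_ge i 88575 with h9 | h9
                  · skip
                    exact allRangeF_sound _ _ (checkPointF_eq cert) 88550 25 chkP_88550 i (by omega) (by omega)
                  · skip
                    exact allRangeF_sound _ _ (checkPointF_eq cert) 88575 25 chkP_88575 i (by omega) (by omega)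
            · skip
              rcases Nat.lt_or_ge i 88650 with h7 | h7
              · skip
                rcases Nat.lt_or_ge i 88625 with h8 | h8
                · skip
                  exact allRangeF_sound _ _ (checkPointF_eq cert) 88600 25 chkP_88600 i (by omega) (by omega)
                · skip
                  exact allRangeF_sound _ _ (checkPointF_eq cert) 88625 25 chkP_88625 i (by omega) (by omega)
              · skip
                rcases Nat.lt_or_ge i 88675 with h8 | h8
                · skip
                  exact allRangeF_sound _ _ (checkPointF_eq cert) 88650 25 chkP_88650 i (by omega) (by omega)
                · skip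
                  rcases Nat.lt_or_ge i 88700 with h9 | h9
                  · skip
                    exact allRangeF_sound _ _ (checkPointF_eq cert) 88675 25 chkP_88675 i (by omega) (by omega)
                  · skip
                    exact allRangeF_sound _ _ (checkPointF_eq cert) 88700 25 chkP_88700 i (by omega) (by omega)
        · skip
          rcases Nat.lt_or_ge i 88950 with h5 | h5
          · skip
            rcases Nat.lt_or_ge i 88825 with h6 | h6
            · skip
              rcases Nat.lt_or_ge i 88775 with h7 | h7
              · skip
                rcases Nat.lt_or_ge i 88750 with h8 | h8
                · skip
                  exact allRangeF_sound _ _ (checkPointF_eq cert) 88725 25 chkP_88725 i (by omega) (by omega)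
                · skip
                  exact allRangeF_sound _ _ (checkPointF_eq cert) 88750 25 chkP_88750 i (by omega) (by omega)
              · skip
                rcases Nat.lt_or_ge i 88800 with h8 | h8
                · skip
                  exact allRangeF_sound _ _ (checkPointF_eq cert) 88775 25 chkP_88775 i (by omega) (by omega)
                · skip
                  exact allRangeF_sound _ _ (checkPointF_eq cert) 88800 25 chkP_88800 i (by omega) (by omega)
            · skip
              rcases Nat.lt_or_ge i 88875 with h7 | h7
              · skip
                rcases Nat.lt_or_ge i 88850 with h8 | h8
                · skip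
                  exact allRangeF_sound _ _ (checkPointF_eq cert) 88825 25 chkP_88825 i (by omega) (by omega)
                · skip
                  exact allRangeF_sound _ _ (checkPointF_eq cert) 88850 25 chkP_88850 i (by omega) (by omega)
              · skip
                rcases Nat.lt_or_ge i 88900 with h8 | h8
                · skip
                  exact allRangeF_sound _ _ (checkPointF_eq cert) 88875 25 chkP_88875 i (by omega) (by omega)
                · skip
                  rcases Nat.lt_or_ge i 88925 with h9 | h9
                  · skip
                    exact allRangeF_sound _ _ (checkPointF_eq cert) 88900 25 chkP_88900 i (by omega) (by omega)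
                  · skip
                    exact allRangeF_sound _ _ (checkPointF_eq cert) 88925 25 chkP_88925 i (by omega) (by omega)
          · skip
            rcases Nat.lt_or_ge i 89075 with h6 | h6
            · skip
              rcases Nat.lt_or_ge i 89000 with h7 | h7
              · skip
                rcases Nat.lt_or_ge i 88975 with h8 | h8
                · skip
                  exact allRangeF_sound _ _ (checkPointF_eq cert) 88950 25 chkP_88950 i (by omega) (by omega)
                · skip
                  exact allRangeF_sound _ _ (checkPointF_eq cert) 88975 25 chkP_88975 i (by omega) (by omega)
              · skip
                rcases Nat.lt_or_ge i 89025 with h8 | h8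
                · skip
                  exact allRangeF_sound _ _ (checkPointF_eq cert) 89000 25 chkP_89000 i (by omega) (by omega)
                · skip
                  rcases Nat.lt_or_ge i 89050 with h9 | h9
                  · skip
                    exact allRangeF_sound _ _ (checkPointF_eq cert) 89025 25 chkP_89025 i (by omega) (by omega)
                  · skip
                    exact allRangeF_sound _ _ (checkPointF_eq cert) 89050 25 chkP_89050 i (by omega) (by omega)
            · skip
              rcases Nat.lt_or_ge i 89125 with h7 | h7
              · skip
                rcases Nat.lt_or_ge i 89100 with h8 | h8
                · skip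
                  exact allRangeF_sound _ _ (checkPointF_eq cert) 89075 25 chkP_89075 i (by omega) (by omega)
                · skip
                  exact allRangeF_sound _ _ (checkPointF_eq cert) 89100 25 chkP_89100 i (by omega) (by omega)
              · skip
                rcases Nat.lt_or_ge i 89150 with h8 | h8
                · skip
                  exact allRangeF_sound _ _ (checkPointF_eq cert) 89125 25 chkP_89125 i (by omega) (by omega)
                · skip
                  rcases Nat.lt_or_ge i 89175 with h9 | h9
                  · skip
                    exact allRangeF_sound _ _ (checkPointF_eq cert) 89150 25 chkP_89150 i (by omega) (by omega)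
                  · skip
                    exact allRangeF_sound _ _ (checkPointF_eq cert) 89175 25 chkP_89175 i (by omega) (by omega)
      · skip
        rcases Nat.lt_or_ge i 89675 with h4 | h4
        · skip
          rcases Nat.lt_or_ge i 89425 with h5 | h5
          · skip
            rcases Nat.lt_or_ge i 89300 with h6 | h6
            · skip
              rcases Nat.lt_or_ge i 89250 with h7 | h7
              · skip
                rcases Nat.lt_or_ge i 89225 with h8 | h8
                · skip
                  exact allRangeF_sound _ _ (checkPointF_eq cert) 89200 25 chkP_89200 i (by omega) (by omega)
                · skip
                  exact allRangeF_sound _ _ (checkPointF_eq cert) 89225 25 chkP_89225 i (by omega) (by omega)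
              · skip
                rcases Nat.lt_or_ge i 89275 with h8 | h8
                · skip
                  exact allRangeF_sound _ _ (checkPointF_eq cert) 89250 25 chkP_89250 i (by omega) (by omega)
                · skip
                  exact allRangeF_sound _ _ (checkPointF_eq cert) 89275 25 chkP_89275 i (by omega) (by omega)
            · skip
              rcases Nat.lt_or_ge i 89350 with h7 | h7
              · skip
                rcases Nat.lt_or_ge i 89325 with h8 | h8
                · skip
                  exact allRangeF_sound _ _ (checkPointF_eq cert) 89300 25 chkP_89300 i (by omega) (by omega)
                · skip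
                  exact allRangeF_sound _ _ (checkPointF_eq cert) 89325 25 chkP_89325 i (by omega) (by omega)
              · skip
                rcases Nat.lt_or_ge i 89375 with h8 | h8
                · skip
                  exact allRangeF_sound _ _ (checkPointF_eq cert) 89350 25 chkP_89350 i (by omega) (by omega)
                · skip
                  rcases Nat.lt_or_ge i 89400 with h9 | h9
                  · skip
                    exact allRangeF_sound _ _ (checkPointF_eq cert) 89375 25 chkP_89375 i (by omega) (by omega)
                  · skip
                    exact allRangeF_sound _ _ (checkPointF_eq cert) 89400 25 chkP_89400 i (by omega) (by omega)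
          · skip
            rcases Nat.lt_or_ge i 89550 with h6 | h6
            · skip
              rcases Nat.lt_or_ge i 89475 with h7 | h7
              · skip
                rcases Nat.lt_or_ge i 89450 with h8 | h8
                · skip
                  exact allRangeF_sound _ _ (checkPointF_eq cert) 89425 25 chkP_89425 i (by omega) (by omega)
                · skip
                  exact allRangeF_sound _ _ (checkPointF_eq cert) 89450 25 chkP_89450 i (by omega) (by omega)
              · skip
                rcases Nat.lt_or_ge i 89500 with h8 | h8
                · skip
                  exact allRangeF_sound _ _ (checkPointF_eq cert) 89475 25 chkP_89475 i (by omega) (by omega)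
                · skip
                  rcases Nat.lt_or_ge i 89525 with h9 | h9
                  · skip
                    exact allRangeF_sound _ _ (checkPointF_eq cert) 89500 25 chkP_89500 i (by omega) (by omega)
                  · skip
                    exact allRangeF_sound _ _ (checkPointF_eq cert) 89525 25 chkP_89525 i (by omega) (by omega)
            · skip
              rcases Nat.lt_or_ge i 89600 with h7 | h7
              · skip
                rcases Nat.lt_or_ge i 89575 with h8 | h8
                · skip
                  exact allRangeF_sound _ _ (checkPointF_eq cert) 89550 25 chkP_89550 i (by omega) (by omega)
                · skip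
                  exact allRangeF_sound _ _ (checkPointF_eq cert) 89575 25 chkP_89575 i (by omega) (by omega)
              · skip
                rcases Nat.lt_or_ge i 89625 with h8 | h8
                · skip
                  exact allRangeF_sound _ _ (checkPointF_eq cert) 89600 25 chkP_89600 i (by omega) (by omega)
                · skip
                  rcases Nat.lt_or_ge i 89650 with h9 | h9
                  · skip
                    exact allRangeF_sound _ _ (checkPointF_eq cert) 89625 25 chkP_89625 i (by omega) (by omega)
                  · skip
                    exact allRangeF_sound _ _ (checkPointF_eq cert) 89650 25 chkP_89650 i (by omega) (by omega)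
        · skip
          rcases Nat.lt_or_ge i 89925 with h5 | h5
          · skip
            rcases Nat.lt_or_ge i 89800 with h6 | h6
            · skip
              rcases Nat.lt_or_ge i 89725 with h7 | h7
              · skip
                rcases Nat.lt_or_ge i 89700 with h8 | h8
                · skip
                  exact allRangeF_sound _ _ (checkPointF_eq cert) 89675 25 chkP_89675 i (by omega) (by omega)
                · skip
                  exact allRangeF_sound _ _ (checkPointF_eq cert) 89700 25 chkP_89700 i (by omega) (by omega)
              · skip
                rcases Nat.lt_or_ge i 89750 with h8 | h8
                · skip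
                  exact allRangeF_sound _ _ (checkPointF_eq cert) 89725 25 chkP_89725 i (by omega) (by omega)
                · skip
                  rcases Nat.lt_or_ge i 89775 with h9 | h9
                  · skip
                    exact allRangeF_sound _ _ (checkPointF_eq cert) 89750 25 chkP_89750 i (by omega) (by omega)
                  · skip
                    exact allRangeF_sound _ _ (checkPointF_eq cert) 89775 25 chkP_89775 i (by omega) (by omega)
            · skip
              rcases Nat.lt_or_ge i 89850 with h7 | h7
              · skip
                rcases Nat.lt_or_ge i 89825 with h8 | h8
                · skip
                  exact allRangeF_sound _ _ (checkPointF_eq cert) 89800 25 chkP_89800 i (by omega) (by omega)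
                · skip
                  exact allRangeF_sound _ _ (checkPointF_eq cert) 89825 25 chkP_89825 i (by omega) (by omega)
              · skip
                rcases Nat.lt_or_ge i 89875 with h8 | h8
                · skip
                  exact allRangeF_sound _ _ (checkPointF_eq cert) 89850 25 chkP_89850 i (by omega) (by omega)
                · skip
                  rcases Nat.lt_or_ge i 89900 with h9 | h9
                  · skip
                    exact allRangeF_sound _ _ (checkPointF_eq cert) 89875 25 chkP_89875 i (by omega) (by omega)
                  · skip
                    exact allRangeF_sound _ _ (checkPointF_eq cert) 89900 25 chkP_89900 i (by omega) (by omega)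
          · skip
            rcases Nat.lt_or_ge i 90050 with h6 | h6
            · skip
              rcases Nat.lt_or_ge i 89975 with h7 | h7
              · skip
                rcases Nat.lt_or_ge i 89950 with h8 | h8
                · skip
                  exact allRangeF_sound _ _ (checkPointF_eq cert) 89925 25 chkP_89925 i (by omega) (by omega)
                · skip
                  exact allRangeF_sound _ _ (checkPointF_eq cert) 89950 25 chkP_89950 i (by omega) (by omega)
              · skip
                rcases Nat.lt_or_ge i 90000 with h8 | h8
                · skip
                  exact allRangeF_sound _ _ (checkPointF_eq cert) 89975 25 chkP_89975 i (by omega) (by omega)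
                · skip
                  rcases Nat.lt_or_ge i 90025 with h9 | h9
                  · skip
                    exact allRangeF_sound _ _ (checkPointF_eq cert) 90000 25 chkP_90000 i (by omega) (by omega)
                  · skip
                    exact allRangeF_sound _ _ (checkPointF_eq cert) 90025 25 chkP_90025 i (by omega) (by omega)
            · skip
              rcases Nat.lt_or_ge i 90100 with h7 | h7
              · skip
                rcases Nat.lt_or_ge i 90075 with h8 | h8
                · skip
                  exact allRangeF_sound _ _ (checkPointF_eq cert) 90050 25 chkP_90050 i (by omega) (by omega)
                · skip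
                  exact allRangeF_sound _ _ (checkPointF_eq cert) 90075 25 chkP_90075 i (by omega) (by omega)
              · skip
                rcases Nat.lt_or_ge i 90125 with h8 | h8
                · skip
                  exact allRangeF_sound _ _ (checkPointF_eq cert) 90100 25 chkP_90100 i (by omega) (by omega)
                · skip
                  rcases Nat.lt_or_ge i 90150 with h9 | h9
                  · skip
                    exact allRangeF_sound _ _ (checkPointF_eq cert) 90125 25 chkP_90125 i (by omega) (by omega)
                  · skip
                    exact allRangeF_sound _ _ (checkPointF_eq cert) 90150 25 chkP_90150 i (by omega) (by omega)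
    · skip
      rcases Nat.lt_or_ge i 91125 with h3 | h3
      · skip
        rcases Nat.lt_or_ge i 90650 with h4 | h4
        · skip
          rcases Nat.lt_or_ge i 90400 with h5 | h5
          · skip
            rcases Nat.lt_or_ge i 90275 with h6 | h6
            · skip
              rcases Nat.lt_or_ge i 90225 with h7 | h7
              · skip
                rcases Nat.lt_or_ge i 90200 with h8 | h8
                · skip
                  exact allRangeF_sound _ _ (checkPointF_eq cert) 90175 25 chkP_90175 i (by omega) (by omega)
                · skip
                  exact allRangeF_sound _ _ (checkPointF_eq cert) 90200 25 chkP_90200 i (by omega) (by omega)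
              · skip
                rcases Nat.lt_or_ge i 90250 with h8 | h8
                · skip
                  exact allRangeF_sound _ _ (checkPointF_eq cert) 90225 25 chkP_90225 i (by omega) (by omega)
                · skip
                  exact allRangeF_sound _ _ (checkPointF_eq cert) 90250 25 chkP_90250 i (by omega) (by omega)
            · skip
              rcases Nat.lt_or_ge i 90325 with h7 | h7
              · skip
                rcases Nat.lt_or_ge i 90300 with h8 | h8
                · skip
                  exact allRangeF_sound _ _ (checkPointF_eq cert) 90275 25 chkP_90275 i (by omega) (by omega)
                · skip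
                  exact allRangeF_sound _ _ (checkPointF_eq cert) 90300 25 chkP_90300 i (by omega) (by omega)
              · skip
                rcases Nat.lt_or_ge i 90350 with h8 | h8
                · skip
                  exact allRangeF_sound _ _ (checkPointF_eq cert) 90325 25 chkP_90325 i (by omega) (by omega)
                · skip
                  rcases Nat.lt_or_ge i 90375 with h9 | h9
                  · skip
                    exact allRangeF_sound _ _ (checkPointF_eq cert) 90350 25 chkP_90350 i (by omega) (by omega)
                  · skip
                    exact allRangeF_sound _ _ (checkPointF_eq cert) 90375 25 chkP_90375 i (by omega) (by omega)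
          · skip
            rcases Nat.lt_or_ge i 90525 with h6 | h6
            · skip
              rcases Nat.lt_or_ge i 90450 with h7 | h7
              · skip
                rcases Nat.lt_or_ge i 90425 with h8 | h8
                · skip
                  exact allRangeF_sound _ _ (checkPointF_eq cert) 90400 25 chkP_90400 i (by omega) (by omega)
                · skip
                  exact allRangeF_sound _ _ (checkPointF_eq cert) 90425 25 chkP_90425 i (by omega) (by omega)
              · skip
                rcases Nat.lt_or_ge i 90475 with h8 | h8
                · skip
                  exact allRangeF_sound _ _ (checkPointF_eq cert) 90450 25 chkP_90450 i (by omega) (by omega)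
                · skip
                  rcases Nat.lt_or_ge i 90500 with h9 | h9
                  · skip
                    exact allRangeF_sound _ _ (checkPointF_eq cert) 90475 25 chkP_90475 i (by omega) (by omega)
                  · skip
                    exact allRangeF_sound _ _ (checkPointF_eq cert) 90500 25 chkP_90500 i (by omega) (by omega)
            · skip
              rcases Nat.lt_or_ge i 90575 with h7 | h7
              · skip
                rcases Nat.lt_or_ge i 90550 with h8 | h8
                · skip
                  exact allRangeF_sound _ _ (checkPointF_eq cert) 90525 25 chkP_90525 i (by omega) (by omega)
                · skip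
                  exact allRangeF_sound _ _ (checkPointF_eq cert) 90550 25 chkP_90550 i (by omega) (by omega)
              · skip
                rcases Nat.lt_or_ge i 90600 with h8 | h8
                · skip
                  exact allRangeF_sound _ _ (checkPointF_eq cert) 90575 25 chkP_90575 i (by omega) (by omega)
                · skip
                  rcases Nat.lt_or_ge i 90625 with h9 | h9
                  · skip
                    exact allRangeF_sound _ _ (checkPointF_eq cert) 90600 25 chkP_90600 i (by omega) (by omega)
                  · skip
                    exact allRangeF_sound _ _ (checkPointF_eq cert) 90625 25 chkP_90625 i (by omega) (by omega)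
        · skip
          rcases Nat.lt_or_ge i 90875 with h5 | h5
          · skip
            rcases Nat.lt_or_ge i 90750 with h6 | h6
            · skip
              rcases Nat.lt_or_ge i 90700 with h7 | h7
              · skip
                rcases Nat.lt_or_ge i 90675 with h8 | h8
                · skip
                  exact allRangeF_sound _ _ (checkPointF_eq cert) 90650 25 chkP_90650 i (by omega) (by omega)
                · skip
                  exact allRangeF_sound _ _ (checkPointF_eq cert) 90675 25 chkP_90675 i (by omega) (by omega)
              · skip
                rcases Nat.lt_or_ge i 90725 with h8 | h8
                · skip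
                  exact allRangeF_sound _ _ (checkPointF_eq cert) 90700 25 chkP_90700 i (by omega) (by omega)
                · skip
                  exact allRangeF_sound _ _ (checkPointF_eq cert) 90725 25 chkP_90725 i (by omega) (by omega)
            · skip
              rcases Nat.lt_or_ge i 90800 with h7 | h7
              · skip
                rcases Nat.lt_or_ge i 90775 with h8 | h8
                · skip
                  exact allRangeF_sound _ _ (checkPointF_eq cert) 90750 25 chkP_90750 i (by omega) (by omega)
                · skip
                  exact allRangeF_sound _ _ (checkPointF_eq cert) 90775 25 chkP_90775 i (by omega) (by omega)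
              · skip
                rcases Nat.lt_or_ge i 90825 with h8 | h8
                · skip
                  exact allRangeF_sound _ _ (checkPointF_eq cert) 90800 25 chkP_90800 i (by omega) (by omega)
                · skip
                  rcases Nat.lt_or_ge i 90850 with h9 | h9
                  · skip
                    exact allRangeF_sound _ _ (checkPointF_eq cert) 90825 25 chkP_90825 i (by omega) (by omega)
                  · skip
                    exact allRangeF_sound _ _ (checkPointF_eq cert) 90850 25 chkP_90850 i (by omega) (by omega)
          · skip
            rcases Nat.lt_or_ge i 91000 with h6 | h6
            · skip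
              rcases Nat.lt_or_ge i 90925 with h7 | h7
              · skip
                rcases Nat.lt_or_ge i 90900 with h8 | h8
                · skip
                  exact allRangeF_sound _ _ (checkPointF_eq cert) 90875 25 chkP_90875 i (by omega) (by omega)
                · skip
                  exact allRangeF_sound _ _ (checkPointF_eq cert) 90900 25 chkP_90900 i (by omega) (by omega)
              · skip
                rcases Nat.lt_or_ge i 90950 with h8 | h8
                · skip
                  exact allRangeF_sound _ _ (checkPointF_eq cert) 90925 25 chkP_90925 i (by omega) (by omega)
                · skip
                  rcases Nat.lt_or_ge i 90975 with h9 | h9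
                  · skip
                    exact allRangeF_sound _ _ (checkPointF_eq cert) 90950 25 chkP_90950 i (by omega) (by omega)
                  · skip
                    exact allRangeF_sound _ _ (checkPointF_eq cert) 90975 25 chkP_90975 i (by omega) (by omega)
            · skip
              rcases Nat.lt_or_ge i 91050 with h7 | h7
              · skip
                rcases Nat.lt_or_ge i 91025 with h8 | h8
                · skip
                  exact allRangeF_sound _ _ (checkPointF_eq cert) 91000 25 chkP_91000 i (by omega) (by omega)
                · skip
                  exact allRangeF_sound _ _ (checkPointF_eq cert) 91025 25 chkP_91025 i (by omega) (by omega)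
              · skip
                rcases Nat.lt_or_ge i 91075 with h8 | h8
                · skip
                  exact allRangeF_sound _ _ (checkPointF_eq cert) 91050 25 chkP_91050 i (by omega) (by omega)
                · skip
                  rcases Nat.lt_or_ge i 91100 with h9 | h9
                  · skip
                    exact allRangeF_sound _ _ (checkPointF_eq cert) 91075 25 chkP_91075 i (by omega) (by omega)
                  · skip
                    exact allRangeF_sound _ _ (checkPointF_eq cert) 91100 25 chkP_91100 i (by omega) (by omega)
      · skip
        rcases Nat.lt_or_ge i 91600 with h4 | h4
        · skip
          rcases Nat.lt_or_ge i 91350 with h5 | h5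
          · skip
            rcases Nat.lt_or_ge i 91225 with h6 | h6
            · skip
              rcases Nat.lt_or_ge i 91175 with h7 | h7
              · skip
                rcases Nat.lt_or_ge i 91150 with h8 | h8
                · skip
                  exact allRangeF_sound _ _ (checkPointF_eq cert) 91125 25 chkP_91125 i (by omega) (by omega)
                · skip
                  exact allRangeF_sound _ _ (checkPointF_eq cert) 91150 25 chkP_91150 i (by omega) (by omega)
              · skip
                rcases Nat.lt_or_ge i 91200 with h8 | h8
                · skip
                  exact allRangeF_sound _ _ (checkPointF_eq cert) 91175 25 chkP_91175 i (by omega) (by omega)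
                · skip
                  exact allRangeF_sound _ _ (checkPointF_eq cert) 91200 25 chkP_91200 i (by omega) (by omega)
            · skip
              rcases Nat.lt_or_ge i 91275 with h7 | h7
              · skip
                rcases Nat.lt_or_ge i 91250 with h8 | h8
                · skip
                  exact allRangeF_sound _ _ (checkPointF_eq cert) 91225 25 chkP_91225 i (by omega) (by omega)
                · skip
                  exact allRangeF_sound _ _ (checkPointF_eq cert) 91250 25 chkP_91250 i (by omega) (by omega)
              · skip
                rcases Nat.lt_or_ge i 91300 with h8 | h8
                · skip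
                  exact allRangeF_sound _ _ (checkPointF_eq cert) 91275 25 chkP_91275 i (by omega) (by omega)
                · skip
                  rcases Nat.lt_or_ge i 91325 with h9 | h9
                  · skip
                    exact allRangeF_sound _ _ (checkPointF_eq cert) 91300 25 chkP_91300 i (by omega) (by omega)
                  · skip
                    exact allRangeF_sound _ _ (checkPointF_eq cert) 91325 25 chkP_91325 i (by omega) (by omega)
          · skip
            rcases Nat.lt_or_ge i 91475 with h6 | h6
            · skip
              rcases Nat.lt_or_ge i 91400 with h7 | h7
              · skip
                rcases Nat.lt_or_ge i 91375 with h8 | h8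
                · skip
                  exact allRangeF_sound _ _ (checkPointF_eq cert) 91350 25 chkP_91350 i (by omega) (by omega)
                · skip
                  exact allRangeF_sound _ _ (checkPointF_eq cert) 91375 25 chkP_91375 i (by omega) (by omega)
              · skip
                rcases Nat.lt_or_ge i 91425 with h8 | h8
                · skip
                  exact allRangeF_sound _ _ (checkPointF_eq cert) 91400 25 chkP_91400 i (by omega) (by omega)
                · skip
                  rcases Nat.lt_or_ge i 91450 with h9 | h9
                  · skip
                    exact allRangeF_sound _ _ (checkPointF_eq cert) 91425 25 chkP_91425 i (by omega) (by omega)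
                  · skip
                    exact allRangeF_sound _ _ (checkPointF_eq cert) 91450 25 chkP_91450 i (by omega) (by omega)
            · skip
              rcases Nat.lt_or_ge i 91525 with h7 | h7
              · skip
                rcases Nat.lt_or_ge i 91500 with h8 | h8
                · skip
                  exact allRangeF_sound _ _ (checkPointF_eq cert) 91475 25 chkP_91475 i (by omega) (by omega)
                · skip
                  exact allRangeF_sound _ _ (checkPointF_eq cert) 91500 25 chkP_91500 i (by omega) (by omega)
              · skip
                rcases Nat.lt_or_ge i 91550 with h8 | h8
                · skip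
                  exact allRangeF_sound _ _ (checkPointF_eq cert) 91525 25 chkP_91525 i (by omega) (by omega)
                · skip
                  rcases Nat.lt_or_ge i 91575 with h9 | h9
                  · skip
                    exact allRangeF_sound _ _ (checkPointF_eq cert) 91550 25 chkP_91550 i (by omega) (by omega)
                  · skip
                    exact allRangeF_sound _ _ (checkPointF_eq cert) 91575 25 chkP_91575 i (by omega) (by omega)
        · skip
          rcases Nat.lt_or_ge i 91850 with h5 | h5
          · skip
            rcases Nat.lt_or_ge i 91725 with h6 | h6
            · skip
              rcases Nat.lt_or_ge i 91650 with h7 | h7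
              · skip
                rcases Nat.lt_or_ge i 91625 with h8 | h8
                · skip
                  exact allRangeF_sound _ _ (checkPointF_eq cert) 91600 25 chkP_91600 i (by omega) (by omega)
                · skip
                  exact allRangeF_sound _ _ (checkPointF_eq cert) 91625 25 chkP_91625 i (by omega) (by omega)
              · skip
                rcases Nat.lt_or_ge i 91675 with h8 | h8
                · skip
                  exact allRangeF_sound _ _ (checkPointF_eq cert) 91650 25 chkP_91650 i (by omega) (by omega)
                · skip
                  rcases Nat.lt_or_ge i 91700 with h9 | h9
                  · skip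
                    exact allRangeF_sound _ _ (checkPointF_eq cert) 91675 25 chkP_91675 i (by omega) (by omega)
                  · skip
                    exact allRangeF_sound _ _ (checkPointF_eq cert) 91700 25 chkP_91700 i (by omega) (by omega)
            · skip
              rcases Nat.lt_or_ge i 91775 with h7 | h7
              · skip
                rcases Nat.lt_or_ge i 91750 with h8 | h8
                · skip
                  exact allRangeF_sound _ _ (checkPointF_eq cert) 91725 25 chkP_91725 i (by omega) (by omega)
                · skip
                  exact allRangeF_sound _ _ (checkPointF_eq cert) 91750 25 chkP_91750 i (by omega) (by omega)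
              · skip
                rcases Nat.lt_or_ge i 91800 with h8 | h8
                · skip
                  exact allRangeF_sound _ _ (checkPointF_eq cert) 91775 25 chkP_91775 i (by omega) (by omega)
                · skip
                  rcases Nat.lt_or_ge i 91825 with h9 | h9
                  · skip
                    exact allRangeF_sound _ _ (checkPointF_eq cert) 91800 25 chkP_91800 i (by omega) (by omega)
                  · skip
                    exact allRangeF_sound _ _ (checkPointF_eq cert) 91825 25 chkP_91825 i (by omega) (by omega)
          · skip
            rcases Nat.lt_or_ge i 91975 with h6 | h6
            · skip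
              rcases Nat.lt_or_ge i 91900 with h7 | h7
              · skip
                rcases Nat.lt_or_ge i 91875 with h8 | h8
                · skip
                  exact allRangeF_sound _ _ (checkPointF_eq cert) 91850 25 chkP_91850 i (by omega) (by omega)
                · skip
                  exact allRangeF_sound _ _ (checkPointF_eq cert) 91875 25 chkP_91875 i (by omega) (by omega)
              · skip
                rcases Nat.lt_or_ge i 91925 with h8 | h8
                · skip
                  exact allRangeF_sound _ _ (checkPointF_eq cert) 91900 25 chkP_91900 i (by omega) (by omega)
                · skip
                  rcases Nat.lt_or_ge i 91950 with h9 | h9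
                  · skip
                    exact allRangeF_sound _ _ (checkPointF_eq cert) 91925 25 chkP_91925 i (by omega) (by omega)
                  · skip
                    exact allRangeF_sound _ _ (checkPointF_eq cert) 91950 25 chkP_91950 i (by omega) (by omega)
            · skip
              rcases Nat.lt_or_ge i 92025 with h7 | h7
              · skip
                rcases Nat.lt_or_ge i 92000 with h8 | h8
                · skip
                  exact allRangeF_sound _ _ (checkPointF_eq cert) 91975 25 chkP_91975 i (by omega) (by omega)
                · skip
                  exact allRangeF_sound _ _ (checkPointF_eq cert) 92000 25 chkP_92000 i (by omega) (by omega)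
              · skip
                rcases Nat.lt_or_ge i 92050 with h8 | h8
                · skip
                  exact allRangeF_sound _ _ (checkPointF_eq cert) 92025 25 chkP_92025 i (by omega) (by omega)
                · skip
                  rcases Nat.lt_or_ge i 92075 with h9 | h9
                  · skip
                    exact allRangeF_sound _ _ (checkPointF_eq cert) 92050 25 chkP_92050 i (by omega) (by omega)
                  · skip
                    exact allRangeF_sound _ _ (checkPointF_eq cert) 92075 25 chkP_92075 i (by omega) (by omega)

end Cfsg.Agent.Lib.Helper28.Fi24Data
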