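import Cfsg.Agent.Lib.Helper28.Fi24Data
import Cfsg.Agent.Lib.Helper28.TCFastB

set_option autoImplicit false
set_option maxRecDepth 1000000
set_option linter.all false
set_option Elab.async false

namespace Cfsg.Agent.Lib.Helper28.Fi24Data

open Cfsg.Agent.Lib.Helper28B

theorem chkP_92100 : allRangeF (checkPointF cert) (nat_lit 92100) (nat_lit 25) = true := by decide +kernel
theorem chkP_92125 : allRangeF (checkPointF cert) (nat_lit 92125) (nat_lit 25) = true := by decide +kernel
theorem chkP_92150 : allRangeF (checkPointF cert) (nat_lit 92150) (nat_lit 25) = true := by decide +kernel
theorem chkP_92175 : allRangeF (checkPointF cert) (nat_lit 92175) (nat_lit 25) = true := by decide +kernel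
theorem chkP_92200 : allRangeF (checkPointF cert) (nat_lit 92200) (nat_lit 25) = true := by decide +kernel
theorem chkP_92225 : allRangeF (checkPointF cert) (nat_lit 92225) (nat_lit 25) = true := by decide +kernel
theorem chkP_92250 : allRangeF (checkPointF cert) (nat_lit 92250) (nat_lit 25) = true := by decide +kernel
theorem chkP_92275 : allRangeF (checkPointF cert) (nat_lit 92275) (nat_lit 25) = true := by decide +kernel
theorem chkP_92300 : allRangeF (checkPointF cert) (nat_lit 92300) (nat_lit 25) = true := by decide +kernel
theorem chkP_92325 : allRangeF (checkPointF cert) (nat_lit 92325) (nat_lit 25) = true := by decide +kernel
theorem chkP_92350 : allRangeF (checkPointF cert) (nat_lit 92350) (nat_lit 25) = true := by decide +kernel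
theorem chkP_92375 : allRangeF (checkPointF cert) (nat_lit 92375) (nat_lit 25) = true := by decide +kernel
theorem chkP_92400 : allRangeF (checkPointF cert) (nat_lit 92400) (nat_lit 25) = true := by decide +kernel
theorem chkP_92425 : allRangeF (checkPointF cert) (nat_lit 92425) (nat_lit 25) = true := by decide +kernel
theorem chkP_92450 : allRangeF (checkPointF cert) (nat_lit 92450) (nat_lit 25) = true := by decide +kernel
theorem chkP_92475 : allRangeF (checkPointF cert) (nat_lit 92475) (nat_lit 25) = true := by decide +kernel
theorem chkP_92500 : allRangeF (checkPointF cert) (nat_lit 92500) (nat_lit 25) = true := by decide +kernel
theorem chkP_92525 : allRangeF (checkPointF cert) (nat_lit 92525) (nat_lit 25) = true := by decide +kernel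
theorem chkP_92550 : allRangeF (checkPointF cert) (nat_lit 92550) (nat_lit 25) = true := by decide +kernel
theorem chkP_92575 : allRangeF (checkPointF cert) (nat_lit 92575) (nat_lit 25) = true := by decide +kernel
theorem chkP_92600 : allRangeF (checkPointF cert) (nat_lit 92600) (nat_lit 25) = true := by decide +kernel
theorem chkP_92625 : allRangeF (checkPointF cert) (nat_lit 92625) (nat_lit 25) = true := by decide +kernel
theorem chkP_92650 : allRangeF (checkPointF cert) (nat_lit 92650) (nat_lit 25) = true := by decide +kernel
theorem chkP_92675 : allRangeF (checkPointF cert) (nat_lit 92675) (nat_lit 25) = true := by decide +kernel
theorem chkP_92700 : allRangeF (checkPointF cert) (nat_lit 92700) (nat_lit 25) = true := by decide +kernel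
theorem chkP_92725 : allRangeF (checkPointF cert) (nat_lit 92725) (nat_lit 25) = true := by decide +kernel
theorem chkP_92750 : allRangeF (checkPointF cert) (nat_lit 92750) (nat_lit 25) = true := by decide +kernel
theorem chkP_92775 : allRangeF (checkPointF cert) (nat_lit 92775) (nat_lit 25) = true := by decide +kernel
theorem chkP_92800 : allRangeF (checkPointF cert) (nat_lit 92800) (nat_lit 25) = true := by decide +kernel
theorem chkP_92825 : allRangeF (checkPointF cert) (nat_lit 92825) (nat_lit 25) = true := by decide +kernel
theorem chkP_92850 : allRangeF (checkPointF cert) (nat_lit 92850) (nat_lit 25) = true := by decide +kernel
theorem chkP_92875 : allRangeF (checkPointF cert) (nat_lit 92875) (nat_lit 25) = true := by decide +kernel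
theorem chkP_92900 : allRangeF (checkPointF cert) (nat_lit 92900) (nat_lit 25) = true := by decide +kernel
theorem chkP_92925 : allRangeF (checkPointF cert) (nat_lit 92925) (nat_lit 25) = true := by decide +kernel
theorem chkP_92950 : allRangeF (checkPointF cert) (nat_lit 92950) (nat_lit 25) = true := by decide +kernel
theorem chkP_92975 : allRangeF (checkPointF cert) (nat_lit 92975) (nat_lit 25) = true := by decide +kernel
theorem chkP_93000 : allRangeF (checkPointF cert) (nat_lit 93000) (nat_lit 25) = true := by decide +kernel
theorem chkP_93025 : allRangeF (checkPointF cert) (nat_lit 93025) (nat_lit 25) = true := by decide +kernel
theorem chkP_93050 : allRangeF (checkPointF cert) (nat_lit 93050) (nat_lit 25) = true := by decide +kernel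
theorem chkP_93075 : allRangeF (checkPointF cert) (nat_lit 93075) (nat_lit 25) = true := by decide +kernel
theorem chkP_93100 : allRangeF (checkPointF cert) (nat_lit 93100) (nat_lit 25) = true := by decide +kernel
theorem chkP_93125 : allRangeF (checkPointF cert) (nat_lit 93125) (nat_lit 25) = true := by decide +kernel
theorem chkP_93150 : allRangeF (checkPointF cert) (nat_lit 93150) (nat_lit 25) = true := by decide +kernel
theorem chkP_93175 : allRangeF (checkPointF cert) (nat_lit 93175) (nat_lit 25) = true := by decide +kernel
theorem chkP_93200 : allRangeF (checkPointF cert) (nat_lit 93200) (nat_lit 25) = true := by decide +kernel
theorem chkP_93225 : allRangeF (checkPointF cert) (nat_lit 93225) (nat_lit 25) = true := by decide +kernel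
theorem chkP_93250 : allRangeF (checkPointF cert) (nat_lit 93250) (nat_lit 25) = true := by decide +kernel
theorem chkP_93275 : allRangeF (checkPointF cert) (nat_lit 93275) (nat_lit 25) = true := by decide +kernel
theorem chkP_93300 : allRangeF (checkPointF cert) (nat_lit 93300) (nat_lit 25) = true := by decide +kernel
theorem chkP_93325 : allRangeF (checkPointF cert) (nat_lit 93325) (nat_lit 25) = true := by decide +kernel
theorem chkP_93350 : allRangeF (checkPointF cert) (nat_lit 93350) (nat_lit 25) = true := by decide +kernel
theorem chkP_93375 : allRangeF (checkPointF cert) (nat_lit 93375) (nat_lit 25) = true := by decide +kernel
theorem chkP_93400 : allRangeF (checkPointF cert) (nat_lit 93400) (nat_lit 25) = true := by decide +kernel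
theorem chkP_93425 : allRangeF (checkPointF cert) (nat_lit 93425) (nat_lit 25) = true := by decide +kernel
theorem chkP_93450 : allRangeF (checkPointF cert) (nat_lit 93450) (nat_lit 25) = true := by decide +kernel
theorem chkP_93475 : allRangeF (checkPointF cert) (nat_lit 93475) (nat_lit 25) = true := by decide +kernel
theorem chkP_93500 : allRangeF (checkPointF cert) (nat_lit 93500) (nat_lit 25) = true := by decide +kernel
theorem chkP_93525 : allRangeF (checkPointF cert) (nat_lit 93525) (nat_lit 25) = true := by decide +kernel
theorem chkP_93550 : allRangeF (checkPointF cert) (nat_lit 93550) (nat_lit 25) = true := by decide +kernel
theorem chkP_93575 : allRangeF (checkPointF cert) (nat_lit 93575) (nat_lit 25) = true := by decide +kernel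
theorem chkP_93600 : allRangeF (checkPointF cert) (nat_lit 93600) (nat_lit 25) = true := by decide +kernel
theorem chkP_93625 : allRangeF (checkPointF cert) (nat_lit 93625) (nat_lit 25) = true := by decide +kernel
theorem chkP_93650 : allRangeF (checkPointF cert) (nat_lit 93650) (nat_lit 25) = true := by decide +kernel
theorem chkP_93675 : allRangeF (checkPointF cert) (nat_lit 93675) (nat_lit 25) = true := by decide +kernel
theorem chkP_93700 : allRangeF (checkPointF cert) (nat_lit 93700) (nat_lit 25) = true := by decide +kernel
theorem chkP_93725 : allRangeF (checkPointF cert) (nat_lit 93725) (nat_lit 25) = true := by decide +kernel
theorem chkP_93750 : allRangeF (checkPointF cert) (nat_lit 93750) (nat_lit 25) = true := by decide +kernel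
theorem chkP_93775 : allRangeF (checkPointF cert) (nat_lit 93775) (nat_lit 25) = true := by decide +kernel
theorem chkP_93800 : allRangeF (checkPointF cert) (nat_lit 93800) (nat_lit 25) = true := by decide +kernel
theorem chkP_93825 : allRangeF (checkPointF cert) (nat_lit 93825) (nat_lit 25) = true := by decide +kernel
theorem chkP_93850 : allRangeF (checkPointF cert) (nat_lit 93850) (nat_lit 25) = true := by decide +kernel
theorem chkP_93875 : allRangeF (checkPointF cert) (nat_lit 93875) (nat_lit 25) = true := by decide +kernel
theorem chkP_93900 : allRangeF (checkPointF cert) (nat_lit 93900) (nat_lit 25) = true := by decide +kernel
theorem chkP_93925 : allRangeF (checkPointF cert) (nat_lit 93925) (nat_lit 25) = true := by decide +kernel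
theorem chkP_93950 : allRangeF (checkPointF cert) (nat_lit 93950) (nat_lit 25) = true := by decide +kernel
theorem chkP_93975 : allRangeF (checkPointF cert) (nat_lit 93975) (nat_lit 25) = true := by decide +kernel
theorem chkP_94000 : allRangeF (checkPointF cert) (nat_lit 94000) (nat_lit 25) = true := by decide +kernel
theorem chkP_94025 : allRangeF (checkPointF cert) (nat_lit 94025) (nat_lit 25) = true := by decide +kernel
theorem chkP_94050 : allRangeF (checkPointF cert) (nat_lit 94050) (nat_lit 25) = true := by decide +kernel
theorem chkP_94075 : allRangeF (checkPointF cert) (nat_lit 94075) (nat_lit 25) = true := by decide +kernel
theorem chkP_94100 : allRangeF (checkPointF cert) (nat_lit 94100) (nat_lit 25) = true := by decide +kernel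
theorem chkP_94125 : allRangeF (checkPointF cert) (nat_lit 94125) (nat_lit 25) = true := by decide +kernel
theorem chkP_94150 : allRangeF (checkPointF cert) (nat_lit 94150) (nat_lit 25) = true := by decide +kernel
theorem chkP_94175 : allRangeF (checkPointF cert) (nat_lit 94175) (nat_lit 25) = true := by decide +kernel
theorem chkP_94200 : allRangeF (checkPointF cert) (nat_lit 94200) (nat_lit 25) = true := by decide +kernel
theorem chkP_94225 : allRangeF (checkPointF cert) (nat_lit 94225) (nat_lit 25) = true := by decide +kernel
theorem chkP_94250 : allRangeF (checkPointF cert) (nat_lit 94250) (nat_lit 25) = true := by decide +kernel
theorem chkP_94275 : allRangeF (checkPointF cert) (nat_lit 94275) (nat_lit 25) = true := by decide +kernel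
theorem chkP_94300 : allRangeF (checkPointF cert) (nat_lit 94300) (nat_lit 25) = true := by decide +kernel
theorem chkP_94325 : allRangeF (checkPointF cert) (nat_lit 94325) (nat_lit 25) = true := by decide +kernel
theorem chkP_94350 : allRangeF (checkPointF cert) (nat_lit 94350) (nat_lit 25) = true := by decide +kernel
theorem chkP_94375 : allRangeF (checkPointF cert) (nat_lit 94375) (nat_lit 25) = true := by decide +kernel
theorem chkP_94400 : allRangeF (checkPointF cert) (nat_lit 94400) (nat_lit 25) = true := by decide +kernel
theorem chkP_94425 : allRangeF (checkPointF cert) (nat_lit 94425) (nat_lit 25) = true := by decide +kernel
theorem chkP_94450 : allRangeF (checkPointF cert) (nat_lit 94450) (nat_lit 25) = true := by decide +kernel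
theorem chkP_94475 : allRangeF (checkPointF cert) (nat_lit 94475) (nat_lit 25) = true := by decide +kernel
theorem chkP_94500 : allRangeF (checkPointF cert) (nat_lit 94500) (nat_lit 25) = true := by decide +kernel
theorem chkP_94525 : allRangeF (checkPointF cert) (nat_lit 94525) (nat_lit 25) = true := by decide +kernel
theorem chkP_94550 : allRangeF (checkPointF cert) (nat_lit 94550) (nat_lit 25) = true := by decide +kernel
theorem chkP_94575 : allRangeF (checkPointF cert) (nat_lit 94575) (nat_lit 25) = true := by decide +kernel
theorem chkP_94600 : allRangeF (checkPointF cert) (nat_lit 94600) (nat_lit 25) = true := by decide +kernel
theorem chkP_94625 : allRangeF (checkPointF cert) (nat_lit 94625) (nat_lit 25) = true := by decide +kernel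
theorem chkP_94650 : allRangeF (checkPointF cert) (nat_lit 94650) (nat_lit 25) = true := by decide +kernel
theorem chkP_94675 : allRangeF (checkPointF cert) (nat_lit 94675) (nat_lit 25) = true := by decide +kernel
theorem chkP_94700 : allRangeF (checkPointF cert) (nat_lit 94700) (nat_lit 25) = true := by decide +kernel
theorem chkP_94725 : allRangeF (checkPointF cert) (nat_lit 94725) (nat_lit 25) = true := by decide +kernel
theorem chkP_94750 : allRangeF (checkPointF cert) (nat_lit 94750) (nat_lit 25) = true := by decide +kernel
theorem chkP_94775 : allRangeF (checkPointF cert) (nat_lit 94775) (nat_lit 25) = true := by decide +kernel
theorem chkP_94800 : allRangeF (checkPointF cert) (nat_lit 94800) (nat_lit 25) = true := by decide +kernel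
theorem chkP_94825 : allRangeF (checkPointF cert) (nat_lit 94825) (nat_lit 25) = true := by decide +kernel
theorem chkP_94850 : allRangeF (checkPointF cert) (nat_lit 94850) (nat_lit 25) = true := by decide +kernel
theorem chkP_94875 : allRangeF (checkPointF cert) (nat_lit 94875) (nat_lit 25) = true := by decide +kernel
theorem chkP_94900 : allRangeF (checkPointF cert) (nat_lit 94900) (nat_lit 25) = true := by decide +kernel
theorem chkP_94925 : allRangeF (checkPointF cert) (nat_lit 94925) (nat_lit 25) = true := by decide +kernel
theorem chkP_94950 : allRangeF (checkPointF cert) (nat_lit 94950) (nat_lit 25) = true := by decide +kernel
theorem chkP_94975 : allRangeF (checkPointF cert) (nat_lit 94975) (nat_lit 25) = true := by decide +kernel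
theorem chkP_95000 : allRangeF (checkPointF cert) (nat_lit 95000) (nat_lit 25) = true := by decide +kernel
theorem chkP_95025 : allRangeF (checkPointF cert) (nat_lit 95025) (nat_lit 25) = true := by decide +kernel
theorem chkP_95050 : allRangeF (checkPointF cert) (nat_lit 95050) (nat_lit 25) = true := by decide +kernel
theorem chkP_95075 : allRangeF (checkPointF cert) (nat_lit 95075) (nat_lit 25) = true := by decide +kernel
theorem chkP_95100 : allRangeF (checkPointF cert) (nat_lit 95100) (nat_lit 25) = true := by decide +kernel
theorem chkP_95125 : allRangeF (checkPointF cert) (nat_lit 95125) (nat_lit 25) = true := by decide +kernel
theorem chkP_95150 : allRangeF (checkPointF cert) (nat_lit 95150) (nat_lit 25) = true := by decide +kernel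
theorem chkP_95175 : allRangeF (checkPointF cert) (nat_lit 95175) (nat_lit 25) = true := by decide +kernel
theorem chkP_95200 : allRangeF (checkPointF cert) (nat_lit 95200) (nat_lit 25) = true := by decide +kernel
theorem chkP_95225 : allRangeF (checkPointF cert) (nat_lit 95225) (nat_lit 25) = true := by decide +kernel
theorem chkP_95250 : allRangeF (checkPointF cert) (nat_lit 95250) (nat_lit 25) = true := by decide +kernel
theorem chkP_95275 : allRangeF (checkPointF cert) (nat_lit 95275) (nat_lit 25) = true := by decide +kernel
theorem chkP_95300 : allRangeF (checkPointF cert) (nat_lit 95300) (nat_lit 25) = true := by decide +kernel
theorem chkP_95325 : allRangeF (checkPointF cert) (nat_lit 95325) (nat_lit 25) = true := by decide +kernel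
theorem chkP_95350 : allRangeF (checkPointF cert) (nat_lit 95350) (nat_lit 25) = true := by decide +kernel
theorem chkP_95375 : allRangeF (checkPointF cert) (nat_lit 95375) (nat_lit 25) = true := by decide +kernel
theorem chkP_95400 : allRangeF (checkPointF cert) (nat_lit 95400) (nat_lit 25) = true := by decide +kernel
theorem chkP_95425 : allRangeF (checkPointF cert) (nat_lit 95425) (nat_lit 25) = true := by decide +kernel
theorem chkP_95450 : allRangeF (checkPointF cert) (nat_lit 95450) (nat_lit 25) = true := by decide +kernel
theorem chkP_95475 : allRangeF (checkPointF cert) (nat_lit 95475) (nat_lit 25) = true := by decide +kernel
theorem chkP_95500 : allRangeF (checkPointF cert) (nat_lit 95500) (nat_lit 25) = true := by decide +kernel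
theorem chkP_95525 : allRangeF (checkPointF cert) (nat_lit 95525) (nat_lit 25) = true := by decide +kernel
theorem chkP_95550 : allRangeF (checkPointF cert) (nat_lit 95550) (nat_lit 25) = true := by decide +kernel
theorem chkP_95575 : allRangeF (checkPointF cert) (nat_lit 95575) (nat_lit 25) = true := by decide +kernel
theorem chkP_95600 : allRangeF (checkPointF cert) (nat_lit 95600) (nat_lit 25) = true := by decide +kernel
theorem chkP_95625 : allRangeF (checkPointF cert) (nat_lit 95625) (nat_lit 25) = true := by decide +kernel
theorem chkP_95650 : allRangeF (checkPointF cert) (nat_lit 95650) (nat_lit 25) = true := by decide +kernel
theorem chkP_95675 : allRangeF (checkPointF cert) (nat_lit 95675) (nat_lit 25) = true := by decide +kernel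
theorem chkP_95700 : allRangeF (checkPointF cert) (nat_lit 95700) (nat_lit 25) = true := by decide +kernel
theorem chkP_95725 : allRangeF (checkPointF cert) (nat_lit 95725) (nat_lit 25) = true := by decide +kernel
theorem chkP_95750 : allRangeF (checkPointF cert) (nat_lit 95750) (nat_lit 25) = true := by decide +kernel
theorem chkP_95775 : allRangeF (checkPointF cert) (nat_lit 95775) (nat_lit 25) = true := by decide +kernel
theorem chkP_95800 : allRangeF (checkPointF cert) (nat_lit 95800) (nat_lit 25) = true := by decide +kernel
theorem chkP_95825 : allRangeF (checkPointF cert) (nat_lit 95825) (nat_lit 25) = true := by decide +kernel
theorem chkP_95850 : allRangeF (checkPointF cert) (nat_lit 95850) (nat_lit 25) = true := by decide +kernel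
theorem chkP_95875 : allRangeF (checkPointF cert) (nat_lit 95875) (nat_lit 25) = true := by decide +kernel
theorem chkP_95900 : allRangeF (checkPointF cert) (nat_lit 95900) (nat_lit 25) = true := by decide +kernel
theorem chkP_95925 : allRangeF (checkPointF cert) (nat_lit 95925) (nat_lit 25) = true := by decide +kernel
theorem chkP_95950 : allRangeF (checkPointF cert) (nat_lit 95950) (nat_lit 25) = true := by decide +kernel
theorem chkP_95975 : allRangeF (checkPointF cert) (nat_lit 95975) (nat_lit 25) = true := by decide +kernel
theorem chkP_96000 : allRangeF (checkPointF cert) (nat_lit 96000) (nat_lit 25) = true := by decide +kernel
theorem chkP_96025 : allRangeF (checkPointF cert) (nat_lit 96025) (nat_lit 25) = true := by decide +kernel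
theorem chkP_96050 : allRangeF (checkPointF cert) (nat_lit 96050) (nat_lit 25) = true := by decide +kernel
theorem chkP_96075 : allRangeF (checkPointF cert) (nat_lit 96075) (nat_lit 25) = true := by decide +kernel
theorem chkP_96100 : allRangeF (checkPointF cert) (nat_lit 96100) (nat_lit 25) = true := by decide +kernel
theorem chkP_96125 : allRangeF (checkPointF cert) (nat_lit 96125) (nat_lit 25) = true := by decide +kernel
theorem chkP_96150 : allRangeF (checkPointF cert) (nat_lit 96150) (nat_lit 25) = true := by decide +kernel
theorem chkP_96175 : allRangeF (checkPointF cert) (nat_lit 96175) (nat_lit 25) = true := by decide +kernel
theorem chkP_96200 : allRangeF (checkPointF cert) (nat_lit 96200) (nat_lit 25) = true := by decide +kernel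
theorem chkP_96225 : allRangeF (checkPointF cert) (nat_lit 96225) (nat_lit 25) = true := by decide +kernel
theorem chkP_96250 : allRangeF (checkPointF cert) (nat_lit 96250) (nat_lit 25) = true := by decide +kernel
theorem chkP_96275 : allRangeF (checkPointF cert) (nat_lit 96275) (nat_lit 25) = true := by decide +kernel
theorem chkP_96300 : allRangeF (checkPointF cert) (nat_lit 96300) (nat_lit 25) = true := by decide +kernel
theorem chkP_96325 : allRangeF (checkPointF cert) (nat_lit 96325) (nat_lit 25) = true := by decide +kernel
theorem chkP_96350 : allRangeF (checkPointF cert) (nat_lit 96350) (nat_lit 25) = true := by decide +kernel
theorem chkP_96375 : allRangeF (checkPointF cert) (nat_lit 96375) (nat_lit 25) = true := by decide +kernel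
theorem chkP_96400 : allRangeF (checkPointF cert) (nat_lit 96400) (nat_lit 25) = true := by decide +kernel
theorem chkP_96425 : allRangeF (checkPointF cert) (nat_lit 96425) (nat_lit 25) = true := by decide +kernel
theorem chkP_96450 : allRangeF (checkPointF cert) (nat_lit 96450) (nat_lit 25) = true := by decide +kernel
theorem chkP_96475 : allRangeF (checkPointF cert) (nat_lit 96475) (nat_lit 25) = true := by decide +kernel
theorem chkP_96500 : allRangeF (checkPointF cert) (nat_lit 96500) (nat_lit 25) = true := by decide +kernel
theorem chkP_96525 : allRangeF (checkPointF cert) (nat_lit 96525) (nat_lit 25) = true := by decide +kernel
theorem chkP_96550 : allRangeF (checkPointF cert) (nat_lit 96550) (nat_lit 25) = true := by decide +kernel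
theorem chkP_96575 : allRangeF (checkPointF cert) (nat_lit 96575) (nat_lit 25) = true := by decide +kernel
theorem chkP_96600 : allRangeF (checkPointF cert) (nat_lit 96600) (nat_lit 25) = true := by decide +kernel
theorem chkP_96625 : allRangeF (checkPointF cert) (nat_lit 96625) (nat_lit 25) = true := by decide +kernel
theorem chkP_96650 : allRangeF (checkPointF cert) (nat_lit 96650) (nat_lit 25) = true := by decide +kernel
theorem chkP_96675 : allRangeF (checkPointF cert) (nat_lit 96675) (nat_lit 25) = true := by decide +kernel
theorem chkP_96700 : allRangeF (checkPointF cert) (nat_lit 96700) (nat_lit 25) = true := by decide +kernel
theorem chkP_96725 : allRangeF (checkPointF cert) (nat_lit 96725) (nat_lit 25) = true := by decide +kernel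
theorem chkP_96750 : allRangeF (checkPointF cert) (nat_lit 96750) (nat_lit 25) = true := by decide +kernel
theorem chkP_96775 : allRangeF (checkPointF cert) (nat_lit 96775) (nat_lit 25) = true := by decide +kernel
theorem chkP_96800 : allRangeF (checkPointF cert) (nat_lit 96800) (nat_lit 25) = true := by decide +kernel
theorem chkP_96825 : allRangeF (checkPointF cert) (nat_lit 96825) (nat_lit 25) = true := by decide +kernel
theorem chkP_96850 : allRangeF (checkPointF cert) (nat_lit 96850) (nat_lit 25) = true := by decide +kernel
theorem chkP_96875 : allRangeF (checkPointF cert) (nat_lit 96875) (nat_lit 25) = true := by decide +kernel
theorem chkP_96900 : allRangeF (checkPointF cert) (nat_lit 96900) (nat_lit 25) = true := by decide +kernel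
theorem chkP_96925 : allRangeF (checkPointF cert) (nat_lit 96925) (nat_lit 25) = true := by decide +kernel
theorem chkP_96950 : allRangeF (checkPointF cert) (nat_lit 96950) (nat_lit 25) = true := by decide +kernel
theorem chkP_96975 : allRangeF (checkPointF cert) (nat_lit 96975) (nat_lit 25) = true := by decide +kernel
theorem chkP_97000 : allRangeF (checkPointF cert) (nat_lit 97000) (nat_lit 25) = true := by decide +kernel
theorem chkP_97025 : allRangeF (checkPointF cert) (nat_lit 97025) (nat_lit 25) = true := by decide +kernel
theorem chkP_97050 : allRangeF (checkPointF cert) (nat_lit 97050) (nat_lit 25) = true := by decide +kernel
theorem chkP_97075 : allRangeF (checkPointF cert) (nat_lit 97075) (nat_lit 25) = true := by decide +kernel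
theorem chkP_97100 : allRangeF (checkPointF cert) (nat_lit 97100) (nat_lit 25) = true := by decide +kernel
theorem chkP_97125 : allRangeF (checkPointF cert) (nat_lit 97125) (nat_lit 25) = true := by decide +kernel
theorem chkP_97150 : allRangeF (checkPointF cert) (nat_lit 97150) (nat_lit 25) = true := by decide +kernel
theorem chkP_97175 : allRangeF (checkPointF cert) (nat_lit 97175) (nat_lit 25) = true := by decide +kernel
theorem chkP_97200 : allRangeF (checkPointF cert) (nat_lit 97200) (nat_lit 25) = true := by decide +kernel
theorem chkP_97225 : allRangeF (checkPointF cert) (nat_lit 97225) (nat_lit 25) = true := by decide +kernel
theorem chkP_97250 : allRangeF (checkPointF cert) (nat_lit 97250) (nat_lit 25) = true := by decide +kernel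
theorem chkP_97275 : allRangeF (checkPointF cert) (nat_lit 97275) (nat_lit 25) = true := by decide +kernel
theorem chkP_97300 : allRangeF (checkPointF cert) (nat_lit 97300) (nat_lit 25) = true := by decide +kernel
theorem chkP_97325 : allRangeF (checkPointF cert) (nat_lit 97325) (nat_lit 25) = true := by decide +kernel
theorem chkP_97350 : allRangeF (checkPointF cert) (nat_lit 97350) (nat_lit 25) = true := by decide +kernel
theorem chkP_97375 : allRangeF (checkPointF cert) (nat_lit 97375) (nat_lit 25) = true := by decide +kernel
theorem chkP_97400 : allRangeF (checkPointF cert) (nat_lit 97400) (nat_lit 25) = true := by decide +kernel
theorem chkP_97425 : allRangeF (checkPointF cert) (nat_lit 97425) (nat_lit 25) = true := by decide +kernel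
theorem chkP_97450 : allRangeF (checkPointF cert) (nat_lit 97450) (nat_lit 25) = true := by decide +kernel
theorem chkP_97475 : allRangeF (checkPointF cert) (nat_lit 97475) (nat_lit 25) = true := by decide +kernel
theorem chkP_97500 : allRangeF (checkPointF cert) (nat_lit 97500) (nat_lit 25) = true := by decide +kernel
theorem chkP_97525 : allRangeF (checkPointF cert) (nat_lit 97525) (nat_lit 25) = true := by decide +kernel
theorem chkP_97550 : allRangeF (checkPointF cert) (nat_lit 97550) (nat_lit 25) = true := by decide +kernel
theorem chkP_97575 : allRangeF (checkPointF cert) (nat_lit 97575) (nat_lit 25) = true := by decide +kernel
theorem chkP_97600 : allRangeF (checkPointF cert) (nat_lit 97600) (nat_lit 25) = true := by decide +kernel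
theorem chkP_97625 : allRangeF (checkPointF cert) (nat_lit 97625) (nat_lit 25) = true := by decide +kernel
theorem chkP_97650 : allRangeF (checkPointF cert) (nat_lit 97650) (nat_lit 25) = true := by decide +kernel
theorem chkP_97675 : allRangeF (checkPointF cert) (nat_lit 97675) (nat_lit 25) = true := by decide +kernel
theorem chkP_97700 : allRangeF (checkPointF cert) (nat_lit 97700) (nat_lit 25) = true := by decide +kernel
theorem chkP_97725 : allRangeF (checkPointF cert) (nat_lit 97725) (nat_lit 25) = true := by decide +kernel
theorem chkP_97750 : allRangeF (checkPointF cert) (nat_lit 97750) (nat_lit 25) = true := by decide +kernel
theorem chkP_97775 : allRangeF (checkPointF cert) (nat_lit 97775) (nat_lit 25) = true := by decide +kernel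
theorem chkP_97800 : allRangeF (checkPointF cert) (nat_lit 97800) (nat_lit 25) = true := by decide +kernel
theorem chkP_97825 : allRangeF (checkPointF cert) (nat_lit 97825) (nat_lit 25) = true := by decide +kernel
theorem chkP_97850 : allRangeF (checkPointF cert) (nat_lit 97850) (nat_lit 25) = true := by decide +kernel
theorem chkP_97875 : allRangeF (checkPointF cert) (nat_lit 97875) (nat_lit 25) = true := by decide +kernel
theorem chkP_97900 : allRangeF (checkPointF cert) (nat_lit 97900) (nat_lit 25) = true := by decide +kernel
theorem chkP_97925 : allRangeF (checkPointF cert) (nat_lit 97925) (nat_lit 25) = true := by decide +kernel
theorem chkP_97950 : allRangeF (checkPointF cert) (nat_lit 97950) (nat_lit 25) = true := by decide +kernel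
theorem chkP_97975 : allRangeF (checkPointF cert) (nat_lit 97975) (nat_lit 25) = true := by decide +kernel
theorem chkP_98000 : allRangeF (checkPointF cert) (nat_lit 98000) (nat_lit 25) = true := by decide +kernel
theorem chkP_98025 : allRangeF (checkPointF cert) (nat_lit 98025) (nat_lit 25) = true := by decide +kernel
theorem chkP_98050 : allRangeF (checkPointF cert) (nat_lit 98050) (nat_lit 25) = true := by decide +kernel
theorem chkP_98075 : allRangeF (checkPointF cert) (nat_lit 98075) (nat_lit 25) = true := by decide +kernel
theorem chkP_98100 : allRangeF (checkPointF cert) (nat_lit 98100) (nat_lit 25) = true := by decide +kernel
theorem chkP_98125 : allRangeF (checkPointF cert) (nat_lit 98125) (nat_lit 25) = true := by decide +kernel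
theorem chkP_98150 : allRangeF (checkPointF cert) (nat_lit 98150) (nat_lit 25) = true := by decide +kernel
theorem chkP_98175 : allRangeF (checkPointF cert) (nat_lit 98175) (nat_lit 25) = true := by decide +kernel
theorem chkP_98200 : allRangeF (checkPointF cert) (nat_lit 98200) (nat_lit 25) = true := by decide +kernel
theorem chkP_98225 : allRangeF (checkPointF cert) (nat_lit 98225) (nat_lit 25) = true := by decide +kernel
theorem chkP_98250 : allRangeF (checkPointF cert) (nat_lit 98250) (nat_lit 25) = true := by decide +kernel
theorem chkP_98275 : allRangeF (checkPointF cert) (nat_lit 98275) (nat_lit 25) = true := by decide +kernel
theorem chkP_98300 : allRangeF (checkPointF cert) (nat_lit 98300) (nat_lit 25) = true := by decide +kernel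
theorem chkP_98325 : allRangeF (checkPointF cert) (nat_lit 98325) (nat_lit 25) = true := by decide +kernel
theorem chkP_98350 : allRangeF (checkPointF cert) (nat_lit 98350) (nat_lit 25) = true := by decide +kernel
theorem chkP_98375 : allRangeF (checkPointF cert) (nat_lit 98375) (nat_lit 25) = true := by decide +kernel
theorem chkP_98400 : allRangeF (checkPointF cert) (nat_lit 98400) (nat_lit 25) = true := by decide +kernel
theorem chkP_98425 : allRangeF (checkPointF cert) (nat_lit 98425) (nat_lit 25) = true := by decide +kernel
theorem chkP_98450 : allRangeF (checkPointF cert) (nat_lit 98450) (nat_lit 25) = true := by decide +kernel
theorem chkP_98475 : allRangeF (checkPointF cert) (nat_lit 98475) (nat_lit 25) = true := by decide +kernel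
theorem chkP_98500 : allRangeF (checkPointF cert) (nat_lit 98500) (nat_lit 25) = true := by decide +kernel
theorem chkP_98525 : allRangeF (checkPointF cert) (nat_lit 98525) (nat_lit 25) = true := by decide +kernel
theorem chkP_98550 : allRangeF (checkPointF cert) (nat_lit 98550) (nat_lit 25) = true := by decide +kernel
theorem chkP_98575 : allRangeF (checkPointF cert) (nat_lit 98575) (nat_lit 25) = true := by decide +kernel
theorem chkP_98600 : allRangeF (checkPointF cert) (nat_lit 98600) (nat_lit 25) = true := by decide +kernel
theorem chkP_98625 : allRangeF (checkPointF cert) (nat_lit 98625) (nat_lit 25) = true := by decide +kernel
theorem chkP_98650 : allRangeF (checkPointF cert) (nat_lit 98650) (nat_lit 25) = true := by decide +kernel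
theorem chkP_98675 : allRangeF (checkPointF cert) (nat_lit 98675) (nat_lit 25) = true := by decide +kernel
theorem chkP_98700 : allRangeF (checkPointF cert) (nat_lit 98700) (nat_lit 25) = true := by decide +kernel
theorem chkP_98725 : allRangeF (checkPointF cert) (nat_lit 98725) (nat_lit 25) = true := by decide +kernel
theorem chkP_98750 : allRangeF (checkPointF cert) (nat_lit 98750) (nat_lit 25) = true := by decide +kernel
theorem chkP_98775 : allRangeF (checkPointF cert) (nat_lit 98775) (nat_lit 25) = true := by decide +kernel
theorem chkP_98800 : allRangeF (checkPointF cert) (nat_lit 98800) (nat_lit 25) = true := by decide +kernel
theorem chkP_98825 : allRangeF (checkPointF cert) (nat_lit 98825) (nat_lit 25) = true := by decide +kernel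
theorem chkP_98850 : allRangeF (checkPointF cert) (nat_lit 98850) (nat_lit 25) = true := by decide +kernel
theorem chkP_98875 : allRangeF (checkPointF cert) (nat_lit 98875) (nat_lit 25) = true := by decide +kernel
theorem chkP_98900 : allRangeF (checkPointF cert) (nat_lit 98900) (nat_lit 25) = true := by decide +kernel
theorem chkP_98925 : allRangeF (checkPointF cert) (nat_lit 98925) (nat_lit 25) = true := by decide +kernel
theorem chkP_98950 : allRangeF (checkPointF cert) (nat_lit 98950) (nat_lit 25) = true := by decide +kernel
theorem chkP_98975 : allRangeF (checkPointF cert) (nat_lit 98975) (nat_lit 25) = true := by decide +kernel
theorem chkP_99000 : allRangeF (checkPointF cert) (nat_lit 99000) (nat_lit 25) = true := by decide +kernel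
theorem chkP_99025 : allRangeF (checkPointF cert) (nat_lit 99025) (nat_lit 25) = true := by decide +kernel
theorem chkP_99050 : allRangeF (checkPointF cert) (nat_lit 99050) (nat_lit 25) = true := by decide +kernel
theorem chkP_99075 : allRangeF (checkPointF cert) (nat_lit 99075) (nat_lit 25) = true := by decide +kernel
theorem chkP_99100 : allRangeF (checkPointF cert) (nat_lit 99100) (nat_lit 25) = true := by decide +kernel
theorem chkP_99125 : allRangeF (checkPointF cert) (nat_lit 99125) (nat_lit 25) = true := by decide +kernel
theorem chkP_99150 : allRangeF (checkPointF cert) (nat_lit 99150) (nat_lit 25) = true := by decide +kernel
theorem chkP_99175 : allRangeF (checkPointF cert) (nat_lit 99175) (nat_lit 25) = true := by decide +kernel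
theorem chkP_99200 : allRangeF (checkPointF cert) (nat_lit 99200) (nat_lit 25) = true := by decide +kernel
theorem chkP_99225 : allRangeF (checkPointF cert) (nat_lit 99225) (nat_lit 25) = true := by decide +kernel
theorem chkP_99250 : allRangeF (checkPointF cert) (nat_lit 99250) (nat_lit 25) = true := by decide +kernel
theorem chkP_99275 : allRangeF (checkPointF cert) (nat_lit 99275) (nat_lit 25) = true := by decide +kernel
theorem chkP_99300 : allRangeF (checkPointF cert) (nat_lit 99300) (nat_lit 25) = true := by decide +kernel
theorem chkP_99325 : allRangeF (checkPointF cert) (nat_lit 99325) (nat_lit 25) = true := by decide +kernel
theorem chkP_99350 : allRangeF (checkPointF cert) (nat_lit 99350) (nat_lit 25) = true := by decide +kernel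
theorem chkP_99375 : allRangeF (checkPointF cert) (nat_lit 99375) (nat_lit 25) = true := by decide +kernel
theorem chkP_99400 : allRangeF (checkPointF cert) (nat_lit 99400) (nat_lit 25) = true := by decide +kernel
theorem chkP_99425 : allRangeF (checkPointF cert) (nat_lit 99425) (nat_lit 25) = true := by decide +kernel
theorem chkP_99450 : allRangeF (checkPointF cert) (nat_lit 99450) (nat_lit 25) = true := by decide +kernel
theorem chkP_99475 : allRangeF (checkPointF cert) (nat_lit 99475) (nat_lit 25) = true := by decide +kernel
theorem chkP_99500 : allRangeF (checkPointF cert) (nat_lit 99500) (nat_lit 25) = true := by decide +kernel
theorem chkP_99525 : allRangeF (checkPointF cert) (nat_lit 99525) (nat_lit 25) = true := by decide +kernel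
theorem chkP_99550 : allRangeF (checkPointF cert) (nat_lit 99550) (nat_lit 25) = true := by decide +kernel
theorem chkP_99575 : allRangeF (checkPointF cert) (nat_lit 99575) (nat_lit 25) = true := by decide +kernel
theorem chkP_99600 : allRangeF (checkPointF cert) (nat_lit 99600) (nat_lit 25) = true := by decide +kernel
theorem chkP_99625 : allRangeF (checkPointF cert) (nat_lit 99625) (nat_lit 25) = true := by decide +kernel
theorem chkP_99650 : allRangeF (checkPointF cert) (nat_lit 99650) (nat_lit 25) = true := by decide +kernel
theorem chkP_99675 : allRangeF (checkPointF cert) (nat_lit 99675) (nat_lit 25) = true := by decide +kernel
theorem chkP_99700 : allRangeF (checkPointF cert) (nat_lit 99700) (nat_lit 25) = true := by decide +kernel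
theorem chkP_99725 : allRangeF (checkPointF cert) (nat_lit 99725) (nat_lit 25) = true := by decide +kernel
theorem chkP_99750 : allRangeF (checkPointF cert) (nat_lit 99750) (nat_lit 25) = true := by decide +kernel

theorem ptsRange_12 : ∀ i, 92100 ≤ i → i < 99775 → checkPoint cert i = true := by
  intro i hlo hhi
  rcases Nat.lt_or_ge i 95925 with h1 | h1
  · skip
    rcases Nat.lt_or_ge i 94000 with h2 | h2
    · skip
      rcases Nat.lt_or_ge i 93050 with h3 | h3
      · skip
        rcases Nat.lt_or_ge i 92575 with h4 | h4
        · skip
          rcases Nat.lt_or_ge i 92325 with h5 | h5
          · skip
            rcases Nat.lt_or_ge i 92200 with h6 | h6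
            · skip
              rcases Nat.lt_or_ge i 92150 with h7 | h7
              · skip
                rcases Nat.lt_or_ge i 92125 with h8 | h8
                · skip
                  exact allRangeF_sound _ _ (checkPointF_eq cert) 92100 25 chkP_92100 i (by omega) (by omega)
                · skip
                  exact allRangeF_sound _ _ (checkPointF_eq cert) 92125 25 chkP_92125 i (by omega) (by omega)
              · skip
                rcases Nat.lt_or_ge i 92175 with h8 | h8
                · skip
                  exact allRangeF_sound _ _ (checkPointF_eq cert) 92150 25 chkP_92150 i (by omega) (by omega)
                · skip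
                  exact allRangeF_sound _ _ (checkPointF_eq cert) 92175 25 chkP_92175 i (by omega) (by omega)
            · skip
              rcases Nat.lt_or_ge i 92250 with h7 | h7
              · skip
                rcases Nat.lt_or_ge i 92225 with h8 | h8
                · skip
                  exact allRangeF_sound _ _ (checkPointF_eq cert) 92200 25 chkP_92200 i (by omega) (by omega)
                · skip
                  exact allRangeF_sound _ _ (checkPointF_eq cert) 92225 25 chkP_92225 i (by omega) (by omega)
              · skip
                rcases Nat.lt_or_ge i 92275 with h8 | h8
                · skip
                  exact allRangeF_sound _ _ (checkPointF_eq cert) 92250 25 chkP_92250 i (by omega) (by omega)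
                · skip
                  rcases Nat.lt_or_ge i 92300 with h9 | h9
                  · skip
                    exact allRangeF_sound _ _ (checkPointF_eq cert) 92275 25 chkP_92275 i (by omega) (by omega)
                  · skip
                    exact allRangeF_sound _ _ (checkPointF_eq cert) 92300 25 chkP_92300 i (by omega) (by omega)
          · skip
            rcases Nat.lt_or_ge i 92450 with h6 | h6
            · skip
              rcases Nat.lt_or_ge i 92375 with h7 | h7
              · skip
                rcases Nat.lt_or_ge i 92350 with h8 | h8
                · skip
                  exact allRangeF_sound _ _ (checkPointF_eq cert) 92325 25 chkP_92325 i (by omega) (by omega)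
                · skip
                  exact allRangeF_sound _ _ (checkPointF_eq cert) 92350 25 chkP_92350 i (by omega) (by omega)
              · skip
                rcases Nat.lt_or_ge i 92400 with h8 | h8
                · skip
                  exact allRangeF_sound _ _ (checkPointF_eq cert) 92375 25 chkP_92375 i (by omega) (by omega)
                · skip
                  rcases Nat.lt_or_ge i 92425 with h9 | h9
                  · skip
                    exact allRangeF_sound _ _ (checkPointF_eq cert) 92400 25 chkP_92400 i (by omega) (by omega)
                  · skip
                    exact allRangeF_sound _ _ (checkPointF_eq cert) 92425 25 chkP_92425 i (by omega) (by omega)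
            · skip
              rcases Nat.lt_or_ge i 92500 with h7 | h7
              · skip
                rcases Nat.lt_or_ge i 92475 with h8 | h8
                · skip
                  exact allRangeF_sound _ _ (checkPointF_eq cert) 92450 25 chkP_92450 i (by omega) (by omega)
                · skip
                  exact allRangeF_sound _ _ (checkPointF_eq cert) 92475 25 chkP_92475 i (by omega) (by omega)
              · skip
                rcases Nat.lt_or_ge i 92525 with h8 | h8
                · skip
                  exact allRangeF_sound _ _ (checkPointF_eq cert) 92500 25 chkP_92500 i (by omega) (by omega)
                · skip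
                  rcases Nat.lt_or_ge i 92550 with h9 | h9
                  · skip
                    exact allRangeF_sound _ _ (checkPointF_eq cert) 92525 25 chkP_92525 i (by omega) (by omega)
                  · skip
                    exact allRangeF_sound _ _ (checkPointF_eq cert) 92550 25 chkP_92550 i (by omega) (by omega)
        · skip
          rcases Nat.lt_or_ge i 92800 with h5 | h5
          · skip
            rcases Nat.lt_or_ge i 92675 with h6 | h6
            · skip
              rcases Nat.lt_or_ge i 92625 with h7 | h7
              · skip
                rcases Nat.lt_or_ge i 92600 with h8 | h8
                · skip
                  exact allRangeF_sound _ _ (checkPointF_eq cert) 92575 25 chkP_92575 i (by omega) (by omega)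
                · skip
                  exact allRangeF_sound _ _ (checkPointF_eq cert) 92600 25 chkP_92600 i (by omega) (by omega)
              · skip
                rcases Nat.lt_or_ge i 92650 with h8 | h8
                · skip
                  exact allRangeF_sound _ _ (checkPointF_eq cert) 92625 25 chkP_92625 i (by omega) (by omega)
                · skip
                  exact allRangeF_sound _ _ (checkPointF_eq cert) 92650 25 chkP_92650 i (by omega) (by omega)
            · skip
              rcases Nat.lt_or_ge i 92725 with h7 | h7
              · skip
                rcases Nat.lt_or_ge i 92700 with h8 | h8
                · skip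
                  exact allRangeF_sound _ _ (checkPointF_eq cert) 92675 25 chkP_92675 i (by omega) (by omega)
                · skip
                  exact allRangeF_sound _ _ (checkPointF_eq cert) 92700 25 chkP_92700 i (by omega) (by omega)
              · skip
                rcases Nat.lt_or_ge i 92750 with h8 | h8
                · skip
                  exact allRangeF_sound _ _ (checkPointF_eq cert) 92725 25 chkP_92725 i (by omega) (by omega)
                · skip
                  rcases Nat.lt_or_ge i 92775 with h9 | h9
                  · skip
                    exact allRangeF_sound _ _ (checkPointF_eq cert) 92750 25 chkP_92750 i (by omega) (by omega)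
                  · skip
                    exact allRangeF_sound _ _ (checkPointF_eq cert) 92775 25 chkP_92775 i (by omega) (by omega)
          · skip
            rcases Nat.lt_or_ge i 92925 with h6 | h6
            · skip
              rcases Nat.lt_or_ge i 92850 with h7 | h7
              · skip
                rcases Nat.lt_or_ge i 92825 with h8 | h8
                · skip
                  exact allRangeF_sound _ _ (checkPointF_eq cert) 92800 25 chkP_92800 i (by omega) (by omega)
                · skip
                  exact allRangeF_sound _ _ (checkPointF_eq cert) 92825 25 chkP_92825 i (by omega) (by omega)
              · skip
                rcases Nat.lt_or_ge i 92875 with h8 | h8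
                · skip
                  exact allRangeF_sound _ _ (checkPointF_eq cert) 92850 25 chkP_92850 i (by omega) (by omega)
                · skip
                  rcases Nat.lt_or_ge i 92900 with h9 | h9
                  · skip
                    exact allRangeF_sound _ _ (checkPointF_eq cert) 92875 25 chkP_92875 i (by omega) (by omega)
                  · skip
                    exact allRangeF_sound _ _ (checkPointF_eq cert) 92900 25 chkP_92900 i (by omega) (by omega)
            · skip
              rcases Nat.lt_or_ge i 92975 with h7 | h7
              · skip
                rcases Nat.lt_or_ge i 92950 with h8 | h8
                · skip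
                  exact allRangeF_sound _ _ (checkPointF_eq cert) 92925 25 chkP_92925 i (by omega) (by omega)
                · skip
                  exact allRangeF_sound _ _ (checkPointF_eq cert) 92950 25 chkP_92950 i (by omega) (by omega)
              · skip
                rcases Nat.lt_or_ge i 93000 with h8 | h8
                · skip
                  exact allRangeF_sound _ _ (checkPointF_eq cert) 92975 25 chkP_92975 i (by omega) (by omega)
                · skip
                  rcases Nat.lt_or_ge i 93025 with h9 | h9
                  · skip
                    exact allRangeF_sound _ _ (checkPointF_eq cert) 93000 25 chkP_93000 i (by omega) (by omega)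
                  · skip
                    exact allRangeF_sound _ _ (checkPointF_eq cert) 93025 25 chkP_93025 i (by omega) (by omega)
      · skip
        rcases Nat.lt_or_ge i 93525 with h4 | h4
        · skip
          rcases Nat.lt_or_ge i 93275 with h5 | h5
          · skip
            rcases Nat.lt_or_ge i 93150 with h6 | h6
            · skip
              rcases Nat.lt_or_ge i 93100 with h7 | h7
              · skip
                rcases Nat.lt_or_ge i 93075 with h8 | h8
                · skip
                  exact allRangeF_sound _ _ (checkPointF_eq cert) 93050 25 chkP_93050 i (by omega) (by omega)
                · skip
                  exact allRangeF_sound _ _ (checkPointF_eq cert) 93075 25 chkP_93075 i (by omega) (by omega)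
              · skip
                rcases Nat.lt_or_ge i 93125 with h8 | h8
                · skip
                  exact allRangeF_sound _ _ (checkPointF_eq cert) 93100 25 chkP_93100 i (by omega) (by omega)
                · skip
                  exact allRangeF_sound _ _ (checkPointF_eq cert) 93125 25 chkP_93125 i (by omega) (by omega)
            · skip
              rcases Nat.lt_or_ge i 93200 with h7 | h7
              · skip
                rcases Nat.lt_or_ge i 93175 with h8 | h8
                · skip
                  exact allRangeF_sound _ _ (checkPointF_eq cert) 93150 25 chkP_93150 i (by omega) (by omega)
                · skip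
                  exact allRangeF_sound _ _ (checkPointF_eq cert) 93175 25 chkP_93175 i (by omega) (by omega)
              · skip
                rcases Nat.lt_or_ge i 93225 with h8 | h8
                · skip
                  exact allRangeF_sound _ _ (checkPointF_eq cert) 93200 25 chkP_93200 i (by omega) (by omega)
                · skip
                  rcases Nat.lt_or_ge i 93250 with h9 | h9
                  · skip
                    exact allRangeF_sound _ _ (checkPointF_eq cert) 93225 25 chkP_93225 i (by omega) (by omega)
                  · skip
                    exact allRangeF_sound _ _ (checkPointF_eq cert) 93250 25 chkP_93250 i (by omega) (by omega)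
          · skip
            rcases Nat.lt_or_ge i 93400 with h6 | h6
            · skip
              rcases Nat.lt_or_ge i 93325 with h7 | h7
              · skip
                rcases Nat.lt_or_ge i 93300 with h8 | h8
                · skip
                  exact allRangeF_sound _ _ (checkPointF_eq cert) 93275 25 chkP_93275 i (by omega) (by omega)
                · skip
                  exact allRangeF_sound _ _ (checkPointF_eq cert) 93300 25 chkP_93300 i (by omega) (by omega)
              · skip
                rcases Nat.lt_or_ge i 93350 with h8 | h8
                · skip
                  exact allRangeF_sound _ _ (checkPointF_eq cert) 93325 25 chkP_93325 i (by omega) (by omega)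
                · skip
                  rcases Nat.lt_or_ge i 93375 with h9 | h9
                  · skip
                    exact allRangeF_sound _ _ (checkPointF_eq cert) 93350 25 chkP_93350 i (by omega) (by omega)
                  · skip
                    exact allRangeF_sound _ _ (checkPointF_eq cert) 93375 25 chkP_93375 i (by omega) (by omega)
            · skip
              rcases Nat.lt_or_ge i 93450 with h7 | h7
              · skip
                rcases Nat.lt_or_ge i 93425 with h8 | h8
                · skip
                  exact allRangeF_sound _ _ (checkPointF_eq cert) 93400 25 chkP_93400 i (by omega) (by omega)
                · skip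
                  exact allRangeF_sound _ _ (checkPointF_eq cert) 93425 25 chkP_93425 i (by omega) (by omega)
              · skip
                rcases Nat.lt_or_ge i 93475 with h8 | h8
                · skip
                  exact allRangeF_sound _ _ (checkPointF_eq cert) 93450 25 chkP_93450 i (by omega) (by omega)
                · skip
                  rcases Nat.lt_or_ge i 93500 with h9 | h9
                  · skip
                    exact allRangeF_sound _ _ (checkPointF_eq cert) 93475 25 chkP_93475 i (by omega) (by omega)
                  · skip
                    exact allRangeF_sound _ _ (checkPointF_eq cert) 93500 25 chkP_93500 i (by omega) (by omega)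
        · skip
          rcases Nat.lt_or_ge i 93750 with h5 | h5
          · skip
            rcases Nat.lt_or_ge i 93625 with h6 | h6
            · skip
              rcases Nat.lt_or_ge i 93575 with h7 | h7
              · skip
                rcases Nat.lt_or_ge i 93550 with h8 | h8
                · skip
                  exact allRangeF_sound _ _ (checkPointF_eq cert) 93525 25 chkP_93525 i (by omega) (by omega)
                · skip
                  exact allRangeF_sound _ _ (checkPointF_eq cert) 93550 25 chkP_93550 i (by omega) (by omega)
              · skip
                rcases Nat.lt_or_ge i 93600 with h8 | h8
                · skip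
                  exact allRangeF_sound _ _ (checkPointF_eq cert) 93575 25 chkP_93575 i (by omega) (by omega)
                · skip
                  exact allRangeF_sound _ _ (checkPointF_eq cert) 93600 25 chkP_93600 i (by omega) (by omega)
            · skip
              rcases Nat.lt_or_ge i 93675 with h7 | h7
              · skip
                rcases Nat.lt_or_ge i 93650 with h8 | h8
                · skip
                  exact allRangeF_sound _ _ (checkPointF_eq cert) 93625 25 chkP_93625 i (by omega) (by omega)
                · skip
                  exact allRangeF_sound _ _ (checkPointF_eq cert) 93650 25 chkP_93650 i (by omega) (by omega)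
              · skip
                rcases Nat.lt_or_ge i 93700 with h8 | h8
                · skip
                  exact allRangeF_sound _ _ (checkPointF_eq cert) 93675 25 chkP_93675 i (by omega) (by omega)
                · skip
                  rcases Nat.lt_or_ge i 93725 with h9 | h9
                  · skip
                    exact allRangeF_sound _ _ (checkPointF_eq cert) 93700 25 chkP_93700 i (by omega) (by omega)
                  · skip
                    exact allRangeF_sound _ _ (checkPointF_eq cert) 93725 25 chkP_93725 i (by omega) (by omega)
          · skip
            rcases Nat.lt_or_ge i 93875 with h6 | h6
            · skip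
              rcases Nat.lt_or_ge i 93800 with h7 | h7
              · skip
                rcases Nat.lt_or_ge i 93775 with h8 | h8
                · skip
                  exact allRangeF_sound _ _ (checkPointF_eq cert) 93750 25 chkP_93750 i (by omega) (by omega)
                · skip
                  exact allRangeF_sound _ _ (checkPointF_eq cert) 93775 25 chkP_93775 i (by omega) (by omega)
              · skip
                rcases Nat.lt_or_ge i 93825 with h8 | h8
                · skip
                  exact allRangeF_sound _ _ (checkPointF_eq cert) 93800 25 chkP_93800 i (by omega) (by omega)
                · skip
                  rcases Nat.lt_or_ge i 93850 with h9 | h9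
                  · skip
                    exact allRangeF_sound _ _ (checkPointF_eq cert) 93825 25 chkP_93825 i (by omega) (by omega)
                  · skip
                    exact allRangeF_sound _ _ (checkPointF_eq cert) 93850 25 chkP_93850 i (by omega) (by omega)
            · skip
              rcases Nat.lt_or_ge i 93925 with h7 | h7
              · skip
                rcases Nat.lt_or_ge i 93900 with h8 | h8
                · skip
                  exact allRangeF_sound _ _ (checkPointF_eq cert) 93875 25 chkP_93875 i (by omega) (by omega)
                · skip
                  exact allRangeF_sound _ _ (checkPointF_eq cert) 93900 25 chkP_93900 i (by omega) (by omega)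
              · skip
                rcases Nat.lt_or_ge i 93950 with h8 | h8
                · skip
                  exact allRangeF_sound _ _ (checkPointF_eq cert) 93925 25 chkP_93925 i (by omega) (by omega)
                · skip
                  rcases Nat.lt_or_ge i 93975 with h9 | h9
                  · skip
                    exact allRangeF_sound _ _ (checkPointF_eq cert) 93950 25 chkP_93950 i (by omega) (by omega)
                  · skip
                    exact allRangeF_sound _ _ (checkPointF_eq cert) 93975 25 chkP_93975 i (by omega) (by omega)
    · skip
      rcases Nat.lt_or_ge i 94950 with h3 | h3
      · skip
        rcases Nat.lt_or_ge i 94475 with h4 | h4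
        · skip
          rcases Nat.lt_or_ge i 94225 with h5 | h5
          · skip
            rcases Nat.lt_or_ge i 94100 with h6 | h6
            · skip
              rcases Nat.lt_or_ge i 94050 with h7 | h7
              · skip
                rcases Nat.lt_or_ge i 94025 with h8 | h8
                · skip
                  exact allRangeF_sound _ _ (checkPointF_eq cert) 94000 25 chkP_94000 i (by omega) (by omega)
                · skip
                  exact allRangeF_sound _ _ (checkPointF_eq cert) 94025 25 chkP_94025 i (by omega) (by omega)
              · skip
                rcases Nat.lt_or_ge i 94075 with h8 | h8
                · skip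
                  exact allRangeF_sound _ _ (checkPointF_eq cert) 94050 25 chkP_94050 i (by omega) (by omega)
                · skip
                  exact allRangeF_sound _ _ (checkPointF_eq cert) 94075 25 chkP_94075 i (by omega) (by omega)
            · skip
              rcases Nat.lt_or_ge i 94150 with h7 | h7
              · skip
                rcases Nat.lt_or_ge i 94125 with h8 | h8
                · skip
                  exact allRangeF_sound _ _ (checkPointF_eq cert) 94100 25 chkP_94100 i (by omega) (by omega)
                · skip
                  exact allRangeF_sound _ _ (checkPointF_eq cert) 94125 25 chkP_94125 i (by omega) (by omega)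
              · skip
                rcases Nat.lt_or_ge i 94175 with h8 | h8
                · skip
                  exact allRangeF_sound _ _ (checkPointF_eq cert) 94150 25 chkP_94150 i (by omega) (by omega)
                · skip
                  rcases Nat.lt_or_ge i 94200 with h9 | h9
                  · skip
                    exact allRangeF_sound _ _ (checkPointF_eq cert) 94175 25 chkP_94175 i (by omega) (by omega)
                  · skip
                    exact allRangeF_sound _ _ (checkPointF_eq cert) 94200 25 chkP_94200 i (by omega) (by omega)
          · skip
            rcases Nat.lt_or_ge i 94350 with h6 | h6
            · skip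
              rcases Nat.lt_or_ge i 94275 with h7 | h7
              · skip
                rcases Nat.lt_or_ge i 94250 with h8 | h8
                · skip
                  exact allRangeF_sound _ _ (checkPointF_eq cert) 94225 25 chkP_94225 i (by omega) (by omega)
                · skip
                  exact allRangeF_sound _ _ (checkPointF_eq cert) 94250 25 chkP_94250 i (by omega) (by omega)
              · skip
                rcases Nat.lt_or_ge i 94300 with h8 | h8
                · skip
                  exact allRangeF_sound _ _ (checkPointF_eq cert) 94275 25 chkP_94275 i (by omega) (by omega)
                · skip
                  rcases Nat.lt_or_ge i 94325 with h9 | h9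
                  · skip
                    exact allRangeF_sound _ _ (checkPointF_eq cert) 94300 25 chkP_94300 i (by omega) (by omega)
                  · skip
                    exact allRangeF_sound _ _ (checkPointF_eq cert) 94325 25 chkP_94325 i (by omega) (by omega)
            · skip
              rcases Nat.lt_or_ge i 94400 with h7 | h7
              · skip
                rcases Nat.lt_or_ge i 94375 with h8 | h8
                · skip
                  exact allRangeF_sound _ _ (checkPointF_eq cert) 94350 25 chkP_94350 i (by omega) (by omega)
                · skip
                  exact allRangeF_sound _ _ (checkPointF_eq cert) 94375 25 chkP_94375 i (by omega) (by omega)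
              · skip
                rcases Nat.lt_or_ge i 94425 with h8 | h8
                · skip
                  exact allRangeF_sound _ _ (checkPointF_eq cert) 94400 25 chkP_94400 i (by omega) (by omega)
                · skip
                  rcases Nat.lt_or_ge i 94450 with h9 | h9
                  · skip
                    exact allRangeF_sound _ _ (checkPointF_eq cert) 94425 25 chkP_94425 i (by omega) (by omega)
                  · skip
                    exact allRangeF_sound _ _ (checkPointF_eq cert) 94450 25 chkP_94450 i (by omega) (by omega)
        · skip
          rcases Nat.lt_or_ge i 94700 with h5 | h5
          · skip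
            rcases Nat.lt_or_ge i 94575 with h6 | h6
            · skip
              rcases Nat.lt_or_ge i 94525 with h7 | h7
              · skip
                rcases Nat.lt_or_ge i 94500 with h8 | h8
                · skip
                  exact allRangeF_sound _ _ (checkPointF_eq cert) 94475 25 chkP_94475 i (by omega) (by omega)
                · skip
                  exact allRangeF_sound _ _ (checkPointF_eq cert) 94500 25 chkP_94500 i (by omega) (by omega)
              · skip
                rcases Nat.lt_or_ge i 94550 with h8 | h8
                · skip
                  exact allRangeF_sound _ _ (checkPointF_eq cert) 94525 25 chkP_94525 i (by omega) (by omega)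
                · skip
                  exact allRangeF_sound _ _ (checkPointF_eq cert) 94550 25 chkP_94550 i (by omega) (by omega)
            · skip
              rcases Nat.lt_or_ge i 94625 with h7 | h7
              · skip
                rcases Nat.lt_or_ge i 94600 with h8 | h8
                · skip
                  exact allRangeF_sound _ _ (checkPointF_eq cert) 94575 25 chkP_94575 i (by omega) (by omega)
                · skip
                  exact allRangeF_sound _ _ (checkPointF_eq cert) 94600 25 chkP_94600 i (by omega) (by omega)
              · skip
                rcases Nat.lt_or_ge i 94650 with h8 | h8
                · skip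
                  exact allRangeF_sound _ _ (checkPointF_eq cert) 94625 25 chkP_94625 i (by omega) (by omega)
                · skip
                  rcases Nat.lt_or_ge i 94675 with h9 | h9
                  · skip
                    exact allRangeF_sound _ _ (checkPointF_eq cert) 94650 25 chkP_94650 i (by omega) (by omega)
                  · skip
                    exact allRangeF_sound _ _ (checkPointF_eq cert) 94675 25 chkP_94675 i (by omega) (by omega)
          · skip
            rcases Nat.lt_or_ge i 94825 with h6 | h6
            · skip
              rcases Nat.lt_or_ge i 94750 with h7 | h7
              · skip
                rcases Nat.lt_or_ge i 94725 with h8 | h8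
                · skip
                  exact allRangeF_sound _ _ (checkPointF_eq cert) 94700 25 chkP_94700 i (by omega) (by omega)
                · skip
                  exact allRangeF_sound _ _ (checkPointF_eq cert) 94725 25 chkP_94725 i (by omega) (by omega)
              · skip
                rcases Nat.lt_or_ge i 94775 with h8 | h8
                · skip
                  exact allRangeF_sound _ _ (checkPointF_eq cert) 94750 25 chkP_94750 i (by omega) (by omega)
                · skip
                  rcases Nat.lt_or_ge i 94800 with h9 | h9
                  · skip
                    exact allRangeF_sound _ _ (checkPointF_eq cert) 94775 25 chkP_94775 i (by omega) (by omega)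
                  · skip
                    exact allRangeF_sound _ _ (checkPointF_eq cert) 94800 25 chkP_94800 i (by omega) (by omega)
            · skip
              rcases Nat.lt_or_ge i 94875 with h7 | h7
              · skip
                rcases Nat.lt_or_ge i 94850 with h8 | h8
                · skip
                  exact allRangeF_sound _ _ (checkPointF_eq cert) 94825 25 chkP_94825 i (by omega) (by omega)
                · skip
                  exact allRangeF_sound _ _ (checkPointF_eq cert) 94850 25 chkP_94850 i (by omega) (by omega)
              · skip
                rcases Nat.lt_or_ge i 94900 with h8 | h8
                · skip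
                  exact allRangeF_sound _ _ (checkPointF_eq cert) 94875 25 chkP_94875 i (by omega) (by omega)
                · skip
                  rcases Nat.lt_or_ge i 94925 with h9 | h9
                  · skip
                    exact allRangeF_sound _ _ (checkPointF_eq cert) 94900 25 chkP_94900 i (by omega) (by omega)
                  · skip
                    exact allRangeF_sound _ _ (checkPointF_eq cert) 94925 25 chkP_94925 i (by omega) (by omega)
      · skip
        rcases Nat.lt_or_ge i 95425 with h4 | h4
        · skip
          rcases Nat.lt_or_ge i 95175 with h5 | h5
          · skip
            rcases Nat.lt_or_ge i 95050 with h6 | h6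
            · skip
              rcases Nat.lt_or_ge i 95000 with h7 | h7
              · skip
                rcases Nat.lt_or_ge i 94975 with h8 | h8
                · skip
                  exact allRangeF_sound _ _ (checkPointF_eq cert) 94950 25 chkP_94950 i (by omega) (by omega)
                · skip
                  exact allRangeF_sound _ _ (checkPointF_eq cert) 94975 25 chkP_94975 i (by omega) (by omega)
              · skip
                rcases Nat.lt_or_ge i 95025 with h8 | h8
                · skip
                  exact allRangeF_sound _ _ (checkPointF_eq cert) 95000 25 chkP_95000 i (by omega) (by omega)
                · skip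
                  exact allRangeF_sound _ _ (checkPointF_eq cert) 95025 25 chkP_95025 i (by omega) (by omega)
            · skip
              rcases Nat.lt_or_ge i 95100 with h7 | h7
              · skip
                rcases Nat.lt_or_ge i 95075 with h8 | h8
                · skip
                  exact allRangeF_sound _ _ (checkPointF_eq cert) 95050 25 chkP_95050 i (by omega) (by omega)
                · skip
                  exact allRangeF_sound _ _ (checkPointF_eq cert) 95075 25 chkP_95075 i (by omega) (by omega)
              · skip
                rcases Nat.lt_or_ge i 95125 with h8 | h8
                · skip
                  exact allRangeF_sound _ _ (checkPointF_eq cert) 95100 25 chkP_95100 i (by omega) (by omega)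
                · skip
                  rcases Nat.lt_or_ge i 95150 with h9 | h9
                  · skip
                    exact allRangeF_sound _ _ (checkPointF_eq cert) 95125 25 chkP_95125 i (by omega) (by omega)
                  · skip
                    exact allRangeF_sound _ _ (checkPointF_eq cert) 95150 25 chkP_95150 i (by omega) (by omega)
          · skip
            rcases Nat.lt_or_ge i 95300 with h6 | h6
            · skip
              rcases Nat.lt_or_ge i 95225 with h7 | h7
              · skip
                rcases Nat.lt_or_ge i 95200 with h8 | h8
                · skip
                  exact allRangeF_sound _ _ (checkPointF_eq cert) 95175 25 chkP_95175 i (by omega) (by omega)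
                · skip
                  exact allRangeF_sound _ _ (checkPointF_eq cert) 95200 25 chkP_95200 i (by omega) (by omega)
              · skip
                rcases Nat.lt_or_ge i 95250 with h8 | h8
                · skip
                  exact allRangeF_sound _ _ (checkPointF_eq cert) 95225 25 chkP_95225 i (by omega) (by omega)
                · skip
                  rcases Nat.lt_or_ge i 95275 with h9 | h9
                  · skip
                    exact allRangeF_sound _ _ (checkPointF_eq cert) 95250 25 chkP_95250 i (by omega) (by omega)
                  · skip
                    exact allRangeF_sound _ _ (checkPointF_eq cert) 95275 25 chkP_95275 i (by omega) (by omega)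
            · skip
              rcases Nat.lt_or_ge i 95350 with h7 | h7
              · skip
                rcases Nat.lt_or_ge i 95325 with h8 | h8
                · skip
                  exact allRangeF_sound _ _ (checkPointF_eq cert) 95300 25 chkP_95300 i (by omega) (by omega)
                · skip
                  exact allRangeF_sound _ _ (checkPointF_eq cert) 95325 25 chkP_95325 i (by omega) (by omega)
              · skip
                rcases Nat.lt_or_ge i 95375 with h8 | h8
                · skip
                  exact allRangeF_sound _ _ (checkPointF_eq cert) 95350 25 chkP_95350 i (by omega) (by omega)
                · skip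
                  rcases Nat.lt_or_ge i 95400 with h9 | h9
                  · skip
                    exact allRangeF_sound _ _ (checkPointF_eq cert) 95375 25 chkP_95375 i (by omega) (by omega)
                  · skip
                    exact allRangeF_sound _ _ (checkPointF_eq cert) 95400 25 chkP_95400 i (by omega) (by omega)
        · skip
          rcases Nat.lt_or_ge i 95675 with h5 | h5
          · skip
            rcases Nat.lt_or_ge i 95550 with h6 | h6
            · skip
              rcases Nat.lt_or_ge i 95475 with h7 | h7
              · skip
                rcases Nat.lt_or_ge i 95450 with h8 | h8
                · skip
                  exact allRangeF_sound _ _ (checkPointF_eq cert) 95425 25 chkP_95425 i (by omega) (by omega)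
                · skip
                  exact allRangeF_sound _ _ (checkPointF_eq cert) 95450 25 chkP_95450 i (by omega) (by omega)
              · skip
                rcases Nat.lt_or_ge i 95500 with h8 | h8
                · skip
                  exact allRangeF_sound _ _ (checkPointF_eq cert) 95475 25 chkP_95475 i (by omega) (by omega)
                · skip
                  rcases Nat.lt_or_ge i 95525 with h9 | h9
                  · skip
                    exact allRangeF_sound _ _ (checkPointF_eq cert) 95500 25 chkP_95500 i (by omega) (by omega)
                  · skip
                    exact allRangeF_sound _ _ (checkPointF_eq cert) 95525 25 chkP_95525 i (by omega) (by omega)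
            · skip
              rcases Nat.lt_or_ge i 95600 with h7 | h7
              · skip
                rcases Nat.lt_or_ge i 95575 with h8 | h8
                · skip
                  exact allRangeF_sound _ _ (checkPointF_eq cert) 95550 25 chkP_95550 i (by omega) (by omega)
                · skip
                  exact allRangeF_sound _ _ (checkPointF_eq cert) 95575 25 chkP_95575 i (by omega) (by omega)
              · skip
                rcases Nat.lt_or_ge i 95625 with h8 | h8
                · skip
                  exact allRangeF_sound _ _ (checkPointF_eq cert) 95600 25 chkP_95600 i (by omega) (by omega)
                · skip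
                  rcases Nat.lt_or_ge i 95650 with h9 | h9
                  · skip
                    exact allRangeF_sound _ _ (checkPointF_eq cert) 95625 25 chkP_95625 i (by omega) (by omega)
                  · skip
                    exact allRangeF_sound _ _ (checkPointF_eq cert) 95650 25 chkP_95650 i (by omega) (by omega)
          · skip
            rcases Nat.lt_or_ge i 95800 with h6 | h6
            · skip
              rcases Nat.lt_or_ge i 95725 with h7 | h7
              · skip
                rcases Nat.lt_or_ge i 95700 with h8 | h8
                · skip
                  exact allRangeF_sound _ _ (checkPointF_eq cert) 95675 25 chkP_95675 i (by omega) (by omega)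
                · skip
                  exact allRangeF_sound _ _ (checkPointF_eq cert) 95700 25 chkP_95700 i (by omega) (by omega)
              · skip
                rcases Nat.lt_or_ge i 95750 with h8 | h8
                · skip
                  exact allRangeF_sound _ _ (checkPointF_eq cert) 95725 25 chkP_95725 i (by omega) (by omega)
                · skip
                  rcases Nat.lt_or_ge i 95775 with h9 | h9
                  · skip
                    exact allRangeF_sound _ _ (checkPointF_eq cert) 95750 25 chkP_95750 i (by omega) (by omega)
                  · skip
                    exact allRangeF_sound _ _ (checkPointF_eq cert) 95775 25 chkP_95775 i (by omega) (by omega)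
            · skip
              rcases Nat.lt_or_ge i 95850 with h7 | h7
              · skip
                rcases Nat.lt_or_ge i 95825 with h8 | h8
                · skip
                  exact allRangeF_sound _ _ (checkPointF_eq cert) 95800 25 chkP_95800 i (by omega) (by omega)
                · skip
                  exact allRangeF_sound _ _ (checkPointF_eq cert) 95825 25 chkP_95825 i (by omega) (by omega)
              · skip
                rcases Nat.lt_or_ge i 95875 with h8 | h8
                · skip
                  exact allRangeF_sound _ _ (checkPointF_eq cert) 95850 25 chkP_95850 i (by omega) (by omega)
                · skip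
                  rcases Nat.lt_or_ge i 95900 with h9 | h9
                  · skip
                    exact allRangeF_sound _ _ (checkPointF_eq cert) 95875 25 chkP_95875 i (by omega) (by omega)
                  · skip
                    exact allRangeF_sound _ _ (checkPointF_eq cert) 95900 25 chkP_95900 i (by omega) (by omega)
  · skip
    rcases Nat.lt_or_ge i 97850 with h2 | h2
    · skip
      rcases Nat.lt_or_ge i 96875 with h3 | h3
      · skip
        rcases Nat.lt_or_ge i 96400 with h4 | h4
        · skip
          rcases Nat.lt_or_ge i 96150 with h5 | h5
          · skip
            rcases Nat.lt_or_ge i 96025 with h6 | h6
            · skip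
              rcases Nat.lt_or_ge i 95975 with h7 | h7
              · skip
                rcases Nat.lt_or_ge i 95950 with h8 | h8
                · skip
                  exact allRangeF_sound _ _ (checkPointF_eq cert) 95925 25 chkP_95925 i (by omega) (by omega)
                · skip
                  exact allRangeF_sound _ _ (checkPointF_eq cert) 95950 25 chkP_95950 i (by omega) (by omega)
              · skip
                rcases Nat.lt_or_ge i 96000 with h8 | h8
                · skip
                  exact allRangeF_sound _ _ (checkPointF_eq cert) 95975 25 chkP_95975 i (by omega) (by omega)
                · skip
                  exact allRangeF_sound _ _ (checkPointF_eq cert) 96000 25 chkP_96000 i (by omega) (by omega)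
            · skip
              rcases Nat.lt_or_ge i 96075 with h7 | h7
              · skip
                rcases Nat.lt_or_ge i 96050 with h8 | h8
                · skip
                  exact allRangeF_sound _ _ (checkPointF_eq cert) 96025 25 chkP_96025 i (by omega) (by omega)
                · skip
                  exact allRangeF_sound _ _ (checkPointF_eq cert) 96050 25 chkP_96050 i (by omega) (by omega)
              · skip
                rcases Nat.lt_or_ge i 96100 with h8 | h8
                · skip
                  exact allRangeF_sound _ _ (checkPointF_eq cert) 96075 25 chkP_96075 i (by omega) (by omega)
                · skip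
                  rcases Nat.lt_or_ge i 96125 with h9 | h9
                  · skip
                    exact allRangeF_sound _ _ (checkPointF_eq cert) 96100 25 chkP_96100 i (by omega) (by omega)
                  · skip
                    exact allRangeF_sound _ _ (checkPointF_eq cert) 96125 25 chkP_96125 i (by omega) (by omega)
          · skip
            rcases Nat.lt_or_ge i 96275 with h6 | h6
            · skip
              rcases Nat.lt_or_ge i 96200 with h7 | h7
              · skip
                rcases Nat.lt_or_ge i 96175 with h8 | h8
                · skip
                  exact allRangeF_sound _ _ (checkPointF_eq cert) 96150 25 chkP_96150 i (by omega) (by omega)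
                · skip
                  exact allRangeF_sound _ _ (checkPointF_eq cert) 96175 25 chkP_96175 i (by omega) (by omega)
              · skip
                rcases Nat.lt_or_ge i 96225 with h8 | h8
                · skip
                  exact allRangeF_sound _ _ (checkPointF_eq cert) 96200 25 chkP_96200 i (by omega) (by omega)
                · skip
                  rcases Nat.lt_or_ge i 96250 with h9 | h9
                  · skip
                    exact allRangeF_sound _ _ (checkPointF_eq cert) 96225 25 chkP_96225 i (by omega) (by omega)
                  · skip
                    exact allRangeF_sound _ _ (checkPointF_eq cert) 96250 25 chkP_96250 i (by omega) (by omega)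
            · skip
              rcases Nat.lt_or_ge i 96325 with h7 | h7
              · skip
                rcases Nat.lt_or_ge i 96300 with h8 | h8
                · skip
                  exact allRangeF_sound _ _ (checkPointF_eq cert) 96275 25 chkP_96275 i (by omega) (by omega)
                · skip
                  exact allRangeF_sound _ _ (checkPointF_eq cert) 96300 25 chkP_96300 i (by omega) (by omega)
              · skip
                rcases Nat.lt_or_ge i 96350 with h8 | h8
                · skip
                  exact allRangeF_sound _ _ (checkPointF_eq cert) 96325 25 chkP_96325 i (by omega) (by omega)
                · skip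
                  rcases Nat.lt_or_ge i 96375 with h9 | h9
                  · skip
                    exact allRangeF_sound _ _ (checkPointF_eq cert) 96350 25 chkP_96350 i (by omega) (by omega)
                  · skip
                    exact allRangeF_sound _ _ (checkPointF_eq cert) 96375 25 chkP_96375 i (by omega) (by omega)
        · skip
          rcases Nat.lt_or_ge i 96625 with h5 | h5
          · skip
            rcases Nat.lt_or_ge i 96500 with h6 | h6
            · skip
              rcases Nat.lt_or_ge i 96450 with h7 | h7
              · skip
                rcases Nat.lt_or_ge i 96425 with h8 | h8
                · skip
                  exact allRangeF_sound _ _ (checkPointF_eq cert) 96400 25 chkP_96400 i (by omega) (by omega)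
                · skip
                  exact allRangeF_sound _ _ (checkPointF_eq cert) 96425 25 chkP_96425 i (by omega) (by omega)
              · skip
                rcases Nat.lt_or_ge i 96475 with h8 | h8
                · skip
                  exact allRangeF_sound _ _ (checkPointF_eq cert) 96450 25 chkP_96450 i (by omega) (by omega)
                · skip
                  exact allRangeF_sound _ _ (checkPointF_eq cert) 96475 25 chkP_96475 i (by omega) (by omega)
            · skip
              rcases Nat.lt_or_ge i 96550 with h7 | h7
              · skip
                rcases Nat.lt_or_ge i 96525 with h8 | h8
                · skip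
                  exact allRangeF_sound _ _ (checkPointF_eq cert) 96500 25 chkP_96500 i (by omega) (by omega)
                · skip
                  exact allRangeF_sound _ _ (checkPointF_eq cert) 96525 25 chkP_96525 i (by omega) (by omega)
              · skip
                rcases Nat.lt_or_ge i 96575 with h8 | h8
                · skip
                  exact allRangeF_sound _ _ (checkPointF_eq cert) 96550 25 chkP_96550 i (by omega) (by omega)
                · skip
                  rcases Nat.lt_or_ge i 96600 with h9 | h9
                  · skip
                    exact allRangeF_sound _ _ (checkPointF_eq cert) 96575 25 chkP_96575 i (by omega) (by omega)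
                  · skip
                    exact allRangeF_sound _ _ (checkPointF_eq cert) 96600 25 chkP_96600 i (by omega) (by omega)
          · skip
            rcases Nat.lt_or_ge i 96750 with h6 | h6
            · skip
              rcases Nat.lt_or_ge i 96675 with h7 | h7
              · skip
                rcases Nat.lt_or_ge i 96650 with h8 | h8
                · skip
                  exact allRangeF_sound _ _ (checkPointF_eq cert) 96625 25 chkP_96625 i (by omega) (by omega)
                · skip
                  exact allRangeF_sound _ _ (checkPointF_eq cert) 96650 25 chkP_96650 i (by omega) (by omega)
              · skip
                rcases Nat.lt_or_ge i 96700 with h8 | h8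
                · skip
                  exact allRangeF_sound _ _ (checkPointF_eq cert) 96675 25 chkP_96675 i (by omega) (by omega)
                · skip
                  rcases Nat.lt_or_ge i 96725 with h9 | h9
                  · skip
                    exact allRangeF_sound _ _ (checkPointF_eq cert) 96700 25 chkP_96700 i (by omega) (by omega)
                  · skip
                    exact allRangeF_sound _ _ (checkPointF_eq cert) 96725 25 chkP_96725 i (by omega) (by omega)
            · skip
              rcases Nat.lt_or_ge i 96800 with h7 | h7
              · skip
                rcases Nat.lt_or_ge i 96775 with h8 | h8
                · skip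
                  exact allRangeF_sound _ _ (checkPointF_eq cert) 96750 25 chkP_96750 i (by omega) (by omega)
                · skip
                  exact allRangeF_sound _ _ (checkPointF_eq cert) 96775 25 chkP_96775 i (by omega) (by omega)
              · skip
                rcases Nat.lt_or_ge i 96825 with h8 | h8
                · skip
                  exact allRangeF_sound _ _ (checkPointF_eq cert) 96800 25 chkP_96800 i (by omega) (by omega)
                · skip
                  rcases Nat.lt_or_ge i 96850 with h9 | h9
                  · skip
                    exact allRangeF_sound _ _ (checkPointF_eq cert) 96825 25 chkP_96825 i (by omega) (by omega)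
                  · skip
                    exact allRangeF_sound _ _ (checkPointF_eq cert) 96850 25 chkP_96850 i (by omega) (by omega)
      · skip
        rcases Nat.lt_or_ge i 97350 with h4 | h4
        · skip
          rcases Nat.lt_or_ge i 97100 with h5 | h5
          · skip
            rcases Nat.lt_or_ge i 96975 with h6 | h6
            · skip
              rcases Nat.lt_or_ge i 96925 with h7 | h7
              · skip
                rcases Nat.lt_or_ge i 96900 with h8 | h8
                · skip
                  exact allRangeF_sound _ _ (checkPointF_eq cert) 96875 25 chkP_96875 i (by omega) (by omega)
                · skip
                  exact allRangeF_sound _ _ (checkPointF_eq cert) 96900 25 chkP_96900 i (by omega) (by omega)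
              · skip
                rcases Nat.lt_or_ge i 96950 with h8 | h8
                · skip
                  exact allRangeF_sound _ _ (checkPointF_eq cert) 96925 25 chkP_96925 i (by omega) (by omega)
                · skip
                  exact allRangeF_sound _ _ (checkPointF_eq cert) 96950 25 chkP_96950 i (by omega) (by omega)
            · skip
              rcases Nat.lt_or_ge i 97025 with h7 | h7
              · skip
                rcases Nat.lt_or_ge i 97000 with h8 | h8
                · skip
                  exact allRangeF_sound _ _ (checkPointF_eq cert) 96975 25 chkP_96975 i (by omega) (by omega)
                · skip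
                  exact allRangeF_sound _ _ (checkPointF_eq cert) 97000 25 chkP_97000 i (by omega) (by omega)
              · skip
                rcases Nat.lt_or_ge i 97050 with h8 | h8
                · skip
                  exact allRangeF_sound _ _ (checkPointF_eq cert) 97025 25 chkP_97025 i (by omega) (by omega)
                · skip
                  rcases Nat.lt_or_ge i 97075 with h9 | h9
                  · skip
                    exact allRangeF_sound _ _ (checkPointF_eq cert) 97050 25 chkP_97050 i (by omega) (by omega)
                  · skip
                    exact allRangeF_sound _ _ (checkPointF_eq cert) 97075 25 chkP_97075 i (by omega) (by omega)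
          · skip
            rcases Nat.lt_or_ge i 97225 with h6 | h6
            · skip
              rcases Nat.lt_or_ge i 97150 with h7 | h7
              · skip
                rcases Nat.lt_or_ge i 97125 with h8 | h8
                · skip
                  exact allRangeF_sound _ _ (checkPointF_eq cert) 97100 25 chkP_97100 i (by omega) (by omega)
                · skip
                  exact allRangeF_sound _ _ (checkPointF_eq cert) 97125 25 chkP_97125 i (by omega) (by omega)
              · skip
                rcases Nat.lt_or_ge i 97175 with h8 | h8
                · skip
                  exact allRangeF_sound _ _ (checkPointF_eq cert) 97150 25 chkP_97150 i (by omega) (by omega)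
                · skip
                  rcases Nat.lt_or_ge i 97200 with h9 | h9
                  · skip
                    exact allRangeF_sound _ _ (checkPointF_eq cert) 97175 25 chkP_97175 i (by omega) (by omega)
                  · skip
                    exact allRangeF_sound _ _ (checkPointF_eq cert) 97200 25 chkP_97200 i (by omega) (by omega)
            · skip
              rcases Nat.lt_or_ge i 97275 with h7 | h7
              · skip
                rcases Nat.lt_or_ge i 97250 with h8 | h8
                · skip
                  exact allRangeF_sound _ _ (checkPointF_eq cert) 97225 25 chkP_97225 i (by omega) (by omega)
                · skip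
                  exact allRangeF_sound _ _ (checkPointF_eq cert) 97250 25 chkP_97250 i (by omega) (by omega)
              · skip
                rcases Nat.lt_or_ge i 97300 with h8 | h8
                · skip
                  exact allRangeF_sound _ _ (checkPointF_eq cert) 97275 25 chkP_97275 i (by omega) (by omega)
                · skip
                  rcases Nat.lt_or_ge i 97325 with h9 | h9
                  · skip
                    exact allRangeF_sound _ _ (checkPointF_eq cert) 97300 25 chkP_97300 i (by omega) (by omega)
                  · skip
                    exact allRangeF_sound _ _ (checkPointF_eq cert) 97325 25 chkP_97325 i (by omega) (by omega)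
        · skip
          rcases Nat.lt_or_ge i 97600 with h5 | h5
          · skip
            rcases Nat.lt_or_ge i 97475 with h6 | h6
            · skip
              rcases Nat.lt_or_ge i 97400 with h7 | h7
              · skip
                rcases Nat.lt_or_ge i 97375 with h8 | h8
                · skip
                  exact allRangeF_sound _ _ (checkPointF_eq cert) 97350 25 chkP_97350 i (by omega) (by omega)
                · skip
                  exact allRangeF_sound _ _ (checkPointF_eq cert) 97375 25 chkP_97375 i (by omega) (by omega)
              · skip
                rcases Nat.lt_or_ge i 97425 with h8 | h8
                · skip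
                  exact allRangeF_sound _ _ (checkPointF_eq cert) 97400 25 chkP_97400 i (by omega) (by omega)
                · skip
                  rcases Nat.lt_or_ge i 97450 with h9 | h9
                  · skip
                    exact allRangeF_sound _ _ (checkPointF_eq cert) 97425 25 chkP_97425 i (by omega) (by omega)
                  · skip
                    exact allRangeF_sound _ _ (checkPointF_eq cert) 97450 25 chkP_97450 i (by omega) (by omega)
            · skip
              rcases Nat.lt_or_ge i 97525 with h7 | h7
              · skip
                rcases Nat.lt_or_ge i 97500 with h8 | h8
                · skip
                  exact allRangeF_sound _ _ (checkPointF_eq cert) 97475 25 chkP_97475 i (by omega) (by omega)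
                · skip
                  exact allRangeF_sound _ _ (checkPointF_eq cert) 97500 25 chkP_97500 i (by omega) (by omega)
              · skip
                rcases Nat.lt_or_ge i 97550 with h8 | h8
                · skip
                  exact allRangeF_sound _ _ (checkPointF_eq cert) 97525 25 chkP_97525 i (by omega) (by omega)
                · skip
                  rcases Nat.lt_or_ge i 97575 with h9 | h9
                  · skip
                    exact allRangeF_sound _ _ (checkPointF_eq cert) 97550 25 chkP_97550 i (by omega) (by omega)
                  · skip
                    exact allRangeF_sound _ _ (checkPointF_eq cert) 97575 25 chkP_97575 i (by omega) (by omega)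
          · skip
            rcases Nat.lt_or_ge i 97725 with h6 | h6
            · skip
              rcases Nat.lt_or_ge i 97650 with h7 | h7
              · skip
                rcases Nat.lt_or_ge i 97625 with h8 | h8
                · skip
                  exact allRangeF_sound _ _ (checkPointF_eq cert) 97600 25 chkP_97600 i (by omega) (by omega)
                · skip
                  exact allRangeF_sound _ _ (checkPointF_eq cert) 97625 25 chkP_97625 i (by omega) (by omega)
              · skip
                rcases Nat.lt_or_ge i 97675 with h8 | h8
                · skip
                  exact allRangeF_sound _ _ (checkPointF_eq cert) 97650 25 chkP_97650 i (by omega) (by omega)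
                · skip
                  rcases Nat.lt_or_ge i 97700 with h9 | h9
                  · skip
                    exact allRangeF_sound _ _ (checkPointF_eq cert) 97675 25 chkP_97675 i (by omega) (by omega)
                  · skip
                    exact allRangeF_sound _ _ (checkPointF_eq cert) 97700 25 chkP_97700 i (by omega) (by omega)
            · skip
              rcases Nat.lt_or_ge i 97775 with h7 | h7
              · skip
                rcases Nat.lt_or_ge i 97750 with h8 | h8
                · skip
                  exact allRangeF_sound _ _ (checkPointF_eq cert) 97725 25 chkP_97725 i (by omega) (by omega)
                · skip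
                  exact allRangeF_sound _ _ (checkPointF_eq cert) 97750 25 chkP_97750 i (by omega) (by omega)
              · skip
                rcases Nat.lt_or_ge i 97800 with h8 | h8
                · skip
                  exact allRangeF_sound _ _ (checkPointF_eq cert) 97775 25 chkP_97775 i (by omega) (by omega)
                · skip
                  rcases Nat.lt_or_ge i 97825 with h9 | h9
                  · skip
                    exact allRangeF_sound _ _ (checkPointF_eq cert) 97800 25 chkP_97800 i (by omega) (by omega)
                  · skip
                    exact allRangeF_sound _ _ (checkPointF_eq cert) 97825 25 chkP_97825 i (by omega) (by omega)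
    · skip
      rcases Nat.lt_or_ge i 98800 with h3 | h3
      · skip
        rcases Nat.lt_or_ge i 98325 with h4 | h4
        · skip
          rcases Nat.lt_or_ge i 98075 with h5 | h5
          · skip
            rcases Nat.lt_or_ge i 97950 with h6 | h6
            · skip
              rcases Nat.lt_or_ge i 97900 with h7 | h7
              · skip
                rcases Nat.lt_or_ge i 97875 with h8 | h8
                · skip
                  exact allRangeF_sound _ _ (checkPointF_eq cert) 97850 25 chkP_97850 i (by omega) (by omega)
                · skip
                  exact allRangeF_sound _ _ (checkPointF_eq cert) 97875 25 chkP_97875 i (by omega) (by omega)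
              · skip
                rcases Nat.lt_or_ge i 97925 with h8 | h8
                · skip
                  exact allRangeF_sound _ _ (checkPointF_eq cert) 97900 25 chkP_97900 i (by omega) (by omega)
                · skip
                  exact allRangeF_sound _ _ (checkPointF_eq cert) 97925 25 chkP_97925 i (by omega) (by omega)
            · skip
              rcases Nat.lt_or_ge i 98000 with h7 | h7
              · skip
                rcases Nat.lt_or_ge i 97975 with h8 | h8
                · skip
                  exact allRangeF_sound _ _ (checkPointF_eq cert) 97950 25 chkP_97950 i (by omega) (by omega)
                · skip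
                  exact allRangeF_sound _ _ (checkPointF_eq cert) 97975 25 chkP_97975 i (by omega) (by omega)
              · skip
                rcases Nat.lt_or_ge i 98025 with h8 | h8
                · skip
                  exact allRangeF_sound _ _ (checkPointF_eq cert) 98000 25 chkP_98000 i (by omega) (by omega)
                · skip
                  rcases Nat.lt_or_ge i 98050 with h9 | h9
                  · skip
                    exact allRangeF_sound _ _ (checkPointF_eq cert) 98025 25 chkP_98025 i (by omega) (by omega)
                  · skip
                    exact allRangeF_sound _ _ (checkPointF_eq cert) 98050 25 chkP_98050 i (by omega) (by omega)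
          · skip
            rcases Nat.lt_or_ge i 98200 with h6 | h6
            · skip
              rcases Nat.lt_or_ge i 98125 with h7 | h7
              · skip
                rcases Nat.lt_or_ge i 98100 with h8 | h8
                · skip
                  exact allRangeF_sound _ _ (checkPointF_eq cert) 98075 25 chkP_98075 i (by omega) (by omega)
                · skip
                  exact allRangeF_sound _ _ (checkPointF_eq cert) 98100 25 chkP_98100 i (by omega) (by omega)
              · skip
                rcases Nat.lt_or_ge i 98150 with h8 | h8
                · skip
                  exact allRangeF_sound _ _ (checkPointF_eq cert) 98125 25 chkP_98125 i (by omega) (by omega)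
                · skip
                  rcases Nat.lt_or_ge i 98175 with h9 | h9
                  · skip
                    exact allRangeF_sound _ _ (checkPointF_eq cert) 98150 25 chkP_98150 i (by omega) (by omega)
                  · skip
                    exact allRangeF_sound _ _ (checkPointF_eq cert) 98175 25 chkP_98175 i (by omega) (by omega)
            · skip
              rcases Nat.lt_or_ge i 98250 with h7 | h7
              · skip
                rcases Nat.lt_or_ge i 98225 with h8 | h8
                · skip
                  exact allRangeF_sound _ _ (checkPointF_eq cert) 98200 25 chkP_98200 i (by omega) (by omega)
                · skip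
                  exact allRangeF_sound _ _ (checkPointF_eq cert) 98225 25 chkP_98225 i (by omega) (by omega)
              · skip
                rcases Nat.lt_or_ge i 98275 with h8 | h8
                · skip
                  exact allRangeF_sound _ _ (checkPointF_eq cert) 98250 25 chkP_98250 i (by omega) (by omega)
                · skip
                  rcases Nat.lt_or_ge i 98300 with h9 | h9
                  · skip
                    exact allRangeF_sound _ _ (checkPointF_eq cert) 98275 25 chkP_98275 i (by omega) (by omega)
                  · skip
                    exact allRangeF_sound _ _ (checkPointF_eq cert) 98300 25 chkP_98300 i (by omega) (by omega)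
        · skip
          rcases Nat.lt_or_ge i 98550 with h5 | h5
          · skip
            rcases Nat.lt_or_ge i 98425 with h6 | h6
            · skip
              rcases Nat.lt_or_ge i 98375 with h7 | h7
              · skip
                rcases Nat.lt_or_ge i 98350 with h8 | h8
                · skip
                  exact allRangeF_sound _ _ (checkPointF_eq cert) 98325 25 chkP_98325 i (by omega) (by omega)
                · skip
                  exact allRangeF_sound _ _ (checkPointF_eq cert) 98350 25 chkP_98350 i (by omega) (by omega)
              · skip
                rcases Nat.lt_or_ge i 98400 with h8 | h8
                · skip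
                  exact allRangeF_sound _ _ (checkPointF_eq cert) 98375 25 chkP_98375 i (by omega) (by omega)
                · skip
                  exact allRangeF_sound _ _ (checkPointF_eq cert) 98400 25 chkP_98400 i (by omega) (by omega)
            · skip
              rcases Nat.lt_or_ge i 98475 with h7 | h7
              · skip
                rcases Nat.lt_or_ge i 98450 with h8 | h8
                · skip
                  exact allRangeF_sound _ _ (checkPointF_eq cert) 98425 25 chkP_98425 i (by omega) (by omega)
                · skip
                  exact allRangeF_sound _ _ (checkPointF_eq cert) 98450 25 chkP_98450 i (by omega) (by omega)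
              · skip
                rcases Nat.lt_or_ge i 98500 with h8 | h8
                · skip
                  exact allRangeF_sound _ _ (checkPointF_eq cert) 98475 25 chkP_98475 i (by omega) (by omega)
                · skip
                  rcases Nat.lt_or_ge i 98525 with h9 | h9
                  · skip
                    exact allRangeF_sound _ _ (checkPointF_eq cert) 98500 25 chkP_98500 i (by omega) (by omega)
                  · skip
                    exact allRangeF_sound _ _ (checkPointF_eq cert) 98525 25 chkP_98525 i (by omega) (by omega)
          · skip
            rcases Nat.lt_or_ge i 98675 with h6 | h6
            · skip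
              rcases Nat.lt_or_ge i 98600 with h7 | h7
              · skip
                rcases Nat.lt_or_ge i 98575 with h8 | h8
                · skip
                  exact allRangeF_sound _ _ (checkPointF_eq cert) 98550 25 chkP_98550 i (by omega) (by omega)
                · skip
                  exact allRangeF_sound _ _ (checkPointF_eq cert) 98575 25 chkP_98575 i (by omega) (by omega)
              · skip
                rcases Nat.lt_or_ge i 98625 with h8 | h8
                · skip
                  exact allRangeF_sound _ _ (checkPointF_eq cert) 98600 25 chkP_98600 i (by omega) (by omega)
                · skip
                  rcases Nat.lt_or_ge i 98650 with h9 | h9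
                  · skip
                    exact allRangeF_sound _ _ (checkPointF_eq cert) 98625 25 chkP_98625 i (by omega) (by omega)
                  · skip
                    exact allRangeF_sound _ _ (checkPointF_eq cert) 98650 25 chkP_98650 i (by omega) (by omega)
            · skip
              rcases Nat.lt_or_ge i 98725 with h7 | h7
              · skip
                rcases Nat.lt_or_ge i 98700 with h8 | h8
                · skip
                  exact allRangeF_sound _ _ (checkPointF_eq cert) 98675 25 chkP_98675 i (by omega) (by omega)
                · skip
                  exact allRangeF_sound _ _ (checkPointF_eq cert) 98700 25 chkP_98700 i (by omega) (by omega)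
              · skip
                rcases Nat.lt_or_ge i 98750 with h8 | h8
                · skip
                  exact allRangeF_sound _ _ (checkPointF_eq cert) 98725 25 chkP_98725 i (by omega) (by omega)
                · skip
                  rcases Nat.lt_or_ge i 98775 with h9 | h9
                  · skip
                    exact allRangeF_sound _ _ (checkPointF_eq cert) 98750 25 chkP_98750 i (by omega) (by omega)
                  · skip
                    exact allRangeF_sound _ _ (checkPointF_eq cert) 98775 25 chkP_98775 i (by omega) (by omega)
      · skip
        rcases Nat.lt_or_ge i 99275 with h4 | h4
        · skip
          rcases Nat.lt_or_ge i 99025 with h5 | h5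
          · skip
            rcases Nat.lt_or_ge i 98900 with h6 | h6
            · skip
              rcases Nat.lt_or_ge i 98850 with h7 | h7
              · skip
                rcases Nat.lt_or_ge i 98825 with h8 | h8
                · skip
                  exact allRangeF_sound _ _ (checkPointF_eq cert) 98800 25 chkP_98800 i (by omega) (by omega)
                · skip
                  exact allRangeF_sound _ _ (checkPointF_eq cert) 98825 25 chkP_98825 i (by omega) (by omega)
              · skip
                rcases Nat.lt_or_ge i 98875 with h8 | h8
                · skip
                  exact allRangeF_sound _ _ (checkPointF_eq cert) 98850 25 chkP_98850 i (by omega) (by omega)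
                · skip
                  exact allRangeF_sound _ _ (checkPointF_eq cert) 98875 25 chkP_98875 i (by omega) (by omega)
            · skip
              rcases Nat.lt_or_ge i 98950 with h7 | h7
              · skip
                rcases Nat.lt_or_ge i 98925 with h8 | h8
                · skip
                  exact allRangeF_sound _ _ (checkPointF_eq cert) 98900 25 chkP_98900 i (by omega) (by omega)
                · skip
                  exact allRangeF_sound _ _ (checkPointF_eq cert) 98925 25 chkP_98925 i (by omega) (by omega)
              · skip
                rcases Nat.lt_or_ge i 98975 with h8 | h8
                · skip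
                  exact allRangeF_sound _ _ (checkPointF_eq cert) 98950 25 chkP_98950 i (by omega) (by omega)
                · skip
                  rcases Nat.lt_or_ge i 99000 with h9 | h9
                  · skip
                    exact allRangeF_sound _ _ (checkPointF_eq cert) 98975 25 chkP_98975 i (by omega) (by omega)
                  · skip
                    exact allRangeF_sound _ _ (checkPointF_eq cert) 99000 25 chkP_99000 i (by omega) (by omega)
          · skip
            rcases Nat.lt_or_ge i 99150 with h6 | h6
            · skip
              rcases Nat.lt_or_ge i 99075 with h7 | h7
              · skip
                rcases Nat.lt_or_ge i 99050 with h8 | h8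
                · skip
                  exact allRangeF_sound _ _ (checkPointF_eq cert) 99025 25 chkP_99025 i (by omega) (by omega)
                · skip
                  exact allRangeF_sound _ _ (checkPointF_eq cert) 99050 25 chkP_99050 i (by omega) (by omega)
              · skip
                rcases Nat.lt_or_ge i 99100 with h8 | h8
                · skip
                  exact allRangeF_sound _ _ (checkPointF_eq cert) 99075 25 chkP_99075 i (by omega) (by omega)
                · skip
                  rcases Nat.lt_or_ge i 99125 with h9 | h9
                  · skip
                    exact allRangeF_sound _ _ (checkPointF_eq cert) 99100 25 chkP_99100 i (by omega) (by omega)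
                  · skip
                    exact allRangeF_sound _ _ (checkPointF_eq cert) 99125 25 chkP_99125 i (by omega) (by omega)
            · skip
              rcases Nat.lt_or_ge i 99200 with h7 | h7
              · skip
                rcases Nat.lt_or_ge i 99175 with h8 | h8
                · skip
                  exact allRangeF_sound _ _ (checkPointF_eq cert) 99150 25 chkP_99150 i (by omega) (by omega)
                · skip
                  exact allRangeF_sound _ _ (checkPointF_eq cert) 99175 25 chkP_99175 i (by omega) (by omega)
              · skip
                rcases Nat.lt_or_ge i 99225 with h8 | h8
                · skip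
                  exact allRangeF_sound _ _ (checkPointF_eq cert) 99200 25 chkP_99200 i (by omega) (by omega)
                · skip
                  rcases Nat.lt_or_ge i 99250 with h9 | h9
                  · skip
                    exact allRangeF_sound _ _ (checkPointF_eq cert) 99225 25 chkP_99225 i (by omega) (by omega)
                  · skip
                    exact allRangeF_sound _ _ (checkPointF_eq cert) 99250 25 chkP_99250 i (by omega) (by omega)
        · skip
          rcases Nat.lt_or_ge i 99525 with h5 | h5
          · skip
            rcases Nat.lt_or_ge i 99400 with h6 | h6
            · skip
              rcases Nat.lt_or_ge i 99325 with h7 | h7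
              · skip
                rcases Nat.lt_or_ge i 99300 with h8 | h8
                · skip
                  exact allRangeF_sound _ _ (checkPointF_eq cert) 99275 25 chkP_99275 i (by omega) (by omega)
                · skip
                  exact allRangeF_sound _ _ (checkPointF_eq cert) 99300 25 chkP_99300 i (by omega) (by omega)
              · skip
                rcases Nat.lt_or_ge i 99350 with h8 | h8
                · skip
                  exact allRangeF_sound _ _ (checkPointF_eq cert) 99325 25 chkP_99325 i (by omega) (by omega)
                · skip
                  rcases Nat.lt_or_ge i 99375 with h9 | h9
                  · skip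
                    exact allRangeF_sound _ _ (checkPointF_eq cert) 99350 25 chkP_99350 i (by omega) (by omega)
                  · skip
                    exact allRangeF_sound _ _ (checkPointF_eq cert) 99375 25 chkP_99375 i (by omega) (by omega)
            · skip
              rcases Nat.lt_or_ge i 99450 with h7 | h7
              · skip
                rcases Nat.lt_or_ge i 99425 with h8 | h8
                · skip
                  exact allRangeF_sound _ _ (checkPointF_eq cert) 99400 25 chkP_99400 i (by omega) (by omega)
                · skip
                  exact allRangeF_sound _ _ (checkPointF_eq cert) 99425 25 chkP_99425 i (by omega) (by omega)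
              · skip
                rcases Nat.lt_or_ge i 99475 with h8 | h8
                · skip
                  exact allRangeF_sound _ _ (checkPointF_eq cert) 99450 25 chkP_99450 i (by omega) (by omega)
                · skip
                  rcases Nat.lt_or_ge i 99500 with h9 | h9
                  · skip
                    exact allRangeF_sound _ _ (checkPointF_eq cert) 99475 25 chkP_99475 i (by omega) (by omega)
                  · skip
                    exact allRangeF_sound _ _ (checkPointF_eq cert) 99500 25 chkP_99500 i (by omega) (by omega)
          · skip
            rcases Nat.lt_or_ge i 99650 with h6 | h6
            · skip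
              rcases Nat.lt_or_ge i 99575 with h7 | h7
              · skip
                rcases Nat.lt_or_ge i 99550 with h8 | h8
                · skip
                  exact allRangeF_sound _ _ (checkPointF_eq cert) 99525 25 chkP_99525 i (by omega) (by omega)
                · skip
                  exact allRangeF_sound _ _ (checkPointF_eq cert) 99550 25 chkP_99550 i (by omega) (by omega)
              · skip
                rcases Nat.lt_or_ge i 99600 with h8 | h8
                · skip
                  exact allRangeF_sound _ _ (checkPointF_eq cert) 99575 25 chkP_99575 i (by omega) (by omega)
                · skip
                  rcases Nat.lt_or_ge i 99625 with h9 | h9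
                  · skip
                    exact allRangeF_sound _ _ (checkPointF_eq cert) 99600 25 chkP_99600 i (by omega) (by omega)
                  · skip
                    exact allRangeF_sound _ _ (checkPointF_eq cert) 99625 25 chkP_99625 i (by omega) (by omega)
            · skip
              rcases Nat.lt_or_ge i 99700 with h7 | h7
              · skip
                rcases Nat.lt_or_ge i 99675 with h8 | h8
                · skip
                  exact allRangeF_sound _ _ (checkPointF_eq cert) 99650 25 chkP_99650 i (by omega) (by omega)
                · skip
                  exact allRangeF_sound _ _ (checkPointF_eq cert) 99675 25 chkP_99675 i (by omega) (by omega)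
              · skip
                rcases Nat.lt_or_ge i 99725 with h8 | h8
                · skip
                  exact allRangeF_sound _ _ (checkPointF_eq cert) 99700 25 chkP_99700 i (by omega) (by omega)
                · skip
                  rcases Nat.lt_or_ge i 99750 with h9 | h9
                  · skip
                    exact allRangeF_sound _ _ (checkPointF_eq cert) 99725 25 chkP_99725 i (by omega) (by omega)
                  · skip
                    exact allRangeF_sound _ _ (checkPointF_eq cert) 99750 25 chkP_99750 i (by omega) (by omega)

end Cfsg.Agent.Lib.Helper28.Fi24Data
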