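import Cfsg.Agent.Lib.Helper28.Fi24Data
import Cfsg.Agent.Lib.Helper28.TCFastB

set_option autoImplicit false
set_option maxRecDepth 1000000
set_option linter.all false
set_option Elab.async false

namespace Cfsg.Agent.Lib.Helper28.Fi24Data

open Cfsg.Agent.Lib.Helper28B

theorem chkP_99775 : allRangeF (checkPointF cert) (nat_lit 99775) (nat_lit 25) = true := by decide +kernel
theorem chkP_99800 : allRangeF (checkPointF cert) (nat_lit 99800) (nat_lit 25) = true := by decide +kernel
theorem chkP_99825 : allRangeF (checkPointF cert) (nat_lit 99825) (nat_lit 25) = true := by decide +kernel
theorem chkP_99850 : allRangeF (checkPointF cert) (nat_lit 99850) (nat_lit 25) = true := by decide +kernel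
theorem chkP_99875 : allRangeF (checkPointF cert) (nat_lit 99875) (nat_lit 25) = true := by decide +kernel
theorem chkP_99900 : allRangeF (checkPointF cert) (nat_lit 99900) (nat_lit 25) = true := by decide +kernel
theorem chkP_99925 : allRangeF (checkPointF cert) (nat_lit 99925) (nat_lit 25) = true := by decide +kernel
theorem chkP_99950 : allRangeF (checkPointF cert) (nat_lit 99950) (nat_lit 25) = true := by decide +kernel
theorem chkP_99975 : allRangeF (checkPointF cert) (nat_lit 99975) (nat_lit 25) = true := by decide +kernel
theorem chkP_100000 : allRangeF (checkPointF cert) (nat_lit 100000) (nat_lit 25) = true := by decide +kernel
theorem chkP_100025 : allRangeF (checkPointF cert) (nat_lit 100025) (nat_lit 25) = true := by decide +kernel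
theorem chkP_100050 : allRangeF (checkPointF cert) (nat_lit 100050) (nat_lit 25) = true := by decide +kernel
theorem chkP_100075 : allRangeF (checkPointF cert) (nat_lit 100075) (nat_lit 25) = true := by decide +kernel
theorem chkP_100100 : allRangeF (checkPointF cert) (nat_lit 100100) (nat_lit 25) = true := by decide +kernel
theorem chkP_100125 : allRangeF (checkPointF cert) (nat_lit 100125) (nat_lit 25) = true := by decide +kernel
theorem chkP_100150 : allRangeF (checkPointF cert) (nat_lit 100150) (nat_lit 25) = true := by decide +kernel
theorem chkP_100175 : allRangeF (checkPointF cert) (nat_lit 100175) (nat_lit 25) = true := by decide +kernel
theorem chkP_100200 : allRangeF (checkPointF cert) (nat_lit 100200) (nat_lit 25) = true := by decide +kernel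
theorem chkP_100225 : allRangeF (checkPointF cert) (nat_lit 100225) (nat_lit 25) = true := by decide +kernel
theorem chkP_100250 : allRangeF (checkPointF cert) (nat_lit 100250) (nat_lit 25) = true := by decide +kernel
theorem chkP_100275 : allRangeF (checkPointF cert) (nat_lit 100275) (nat_lit 25) = true := by decide +kernel
theorem chkP_100300 : allRangeF (checkPointF cert) (nat_lit 100300) (nat_lit 25) = true := by decide +kernel
theorem chkP_100325 : allRangeF (checkPointF cert) (nat_lit 100325) (nat_lit 25) = true := by decide +kernel
theorem chkP_100350 : allRangeF (checkPointF cert) (nat_lit 100350) (nat_lit 25) = true := by decide +kernel
theorem chkP_100375 : allRangeF (checkPointF cert) (nat_lit 100375) (nat_lit 25) = true := by decide +kernel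
theorem chkP_100400 : allRangeF (checkPointF cert) (nat_lit 100400) (nat_lit 25) = true := by decide +kernel
theorem chkP_100425 : allRangeF (checkPointF cert) (nat_lit 100425) (nat_lit 25) = true := by decide +kernel
theorem chkP_100450 : allRangeF (checkPointF cert) (nat_lit 100450) (nat_lit 25) = true := by decide +kernel
theorem chkP_100475 : allRangeF (checkPointF cert) (nat_lit 100475) (nat_lit 25) = true := by decide +kernel
theorem chkP_100500 : allRangeF (checkPointF cert) (nat_lit 100500) (nat_lit 25) = true := by decide +kernel
theorem chkP_100525 : allRangeF (checkPointF cert) (nat_lit 100525) (nat_lit 25) = true := by decide +kernel
theorem chkP_100550 : allRangeF (checkPointF cert) (nat_lit 100550) (nat_lit 25) = true := by decide +kernel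
theorem chkP_100575 : allRangeF (checkPointF cert) (nat_lit 100575) (nat_lit 25) = true := by decide +kernel
theorem chkP_100600 : allRangeF (checkPointF cert) (nat_lit 100600) (nat_lit 25) = true := by decide +kernel
theorem chkP_100625 : allRangeF (checkPointF cert) (nat_lit 100625) (nat_lit 25) = true := by decide +kernel
theorem chkP_100650 : allRangeF (checkPointF cert) (nat_lit 100650) (nat_lit 25) = true := by decide +kernel
theorem chkP_100675 : allRangeF (checkPointF cert) (nat_lit 100675) (nat_lit 25) = true := by decide +kernel
theorem chkP_100700 : allRangeF (checkPointF cert) (nat_lit 100700) (nat_lit 25) = true := by decide +kernel
theorem chkP_100725 : allRangeF (checkPointF cert) (nat_lit 100725) (nat_lit 25) = true := by decide +kernel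
theorem chkP_100750 : allRangeF (checkPointF cert) (nat_lit 100750) (nat_lit 25) = true := by decide +kernel
theorem chkP_100775 : allRangeF (checkPointF cert) (nat_lit 100775) (nat_lit 25) = true := by decide +kernel
theorem chkP_100800 : allRangeF (checkPointF cert) (nat_lit 100800) (nat_lit 25) = true := by decide +kernel
theorem chkP_100825 : allRangeF (checkPointF cert) (nat_lit 100825) (nat_lit 25) = true := by decide +kernel
theorem chkP_100850 : allRangeF (checkPointF cert) (nat_lit 100850) (nat_lit 25) = true := by decide +kernel
theorem chkP_100875 : allRangeF (checkPointF cert) (nat_lit 100875) (nat_lit 25) = true := by decide +kernel
theorem chkP_100900 : allRangeF (checkPointF cert) (nat_lit 100900) (nat_lit 25) = true := by decide +kernel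
theorem chkP_100925 : allRangeF (checkPointF cert) (nat_lit 100925) (nat_lit 25) = true := by decide +kernel
theorem chkP_100950 : allRangeF (checkPointF cert) (nat_lit 100950) (nat_lit 25) = true := by decide +kernel
theorem chkP_100975 : allRangeF (checkPointF cert) (nat_lit 100975) (nat_lit 25) = true := by decide +kernel
theorem chkP_101000 : allRangeF (checkPointF cert) (nat_lit 101000) (nat_lit 25) = true := by decide +kernel
theorem chkP_101025 : allRangeF (checkPointF cert) (nat_lit 101025) (nat_lit 25) = true := by decide +kernel
theorem chkP_101050 : allRangeF (checkPointF cert) (nat_lit 101050) (nat_lit 25) = true := by decide +kernel
theorem chkP_101075 : allRangeF (checkPointF cert) (nat_lit 101075) (nat_lit 25) = true := by decide +kernel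
theorem chkP_101100 : allRangeF (checkPointF cert) (nat_lit 101100) (nat_lit 25) = true := by decide +kernel
theorem chkP_101125 : allRangeF (checkPointF cert) (nat_lit 101125) (nat_lit 25) = true := by decide +kernel
theorem chkP_101150 : allRangeF (checkPointF cert) (nat_lit 101150) (nat_lit 25) = true := by decide +kernel
theorem chkP_101175 : allRangeF (checkPointF cert) (nat_lit 101175) (nat_lit 25) = true := by decide +kernel
theorem chkP_101200 : allRangeF (checkPointF cert) (nat_lit 101200) (nat_lit 25) = true := by decide +kernel
theorem chkP_101225 : allRangeF (checkPointF cert) (nat_lit 101225) (nat_lit 25) = true := by decide +kernel
theorem chkP_101250 : allRangeF (checkPointF cert) (nat_lit 101250) (nat_lit 25) = true := by decide +kernel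
theorem chkP_101275 : allRangeF (checkPointF cert) (nat_lit 101275) (nat_lit 25) = true := by decide +kernel
theorem chkP_101300 : allRangeF (checkPointF cert) (nat_lit 101300) (nat_lit 25) = true := by decide +kernel
theorem chkP_101325 : allRangeF (checkPointF cert) (nat_lit 101325) (nat_lit 25) = true := by decide +kernel
theorem chkP_101350 : allRangeF (checkPointF cert) (nat_lit 101350) (nat_lit 25) = true := by decide +kernel
theorem chkP_101375 : allRangeF (checkPointF cert) (nat_lit 101375) (nat_lit 25) = true := by decide +kernel
theorem chkP_101400 : allRangeF (checkPointF cert) (nat_lit 101400) (nat_lit 25) = true := by decide +kernel
theorem chkP_101425 : allRangeF (checkPointF cert) (nat_lit 101425) (nat_lit 25) = true := by decide +kernel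
theorem chkP_101450 : allRangeF (checkPointF cert) (nat_lit 101450) (nat_lit 25) = true := by decide +kernel
theorem chkP_101475 : allRangeF (checkPointF cert) (nat_lit 101475) (nat_lit 25) = true := by decide +kernel
theorem chkP_101500 : allRangeF (checkPointF cert) (nat_lit 101500) (nat_lit 25) = true := by decide +kernel
theorem chkP_101525 : allRangeF (checkPointF cert) (nat_lit 101525) (nat_lit 25) = true := by decide +kernel
theorem chkP_101550 : allRangeF (checkPointF cert) (nat_lit 101550) (nat_lit 25) = true := by decide +kernel
theorem chkP_101575 : allRangeF (checkPointF cert) (nat_lit 101575) (nat_lit 25) = true := by decide +kernel
theorem chkP_101600 : allRangeF (checkPointF cert) (nat_lit 101600) (nat_lit 25) = true := by decide +kernel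
theorem chkP_101625 : allRangeF (checkPointF cert) (nat_lit 101625) (nat_lit 25) = true := by decide +kernel
theorem chkP_101650 : allRangeF (checkPointF cert) (nat_lit 101650) (nat_lit 25) = true := by decide +kernel
theorem chkP_101675 : allRangeF (checkPointF cert) (nat_lit 101675) (nat_lit 25) = true := by decide +kernel
theorem chkP_101700 : allRangeF (checkPointF cert) (nat_lit 101700) (nat_lit 25) = true := by decide +kernel
theorem chkP_101725 : allRangeF (checkPointF cert) (nat_lit 101725) (nat_lit 25) = true := by decide +kernel
theorem chkP_101750 : allRangeF (checkPointF cert) (nat_lit 101750) (nat_lit 25) = true := by decide +kernel
theorem chkP_101775 : allRangeF (checkPointF cert) (nat_lit 101775) (nat_lit 25) = true := by decide +kernel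
theorem chkP_101800 : allRangeF (checkPointF cert) (nat_lit 101800) (nat_lit 25) = true := by decide +kernel
theorem chkP_101825 : allRangeF (checkPointF cert) (nat_lit 101825) (nat_lit 25) = true := by decide +kernel
theorem chkP_101850 : allRangeF (checkPointF cert) (nat_lit 101850) (nat_lit 25) = true := by decide +kernel
theorem chkP_101875 : allRangeF (checkPointF cert) (nat_lit 101875) (nat_lit 25) = true := by decide +kernel
theorem chkP_101900 : allRangeF (checkPointF cert) (nat_lit 101900) (nat_lit 25) = true := by decide +kernel
theorem chkP_101925 : allRangeF (checkPointF cert) (nat_lit 101925) (nat_lit 25) = true := by decide +kernel
theorem chkP_101950 : allRangeF (checkPointF cert) (nat_lit 101950) (nat_lit 25) = true := by decide +kernel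
theorem chkP_101975 : allRangeF (checkPointF cert) (nat_lit 101975) (nat_lit 25) = true := by decide +kernel
theorem chkP_102000 : allRangeF (checkPointF cert) (nat_lit 102000) (nat_lit 25) = true := by decide +kernel
theorem chkP_102025 : allRangeF (checkPointF cert) (nat_lit 102025) (nat_lit 25) = true := by decide +kernel
theorem chkP_102050 : allRangeF (checkPointF cert) (nat_lit 102050) (nat_lit 25) = true := by decide +kernel
theorem chkP_102075 : allRangeF (checkPointF cert) (nat_lit 102075) (nat_lit 25) = true := by decide +kernel
theorem chkP_102100 : allRangeF (checkPointF cert) (nat_lit 102100) (nat_lit 25) = true := by decide +kernel
theorem chkP_102125 : allRangeF (checkPointF cert) (nat_lit 102125) (nat_lit 25) = true := by decide +kernel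
theorem chkP_102150 : allRangeF (checkPointF cert) (nat_lit 102150) (nat_lit 25) = true := by decide +kernel
theorem chkP_102175 : allRangeF (checkPointF cert) (nat_lit 102175) (nat_lit 25) = true := by decide +kernel
theorem chkP_102200 : allRangeF (checkPointF cert) (nat_lit 102200) (nat_lit 25) = true := by decide +kernel
theorem chkP_102225 : allRangeF (checkPointF cert) (nat_lit 102225) (nat_lit 25) = true := by decide +kernel
theorem chkP_102250 : allRangeF (checkPointF cert) (nat_lit 102250) (nat_lit 25) = true := by decide +kernel
theorem chkP_102275 : allRangeF (checkPointF cert) (nat_lit 102275) (nat_lit 25) = true := by decide +kernel
theorem chkP_102300 : allRangeF (checkPointF cert) (nat_lit 102300) (nat_lit 25) = true := by decide +kernel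
theorem chkP_102325 : allRangeF (checkPointF cert) (nat_lit 102325) (nat_lit 25) = true := by decide +kernel
theorem chkP_102350 : allRangeF (checkPointF cert) (nat_lit 102350) (nat_lit 25) = true := by decide +kernel
theorem chkP_102375 : allRangeF (checkPointF cert) (nat_lit 102375) (nat_lit 25) = true := by decide +kernel
theorem chkP_102400 : allRangeF (checkPointF cert) (nat_lit 102400) (nat_lit 25) = true := by decide +kernel
theorem chkP_102425 : allRangeF (checkPointF cert) (nat_lit 102425) (nat_lit 25) = true := by decide +kernel
theorem chkP_102450 : allRangeF (checkPointF cert) (nat_lit 102450) (nat_lit 25) = true := by decide +kernel
theorem chkP_102475 : allRangeF (checkPointF cert) (nat_lit 102475) (nat_lit 25) = true := by decide +kernel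
theorem chkP_102500 : allRangeF (checkPointF cert) (nat_lit 102500) (nat_lit 25) = true := by decide +kernel
theorem chkP_102525 : allRangeF (checkPointF cert) (nat_lit 102525) (nat_lit 25) = true := by decide +kernel
theorem chkP_102550 : allRangeF (checkPointF cert) (nat_lit 102550) (nat_lit 25) = true := by decide +kernel
theorem chkP_102575 : allRangeF (checkPointF cert) (nat_lit 102575) (nat_lit 25) = true := by decide +kernel
theorem chkP_102600 : allRangeF (checkPointF cert) (nat_lit 102600) (nat_lit 25) = true := by decide +kernel
theorem chkP_102625 : allRangeF (checkPointF cert) (nat_lit 102625) (nat_lit 25) = true := by decide +kernel
theorem chkP_102650 : allRangeF (checkPointF cert) (nat_lit 102650) (nat_lit 25) = true := by decide +kernel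
theorem chkP_102675 : allRangeF (checkPointF cert) (nat_lit 102675) (nat_lit 25) = true := by decide +kernel
theorem chkP_102700 : allRangeF (checkPointF cert) (nat_lit 102700) (nat_lit 25) = true := by decide +kernel
theorem chkP_102725 : allRangeF (checkPointF cert) (nat_lit 102725) (nat_lit 25) = true := by decide +kernel
theorem chkP_102750 : allRangeF (checkPointF cert) (nat_lit 102750) (nat_lit 25) = true := by decide +kernel
theorem chkP_102775 : allRangeF (checkPointF cert) (nat_lit 102775) (nat_lit 25) = true := by decide +kernel
theorem chkP_102800 : allRangeF (checkPointF cert) (nat_lit 102800) (nat_lit 25) = true := by decide +kernel
theorem chkP_102825 : allRangeF (checkPointF cert) (nat_lit 102825) (nat_lit 25) = true := by decide +kernel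
theorem chkP_102850 : allRangeF (checkPointF cert) (nat_lit 102850) (nat_lit 25) = true := by decide +kernel
theorem chkP_102875 : allRangeF (checkPointF cert) (nat_lit 102875) (nat_lit 25) = true := by decide +kernel
theorem chkP_102900 : allRangeF (checkPointF cert) (nat_lit 102900) (nat_lit 25) = true := by decide +kernel
theorem chkP_102925 : allRangeF (checkPointF cert) (nat_lit 102925) (nat_lit 25) = true := by decide +kernel
theorem chkP_102950 : allRangeF (checkPointF cert) (nat_lit 102950) (nat_lit 25) = true := by decide +kernel
theorem chkP_102975 : allRangeF (checkPointF cert) (nat_lit 102975) (nat_lit 25) = true := by decide +kernel
theorem chkP_103000 : allRangeF (checkPointF cert) (nat_lit 103000) (nat_lit 25) = true := by decide +kernel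
theorem chkP_103025 : allRangeF (checkPointF cert) (nat_lit 103025) (nat_lit 25) = true := by decide +kernel
theorem chkP_103050 : allRangeF (checkPointF cert) (nat_lit 103050) (nat_lit 25) = true := by decide +kernel
theorem chkP_103075 : allRangeF (checkPointF cert) (nat_lit 103075) (nat_lit 25) = true := by decide +kernel
theorem chkP_103100 : allRangeF (checkPointF cert) (nat_lit 103100) (nat_lit 25) = true := by decide +kernel
theorem chkP_103125 : allRangeF (checkPointF cert) (nat_lit 103125) (nat_lit 25) = true := by decide +kernel
theorem chkP_103150 : allRangeF (checkPointF cert) (nat_lit 103150) (nat_lit 25) = true := by decide +kernel
theorem chkP_103175 : allRangeF (checkPointF cert) (nat_lit 103175) (nat_lit 25) = true := by decide +kernel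
theorem chkP_103200 : allRangeF (checkPointF cert) (nat_lit 103200) (nat_lit 25) = true := by decide +kernel
theorem chkP_103225 : allRangeF (checkPointF cert) (nat_lit 103225) (nat_lit 25) = true := by decide +kernel
theorem chkP_103250 : allRangeF (checkPointF cert) (nat_lit 103250) (nat_lit 25) = true := by decide +kernel
theorem chkP_103275 : allRangeF (checkPointF cert) (nat_lit 103275) (nat_lit 25) = true := by decide +kernel
theorem chkP_103300 : allRangeF (checkPointF cert) (nat_lit 103300) (nat_lit 25) = true := by decide +kernel
theorem chkP_103325 : allRangeF (checkPointF cert) (nat_lit 103325) (nat_lit 25) = true := by decide +kernel
theorem chkP_103350 : allRangeF (checkPointF cert) (nat_lit 103350) (nat_lit 25) = true := by decide +kernel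
theorem chkP_103375 : allRangeF (checkPointF cert) (nat_lit 103375) (nat_lit 25) = true := by decide +kernel
theorem chkP_103400 : allRangeF (checkPointF cert) (nat_lit 103400) (nat_lit 25) = true := by decide +kernel
theorem chkP_103425 : allRangeF (checkPointF cert) (nat_lit 103425) (nat_lit 25) = true := by decide +kernel
theorem chkP_103450 : allRangeF (checkPointF cert) (nat_lit 103450) (nat_lit 25) = true := by decide +kernel
theorem chkP_103475 : allRangeF (checkPointF cert) (nat_lit 103475) (nat_lit 25) = true := by decide +kernel
theorem chkP_103500 : allRangeF (checkPointF cert) (nat_lit 103500) (nat_lit 25) = true := by decide +kernel
theorem chkP_103525 : allRangeF (checkPointF cert) (nat_lit 103525) (nat_lit 25) = true := by decide +kernel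
theorem chkP_103550 : allRangeF (checkPointF cert) (nat_lit 103550) (nat_lit 25) = true := by decide +kernel
theorem chkP_103575 : allRangeF (checkPointF cert) (nat_lit 103575) (nat_lit 25) = true := by decide +kernel
theorem chkP_103600 : allRangeF (checkPointF cert) (nat_lit 103600) (nat_lit 25) = true := by decide +kernel
theorem chkP_103625 : allRangeF (checkPointF cert) (nat_lit 103625) (nat_lit 25) = true := by decide +kernel
theorem chkP_103650 : allRangeF (checkPointF cert) (nat_lit 103650) (nat_lit 25) = true := by decide +kernel
theorem chkP_103675 : allRangeF (checkPointF cert) (nat_lit 103675) (nat_lit 25) = true := by decide +kernel
theorem chkP_103700 : allRangeF (checkPointF cert) (nat_lit 103700) (nat_lit 25) = true := by decide +kernel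
theorem chkP_103725 : allRangeF (checkPointF cert) (nat_lit 103725) (nat_lit 25) = true := by decide +kernel
theorem chkP_103750 : allRangeF (checkPointF cert) (nat_lit 103750) (nat_lit 25) = true := by decide +kernel
theorem chkP_103775 : allRangeF (checkPointF cert) (nat_lit 103775) (nat_lit 25) = true := by decide +kernel
theorem chkP_103800 : allRangeF (checkPointF cert) (nat_lit 103800) (nat_lit 25) = true := by decide +kernel
theorem chkP_103825 : allRangeF (checkPointF cert) (nat_lit 103825) (nat_lit 25) = true := by decide +kernel
theorem chkP_103850 : allRangeF (checkPointF cert) (nat_lit 103850) (nat_lit 25) = true := by decide +kernel
theorem chkP_103875 : allRangeF (checkPointF cert) (nat_lit 103875) (nat_lit 25) = true := by decide +kernel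
theorem chkP_103900 : allRangeF (checkPointF cert) (nat_lit 103900) (nat_lit 25) = true := by decide +kernel
theorem chkP_103925 : allRangeF (checkPointF cert) (nat_lit 103925) (nat_lit 25) = true := by decide +kernel
theorem chkP_103950 : allRangeF (checkPointF cert) (nat_lit 103950) (nat_lit 25) = true := by decide +kernel
theorem chkP_103975 : allRangeF (checkPointF cert) (nat_lit 103975) (nat_lit 25) = true := by decide +kernel
theorem chkP_104000 : allRangeF (checkPointF cert) (nat_lit 104000) (nat_lit 25) = true := by decide +kernel
theorem chkP_104025 : allRangeF (checkPointF cert) (nat_lit 104025) (nat_lit 25) = true := by decide +kernel
theorem chkP_104050 : allRangeF (checkPointF cert) (nat_lit 104050) (nat_lit 25) = true := by decide +kernel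
theorem chkP_104075 : allRangeF (checkPointF cert) (nat_lit 104075) (nat_lit 25) = true := by decide +kernel
theorem chkP_104100 : allRangeF (checkPointF cert) (nat_lit 104100) (nat_lit 25) = true := by decide +kernel
theorem chkP_104125 : allRangeF (checkPointF cert) (nat_lit 104125) (nat_lit 25) = true := by decide +kernel
theorem chkP_104150 : allRangeF (checkPointF cert) (nat_lit 104150) (nat_lit 25) = true := by decide +kernel
theorem chkP_104175 : allRangeF (checkPointF cert) (nat_lit 104175) (nat_lit 25) = true := by decide +kernel
theorem chkP_104200 : allRangeF (checkPointF cert) (nat_lit 104200) (nat_lit 25) = true := by decide +kernel
theorem chkP_104225 : allRangeF (checkPointF cert) (nat_lit 104225) (nat_lit 25) = true := by decide +kernel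
theorem chkP_104250 : allRangeF (checkPointF cert) (nat_lit 104250) (nat_lit 25) = true := by decide +kernel
theorem chkP_104275 : allRangeF (checkPointF cert) (nat_lit 104275) (nat_lit 25) = true := by decide +kernel
theorem chkP_104300 : allRangeF (checkPointF cert) (nat_lit 104300) (nat_lit 25) = true := by decide +kernel
theorem chkP_104325 : allRangeF (checkPointF cert) (nat_lit 104325) (nat_lit 25) = true := by decide +kernel
theorem chkP_104350 : allRangeF (checkPointF cert) (nat_lit 104350) (nat_lit 25) = true := by decide +kernel
theorem chkP_104375 : allRangeF (checkPointF cert) (nat_lit 104375) (nat_lit 25) = true := by decide +kernel
theorem chkP_104400 : allRangeF (checkPointF cert) (nat_lit 104400) (nat_lit 25) = true := by decide +kernel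
theorem chkP_104425 : allRangeF (checkPointF cert) (nat_lit 104425) (nat_lit 25) = true := by decide +kernel
theorem chkP_104450 : allRangeF (checkPointF cert) (nat_lit 104450) (nat_lit 25) = true := by decide +kernel
theorem chkP_104475 : allRangeF (checkPointF cert) (nat_lit 104475) (nat_lit 25) = true := by decide +kernel
theorem chkP_104500 : allRangeF (checkPointF cert) (nat_lit 104500) (nat_lit 25) = true := by decide +kernel
theorem chkP_104525 : allRangeF (checkPointF cert) (nat_lit 104525) (nat_lit 25) = true := by decide +kernel
theorem chkP_104550 : allRangeF (checkPointF cert) (nat_lit 104550) (nat_lit 25) = true := by decide +kernel
theorem chkP_104575 : allRangeF (checkPointF cert) (nat_lit 104575) (nat_lit 25) = true := by decide +kernel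
theorem chkP_104600 : allRangeF (checkPointF cert) (nat_lit 104600) (nat_lit 25) = true := by decide +kernel
theorem chkP_104625 : allRangeF (checkPointF cert) (nat_lit 104625) (nat_lit 25) = true := by decide +kernel
theorem chkP_104650 : allRangeF (checkPointF cert) (nat_lit 104650) (nat_lit 25) = true := by decide +kernel
theorem chkP_104675 : allRangeF (checkPointF cert) (nat_lit 104675) (nat_lit 25) = true := by decide +kernel
theorem chkP_104700 : allRangeF (checkPointF cert) (nat_lit 104700) (nat_lit 25) = true := by decide +kernel
theorem chkP_104725 : allRangeF (checkPointF cert) (nat_lit 104725) (nat_lit 25) = true := by decide +kernel
theorem chkP_104750 : allRangeF (checkPointF cert) (nat_lit 104750) (nat_lit 25) = true := by decide +kernel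
theorem chkP_104775 : allRangeF (checkPointF cert) (nat_lit 104775) (nat_lit 25) = true := by decide +kernel
theorem chkP_104800 : allRangeF (checkPointF cert) (nat_lit 104800) (nat_lit 25) = true := by decide +kernel
theorem chkP_104825 : allRangeF (checkPointF cert) (nat_lit 104825) (nat_lit 25) = true := by decide +kernel
theorem chkP_104850 : allRangeF (checkPointF cert) (nat_lit 104850) (nat_lit 25) = true := by decide +kernel
theorem chkP_104875 : allRangeF (checkPointF cert) (nat_lit 104875) (nat_lit 25) = true := by decide +kernel
theorem chkP_104900 : allRangeF (checkPointF cert) (nat_lit 104900) (nat_lit 25) = true := by decide +kernel
theorem chkP_104925 : allRangeF (checkPointF cert) (nat_lit 104925) (nat_lit 25) = true := by decide +kernel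
theorem chkP_104950 : allRangeF (checkPointF cert) (nat_lit 104950) (nat_lit 25) = true := by decide +kernel
theorem chkP_104975 : allRangeF (checkPointF cert) (nat_lit 104975) (nat_lit 25) = true := by decide +kernel
theorem chkP_105000 : allRangeF (checkPointF cert) (nat_lit 105000) (nat_lit 25) = true := by decide +kernel
theorem chkP_105025 : allRangeF (checkPointF cert) (nat_lit 105025) (nat_lit 25) = true := by decide +kernel
theorem chkP_105050 : allRangeF (checkPointF cert) (nat_lit 105050) (nat_lit 25) = true := by decide +kernel
theorem chkP_105075 : allRangeF (checkPointF cert) (nat_lit 105075) (nat_lit 25) = true := by decide +kernel
theorem chkP_105100 : allRangeF (checkPointF cert) (nat_lit 105100) (nat_lit 25) = true := by decide +kernel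
theorem chkP_105125 : allRangeF (checkPointF cert) (nat_lit 105125) (nat_lit 25) = true := by decide +kernel
theorem chkP_105150 : allRangeF (checkPointF cert) (nat_lit 105150) (nat_lit 25) = true := by decide +kernel
theorem chkP_105175 : allRangeF (checkPointF cert) (nat_lit 105175) (nat_lit 25) = true := by decide +kernel
theorem chkP_105200 : allRangeF (checkPointF cert) (nat_lit 105200) (nat_lit 25) = true := by decide +kernel
theorem chkP_105225 : allRangeF (checkPointF cert) (nat_lit 105225) (nat_lit 25) = true := by decide +kernel
theorem chkP_105250 : allRangeF (checkPointF cert) (nat_lit 105250) (nat_lit 25) = true := by decide +kernel
theorem chkP_105275 : allRangeF (checkPointF cert) (nat_lit 105275) (nat_lit 25) = true := by decide +kernel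
theorem chkP_105300 : allRangeF (checkPointF cert) (nat_lit 105300) (nat_lit 25) = true := by decide +kernel
theorem chkP_105325 : allRangeF (checkPointF cert) (nat_lit 105325) (nat_lit 25) = true := by decide +kernel
theorem chkP_105350 : allRangeF (checkPointF cert) (nat_lit 105350) (nat_lit 25) = true := by decide +kernel
theorem chkP_105375 : allRangeF (checkPointF cert) (nat_lit 105375) (nat_lit 25) = true := by decide +kernel
theorem chkP_105400 : allRangeF (checkPointF cert) (nat_lit 105400) (nat_lit 25) = true := by decide +kernel
theorem chkP_105425 : allRangeF (checkPointF cert) (nat_lit 105425) (nat_lit 25) = true := by decide +kernel
theorem chkP_105450 : allRangeF (checkPointF cert) (nat_lit 105450) (nat_lit 25) = true := by decide +kernel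
theorem chkP_105475 : allRangeF (checkPointF cert) (nat_lit 105475) (nat_lit 25) = true := by decide +kernel
theorem chkP_105500 : allRangeF (checkPointF cert) (nat_lit 105500) (nat_lit 25) = true := by decide +kernel
theorem chkP_105525 : allRangeF (checkPointF cert) (nat_lit 105525) (nat_lit 25) = true := by decide +kernel
theorem chkP_105550 : allRangeF (checkPointF cert) (nat_lit 105550) (nat_lit 25) = true := by decide +kernel
theorem chkP_105575 : allRangeF (checkPointF cert) (nat_lit 105575) (nat_lit 25) = true := by decide +kernel
theorem chkP_105600 : allRangeF (checkPointF cert) (nat_lit 105600) (nat_lit 25) = true := by decide +kernel
theorem chkP_105625 : allRangeF (checkPointF cert) (nat_lit 105625) (nat_lit 25) = true := by decide +kernel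
theorem chkP_105650 : allRangeF (checkPointF cert) (nat_lit 105650) (nat_lit 25) = true := by decide +kernel
theorem chkP_105675 : allRangeF (checkPointF cert) (nat_lit 105675) (nat_lit 25) = true := by decide +kernel
theorem chkP_105700 : allRangeF (checkPointF cert) (nat_lit 105700) (nat_lit 25) = true := by decide +kernel
theorem chkP_105725 : allRangeF (checkPointF cert) (nat_lit 105725) (nat_lit 25) = true := by decide +kernel
theorem chkP_105750 : allRangeF (checkPointF cert) (nat_lit 105750) (nat_lit 25) = true := by decide +kernel
theorem chkP_105775 : allRangeF (checkPointF cert) (nat_lit 105775) (nat_lit 25) = true := by decide +kernel
theorem chkP_105800 : allRangeF (checkPointF cert) (nat_lit 105800) (nat_lit 25) = true := by decide +kernel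
theorem chkP_105825 : allRangeF (checkPointF cert) (nat_lit 105825) (nat_lit 25) = true := by decide +kernel
theorem chkP_105850 : allRangeF (checkPointF cert) (nat_lit 105850) (nat_lit 25) = true := by decide +kernel
theorem chkP_105875 : allRangeF (checkPointF cert) (nat_lit 105875) (nat_lit 25) = true := by decide +kernel
theorem chkP_105900 : allRangeF (checkPointF cert) (nat_lit 105900) (nat_lit 25) = true := by decide +kernel
theorem chkP_105925 : allRangeF (checkPointF cert) (nat_lit 105925) (nat_lit 25) = true := by decide +kernel
theorem chkP_105950 : allRangeF (checkPointF cert) (nat_lit 105950) (nat_lit 25) = true := by decide +kernel
theorem chkP_105975 : allRangeF (checkPointF cert) (nat_lit 105975) (nat_lit 25) = true := by decide +kernel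
theorem chkP_106000 : allRangeF (checkPointF cert) (nat_lit 106000) (nat_lit 25) = true := by decide +kernel
theorem chkP_106025 : allRangeF (checkPointF cert) (nat_lit 106025) (nat_lit 25) = true := by decide +kernel
theorem chkP_106050 : allRangeF (checkPointF cert) (nat_lit 106050) (nat_lit 25) = true := by decide +kernel
theorem chkP_106075 : allRangeF (checkPointF cert) (nat_lit 106075) (nat_lit 25) = true := by decide +kernel
theorem chkP_106100 : allRangeF (checkPointF cert) (nat_lit 106100) (nat_lit 25) = true := by decide +kernel
theorem chkP_106125 : allRangeF (checkPointF cert) (nat_lit 106125) (nat_lit 25) = true := by decide +kernel
theorem chkP_106150 : allRangeF (checkPointF cert) (nat_lit 106150) (nat_lit 25) = true := by decide +kernel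
theorem chkP_106175 : allRangeF (checkPointF cert) (nat_lit 106175) (nat_lit 25) = true := by decide +kernel
theorem chkP_106200 : allRangeF (checkPointF cert) (nat_lit 106200) (nat_lit 25) = true := by decide +kernel
theorem chkP_106225 : allRangeF (checkPointF cert) (nat_lit 106225) (nat_lit 25) = true := by decide +kernel
theorem chkP_106250 : allRangeF (checkPointF cert) (nat_lit 106250) (nat_lit 25) = true := by decide +kernel
theorem chkP_106275 : allRangeF (checkPointF cert) (nat_lit 106275) (nat_lit 25) = true := by decide +kernel
theorem chkP_106300 : allRangeF (checkPointF cert) (nat_lit 106300) (nat_lit 25) = true := by decide +kernel
theorem chkP_106325 : allRangeF (checkPointF cert) (nat_lit 106325) (nat_lit 25) = true := by decide +kernel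
theorem chkP_106350 : allRangeF (checkPointF cert) (nat_lit 106350) (nat_lit 25) = true := by decide +kernel
theorem chkP_106375 : allRangeF (checkPointF cert) (nat_lit 106375) (nat_lit 25) = true := by decide +kernel
theorem chkP_106400 : allRangeF (checkPointF cert) (nat_lit 106400) (nat_lit 25) = true := by decide +kernel
theorem chkP_106425 : allRangeF (checkPointF cert) (nat_lit 106425) (nat_lit 25) = true := by decide +kernel
theorem chkP_106450 : allRangeF (checkPointF cert) (nat_lit 106450) (nat_lit 25) = true := by decide +kernel
theorem chkP_106475 : allRangeF (checkPointF cert) (nat_lit 106475) (nat_lit 25) = true := by decide +kernel
theorem chkP_106500 : allRangeF (checkPointF cert) (nat_lit 106500) (nat_lit 25) = true := by decide +kernel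
theorem chkP_106525 : allRangeF (checkPointF cert) (nat_lit 106525) (nat_lit 25) = true := by decide +kernel
theorem chkP_106550 : allRangeF (checkPointF cert) (nat_lit 106550) (nat_lit 25) = true := by decide +kernel
theorem chkP_106575 : allRangeF (checkPointF cert) (nat_lit 106575) (nat_lit 25) = true := by decide +kernel
theorem chkP_106600 : allRangeF (checkPointF cert) (nat_lit 106600) (nat_lit 25) = true := by decide +kernel
theorem chkP_106625 : allRangeF (checkPointF cert) (nat_lit 106625) (nat_lit 25) = true := by decide +kernel
theorem chkP_106650 : allRangeF (checkPointF cert) (nat_lit 106650) (nat_lit 25) = true := by decide +kernel
theorem chkP_106675 : allRangeF (checkPointF cert) (nat_lit 106675) (nat_lit 25) = true := by decide +kernel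
theorem chkP_106700 : allRangeF (checkPointF cert) (nat_lit 106700) (nat_lit 25) = true := by decide +kernel
theorem chkP_106725 : allRangeF (checkPointF cert) (nat_lit 106725) (nat_lit 25) = true := by decide +kernel
theorem chkP_106750 : allRangeF (checkPointF cert) (nat_lit 106750) (nat_lit 25) = true := by decide +kernel
theorem chkP_106775 : allRangeF (checkPointF cert) (nat_lit 106775) (nat_lit 25) = true := by decide +kernel
theorem chkP_106800 : allRangeF (checkPointF cert) (nat_lit 106800) (nat_lit 25) = true := by decide +kernel
theorem chkP_106825 : allRangeF (checkPointF cert) (nat_lit 106825) (nat_lit 25) = true := by decide +kernel
theorem chkP_106850 : allRangeF (checkPointF cert) (nat_lit 106850) (nat_lit 25) = true := by decide +kernel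
theorem chkP_106875 : allRangeF (checkPointF cert) (nat_lit 106875) (nat_lit 25) = true := by decide +kernel
theorem chkP_106900 : allRangeF (checkPointF cert) (nat_lit 106900) (nat_lit 25) = true := by decide +kernel
theorem chkP_106925 : allRangeF (checkPointF cert) (nat_lit 106925) (nat_lit 25) = true := by decide +kernel
theorem chkP_106950 : allRangeF (checkPointF cert) (nat_lit 106950) (nat_lit 25) = true := by decide +kernel
theorem chkP_106975 : allRangeF (checkPointF cert) (nat_lit 106975) (nat_lit 25) = true := by decide +kernel
theorem chkP_107000 : allRangeF (checkPointF cert) (nat_lit 107000) (nat_lit 25) = true := by decide +kernel
theorem chkP_107025 : allRangeF (checkPointF cert) (nat_lit 107025) (nat_lit 25) = true := by decide +kernel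
theorem chkP_107050 : allRangeF (checkPointF cert) (nat_lit 107050) (nat_lit 25) = true := by decide +kernel
theorem chkP_107075 : allRangeF (checkPointF cert) (nat_lit 107075) (nat_lit 25) = true := by decide +kernel
theorem chkP_107100 : allRangeF (checkPointF cert) (nat_lit 107100) (nat_lit 25) = true := by decide +kernel
theorem chkP_107125 : allRangeF (checkPointF cert) (nat_lit 107125) (nat_lit 25) = true := by decide +kernel
theorem chkP_107150 : allRangeF (checkPointF cert) (nat_lit 107150) (nat_lit 25) = true := by decide +kernel
theorem chkP_107175 : allRangeF (checkPointF cert) (nat_lit 107175) (nat_lit 25) = true := by decide +kernel
theorem chkP_107200 : allRangeF (checkPointF cert) (nat_lit 107200) (nat_lit 25) = true := by decide +kernel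
theorem chkP_107225 : allRangeF (checkPointF cert) (nat_lit 107225) (nat_lit 25) = true := by decide +kernel
theorem chkP_107250 : allRangeF (checkPointF cert) (nat_lit 107250) (nat_lit 25) = true := by decide +kernel
theorem chkP_107275 : allRangeF (checkPointF cert) (nat_lit 107275) (nat_lit 25) = true := by decide +kernel
theorem chkP_107300 : allRangeF (checkPointF cert) (nat_lit 107300) (nat_lit 25) = true := by decide +kernel
theorem chkP_107325 : allRangeF (checkPointF cert) (nat_lit 107325) (nat_lit 25) = true := by decide +kernel
theorem chkP_107350 : allRangeF (checkPointF cert) (nat_lit 107350) (nat_lit 25) = true := by decide +kernel
theorem chkP_107375 : allRangeF (checkPointF cert) (nat_lit 107375) (nat_lit 25) = true := by decide +kernel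
theorem chkP_107400 : allRangeF (checkPointF cert) (nat_lit 107400) (nat_lit 25) = true := by decide +kernel
theorem chkP_107425 : allRangeF (checkPointF cert) (nat_lit 107425) (nat_lit 25) = true := by decide +kernel

theorem ptsRange_13 : ∀ i, 99775 ≤ i → i < 107450 → checkPoint cert i = true := by
  intro i hlo hhi
  rcases Nat.lt_or_ge i 103600 with h1 | h1
  · skip
    rcases Nat.lt_or_ge i 101675 with h2 | h2
    · skip
      rcases Nat.lt_or_ge i 100725 with h3 | h3
      · skip
        rcases Nat.lt_or_ge i 100250 with h4 | h4
        · skip
          rcases Nat.lt_or_ge i 100000 with h5 | h5
          · skip
            rcases Nat.lt_or_ge i 99875 with h6 | h6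
            · skip
              rcases Nat.lt_or_ge i 99825 with h7 | h7
              · skip
                rcases Nat.lt_or_ge i 99800 with h8 | h8
                · skip
                  exact allRangeF_sound _ _ (checkPointF_eq cert) 99775 25 chkP_99775 i (by omega) (by omega)
                · skip
                  exact allRangeF_sound _ _ (checkPointF_eq cert) 99800 25 chkP_99800 i (by omega) (by omega)
              · skip
                rcases Nat.lt_or_ge i 99850 with h8 | h8
                · skip
                  exact allRangeF_sound _ _ (checkPointF_eq cert) 99825 25 chkP_99825 i (by omega) (by omega)
                · skip
                  exact allRangeF_sound _ _ (checkPointF_eq cert) 99850 25 chkP_99850 i (by omega) (by omega)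
            · skip
              rcases Nat.lt_or_ge i 99925 with h7 | h7
              · skip
                rcases Nat.lt_or_ge i 99900 with h8 | h8
                · skip
                  exact allRangeF_sound _ _ (checkPointF_eq cert) 99875 25 chkP_99875 i (by omega) (by omega)
                · skip
                  exact allRangeF_sound _ _ (checkPointF_eq cert) 99900 25 chkP_99900 i (by omega) (by omega)
              · skip
                rcases Nat.lt_or_ge i 99950 with h8 | h8
                · skip
                  exact allRangeF_sound _ _ (checkPointF_eq cert) 99925 25 chkP_99925 i (by omega) (by omega)
                · skip
                  rcases Nat.lt_or_ge i 99975 with h9 | h9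
                  · skip
                    exact allRangeF_sound _ _ (checkPointF_eq cert) 99950 25 chkP_99950 i (by omega) (by omega)
                  · skip
                    exact allRangeF_sound _ _ (checkPointF_eq cert) 99975 25 chkP_99975 i (by omega) (by omega)
          · skip
            rcases Nat.lt_or_ge i 100125 with h6 | h6
            · skip
              rcases Nat.lt_or_ge i 100050 with h7 | h7
              · skip
                rcases Nat.lt_or_ge i 100025 with h8 | h8
                · skip
                  exact allRangeF_sound _ _ (checkPointF_eq cert) 100000 25 chkP_100000 i (by omega) (by omega)
                · skip
                  exact allRangeF_sound _ _ (checkPointF_eq cert) 100025 25 chkP_100025 i (by omega) (by omega)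
              · skip
                rcases Nat.lt_or_ge i 100075 with h8 | h8
                · skip
                  exact allRangeF_sound _ _ (checkPointF_eq cert) 100050 25 chkP_100050 i (by omega) (by omega)
                · skip
                  rcases Nat.lt_or_ge i 100100 with h9 | h9
                  · skip
                    exact allRangeF_sound _ _ (checkPointF_eq cert) 100075 25 chkP_100075 i (by omega) (by omega)
                  · skip
                    exact allRangeF_sound _ _ (checkPointF_eq cert) 100100 25 chkP_100100 i (by omega) (by omega)
            · skip
              rcases Nat.lt_or_ge i 100175 with h7 | h7
              · skip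
                rcases Nat.lt_or_ge i 100150 with h8 | h8
                · skip
                  exact allRangeF_sound _ _ (checkPointF_eq cert) 100125 25 chkP_100125 i (by omega) (by omega)
                · skip
                  exact allRangeF_sound _ _ (checkPointF_eq cert) 100150 25 chkP_100150 i (by omega) (by omega)
              · skip
                rcases Nat.lt_or_ge i 100200 with h8 | h8
                · skip
                  exact allRangeF_sound _ _ (checkPointF_eq cert) 100175 25 chkP_100175 i (by omega) (by omega)
                · skip
                  rcases Nat.lt_or_ge i 100225 with h9 | h9
                  · skip
                    exact allRangeF_sound _ _ (checkPointF_eq cert) 100200 25 chkP_100200 i (by omega) (by omega)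
                  · skip
                    exact allRangeF_sound _ _ (checkPointF_eq cert) 100225 25 chkP_100225 i (by omega) (by omega)
        · skip
          rcases Nat.lt_or_ge i 100475 with h5 | h5
          · skip
            rcases Nat.lt_or_ge i 100350 with h6 | h6
            · skip
              rcases Nat.lt_or_ge i 100300 with h7 | h7
              · skip
                rcases Nat.lt_or_ge i 100275 with h8 | h8
                · skip
                  exact allRangeF_sound _ _ (checkPointF_eq cert) 100250 25 chkP_100250 i (by omega) (by omega)
                · skip
                  exact allRangeF_sound _ _ (checkPointF_eq cert) 100275 25 chkP_100275 i (by omega) (by omega)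
              · skip
                rcases Nat.lt_or_ge i 100325 with h8 | h8
                · skip
                  exact allRangeF_sound _ _ (checkPointF_eq cert) 100300 25 chkP_100300 i (by omega) (by omega)
                · skip
                  exact allRangeF_sound _ _ (checkPointF_eq cert) 100325 25 chkP_100325 i (by omega) (by omega)
            · skip
              rcases Nat.lt_or_ge i 100400 with h7 | h7
              · skip
                rcases Nat.lt_or_ge i 100375 with h8 | h8
                · skip
                  exact allRangeF_sound _ _ (checkPointF_eq cert) 100350 25 chkP_100350 i (by omega) (by omega)
                · skip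
                  exact allRangeF_sound _ _ (checkPointF_eq cert) 100375 25 chkP_100375 i (by omega) (by omega)
              · skip
                rcases Nat.lt_or_ge i 100425 with h8 | h8
                · skip
                  exact allRangeF_sound _ _ (checkPointF_eq cert) 100400 25 chkP_100400 i (by omega) (by omega)
                · skip
                  rcases Nat.lt_or_ge i 100450 with h9 | h9
                  · skip
                    exact allRangeF_sound _ _ (checkPointF_eq cert) 100425 25 chkP_100425 i (by omega) (by omega)
                  · skip
                    exact allRangeF_sound _ _ (checkPointF_eq cert) 100450 25 chkP_100450 i (by omega) (by omega)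
          · skip
            rcases Nat.lt_or_ge i 100600 with h6 | h6
            · skip
              rcases Nat.lt_or_ge i 100525 with h7 | h7
              · skip
                rcases Nat.lt_or_ge i 100500 with h8 | h8
                · skip
                  exact allRangeF_sound _ _ (checkPointF_eq cert) 100475 25 chkP_100475 i (by omega) (by omega)
                · skip
                  exact allRangeF_sound _ _ (checkPointF_eq cert) 100500 25 chkP_100500 i (by omega) (by omega)
              · skip
                rcases Nat.lt_or_ge i 100550 with h8 | h8
                · skip
                  exact allRangeF_sound _ _ (checkPointF_eq cert) 100525 25 chkP_100525 i (by omega) (by omega)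
                · skip
                  rcases Nat.lt_or_ge i 100575 with h9 | h9
                  · skip
                    exact allRangeF_sound _ _ (checkPointF_eq cert) 100550 25 chkP_100550 i (by omega) (by omega)
                  · skip
                    exact allRangeF_sound _ _ (checkPointF_eq cert) 100575 25 chkP_100575 i (by omega) (by omega)
            · skip
              rcases Nat.lt_or_ge i 100650 with h7 | h7
              · skip
                rcases Nat.lt_or_ge i 100625 with h8 | h8
                · skip
                  exact allRangeF_sound _ _ (checkPointF_eq cert) 100600 25 chkP_100600 i (by omega) (by omega)
                · skip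
                  exact allRangeF_sound _ _ (checkPointF_eq cert) 100625 25 chkP_100625 i (by omega) (by omega)
              · skip
                rcases Nat.lt_or_ge i 100675 with h8 | h8
                · skip
                  exact allRangeF_sound _ _ (checkPointF_eq cert) 100650 25 chkP_100650 i (by omega) (by omega)
                · skip
                  rcases Nat.lt_or_ge i 100700 with h9 | h9
                  · skip
                    exact allRangeF_sound _ _ (checkPointF_eq cert) 100675 25 chkP_100675 i (by omega) (by omega)
                  · skip
                    exact allRangeF_sound _ _ (checkPointF_eq cert) 100700 25 chkP_100700 i (by omega) (by omega)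
      · skip
        rcases Nat.lt_or_ge i 101200 with h4 | h4
        · skip
          rcases Nat.lt_or_ge i 100950 with h5 | h5
          · skip
            rcases Nat.lt_or_ge i 100825 with h6 | h6
            · skip
              rcases Nat.lt_or_ge i 100775 with h7 | h7
              · skip
                rcases Nat.lt_or_ge i 100750 with h8 | h8
                · skip
                  exact allRangeF_sound _ _ (checkPointF_eq cert) 100725 25 chkP_100725 i (by omega) (by omega)
                · skip
                  exact allRangeF_sound _ _ (checkPointF_eq cert) 100750 25 chkP_100750 i (by omega) (by omega)
              · skip
                rcases Nat.lt_or_ge i 100800 with h8 | h8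
                · skip
                  exact allRangeF_sound _ _ (checkPointF_eq cert) 100775 25 chkP_100775 i (by omega) (by omega)
                · skip
                  exact allRangeF_sound _ _ (checkPointF_eq cert) 100800 25 chkP_100800 i (by omega) (by omega)
            · skip
              rcases Nat.lt_or_ge i 100875 with h7 | h7
              · skip
                rcases Nat.lt_or_ge i 100850 with h8 | h8
                · skip
                  exact allRangeF_sound _ _ (checkPointF_eq cert) 100825 25 chkP_100825 i (by omega) (by omega)
                · skip
                  exact allRangeF_sound _ _ (checkPointF_eq cert) 100850 25 chkP_100850 i (by omega) (by omega)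
              · skip
                rcases Nat.lt_or_ge i 100900 with h8 | h8
                · skip
                  exact allRangeF_sound _ _ (checkPointF_eq cert) 100875 25 chkP_100875 i (by omega) (by omega)
                · skip
                  rcases Nat.lt_or_ge i 100925 with h9 | h9
                  · skip
                    exact allRangeF_sound _ _ (checkPointF_eq cert) 100900 25 chkP_100900 i (by omega) (by omega)
                  · skip
                    exact allRangeF_sound _ _ (checkPointF_eq cert) 100925 25 chkP_100925 i (by omega) (by omega)
          · skip
            rcases Nat.lt_or_ge i 101075 with h6 | h6
            · skip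
              rcases Nat.lt_or_ge i 101000 with h7 | h7
              · skip
                rcases Nat.lt_or_ge i 100975 with h8 | h8
                · skip
                  exact allRangeF_sound _ _ (checkPointF_eq cert) 100950 25 chkP_100950 i (by omega) (by omega)
                · skip
                  exact allRangeF_sound _ _ (checkPointF_eq cert) 100975 25 chkP_100975 i (by omega) (by omega)
              · skip
                rcases Nat.lt_or_ge i 101025 with h8 | h8
                · skip
                  exact allRangeF_sound _ _ (checkPointF_eq cert) 101000 25 chkP_101000 i (by omega) (by omega)
                · skip
                  rcases Nat.lt_or_ge i 101050 with h9 | h9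
                  · skip
                    exact allRangeF_sound _ _ (checkPointF_eq cert) 101025 25 chkP_101025 i (by omega) (by omega)
                  · skip
                    exact allRangeF_sound _ _ (checkPointF_eq cert) 101050 25 chkP_101050 i (by omega) (by omega)
            · skip
              rcases Nat.lt_or_ge i 101125 with h7 | h7
              · skip
                rcases Nat.lt_or_ge i 101100 with h8 | h8
                · skip
                  exact allRangeF_sound _ _ (checkPointF_eq cert) 101075 25 chkP_101075 i (by omega) (by omega)
                · skip
                  exact allRangeF_sound _ _ (checkPointF_eq cert) 101100 25 chkP_101100 i (by omega) (by omega)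
              · skip
                rcases Nat.lt_or_ge i 101150 with h8 | h8
                · skip
                  exact allRangeF_sound _ _ (checkPointF_eq cert) 101125 25 chkP_101125 i (by omega) (by omega)
                · skip
                  rcases Nat.lt_or_ge i 101175 with h9 | h9
                  · skip
                    exact allRangeF_sound _ _ (checkPointF_eq cert) 101150 25 chkP_101150 i (by omega) (by omega)
                  · skip
                    exact allRangeF_sound _ _ (checkPointF_eq cert) 101175 25 chkP_101175 i (by omega) (by omega)
        · skip
          rcases Nat.lt_or_ge i 101425 with h5 | h5
          · skip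
            rcases Nat.lt_or_ge i 101300 with h6 | h6
            · skip
              rcases Nat.lt_or_ge i 101250 with h7 | h7
              · skip
                rcases Nat.lt_or_ge i 101225 with h8 | h8
                · skip
                  exact allRangeF_sound _ _ (checkPointF_eq cert) 101200 25 chkP_101200 i (by omega) (by omega)
                · skip
                  exact allRangeF_sound _ _ (checkPointF_eq cert) 101225 25 chkP_101225 i (by omega) (by omega)
              · skip
                rcases Nat.lt_or_ge i 101275 with h8 | h8
                · skip
                  exact allRangeF_sound _ _ (checkPointF_eq cert) 101250 25 chkP_101250 i (by omega) (by omega)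
                · skip
                  exact allRangeF_sound _ _ (checkPointF_eq cert) 101275 25 chkP_101275 i (by omega) (by omega)
            · skip
              rcases Nat.lt_or_ge i 101350 with h7 | h7
              · skip
                rcases Nat.lt_or_ge i 101325 with h8 | h8
                · skip
                  exact allRangeF_sound _ _ (checkPointF_eq cert) 101300 25 chkP_101300 i (by omega) (by omega)
                · skip
                  exact allRangeF_sound _ _ (checkPointF_eq cert) 101325 25 chkP_101325 i (by omega) (by omega)
              · skip
                rcases Nat.lt_or_ge i 101375 with h8 | h8
                · skip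
                  exact allRangeF_sound _ _ (checkPointF_eq cert) 101350 25 chkP_101350 i (by omega) (by omega)
                · skip
                  rcases Nat.lt_or_ge i 101400 with h9 | h9
                  · skip
                    exact allRangeF_sound _ _ (checkPointF_eq cert) 101375 25 chkP_101375 i (by omega) (by omega)
                  · skip
                    exact allRangeF_sound _ _ (checkPointF_eq cert) 101400 25 chkP_101400 i (by omega) (by omega)
          · skip
            rcases Nat.lt_or_ge i 101550 with h6 | h6
            · skip
              rcases Nat.lt_or_ge i 101475 with h7 | h7
              · skip
                rcases Nat.lt_or_ge i 101450 with h8 | h8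
                · skip
                  exact allRangeF_sound _ _ (checkPointF_eq cert) 101425 25 chkP_101425 i (by omega) (by omega)
                · skip
                  exact allRangeF_sound _ _ (checkPointF_eq cert) 101450 25 chkP_101450 i (by omega) (by omega)
              · skip
                rcases Nat.lt_or_ge i 101500 with h8 | h8
                · skip
                  exact allRangeF_sound _ _ (checkPointF_eq cert) 101475 25 chkP_101475 i (by omega) (by omega)
                · skip
                  rcases Nat.lt_or_ge i 101525 with h9 | h9
                  · skip
                    exact allRangeF_sound _ _ (checkPointF_eq cert) 101500 25 chkP_101500 i (by omega) (by omega)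
                  · skip
                    exact allRangeF_sound _ _ (checkPointF_eq cert) 101525 25 chkP_101525 i (by omega) (by omega)
            · skip
              rcases Nat.lt_or_ge i 101600 with h7 | h7
              · skip
                rcases Nat.lt_or_ge i 101575 with h8 | h8
                · skip
                  exact allRangeF_sound _ _ (checkPointF_eq cert) 101550 25 chkP_101550 i (by omega) (by omega)
                · skip
                  exact allRangeF_sound _ _ (checkPointF_eq cert) 101575 25 chkP_101575 i (by omega) (by omega)
              · skip
                rcases Nat.lt_or_ge i 101625 with h8 | h8
                · skip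
                  exact allRangeF_sound _ _ (checkPointF_eq cert) 101600 25 chkP_101600 i (by omega) (by omega)
                · skip
                  rcases Nat.lt_or_ge i 101650 with h9 | h9
                  · skip
                    exact allRangeF_sound _ _ (checkPointF_eq cert) 101625 25 chkP_101625 i (by omega) (by omega)
                  · skip
                    exact allRangeF_sound _ _ (checkPointF_eq cert) 101650 25 chkP_101650 i (by omega) (by omega)
    · skip
      rcases Nat.lt_or_ge i 102625 with h3 | h3
      · skip
        rcases Nat.lt_or_ge i 102150 with h4 | h4
        · skip
          rcases Nat.lt_or_ge i 101900 with h5 | h5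
          · skip
            rcases Nat.lt_or_ge i 101775 with h6 | h6
            · skip
              rcases Nat.lt_or_ge i 101725 with h7 | h7
              · skip
                rcases Nat.lt_or_ge i 101700 with h8 | h8
                · skip
                  exact allRangeF_sound _ _ (checkPointF_eq cert) 101675 25 chkP_101675 i (by omega) (by omega)
                · skip
                  exact allRangeF_sound _ _ (checkPointF_eq cert) 101700 25 chkP_101700 i (by omega) (by omega)
              · skip
                rcases Nat.lt_or_ge i 101750 with h8 | h8
                · skip
                  exact allRangeF_sound _ _ (checkPointF_eq cert) 101725 25 chkP_101725 i (by omega) (by omega)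
                · skip
                  exact allRangeF_sound _ _ (checkPointF_eq cert) 101750 25 chkP_101750 i (by omega) (by omega)
            · skip
              rcases Nat.lt_or_ge i 101825 with h7 | h7
              · skip
                rcases Nat.lt_or_ge i 101800 with h8 | h8
                · skip
                  exact allRangeF_sound _ _ (checkPointF_eq cert) 101775 25 chkP_101775 i (by omega) (by omega)
                · skip
                  exact allRangeF_sound _ _ (checkPointF_eq cert) 101800 25 chkP_101800 i (by omega) (by omega)
              · skip
                rcases Nat.lt_or_ge i 101850 with h8 | h8
                · skip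
                  exact allRangeF_sound _ _ (checkPointF_eq cert) 101825 25 chkP_101825 i (by omega) (by omega)
                · skip
                  rcases Nat.lt_or_ge i 101875 with h9 | h9
                  · skip
                    exact allRangeF_sound _ _ (checkPointF_eq cert) 101850 25 chkP_101850 i (by omega) (by omega)
                  · skip
                    exact allRangeF_sound _ _ (checkPointF_eq cert) 101875 25 chkP_101875 i (by omega) (by omega)
          · skip
            rcases Nat.lt_or_ge i 102025 with h6 | h6
            · skip
              rcases Nat.lt_or_ge i 101950 with h7 | h7
              · skip
                rcases Nat.lt_or_ge i 101925 with h8 | h8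
                · skip
                  exact allRangeF_sound _ _ (checkPointF_eq cert) 101900 25 chkP_101900 i (by omega) (by omega)
                · skip
                  exact allRangeF_sound _ _ (checkPointF_eq cert) 101925 25 chkP_101925 i (by omega) (by omega)
              · skip
                rcases Nat.lt_or_ge i 101975 with h8 | h8
                · skip
                  exact allRangeF_sound _ _ (checkPointF_eq cert) 101950 25 chkP_101950 i (by omega) (by omega)
                · skip
                  rcases Nat.lt_or_ge i 102000 with h9 | h9
                  · skip
                    exact allRangeF_sound _ _ (checkPointF_eq cert) 101975 25 chkP_101975 i (by omega) (by omega)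
                  · skip
                    exact allRangeF_sound _ _ (checkPointF_eq cert) 102000 25 chkP_102000 i (by omega) (by omega)
            · skip
              rcases Nat.lt_or_ge i 102075 with h7 | h7
              · skip
                rcases Nat.lt_or_ge i 102050 with h8 | h8
                · skip
                  exact allRangeF_sound _ _ (checkPointF_eq cert) 102025 25 chkP_102025 i (by omega) (by omega)
                · skip
                  exact allRangeF_sound _ _ (checkPointF_eq cert) 102050 25 chkP_102050 i (by omega) (by omega)
              · skip
                rcases Nat.lt_or_ge i 102100 with h8 | h8
                · skip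
                  exact allRangeF_sound _ _ (checkPointF_eq cert) 102075 25 chkP_102075 i (by omega) (by omega)
                · skip
                  rcases Nat.lt_or_ge i 102125 with h9 | h9
                  · skip
                    exact allRangeF_sound _ _ (checkPointF_eq cert) 102100 25 chkP_102100 i (by omega) (by omega)
                  · skip
                    exact allRangeF_sound _ _ (checkPointF_eq cert) 102125 25 chkP_102125 i (by omega) (by omega)
        · skip
          rcases Nat.lt_or_ge i 102375 with h5 | h5
          · skip
            rcases Nat.lt_or_ge i 102250 with h6 | h6
            · skip
              rcases Nat.lt_or_ge i 102200 with h7 | h7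
              · skip
                rcases Nat.lt_or_ge i 102175 with h8 | h8
                · skip
                  exact allRangeF_sound _ _ (checkPointF_eq cert) 102150 25 chkP_102150 i (by omega) (by omega)
                · skip
                  exact allRangeF_sound _ _ (checkPointF_eq cert) 102175 25 chkP_102175 i (by omega) (by omega)
              · skip
                rcases Nat.lt_or_ge i 102225 with h8 | h8
                · skip
                  exact allRangeF_sound _ _ (checkPointF_eq cert) 102200 25 chkP_102200 i (by omega) (by omega)
                · skip
                  exact allRangeF_sound _ _ (checkPointF_eq cert) 102225 25 chkP_102225 i (by omega) (by omega)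
            · skip
              rcases Nat.lt_or_ge i 102300 with h7 | h7
              · skip
                rcases Nat.lt_or_ge i 102275 with h8 | h8
                · skip
                  exact allRangeF_sound _ _ (checkPointF_eq cert) 102250 25 chkP_102250 i (by omega) (by omega)
                · skip
                  exact allRangeF_sound _ _ (checkPointF_eq cert) 102275 25 chkP_102275 i (by omega) (by omega)
              · skip
                rcases Nat.lt_or_ge i 102325 with h8 | h8
                · skip
                  exact allRangeF_sound _ _ (checkPointF_eq cert) 102300 25 chkP_102300 i (by omega) (by omega)
                · skip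
                  rcases Nat.lt_or_ge i 102350 with h9 | h9
                  · skip
                    exact allRangeF_sound _ _ (checkPointF_eq cert) 102325 25 chkP_102325 i (by omega) (by omega)
                  · skip
                    exact allRangeF_sound _ _ (checkPointF_eq cert) 102350 25 chkP_102350 i (by omega) (by omega)
          · skip
            rcases Nat.lt_or_ge i 102500 with h6 | h6
            · skip
              rcases Nat.lt_or_ge i 102425 with h7 | h7
              · skip
                rcases Nat.lt_or_ge i 102400 with h8 | h8
                · skip
                  exact allRangeF_sound _ _ (checkPointF_eq cert) 102375 25 chkP_102375 i (by omega) (by omega)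
                · skip
                  exact allRangeF_sound _ _ (checkPointF_eq cert) 102400 25 chkP_102400 i (by omega) (by omega)
              · skip
                rcases Nat.lt_or_ge i 102450 with h8 | h8
                · skip
                  exact allRangeF_sound _ _ (checkPointF_eq cert) 102425 25 chkP_102425 i (by omega) (by omega)
                · skip
                  rcases Nat.lt_or_ge i 102475 with h9 | h9
                  · skip
                    exact allRangeF_sound _ _ (checkPointF_eq cert) 102450 25 chkP_102450 i (by omega) (by omega)
                  · skip
                    exact allRangeF_sound _ _ (checkPointF_eq cert) 102475 25 chkP_102475 i (by omega) (by omega)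
            · skip
              rcases Nat.lt_or_ge i 102550 with h7 | h7
              · skip
                rcases Nat.lt_or_ge i 102525 with h8 | h8
                · skip
                  exact allRangeF_sound _ _ (checkPointF_eq cert) 102500 25 chkP_102500 i (by omega) (by omega)
                · skip
                  exact allRangeF_sound _ _ (checkPointF_eq cert) 102525 25 chkP_102525 i (by omega) (by omega)
              · skip
                rcases Nat.lt_or_ge i 102575 with h8 | h8
                · skip
                  exact allRangeF_sound _ _ (checkPointF_eq cert) 102550 25 chkP_102550 i (by omega) (by omega)
                · skip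
                  rcases Nat.lt_or_ge i 102600 with h9 | h9
                  · skip
                    exact allRangeF_sound _ _ (checkPointF_eq cert) 102575 25 chkP_102575 i (by omega) (by omega)
                  · skip
                    exact allRangeF_sound _ _ (checkPointF_eq cert) 102600 25 chkP_102600 i (by omega) (by omega)
      · skip
        rcases Nat.lt_or_ge i 103100 with h4 | h4
        · skip
          rcases Nat.lt_or_ge i 102850 with h5 | h5
          · skip
            rcases Nat.lt_or_ge i 102725 with h6 | h6
            · skip
              rcases Nat.lt_or_ge i 102675 with h7 | h7
              · skip
                rcases Nat.lt_or_ge i 102650 with h8 | h8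
                · skip
                  exact allRangeF_sound _ _ (checkPointF_eq cert) 102625 25 chkP_102625 i (by omega) (by omega)
                · skip
                  exact allRangeF_sound _ _ (checkPointF_eq cert) 102650 25 chkP_102650 i (by omega) (by omega)
              · skip
                rcases Nat.lt_or_ge i 102700 with h8 | h8
                · skip
                  exact allRangeF_sound _ _ (checkPointF_eq cert) 102675 25 chkP_102675 i (by omega) (by omega)
                · skip
                  exact allRangeF_sound _ _ (checkPointF_eq cert) 102700 25 chkP_102700 i (by omega) (by omega)
            · skip
              rcases Nat.lt_or_ge i 102775 with h7 | h7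
              · skip
                rcases Nat.lt_or_ge i 102750 with h8 | h8
                · skip
                  exact allRangeF_sound _ _ (checkPointF_eq cert) 102725 25 chkP_102725 i (by omega) (by omega)
                · skip
                  exact allRangeF_sound _ _ (checkPointF_eq cert) 102750 25 chkP_102750 i (by omega) (by omega)
              · skip
                rcases Nat.lt_or_ge i 102800 with h8 | h8
                · skip
                  exact allRangeF_sound _ _ (checkPointF_eq cert) 102775 25 chkP_102775 i (by omega) (by omega)
                · skip
                  rcases Nat.lt_or_ge i 102825 with h9 | h9
                  · skip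
                    exact allRangeF_sound _ _ (checkPointF_eq cert) 102800 25 chkP_102800 i (by omega) (by omega)
                  · skip
                    exact allRangeF_sound _ _ (checkPointF_eq cert) 102825 25 chkP_102825 i (by omega) (by omega)
          · skip
            rcases Nat.lt_or_ge i 102975 with h6 | h6
            · skip
              rcases Nat.lt_or_ge i 102900 with h7 | h7
              · skip
                rcases Nat.lt_or_ge i 102875 with h8 | h8
                · skip
                  exact allRangeF_sound _ _ (checkPointF_eq cert) 102850 25 chkP_102850 i (by omega) (by omega)
                · skip
                  exact allRangeF_sound _ _ (checkPointF_eq cert) 102875 25 chkP_102875 i (by omega) (by omega)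
              · skip
                rcases Nat.lt_or_ge i 102925 with h8 | h8
                · skip
                  exact allRangeF_sound _ _ (checkPointF_eq cert) 102900 25 chkP_102900 i (by omega) (by omega)
                · skip
                  rcases Nat.lt_or_ge i 102950 with h9 | h9
                  · skip
                    exact allRangeF_sound _ _ (checkPointF_eq cert) 102925 25 chkP_102925 i (by omega) (by omega)
                  · skip
                    exact allRangeF_sound _ _ (checkPointF_eq cert) 102950 25 chkP_102950 i (by omega) (by omega)
            · skip
              rcases Nat.lt_or_ge i 103025 with h7 | h7
              · skip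
                rcases Nat.lt_or_ge i 103000 with h8 | h8
                · skip
                  exact allRangeF_sound _ _ (checkPointF_eq cert) 102975 25 chkP_102975 i (by omega) (by omega)
                · skip
                  exact allRangeF_sound _ _ (checkPointF_eq cert) 103000 25 chkP_103000 i (by omega) (by omega)
              · skip
                rcases Nat.lt_or_ge i 103050 with h8 | h8
                · skip
                  exact allRangeF_sound _ _ (checkPointF_eq cert) 103025 25 chkP_103025 i (by omega) (by omega)
                · skip
                  rcases Nat.lt_or_ge i 103075 with h9 | h9
                  · skip
                    exact allRangeF_sound _ _ (checkPointF_eq cert) 103050 25 chkP_103050 i (by omega) (by omega)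
                  · skip
                    exact allRangeF_sound _ _ (checkPointF_eq cert) 103075 25 chkP_103075 i (by omega) (by omega)
        · skip
          rcases Nat.lt_or_ge i 103350 with h5 | h5
          · skip
            rcases Nat.lt_or_ge i 103225 with h6 | h6
            · skip
              rcases Nat.lt_or_ge i 103150 with h7 | h7
              · skip
                rcases Nat.lt_or_ge i 103125 with h8 | h8
                · skip
                  exact allRangeF_sound _ _ (checkPointF_eq cert) 103100 25 chkP_103100 i (by omega) (by omega)
                · skip
                  exact allRangeF_sound _ _ (checkPointF_eq cert) 103125 25 chkP_103125 i (by omega) (by omega)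
              · skip
                rcases Nat.lt_or_ge i 103175 with h8 | h8
                · skip
                  exact allRangeF_sound _ _ (checkPointF_eq cert) 103150 25 chkP_103150 i (by omega) (by omega)
                · skip
                  rcases Nat.lt_or_ge i 103200 with h9 | h9
                  · skip
                    exact allRangeF_sound _ _ (checkPointF_eq cert) 103175 25 chkP_103175 i (by omega) (by omega)
                  · skip
                    exact allRangeF_sound _ _ (checkPointF_eq cert) 103200 25 chkP_103200 i (by omega) (by omega)
            · skip
              rcases Nat.lt_or_ge i 103275 with h7 | h7
              · skip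
                rcases Nat.lt_or_ge i 103250 with h8 | h8
                · skip
                  exact allRangeF_sound _ _ (checkPointF_eq cert) 103225 25 chkP_103225 i (by omega) (by omega)
                · skip
                  exact allRangeF_sound _ _ (checkPointF_eq cert) 103250 25 chkP_103250 i (by omega) (by omega)
              · skip
                rcases Nat.lt_or_ge i 103300 with h8 | h8
                · skip
                  exact allRangeF_sound _ _ (checkPointF_eq cert) 103275 25 chkP_103275 i (by omega) (by omega)
                · skip
                  rcases Nat.lt_or_ge i 103325 with h9 | h9
                  · skip
                    exact allRangeF_sound _ _ (checkPointF_eq cert) 103300 25 chkP_103300 i (by omega) (by omega)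
                  · skip
                    exact allRangeF_sound _ _ (checkPointF_eq cert) 103325 25 chkP_103325 i (by omega) (by omega)
          · skip
            rcases Nat.lt_or_ge i 103475 with h6 | h6
            · skip
              rcases Nat.lt_or_ge i 103400 with h7 | h7
              · skip
                rcases Nat.lt_or_ge i 103375 with h8 | h8
                · skip
                  exact allRangeF_sound _ _ (checkPointF_eq cert) 103350 25 chkP_103350 i (by omega) (by omega)
                · skip
                  exact allRangeF_sound _ _ (checkPointF_eq cert) 103375 25 chkP_103375 i (by omega) (by omega)
              · skip
                rcases Nat.lt_or_ge i 103425 with h8 | h8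
                · skip
                  exact allRangeF_sound _ _ (checkPointF_eq cert) 103400 25 chkP_103400 i (by omega) (by omega)
                · skip
                  rcases Nat.lt_or_ge i 103450 with h9 | h9
                  · skip
                    exact allRangeF_sound _ _ (checkPointF_eq cert) 103425 25 chkP_103425 i (by omega) (by omega)
                  · skip
                    exact allRangeF_sound _ _ (checkPointF_eq cert) 103450 25 chkP_103450 i (by omega) (by omega)
            · skip
              rcases Nat.lt_or_ge i 103525 with h7 | h7
              · skip
                rcases Nat.lt_or_ge i 103500 with h8 | h8
                · skip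
                  exact allRangeF_sound _ _ (checkPointF_eq cert) 103475 25 chkP_103475 i (by omega) (by omega)
                · skip
                  exact allRangeF_sound _ _ (checkPointF_eq cert) 103500 25 chkP_103500 i (by omega) (by omega)
              · skip
                rcases Nat.lt_or_ge i 103550 with h8 | h8
                · skip
                  exact allRangeF_sound _ _ (checkPointF_eq cert) 103525 25 chkP_103525 i (by omega) (by omega)
                · skip
                  rcases Nat.lt_or_ge i 103575 with h9 | h9
                  · skip
                    exact allRangeF_sound _ _ (checkPointF_eq cert) 103550 25 chkP_103550 i (by omega) (by omega)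
                  · skip
                    exact allRangeF_sound _ _ (checkPointF_eq cert) 103575 25 chkP_103575 i (by omega) (by omega)
  · skip
    rcases Nat.lt_or_ge i 105525 with h2 | h2
    · skip
      rcases Nat.lt_or_ge i 104550 with h3 | h3
      · skip
        rcases Nat.lt_or_ge i 104075 with h4 | h4
        · skip
          rcases Nat.lt_or_ge i 103825 with h5 | h5
          · skip
            rcases Nat.lt_or_ge i 103700 with h6 | h6
            · skip
              rcases Nat.lt_or_ge i 103650 with h7 | h7
              · skip
                rcases Nat.lt_or_ge i 103625 with h8 | h8
                · skip
                  exact allRangeF_sound _ _ (checkPointF_eq cert) 103600 25 chkP_103600 i (by omega) (by omega)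
                · skip
                  exact allRangeF_sound _ _ (checkPointF_eq cert) 103625 25 chkP_103625 i (by omega) (by omega)
              · skip
                rcases Nat.lt_or_ge i 103675 with h8 | h8
                · skip
                  exact allRangeF_sound _ _ (checkPointF_eq cert) 103650 25 chkP_103650 i (by omega) (by omega)
                · skip
                  exact allRangeF_sound _ _ (checkPointF_eq cert) 103675 25 chkP_103675 i (by omega) (by omega)
            · skip
              rcases Nat.lt_or_ge i 103750 with h7 | h7
              · skip
                rcases Nat.lt_or_ge i 103725 with h8 | h8
                · skip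
                  exact allRangeF_sound _ _ (checkPointF_eq cert) 103700 25 chkP_103700 i (by omega) (by omega)
                · skip
                  exact allRangeF_sound _ _ (checkPointF_eq cert) 103725 25 chkP_103725 i (by omega) (by omega)
              · skip
                rcases Nat.lt_or_ge i 103775 with h8 | h8
                · skip
                  exact allRangeF_sound _ _ (checkPointF_eq cert) 103750 25 chkP_103750 i (by omega) (by omega)
                · skip
                  rcases Nat.lt_or_ge i 103800 with h9 | h9
                  · skip
                    exact allRangeF_sound _ _ (checkPointF_eq cert) 103775 25 chkP_103775 i (by omega) (by omega)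
                  · skip
                    exact allRangeF_sound _ _ (checkPointF_eq cert) 103800 25 chkP_103800 i (by omega) (by omega)
          · skip
            rcases Nat.lt_or_ge i 103950 with h6 | h6
            · skip
              rcases Nat.lt_or_ge i 103875 with h7 | h7
              · skip
                rcases Nat.lt_or_ge i 103850 with h8 | h8
                · skip
                  exact allRangeF_sound _ _ (checkPointF_eq cert) 103825 25 chkP_103825 i (by omega) (by omega)
                · skip
                  exact allRangeF_sound _ _ (checkPointF_eq cert) 103850 25 chkP_103850 i (by omega) (by omega)
              · skip
                rcases Nat.lt_or_ge i 103900 with h8 | h8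
                · skip
                  exact allRangeF_sound _ _ (checkPointF_eq cert) 103875 25 chkP_103875 i (by omega) (by omega)
                · skip
                  rcases Nat.lt_or_ge i 103925 with h9 | h9
                  · skip
                    exact allRangeF_sound _ _ (checkPointF_eq cert) 103900 25 chkP_103900 i (by omega) (by omega)
                  · skip
                    exact allRangeF_sound _ _ (checkPointF_eq cert) 103925 25 chkP_103925 i (by omega) (by omega)
            · skip
              rcases Nat.lt_or_ge i 104000 with h7 | h7
              · skip
                rcases Nat.lt_or_ge i 103975 with h8 | h8
                · skip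
                  exact allRangeF_sound _ _ (checkPointF_eq cert) 103950 25 chkP_103950 i (by omega) (by omega)
                · skip
                  exact allRangeF_sound _ _ (checkPointF_eq cert) 103975 25 chkP_103975 i (by omega) (by omega)
              · skip
                rcases Nat.lt_or_ge i 104025 with h8 | h8
                · skip
                  exact allRangeF_sound _ _ (checkPointF_eq cert) 104000 25 chkP_104000 i (by omega) (by omega)
                · skip
                  rcases Nat.lt_or_ge i 104050 with h9 | h9
                  · skip
                    exact allRangeF_sound _ _ (checkPointF_eq cert) 104025 25 chkP_104025 i (by omega) (by omega)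
                  · skip
                    exact allRangeF_sound _ _ (checkPointF_eq cert) 104050 25 chkP_104050 i (by omega) (by omega)
        · skip
          rcases Nat.lt_or_ge i 104300 with h5 | h5
          · skip
            rcases Nat.lt_or_ge i 104175 with h6 | h6
            · skip
              rcases Nat.lt_or_ge i 104125 with h7 | h7
              · skip
                rcases Nat.lt_or_ge i 104100 with h8 | h8
                · skip
                  exact allRangeF_sound _ _ (checkPointF_eq cert) 104075 25 chkP_104075 i (by omega) (by omega)
                · skip
                  exact allRangeF_sound _ _ (checkPointF_eq cert) 104100 25 chkP_104100 i (by omega) (by omega)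
              · skip
                rcases Nat.lt_or_ge i 104150 with h8 | h8
                · skip
                  exact allRangeF_sound _ _ (checkPointF_eq cert) 104125 25 chkP_104125 i (by omega) (by omega)
                · skip
                  exact allRangeF_sound _ _ (checkPointF_eq cert) 104150 25 chkP_104150 i (by omega) (by omega)
            · skip
              rcases Nat.lt_or_ge i 104225 with h7 | h7
              · skip
                rcases Nat.lt_or_ge i 104200 with h8 | h8
                · skip
                  exact allRangeF_sound _ _ (checkPointF_eq cert) 104175 25 chkP_104175 i (by omega) (by omega)
                · skip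
                  exact allRangeF_sound _ _ (checkPointF_eq cert) 104200 25 chkP_104200 i (by omega) (by omega)
              · skip
                rcases Nat.lt_or_ge i 104250 with h8 | h8
                · skip
                  exact allRangeF_sound _ _ (checkPointF_eq cert) 104225 25 chkP_104225 i (by omega) (by omega)
                · skip
                  rcases Nat.lt_or_ge i 104275 with h9 | h9
                  · skip
                    exact allRangeF_sound _ _ (checkPointF_eq cert) 104250 25 chkP_104250 i (by omega) (by omega)
                  · skip
                    exact allRangeF_sound _ _ (checkPointF_eq cert) 104275 25 chkP_104275 i (by omega) (by omega)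
          · skip
            rcases Nat.lt_or_ge i 104425 with h6 | h6
            · skip
              rcases Nat.lt_or_ge i 104350 with h7 | h7
              · skip
                rcases Nat.lt_or_ge i 104325 with h8 | h8
                · skip
                  exact allRangeF_sound _ _ (checkPointF_eq cert) 104300 25 chkP_104300 i (by omega) (by omega)
                · skip
                  exact allRangeF_sound _ _ (checkPointF_eq cert) 104325 25 chkP_104325 i (by omega) (by omega)
              · skip
                rcases Nat.lt_or_ge i 104375 with h8 | h8
                · skip
                  exact allRangeF_sound _ _ (checkPointF_eq cert) 104350 25 chkP_104350 i (by omega) (by omega)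
                · skip
                  rcases Nat.lt_or_ge i 104400 with h9 | h9
                  · skip
                    exact allRangeF_sound _ _ (checkPointF_eq cert) 104375 25 chkP_104375 i (by omega) (by omega)
                  · skip
                    exact allRangeF_sound _ _ (checkPointF_eq cert) 104400 25 chkP_104400 i (by omega) (by omega)
            · skip
              rcases Nat.lt_or_ge i 104475 with h7 | h7
              · skip
                rcases Nat.lt_or_ge i 104450 with h8 | h8
                · skip
                  exact allRangeF_sound _ _ (checkPointF_eq cert) 104425 25 chkP_104425 i (by omega) (by omega)
                · skip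
                  exact allRangeF_sound _ _ (checkPointF_eq cert) 104450 25 chkP_104450 i (by omega) (by omega)
              · skip
                rcases Nat.lt_or_ge i 104500 with h8 | h8
                · skip
                  exact allRangeF_sound _ _ (checkPointF_eq cert) 104475 25 chkP_104475 i (by omega) (by omega)
                · skip
                  rcases Nat.lt_or_ge i 104525 with h9 | h9
                  · skip
                    exact allRangeF_sound _ _ (checkPointF_eq cert) 104500 25 chkP_104500 i (by omega) (by omega)
                  · skip
                    exact allRangeF_sound _ _ (checkPointF_eq cert) 104525 25 chkP_104525 i (by omega) (by omega)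
      · skip
        rcases Nat.lt_or_ge i 105025 with h4 | h4
        · skip
          rcases Nat.lt_or_ge i 104775 with h5 | h5
          · skip
            rcases Nat.lt_or_ge i 104650 with h6 | h6
            · skip
              rcases Nat.lt_or_ge i 104600 with h7 | h7
              · skip
                rcases Nat.lt_or_ge i 104575 with h8 | h8
                · skip
                  exact allRangeF_sound _ _ (checkPointF_eq cert) 104550 25 chkP_104550 i (by omega) (by omega)
                · skip
                  exact allRangeF_sound _ _ (checkPointF_eq cert) 104575 25 chkP_104575 i (by omega) (by omega)
              · skip
                rcases Nat.lt_or_ge i 104625 with h8 | h8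
                · skip
                  exact allRangeF_sound _ _ (checkPointF_eq cert) 104600 25 chkP_104600 i (by omega) (by omega)
                · skip
                  exact allRangeF_sound _ _ (checkPointF_eq cert) 104625 25 chkP_104625 i (by omega) (by omega)
            · skip
              rcases Nat.lt_or_ge i 104700 with h7 | h7
              · skip
                rcases Nat.lt_or_ge i 104675 with h8 | h8
                · skip
                  exact allRangeF_sound _ _ (checkPointF_eq cert) 104650 25 chkP_104650 i (by omega) (by omega)
                · skip
                  exact allRangeF_sound _ _ (checkPointF_eq cert) 104675 25 chkP_104675 i (by omega) (by omega)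
              · skip
                rcases Nat.lt_or_ge i 104725 with h8 | h8
                · skip
                  exact allRangeF_sound _ _ (checkPointF_eq cert) 104700 25 chkP_104700 i (by omega) (by omega)
                · skip
                  rcases Nat.lt_or_ge i 104750 with h9 | h9
                  · skip
                    exact allRangeF_sound _ _ (checkPointF_eq cert) 104725 25 chkP_104725 i (by omega) (by omega)
                  · skip
                    exact allRangeF_sound _ _ (checkPointF_eq cert) 104750 25 chkP_104750 i (by omega) (by omega)
          · skip
            rcases Nat.lt_or_ge i 104900 with h6 | h6
            · skip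
              rcases Nat.lt_or_ge i 104825 with h7 | h7
              · skip
                rcases Nat.lt_or_ge i 104800 with h8 | h8
                · skip
                  exact allRangeF_sound _ _ (checkPointF_eq cert) 104775 25 chkP_104775 i (by omega) (by omega)
                · skip
                  exact allRangeF_sound _ _ (checkPointF_eq cert) 104800 25 chkP_104800 i (by omega) (by omega)
              · skip
                rcases Nat.lt_or_ge i 104850 with h8 | h8
                · skip
                  exact allRangeF_sound _ _ (checkPointF_eq cert) 104825 25 chkP_104825 i (by omega) (by omega)
                · skip
                  rcases Nat.lt_or_ge i 104875 with h9 | h9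
                  · skip
                    exact allRangeF_sound _ _ (checkPointF_eq cert) 104850 25 chkP_104850 i (by omega) (by omega)
                  · skip
                    exact allRangeF_sound _ _ (checkPointF_eq cert) 104875 25 chkP_104875 i (by omega) (by omega)
            · skip
              rcases Nat.lt_or_ge i 104950 with h7 | h7
              · skip
                rcases Nat.lt_or_ge i 104925 with h8 | h8
                · skip
                  exact allRangeF_sound _ _ (checkPointF_eq cert) 104900 25 chkP_104900 i (by omega) (by omega)
                · skip
                  exact allRangeF_sound _ _ (checkPointF_eq cert) 104925 25 chkP_104925 i (by omega) (by omega)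
              · skip
                rcases Nat.lt_or_ge i 104975 with h8 | h8
                · skip
                  exact allRangeF_sound _ _ (checkPointF_eq cert) 104950 25 chkP_104950 i (by omega) (by omega)
                · skip
                  rcases Nat.lt_or_ge i 105000 with h9 | h9
                  · skip
                    exact allRangeF_sound _ _ (checkPointF_eq cert) 104975 25 chkP_104975 i (by omega) (by omega)
                  · skip
                    exact allRangeF_sound _ _ (checkPointF_eq cert) 105000 25 chkP_105000 i (by omega) (by omega)
        · skip
          rcases Nat.lt_or_ge i 105275 with h5 | h5
          · skip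
            rcases Nat.lt_or_ge i 105150 with h6 | h6
            · skip
              rcases Nat.lt_or_ge i 105075 with h7 | h7
              · skip
                rcases Nat.lt_or_ge i 105050 with h8 | h8
                · skip
                  exact allRangeF_sound _ _ (checkPointF_eq cert) 105025 25 chkP_105025 i (by omega) (by omega)
                · skip
                  exact allRangeF_sound _ _ (checkPointF_eq cert) 105050 25 chkP_105050 i (by omega) (by omega)
              · skip
                rcases Nat.lt_or_ge i 105100 with h8 | h8
                · skip
                  exact allRangeF_sound _ _ (checkPointF_eq cert) 105075 25 chkP_105075 i (by omega) (by omega)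
                · skip
                  rcases Nat.lt_or_ge i 105125 with h9 | h9
                  · skip
                    exact allRangeF_sound _ _ (checkPointF_eq cert) 105100 25 chkP_105100 i (by omega) (by omega)
                  · skip
                    exact allRangeF_sound _ _ (checkPointF_eq cert) 105125 25 chkP_105125 i (by omega) (by omega)
            · skip
              rcases Nat.lt_or_ge i 105200 with h7 | h7
              · skip
                rcases Nat.lt_or_ge i 105175 with h8 | h8
                · skip
                  exact allRangeF_sound _ _ (checkPointF_eq cert) 105150 25 chkP_105150 i (by omega) (by omega)
                · skip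
                  exact allRangeF_sound _ _ (checkPointF_eq cert) 105175 25 chkP_105175 i (by omega) (by omega)
              · skip
                rcases Nat.lt_or_ge i 105225 with h8 | h8
                · skip
                  exact allRangeF_sound _ _ (checkPointF_eq cert) 105200 25 chkP_105200 i (by omega) (by omega)
                · skip
                  rcases Nat.lt_or_ge i 105250 with h9 | h9
                  · skip
                    exact allRangeF_sound _ _ (checkPointF_eq cert) 105225 25 chkP_105225 i (by omega) (by omega)
                  · skip
                    exact allRangeF_sound _ _ (checkPointF_eq cert) 105250 25 chkP_105250 i (by omega) (by omega)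
          · skip
            rcases Nat.lt_or_ge i 105400 with h6 | h6
            · skip
              rcases Nat.lt_or_ge i 105325 with h7 | h7
              · skip
                rcases Nat.lt_or_ge i 105300 with h8 | h8
                · skip
                  exact allRangeF_sound _ _ (checkPointF_eq cert) 105275 25 chkP_105275 i (by omega) (by omega)
                · skip
                  exact allRangeF_sound _ _ (checkPointF_eq cert) 105300 25 chkP_105300 i (by omega) (by omega)
              · skip
                rcases Nat.lt_or_ge i 105350 with h8 | h8
                · skip
                  exact allRangeF_sound _ _ (checkPointF_eq cert) 105325 25 chkP_105325 i (by omega) (by omega)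
                · skip
                  rcases Nat.lt_or_ge i 105375 with h9 | h9
                  · skip
                    exact allRangeF_sound _ _ (checkPointF_eq cert) 105350 25 chkP_105350 i (by omega) (by omega)
                  · skip
                    exact allRangeF_sound _ _ (checkPointF_eq cert) 105375 25 chkP_105375 i (by omega) (by omega)
            · skip
              rcases Nat.lt_or_ge i 105450 with h7 | h7
              · skip
                rcases Nat.lt_or_ge i 105425 with h8 | h8
                · skip
                  exact allRangeF_sound _ _ (checkPointF_eq cert) 105400 25 chkP_105400 i (by omega) (by omega)
                · skip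
                  exact allRangeF_sound _ _ (checkPointF_eq cert) 105425 25 chkP_105425 i (by omega) (by omega)
              · skip
                rcases Nat.lt_or_ge i 105475 with h8 | h8
                · skip
                  exact allRangeF_sound _ _ (checkPointF_eq cert) 105450 25 chkP_105450 i (by omega) (by omega)
                · skip
                  rcases Nat.lt_or_ge i 105500 with h9 | h9
                  · skip
                    exact allRangeF_sound _ _ (checkPointF_eq cert) 105475 25 chkP_105475 i (by omega) (by omega)
                  · skip
                    exact allRangeF_sound _ _ (checkPointF_eq cert) 105500 25 chkP_105500 i (by omega) (by omega)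
    · skip
      rcases Nat.lt_or_ge i 106475 with h3 | h3
      · skip
        rcases Nat.lt_or_ge i 106000 with h4 | h4
        · skip
          rcases Nat.lt_or_ge i 105750 with h5 | h5
          · skip
            rcases Nat.lt_or_ge i 105625 with h6 | h6
            · skip
              rcases Nat.lt_or_ge i 105575 with h7 | h7
              · skip
                rcases Nat.lt_or_ge i 105550 with h8 | h8
                · skip
                  exact allRangeF_sound _ _ (checkPointF_eq cert) 105525 25 chkP_105525 i (by omega) (by omega)
                · skip
                  exact allRangeF_sound _ _ (checkPointF_eq cert) 105550 25 chkP_105550 i (by omega) (by omega)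
              · skip
                rcases Nat.lt_or_ge i 105600 with h8 | h8
                · skip
                  exact allRangeF_sound _ _ (checkPointF_eq cert) 105575 25 chkP_105575 i (by omega) (by omega)
                · skip
                  exact allRangeF_sound _ _ (checkPointF_eq cert) 105600 25 chkP_105600 i (by omega) (by omega)
            · skip
              rcases Nat.lt_or_ge i 105675 with h7 | h7
              · skip
                rcases Nat.lt_or_ge i 105650 with h8 | h8
                · skip
                  exact allRangeF_sound _ _ (checkPointF_eq cert) 105625 25 chkP_105625 i (by omega) (by omega)
                · skip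
                  exact allRangeF_sound _ _ (checkPointF_eq cert) 105650 25 chkP_105650 i (by omega) (by omega)
              · skip
                rcases Nat.lt_or_ge i 105700 with h8 | h8
                · skip
                  exact allRangeF_sound _ _ (checkPointF_eq cert) 105675 25 chkP_105675 i (by omega) (by omega)
                · skip
                  rcases Nat.lt_or_ge i 105725 with h9 | h9
                  · skip
                    exact allRangeF_sound _ _ (checkPointF_eq cert) 105700 25 chkP_105700 i (by omega) (by omega)
                  · skip
                    exact allRangeF_sound _ _ (checkPointF_eq cert) 105725 25 chkP_105725 i (by omega) (by omega)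
          · skip
            rcases Nat.lt_or_ge i 105875 with h6 | h6
            · skip
              rcases Nat.lt_or_ge i 105800 with h7 | h7
              · skip
                rcases Nat.lt_or_ge i 105775 with h8 | h8
                · skip
                  exact allRangeF_sound _ _ (checkPointF_eq cert) 105750 25 chkP_105750 i (by omega) (by omega)
                · skip
                  exact allRangeF_sound _ _ (checkPointF_eq cert) 105775 25 chkP_105775 i (by omega) (by omega)
              · skip
                rcases Nat.lt_or_ge i 105825 with h8 | h8
                · skip
                  exact allRangeF_sound _ _ (checkPointF_eq cert) 105800 25 chkP_105800 i (by omega) (by omega)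
                · skip
                  rcases Nat.lt_or_ge i 105850 with h9 | h9
                  · skip
                    exact allRangeF_sound _ _ (checkPointF_eq cert) 105825 25 chkP_105825 i (by omega) (by omega)
                  · skip
                    exact allRangeF_sound _ _ (checkPointF_eq cert) 105850 25 chkP_105850 i (by omega) (by omega)
            · skip
              rcases Nat.lt_or_ge i 105925 with h7 | h7
              · skip
                rcases Nat.lt_or_ge i 105900 with h8 | h8
                · skip
                  exact allRangeF_sound _ _ (checkPointF_eq cert) 105875 25 chkP_105875 i (by omega) (by omega)
                · skip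
                  exact allRangeF_sound _ _ (checkPointF_eq cert) 105900 25 chkP_105900 i (by omega) (by omega)
              · skip
                rcases Nat.lt_or_ge i 105950 with h8 | h8
                · skip
                  exact allRangeF_sound _ _ (checkPointF_eq cert) 105925 25 chkP_105925 i (by omega) (by omega)
                · skip
                  rcases Nat.lt_or_ge i 105975 with h9 | h9
                  · skip
                    exact allRangeF_sound _ _ (checkPointF_eq cert) 105950 25 chkP_105950 i (by omega) (by omega)
                  · skip
                    exact allRangeF_sound _ _ (checkPointF_eq cert) 105975 25 chkP_105975 i (by omega) (by omega)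
        · skip
          rcases Nat.lt_or_ge i 106225 with h5 | h5
          · skip
            rcases Nat.lt_or_ge i 106100 with h6 | h6
            · skip
              rcases Nat.lt_or_ge i 106050 with h7 | h7
              · skip
                rcases Nat.lt_or_ge i 106025 with h8 | h8
                · skip
                  exact allRangeF_sound _ _ (checkPointF_eq cert) 106000 25 chkP_106000 i (by omega) (by omega)
                · skip
                  exact allRangeF_sound _ _ (checkPointF_eq cert) 106025 25 chkP_106025 i (by omega) (by omega)
              · skip
                rcases Nat.lt_or_ge i 106075 with h8 | h8
                · skip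
                  exact allRangeF_sound _ _ (checkPointF_eq cert) 106050 25 chkP_106050 i (by omega) (by omega)
                · skip
                  exact allRangeF_sound _ _ (checkPointF_eq cert) 106075 25 chkP_106075 i (by omega) (by omega)
            · skip
              rcases Nat.lt_or_ge i 106150 with h7 | h7
              · skip
                rcases Nat.lt_or_ge i 106125 with h8 | h8
                · skip
                  exact allRangeF_sound _ _ (checkPointF_eq cert) 106100 25 chkP_106100 i (by omega) (by omega)
                · skip
                  exact allRangeF_sound _ _ (checkPointF_eq cert) 106125 25 chkP_106125 i (by omega) (by omega)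
              · skip
                rcases Nat.lt_or_ge i 106175 with h8 | h8
                · skip
                  exact allRangeF_sound _ _ (checkPointF_eq cert) 106150 25 chkP_106150 i (by omega) (by omega)
                · skip
                  rcases Nat.lt_or_ge i 106200 with h9 | h9
                  · skip
                    exact allRangeF_sound _ _ (checkPointF_eq cert) 106175 25 chkP_106175 i (by omega) (by omega)
                  · skip
                    exact allRangeF_sound _ _ (checkPointF_eq cert) 106200 25 chkP_106200 i (by omega) (by omega)
          · skip
            rcases Nat.lt_or_ge i 106350 with h6 | h6
            · skip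
              rcases Nat.lt_or_ge i 106275 with h7 | h7
              · skip
                rcases Nat.lt_or_ge i 106250 with h8 | h8
                · skip
                  exact allRangeF_sound _ _ (checkPointF_eq cert) 106225 25 chkP_106225 i (by omega) (by omega)
                · skip
                  exact allRangeF_sound _ _ (checkPointF_eq cert) 106250 25 chkP_106250 i (by omega) (by omega)
              · skip
                rcases Nat.lt_or_ge i 106300 with h8 | h8
                · skip
                  exact allRangeF_sound _ _ (checkPointF_eq cert) 106275 25 chkP_106275 i (by omega) (by omega)
                · skip
                  rcases Nat.lt_or_ge i 106325 with h9 | h9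
                  · skip
                    exact allRangeF_sound _ _ (checkPointF_eq cert) 106300 25 chkP_106300 i (by omega) (by omega)
                  · skip
                    exact allRangeF_sound _ _ (checkPointF_eq cert) 106325 25 chkP_106325 i (by omega) (by omega)
            · skip
              rcases Nat.lt_or_ge i 106400 with h7 | h7
              · skip
                rcases Nat.lt_or_ge i 106375 with h8 | h8
                · skip
                  exact allRangeF_sound _ _ (checkPointF_eq cert) 106350 25 chkP_106350 i (by omega) (by omega)
                · skip
                  exact allRangeF_sound _ _ (checkPointF_eq cert) 106375 25 chkP_106375 i (by omega) (by omega)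
              · skip
                rcases Nat.lt_or_ge i 106425 with h8 | h8
                · skip
                  exact allRangeF_sound _ _ (checkPointF_eq cert) 106400 25 chkP_106400 i (by omega) (by omega)
                · skip
                  rcases Nat.lt_or_ge i 106450 with h9 | h9
                  · skip
                    exact allRangeF_sound _ _ (checkPointF_eq cert) 106425 25 chkP_106425 i (by omega) (by omega)
                  · skip
                    exact allRangeF_sound _ _ (checkPointF_eq cert) 106450 25 chkP_106450 i (by omega) (by omega)
      · skip
        rcases Nat.lt_or_ge i 106950 with h4 | h4
        · skip
          rcases Nat.lt_or_ge i 106700 with h5 | h5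
          · skip
            rcases Nat.lt_or_ge i 106575 with h6 | h6
            · skip
              rcases Nat.lt_or_ge i 106525 with h7 | h7
              · skip
                rcases Nat.lt_or_ge i 106500 with h8 | h8
                · skip
                  exact allRangeF_sound _ _ (checkPointF_eq cert) 106475 25 chkP_106475 i (by omega) (by omega)
                · skip
                  exact allRangeF_sound _ _ (checkPointF_eq cert) 106500 25 chkP_106500 i (by omega) (by omega)
              · skip
                rcases Nat.lt_or_ge i 106550 with h8 | h8
                · skip
                  exact allRangeF_sound _ _ (checkPointF_eq cert) 106525 25 chkP_106525 i (by omega) (by omega)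
                · skip
                  exact allRangeF_sound _ _ (checkPointF_eq cert) 106550 25 chkP_106550 i (by omega) (by omega)
            · skip
              rcases Nat.lt_or_ge i 106625 with h7 | h7
              · skip
                rcases Nat.lt_or_ge i 106600 with h8 | h8
                · skip
                  exact allRangeF_sound _ _ (checkPointF_eq cert) 106575 25 chkP_106575 i (by omega) (by omega)
                · skip
                  exact allRangeF_sound _ _ (checkPointF_eq cert) 106600 25 chkP_106600 i (by omega) (by omega)
              · skip
                rcases Nat.lt_or_ge i 106650 with h8 | h8
                · skip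
                  exact allRangeF_sound _ _ (checkPointF_eq cert) 106625 25 chkP_106625 i (by omega) (by omega)
                · skip
                  rcases Nat.lt_or_ge i 106675 with h9 | h9
                  · skip
                    exact allRangeF_sound _ _ (checkPointF_eq cert) 106650 25 chkP_106650 i (by omega) (by omega)
                  · skip
                    exact allRangeF_sound _ _ (checkPointF_eq cert) 106675 25 chkP_106675 i (by omega) (by omega)
          · skip
            rcases Nat.lt_or_ge i 106825 with h6 | h6
            · skip
              rcases Nat.lt_or_ge i 106750 with h7 | h7
              · skip
                rcases Nat.lt_or_ge i 106725 with h8 | h8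
                · skip
                  exact allRangeF_sound _ _ (checkPointF_eq cert) 106700 25 chkP_106700 i (by omega) (by omega)
                · skip
                  exact allRangeF_sound _ _ (checkPointF_eq cert) 106725 25 chkP_106725 i (by omega) (by omega)
              · skip
                rcases Nat.lt_or_ge i 106775 with h8 | h8
                · skip
                  exact allRangeF_sound _ _ (checkPointF_eq cert) 106750 25 chkP_106750 i (by omega) (by omega)
                · skip
                  rcases Nat.lt_or_ge i 106800 with h9 | h9
                  · skip
                    exact allRangeF_sound _ _ (checkPointF_eq cert) 106775 25 chkP_106775 i (by omega) (by omega)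
                  · skip
                    exact allRangeF_sound _ _ (checkPointF_eq cert) 106800 25 chkP_106800 i (by omega) (by omega)
            · skip
              rcases Nat.lt_or_ge i 106875 with h7 | h7
              · skip
                rcases Nat.lt_or_ge i 106850 with h8 | h8
                · skip
                  exact allRangeF_sound _ _ (checkPointF_eq cert) 106825 25 chkP_106825 i (by omega) (by omega)
                · skip
                  exact allRangeF_sound _ _ (checkPointF_eq cert) 106850 25 chkP_106850 i (by omega) (by omega)
              · skip
                rcases Nat.lt_or_ge i 106900 with h8 | h8
                · skip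
                  exact allRangeF_sound _ _ (checkPointF_eq cert) 106875 25 chkP_106875 i (by omega) (by omega)
                · skip
                  rcases Nat.lt_or_ge i 106925 with h9 | h9
                  · skip
                    exact allRangeF_sound _ _ (checkPointF_eq cert) 106900 25 chkP_106900 i (by omega) (by omega)
                  · skip
                    exact allRangeF_sound _ _ (checkPointF_eq cert) 106925 25 chkP_106925 i (by omega) (by omega)
        · skip
          rcases Nat.lt_or_ge i 107200 with h5 | h5
          · skip
            rcases Nat.lt_or_ge i 107075 with h6 | h6
            · skip
              rcases Nat.lt_or_ge i 107000 with h7 | h7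
              · skip
                rcases Nat.lt_or_ge i 106975 with h8 | h8
                · skip
                  exact allRangeF_sound _ _ (checkPointF_eq cert) 106950 25 chkP_106950 i (by omega) (by omega)
                · skip
                  exact allRangeF_sound _ _ (checkPointF_eq cert) 106975 25 chkP_106975 i (by omega) (by omega)
              · skip
                rcases Nat.lt_or_ge i 107025 with h8 | h8
                · skip
                  exact allRangeF_sound _ _ (checkPointF_eq cert) 107000 25 chkP_107000 i (by omega) (by omega)
                · skip
                  rcases Nat.lt_or_ge i 107050 with h9 | h9
                  · skip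
                    exact allRangeF_sound _ _ (checkPointF_eq cert) 107025 25 chkP_107025 i (by omega) (by omega)
                  · skip
                    exact allRangeF_sound _ _ (checkPointF_eq cert) 107050 25 chkP_107050 i (by omega) (by omega)
            · skip
              rcases Nat.lt_or_ge i 107125 with h7 | h7
              · skip
                rcases Nat.lt_or_ge i 107100 with h8 | h8
                · skip
                  exact allRangeF_sound _ _ (checkPointF_eq cert) 107075 25 chkP_107075 i (by omega) (by omega)
                · skip
                  exact allRangeF_sound _ _ (checkPointF_eq cert) 107100 25 chkP_107100 i (by omega) (by omega)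
              · skip
                rcases Nat.lt_or_ge i 107150 with h8 | h8
                · skip
                  exact allRangeF_sound _ _ (checkPointF_eq cert) 107125 25 chkP_107125 i (by omega) (by omega)
                · skip
                  rcases Nat.lt_or_ge i 107175 with h9 | h9
                  · skip
                    exact allRangeF_sound _ _ (checkPointF_eq cert) 107150 25 chkP_107150 i (by omega) (by omega)
                  · skip
                    exact allRangeF_sound _ _ (checkPointF_eq cert) 107175 25 chkP_107175 i (by omega) (by omega)
          · skip
            rcases Nat.lt_or_ge i 107325 with h6 | h6
            · skip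
              rcases Nat.lt_or_ge i 107250 with h7 | h7
              · skip
                rcases Nat.lt_or_ge i 107225 with h8 | h8
                · skip
                  exact allRangeF_sound _ _ (checkPointF_eq cert) 107200 25 chkP_107200 i (by omega) (by omega)
                · skip
                  exact allRangeF_sound _ _ (checkPointF_eq cert) 107225 25 chkP_107225 i (by omega) (by omega)
              · skip
                rcases Nat.lt_or_ge i 107275 with h8 | h8
                · skip
                  exact allRangeF_sound _ _ (checkPointF_eq cert) 107250 25 chkP_107250 i (by omega) (by omega)
                · skip
                  rcases Nat.lt_or_ge i 107300 with h9 | h9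
                  · skip
                    exact allRangeF_sound _ _ (checkPointF_eq cert) 107275 25 chkP_107275 i (by omega) (by omega)
                  · skip
                    exact allRangeF_sound _ _ (checkPointF_eq cert) 107300 25 chkP_107300 i (by omega) (by omega)
            · skip
              rcases Nat.lt_or_ge i 107375 with h7 | h7
              · skip
                rcases Nat.lt_or_ge i 107350 with h8 | h8
                · skip
                  exact allRangeF_sound _ _ (checkPointF_eq cert) 107325 25 chkP_107325 i (by omega) (by omega)
                · skip
                  exact allRangeF_sound _ _ (checkPointF_eq cert) 107350 25 chkP_107350 i (by omega) (by omega)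
              · skip
                rcases Nat.lt_or_ge i 107400 with h8 | h8
                · skip
                  exact allRangeF_sound _ _ (checkPointF_eq cert) 107375 25 chkP_107375 i (by omega) (by omega)
                · skip
                  rcases Nat.lt_or_ge i 107425 with h9 | h9
                  · skip
                    exact allRangeF_sound _ _ (checkPointF_eq cert) 107400 25 chkP_107400 i (by omega) (by omega)
                  · skip
                    exact allRangeF_sound _ _ (checkPointF_eq cert) 107425 25 chkP_107425 i (by omega) (by omega)

end Cfsg.Agent.Lib.Helper28.Fi24Data
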