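import Cfsg.Agent.Lib.Helper28.Fi24Data
import Cfsg.Agent.Lib.Helper28.TCFastB

set_option autoImplicit false
set_option maxRecDepth 1000000
set_option linter.all false
set_option Elab.async false

namespace Cfsg.Agent.Lib.Helper28.Fi24Data

open Cfsg.Agent.Lib.Helper28B

theorem chkP_115125 : allRangeF (checkPointF cert) (nat_lit 115125) (nat_lit 25) = true := by decide +kernel
theorem chkP_115150 : allRangeF (checkPointF cert) (nat_lit 115150) (nat_lit 25) = true := by decide +kernel
theorem chkP_115175 : allRangeF (checkPointF cert) (nat_lit 115175) (nat_lit 25) = true := by decide +kernel
theorem chkP_115200 : allRangeF (checkPointF cert) (nat_lit 115200) (nat_lit 25) = true := by decide +kernel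
theorem chkP_115225 : allRangeF (checkPointF cert) (nat_lit 115225) (nat_lit 25) = true := by decide +kernel
theorem chkP_115250 : allRangeF (checkPointF cert) (nat_lit 115250) (nat_lit 25) = true := by decide +kernel
theorem chkP_115275 : allRangeF (checkPointF cert) (nat_lit 115275) (nat_lit 25) = true := by decide +kernel
theorem chkP_115300 : allRangeF (checkPointF cert) (nat_lit 115300) (nat_lit 25) = true := by decide +kernel
theorem chkP_115325 : allRangeF (checkPointF cert) (nat_lit 115325) (nat_lit 25) = true := by decide +kernel
theorem chkP_115350 : allRangeF (checkPointF cert) (nat_lit 115350) (nat_lit 25) = true := by decide +kernel
theorem chkP_115375 : allRangeF (checkPointF cert) (nat_lit 115375) (nat_lit 25) = true := by decide +kernel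
theorem chkP_115400 : allRangeF (checkPointF cert) (nat_lit 115400) (nat_lit 25) = true := by decide +kernel
theorem chkP_115425 : allRangeF (checkPointF cert) (nat_lit 115425) (nat_lit 25) = true := by decide +kernel
theorem chkP_115450 : allRangeF (checkPointF cert) (nat_lit 115450) (nat_lit 25) = true := by decide +kernel
theorem chkP_115475 : allRangeF (checkPointF cert) (nat_lit 115475) (nat_lit 25) = true := by decide +kernel
theorem chkP_115500 : allRangeF (checkPointF cert) (nat_lit 115500) (nat_lit 25) = true := by decide +kernel
theorem chkP_115525 : allRangeF (checkPointF cert) (nat_lit 115525) (nat_lit 25) = true := by decide +kernel
theorem chkP_115550 : allRangeF (checkPointF cert) (nat_lit 115550) (nat_lit 25) = true := by decide +kernel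
theorem chkP_115575 : allRangeF (checkPointF cert) (nat_lit 115575) (nat_lit 25) = true := by decide +kernel
theorem chkP_115600 : allRangeF (checkPointF cert) (nat_lit 115600) (nat_lit 25) = true := by decide +kernel
theorem chkP_115625 : allRangeF (checkPointF cert) (nat_lit 115625) (nat_lit 25) = true := by decide +kernel
theorem chkP_115650 : allRangeF (checkPointF cert) (nat_lit 115650) (nat_lit 25) = true := by decide +kernel
theorem chkP_115675 : allRangeF (checkPointF cert) (nat_lit 115675) (nat_lit 25) = true := by decide +kernel
theorem chkP_115700 : allRangeF (checkPointF cert) (nat_lit 115700) (nat_lit 25) = true := by decide +kernel
theorem chkP_115725 : allRangeF (checkPointF cert) (nat_lit 115725) (nat_lit 25) = true := by decide +kernel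
theorem chkP_115750 : allRangeF (checkPointF cert) (nat_lit 115750) (nat_lit 25) = true := by decide +kernel
theorem chkP_115775 : allRangeF (checkPointF cert) (nat_lit 115775) (nat_lit 25) = true := by decide +kernel
theorem chkP_115800 : allRangeF (checkPointF cert) (nat_lit 115800) (nat_lit 25) = true := by decide +kernel
theorem chkP_115825 : allRangeF (checkPointF cert) (nat_lit 115825) (nat_lit 25) = true := by decide +kernel
theorem chkP_115850 : allRangeF (checkPointF cert) (nat_lit 115850) (nat_lit 25) = true := by decide +kernel
theorem chkP_115875 : allRangeF (checkPointF cert) (nat_lit 115875) (nat_lit 25) = true := by decide +kernel
theorem chkP_115900 : allRangeF (checkPointF cert) (nat_lit 115900) (nat_lit 25) = true := by decide +kernel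
theorem chkP_115925 : allRangeF (checkPointF cert) (nat_lit 115925) (nat_lit 25) = true := by decide +kernel
theorem chkP_115950 : allRangeF (checkPointF cert) (nat_lit 115950) (nat_lit 25) = true := by decide +kernel
theorem chkP_115975 : allRangeF (checkPointF cert) (nat_lit 115975) (nat_lit 25) = true := by decide +kernel
theorem chkP_116000 : allRangeF (checkPointF cert) (nat_lit 116000) (nat_lit 25) = true := by decide +kernel
theorem chkP_116025 : allRangeF (checkPointF cert) (nat_lit 116025) (nat_lit 25) = true := by decide +kernel
theorem chkP_116050 : allRangeF (checkPointF cert) (nat_lit 116050) (nat_lit 25) = true := by decide +kernel
theorem chkP_116075 : allRangeF (checkPointF cert) (nat_lit 116075) (nat_lit 25) = true := by decide +kernel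
theorem chkP_116100 : allRangeF (checkPointF cert) (nat_lit 116100) (nat_lit 25) = true := by decide +kernel
theorem chkP_116125 : allRangeF (checkPointF cert) (nat_lit 116125) (nat_lit 25) = true := by decide +kernel
theorem chkP_116150 : allRangeF (checkPointF cert) (nat_lit 116150) (nat_lit 25) = true := by decide +kernel
theorem chkP_116175 : allRangeF (checkPointF cert) (nat_lit 116175) (nat_lit 25) = true := by decide +kernel
theorem chkP_116200 : allRangeF (checkPointF cert) (nat_lit 116200) (nat_lit 25) = true := by decide +kernel
theorem chkP_116225 : allRangeF (checkPointF cert) (nat_lit 116225) (nat_lit 25) = true := by decide +kernel
theorem chkP_116250 : allRangeF (checkPointF cert) (nat_lit 116250) (nat_lit 25) = true := by decide +kernel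
theorem chkP_116275 : allRangeF (checkPointF cert) (nat_lit 116275) (nat_lit 25) = true := by decide +kernel
theorem chkP_116300 : allRangeF (checkPointF cert) (nat_lit 116300) (nat_lit 25) = true := by decide +kernel
theorem chkP_116325 : allRangeF (checkPointF cert) (nat_lit 116325) (nat_lit 25) = true := by decide +kernel
theorem chkP_116350 : allRangeF (checkPointF cert) (nat_lit 116350) (nat_lit 25) = true := by decide +kernel
theorem chkP_116375 : allRangeF (checkPointF cert) (nat_lit 116375) (nat_lit 25) = true := by decide +kernel
theorem chkP_116400 : allRangeF (checkPointF cert) (nat_lit 116400) (nat_lit 25) = true := by decide +kernel
theorem chkP_116425 : allRangeF (checkPointF cert) (nat_lit 116425) (nat_lit 25) = true := by decide +kernel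
theorem chkP_116450 : allRangeF (checkPointF cert) (nat_lit 116450) (nat_lit 25) = true := by decide +kernel
theorem chkP_116475 : allRangeF (checkPointF cert) (nat_lit 116475) (nat_lit 25) = true := by decide +kernel
theorem chkP_116500 : allRangeF (checkPointF cert) (nat_lit 116500) (nat_lit 25) = true := by decide +kernel
theorem chkP_116525 : allRangeF (checkPointF cert) (nat_lit 116525) (nat_lit 25) = true := by decide +kernel
theorem chkP_116550 : allRangeF (checkPointF cert) (nat_lit 116550) (nat_lit 25) = true := by decide +kernel
theorem chkP_116575 : allRangeF (checkPointF cert) (nat_lit 116575) (nat_lit 25) = true := by decide +kernel
theorem chkP_116600 : allRangeF (checkPointF cert) (nat_lit 116600) (nat_lit 25) = true := by decide +kernel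
theorem chkP_116625 : allRangeF (checkPointF cert) (nat_lit 116625) (nat_lit 25) = true := by decide +kernel
theorem chkP_116650 : allRangeF (checkPointF cert) (nat_lit 116650) (nat_lit 25) = true := by decide +kernel
theorem chkP_116675 : allRangeF (checkPointF cert) (nat_lit 116675) (nat_lit 25) = true := by decide +kernel
theorem chkP_116700 : allRangeF (checkPointF cert) (nat_lit 116700) (nat_lit 25) = true := by decide +kernel
theorem chkP_116725 : allRangeF (checkPointF cert) (nat_lit 116725) (nat_lit 25) = true := by decide +kernel
theorem chkP_116750 : allRangeF (checkPointF cert) (nat_lit 116750) (nat_lit 25) = true := by decide +kernel
theorem chkP_116775 : allRangeF (checkPointF cert) (nat_lit 116775) (nat_lit 25) = true := by decide +kernel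
theorem chkP_116800 : allRangeF (checkPointF cert) (nat_lit 116800) (nat_lit 25) = true := by decide +kernel
theorem chkP_116825 : allRangeF (checkPointF cert) (nat_lit 116825) (nat_lit 25) = true := by decide +kernel
theorem chkP_116850 : allRangeF (checkPointF cert) (nat_lit 116850) (nat_lit 25) = true := by decide +kernel
theorem chkP_116875 : allRangeF (checkPointF cert) (nat_lit 116875) (nat_lit 25) = true := by decide +kernel
theorem chkP_116900 : allRangeF (checkPointF cert) (nat_lit 116900) (nat_lit 25) = true := by decide +kernel
theorem chkP_116925 : allRangeF (checkPointF cert) (nat_lit 116925) (nat_lit 25) = true := by decide +kernel
theorem chkP_116950 : allRangeF (checkPointF cert) (nat_lit 116950) (nat_lit 25) = true := by decide +kernel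
theorem chkP_116975 : allRangeF (checkPointF cert) (nat_lit 116975) (nat_lit 25) = true := by decide +kernel
theorem chkP_117000 : allRangeF (checkPointF cert) (nat_lit 117000) (nat_lit 25) = true := by decide +kernel
theorem chkP_117025 : allRangeF (checkPointF cert) (nat_lit 117025) (nat_lit 25) = true := by decide +kernel
theorem chkP_117050 : allRangeF (checkPointF cert) (nat_lit 117050) (nat_lit 25) = true := by decide +kernel
theorem chkP_117075 : allRangeF (checkPointF cert) (nat_lit 117075) (nat_lit 25) = true := by decide +kernel
theorem chkP_117100 : allRangeF (checkPointF cert) (nat_lit 117100) (nat_lit 25) = true := by decide +kernel
theorem chkP_117125 : allRangeF (checkPointF cert) (nat_lit 117125) (nat_lit 25) = true := by decide +kernel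
theorem chkP_117150 : allRangeF (checkPointF cert) (nat_lit 117150) (nat_lit 25) = true := by decide +kernel
theorem chkP_117175 : allRangeF (checkPointF cert) (nat_lit 117175) (nat_lit 25) = true := by decide +kernel
theorem chkP_117200 : allRangeF (checkPointF cert) (nat_lit 117200) (nat_lit 25) = true := by decide +kernel
theorem chkP_117225 : allRangeF (checkPointF cert) (nat_lit 117225) (nat_lit 25) = true := by decide +kernel
theorem chkP_117250 : allRangeF (checkPointF cert) (nat_lit 117250) (nat_lit 25) = true := by decide +kernel
theorem chkP_117275 : allRangeF (checkPointF cert) (nat_lit 117275) (nat_lit 25) = true := by decide +kernel
theorem chkP_117300 : allRangeF (checkPointF cert) (nat_lit 117300) (nat_lit 25) = true := by decide +kernel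
theorem chkP_117325 : allRangeF (checkPointF cert) (nat_lit 117325) (nat_lit 25) = true := by decide +kernel
theorem chkP_117350 : allRangeF (checkPointF cert) (nat_lit 117350) (nat_lit 25) = true := by decide +kernel
theorem chkP_117375 : allRangeF (checkPointF cert) (nat_lit 117375) (nat_lit 25) = true := by decide +kernel
theorem chkP_117400 : allRangeF (checkPointF cert) (nat_lit 117400) (nat_lit 25) = true := by decide +kernel
theorem chkP_117425 : allRangeF (checkPointF cert) (nat_lit 117425) (nat_lit 25) = true := by decide +kernel
theorem chkP_117450 : allRangeF (checkPointF cert) (nat_lit 117450) (nat_lit 25) = true := by decide +kernel
theorem chkP_117475 : allRangeF (checkPointF cert) (nat_lit 117475) (nat_lit 25) = true := by decide +kernel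
theorem chkP_117500 : allRangeF (checkPointF cert) (nat_lit 117500) (nat_lit 25) = true := by decide +kernel
theorem chkP_117525 : allRangeF (checkPointF cert) (nat_lit 117525) (nat_lit 25) = true := by decide +kernel
theorem chkP_117550 : allRangeF (checkPointF cert) (nat_lit 117550) (nat_lit 25) = true := by decide +kernel
theorem chkP_117575 : allRangeF (checkPointF cert) (nat_lit 117575) (nat_lit 25) = true := by decide +kernel
theorem chkP_117600 : allRangeF (checkPointF cert) (nat_lit 117600) (nat_lit 25) = true := by decide +kernel
theorem chkP_117625 : allRangeF (checkPointF cert) (nat_lit 117625) (nat_lit 25) = true := by decide +kernel
theorem chkP_117650 : allRangeF (checkPointF cert) (nat_lit 117650) (nat_lit 25) = true := by decide +kernel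
theorem chkP_117675 : allRangeF (checkPointF cert) (nat_lit 117675) (nat_lit 25) = true := by decide +kernel
theorem chkP_117700 : allRangeF (checkPointF cert) (nat_lit 117700) (nat_lit 25) = true := by decide +kernel
theorem chkP_117725 : allRangeF (checkPointF cert) (nat_lit 117725) (nat_lit 25) = true := by decide +kernel
theorem chkP_117750 : allRangeF (checkPointF cert) (nat_lit 117750) (nat_lit 25) = true := by decide +kernel
theorem chkP_117775 : allRangeF (checkPointF cert) (nat_lit 117775) (nat_lit 25) = true := by decide +kernel
theorem chkP_117800 : allRangeF (checkPointF cert) (nat_lit 117800) (nat_lit 25) = true := by decide +kernel
theorem chkP_117825 : allRangeF (checkPointF cert) (nat_lit 117825) (nat_lit 25) = true := by decide +kernel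
theorem chkP_117850 : allRangeF (checkPointF cert) (nat_lit 117850) (nat_lit 25) = true := by decide +kernel
theorem chkP_117875 : allRangeF (checkPointF cert) (nat_lit 117875) (nat_lit 25) = true := by decide +kernel
theorem chkP_117900 : allRangeF (checkPointF cert) (nat_lit 117900) (nat_lit 25) = true := by decide +kernel
theorem chkP_117925 : allRangeF (checkPointF cert) (nat_lit 117925) (nat_lit 25) = true := by decide +kernel
theorem chkP_117950 : allRangeF (checkPointF cert) (nat_lit 117950) (nat_lit 25) = true := by decide +kernel
theorem chkP_117975 : allRangeF (checkPointF cert) (nat_lit 117975) (nat_lit 25) = true := by decide +kernel
theorem chkP_118000 : allRangeF (checkPointF cert) (nat_lit 118000) (nat_lit 25) = true := by decide +kernel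
theorem chkP_118025 : allRangeF (checkPointF cert) (nat_lit 118025) (nat_lit 25) = true := by decide +kernel
theorem chkP_118050 : allRangeF (checkPointF cert) (nat_lit 118050) (nat_lit 25) = true := by decide +kernel
theorem chkP_118075 : allRangeF (checkPointF cert) (nat_lit 118075) (nat_lit 25) = true := by decide +kernel
theorem chkP_118100 : allRangeF (checkPointF cert) (nat_lit 118100) (nat_lit 25) = true := by decide +kernel
theorem chkP_118125 : allRangeF (checkPointF cert) (nat_lit 118125) (nat_lit 25) = true := by decide +kernel
theorem chkP_118150 : allRangeF (checkPointF cert) (nat_lit 118150) (nat_lit 25) = true := by decide +kernel
theorem chkP_118175 : allRangeF (checkPointF cert) (nat_lit 118175) (nat_lit 25) = true := by decide +kernel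
theorem chkP_118200 : allRangeF (checkPointF cert) (nat_lit 118200) (nat_lit 25) = true := by decide +kernel
theorem chkP_118225 : allRangeF (checkPointF cert) (nat_lit 118225) (nat_lit 25) = true := by decide +kernel
theorem chkP_118250 : allRangeF (checkPointF cert) (nat_lit 118250) (nat_lit 25) = true := by decide +kernel
theorem chkP_118275 : allRangeF (checkPointF cert) (nat_lit 118275) (nat_lit 25) = true := by decide +kernel
theorem chkP_118300 : allRangeF (checkPointF cert) (nat_lit 118300) (nat_lit 25) = true := by decide +kernel
theorem chkP_118325 : allRangeF (checkPointF cert) (nat_lit 118325) (nat_lit 25) = true := by decide +kernel
theorem chkP_118350 : allRangeF (checkPointF cert) (nat_lit 118350) (nat_lit 25) = true := by decide +kernel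
theorem chkP_118375 : allRangeF (checkPointF cert) (nat_lit 118375) (nat_lit 25) = true := by decide +kernel
theorem chkP_118400 : allRangeF (checkPointF cert) (nat_lit 118400) (nat_lit 25) = true := by decide +kernel
theorem chkP_118425 : allRangeF (checkPointF cert) (nat_lit 118425) (nat_lit 25) = true := by decide +kernel
theorem chkP_118450 : allRangeF (checkPointF cert) (nat_lit 118450) (nat_lit 25) = true := by decide +kernel
theorem chkP_118475 : allRangeF (checkPointF cert) (nat_lit 118475) (nat_lit 25) = true := by decide +kernel
theorem chkP_118500 : allRangeF (checkPointF cert) (nat_lit 118500) (nat_lit 25) = true := by decide +kernel
theorem chkP_118525 : allRangeF (checkPointF cert) (nat_lit 118525) (nat_lit 25) = true := by decide +kernel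
theorem chkP_118550 : allRangeF (checkPointF cert) (nat_lit 118550) (nat_lit 25) = true := by decide +kernel
theorem chkP_118575 : allRangeF (checkPointF cert) (nat_lit 118575) (nat_lit 25) = true := by decide +kernel
theorem chkP_118600 : allRangeF (checkPointF cert) (nat_lit 118600) (nat_lit 25) = true := by decide +kernel
theorem chkP_118625 : allRangeF (checkPointF cert) (nat_lit 118625) (nat_lit 25) = true := by decide +kernel
theorem chkP_118650 : allRangeF (checkPointF cert) (nat_lit 118650) (nat_lit 25) = true := by decide +kernel
theorem chkP_118675 : allRangeF (checkPointF cert) (nat_lit 118675) (nat_lit 25) = true := by decide +kernel
theorem chkP_118700 : allRangeF (checkPointF cert) (nat_lit 118700) (nat_lit 25) = true := by decide +kernel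
theorem chkP_118725 : allRangeF (checkPointF cert) (nat_lit 118725) (nat_lit 25) = true := by decide +kernel
theorem chkP_118750 : allRangeF (checkPointF cert) (nat_lit 118750) (nat_lit 25) = true := by decide +kernel
theorem chkP_118775 : allRangeF (checkPointF cert) (nat_lit 118775) (nat_lit 25) = true := by decide +kernel
theorem chkP_118800 : allRangeF (checkPointF cert) (nat_lit 118800) (nat_lit 25) = true := by decide +kernel
theorem chkP_118825 : allRangeF (checkPointF cert) (nat_lit 118825) (nat_lit 25) = true := by decide +kernel
theorem chkP_118850 : allRangeF (checkPointF cert) (nat_lit 118850) (nat_lit 25) = true := by decide +kernel
theorem chkP_118875 : allRangeF (checkPointF cert) (nat_lit 118875) (nat_lit 25) = true := by decide +kernel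
theorem chkP_118900 : allRangeF (checkPointF cert) (nat_lit 118900) (nat_lit 25) = true := by decide +kernel
theorem chkP_118925 : allRangeF (checkPointF cert) (nat_lit 118925) (nat_lit 25) = true := by decide +kernel
theorem chkP_118950 : allRangeF (checkPointF cert) (nat_lit 118950) (nat_lit 25) = true := by decide +kernel
theorem chkP_118975 : allRangeF (checkPointF cert) (nat_lit 118975) (nat_lit 25) = true := by decide +kernel
theorem chkP_119000 : allRangeF (checkPointF cert) (nat_lit 119000) (nat_lit 25) = true := by decide +kernel
theorem chkP_119025 : allRangeF (checkPointF cert) (nat_lit 119025) (nat_lit 25) = true := by decide +kernel
theorem chkP_119050 : allRangeF (checkPointF cert) (nat_lit 119050) (nat_lit 25) = true := by decide +kernel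
theorem chkP_119075 : allRangeF (checkPointF cert) (nat_lit 119075) (nat_lit 25) = true := by decide +kernel
theorem chkP_119100 : allRangeF (checkPointF cert) (nat_lit 119100) (nat_lit 25) = true := by decide +kernel
theorem chkP_119125 : allRangeF (checkPointF cert) (nat_lit 119125) (nat_lit 25) = true := by decide +kernel
theorem chkP_119150 : allRangeF (checkPointF cert) (nat_lit 119150) (nat_lit 25) = true := by decide +kernel
theorem chkP_119175 : allRangeF (checkPointF cert) (nat_lit 119175) (nat_lit 25) = true := by decide +kernel
theorem chkP_119200 : allRangeF (checkPointF cert) (nat_lit 119200) (nat_lit 25) = true := by decide +kernel
theorem chkP_119225 : allRangeF (checkPointF cert) (nat_lit 119225) (nat_lit 25) = true := by decide +kernel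
theorem chkP_119250 : allRangeF (checkPointF cert) (nat_lit 119250) (nat_lit 25) = true := by decide +kernel
theorem chkP_119275 : allRangeF (checkPointF cert) (nat_lit 119275) (nat_lit 25) = true := by decide +kernel
theorem chkP_119300 : allRangeF (checkPointF cert) (nat_lit 119300) (nat_lit 25) = true := by decide +kernel
theorem chkP_119325 : allRangeF (checkPointF cert) (nat_lit 119325) (nat_lit 25) = true := by decide +kernel
theorem chkP_119350 : allRangeF (checkPointF cert) (nat_lit 119350) (nat_lit 25) = true := by decide +kernel
theorem chkP_119375 : allRangeF (checkPointF cert) (nat_lit 119375) (nat_lit 25) = true := by decide +kernel
theorem chkP_119400 : allRangeF (checkPointF cert) (nat_lit 119400) (nat_lit 25) = true := by decide +kernel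
theorem chkP_119425 : allRangeF (checkPointF cert) (nat_lit 119425) (nat_lit 25) = true := by decide +kernel
theorem chkP_119450 : allRangeF (checkPointF cert) (nat_lit 119450) (nat_lit 25) = true := by decide +kernel
theorem chkP_119475 : allRangeF (checkPointF cert) (nat_lit 119475) (nat_lit 25) = true := by decide +kernel
theorem chkP_119500 : allRangeF (checkPointF cert) (nat_lit 119500) (nat_lit 25) = true := by decide +kernel
theorem chkP_119525 : allRangeF (checkPointF cert) (nat_lit 119525) (nat_lit 25) = true := by decide +kernel
theorem chkP_119550 : allRangeF (checkPointF cert) (nat_lit 119550) (nat_lit 25) = true := by decide +kernel
theorem chkP_119575 : allRangeF (checkPointF cert) (nat_lit 119575) (nat_lit 25) = true := by decide +kernel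
theorem chkP_119600 : allRangeF (checkPointF cert) (nat_lit 119600) (nat_lit 25) = true := by decide +kernel
theorem chkP_119625 : allRangeF (checkPointF cert) (nat_lit 119625) (nat_lit 25) = true := by decide +kernel
theorem chkP_119650 : allRangeF (checkPointF cert) (nat_lit 119650) (nat_lit 25) = true := by decide +kernel
theorem chkP_119675 : allRangeF (checkPointF cert) (nat_lit 119675) (nat_lit 25) = true := by decide +kernel
theorem chkP_119700 : allRangeF (checkPointF cert) (nat_lit 119700) (nat_lit 25) = true := by decide +kernel
theorem chkP_119725 : allRangeF (checkPointF cert) (nat_lit 119725) (nat_lit 25) = true := by decide +kernel
theorem chkP_119750 : allRangeF (checkPointF cert) (nat_lit 119750) (nat_lit 25) = true := by decide +kernel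
theorem chkP_119775 : allRangeF (checkPointF cert) (nat_lit 119775) (nat_lit 25) = true := by decide +kernel
theorem chkP_119800 : allRangeF (checkPointF cert) (nat_lit 119800) (nat_lit 25) = true := by decide +kernel
theorem chkP_119825 : allRangeF (checkPointF cert) (nat_lit 119825) (nat_lit 25) = true := by decide +kernel
theorem chkP_119850 : allRangeF (checkPointF cert) (nat_lit 119850) (nat_lit 25) = true := by decide +kernel
theorem chkP_119875 : allRangeF (checkPointF cert) (nat_lit 119875) (nat_lit 25) = true := by decide +kernel
theorem chkP_119900 : allRangeF (checkPointF cert) (nat_lit 119900) (nat_lit 25) = true := by decide +kernel
theorem chkP_119925 : allRangeF (checkPointF cert) (nat_lit 119925) (nat_lit 25) = true := by decide +kernel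
theorem chkP_119950 : allRangeF (checkPointF cert) (nat_lit 119950) (nat_lit 25) = true := by decide +kernel
theorem chkP_119975 : allRangeF (checkPointF cert) (nat_lit 119975) (nat_lit 25) = true := by decide +kernel
theorem chkP_120000 : allRangeF (checkPointF cert) (nat_lit 120000) (nat_lit 25) = true := by decide +kernel
theorem chkP_120025 : allRangeF (checkPointF cert) (nat_lit 120025) (nat_lit 25) = true := by decide +kernel
theorem chkP_120050 : allRangeF (checkPointF cert) (nat_lit 120050) (nat_lit 25) = true := by decide +kernel
theorem chkP_120075 : allRangeF (checkPointF cert) (nat_lit 120075) (nat_lit 25) = true := by decide +kernel
theorem chkP_120100 : allRangeF (checkPointF cert) (nat_lit 120100) (nat_lit 25) = true := by decide +kernel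
theorem chkP_120125 : allRangeF (checkPointF cert) (nat_lit 120125) (nat_lit 25) = true := by decide +kernel
theorem chkP_120150 : allRangeF (checkPointF cert) (nat_lit 120150) (nat_lit 25) = true := by decide +kernel
theorem chkP_120175 : allRangeF (checkPointF cert) (nat_lit 120175) (nat_lit 25) = true := by decide +kernel
theorem chkP_120200 : allRangeF (checkPointF cert) (nat_lit 120200) (nat_lit 25) = true := by decide +kernel
theorem chkP_120225 : allRangeF (checkPointF cert) (nat_lit 120225) (nat_lit 25) = true := by decide +kernel
theorem chkP_120250 : allRangeF (checkPointF cert) (nat_lit 120250) (nat_lit 25) = true := by decide +kernel
theorem chkP_120275 : allRangeF (checkPointF cert) (nat_lit 120275) (nat_lit 25) = true := by decide +kernel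
theorem chkP_120300 : allRangeF (checkPointF cert) (nat_lit 120300) (nat_lit 25) = true := by decide +kernel
theorem chkP_120325 : allRangeF (checkPointF cert) (nat_lit 120325) (nat_lit 25) = true := by decide +kernel
theorem chkP_120350 : allRangeF (checkPointF cert) (nat_lit 120350) (nat_lit 25) = true := by decide +kernel
theorem chkP_120375 : allRangeF (checkPointF cert) (nat_lit 120375) (nat_lit 25) = true := by decide +kernel
theorem chkP_120400 : allRangeF (checkPointF cert) (nat_lit 120400) (nat_lit 25) = true := by decide +kernel
theorem chkP_120425 : allRangeF (checkPointF cert) (nat_lit 120425) (nat_lit 25) = true := by decide +kernel
theorem chkP_120450 : allRangeF (checkPointF cert) (nat_lit 120450) (nat_lit 25) = true := by decide +kernel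
theorem chkP_120475 : allRangeF (checkPointF cert) (nat_lit 120475) (nat_lit 25) = true := by decide +kernel
theorem chkP_120500 : allRangeF (checkPointF cert) (nat_lit 120500) (nat_lit 25) = true := by decide +kernel
theorem chkP_120525 : allRangeF (checkPointF cert) (nat_lit 120525) (nat_lit 25) = true := by decide +kernel
theorem chkP_120550 : allRangeF (checkPointF cert) (nat_lit 120550) (nat_lit 25) = true := by decide +kernel
theorem chkP_120575 : allRangeF (checkPointF cert) (nat_lit 120575) (nat_lit 25) = true := by decide +kernel
theorem chkP_120600 : allRangeF (checkPointF cert) (nat_lit 120600) (nat_lit 25) = true := by decide +kernel
theorem chkP_120625 : allRangeF (checkPointF cert) (nat_lit 120625) (nat_lit 25) = true := by decide +kernel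
theorem chkP_120650 : allRangeF (checkPointF cert) (nat_lit 120650) (nat_lit 25) = true := by decide +kernel
theorem chkP_120675 : allRangeF (checkPointF cert) (nat_lit 120675) (nat_lit 25) = true := by decide +kernel
theorem chkP_120700 : allRangeF (checkPointF cert) (nat_lit 120700) (nat_lit 25) = true := by decide +kernel
theorem chkP_120725 : allRangeF (checkPointF cert) (nat_lit 120725) (nat_lit 25) = true := by decide +kernel
theorem chkP_120750 : allRangeF (checkPointF cert) (nat_lit 120750) (nat_lit 25) = true := by decide +kernel
theorem chkP_120775 : allRangeF (checkPointF cert) (nat_lit 120775) (nat_lit 25) = true := by decide +kernel
theorem chkP_120800 : allRangeF (checkPointF cert) (nat_lit 120800) (nat_lit 25) = true := by decide +kernel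
theorem chkP_120825 : allRangeF (checkPointF cert) (nat_lit 120825) (nat_lit 25) = true := by decide +kernel
theorem chkP_120850 : allRangeF (checkPointF cert) (nat_lit 120850) (nat_lit 25) = true := by decide +kernel
theorem chkP_120875 : allRangeF (checkPointF cert) (nat_lit 120875) (nat_lit 25) = true := by decide +kernel
theorem chkP_120900 : allRangeF (checkPointF cert) (nat_lit 120900) (nat_lit 25) = true := by decide +kernel
theorem chkP_120925 : allRangeF (checkPointF cert) (nat_lit 120925) (nat_lit 25) = true := by decide +kernel
theorem chkP_120950 : allRangeF (checkPointF cert) (nat_lit 120950) (nat_lit 25) = true := by decide +kernel
theorem chkP_120975 : allRangeF (checkPointF cert) (nat_lit 120975) (nat_lit 25) = true := by decide +kernel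
theorem chkP_121000 : allRangeF (checkPointF cert) (nat_lit 121000) (nat_lit 25) = true := by decide +kernel
theorem chkP_121025 : allRangeF (checkPointF cert) (nat_lit 121025) (nat_lit 25) = true := by decide +kernel
theorem chkP_121050 : allRangeF (checkPointF cert) (nat_lit 121050) (nat_lit 25) = true := by decide +kernel
theorem chkP_121075 : allRangeF (checkPointF cert) (nat_lit 121075) (nat_lit 25) = true := by decide +kernel
theorem chkP_121100 : allRangeF (checkPointF cert) (nat_lit 121100) (nat_lit 25) = true := by decide +kernel
theorem chkP_121125 : allRangeF (checkPointF cert) (nat_lit 121125) (nat_lit 25) = true := by decide +kernel
theorem chkP_121150 : allRangeF (checkPointF cert) (nat_lit 121150) (nat_lit 25) = true := by decide +kernel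
theorem chkP_121175 : allRangeF (checkPointF cert) (nat_lit 121175) (nat_lit 25) = true := by decide +kernel
theorem chkP_121200 : allRangeF (checkPointF cert) (nat_lit 121200) (nat_lit 25) = true := by decide +kernel
theorem chkP_121225 : allRangeF (checkPointF cert) (nat_lit 121225) (nat_lit 25) = true := by decide +kernel
theorem chkP_121250 : allRangeF (checkPointF cert) (nat_lit 121250) (nat_lit 25) = true := by decide +kernel
theorem chkP_121275 : allRangeF (checkPointF cert) (nat_lit 121275) (nat_lit 25) = true := by decide +kernel
theorem chkP_121300 : allRangeF (checkPointF cert) (nat_lit 121300) (nat_lit 25) = true := by decide +kernel
theorem chkP_121325 : allRangeF (checkPointF cert) (nat_lit 121325) (nat_lit 25) = true := by decide +kernel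
theorem chkP_121350 : allRangeF (checkPointF cert) (nat_lit 121350) (nat_lit 25) = true := by decide +kernel
theorem chkP_121375 : allRangeF (checkPointF cert) (nat_lit 121375) (nat_lit 25) = true := by decide +kernel
theorem chkP_121400 : allRangeF (checkPointF cert) (nat_lit 121400) (nat_lit 25) = true := by decide +kernel
theorem chkP_121425 : allRangeF (checkPointF cert) (nat_lit 121425) (nat_lit 25) = true := by decide +kernel
theorem chkP_121450 : allRangeF (checkPointF cert) (nat_lit 121450) (nat_lit 25) = true := by decide +kernel
theorem chkP_121475 : allRangeF (checkPointF cert) (nat_lit 121475) (nat_lit 25) = true := by decide +kernel
theorem chkP_121500 : allRangeF (checkPointF cert) (nat_lit 121500) (nat_lit 25) = true := by decide +kernel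
theorem chkP_121525 : allRangeF (checkPointF cert) (nat_lit 121525) (nat_lit 25) = true := by decide +kernel
theorem chkP_121550 : allRangeF (checkPointF cert) (nat_lit 121550) (nat_lit 25) = true := by decide +kernel
theorem chkP_121575 : allRangeF (checkPointF cert) (nat_lit 121575) (nat_lit 25) = true := by decide +kernel
theorem chkP_121600 : allRangeF (checkPointF cert) (nat_lit 121600) (nat_lit 25) = true := by decide +kernel
theorem chkP_121625 : allRangeF (checkPointF cert) (nat_lit 121625) (nat_lit 25) = true := by decide +kernel
theorem chkP_121650 : allRangeF (checkPointF cert) (nat_lit 121650) (nat_lit 25) = true := by decide +kernel
theorem chkP_121675 : allRangeF (checkPointF cert) (nat_lit 121675) (nat_lit 25) = true := by decide +kernel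
theorem chkP_121700 : allRangeF (checkPointF cert) (nat_lit 121700) (nat_lit 25) = true := by decide +kernel
theorem chkP_121725 : allRangeF (checkPointF cert) (nat_lit 121725) (nat_lit 25) = true := by decide +kernel
theorem chkP_121750 : allRangeF (checkPointF cert) (nat_lit 121750) (nat_lit 25) = true := by decide +kernel
theorem chkP_121775 : allRangeF (checkPointF cert) (nat_lit 121775) (nat_lit 25) = true := by decide +kernel
theorem chkP_121800 : allRangeF (checkPointF cert) (nat_lit 121800) (nat_lit 25) = true := by decide +kernel
theorem chkP_121825 : allRangeF (checkPointF cert) (nat_lit 121825) (nat_lit 25) = true := by decide +kernel
theorem chkP_121850 : allRangeF (checkPointF cert) (nat_lit 121850) (nat_lit 25) = true := by decide +kernel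
theorem chkP_121875 : allRangeF (checkPointF cert) (nat_lit 121875) (nat_lit 25) = true := by decide +kernel
theorem chkP_121900 : allRangeF (checkPointF cert) (nat_lit 121900) (nat_lit 25) = true := by decide +kernel
theorem chkP_121925 : allRangeF (checkPointF cert) (nat_lit 121925) (nat_lit 25) = true := by decide +kernel
theorem chkP_121950 : allRangeF (checkPointF cert) (nat_lit 121950) (nat_lit 25) = true := by decide +kernel
theorem chkP_121975 : allRangeF (checkPointF cert) (nat_lit 121975) (nat_lit 25) = true := by decide +kernel
theorem chkP_122000 : allRangeF (checkPointF cert) (nat_lit 122000) (nat_lit 25) = true := by decide +kernel
theorem chkP_122025 : allRangeF (checkPointF cert) (nat_lit 122025) (nat_lit 25) = true := by decide +kernel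
theorem chkP_122050 : allRangeF (checkPointF cert) (nat_lit 122050) (nat_lit 25) = true := by decide +kernel
theorem chkP_122075 : allRangeF (checkPointF cert) (nat_lit 122075) (nat_lit 25) = true := by decide +kernel
theorem chkP_122100 : allRangeF (checkPointF cert) (nat_lit 122100) (nat_lit 25) = true := by decide +kernel
theorem chkP_122125 : allRangeF (checkPointF cert) (nat_lit 122125) (nat_lit 25) = true := by decide +kernel
theorem chkP_122150 : allRangeF (checkPointF cert) (nat_lit 122150) (nat_lit 25) = true := by decide +kernel
theorem chkP_122175 : allRangeF (checkPointF cert) (nat_lit 122175) (nat_lit 25) = true := by decide +kernel
theorem chkP_122200 : allRangeF (checkPointF cert) (nat_lit 122200) (nat_lit 25) = true := by decide +kernel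
theorem chkP_122225 : allRangeF (checkPointF cert) (nat_lit 122225) (nat_lit 25) = true := by decide +kernel
theorem chkP_122250 : allRangeF (checkPointF cert) (nat_lit 122250) (nat_lit 25) = true := by decide +kernel
theorem chkP_122275 : allRangeF (checkPointF cert) (nat_lit 122275) (nat_lit 25) = true := by decide +kernel
theorem chkP_122300 : allRangeF (checkPointF cert) (nat_lit 122300) (nat_lit 25) = true := by decide +kernel
theorem chkP_122325 : allRangeF (checkPointF cert) (nat_lit 122325) (nat_lit 25) = true := by decide +kernel
theorem chkP_122350 : allRangeF (checkPointF cert) (nat_lit 122350) (nat_lit 25) = true := by decide +kernel
theorem chkP_122375 : allRangeF (checkPointF cert) (nat_lit 122375) (nat_lit 25) = true := by decide +kernel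
theorem chkP_122400 : allRangeF (checkPointF cert) (nat_lit 122400) (nat_lit 25) = true := by decide +kernel
theorem chkP_122425 : allRangeF (checkPointF cert) (nat_lit 122425) (nat_lit 25) = true := by decide +kernel
theorem chkP_122450 : allRangeF (checkPointF cert) (nat_lit 122450) (nat_lit 25) = true := by decide +kernel
theorem chkP_122475 : allRangeF (checkPointF cert) (nat_lit 122475) (nat_lit 25) = true := by decide +kernel
theorem chkP_122500 : allRangeF (checkPointF cert) (nat_lit 122500) (nat_lit 25) = true := by decide +kernel
theorem chkP_122525 : allRangeF (checkPointF cert) (nat_lit 122525) (nat_lit 25) = true := by decide +kernel
theorem chkP_122550 : allRangeF (checkPointF cert) (nat_lit 122550) (nat_lit 25) = true := by decide +kernel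
theorem chkP_122575 : allRangeF (checkPointF cert) (nat_lit 122575) (nat_lit 25) = true := by decide +kernel
theorem chkP_122600 : allRangeF (checkPointF cert) (nat_lit 122600) (nat_lit 25) = true := by decide +kernel
theorem chkP_122625 : allRangeF (checkPointF cert) (nat_lit 122625) (nat_lit 25) = true := by decide +kernel
theorem chkP_122650 : allRangeF (checkPointF cert) (nat_lit 122650) (nat_lit 25) = true := by decide +kernel
theorem chkP_122675 : allRangeF (checkPointF cert) (nat_lit 122675) (nat_lit 25) = true := by decide +kernel
theorem chkP_122700 : allRangeF (checkPointF cert) (nat_lit 122700) (nat_lit 25) = true := by decide +kernel
theorem chkP_122725 : allRangeF (checkPointF cert) (nat_lit 122725) (nat_lit 25) = true := by decide +kernel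
theorem chkP_122750 : allRangeF (checkPointF cert) (nat_lit 122750) (nat_lit 25) = true := by decide +kernel
theorem chkP_122775 : allRangeF (checkPointF cert) (nat_lit 122775) (nat_lit 25) = true := by decide +kernel

theorem ptsRange_15 : ∀ i, 115125 ≤ i → i < 122800 → checkPoint cert i = true := by
  intro i hlo hhi
  rcases Nat.lt_or_ge i 118950 with h1 | h1
  · skip
    rcases Nat.lt_or_ge i 117025 with h2 | h2
    · skip
      rcases Nat.lt_or_ge i 116075 with h3 | h3
      · skip
        rcases Nat.lt_or_ge i 115600 with h4 | h4
        · skip
          rcases Nat.lt_or_ge i 115350 with h5 | h5
          · skip
            rcases Nat.lt_or_ge i 115225 with h6 | h6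
            · skip
              rcases Nat.lt_or_ge i 115175 with h7 | h7
              · skip
                rcases Nat.lt_or_ge i 115150 with h8 | h8
                · skip
                  exact allRangeF_sound _ _ (checkPointF_eq cert) 115125 25 chkP_115125 i (by omega) (by omega)
                · skip
                  exact allRangeF_sound _ _ (checkPointF_eq cert) 115150 25 chkP_115150 i (by omega) (by omega)
              · skip
                rcases Nat.lt_or_ge i 115200 with h8 | h8
                · skip
                  exact allRangeF_sound _ _ (checkPointF_eq cert) 115175 25 chkP_115175 i (by omega) (by omega)
                · skip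
                  exact allRangeF_sound _ _ (checkPointF_eq cert) 115200 25 chkP_115200 i (by omega) (by omega)
            · skip
              rcases Nat.lt_or_ge i 115275 with h7 | h7
              · skip
                rcases Nat.lt_or_ge i 115250 with h8 | h8
                · skip
                  exact allRangeF_sound _ _ (checkPointF_eq cert) 115225 25 chkP_115225 i (by omega) (by omega)
                · skip
                  exact allRangeF_sound _ _ (checkPointF_eq cert) 115250 25 chkP_115250 i (by omega) (by omega)
              · skip
                rcases Nat.lt_or_ge i 115300 with h8 | h8
                · skip
                  exact allRangeF_sound _ _ (checkPointF_eq cert) 115275 25 chkP_115275 i (by omega) (by omega)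
                · skip
                  rcases Nat.lt_or_ge i 115325 with h9 | h9
                  · skip
                    exact allRangeF_sound _ _ (checkPointF_eq cert) 115300 25 chkP_115300 i (by omega) (by omega)
                  · skip
                    exact allRangeF_sound _ _ (checkPointF_eq cert) 115325 25 chkP_115325 i (by omega) (by omega)
          · skip
            rcases Nat.lt_or_ge i 115475 with h6 | h6
            · skip
              rcases Nat.lt_or_ge i 115400 with h7 | h7
              · skip
                rcases Nat.lt_or_ge i 115375 with h8 | h8
                · skip
                  exact allRangeF_sound _ _ (checkPointF_eq cert) 115350 25 chkP_115350 i (by omega) (by omega)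
                · skip
                  exact allRangeF_sound _ _ (checkPointF_eq cert) 115375 25 chkP_115375 i (by omega) (by omega)
              · skip
                rcases Nat.lt_or_ge i 115425 with h8 | h8
                · skip
                  exact allRangeF_sound _ _ (checkPointF_eq cert) 115400 25 chkP_115400 i (by omega) (by omega)
                · skip
                  rcases Nat.lt_or_ge i 115450 with h9 | h9
                  · skip
                    exact allRangeF_sound _ _ (checkPointF_eq cert) 115425 25 chkP_115425 i (by omega) (by omega)
                  · skip
                    exact allRangeF_sound _ _ (checkPointF_eq cert) 115450 25 chkP_115450 i (by omega) (by omega)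
            · skip
              rcases Nat.lt_or_ge i 115525 with h7 | h7
              · skip
                rcases Nat.lt_or_ge i 115500 with h8 | h8
                · skip
                  exact allRangeF_sound _ _ (checkPointF_eq cert) 115475 25 chkP_115475 i (by omega) (by omega)
                · skip
                  exact allRangeF_sound _ _ (checkPointF_eq cert) 115500 25 chkP_115500 i (by omega) (by omega)
              · skip
                rcases Nat.lt_or_ge i 115550 with h8 | h8
                · skip
                  exact allRangeF_sound _ _ (checkPointF_eq cert) 115525 25 chkP_115525 i (by omega) (by omega)
                · skip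
                  rcases Nat.lt_or_ge i 115575 with h9 | h9
                  · skip
                    exact allRangeF_sound _ _ (checkPointF_eq cert) 115550 25 chkP_115550 i (by omega) (by omega)
                  · skip
                    exact allRangeF_sound _ _ (checkPointF_eq cert) 115575 25 chkP_115575 i (by omega) (by omega)
        · skip
          rcases Nat.lt_or_ge i 115825 with h5 | h5
          · skip
            rcases Nat.lt_or_ge i 115700 with h6 | h6
            · skip
              rcases Nat.lt_or_ge i 115650 with h7 | h7
              · skip
                rcases Nat.lt_or_ge i 115625 with h8 | h8
                · skip
                  exact allRangeF_sound _ _ (checkPointF_eq cert) 115600 25 chkP_115600 i (by omega) (by omega)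
                · skip
                  exact allRangeF_sound _ _ (checkPointF_eq cert) 115625 25 chkP_115625 i (by omega) (by omega)
              · skip
                rcases Nat.lt_or_ge i 115675 with h8 | h8
                · skip
                  exact allRangeF_sound _ _ (checkPointF_eq cert) 115650 25 chkP_115650 i (by omega) (by omega)
                · skip
                  exact allRangeF_sound _ _ (checkPointF_eq cert) 115675 25 chkP_115675 i (by omega) (by omega)
            · skip
              rcases Nat.lt_or_ge i 115750 with h7 | h7
              · skip
                rcases Nat.lt_or_ge i 115725 with h8 | h8
                · skip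
                  exact allRangeF_sound _ _ (checkPointF_eq cert) 115700 25 chkP_115700 i (by omega) (by omega)
                · skip
                  exact allRangeF_sound _ _ (checkPointF_eq cert) 115725 25 chkP_115725 i (by omega) (by omega)
              · skip
                rcases Nat.lt_or_ge i 115775 with h8 | h8
                · skip
                  exact allRangeF_sound _ _ (checkPointF_eq cert) 115750 25 chkP_115750 i (by omega) (by omega)
                · skip
                  rcases Nat.lt_or_ge i 115800 with h9 | h9
                  · skip
                    exact allRangeF_sound _ _ (checkPointF_eq cert) 115775 25 chkP_115775 i (by omega) (by omega)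
                  · skip
                    exact allRangeF_sound _ _ (checkPointF_eq cert) 115800 25 chkP_115800 i (by omega) (by omega)
          · skip
            rcases Nat.lt_or_ge i 115950 with h6 | h6
            · skip
              rcases Nat.lt_or_ge i 115875 with h7 | h7
              · skip
                rcases Nat.lt_or_ge i 115850 with h8 | h8
                · skip
                  exact allRangeF_sound _ _ (checkPointF_eq cert) 115825 25 chkP_115825 i (by omega) (by omega)
                · skip
                  exact allRangeF_sound _ _ (checkPointF_eq cert) 115850 25 chkP_115850 i (by omega) (by omega)
              · skip
                rcases Nat.lt_or_ge i 115900 with h8 | h8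
                · skip
                  exact allRangeF_sound _ _ (checkPointF_eq cert) 115875 25 chkP_115875 i (by omega) (by omega)
                · skip
                  rcases Nat.lt_or_ge i 115925 with h9 | h9
                  · skip
                    exact allRangeF_sound _ _ (checkPointF_eq cert) 115900 25 chkP_115900 i (by omega) (by omega)
                  · skip
                    exact allRangeF_sound _ _ (checkPointF_eq cert) 115925 25 chkP_115925 i (by omega) (by omega)
            · skip
              rcases Nat.lt_or_ge i 116000 with h7 | h7
              · skip
                rcases Nat.lt_or_ge i 115975 with h8 | h8
                · skip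
                  exact allRangeF_sound _ _ (checkPointF_eq cert) 115950 25 chkP_115950 i (by omega) (by omega)
                · skip
                  exact allRangeF_sound _ _ (checkPointF_eq cert) 115975 25 chkP_115975 i (by omega) (by omega)
              · skip
                rcases Nat.lt_or_ge i 116025 with h8 | h8
                · skip
                  exact allRangeF_sound _ _ (checkPointF_eq cert) 116000 25 chkP_116000 i (by omega) (by omega)
                · skip
                  rcases Nat.lt_or_ge i 116050 with h9 | h9
                  · skip
                    exact allRangeF_sound _ _ (checkPointF_eq cert) 116025 25 chkP_116025 i (by omega) (by omega)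
                  · skip
                    exact allRangeF_sound _ _ (checkPointF_eq cert) 116050 25 chkP_116050 i (by omega) (by omega)
      · skip
        rcases Nat.lt_or_ge i 116550 with h4 | h4
        · skip
          rcases Nat.lt_or_ge i 116300 with h5 | h5
          · skip
            rcases Nat.lt_or_ge i 116175 with h6 | h6
            · skip
              rcases Nat.lt_or_ge i 116125 with h7 | h7
              · skip
                rcases Nat.lt_or_ge i 116100 with h8 | h8
                · skip
                  exact allRangeF_sound _ _ (checkPointF_eq cert) 116075 25 chkP_116075 i (by omega) (by omega)
                · skip
                  exact allRangeF_sound _ _ (checkPointF_eq cert) 116100 25 chkP_116100 i (by omega) (by omega)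
              · skip
                rcases Nat.lt_or_ge i 116150 with h8 | h8
                · skip
                  exact allRangeF_sound _ _ (checkPointF_eq cert) 116125 25 chkP_116125 i (by omega) (by omega)
                · skip
                  exact allRangeF_sound _ _ (checkPointF_eq cert) 116150 25 chkP_116150 i (by omega) (by omega)
            · skip
              rcases Nat.lt_or_ge i 116225 with h7 | h7
              · skip
                rcases Nat.lt_or_ge i 116200 with h8 | h8
                · skip
                  exact allRangeF_sound _ _ (checkPointF_eq cert) 116175 25 chkP_116175 i (by omega) (by omega)
                · skip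
                  exact allRangeF_sound _ _ (checkPointF_eq cert) 116200 25 chkP_116200 i (by omega) (by omega)
              · skip
                rcases Nat.lt_or_ge i 116250 with h8 | h8
                · skip
                  exact allRangeF_sound _ _ (checkPointF_eq cert) 116225 25 chkP_116225 i (by omega) (by omega)
                · skip
                  rcases Nat.lt_or_ge i 116275 with h9 | h9
                  · skip
                    exact allRangeF_sound _ _ (checkPointF_eq cert) 116250 25 chkP_116250 i (by omega) (by omega)
                  · skip
                    exact allRangeF_sound _ _ (checkPointF_eq cert) 116275 25 chkP_116275 i (by omega) (by omega)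
          · skip
            rcases Nat.lt_or_ge i 116425 with h6 | h6
            · skip
              rcases Nat.lt_or_ge i 116350 with h7 | h7
              · skip
                rcases Nat.lt_or_ge i 116325 with h8 | h8
                · skip
                  exact allRangeF_sound _ _ (checkPointF_eq cert) 116300 25 chkP_116300 i (by omega) (by omega)
                · skip
                  exact allRangeF_sound _ _ (checkPointF_eq cert) 116325 25 chkP_116325 i (by omega) (by omega)
              · skip
                rcases Nat.lt_or_ge i 116375 with h8 | h8
                · skip
                  exact allRangeF_sound _ _ (checkPointF_eq cert) 116350 25 chkP_116350 i (by omega) (by omega)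
                · skip
                  rcases Nat.lt_or_ge i 116400 with h9 | h9
                  · skip
                    exact allRangeF_sound _ _ (checkPointF_eq cert) 116375 25 chkP_116375 i (by omega) (by omega)
                  · skip
                    exact allRangeF_sound _ _ (checkPointF_eq cert) 116400 25 chkP_116400 i (by omega) (by omega)
            · skip
              rcases Nat.lt_or_ge i 116475 with h7 | h7
              · skip
                rcases Nat.lt_or_ge i 116450 with h8 | h8
                · skip
                  exact allRangeF_sound _ _ (checkPointF_eq cert) 116425 25 chkP_116425 i (by omega) (by omega)
                · skip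
                  exact allRangeF_sound _ _ (checkPointF_eq cert) 116450 25 chkP_116450 i (by omega) (by omega)
              · skip
                rcases Nat.lt_or_ge i 116500 with h8 | h8
                · skip
                  exact allRangeF_sound _ _ (checkPointF_eq cert) 116475 25 chkP_116475 i (by omega) (by omega)
                · skip
                  rcases Nat.lt_or_ge i 116525 with h9 | h9
                  · skip
                    exact allRangeF_sound _ _ (checkPointF_eq cert) 116500 25 chkP_116500 i (by omega) (by omega)
                  · skip
                    exact allRangeF_sound _ _ (checkPointF_eq cert) 116525 25 chkP_116525 i (by omega) (by omega)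
        · skip
          rcases Nat.lt_or_ge i 116775 with h5 | h5
          · skip
            rcases Nat.lt_or_ge i 116650 with h6 | h6
            · skip
              rcases Nat.lt_or_ge i 116600 with h7 | h7
              · skip
                rcases Nat.lt_or_ge i 116575 with h8 | h8
                · skip
                  exact allRangeF_sound _ _ (checkPointF_eq cert) 116550 25 chkP_116550 i (by omega) (by omega)
                · skip
                  exact allRangeF_sound _ _ (checkPointF_eq cert) 116575 25 chkP_116575 i (by omega) (by omega)
              · skip
                rcases Nat.lt_or_ge i 116625 with h8 | h8
                · skip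
                  exact allRangeF_sound _ _ (checkPointF_eq cert) 116600 25 chkP_116600 i (by omega) (by omega)
                · skip
                  exact allRangeF_sound _ _ (checkPointF_eq cert) 116625 25 chkP_116625 i (by omega) (by omega)
            · skip
              rcases Nat.lt_or_ge i 116700 with h7 | h7
              · skip
                rcases Nat.lt_or_ge i 116675 with h8 | h8
                · skip
                  exact allRangeF_sound _ _ (checkPointF_eq cert) 116650 25 chkP_116650 i (by omega) (by omega)
                · skip
                  exact allRangeF_sound _ _ (checkPointF_eq cert) 116675 25 chkP_116675 i (by omega) (by omega)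
              · skip
                rcases Nat.lt_or_ge i 116725 with h8 | h8
                · skip
                  exact allRangeF_sound _ _ (checkPointF_eq cert) 116700 25 chkP_116700 i (by omega) (by omega)
                · skip
                  rcases Nat.lt_or_ge i 116750 with h9 | h9
                  · skip
                    exact allRangeF_sound _ _ (checkPointF_eq cert) 116725 25 chkP_116725 i (by omega) (by omega)
                  · skip
                    exact allRangeF_sound _ _ (checkPointF_eq cert) 116750 25 chkP_116750 i (by omega) (by omega)
          · skip
            rcases Nat.lt_or_ge i 116900 with h6 | h6
            · skip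
              rcases Nat.lt_or_ge i 116825 with h7 | h7
              · skip
                rcases Nat.lt_or_ge i 116800 with h8 | h8
                · skip
                  exact allRangeF_sound _ _ (checkPointF_eq cert) 116775 25 chkP_116775 i (by omega) (by omega)
                · skip
                  exact allRangeF_sound _ _ (checkPointF_eq cert) 116800 25 chkP_116800 i (by omega) (by omega)
              · skip
                rcases Nat.lt_or_ge i 116850 with h8 | h8
                · skip
                  exact allRangeF_sound _ _ (checkPointF_eq cert) 116825 25 chkP_116825 i (by omega) (by omega)
                · skip
                  rcases Nat.lt_or_ge i 116875 with h9 | h9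
                  · skip
                    exact allRangeF_sound _ _ (checkPointF_eq cert) 116850 25 chkP_116850 i (by omega) (by omega)
                  · skip
                    exact allRangeF_sound _ _ (checkPointF_eq cert) 116875 25 chkP_116875 i (by omega) (by omega)
            · skip
              rcases Nat.lt_or_ge i 116950 with h7 | h7
              · skip
                rcases Nat.lt_or_ge i 116925 with h8 | h8
                · skip
                  exact allRangeF_sound _ _ (checkPointF_eq cert) 116900 25 chkP_116900 i (by omega) (by omega)
                · skip
                  exact allRangeF_sound _ _ (checkPointF_eq cert) 116925 25 chkP_116925 i (by omega) (by omega)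
              · skip
                rcases Nat.lt_or_ge i 116975 with h8 | h8
                · skip
                  exact allRangeF_sound _ _ (checkPointF_eq cert) 116950 25 chkP_116950 i (by omega) (by omega)
                · skip
                  rcases Nat.lt_or_ge i 117000 with h9 | h9
                  · skip
                    exact allRangeF_sound _ _ (checkPointF_eq cert) 116975 25 chkP_116975 i (by omega) (by omega)
                  · skip
                    exact allRangeF_sound _ _ (checkPointF_eq cert) 117000 25 chkP_117000 i (by omega) (by omega)
    · skip
      rcases Nat.lt_or_ge i 117975 with h3 | h3
      · skip
        rcases Nat.lt_or_ge i 117500 with h4 | h4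
        · skip
          rcases Nat.lt_or_ge i 117250 with h5 | h5
          · skip
            rcases Nat.lt_or_ge i 117125 with h6 | h6
            · skip
              rcases Nat.lt_or_ge i 117075 with h7 | h7
              · skip
                rcases Nat.lt_or_ge i 117050 with h8 | h8
                · skip
                  exact allRangeF_sound _ _ (checkPointF_eq cert) 117025 25 chkP_117025 i (by omega) (by omega)
                · skip
                  exact allRangeF_sound _ _ (checkPointF_eq cert) 117050 25 chkP_117050 i (by omega) (by omega)
              · skip
                rcases Nat.lt_or_ge i 117100 with h8 | h8
                · skip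
                  exact allRangeF_sound _ _ (checkPointF_eq cert) 117075 25 chkP_117075 i (by omega) (by omega)
                · skip
                  exact allRangeF_sound _ _ (checkPointF_eq cert) 117100 25 chkP_117100 i (by omega) (by omega)
            · skip
              rcases Nat.lt_or_ge i 117175 with h7 | h7
              · skip
                rcases Nat.lt_or_ge i 117150 with h8 | h8
                · skip
                  exact allRangeF_sound _ _ (checkPointF_eq cert) 117125 25 chkP_117125 i (by omega) (by omega)
                · skip
                  exact allRangeF_sound _ _ (checkPointF_eq cert) 117150 25 chkP_117150 i (by omega) (by omega)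
              · skip
                rcases Nat.lt_or_ge i 117200 with h8 | h8
                · skip
                  exact allRangeF_sound _ _ (checkPointF_eq cert) 117175 25 chkP_117175 i (by omega) (by omega)
                · skip
                  rcases Nat.lt_or_ge i 117225 with h9 | h9
                  · skip
                    exact allRangeF_sound _ _ (checkPointF_eq cert) 117200 25 chkP_117200 i (by omega) (by omega)
                  · skip
                    exact allRangeF_sound _ _ (checkPointF_eq cert) 117225 25 chkP_117225 i (by omega) (by omega)
          · skip
            rcases Nat.lt_or_ge i 117375 with h6 | h6
            · skip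
              rcases Nat.lt_or_ge i 117300 with h7 | h7
              · skip
                rcases Nat.lt_or_ge i 117275 with h8 | h8
                · skip
                  exact allRangeF_sound _ _ (checkPointF_eq cert) 117250 25 chkP_117250 i (by omega) (by omega)
                · skip
                  exact allRangeF_sound _ _ (checkPointF_eq cert) 117275 25 chkP_117275 i (by omega) (by omega)
              · skip
                rcases Nat.lt_or_ge i 117325 with h8 | h8
                · skip
                  exact allRangeF_sound _ _ (checkPointF_eq cert) 117300 25 chkP_117300 i (by omega) (by omega)
                · skip
                  rcases Nat.lt_or_ge i 117350 with h9 | h9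
                  · skip
                    exact allRangeF_sound _ _ (checkPointF_eq cert) 117325 25 chkP_117325 i (by omega) (by omega)
                  · skip
                    exact allRangeF_sound _ _ (checkPointF_eq cert) 117350 25 chkP_117350 i (by omega) (by omega)
            · skip
              rcases Nat.lt_or_ge i 117425 with h7 | h7
              · skip
                rcases Nat.lt_or_ge i 117400 with h8 | h8
                · skip
                  exact allRangeF_sound _ _ (checkPointF_eq cert) 117375 25 chkP_117375 i (by omega) (by omega)
                · skip
                  exact allRangeF_sound _ _ (checkPointF_eq cert) 117400 25 chkP_117400 i (by omega) (by omega)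
              · skip
                rcases Nat.lt_or_ge i 117450 with h8 | h8
                · skip
                  exact allRangeF_sound _ _ (checkPointF_eq cert) 117425 25 chkP_117425 i (by omega) (by omega)
                · skip
                  rcases Nat.lt_or_ge i 117475 with h9 | h9
                  · skip
                    exact allRangeF_sound _ _ (checkPointF_eq cert) 117450 25 chkP_117450 i (by omega) (by omega)
                  · skip
                    exact allRangeF_sound _ _ (checkPointF_eq cert) 117475 25 chkP_117475 i (by omega) (by omega)
        · skip
          rcases Nat.lt_or_ge i 117725 with h5 | h5
          · skip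
            rcases Nat.lt_or_ge i 117600 with h6 | h6
            · skip
              rcases Nat.lt_or_ge i 117550 with h7 | h7
              · skip
                rcases Nat.lt_or_ge i 117525 with h8 | h8
                · skip
                  exact allRangeF_sound _ _ (checkPointF_eq cert) 117500 25 chkP_117500 i (by omega) (by omega)
                · skip
                  exact allRangeF_sound _ _ (checkPointF_eq cert) 117525 25 chkP_117525 i (by omega) (by omega)
              · skip
                rcases Nat.lt_or_ge i 117575 with h8 | h8
                · skip
                  exact allRangeF_sound _ _ (checkPointF_eq cert) 117550 25 chkP_117550 i (by omega) (by omega)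
                · skip
                  exact allRangeF_sound _ _ (checkPointF_eq cert) 117575 25 chkP_117575 i (by omega) (by omega)
            · skip
              rcases Nat.lt_or_ge i 117650 with h7 | h7
              · skip
                rcases Nat.lt_or_ge i 117625 with h8 | h8
                · skip
                  exact allRangeF_sound _ _ (checkPointF_eq cert) 117600 25 chkP_117600 i (by omega) (by omega)
                · skip
                  exact allRangeF_sound _ _ (checkPointF_eq cert) 117625 25 chkP_117625 i (by omega) (by omega)
              · skip
                rcases Nat.lt_or_ge i 117675 with h8 | h8
                · skip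
                  exact allRangeF_sound _ _ (checkPointF_eq cert) 117650 25 chkP_117650 i (by omega) (by omega)
                · skip
                  rcases Nat.lt_or_ge i 117700 with h9 | h9
                  · skip
                    exact allRangeF_sound _ _ (checkPointF_eq cert) 117675 25 chkP_117675 i (by omega) (by omega)
                  · skip
                    exact allRangeF_sound _ _ (checkPointF_eq cert) 117700 25 chkP_117700 i (by omega) (by omega)
          · skip
            rcases Nat.lt_or_ge i 117850 with h6 | h6
            · skip
              rcases Nat.lt_or_ge i 117775 with h7 | h7
              · skip
                rcases Nat.lt_or_ge i 117750 with h8 | h8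
                · skip
                  exact allRangeF_sound _ _ (checkPointF_eq cert) 117725 25 chkP_117725 i (by omega) (by omega)
                · skip
                  exact allRangeF_sound _ _ (checkPointF_eq cert) 117750 25 chkP_117750 i (by omega) (by omega)
              · skip
                rcases Nat.lt_or_ge i 117800 with h8 | h8
                · skip
                  exact allRangeF_sound _ _ (checkPointF_eq cert) 117775 25 chkP_117775 i (by omega) (by omega)
                · skip
                  rcases Nat.lt_or_ge i 117825 with h9 | h9
                  · skip
                    exact allRangeF_sound _ _ (checkPointF_eq cert) 117800 25 chkP_117800 i (by omega) (by omega)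
                  · skip
                    exact allRangeF_sound _ _ (checkPointF_eq cert) 117825 25 chkP_117825 i (by omega) (by omega)
            · skip
              rcases Nat.lt_or_ge i 117900 with h7 | h7
              · skip
                rcases Nat.lt_or_ge i 117875 with h8 | h8
                · skip
                  exact allRangeF_sound _ _ (checkPointF_eq cert) 117850 25 chkP_117850 i (by omega) (by omega)
                · skip
                  exact allRangeF_sound _ _ (checkPointF_eq cert) 117875 25 chkP_117875 i (by omega) (by omega)
              · skip
                rcases Nat.lt_or_ge i 117925 with h8 | h8
                · skip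
                  exact allRangeF_sound _ _ (checkPointF_eq cert) 117900 25 chkP_117900 i (by omega) (by omega)
                · skip
                  rcases Nat.lt_or_ge i 117950 with h9 | h9
                  · skip
                    exact allRangeF_sound _ _ (checkPointF_eq cert) 117925 25 chkP_117925 i (by omega) (by omega)
                  · skip
                    exact allRangeF_sound _ _ (checkPointF_eq cert) 117950 25 chkP_117950 i (by omega) (by omega)
      · skip
        rcases Nat.lt_or_ge i 118450 with h4 | h4
        · skip
          rcases Nat.lt_or_ge i 118200 with h5 | h5
          · skip
            rcases Nat.lt_or_ge i 118075 with h6 | h6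
            · skip
              rcases Nat.lt_or_ge i 118025 with h7 | h7
              · skip
                rcases Nat.lt_or_ge i 118000 with h8 | h8
                · skip
                  exact allRangeF_sound _ _ (checkPointF_eq cert) 117975 25 chkP_117975 i (by omega) (by omega)
                · skip
                  exact allRangeF_sound _ _ (checkPointF_eq cert) 118000 25 chkP_118000 i (by omega) (by omega)
              · skip
                rcases Nat.lt_or_ge i 118050 with h8 | h8
                · skip
                  exact allRangeF_sound _ _ (checkPointF_eq cert) 118025 25 chkP_118025 i (by omega) (by omega)
                · skip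
                  exact allRangeF_sound _ _ (checkPointF_eq cert) 118050 25 chkP_118050 i (by omega) (by omega)
            · skip
              rcases Nat.lt_or_ge i 118125 with h7 | h7
              · skip
                rcases Nat.lt_or_ge i 118100 with h8 | h8
                · skip
                  exact allRangeF_sound _ _ (checkPointF_eq cert) 118075 25 chkP_118075 i (by omega) (by omega)
                · skip
                  exact allRangeF_sound _ _ (checkPointF_eq cert) 118100 25 chkP_118100 i (by omega) (by omega)
              · skip
                rcases Nat.lt_or_ge i 118150 with h8 | h8
                · skip
                  exact allRangeF_sound _ _ (checkPointF_eq cert) 118125 25 chkP_118125 i (by omega) (by omega)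
                · skip
                  rcases Nat.lt_or_ge i 118175 with h9 | h9
                  · skip
                    exact allRangeF_sound _ _ (checkPointF_eq cert) 118150 25 chkP_118150 i (by omega) (by omega)
                  · skip
                    exact allRangeF_sound _ _ (checkPointF_eq cert) 118175 25 chkP_118175 i (by omega) (by omega)
          · skip
            rcases Nat.lt_or_ge i 118325 with h6 | h6
            · skip
              rcases Nat.lt_or_ge i 118250 with h7 | h7
              · skip
                rcases Nat.lt_or_ge i 118225 with h8 | h8
                · skip
                  exact allRangeF_sound _ _ (checkPointF_eq cert) 118200 25 chkP_118200 i (by omega) (by omega)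
                · skip
                  exact allRangeF_sound _ _ (checkPointF_eq cert) 118225 25 chkP_118225 i (by omega) (by omega)
              · skip
                rcases Nat.lt_or_ge i 118275 with h8 | h8
                · skip
                  exact allRangeF_sound _ _ (checkPointF_eq cert) 118250 25 chkP_118250 i (by omega) (by omega)
                · skip
                  rcases Nat.lt_or_ge i 118300 with h9 | h9
                  · skip
                    exact allRangeF_sound _ _ (checkPointF_eq cert) 118275 25 chkP_118275 i (by omega) (by omega)
                  · skip
                    exact allRangeF_sound _ _ (checkPointF_eq cert) 118300 25 chkP_118300 i (by omega) (by omega)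
            · skip
              rcases Nat.lt_or_ge i 118375 with h7 | h7
              · skip
                rcases Nat.lt_or_ge i 118350 with h8 | h8
                · skip
                  exact allRangeF_sound _ _ (checkPointF_eq cert) 118325 25 chkP_118325 i (by omega) (by omega)
                · skip
                  exact allRangeF_sound _ _ (checkPointF_eq cert) 118350 25 chkP_118350 i (by omega) (by omega)
              · skip
                rcases Nat.lt_or_ge i 118400 with h8 | h8
                · skip
                  exact allRangeF_sound _ _ (checkPointF_eq cert) 118375 25 chkP_118375 i (by omega) (by omega)
                · skip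
                  rcases Nat.lt_or_ge i 118425 with h9 | h9
                  · skip
                    exact allRangeF_sound _ _ (checkPointF_eq cert) 118400 25 chkP_118400 i (by omega) (by omega)
                  · skip
                    exact allRangeF_sound _ _ (checkPointF_eq cert) 118425 25 chkP_118425 i (by omega) (by omega)
        · skip
          rcases Nat.lt_or_ge i 118700 with h5 | h5
          · skip
            rcases Nat.lt_or_ge i 118575 with h6 | h6
            · skip
              rcases Nat.lt_or_ge i 118500 with h7 | h7
              · skip
                rcases Nat.lt_or_ge i 118475 with h8 | h8
                · skip
                  exact allRangeF_sound _ _ (checkPointF_eq cert) 118450 25 chkP_118450 i (by omega) (by omega)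
                · skip
                  exact allRangeF_sound _ _ (checkPointF_eq cert) 118475 25 chkP_118475 i (by omega) (by omega)
              · skip
                rcases Nat.lt_or_ge i 118525 with h8 | h8
                · skip
                  exact allRangeF_sound _ _ (checkPointF_eq cert) 118500 25 chkP_118500 i (by omega) (by omega)
                · skip
                  rcases Nat.lt_or_ge i 118550 with h9 | h9
                  · skip
                    exact allRangeF_sound _ _ (checkPointF_eq cert) 118525 25 chkP_118525 i (by omega) (by omega)
                  · skip
                    exact allRangeF_sound _ _ (checkPointF_eq cert) 118550 25 chkP_118550 i (by omega) (by omega)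
            · skip
              rcases Nat.lt_or_ge i 118625 with h7 | h7
              · skip
                rcases Nat.lt_or_ge i 118600 with h8 | h8
                · skip
                  exact allRangeF_sound _ _ (checkPointF_eq cert) 118575 25 chkP_118575 i (by omega) (by omega)
                · skip
                  exact allRangeF_sound _ _ (checkPointF_eq cert) 118600 25 chkP_118600 i (by omega) (by omega)
              · skip
                rcases Nat.lt_or_ge i 118650 with h8 | h8
                · skip
                  exact allRangeF_sound _ _ (checkPointF_eq cert) 118625 25 chkP_118625 i (by omega) (by omega)
                · skip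
                  rcases Nat.lt_or_ge i 118675 with h9 | h9
                  · skip
                    exact allRangeF_sound _ _ (checkPointF_eq cert) 118650 25 chkP_118650 i (by omega) (by omega)
                  · skip
                    exact allRangeF_sound _ _ (checkPointF_eq cert) 118675 25 chkP_118675 i (by omega) (by omega)
          · skip
            rcases Nat.lt_or_ge i 118825 with h6 | h6
            · skip
              rcases Nat.lt_or_ge i 118750 with h7 | h7
              · skip
                rcases Nat.lt_or_ge i 118725 with h8 | h8
                · skip
                  exact allRangeF_sound _ _ (checkPointF_eq cert) 118700 25 chkP_118700 i (by omega) (by omega)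
                · skip
                  exact allRangeF_sound _ _ (checkPointF_eq cert) 118725 25 chkP_118725 i (by omega) (by omega)
              · skip
                rcases Nat.lt_or_ge i 118775 with h8 | h8
                · skip
                  exact allRangeF_sound _ _ (checkPointF_eq cert) 118750 25 chkP_118750 i (by omega) (by omega)
                · skip
                  rcases Nat.lt_or_ge i 118800 with h9 | h9
                  · skip
                    exact allRangeF_sound _ _ (checkPointF_eq cert) 118775 25 chkP_118775 i (by omega) (by omega)
                  · skip
                    exact allRangeF_sound _ _ (checkPointF_eq cert) 118800 25 chkP_118800 i (by omega) (by omega)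
            · skip
              rcases Nat.lt_or_ge i 118875 with h7 | h7
              · skip
                rcases Nat.lt_or_ge i 118850 with h8 | h8
                · skip
                  exact allRangeF_sound _ _ (checkPointF_eq cert) 118825 25 chkP_118825 i (by omega) (by omega)
                · skip
                  exact allRangeF_sound _ _ (checkPointF_eq cert) 118850 25 chkP_118850 i (by omega) (by omega)
              · skip
                rcases Nat.lt_or_ge i 118900 with h8 | h8
                · skip
                  exact allRangeF_sound _ _ (checkPointF_eq cert) 118875 25 chkP_118875 i (by omega) (by omega)
                · skip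
                  rcases Nat.lt_or_ge i 118925 with h9 | h9
                  · skip
                    exact allRangeF_sound _ _ (checkPointF_eq cert) 118900 25 chkP_118900 i (by omega) (by omega)
                  · skip
                    exact allRangeF_sound _ _ (checkPointF_eq cert) 118925 25 chkP_118925 i (by omega) (by omega)
  · skip
    rcases Nat.lt_or_ge i 120875 with h2 | h2
    · skip
      rcases Nat.lt_or_ge i 119900 with h3 | h3
      · skip
        rcases Nat.lt_or_ge i 119425 with h4 | h4
        · skip
          rcases Nat.lt_or_ge i 119175 with h5 | h5
          · skip
            rcases Nat.lt_or_ge i 119050 with h6 | h6
            · skip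
              rcases Nat.lt_or_ge i 119000 with h7 | h7
              · skip
                rcases Nat.lt_or_ge i 118975 with h8 | h8
                · skip
                  exact allRangeF_sound _ _ (checkPointF_eq cert) 118950 25 chkP_118950 i (by omega) (by omega)
                · skip
                  exact allRangeF_sound _ _ (checkPointF_eq cert) 118975 25 chkP_118975 i (by omega) (by omega)
              · skip
                rcases Nat.lt_or_ge i 119025 with h8 | h8
                · skip
                  exact allRangeF_sound _ _ (checkPointF_eq cert) 119000 25 chkP_119000 i (by omega) (by omega)
                · skip
                  exact allRangeF_sound _ _ (checkPointF_eq cert) 119025 25 chkP_119025 i (by omega) (by omega)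
            · skip
              rcases Nat.lt_or_ge i 119100 with h7 | h7
              · skip
                rcases Nat.lt_or_ge i 119075 with h8 | h8
                · skip
                  exact allRangeF_sound _ _ (checkPointF_eq cert) 119050 25 chkP_119050 i (by omega) (by omega)
                · skip
                  exact allRangeF_sound _ _ (checkPointF_eq cert) 119075 25 chkP_119075 i (by omega) (by omega)
              · skip
                rcases Nat.lt_or_ge i 119125 with h8 | h8
                · skip
                  exact allRangeF_sound _ _ (checkPointF_eq cert) 119100 25 chkP_119100 i (by omega) (by omega)
                · skip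
                  rcases Nat.lt_or_ge i 119150 with h9 | h9
                  · skip
                    exact allRangeF_sound _ _ (checkPointF_eq cert) 119125 25 chkP_119125 i (by omega) (by omega)
                  · skip
                    exact allRangeF_sound _ _ (checkPointF_eq cert) 119150 25 chkP_119150 i (by omega) (by omega)
          · skip
            rcases Nat.lt_or_ge i 119300 with h6 | h6
            · skip
              rcases Nat.lt_or_ge i 119225 with h7 | h7
              · skip
                rcases Nat.lt_or_ge i 119200 with h8 | h8
                · skip
                  exact allRangeF_sound _ _ (checkPointF_eq cert) 119175 25 chkP_119175 i (by omega) (by omega)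
                · skip
                  exact allRangeF_sound _ _ (checkPointF_eq cert) 119200 25 chkP_119200 i (by omega) (by omega)
              · skip
                rcases Nat.lt_or_ge i 119250 with h8 | h8
                · skip
                  exact allRangeF_sound _ _ (checkPointF_eq cert) 119225 25 chkP_119225 i (by omega) (by omega)
                · skip
                  rcases Nat.lt_or_ge i 119275 with h9 | h9
                  · skip
                    exact allRangeF_sound _ _ (checkPointF_eq cert) 119250 25 chkP_119250 i (by omega) (by omega)
                  · skip
                    exact allRangeF_sound _ _ (checkPointF_eq cert) 119275 25 chkP_119275 i (by omega) (by omega)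
            · skip
              rcases Nat.lt_or_ge i 119350 with h7 | h7
              · skip
                rcases Nat.lt_or_ge i 119325 with h8 | h8
                · skip
                  exact allRangeF_sound _ _ (checkPointF_eq cert) 119300 25 chkP_119300 i (by omega) (by omega)
                · skip
                  exact allRangeF_sound _ _ (checkPointF_eq cert) 119325 25 chkP_119325 i (by omega) (by omega)
              · skip
                rcases Nat.lt_or_ge i 119375 with h8 | h8
                · skip
                  exact allRangeF_sound _ _ (checkPointF_eq cert) 119350 25 chkP_119350 i (by omega) (by omega)
                · skip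
                  rcases Nat.lt_or_ge i 119400 with h9 | h9
                  · skip
                    exact allRangeF_sound _ _ (checkPointF_eq cert) 119375 25 chkP_119375 i (by omega) (by omega)
                  · skip
                    exact allRangeF_sound _ _ (checkPointF_eq cert) 119400 25 chkP_119400 i (by omega) (by omega)
        · skip
          rcases Nat.lt_or_ge i 119650 with h5 | h5
          · skip
            rcases Nat.lt_or_ge i 119525 with h6 | h6
            · skip
              rcases Nat.lt_or_ge i 119475 with h7 | h7
              · skip
                rcases Nat.lt_or_ge i 119450 with h8 | h8
                · skip
                  exact allRangeF_sound _ _ (checkPointF_eq cert) 119425 25 chkP_119425 i (by omega) (by omega)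
                · skip
                  exact allRangeF_sound _ _ (checkPointF_eq cert) 119450 25 chkP_119450 i (by omega) (by omega)
              · skip
                rcases Nat.lt_or_ge i 119500 with h8 | h8
                · skip
                  exact allRangeF_sound _ _ (checkPointF_eq cert) 119475 25 chkP_119475 i (by omega) (by omega)
                · skip
                  exact allRangeF_sound _ _ (checkPointF_eq cert) 119500 25 chkP_119500 i (by omega) (by omega)
            · skip
              rcases Nat.lt_or_ge i 119575 with h7 | h7
              · skip
                rcases Nat.lt_or_ge i 119550 with h8 | h8
                · skip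
                  exact allRangeF_sound _ _ (checkPointF_eq cert) 119525 25 chkP_119525 i (by omega) (by omega)
                · skip
                  exact allRangeF_sound _ _ (checkPointF_eq cert) 119550 25 chkP_119550 i (by omega) (by omega)
              · skip
                rcases Nat.lt_or_ge i 119600 with h8 | h8
                · skip
                  exact allRangeF_sound _ _ (checkPointF_eq cert) 119575 25 chkP_119575 i (by omega) (by omega)
                · skip
                  rcases Nat.lt_or_ge i 119625 with h9 | h9
                  · skip
                    exact allRangeF_sound _ _ (checkPointF_eq cert) 119600 25 chkP_119600 i (by omega) (by omega)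
                  · skip
                    exact allRangeF_sound _ _ (checkPointF_eq cert) 119625 25 chkP_119625 i (by omega) (by omega)
          · skip
            rcases Nat.lt_or_ge i 119775 with h6 | h6
            · skip
              rcases Nat.lt_or_ge i 119700 with h7 | h7
              · skip
                rcases Nat.lt_or_ge i 119675 with h8 | h8
                · skip
                  exact allRangeF_sound _ _ (checkPointF_eq cert) 119650 25 chkP_119650 i (by omega) (by omega)
                · skip
                  exact allRangeF_sound _ _ (checkPointF_eq cert) 119675 25 chkP_119675 i (by omega) (by omega)
              · skip
                rcases Nat.lt_or_ge i 119725 with h8 | h8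
                · skip
                  exact allRangeF_sound _ _ (checkPointF_eq cert) 119700 25 chkP_119700 i (by omega) (by omega)
                · skip
                  rcases Nat.lt_or_ge i 119750 with h9 | h9
                  · skip
                    exact allRangeF_sound _ _ (checkPointF_eq cert) 119725 25 chkP_119725 i (by omega) (by omega)
                  · skip
                    exact allRangeF_sound _ _ (checkPointF_eq cert) 119750 25 chkP_119750 i (by omega) (by omega)
            · skip
              rcases Nat.lt_or_ge i 119825 with h7 | h7
              · skip
                rcases Nat.lt_or_ge i 119800 with h8 | h8
                · skip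
                  exact allRangeF_sound _ _ (checkPointF_eq cert) 119775 25 chkP_119775 i (by omega) (by omega)
                · skip
                  exact allRangeF_sound _ _ (checkPointF_eq cert) 119800 25 chkP_119800 i (by omega) (by omega)
              · skip
                rcases Nat.lt_or_ge i 119850 with h8 | h8
                · skip
                  exact allRangeF_sound _ _ (checkPointF_eq cert) 119825 25 chkP_119825 i (by omega) (by omega)
                · skip
                  rcases Nat.lt_or_ge i 119875 with h9 | h9
                  · skip
                    exact allRangeF_sound _ _ (checkPointF_eq cert) 119850 25 chkP_119850 i (by omega) (by omega)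
                  · skip
                    exact allRangeF_sound _ _ (checkPointF_eq cert) 119875 25 chkP_119875 i (by omega) (by omega)
      · skip
        rcases Nat.lt_or_ge i 120375 with h4 | h4
        · skip
          rcases Nat.lt_or_ge i 120125 with h5 | h5
          · skip
            rcases Nat.lt_or_ge i 120000 with h6 | h6
            · skip
              rcases Nat.lt_or_ge i 119950 with h7 | h7
              · skip
                rcases Nat.lt_or_ge i 119925 with h8 | h8
                · skip
                  exact allRangeF_sound _ _ (checkPointF_eq cert) 119900 25 chkP_119900 i (by omega) (by omega)
                · skip
                  exact allRangeF_sound _ _ (checkPointF_eq cert) 119925 25 chkP_119925 i (by omega) (by omega)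
              · skip
                rcases Nat.lt_or_ge i 119975 with h8 | h8
                · skip
                  exact allRangeF_sound _ _ (checkPointF_eq cert) 119950 25 chkP_119950 i (by omega) (by omega)
                · skip
                  exact allRangeF_sound _ _ (checkPointF_eq cert) 119975 25 chkP_119975 i (by omega) (by omega)
            · skip
              rcases Nat.lt_or_ge i 120050 with h7 | h7
              · skip
                rcases Nat.lt_or_ge i 120025 with h8 | h8
                · skip
                  exact allRangeF_sound _ _ (checkPointF_eq cert) 120000 25 chkP_120000 i (by omega) (by omega)
                · skip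
                  exact allRangeF_sound _ _ (checkPointF_eq cert) 120025 25 chkP_120025 i (by omega) (by omega)
              · skip
                rcases Nat.lt_or_ge i 120075 with h8 | h8
                · skip
                  exact allRangeF_sound _ _ (checkPointF_eq cert) 120050 25 chkP_120050 i (by omega) (by omega)
                · skip
                  rcases Nat.lt_or_ge i 120100 with h9 | h9
                  · skip
                    exact allRangeF_sound _ _ (checkPointF_eq cert) 120075 25 chkP_120075 i (by omega) (by omega)
                  · skip
                    exact allRangeF_sound _ _ (checkPointF_eq cert) 120100 25 chkP_120100 i (by omega) (by omega)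
          · skip
            rcases Nat.lt_or_ge i 120250 with h6 | h6
            · skip
              rcases Nat.lt_or_ge i 120175 with h7 | h7
              · skip
                rcases Nat.lt_or_ge i 120150 with h8 | h8
                · skip
                  exact allRangeF_sound _ _ (checkPointF_eq cert) 120125 25 chkP_120125 i (by omega) (by omega)
                · skip
                  exact allRangeF_sound _ _ (checkPointF_eq cert) 120150 25 chkP_120150 i (by omega) (by omega)
              · skip
                rcases Nat.lt_or_ge i 120200 with h8 | h8
                · skip
                  exact allRangeF_sound _ _ (checkPointF_eq cert) 120175 25 chkP_120175 i (by omega) (by omega)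
                · skip
                  rcases Nat.lt_or_ge i 120225 with h9 | h9
                  · skip
                    exact allRangeF_sound _ _ (checkPointF_eq cert) 120200 25 chkP_120200 i (by omega) (by omega)
                  · skip
                    exact allRangeF_sound _ _ (checkPointF_eq cert) 120225 25 chkP_120225 i (by omega) (by omega)
            · skip
              rcases Nat.lt_or_ge i 120300 with h7 | h7
              · skip
                rcases Nat.lt_or_ge i 120275 with h8 | h8
                · skip
                  exact allRangeF_sound _ _ (checkPointF_eq cert) 120250 25 chkP_120250 i (by omega) (by omega)
                · skip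
                  exact allRangeF_sound _ _ (checkPointF_eq cert) 120275 25 chkP_120275 i (by omega) (by omega)
              · skip
                rcases Nat.lt_or_ge i 120325 with h8 | h8
                · skip
                  exact allRangeF_sound _ _ (checkPointF_eq cert) 120300 25 chkP_120300 i (by omega) (by omega)
                · skip
                  rcases Nat.lt_or_ge i 120350 with h9 | h9
                  · skip
                    exact allRangeF_sound _ _ (checkPointF_eq cert) 120325 25 chkP_120325 i (by omega) (by omega)
                  · skip
                    exact allRangeF_sound _ _ (checkPointF_eq cert) 120350 25 chkP_120350 i (by omega) (by omega)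
        · skip
          rcases Nat.lt_or_ge i 120625 with h5 | h5
          · skip
            rcases Nat.lt_or_ge i 120500 with h6 | h6
            · skip
              rcases Nat.lt_or_ge i 120425 with h7 | h7
              · skip
                rcases Nat.lt_or_ge i 120400 with h8 | h8
                · skip
                  exact allRangeF_sound _ _ (checkPointF_eq cert) 120375 25 chkP_120375 i (by omega) (by omega)
                · skip
                  exact allRangeF_sound _ _ (checkPointF_eq cert) 120400 25 chkP_120400 i (by omega) (by omega)
              · skip
                rcases Nat.lt_or_ge i 120450 with h8 | h8
                · skip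
                  exact allRangeF_sound _ _ (checkPointF_eq cert) 120425 25 chkP_120425 i (by omega) (by omega)
                · skip
                  rcases Nat.lt_or_ge i 120475 with h9 | h9
                  · skip
                    exact allRangeF_sound _ _ (checkPointF_eq cert) 120450 25 chkP_120450 i (by omega) (by omega)
                  · skip
                    exact allRangeF_sound _ _ (checkPointF_eq cert) 120475 25 chkP_120475 i (by omega) (by omega)
            · skip
              rcases Nat.lt_or_ge i 120550 with h7 | h7
              · skip
                rcases Nat.lt_or_ge i 120525 with h8 | h8
                · skip
                  exact allRangeF_sound _ _ (checkPointF_eq cert) 120500 25 chkP_120500 i (by omega) (by omega)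
                · skip
                  exact allRangeF_sound _ _ (checkPointF_eq cert) 120525 25 chkP_120525 i (by omega) (by omega)
              · skip
                rcases Nat.lt_or_ge i 120575 with h8 | h8
                · skip
                  exact allRangeF_sound _ _ (checkPointF_eq cert) 120550 25 chkP_120550 i (by omega) (by omega)
                · skip
                  rcases Nat.lt_or_ge i 120600 with h9 | h9
                  · skip
                    exact allRangeF_sound _ _ (checkPointF_eq cert) 120575 25 chkP_120575 i (by omega) (by omega)
                  · skip
                    exact allRangeF_sound _ _ (checkPointF_eq cert) 120600 25 chkP_120600 i (by omega) (by omega)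
          · skip
            rcases Nat.lt_or_ge i 120750 with h6 | h6
            · skip
              rcases Nat.lt_or_ge i 120675 with h7 | h7
              · skip
                rcases Nat.lt_or_ge i 120650 with h8 | h8
                · skip
                  exact allRangeF_sound _ _ (checkPointF_eq cert) 120625 25 chkP_120625 i (by omega) (by omega)
                · skip
                  exact allRangeF_sound _ _ (checkPointF_eq cert) 120650 25 chkP_120650 i (by omega) (by omega)
              · skip
                rcases Nat.lt_or_ge i 120700 with h8 | h8
                · skip
                  exact allRangeF_sound _ _ (checkPointF_eq cert) 120675 25 chkP_120675 i (by omega) (by omega)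
                · skip
                  rcases Nat.lt_or_ge i 120725 with h9 | h9
                  · skip
                    exact allRangeF_sound _ _ (checkPointF_eq cert) 120700 25 chkP_120700 i (by omega) (by omega)
                  · skip
                    exact allRangeF_sound _ _ (checkPointF_eq cert) 120725 25 chkP_120725 i (by omega) (by omega)
            · skip
              rcases Nat.lt_or_ge i 120800 with h7 | h7
              · skip
                rcases Nat.lt_or_ge i 120775 with h8 | h8
                · skip
                  exact allRangeF_sound _ _ (checkPointF_eq cert) 120750 25 chkP_120750 i (by omega) (by omega)
                · skip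
                  exact allRangeF_sound _ _ (checkPointF_eq cert) 120775 25 chkP_120775 i (by omega) (by omega)
              · skip
                rcases Nat.lt_or_ge i 120825 with h8 | h8
                · skip
                  exact allRangeF_sound _ _ (checkPointF_eq cert) 120800 25 chkP_120800 i (by omega) (by omega)
                · skip
                  rcases Nat.lt_or_ge i 120850 with h9 | h9
                  · skip
                    exact allRangeF_sound _ _ (checkPointF_eq cert) 120825 25 chkP_120825 i (by omega) (by omega)
                  · skip
                    exact allRangeF_sound _ _ (checkPointF_eq cert) 120850 25 chkP_120850 i (by omega) (by omega)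
    · skip
      rcases Nat.lt_or_ge i 121825 with h3 | h3
      · skip
        rcases Nat.lt_or_ge i 121350 with h4 | h4
        · skip
          rcases Nat.lt_or_ge i 121100 with h5 | h5
          · skip
            rcases Nat.lt_or_ge i 120975 with h6 | h6
            · skip
              rcases Nat.lt_or_ge i 120925 with h7 | h7
              · skip
                rcases Nat.lt_or_ge i 120900 with h8 | h8
                · skip
                  exact allRangeF_sound _ _ (checkPointF_eq cert) 120875 25 chkP_120875 i (by omega) (by omega)
                · skip
                  exact allRangeF_sound _ _ (checkPointF_eq cert) 120900 25 chkP_120900 i (by omega) (by omega)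
              · skip
                rcases Nat.lt_or_ge i 120950 with h8 | h8
                · skip
                  exact allRangeF_sound _ _ (checkPointF_eq cert) 120925 25 chkP_120925 i (by omega) (by omega)
                · skip
                  exact allRangeF_sound _ _ (checkPointF_eq cert) 120950 25 chkP_120950 i (by omega) (by omega)
            · skip
              rcases Nat.lt_or_ge i 121025 with h7 | h7
              · skip
                rcases Nat.lt_or_ge i 121000 with h8 | h8
                · skip
                  exact allRangeF_sound _ _ (checkPointF_eq cert) 120975 25 chkP_120975 i (by omega) (by omega)
                · skip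
                  exact allRangeF_sound _ _ (checkPointF_eq cert) 121000 25 chkP_121000 i (by omega) (by omega)
              · skip
                rcases Nat.lt_or_ge i 121050 with h8 | h8
                · skip
                  exact allRangeF_sound _ _ (checkPointF_eq cert) 121025 25 chkP_121025 i (by omega) (by omega)
                · skip
                  rcases Nat.lt_or_ge i 121075 with h9 | h9
                  · skip
                    exact allRangeF_sound _ _ (checkPointF_eq cert) 121050 25 chkP_121050 i (by omega) (by omega)
                  · skip
                    exact allRangeF_sound _ _ (checkPointF_eq cert) 121075 25 chkP_121075 i (by omega) (by omega)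
          · skip
            rcases Nat.lt_or_ge i 121225 with h6 | h6
            · skip
              rcases Nat.lt_or_ge i 121150 with h7 | h7
              · skip
                rcases Nat.lt_or_ge i 121125 with h8 | h8
                · skip
                  exact allRangeF_sound _ _ (checkPointF_eq cert) 121100 25 chkP_121100 i (by omega) (by omega)
                · skip
                  exact allRangeF_sound _ _ (checkPointF_eq cert) 121125 25 chkP_121125 i (by omega) (by omega)
              · skip
                rcases Nat.lt_or_ge i 121175 with h8 | h8
                · skip
                  exact allRangeF_sound _ _ (checkPointF_eq cert) 121150 25 chkP_121150 i (by omega) (by omega)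
                · skip
                  rcases Nat.lt_or_ge i 121200 with h9 | h9
                  · skip
                    exact allRangeF_sound _ _ (checkPointF_eq cert) 121175 25 chkP_121175 i (by omega) (by omega)
                  · skip
                    exact allRangeF_sound _ _ (checkPointF_eq cert) 121200 25 chkP_121200 i (by omega) (by omega)
            · skip
              rcases Nat.lt_or_ge i 121275 with h7 | h7
              · skip
                rcases Nat.lt_or_ge i 121250 with h8 | h8
                · skip
                  exact allRangeF_sound _ _ (checkPointF_eq cert) 121225 25 chkP_121225 i (by omega) (by omega)
                · skip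
                  exact allRangeF_sound _ _ (checkPointF_eq cert) 121250 25 chkP_121250 i (by omega) (by omega)
              · skip
                rcases Nat.lt_or_ge i 121300 with h8 | h8
                · skip
                  exact allRangeF_sound _ _ (checkPointF_eq cert) 121275 25 chkP_121275 i (by omega) (by omega)
                · skip
                  rcases Nat.lt_or_ge i 121325 with h9 | h9
                  · skip
                    exact allRangeF_sound _ _ (checkPointF_eq cert) 121300 25 chkP_121300 i (by omega) (by omega)
                  · skip
                    exact allRangeF_sound _ _ (checkPointF_eq cert) 121325 25 chkP_121325 i (by omega) (by omega)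
        · skip
          rcases Nat.lt_or_ge i 121575 with h5 | h5
          · skip
            rcases Nat.lt_or_ge i 121450 with h6 | h6
            · skip
              rcases Nat.lt_or_ge i 121400 with h7 | h7
              · skip
                rcases Nat.lt_or_ge i 121375 with h8 | h8
                · skip
                  exact allRangeF_sound _ _ (checkPointF_eq cert) 121350 25 chkP_121350 i (by omega) (by omega)
                · skip
                  exact allRangeF_sound _ _ (checkPointF_eq cert) 121375 25 chkP_121375 i (by omega) (by omega)
              · skip
                rcases Nat.lt_or_ge i 121425 with h8 | h8
                · skip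
                  exact allRangeF_sound _ _ (checkPointF_eq cert) 121400 25 chkP_121400 i (by omega) (by omega)
                · skip
                  exact allRangeF_sound _ _ (checkPointF_eq cert) 121425 25 chkP_121425 i (by omega) (by omega)
            · skip
              rcases Nat.lt_or_ge i 121500 with h7 | h7
              · skip
                rcases Nat.lt_or_ge i 121475 with h8 | h8
                · skip
                  exact allRangeF_sound _ _ (checkPointF_eq cert) 121450 25 chkP_121450 i (by omega) (by omega)
                · skip
                  exact allRangeF_sound _ _ (checkPointF_eq cert) 121475 25 chkP_121475 i (by omega) (by omega)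
              · skip
                rcases Nat.lt_or_ge i 121525 with h8 | h8
                · skip
                  exact allRangeF_sound _ _ (checkPointF_eq cert) 121500 25 chkP_121500 i (by omega) (by omega)
                · skip
                  rcases Nat.lt_or_ge i 121550 with h9 | h9
                  · skip
                    exact allRangeF_sound _ _ (checkPointF_eq cert) 121525 25 chkP_121525 i (by omega) (by omega)
                  · skip
                    exact allRangeF_sound _ _ (checkPointF_eq cert) 121550 25 chkP_121550 i (by omega) (by omega)
          · skip
            rcases Nat.lt_or_ge i 121700 with h6 | h6
            · skip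
              rcases Nat.lt_or_ge i 121625 with h7 | h7
              · skip
                rcases Nat.lt_or_ge i 121600 with h8 | h8
                · skip
                  exact allRangeF_sound _ _ (checkPointF_eq cert) 121575 25 chkP_121575 i (by omega) (by omega)
                · skip
                  exact allRangeF_sound _ _ (checkPointF_eq cert) 121600 25 chkP_121600 i (by omega) (by omega)
              · skip
                rcases Nat.lt_or_ge i 121650 with h8 | h8
                · skip
                  exact allRangeF_sound _ _ (checkPointF_eq cert) 121625 25 chkP_121625 i (by omega) (by omega)
                · skip
                  rcases Nat.lt_or_ge i 121675 with h9 | h9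
                  · skip
                    exact allRangeF_sound _ _ (checkPointF_eq cert) 121650 25 chkP_121650 i (by omega) (by omega)
                  · skip
                    exact allRangeF_sound _ _ (checkPointF_eq cert) 121675 25 chkP_121675 i (by omega) (by omega)
            · skip
              rcases Nat.lt_or_ge i 121750 with h7 | h7
              · skip
                rcases Nat.lt_or_ge i 121725 with h8 | h8
                · skip
                  exact allRangeF_sound _ _ (checkPointF_eq cert) 121700 25 chkP_121700 i (by omega) (by omega)
                · skip
                  exact allRangeF_sound _ _ (checkPointF_eq cert) 121725 25 chkP_121725 i (by omega) (by omega)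
              · skip
                rcases Nat.lt_or_ge i 121775 with h8 | h8
                · skip
                  exact allRangeF_sound _ _ (checkPointF_eq cert) 121750 25 chkP_121750 i (by omega) (by omega)
                · skip
                  rcases Nat.lt_or_ge i 121800 with h9 | h9
                  · skip
                    exact allRangeF_sound _ _ (checkPointF_eq cert) 121775 25 chkP_121775 i (by omega) (by omega)
                  · skip
                    exact allRangeF_sound _ _ (checkPointF_eq cert) 121800 25 chkP_121800 i (by omega) (by omega)
      · skip
        rcases Nat.lt_or_ge i 122300 with h4 | h4
        · skip
          rcases Nat.lt_or_ge i 122050 with h5 | h5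
          · skip
            rcases Nat.lt_or_ge i 121925 with h6 | h6
            · skip
              rcases Nat.lt_or_ge i 121875 with h7 | h7
              · skip
                rcases Nat.lt_or_ge i 121850 with h8 | h8
                · skip
                  exact allRangeF_sound _ _ (checkPointF_eq cert) 121825 25 chkP_121825 i (by omega) (by omega)
                · skip
                  exact allRangeF_sound _ _ (checkPointF_eq cert) 121850 25 chkP_121850 i (by omega) (by omega)
              · skip
                rcases Nat.lt_or_ge i 121900 with h8 | h8
                · skip
                  exact allRangeF_sound _ _ (checkPointF_eq cert) 121875 25 chkP_121875 i (by omega) (by omega)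
                · skip
                  exact allRangeF_sound _ _ (checkPointF_eq cert) 121900 25 chkP_121900 i (by omega) (by omega)
            · skip
              rcases Nat.lt_or_ge i 121975 with h7 | h7
              · skip
                rcases Nat.lt_or_ge i 121950 with h8 | h8
                · skip
                  exact allRangeF_sound _ _ (checkPointF_eq cert) 121925 25 chkP_121925 i (by omega) (by omega)
                · skip
                  exact allRangeF_sound _ _ (checkPointF_eq cert) 121950 25 chkP_121950 i (by omega) (by omega)
              · skip
                rcases Nat.lt_or_ge i 122000 with h8 | h8
                · skip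
                  exact allRangeF_sound _ _ (checkPointF_eq cert) 121975 25 chkP_121975 i (by omega) (by omega)
                · skip
                  rcases Nat.lt_or_ge i 122025 with h9 | h9
                  · skip
                    exact allRangeF_sound _ _ (checkPointF_eq cert) 122000 25 chkP_122000 i (by omega) (by omega)
                  · skip
                    exact allRangeF_sound _ _ (checkPointF_eq cert) 122025 25 chkP_122025 i (by omega) (by omega)
          · skip
            rcases Nat.lt_or_ge i 122175 with h6 | h6
            · skip
              rcases Nat.lt_or_ge i 122100 with h7 | h7
              · skip
                rcases Nat.lt_or_ge i 122075 with h8 | h8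
                · skip
                  exact allRangeF_sound _ _ (checkPointF_eq cert) 122050 25 chkP_122050 i (by omega) (by omega)
                · skip
                  exact allRangeF_sound _ _ (checkPointF_eq cert) 122075 25 chkP_122075 i (by omega) (by omega)
              · skip
                rcases Nat.lt_or_ge i 122125 with h8 | h8
                · skip
                  exact allRangeF_sound _ _ (checkPointF_eq cert) 122100 25 chkP_122100 i (by omega) (by omega)
                · skip
                  rcases Nat.lt_or_ge i 122150 with h9 | h9
                  · skip
                    exact allRangeF_sound _ _ (checkPointF_eq cert) 122125 25 chkP_122125 i (by omega) (by omega)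
                  · skip
                    exact allRangeF_sound _ _ (checkPointF_eq cert) 122150 25 chkP_122150 i (by omega) (by omega)
            · skip
              rcases Nat.lt_or_ge i 122225 with h7 | h7
              · skip
                rcases Nat.lt_or_ge i 122200 with h8 | h8
                · skip
                  exact allRangeF_sound _ _ (checkPointF_eq cert) 122175 25 chkP_122175 i (by omega) (by omega)
                · skip
                  exact allRangeF_sound _ _ (checkPointF_eq cert) 122200 25 chkP_122200 i (by omega) (by omega)
              · skip
                rcases Nat.lt_or_ge i 122250 with h8 | h8
                · skip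
                  exact allRangeF_sound _ _ (checkPointF_eq cert) 122225 25 chkP_122225 i (by omega) (by omega)
                · skip
                  rcases Nat.lt_or_ge i 122275 with h9 | h9
                  · skip
                    exact allRangeF_sound _ _ (checkPointF_eq cert) 122250 25 chkP_122250 i (by omega) (by omega)
                  · skip
                    exact allRangeF_sound _ _ (checkPointF_eq cert) 122275 25 chkP_122275 i (by omega) (by omega)
        · skip
          rcases Nat.lt_or_ge i 122550 with h5 | h5
          · skip
            rcases Nat.lt_or_ge i 122425 with h6 | h6
            · skip
              rcases Nat.lt_or_ge i 122350 with h7 | h7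
              · skip
                rcases Nat.lt_or_ge i 122325 with h8 | h8
                · skip
                  exact allRangeF_sound _ _ (checkPointF_eq cert) 122300 25 chkP_122300 i (by omega) (by omega)
                · skip
                  exact allRangeF_sound _ _ (checkPointF_eq cert) 122325 25 chkP_122325 i (by omega) (by omega)
              · skip
                rcases Nat.lt_or_ge i 122375 with h8 | h8
                · skip
                  exact allRangeF_sound _ _ (checkPointF_eq cert) 122350 25 chkP_122350 i (by omega) (by omega)
                · skip
                  rcases Nat.lt_or_ge i 122400 with h9 | h9
                  · skip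
                    exact allRangeF_sound _ _ (checkPointF_eq cert) 122375 25 chkP_122375 i (by omega) (by omega)
                  · skip
                    exact allRangeF_sound _ _ (checkPointF_eq cert) 122400 25 chkP_122400 i (by omega) (by omega)
            · skip
              rcases Nat.lt_or_ge i 122475 with h7 | h7
              · skip
                rcases Nat.lt_or_ge i 122450 with h8 | h8
                · skip
                  exact allRangeF_sound _ _ (checkPointF_eq cert) 122425 25 chkP_122425 i (by omega) (by omega)
                · skip
                  exact allRangeF_sound _ _ (checkPointF_eq cert) 122450 25 chkP_122450 i (by omega) (by omega)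
              · skip
                rcases Nat.lt_or_ge i 122500 with h8 | h8
                · skip
                  exact allRangeF_sound _ _ (checkPointF_eq cert) 122475 25 chkP_122475 i (by omega) (by omega)
                · skip
                  rcases Nat.lt_or_ge i 122525 with h9 | h9
                  · skip
                    exact allRangeF_sound _ _ (checkPointF_eq cert) 122500 25 chkP_122500 i (by omega) (by omega)
                  · skip
                    exact allRangeF_sound _ _ (checkPointF_eq cert) 122525 25 chkP_122525 i (by omega) (by omega)
          · skip
            rcases Nat.lt_or_ge i 122675 with h6 | h6
            · skip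
              rcases Nat.lt_or_ge i 122600 with h7 | h7
              · skip
                rcases Nat.lt_or_ge i 122575 with h8 | h8
                · skip
                  exact allRangeF_sound _ _ (checkPointF_eq cert) 122550 25 chkP_122550 i (by omega) (by omega)
                · skip
                  exact allRangeF_sound _ _ (checkPointF_eq cert) 122575 25 chkP_122575 i (by omega) (by omega)
              · skip
                rcases Nat.lt_or_ge i 122625 with h8 | h8
                · skip
                  exact allRangeF_sound _ _ (checkPointF_eq cert) 122600 25 chkP_122600 i (by omega) (by omega)
                · skip
                  rcases Nat.lt_or_ge i 122650 with h9 | h9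
                  · skip
                    exact allRangeF_sound _ _ (checkPointF_eq cert) 122625 25 chkP_122625 i (by omega) (by omega)
                  · skip
                    exact allRangeF_sound _ _ (checkPointF_eq cert) 122650 25 chkP_122650 i (by omega) (by omega)
            · skip
              rcases Nat.lt_or_ge i 122725 with h7 | h7
              · skip
                rcases Nat.lt_or_ge i 122700 with h8 | h8
                · skip
                  exact allRangeF_sound _ _ (checkPointF_eq cert) 122675 25 chkP_122675 i (by omega) (by omega)
                · skip
                  exact allRangeF_sound _ _ (checkPointF_eq cert) 122700 25 chkP_122700 i (by omega) (by omega)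
              · skip
                rcases Nat.lt_or_ge i 122750 with h8 | h8
                · skip
                  exact allRangeF_sound _ _ (checkPointF_eq cert) 122725 25 chkP_122725 i (by omega) (by omega)
                · skip
                  rcases Nat.lt_or_ge i 122775 with h9 | h9
                  · skip
                    exact allRangeF_sound _ _ (checkPointF_eq cert) 122750 25 chkP_122750 i (by omega) (by omega)
                  · skip
                    exact allRangeF_sound _ _ (checkPointF_eq cert) 122775 25 chkP_122775 i (by omega) (by omega)

end Cfsg.Agent.Lib.Helper28.Fi24Data
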