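import Cfsg.Agent.Lib.Helper28.Fi24Data
import Cfsg.Agent.Lib.Helper28.TCFastB

set_option autoImplicit false
set_option maxRecDepth 1000000
set_option linter.all false
set_option Elab.async false

namespace Cfsg.Agent.Lib.Helper28.Fi24Data

open Cfsg.Agent.Lib.Helper28B

theorem chkP_122800 : allRangeF (checkPointF cert) (nat_lit 122800) (nat_lit 25) = true := by decide +kernel
theorem chkP_122825 : allRangeF (checkPointF cert) (nat_lit 122825) (nat_lit 25) = true := by decide +kernel
theorem chkP_122850 : allRangeF (checkPointF cert) (nat_lit 122850) (nat_lit 25) = true := by decide +kernel
theorem chkP_122875 : allRangeF (checkPointF cert) (nat_lit 122875) (nat_lit 25) = true := by decide +kernel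
theorem chkP_122900 : allRangeF (checkPointF cert) (nat_lit 122900) (nat_lit 25) = true := by decide +kernel
theorem chkP_122925 : allRangeF (checkPointF cert) (nat_lit 122925) (nat_lit 25) = true := by decide +kernel
theorem chkP_122950 : allRangeF (checkPointF cert) (nat_lit 122950) (nat_lit 25) = true := by decide +kernel
theorem chkP_122975 : allRangeF (checkPointF cert) (nat_lit 122975) (nat_lit 25) = true := by decide +kernel
theorem chkP_123000 : allRangeF (checkPointF cert) (nat_lit 123000) (nat_lit 25) = true := by decide +kernel
theorem chkP_123025 : allRangeF (checkPointF cert) (nat_lit 123025) (nat_lit 25) = true := by decide +kernel
theorem chkP_123050 : allRangeF (checkPointF cert) (nat_lit 123050) (nat_lit 25) = true := by decide +kernel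
theorem chkP_123075 : allRangeF (checkPointF cert) (nat_lit 123075) (nat_lit 25) = true := by decide +kernel
theorem chkP_123100 : allRangeF (checkPointF cert) (nat_lit 123100) (nat_lit 25) = true := by decide +kernel
theorem chkP_123125 : allRangeF (checkPointF cert) (nat_lit 123125) (nat_lit 25) = true := by decide +kernel
theorem chkP_123150 : allRangeF (checkPointF cert) (nat_lit 123150) (nat_lit 25) = true := by decide +kernel
theorem chkP_123175 : allRangeF (checkPointF cert) (nat_lit 123175) (nat_lit 25) = true := by decide +kernel
theorem chkP_123200 : allRangeF (checkPointF cert) (nat_lit 123200) (nat_lit 25) = true := by decide +kernel
theorem chkP_123225 : allRangeF (checkPointF cert) (nat_lit 123225) (nat_lit 25) = true := by decide +kernel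
theorem chkP_123250 : allRangeF (checkPointF cert) (nat_lit 123250) (nat_lit 25) = true := by decide +kernel
theorem chkP_123275 : allRangeF (checkPointF cert) (nat_lit 123275) (nat_lit 25) = true := by decide +kernel
theorem chkP_123300 : allRangeF (checkPointF cert) (nat_lit 123300) (nat_lit 25) = true := by decide +kernel
theorem chkP_123325 : allRangeF (checkPointF cert) (nat_lit 123325) (nat_lit 25) = true := by decide +kernel
theorem chkP_123350 : allRangeF (checkPointF cert) (nat_lit 123350) (nat_lit 25) = true := by decide +kernel
theorem chkP_123375 : allRangeF (checkPointF cert) (nat_lit 123375) (nat_lit 25) = true := by decide +kernel
theorem chkP_123400 : allRangeF (checkPointF cert) (nat_lit 123400) (nat_lit 25) = true := by decide +kernel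
theorem chkP_123425 : allRangeF (checkPointF cert) (nat_lit 123425) (nat_lit 25) = true := by decide +kernel
theorem chkP_123450 : allRangeF (checkPointF cert) (nat_lit 123450) (nat_lit 25) = true := by decide +kernel
theorem chkP_123475 : allRangeF (checkPointF cert) (nat_lit 123475) (nat_lit 25) = true := by decide +kernel
theorem chkP_123500 : allRangeF (checkPointF cert) (nat_lit 123500) (nat_lit 25) = true := by decide +kernel
theorem chkP_123525 : allRangeF (checkPointF cert) (nat_lit 123525) (nat_lit 25) = true := by decide +kernel
theorem chkP_123550 : allRangeF (checkPointF cert) (nat_lit 123550) (nat_lit 25) = true := by decide +kernel
theorem chkP_123575 : allRangeF (checkPointF cert) (nat_lit 123575) (nat_lit 25) = true := by decide +kernel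
theorem chkP_123600 : allRangeF (checkPointF cert) (nat_lit 123600) (nat_lit 25) = true := by decide +kernel
theorem chkP_123625 : allRangeF (checkPointF cert) (nat_lit 123625) (nat_lit 25) = true := by decide +kernel
theorem chkP_123650 : allRangeF (checkPointF cert) (nat_lit 123650) (nat_lit 25) = true := by decide +kernel
theorem chkP_123675 : allRangeF (checkPointF cert) (nat_lit 123675) (nat_lit 25) = true := by decide +kernel
theorem chkP_123700 : allRangeF (checkPointF cert) (nat_lit 123700) (nat_lit 25) = true := by decide +kernel
theorem chkP_123725 : allRangeF (checkPointF cert) (nat_lit 123725) (nat_lit 25) = true := by decide +kernel
theorem chkP_123750 : allRangeF (checkPointF cert) (nat_lit 123750) (nat_lit 25) = true := by decide +kernel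
theorem chkP_123775 : allRangeF (checkPointF cert) (nat_lit 123775) (nat_lit 25) = true := by decide +kernel
theorem chkP_123800 : allRangeF (checkPointF cert) (nat_lit 123800) (nat_lit 25) = true := by decide +kernel
theorem chkP_123825 : allRangeF (checkPointF cert) (nat_lit 123825) (nat_lit 25) = true := by decide +kernel
theorem chkP_123850 : allRangeF (checkPointF cert) (nat_lit 123850) (nat_lit 25) = true := by decide +kernel
theorem chkP_123875 : allRangeF (checkPointF cert) (nat_lit 123875) (nat_lit 25) = true := by decide +kernel
theorem chkP_123900 : allRangeF (checkPointF cert) (nat_lit 123900) (nat_lit 25) = true := by decide +kernel
theorem chkP_123925 : allRangeF (checkPointF cert) (nat_lit 123925) (nat_lit 25) = true := by decide +kernel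
theorem chkP_123950 : allRangeF (checkPointF cert) (nat_lit 123950) (nat_lit 25) = true := by decide +kernel
theorem chkP_123975 : allRangeF (checkPointF cert) (nat_lit 123975) (nat_lit 25) = true := by decide +kernel
theorem chkP_124000 : allRangeF (checkPointF cert) (nat_lit 124000) (nat_lit 25) = true := by decide +kernel
theorem chkP_124025 : allRangeF (checkPointF cert) (nat_lit 124025) (nat_lit 25) = true := by decide +kernel
theorem chkP_124050 : allRangeF (checkPointF cert) (nat_lit 124050) (nat_lit 25) = true := by decide +kernel
theorem chkP_124075 : allRangeF (checkPointF cert) (nat_lit 124075) (nat_lit 25) = true := by decide +kernel
theorem chkP_124100 : allRangeF (checkPointF cert) (nat_lit 124100) (nat_lit 25) = true := by decide +kernel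
theorem chkP_124125 : allRangeF (checkPointF cert) (nat_lit 124125) (nat_lit 25) = true := by decide +kernel
theorem chkP_124150 : allRangeF (checkPointF cert) (nat_lit 124150) (nat_lit 25) = true := by decide +kernel
theorem chkP_124175 : allRangeF (checkPointF cert) (nat_lit 124175) (nat_lit 25) = true := by decide +kernel
theorem chkP_124200 : allRangeF (checkPointF cert) (nat_lit 124200) (nat_lit 25) = true := by decide +kernel
theorem chkP_124225 : allRangeF (checkPointF cert) (nat_lit 124225) (nat_lit 25) = true := by decide +kernel
theorem chkP_124250 : allRangeF (checkPointF cert) (nat_lit 124250) (nat_lit 25) = true := by decide +kernel
theorem chkP_124275 : allRangeF (checkPointF cert) (nat_lit 124275) (nat_lit 25) = true := by decide +kernel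
theorem chkP_124300 : allRangeF (checkPointF cert) (nat_lit 124300) (nat_lit 25) = true := by decide +kernel
theorem chkP_124325 : allRangeF (checkPointF cert) (nat_lit 124325) (nat_lit 25) = true := by decide +kernel
theorem chkP_124350 : allRangeF (checkPointF cert) (nat_lit 124350) (nat_lit 25) = true := by decide +kernel
theorem chkP_124375 : allRangeF (checkPointF cert) (nat_lit 124375) (nat_lit 25) = true := by decide +kernel
theorem chkP_124400 : allRangeF (checkPointF cert) (nat_lit 124400) (nat_lit 25) = true := by decide +kernel
theorem chkP_124425 : allRangeF (checkPointF cert) (nat_lit 124425) (nat_lit 25) = true := by decide +kernel
theorem chkP_124450 : allRangeF (checkPointF cert) (nat_lit 124450) (nat_lit 25) = true := by decide +kernel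
theorem chkP_124475 : allRangeF (checkPointF cert) (nat_lit 124475) (nat_lit 25) = true := by decide +kernel
theorem chkP_124500 : allRangeF (checkPointF cert) (nat_lit 124500) (nat_lit 25) = true := by decide +kernel
theorem chkP_124525 : allRangeF (checkPointF cert) (nat_lit 124525) (nat_lit 25) = true := by decide +kernel
theorem chkP_124550 : allRangeF (checkPointF cert) (nat_lit 124550) (nat_lit 25) = true := by decide +kernel
theorem chkP_124575 : allRangeF (checkPointF cert) (nat_lit 124575) (nat_lit 25) = true := by decide +kernel
theorem chkP_124600 : allRangeF (checkPointF cert) (nat_lit 124600) (nat_lit 25) = true := by decide +kernel
theorem chkP_124625 : allRangeF (checkPointF cert) (nat_lit 124625) (nat_lit 25) = true := by decide +kernel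
theorem chkP_124650 : allRangeF (checkPointF cert) (nat_lit 124650) (nat_lit 25) = true := by decide +kernel
theorem chkP_124675 : allRangeF (checkPointF cert) (nat_lit 124675) (nat_lit 25) = true := by decide +kernel
theorem chkP_124700 : allRangeF (checkPointF cert) (nat_lit 124700) (nat_lit 25) = true := by decide +kernel
theorem chkP_124725 : allRangeF (checkPointF cert) (nat_lit 124725) (nat_lit 25) = true := by decide +kernel
theorem chkP_124750 : allRangeF (checkPointF cert) (nat_lit 124750) (nat_lit 25) = true := by decide +kernel
theorem chkP_124775 : allRangeF (checkPointF cert) (nat_lit 124775) (nat_lit 25) = true := by decide +kernel
theorem chkP_124800 : allRangeF (checkPointF cert) (nat_lit 124800) (nat_lit 25) = true := by decide +kernel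
theorem chkP_124825 : allRangeF (checkPointF cert) (nat_lit 124825) (nat_lit 25) = true := by decide +kernel
theorem chkP_124850 : allRangeF (checkPointF cert) (nat_lit 124850) (nat_lit 25) = true := by decide +kernel
theorem chkP_124875 : allRangeF (checkPointF cert) (nat_lit 124875) (nat_lit 25) = true := by decide +kernel
theorem chkP_124900 : allRangeF (checkPointF cert) (nat_lit 124900) (nat_lit 25) = true := by decide +kernel
theorem chkP_124925 : allRangeF (checkPointF cert) (nat_lit 124925) (nat_lit 25) = true := by decide +kernel
theorem chkP_124950 : allRangeF (checkPointF cert) (nat_lit 124950) (nat_lit 25) = true := by decide +kernel
theorem chkP_124975 : allRangeF (checkPointF cert) (nat_lit 124975) (nat_lit 25) = true := by decide +kernel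
theorem chkP_125000 : allRangeF (checkPointF cert) (nat_lit 125000) (nat_lit 25) = true := by decide +kernel
theorem chkP_125025 : allRangeF (checkPointF cert) (nat_lit 125025) (nat_lit 25) = true := by decide +kernel
theorem chkP_125050 : allRangeF (checkPointF cert) (nat_lit 125050) (nat_lit 25) = true := by decide +kernel
theorem chkP_125075 : allRangeF (checkPointF cert) (nat_lit 125075) (nat_lit 25) = true := by decide +kernel
theorem chkP_125100 : allRangeF (checkPointF cert) (nat_lit 125100) (nat_lit 25) = true := by decide +kernel
theorem chkP_125125 : allRangeF (checkPointF cert) (nat_lit 125125) (nat_lit 25) = true := by decide +kernel
theorem chkP_125150 : allRangeF (checkPointF cert) (nat_lit 125150) (nat_lit 25) = true := by decide +kernel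
theorem chkP_125175 : allRangeF (checkPointF cert) (nat_lit 125175) (nat_lit 25) = true := by decide +kernel
theorem chkP_125200 : allRangeF (checkPointF cert) (nat_lit 125200) (nat_lit 25) = true := by decide +kernel
theorem chkP_125225 : allRangeF (checkPointF cert) (nat_lit 125225) (nat_lit 25) = true := by decide +kernel
theorem chkP_125250 : allRangeF (checkPointF cert) (nat_lit 125250) (nat_lit 25) = true := by decide +kernel
theorem chkP_125275 : allRangeF (checkPointF cert) (nat_lit 125275) (nat_lit 25) = true := by decide +kernel
theorem chkP_125300 : allRangeF (checkPointF cert) (nat_lit 125300) (nat_lit 25) = true := by decide +kernel
theorem chkP_125325 : allRangeF (checkPointF cert) (nat_lit 125325) (nat_lit 25) = true := by decide +kernel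
theorem chkP_125350 : allRangeF (checkPointF cert) (nat_lit 125350) (nat_lit 25) = true := by decide +kernel
theorem chkP_125375 : allRangeF (checkPointF cert) (nat_lit 125375) (nat_lit 25) = true := by decide +kernel
theorem chkP_125400 : allRangeF (checkPointF cert) (nat_lit 125400) (nat_lit 25) = true := by decide +kernel
theorem chkP_125425 : allRangeF (checkPointF cert) (nat_lit 125425) (nat_lit 25) = true := by decide +kernel
theorem chkP_125450 : allRangeF (checkPointF cert) (nat_lit 125450) (nat_lit 25) = true := by decide +kernel
theorem chkP_125475 : allRangeF (checkPointF cert) (nat_lit 125475) (nat_lit 25) = true := by decide +kernel
theorem chkP_125500 : allRangeF (checkPointF cert) (nat_lit 125500) (nat_lit 25) = true := by decide +kernel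
theorem chkP_125525 : allRangeF (checkPointF cert) (nat_lit 125525) (nat_lit 25) = true := by decide +kernel
theorem chkP_125550 : allRangeF (checkPointF cert) (nat_lit 125550) (nat_lit 25) = true := by decide +kernel
theorem chkP_125575 : allRangeF (checkPointF cert) (nat_lit 125575) (nat_lit 25) = true := by decide +kernel
theorem chkP_125600 : allRangeF (checkPointF cert) (nat_lit 125600) (nat_lit 25) = true := by decide +kernel
theorem chkP_125625 : allRangeF (checkPointF cert) (nat_lit 125625) (nat_lit 25) = true := by decide +kernel
theorem chkP_125650 : allRangeF (checkPointF cert) (nat_lit 125650) (nat_lit 25) = true := by decide +kernel
theorem chkP_125675 : allRangeF (checkPointF cert) (nat_lit 125675) (nat_lit 25) = true := by decide +kernel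
theorem chkP_125700 : allRangeF (checkPointF cert) (nat_lit 125700) (nat_lit 25) = true := by decide +kernel
theorem chkP_125725 : allRangeF (checkPointF cert) (nat_lit 125725) (nat_lit 25) = true := by decide +kernel
theorem chkP_125750 : allRangeF (checkPointF cert) (nat_lit 125750) (nat_lit 25) = true := by decide +kernel
theorem chkP_125775 : allRangeF (checkPointF cert) (nat_lit 125775) (nat_lit 25) = true := by decide +kernel
theorem chkP_125800 : allRangeF (checkPointF cert) (nat_lit 125800) (nat_lit 25) = true := by decide +kernel
theorem chkP_125825 : allRangeF (checkPointF cert) (nat_lit 125825) (nat_lit 25) = true := by decide +kernel
theorem chkP_125850 : allRangeF (checkPointF cert) (nat_lit 125850) (nat_lit 25) = true := by decide +kernel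
theorem chkP_125875 : allRangeF (checkPointF cert) (nat_lit 125875) (nat_lit 25) = true := by decide +kernel
theorem chkP_125900 : allRangeF (checkPointF cert) (nat_lit 125900) (nat_lit 25) = true := by decide +kernel
theorem chkP_125925 : allRangeF (checkPointF cert) (nat_lit 125925) (nat_lit 25) = true := by decide +kernel
theorem chkP_125950 : allRangeF (checkPointF cert) (nat_lit 125950) (nat_lit 25) = true := by decide +kernel
theorem chkP_125975 : allRangeF (checkPointF cert) (nat_lit 125975) (nat_lit 25) = true := by decide +kernel
theorem chkP_126000 : allRangeF (checkPointF cert) (nat_lit 126000) (nat_lit 25) = true := by decide +kernel
theorem chkP_126025 : allRangeF (checkPointF cert) (nat_lit 126025) (nat_lit 25) = true := by decide +kernel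
theorem chkP_126050 : allRangeF (checkPointF cert) (nat_lit 126050) (nat_lit 25) = true := by decide +kernel
theorem chkP_126075 : allRangeF (checkPointF cert) (nat_lit 126075) (nat_lit 25) = true := by decide +kernel
theorem chkP_126100 : allRangeF (checkPointF cert) (nat_lit 126100) (nat_lit 25) = true := by decide +kernel
theorem chkP_126125 : allRangeF (checkPointF cert) (nat_lit 126125) (nat_lit 25) = true := by decide +kernel
theorem chkP_126150 : allRangeF (checkPointF cert) (nat_lit 126150) (nat_lit 25) = true := by decide +kernel
theorem chkP_126175 : allRangeF (checkPointF cert) (nat_lit 126175) (nat_lit 25) = true := by decide +kernel
theorem chkP_126200 : allRangeF (checkPointF cert) (nat_lit 126200) (nat_lit 25) = true := by decide +kernel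
theorem chkP_126225 : allRangeF (checkPointF cert) (nat_lit 126225) (nat_lit 25) = true := by decide +kernel
theorem chkP_126250 : allRangeF (checkPointF cert) (nat_lit 126250) (nat_lit 25) = true := by decide +kernel
theorem chkP_126275 : allRangeF (checkPointF cert) (nat_lit 126275) (nat_lit 25) = true := by decide +kernel
theorem chkP_126300 : allRangeF (checkPointF cert) (nat_lit 126300) (nat_lit 25) = true := by decide +kernel
theorem chkP_126325 : allRangeF (checkPointF cert) (nat_lit 126325) (nat_lit 25) = true := by decide +kernel
theorem chkP_126350 : allRangeF (checkPointF cert) (nat_lit 126350) (nat_lit 25) = true := by decide +kernel
theorem chkP_126375 : allRangeF (checkPointF cert) (nat_lit 126375) (nat_lit 25) = true := by decide +kernel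
theorem chkP_126400 : allRangeF (checkPointF cert) (nat_lit 126400) (nat_lit 25) = true := by decide +kernel
theorem chkP_126425 : allRangeF (checkPointF cert) (nat_lit 126425) (nat_lit 25) = true := by decide +kernel
theorem chkP_126450 : allRangeF (checkPointF cert) (nat_lit 126450) (nat_lit 25) = true := by decide +kernel
theorem chkP_126475 : allRangeF (checkPointF cert) (nat_lit 126475) (nat_lit 25) = true := by decide +kernel
theorem chkP_126500 : allRangeF (checkPointF cert) (nat_lit 126500) (nat_lit 25) = true := by decide +kernel
theorem chkP_126525 : allRangeF (checkPointF cert) (nat_lit 126525) (nat_lit 25) = true := by decide +kernel
theorem chkP_126550 : allRangeF (checkPointF cert) (nat_lit 126550) (nat_lit 25) = true := by decide +kernel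
theorem chkP_126575 : allRangeF (checkPointF cert) (nat_lit 126575) (nat_lit 25) = true := by decide +kernel
theorem chkP_126600 : allRangeF (checkPointF cert) (nat_lit 126600) (nat_lit 25) = true := by decide +kernel
theorem chkP_126625 : allRangeF (checkPointF cert) (nat_lit 126625) (nat_lit 25) = true := by decide +kernel
theorem chkP_126650 : allRangeF (checkPointF cert) (nat_lit 126650) (nat_lit 25) = true := by decide +kernel
theorem chkP_126675 : allRangeF (checkPointF cert) (nat_lit 126675) (nat_lit 25) = true := by decide +kernel
theorem chkP_126700 : allRangeF (checkPointF cert) (nat_lit 126700) (nat_lit 25) = true := by decide +kernel
theorem chkP_126725 : allRangeF (checkPointF cert) (nat_lit 126725) (nat_lit 25) = true := by decide +kernel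
theorem chkP_126750 : allRangeF (checkPointF cert) (nat_lit 126750) (nat_lit 25) = true := by decide +kernel
theorem chkP_126775 : allRangeF (checkPointF cert) (nat_lit 126775) (nat_lit 25) = true := by decide +kernel
theorem chkP_126800 : allRangeF (checkPointF cert) (nat_lit 126800) (nat_lit 25) = true := by decide +kernel
theorem chkP_126825 : allRangeF (checkPointF cert) (nat_lit 126825) (nat_lit 25) = true := by decide +kernel
theorem chkP_126850 : allRangeF (checkPointF cert) (nat_lit 126850) (nat_lit 25) = true := by decide +kernel
theorem chkP_126875 : allRangeF (checkPointF cert) (nat_lit 126875) (nat_lit 25) = true := by decide +kernel
theorem chkP_126900 : allRangeF (checkPointF cert) (nat_lit 126900) (nat_lit 25) = true := by decide +kernel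
theorem chkP_126925 : allRangeF (checkPointF cert) (nat_lit 126925) (nat_lit 25) = true := by decide +kernel
theorem chkP_126950 : allRangeF (checkPointF cert) (nat_lit 126950) (nat_lit 25) = true := by decide +kernel
theorem chkP_126975 : allRangeF (checkPointF cert) (nat_lit 126975) (nat_lit 25) = true := by decide +kernel
theorem chkP_127000 : allRangeF (checkPointF cert) (nat_lit 127000) (nat_lit 25) = true := by decide +kernel
theorem chkP_127025 : allRangeF (checkPointF cert) (nat_lit 127025) (nat_lit 25) = true := by decide +kernel
theorem chkP_127050 : allRangeF (checkPointF cert) (nat_lit 127050) (nat_lit 25) = true := by decide +kernel
theorem chkP_127075 : allRangeF (checkPointF cert) (nat_lit 127075) (nat_lit 25) = true := by decide +kernel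
theorem chkP_127100 : allRangeF (checkPointF cert) (nat_lit 127100) (nat_lit 25) = true := by decide +kernel
theorem chkP_127125 : allRangeF (checkPointF cert) (nat_lit 127125) (nat_lit 25) = true := by decide +kernel
theorem chkP_127150 : allRangeF (checkPointF cert) (nat_lit 127150) (nat_lit 25) = true := by decide +kernel
theorem chkP_127175 : allRangeF (checkPointF cert) (nat_lit 127175) (nat_lit 25) = true := by decide +kernel
theorem chkP_127200 : allRangeF (checkPointF cert) (nat_lit 127200) (nat_lit 25) = true := by decide +kernel
theorem chkP_127225 : allRangeF (checkPointF cert) (nat_lit 127225) (nat_lit 25) = true := by decide +kernel
theorem chkP_127250 : allRangeF (checkPointF cert) (nat_lit 127250) (nat_lit 25) = true := by decide +kernel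
theorem chkP_127275 : allRangeF (checkPointF cert) (nat_lit 127275) (nat_lit 25) = true := by decide +kernel
theorem chkP_127300 : allRangeF (checkPointF cert) (nat_lit 127300) (nat_lit 25) = true := by decide +kernel
theorem chkP_127325 : allRangeF (checkPointF cert) (nat_lit 127325) (nat_lit 25) = true := by decide +kernel
theorem chkP_127350 : allRangeF (checkPointF cert) (nat_lit 127350) (nat_lit 25) = true := by decide +kernel
theorem chkP_127375 : allRangeF (checkPointF cert) (nat_lit 127375) (nat_lit 25) = true := by decide +kernel
theorem chkP_127400 : allRangeF (checkPointF cert) (nat_lit 127400) (nat_lit 25) = true := by decide +kernel
theorem chkP_127425 : allRangeF (checkPointF cert) (nat_lit 127425) (nat_lit 25) = true := by decide +kernel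
theorem chkP_127450 : allRangeF (checkPointF cert) (nat_lit 127450) (nat_lit 25) = true := by decide +kernel
theorem chkP_127475 : allRangeF (checkPointF cert) (nat_lit 127475) (nat_lit 25) = true := by decide +kernel
theorem chkP_127500 : allRangeF (checkPointF cert) (nat_lit 127500) (nat_lit 25) = true := by decide +kernel
theorem chkP_127525 : allRangeF (checkPointF cert) (nat_lit 127525) (nat_lit 25) = true := by decide +kernel
theorem chkP_127550 : allRangeF (checkPointF cert) (nat_lit 127550) (nat_lit 25) = true := by decide +kernel
theorem chkP_127575 : allRangeF (checkPointF cert) (nat_lit 127575) (nat_lit 25) = true := by decide +kernel
theorem chkP_127600 : allRangeF (checkPointF cert) (nat_lit 127600) (nat_lit 25) = true := by decide +kernel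
theorem chkP_127625 : allRangeF (checkPointF cert) (nat_lit 127625) (nat_lit 25) = true := by decide +kernel
theorem chkP_127650 : allRangeF (checkPointF cert) (nat_lit 127650) (nat_lit 25) = true := by decide +kernel
theorem chkP_127675 : allRangeF (checkPointF cert) (nat_lit 127675) (nat_lit 25) = true := by decide +kernel
theorem chkP_127700 : allRangeF (checkPointF cert) (nat_lit 127700) (nat_lit 25) = true := by decide +kernel
theorem chkP_127725 : allRangeF (checkPointF cert) (nat_lit 127725) (nat_lit 25) = true := by decide +kernel
theorem chkP_127750 : allRangeF (checkPointF cert) (nat_lit 127750) (nat_lit 25) = true := by decide +kernel
theorem chkP_127775 : allRangeF (checkPointF cert) (nat_lit 127775) (nat_lit 25) = true := by decide +kernel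
theorem chkP_127800 : allRangeF (checkPointF cert) (nat_lit 127800) (nat_lit 25) = true := by decide +kernel
theorem chkP_127825 : allRangeF (checkPointF cert) (nat_lit 127825) (nat_lit 25) = true := by decide +kernel
theorem chkP_127850 : allRangeF (checkPointF cert) (nat_lit 127850) (nat_lit 25) = true := by decide +kernel
theorem chkP_127875 : allRangeF (checkPointF cert) (nat_lit 127875) (nat_lit 25) = true := by decide +kernel
theorem chkP_127900 : allRangeF (checkPointF cert) (nat_lit 127900) (nat_lit 25) = true := by decide +kernel
theorem chkP_127925 : allRangeF (checkPointF cert) (nat_lit 127925) (nat_lit 25) = true := by decide +kernel
theorem chkP_127950 : allRangeF (checkPointF cert) (nat_lit 127950) (nat_lit 25) = true := by decide +kernel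
theorem chkP_127975 : allRangeF (checkPointF cert) (nat_lit 127975) (nat_lit 25) = true := by decide +kernel
theorem chkP_128000 : allRangeF (checkPointF cert) (nat_lit 128000) (nat_lit 25) = true := by decide +kernel
theorem chkP_128025 : allRangeF (checkPointF cert) (nat_lit 128025) (nat_lit 25) = true := by decide +kernel
theorem chkP_128050 : allRangeF (checkPointF cert) (nat_lit 128050) (nat_lit 25) = true := by decide +kernel
theorem chkP_128075 : allRangeF (checkPointF cert) (nat_lit 128075) (nat_lit 25) = true := by decide +kernel
theorem chkP_128100 : allRangeF (checkPointF cert) (nat_lit 128100) (nat_lit 25) = true := by decide +kernel
theorem chkP_128125 : allRangeF (checkPointF cert) (nat_lit 128125) (nat_lit 25) = true := by decide +kernel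
theorem chkP_128150 : allRangeF (checkPointF cert) (nat_lit 128150) (nat_lit 25) = true := by decide +kernel
theorem chkP_128175 : allRangeF (checkPointF cert) (nat_lit 128175) (nat_lit 25) = true := by decide +kernel
theorem chkP_128200 : allRangeF (checkPointF cert) (nat_lit 128200) (nat_lit 25) = true := by decide +kernel
theorem chkP_128225 : allRangeF (checkPointF cert) (nat_lit 128225) (nat_lit 25) = true := by decide +kernel
theorem chkP_128250 : allRangeF (checkPointF cert) (nat_lit 128250) (nat_lit 25) = true := by decide +kernel
theorem chkP_128275 : allRangeF (checkPointF cert) (nat_lit 128275) (nat_lit 25) = true := by decide +kernel
theorem chkP_128300 : allRangeF (checkPointF cert) (nat_lit 128300) (nat_lit 25) = true := by decide +kernel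
theorem chkP_128325 : allRangeF (checkPointF cert) (nat_lit 128325) (nat_lit 25) = true := by decide +kernel
theorem chkP_128350 : allRangeF (checkPointF cert) (nat_lit 128350) (nat_lit 25) = true := by decide +kernel
theorem chkP_128375 : allRangeF (checkPointF cert) (nat_lit 128375) (nat_lit 25) = true := by decide +kernel
theorem chkP_128400 : allRangeF (checkPointF cert) (nat_lit 128400) (nat_lit 25) = true := by decide +kernel
theorem chkP_128425 : allRangeF (checkPointF cert) (nat_lit 128425) (nat_lit 25) = true := by decide +kernel
theorem chkP_128450 : allRangeF (checkPointF cert) (nat_lit 128450) (nat_lit 25) = true := by decide +kernel
theorem chkP_128475 : allRangeF (checkPointF cert) (nat_lit 128475) (nat_lit 25) = true := by decide +kernel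
theorem chkP_128500 : allRangeF (checkPointF cert) (nat_lit 128500) (nat_lit 25) = true := by decide +kernel
theorem chkP_128525 : allRangeF (checkPointF cert) (nat_lit 128525) (nat_lit 25) = true := by decide +kernel
theorem chkP_128550 : allRangeF (checkPointF cert) (nat_lit 128550) (nat_lit 25) = true := by decide +kernel
theorem chkP_128575 : allRangeF (checkPointF cert) (nat_lit 128575) (nat_lit 25) = true := by decide +kernel
theorem chkP_128600 : allRangeF (checkPointF cert) (nat_lit 128600) (nat_lit 25) = true := by decide +kernel
theorem chkP_128625 : allRangeF (checkPointF cert) (nat_lit 128625) (nat_lit 25) = true := by decide +kernel
theorem chkP_128650 : allRangeF (checkPointF cert) (nat_lit 128650) (nat_lit 25) = true := by decide +kernel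
theorem chkP_128675 : allRangeF (checkPointF cert) (nat_lit 128675) (nat_lit 25) = true := by decide +kernel
theorem chkP_128700 : allRangeF (checkPointF cert) (nat_lit 128700) (nat_lit 25) = true := by decide +kernel
theorem chkP_128725 : allRangeF (checkPointF cert) (nat_lit 128725) (nat_lit 25) = true := by decide +kernel
theorem chkP_128750 : allRangeF (checkPointF cert) (nat_lit 128750) (nat_lit 25) = true := by decide +kernel
theorem chkP_128775 : allRangeF (checkPointF cert) (nat_lit 128775) (nat_lit 25) = true := by decide +kernel
theorem chkP_128800 : allRangeF (checkPointF cert) (nat_lit 128800) (nat_lit 25) = true := by decide +kernel
theorem chkP_128825 : allRangeF (checkPointF cert) (nat_lit 128825) (nat_lit 25) = true := by decide +kernel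
theorem chkP_128850 : allRangeF (checkPointF cert) (nat_lit 128850) (nat_lit 25) = true := by decide +kernel
theorem chkP_128875 : allRangeF (checkPointF cert) (nat_lit 128875) (nat_lit 25) = true := by decide +kernel
theorem chkP_128900 : allRangeF (checkPointF cert) (nat_lit 128900) (nat_lit 25) = true := by decide +kernel
theorem chkP_128925 : allRangeF (checkPointF cert) (nat_lit 128925) (nat_lit 25) = true := by decide +kernel
theorem chkP_128950 : allRangeF (checkPointF cert) (nat_lit 128950) (nat_lit 25) = true := by decide +kernel
theorem chkP_128975 : allRangeF (checkPointF cert) (nat_lit 128975) (nat_lit 25) = true := by decide +kernel
theorem chkP_129000 : allRangeF (checkPointF cert) (nat_lit 129000) (nat_lit 25) = true := by decide +kernel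
theorem chkP_129025 : allRangeF (checkPointF cert) (nat_lit 129025) (nat_lit 25) = true := by decide +kernel
theorem chkP_129050 : allRangeF (checkPointF cert) (nat_lit 129050) (nat_lit 25) = true := by decide +kernel
theorem chkP_129075 : allRangeF (checkPointF cert) (nat_lit 129075) (nat_lit 25) = true := by decide +kernel
theorem chkP_129100 : allRangeF (checkPointF cert) (nat_lit 129100) (nat_lit 25) = true := by decide +kernel
theorem chkP_129125 : allRangeF (checkPointF cert) (nat_lit 129125) (nat_lit 25) = true := by decide +kernel
theorem chkP_129150 : allRangeF (checkPointF cert) (nat_lit 129150) (nat_lit 25) = true := by decide +kernel
theorem chkP_129175 : allRangeF (checkPointF cert) (nat_lit 129175) (nat_lit 25) = true := by decide +kernel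
theorem chkP_129200 : allRangeF (checkPointF cert) (nat_lit 129200) (nat_lit 25) = true := by decide +kernel
theorem chkP_129225 : allRangeF (checkPointF cert) (nat_lit 129225) (nat_lit 25) = true := by decide +kernel
theorem chkP_129250 : allRangeF (checkPointF cert) (nat_lit 129250) (nat_lit 25) = true := by decide +kernel
theorem chkP_129275 : allRangeF (checkPointF cert) (nat_lit 129275) (nat_lit 25) = true := by decide +kernel
theorem chkP_129300 : allRangeF (checkPointF cert) (nat_lit 129300) (nat_lit 25) = true := by decide +kernel
theorem chkP_129325 : allRangeF (checkPointF cert) (nat_lit 129325) (nat_lit 25) = true := by decide +kernel
theorem chkP_129350 : allRangeF (checkPointF cert) (nat_lit 129350) (nat_lit 25) = true := by decide +kernel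
theorem chkP_129375 : allRangeF (checkPointF cert) (nat_lit 129375) (nat_lit 25) = true := by decide +kernel
theorem chkP_129400 : allRangeF (checkPointF cert) (nat_lit 129400) (nat_lit 25) = true := by decide +kernel
theorem chkP_129425 : allRangeF (checkPointF cert) (nat_lit 129425) (nat_lit 25) = true := by decide +kernel
theorem chkP_129450 : allRangeF (checkPointF cert) (nat_lit 129450) (nat_lit 25) = true := by decide +kernel
theorem chkP_129475 : allRangeF (checkPointF cert) (nat_lit 129475) (nat_lit 25) = true := by decide +kernel
theorem chkP_129500 : allRangeF (checkPointF cert) (nat_lit 129500) (nat_lit 25) = true := by decide +kernel
theorem chkP_129525 : allRangeF (checkPointF cert) (nat_lit 129525) (nat_lit 25) = true := by decide +kernel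
theorem chkP_129550 : allRangeF (checkPointF cert) (nat_lit 129550) (nat_lit 25) = true := by decide +kernel
theorem chkP_129575 : allRangeF (checkPointF cert) (nat_lit 129575) (nat_lit 25) = true := by decide +kernel
theorem chkP_129600 : allRangeF (checkPointF cert) (nat_lit 129600) (nat_lit 25) = true := by decide +kernel
theorem chkP_129625 : allRangeF (checkPointF cert) (nat_lit 129625) (nat_lit 25) = true := by decide +kernel
theorem chkP_129650 : allRangeF (checkPointF cert) (nat_lit 129650) (nat_lit 25) = true := by decide +kernel
theorem chkP_129675 : allRangeF (checkPointF cert) (nat_lit 129675) (nat_lit 25) = true := by decide +kernel
theorem chkP_129700 : allRangeF (checkPointF cert) (nat_lit 129700) (nat_lit 25) = true := by decide +kernel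
theorem chkP_129725 : allRangeF (checkPointF cert) (nat_lit 129725) (nat_lit 25) = true := by decide +kernel
theorem chkP_129750 : allRangeF (checkPointF cert) (nat_lit 129750) (nat_lit 25) = true := by decide +kernel
theorem chkP_129775 : allRangeF (checkPointF cert) (nat_lit 129775) (nat_lit 25) = true := by decide +kernel
theorem chkP_129800 : allRangeF (checkPointF cert) (nat_lit 129800) (nat_lit 25) = true := by decide +kernel
theorem chkP_129825 : allRangeF (checkPointF cert) (nat_lit 129825) (nat_lit 25) = true := by decide +kernel
theorem chkP_129850 : allRangeF (checkPointF cert) (nat_lit 129850) (nat_lit 25) = true := by decide +kernel
theorem chkP_129875 : allRangeF (checkPointF cert) (nat_lit 129875) (nat_lit 25) = true := by decide +kernel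
theorem chkP_129900 : allRangeF (checkPointF cert) (nat_lit 129900) (nat_lit 25) = true := by decide +kernel
theorem chkP_129925 : allRangeF (checkPointF cert) (nat_lit 129925) (nat_lit 25) = true := by decide +kernel
theorem chkP_129950 : allRangeF (checkPointF cert) (nat_lit 129950) (nat_lit 25) = true := by decide +kernel
theorem chkP_129975 : allRangeF (checkPointF cert) (nat_lit 129975) (nat_lit 25) = true := by decide +kernel
theorem chkP_130000 : allRangeF (checkPointF cert) (nat_lit 130000) (nat_lit 25) = true := by decide +kernel
theorem chkP_130025 : allRangeF (checkPointF cert) (nat_lit 130025) (nat_lit 25) = true := by decide +kernel
theorem chkP_130050 : allRangeF (checkPointF cert) (nat_lit 130050) (nat_lit 25) = true := by decide +kernel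
theorem chkP_130075 : allRangeF (checkPointF cert) (nat_lit 130075) (nat_lit 25) = true := by decide +kernel
theorem chkP_130100 : allRangeF (checkPointF cert) (nat_lit 130100) (nat_lit 25) = true := by decide +kernel
theorem chkP_130125 : allRangeF (checkPointF cert) (nat_lit 130125) (nat_lit 25) = true := by decide +kernel
theorem chkP_130150 : allRangeF (checkPointF cert) (nat_lit 130150) (nat_lit 25) = true := by decide +kernel
theorem chkP_130175 : allRangeF (checkPointF cert) (nat_lit 130175) (nat_lit 25) = true := by decide +kernel
theorem chkP_130200 : allRangeF (checkPointF cert) (nat_lit 130200) (nat_lit 25) = true := by decide +kernel
theorem chkP_130225 : allRangeF (checkPointF cert) (nat_lit 130225) (nat_lit 25) = true := by decide +kernel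
theorem chkP_130250 : allRangeF (checkPointF cert) (nat_lit 130250) (nat_lit 25) = true := by decide +kernel
theorem chkP_130275 : allRangeF (checkPointF cert) (nat_lit 130275) (nat_lit 25) = true := by decide +kernel
theorem chkP_130300 : allRangeF (checkPointF cert) (nat_lit 130300) (nat_lit 25) = true := by decide +kernel
theorem chkP_130325 : allRangeF (checkPointF cert) (nat_lit 130325) (nat_lit 25) = true := by decide +kernel
theorem chkP_130350 : allRangeF (checkPointF cert) (nat_lit 130350) (nat_lit 25) = true := by decide +kernel
theorem chkP_130375 : allRangeF (checkPointF cert) (nat_lit 130375) (nat_lit 25) = true := by decide +kernel
theorem chkP_130400 : allRangeF (checkPointF cert) (nat_lit 130400) (nat_lit 25) = true := by decide +kernel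
theorem chkP_130425 : allRangeF (checkPointF cert) (nat_lit 130425) (nat_lit 25) = true := by decide +kernel
theorem chkP_130450 : allRangeF (checkPointF cert) (nat_lit 130450) (nat_lit 25) = true := by decide +kernel

theorem ptsRange_16 : ∀ i, 122800 ≤ i → i < 130475 → checkPoint cert i = true := by
  intro i hlo hhi
  rcases Nat.lt_or_ge i 126625 with h1 | h1
  · skip
    rcases Nat.lt_or_ge i 124700 with h2 | h2
    · skip
      rcases Nat.lt_or_ge i 123750 with h3 | h3
      · skip
        rcases Nat.lt_or_ge i 123275 with h4 | h4
        · skip
          rcases Nat.lt_or_ge i 123025 with h5 | h5
          · skip
            rcases Nat.lt_or_ge i 122900 with h6 | h6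
            · skip
              rcases Nat.lt_or_ge i 122850 with h7 | h7
              · skip
                rcases Nat.lt_or_ge i 122825 with h8 | h8
                · skip
                  exact allRangeF_sound _ _ (checkPointF_eq cert) 122800 25 chkP_122800 i (by omega) (by omega)
                · skip
                  exact allRangeF_sound _ _ (checkPointF_eq cert) 122825 25 chkP_122825 i (by omega) (by omega)
              · skip
                rcases Nat.lt_or_ge i 122875 with h8 | h8
                · skip
                  exact allRangeF_sound _ _ (checkPointF_eq cert) 122850 25 chkP_122850 i (by omega) (by omega)
                · skip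
                  exact allRangeF_sound _ _ (checkPointF_eq cert) 122875 25 chkP_122875 i (by omega) (by omega)
            · skip
              rcases Nat.lt_or_ge i 122950 with h7 | h7
              · skip
                rcases Nat.lt_or_ge i 122925 with h8 | h8
                · skip
                  exact allRangeF_sound _ _ (checkPointF_eq cert) 122900 25 chkP_122900 i (by omega) (by omega)
                · skip
                  exact allRangeF_sound _ _ (checkPointF_eq cert) 122925 25 chkP_122925 i (by omega) (by omega)
              · skip
                rcases Nat.lt_or_ge i 122975 with h8 | h8
                · skip
                  exact allRangeF_sound _ _ (checkPointF_eq cert) 122950 25 chkP_122950 i (by omega) (by omega)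
                · skip
                  rcases Nat.lt_or_ge i 123000 with h9 | h9
                  · skip
                    exact allRangeF_sound _ _ (checkPointF_eq cert) 122975 25 chkP_122975 i (by omega) (by omega)
                  · skip
                    exact allRangeF_sound _ _ (checkPointF_eq cert) 123000 25 chkP_123000 i (by omega) (by omega)
          · skip
            rcases Nat.lt_or_ge i 123150 with h6 | h6
            · skip
              rcases Nat.lt_or_ge i 123075 with h7 | h7
              · skip
                rcases Nat.lt_or_ge i 123050 with h8 | h8
                · skip
                  exact allRangeF_sound _ _ (checkPointF_eq cert) 123025 25 chkP_123025 i (by omega) (by omega)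
                · skip
                  exact allRangeF_sound _ _ (checkPointF_eq cert) 123050 25 chkP_123050 i (by omega) (by omega)
              · skip
                rcases Nat.lt_or_ge i 123100 with h8 | h8
                · skip
                  exact allRangeF_sound _ _ (checkPointF_eq cert) 123075 25 chkP_123075 i (by omega) (by omega)
                · skip
                  rcases Nat.lt_or_ge i 123125 with h9 | h9
                  · skip
                    exact allRangeF_sound _ _ (checkPointF_eq cert) 123100 25 chkP_123100 i (by omega) (by omega)
                  · skip
                    exact allRangeF_sound _ _ (checkPointF_eq cert) 123125 25 chkP_123125 i (by omega) (by omega)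
            · skip
              rcases Nat.lt_or_ge i 123200 with h7 | h7
              · skip
                rcases Nat.lt_or_ge i 123175 with h8 | h8
                · skip
                  exact allRangeF_sound _ _ (checkPointF_eq cert) 123150 25 chkP_123150 i (by omega) (by omega)
                · skip
                  exact allRangeF_sound _ _ (checkPointF_eq cert) 123175 25 chkP_123175 i (by omega) (by omega)
              · skip
                rcases Nat.lt_or_ge i 123225 with h8 | h8
                · skip
                  exact allRangeF_sound _ _ (checkPointF_eq cert) 123200 25 chkP_123200 i (by omega) (by omega)
                · skip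
                  rcases Nat.lt_or_ge i 123250 with h9 | h9
                  · skip
                    exact allRangeF_sound _ _ (checkPointF_eq cert) 123225 25 chkP_123225 i (by omega) (by omega)
                  · skip
                    exact allRangeF_sound _ _ (checkPointF_eq cert) 123250 25 chkP_123250 i (by omega) (by omega)
        · skip
          rcases Nat.lt_or_ge i 123500 with h5 | h5
          · skip
            rcases Nat.lt_or_ge i 123375 with h6 | h6
            · skip
              rcases Nat.lt_or_ge i 123325 with h7 | h7
              · skip
                rcases Nat.lt_or_ge i 123300 with h8 | h8
                · skip
                  exact allRangeF_sound _ _ (checkPointF_eq cert) 123275 25 chkP_123275 i (by omega) (by omega)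
                · skip
                  exact allRangeF_sound _ _ (checkPointF_eq cert) 123300 25 chkP_123300 i (by omega) (by omega)
              · skip
                rcases Nat.lt_or_ge i 123350 with h8 | h8
                · skip
                  exact allRangeF_sound _ _ (checkPointF_eq cert) 123325 25 chkP_123325 i (by omega) (by omega)
                · skip
                  exact allRangeF_sound _ _ (checkPointF_eq cert) 123350 25 chkP_123350 i (by omega) (by omega)
            · skip
              rcases Nat.lt_or_ge i 123425 with h7 | h7
              · skip
                rcases Nat.lt_or_ge i 123400 with h8 | h8
                · skip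
                  exact allRangeF_sound _ _ (checkPointF_eq cert) 123375 25 chkP_123375 i (by omega) (by omega)
                · skip
                  exact allRangeF_sound _ _ (checkPointF_eq cert) 123400 25 chkP_123400 i (by omega) (by omega)
              · skip
                rcases Nat.lt_or_ge i 123450 with h8 | h8
                · skip
                  exact allRangeF_sound _ _ (checkPointF_eq cert) 123425 25 chkP_123425 i (by omega) (by omega)
                · skip
                  rcases Nat.lt_or_ge i 123475 with h9 | h9
                  · skip
                    exact allRangeF_sound _ _ (checkPointF_eq cert) 123450 25 chkP_123450 i (by omega) (by omega)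
                  · skip
                    exact allRangeF_sound _ _ (checkPointF_eq cert) 123475 25 chkP_123475 i (by omega) (by omega)
          · skip
            rcases Nat.lt_or_ge i 123625 with h6 | h6
            · skip
              rcases Nat.lt_or_ge i 123550 with h7 | h7
              · skip
                rcases Nat.lt_or_ge i 123525 with h8 | h8
                · skip
                  exact allRangeF_sound _ _ (checkPointF_eq cert) 123500 25 chkP_123500 i (by omega) (by omega)
                · skip
                  exact allRangeF_sound _ _ (checkPointF_eq cert) 123525 25 chkP_123525 i (by omega) (by omega)
              · skip
                rcases Nat.lt_or_ge i 123575 with h8 | h8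
                · skip
                  exact allRangeF_sound _ _ (checkPointF_eq cert) 123550 25 chkP_123550 i (by omega) (by omega)
                · skip
                  rcases Nat.lt_or_ge i 123600 with h9 | h9
                  · skip
                    exact allRangeF_sound _ _ (checkPointF_eq cert) 123575 25 chkP_123575 i (by omega) (by omega)
                  · skip
                    exact allRangeF_sound _ _ (checkPointF_eq cert) 123600 25 chkP_123600 i (by omega) (by omega)
            · skip
              rcases Nat.lt_or_ge i 123675 with h7 | h7
              · skip
                rcases Nat.lt_or_ge i 123650 with h8 | h8
                · skip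
                  exact allRangeF_sound _ _ (checkPointF_eq cert) 123625 25 chkP_123625 i (by omega) (by omega)
                · skip
                  exact allRangeF_sound _ _ (checkPointF_eq cert) 123650 25 chkP_123650 i (by omega) (by omega)
              · skip
                rcases Nat.lt_or_ge i 123700 with h8 | h8
                · skip
                  exact allRangeF_sound _ _ (checkPointF_eq cert) 123675 25 chkP_123675 i (by omega) (by omega)
                · skip
                  rcases Nat.lt_or_ge i 123725 with h9 | h9
                  · skip
                    exact allRangeF_sound _ _ (checkPointF_eq cert) 123700 25 chkP_123700 i (by omega) (by omega)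
                  · skip
                    exact allRangeF_sound _ _ (checkPointF_eq cert) 123725 25 chkP_123725 i (by omega) (by omega)
      · skip
        rcases Nat.lt_or_ge i 124225 with h4 | h4
        · skip
          rcases Nat.lt_or_ge i 123975 with h5 | h5
          · skip
            rcases Nat.lt_or_ge i 123850 with h6 | h6
            · skip
              rcases Nat.lt_or_ge i 123800 with h7 | h7
              · skip
                rcases Nat.lt_or_ge i 123775 with h8 | h8
                · skip
                  exact allRangeF_sound _ _ (checkPointF_eq cert) 123750 25 chkP_123750 i (by omega) (by omega)
                · skip
                  exact allRangeF_sound _ _ (checkPointF_eq cert) 123775 25 chkP_123775 i (by omega) (by omega)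
              · skip
                rcases Nat.lt_or_ge i 123825 with h8 | h8
                · skip
                  exact allRangeF_sound _ _ (checkPointF_eq cert) 123800 25 chkP_123800 i (by omega) (by omega)
                · skip
                  exact allRangeF_sound _ _ (checkPointF_eq cert) 123825 25 chkP_123825 i (by omega) (by omega)
            · skip
              rcases Nat.lt_or_ge i 123900 with h7 | h7
              · skip
                rcases Nat.lt_or_ge i 123875 with h8 | h8
                · skip
                  exact allRangeF_sound _ _ (checkPointF_eq cert) 123850 25 chkP_123850 i (by omega) (by omega)
                · skip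
                  exact allRangeF_sound _ _ (checkPointF_eq cert) 123875 25 chkP_123875 i (by omega) (by omega)
              · skip
                rcases Nat.lt_or_ge i 123925 with h8 | h8
                · skip
                  exact allRangeF_sound _ _ (checkPointF_eq cert) 123900 25 chkP_123900 i (by omega) (by omega)
                · skip
                  rcases Nat.lt_or_ge i 123950 with h9 | h9
                  · skip
                    exact allRangeF_sound _ _ (checkPointF_eq cert) 123925 25 chkP_123925 i (by omega) (by omega)
                  · skip
                    exact allRangeF_sound _ _ (checkPointF_eq cert) 123950 25 chkP_123950 i (by omega) (by omega)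
          · skip
            rcases Nat.lt_or_ge i 124100 with h6 | h6
            · skip
              rcases Nat.lt_or_ge i 124025 with h7 | h7
              · skip
                rcases Nat.lt_or_ge i 124000 with h8 | h8
                · skip
                  exact allRangeF_sound _ _ (checkPointF_eq cert) 123975 25 chkP_123975 i (by omega) (by omega)
                · skip
                  exact allRangeF_sound _ _ (checkPointF_eq cert) 124000 25 chkP_124000 i (by omega) (by omega)
              · skip
                rcases Nat.lt_or_ge i 124050 with h8 | h8
                · skip
                  exact allRangeF_sound _ _ (checkPointF_eq cert) 124025 25 chkP_124025 i (by omega) (by omega)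
                · skip
                  rcases Nat.lt_or_ge i 124075 with h9 | h9
                  · skip
                    exact allRangeF_sound _ _ (checkPointF_eq cert) 124050 25 chkP_124050 i (by omega) (by omega)
                  · skip
                    exact allRangeF_sound _ _ (checkPointF_eq cert) 124075 25 chkP_124075 i (by omega) (by omega)
            · skip
              rcases Nat.lt_or_ge i 124150 with h7 | h7
              · skip
                rcases Nat.lt_or_ge i 124125 with h8 | h8
                · skip
                  exact allRangeF_sound _ _ (checkPointF_eq cert) 124100 25 chkP_124100 i (by omega) (by omega)
                · skip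
                  exact allRangeF_sound _ _ (checkPointF_eq cert) 124125 25 chkP_124125 i (by omega) (by omega)
              · skip
                rcases Nat.lt_or_ge i 124175 with h8 | h8
                · skip
                  exact allRangeF_sound _ _ (checkPointF_eq cert) 124150 25 chkP_124150 i (by omega) (by omega)
                · skip
                  rcases Nat.lt_or_ge i 124200 with h9 | h9
                  · skip
                    exact allRangeF_sound _ _ (checkPointF_eq cert) 124175 25 chkP_124175 i (by omega) (by omega)
                  · skip
                    exact allRangeF_sound _ _ (checkPointF_eq cert) 124200 25 chkP_124200 i (by omega) (by omega)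
        · skip
          rcases Nat.lt_or_ge i 124450 with h5 | h5
          · skip
            rcases Nat.lt_or_ge i 124325 with h6 | h6
            · skip
              rcases Nat.lt_or_ge i 124275 with h7 | h7
              · skip
                rcases Nat.lt_or_ge i 124250 with h8 | h8
                · skip
                  exact allRangeF_sound _ _ (checkPointF_eq cert) 124225 25 chkP_124225 i (by omega) (by omega)
                · skip
                  exact allRangeF_sound _ _ (checkPointF_eq cert) 124250 25 chkP_124250 i (by omega) (by omega)
              · skip
                rcases Nat.lt_or_ge i 124300 with h8 | h8
                · skip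
                  exact allRangeF_sound _ _ (checkPointF_eq cert) 124275 25 chkP_124275 i (by omega) (by omega)
                · skip
                  exact allRangeF_sound _ _ (checkPointF_eq cert) 124300 25 chkP_124300 i (by omega) (by omega)
            · skip
              rcases Nat.lt_or_ge i 124375 with h7 | h7
              · skip
                rcases Nat.lt_or_ge i 124350 with h8 | h8
                · skip
                  exact allRangeF_sound _ _ (checkPointF_eq cert) 124325 25 chkP_124325 i (by omega) (by omega)
                · skip
                  exact allRangeF_sound _ _ (checkPointF_eq cert) 124350 25 chkP_124350 i (by omega) (by omega)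
              · skip
                rcases Nat.lt_or_ge i 124400 with h8 | h8
                · skip
                  exact allRangeF_sound _ _ (checkPointF_eq cert) 124375 25 chkP_124375 i (by omega) (by omega)
                · skip
                  rcases Nat.lt_or_ge i 124425 with h9 | h9
                  · skip
                    exact allRangeF_sound _ _ (checkPointF_eq cert) 124400 25 chkP_124400 i (by omega) (by omega)
                  · skip
                    exact allRangeF_sound _ _ (checkPointF_eq cert) 124425 25 chkP_124425 i (by omega) (by omega)
          · skip
            rcases Nat.lt_or_ge i 124575 with h6 | h6
            · skip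
              rcases Nat.lt_or_ge i 124500 with h7 | h7
              · skip
                rcases Nat.lt_or_ge i 124475 with h8 | h8
                · skip
                  exact allRangeF_sound _ _ (checkPointF_eq cert) 124450 25 chkP_124450 i (by omega) (by omega)
                · skip
                  exact allRangeF_sound _ _ (checkPointF_eq cert) 124475 25 chkP_124475 i (by omega) (by omega)
              · skip
                rcases Nat.lt_or_ge i 124525 with h8 | h8
                · skip
                  exact allRangeF_sound _ _ (checkPointF_eq cert) 124500 25 chkP_124500 i (by omega) (by omega)
                · skip
                  rcases Nat.lt_or_ge i 124550 with h9 | h9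
                  · skip
                    exact allRangeF_sound _ _ (checkPointF_eq cert) 124525 25 chkP_124525 i (by omega) (by omega)
                  · skip
                    exact allRangeF_sound _ _ (checkPointF_eq cert) 124550 25 chkP_124550 i (by omega) (by omega)
            · skip
              rcases Nat.lt_or_ge i 124625 with h7 | h7
              · skip
                rcases Nat.lt_or_ge i 124600 with h8 | h8
                · skip
                  exact allRangeF_sound _ _ (checkPointF_eq cert) 124575 25 chkP_124575 i (by omega) (by omega)
                · skip
                  exact allRangeF_sound _ _ (checkPointF_eq cert) 124600 25 chkP_124600 i (by omega) (by omega)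
              · skip
                rcases Nat.lt_or_ge i 124650 with h8 | h8
                · skip
                  exact allRangeF_sound _ _ (checkPointF_eq cert) 124625 25 chkP_124625 i (by omega) (by omega)
                · skip
                  rcases Nat.lt_or_ge i 124675 with h9 | h9
                  · skip
                    exact allRangeF_sound _ _ (checkPointF_eq cert) 124650 25 chkP_124650 i (by omega) (by omega)
                  · skip
                    exact allRangeF_sound _ _ (checkPointF_eq cert) 124675 25 chkP_124675 i (by omega) (by omega)
    · skip
      rcases Nat.lt_or_ge i 125650 with h3 | h3
      · skip
        rcases Nat.lt_or_ge i 125175 with h4 | h4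
        · skip
          rcases Nat.lt_or_ge i 124925 with h5 | h5
          · skip
            rcases Nat.lt_or_ge i 124800 with h6 | h6
            · skip
              rcases Nat.lt_or_ge i 124750 with h7 | h7
              · skip
                rcases Nat.lt_or_ge i 124725 with h8 | h8
                · skip
                  exact allRangeF_sound _ _ (checkPointF_eq cert) 124700 25 chkP_124700 i (by omega) (by omega)
                · skip
                  exact allRangeF_sound _ _ (checkPointF_eq cert) 124725 25 chkP_124725 i (by omega) (by omega)
              · skip
                rcases Nat.lt_or_ge i 124775 with h8 | h8
                · skip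
                  exact allRangeF_sound _ _ (checkPointF_eq cert) 124750 25 chkP_124750 i (by omega) (by omega)
                · skip
                  exact allRangeF_sound _ _ (checkPointF_eq cert) 124775 25 chkP_124775 i (by omega) (by omega)
            · skip
              rcases Nat.lt_or_ge i 124850 with h7 | h7
              · skip
                rcases Nat.lt_or_ge i 124825 with h8 | h8
                · skip
                  exact allRangeF_sound _ _ (checkPointF_eq cert) 124800 25 chkP_124800 i (by omega) (by omega)
                · skip
                  exact allRangeF_sound _ _ (checkPointF_eq cert) 124825 25 chkP_124825 i (by omega) (by omega)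
              · skip
                rcases Nat.lt_or_ge i 124875 with h8 | h8
                · skip
                  exact allRangeF_sound _ _ (checkPointF_eq cert) 124850 25 chkP_124850 i (by omega) (by omega)
                · skip
                  rcases Nat.lt_or_ge i 124900 with h9 | h9
                  · skip
                    exact allRangeF_sound _ _ (checkPointF_eq cert) 124875 25 chkP_124875 i (by omega) (by omega)
                  · skip
                    exact allRangeF_sound _ _ (checkPointF_eq cert) 124900 25 chkP_124900 i (by omega) (by omega)
          · skip
            rcases Nat.lt_or_ge i 125050 with h6 | h6
            · skip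
              rcases Nat.lt_or_ge i 124975 with h7 | h7
              · skip
                rcases Nat.lt_or_ge i 124950 with h8 | h8
                · skip
                  exact allRangeF_sound _ _ (checkPointF_eq cert) 124925 25 chkP_124925 i (by omega) (by omega)
                · skip
                  exact allRangeF_sound _ _ (checkPointF_eq cert) 124950 25 chkP_124950 i (by omega) (by omega)
              · skip
                rcases Nat.lt_or_ge i 125000 with h8 | h8
                · skip
                  exact allRangeF_sound _ _ (checkPointF_eq cert) 124975 25 chkP_124975 i (by omega) (by omega)
                · skip
                  rcases Nat.lt_or_ge i 125025 with h9 | h9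
                  · skip
                    exact allRangeF_sound _ _ (checkPointF_eq cert) 125000 25 chkP_125000 i (by omega) (by omega)
                  · skip
                    exact allRangeF_sound _ _ (checkPointF_eq cert) 125025 25 chkP_125025 i (by omega) (by omega)
            · skip
              rcases Nat.lt_or_ge i 125100 with h7 | h7
              · skip
                rcases Nat.lt_or_ge i 125075 with h8 | h8
                · skip
                  exact allRangeF_sound _ _ (checkPointF_eq cert) 125050 25 chkP_125050 i (by omega) (by omega)
                · skip
                  exact allRangeF_sound _ _ (checkPointF_eq cert) 125075 25 chkP_125075 i (by omega) (by omega)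
              · skip
                rcases Nat.lt_or_ge i 125125 with h8 | h8
                · skip
                  exact allRangeF_sound _ _ (checkPointF_eq cert) 125100 25 chkP_125100 i (by omega) (by omega)
                · skip
                  rcases Nat.lt_or_ge i 125150 with h9 | h9
                  · skip
                    exact allRangeF_sound _ _ (checkPointF_eq cert) 125125 25 chkP_125125 i (by omega) (by omega)
                  · skip
                    exact allRangeF_sound _ _ (checkPointF_eq cert) 125150 25 chkP_125150 i (by omega) (by omega)
        · skip
          rcases Nat.lt_or_ge i 125400 with h5 | h5
          · skip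
            rcases Nat.lt_or_ge i 125275 with h6 | h6
            · skip
              rcases Nat.lt_or_ge i 125225 with h7 | h7
              · skip
                rcases Nat.lt_or_ge i 125200 with h8 | h8
                · skip
                  exact allRangeF_sound _ _ (checkPointF_eq cert) 125175 25 chkP_125175 i (by omega) (by omega)
                · skip
                  exact allRangeF_sound _ _ (checkPointF_eq cert) 125200 25 chkP_125200 i (by omega) (by omega)
              · skip
                rcases Nat.lt_or_ge i 125250 with h8 | h8
                · skip
                  exact allRangeF_sound _ _ (checkPointF_eq cert) 125225 25 chkP_125225 i (by omega) (by omega)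
                · skip
                  exact allRangeF_sound _ _ (checkPointF_eq cert) 125250 25 chkP_125250 i (by omega) (by omega)
            · skip
              rcases Nat.lt_or_ge i 125325 with h7 | h7
              · skip
                rcases Nat.lt_or_ge i 125300 with h8 | h8
                · skip
                  exact allRangeF_sound _ _ (checkPointF_eq cert) 125275 25 chkP_125275 i (by omega) (by omega)
                · skip
                  exact allRangeF_sound _ _ (checkPointF_eq cert) 125300 25 chkP_125300 i (by omega) (by omega)
              · skip
                rcases Nat.lt_or_ge i 125350 with h8 | h8
                · skip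
                  exact allRangeF_sound _ _ (checkPointF_eq cert) 125325 25 chkP_125325 i (by omega) (by omega)
                · skip
                  rcases Nat.lt_or_ge i 125375 with h9 | h9
                  · skip
                    exact allRangeF_sound _ _ (checkPointF_eq cert) 125350 25 chkP_125350 i (by omega) (by omega)
                  · skip
                    exact allRangeF_sound _ _ (checkPointF_eq cert) 125375 25 chkP_125375 i (by omega) (by omega)
          · skip
            rcases Nat.lt_or_ge i 125525 with h6 | h6
            · skip
              rcases Nat.lt_or_ge i 125450 with h7 | h7
              · skip
                rcases Nat.lt_or_ge i 125425 with h8 | h8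
                · skip
                  exact allRangeF_sound _ _ (checkPointF_eq cert) 125400 25 chkP_125400 i (by omega) (by omega)
                · skip
                  exact allRangeF_sound _ _ (checkPointF_eq cert) 125425 25 chkP_125425 i (by omega) (by omega)
              · skip
                rcases Nat.lt_or_ge i 125475 with h8 | h8
                · skip
                  exact allRangeF_sound _ _ (checkPointF_eq cert) 125450 25 chkP_125450 i (by omega) (by omega)
                · skip
                  rcases Nat.lt_or_ge i 125500 with h9 | h9
                  · skip
                    exact allRangeF_sound _ _ (checkPointF_eq cert) 125475 25 chkP_125475 i (by omega) (by omega)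
                  · skip
                    exact allRangeF_sound _ _ (checkPointF_eq cert) 125500 25 chkP_125500 i (by omega) (by omega)
            · skip
              rcases Nat.lt_or_ge i 125575 with h7 | h7
              · skip
                rcases Nat.lt_or_ge i 125550 with h8 | h8
                · skip
                  exact allRangeF_sound _ _ (checkPointF_eq cert) 125525 25 chkP_125525 i (by omega) (by omega)
                · skip
                  exact allRangeF_sound _ _ (checkPointF_eq cert) 125550 25 chkP_125550 i (by omega) (by omega)
              · skip
                rcases Nat.lt_or_ge i 125600 with h8 | h8
                · skip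
                  exact allRangeF_sound _ _ (checkPointF_eq cert) 125575 25 chkP_125575 i (by omega) (by omega)
                · skip
                  rcases Nat.lt_or_ge i 125625 with h9 | h9
                  · skip
                    exact allRangeF_sound _ _ (checkPointF_eq cert) 125600 25 chkP_125600 i (by omega) (by omega)
                  · skip
                    exact allRangeF_sound _ _ (checkPointF_eq cert) 125625 25 chkP_125625 i (by omega) (by omega)
      · skip
        rcases Nat.lt_or_ge i 126125 with h4 | h4
        · skip
          rcases Nat.lt_or_ge i 125875 with h5 | h5
          · skip
            rcases Nat.lt_or_ge i 125750 with h6 | h6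
            · skip
              rcases Nat.lt_or_ge i 125700 with h7 | h7
              · skip
                rcases Nat.lt_or_ge i 125675 with h8 | h8
                · skip
                  exact allRangeF_sound _ _ (checkPointF_eq cert) 125650 25 chkP_125650 i (by omega) (by omega)
                · skip
                  exact allRangeF_sound _ _ (checkPointF_eq cert) 125675 25 chkP_125675 i (by omega) (by omega)
              · skip
                rcases Nat.lt_or_ge i 125725 with h8 | h8
                · skip
                  exact allRangeF_sound _ _ (checkPointF_eq cert) 125700 25 chkP_125700 i (by omega) (by omega)
                · skip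
                  exact allRangeF_sound _ _ (checkPointF_eq cert) 125725 25 chkP_125725 i (by omega) (by omega)
            · skip
              rcases Nat.lt_or_ge i 125800 with h7 | h7
              · skip
                rcases Nat.lt_or_ge i 125775 with h8 | h8
                · skip
                  exact allRangeF_sound _ _ (checkPointF_eq cert) 125750 25 chkP_125750 i (by omega) (by omega)
                · skip
                  exact allRangeF_sound _ _ (checkPointF_eq cert) 125775 25 chkP_125775 i (by omega) (by omega)
              · skip
                rcases Nat.lt_or_ge i 125825 with h8 | h8
                · skip
                  exact allRangeF_sound _ _ (checkPointF_eq cert) 125800 25 chkP_125800 i (by omega) (by omega)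
                · skip
                  rcases Nat.lt_or_ge i 125850 with h9 | h9
                  · skip
                    exact allRangeF_sound _ _ (checkPointF_eq cert) 125825 25 chkP_125825 i (by omega) (by omega)
                  · skip
                    exact allRangeF_sound _ _ (checkPointF_eq cert) 125850 25 chkP_125850 i (by omega) (by omega)
          · skip
            rcases Nat.lt_or_ge i 126000 with h6 | h6
            · skip
              rcases Nat.lt_or_ge i 125925 with h7 | h7
              · skip
                rcases Nat.lt_or_ge i 125900 with h8 | h8
                · skip
                  exact allRangeF_sound _ _ (checkPointF_eq cert) 125875 25 chkP_125875 i (by omega) (by omega)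
                · skip
                  exact allRangeF_sound _ _ (checkPointF_eq cert) 125900 25 chkP_125900 i (by omega) (by omega)
              · skip
                rcases Nat.lt_or_ge i 125950 with h8 | h8
                · skip
                  exact allRangeF_sound _ _ (checkPointF_eq cert) 125925 25 chkP_125925 i (by omega) (by omega)
                · skip
                  rcases Nat.lt_or_ge i 125975 with h9 | h9
                  · skip
                    exact allRangeF_sound _ _ (checkPointF_eq cert) 125950 25 chkP_125950 i (by omega) (by omega)
                  · skip
                    exact allRangeF_sound _ _ (checkPointF_eq cert) 125975 25 chkP_125975 i (by omega) (by omega)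
            · skip
              rcases Nat.lt_or_ge i 126050 with h7 | h7
              · skip
                rcases Nat.lt_or_ge i 126025 with h8 | h8
                · skip
                  exact allRangeF_sound _ _ (checkPointF_eq cert) 126000 25 chkP_126000 i (by omega) (by omega)
                · skip
                  exact allRangeF_sound _ _ (checkPointF_eq cert) 126025 25 chkP_126025 i (by omega) (by omega)
              · skip
                rcases Nat.lt_or_ge i 126075 with h8 | h8
                · skip
                  exact allRangeF_sound _ _ (checkPointF_eq cert) 126050 25 chkP_126050 i (by omega) (by omega)
                · skip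
                  rcases Nat.lt_or_ge i 126100 with h9 | h9
                  · skip
                    exact allRangeF_sound _ _ (checkPointF_eq cert) 126075 25 chkP_126075 i (by omega) (by omega)
                  · skip
                    exact allRangeF_sound _ _ (checkPointF_eq cert) 126100 25 chkP_126100 i (by omega) (by omega)
        · skip
          rcases Nat.lt_or_ge i 126375 with h5 | h5
          · skip
            rcases Nat.lt_or_ge i 126250 with h6 | h6
            · skip
              rcases Nat.lt_or_ge i 126175 with h7 | h7
              · skip
                rcases Nat.lt_or_ge i 126150 with h8 | h8
                · skip
                  exact allRangeF_sound _ _ (checkPointF_eq cert) 126125 25 chkP_126125 i (by omega) (by omega)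
                · skip
                  exact allRangeF_sound _ _ (checkPointF_eq cert) 126150 25 chkP_126150 i (by omega) (by omega)
              · skip
                rcases Nat.lt_or_ge i 126200 with h8 | h8
                · skip
                  exact allRangeF_sound _ _ (checkPointF_eq cert) 126175 25 chkP_126175 i (by omega) (by omega)
                · skip
                  rcases Nat.lt_or_ge i 126225 with h9 | h9
                  · skip
                    exact allRangeF_sound _ _ (checkPointF_eq cert) 126200 25 chkP_126200 i (by omega) (by omega)
                  · skip
                    exact allRangeF_sound _ _ (checkPointF_eq cert) 126225 25 chkP_126225 i (by omega) (by omega)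
            · skip
              rcases Nat.lt_or_ge i 126300 with h7 | h7
              · skip
                rcases Nat.lt_or_ge i 126275 with h8 | h8
                · skip
                  exact allRangeF_sound _ _ (checkPointF_eq cert) 126250 25 chkP_126250 i (by omega) (by omega)
                · skip
                  exact allRangeF_sound _ _ (checkPointF_eq cert) 126275 25 chkP_126275 i (by omega) (by omega)
              · skip
                rcases Nat.lt_or_ge i 126325 with h8 | h8
                · skip
                  exact allRangeF_sound _ _ (checkPointF_eq cert) 126300 25 chkP_126300 i (by omega) (by omega)
                · skip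
                  rcases Nat.lt_or_ge i 126350 with h9 | h9
                  · skip
                    exact allRangeF_sound _ _ (checkPointF_eq cert) 126325 25 chkP_126325 i (by omega) (by omega)
                  · skip
                    exact allRangeF_sound _ _ (checkPointF_eq cert) 126350 25 chkP_126350 i (by omega) (by omega)
          · skip
            rcases Nat.lt_or_ge i 126500 with h6 | h6
            · skip
              rcases Nat.lt_or_ge i 126425 with h7 | h7
              · skip
                rcases Nat.lt_or_ge i 126400 with h8 | h8
                · skip
                  exact allRangeF_sound _ _ (checkPointF_eq cert) 126375 25 chkP_126375 i (by omega) (by omega)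
                · skip
                  exact allRangeF_sound _ _ (checkPointF_eq cert) 126400 25 chkP_126400 i (by omega) (by omega)
              · skip
                rcases Nat.lt_or_ge i 126450 with h8 | h8
                · skip
                  exact allRangeF_sound _ _ (checkPointF_eq cert) 126425 25 chkP_126425 i (by omega) (by omega)
                · skip
                  rcases Nat.lt_or_ge i 126475 with h9 | h9
                  · skip
                    exact allRangeF_sound _ _ (checkPointF_eq cert) 126450 25 chkP_126450 i (by omega) (by omega)
                  · skip
                    exact allRangeF_sound _ _ (checkPointF_eq cert) 126475 25 chkP_126475 i (by omega) (by omega)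
            · skip
              rcases Nat.lt_or_ge i 126550 with h7 | h7
              · skip
                rcases Nat.lt_or_ge i 126525 with h8 | h8
                · skip
                  exact allRangeF_sound _ _ (checkPointF_eq cert) 126500 25 chkP_126500 i (by omega) (by omega)
                · skip
                  exact allRangeF_sound _ _ (checkPointF_eq cert) 126525 25 chkP_126525 i (by omega) (by omega)
              · skip
                rcases Nat.lt_or_ge i 126575 with h8 | h8
                · skip
                  exact allRangeF_sound _ _ (checkPointF_eq cert) 126550 25 chkP_126550 i (by omega) (by omega)
                · skip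
                  rcases Nat.lt_or_ge i 126600 with h9 | h9
                  · skip
                    exact allRangeF_sound _ _ (checkPointF_eq cert) 126575 25 chkP_126575 i (by omega) (by omega)
                  · skip
                    exact allRangeF_sound _ _ (checkPointF_eq cert) 126600 25 chkP_126600 i (by omega) (by omega)
  · skip
    rcases Nat.lt_or_ge i 128550 with h2 | h2
    · skip
      rcases Nat.lt_or_ge i 127575 with h3 | h3
      · skip
        rcases Nat.lt_or_ge i 127100 with h4 | h4
        · skip
          rcases Nat.lt_or_ge i 126850 with h5 | h5
          · skip
            rcases Nat.lt_or_ge i 126725 with h6 | h6
            · skip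
              rcases Nat.lt_or_ge i 126675 with h7 | h7
              · skip
                rcases Nat.lt_or_ge i 126650 with h8 | h8
                · skip
                  exact allRangeF_sound _ _ (checkPointF_eq cert) 126625 25 chkP_126625 i (by omega) (by omega)
                · skip
                  exact allRangeF_sound _ _ (checkPointF_eq cert) 126650 25 chkP_126650 i (by omega) (by omega)
              · skip
                rcases Nat.lt_or_ge i 126700 with h8 | h8
                · skip
                  exact allRangeF_sound _ _ (checkPointF_eq cert) 126675 25 chkP_126675 i (by omega) (by omega)
                · skip
                  exact allRangeF_sound _ _ (checkPointF_eq cert) 126700 25 chkP_126700 i (by omega) (by omega)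
            · skip
              rcases Nat.lt_or_ge i 126775 with h7 | h7
              · skip
                rcases Nat.lt_or_ge i 126750 with h8 | h8
                · skip
                  exact allRangeF_sound _ _ (checkPointF_eq cert) 126725 25 chkP_126725 i (by omega) (by omega)
                · skip
                  exact allRangeF_sound _ _ (checkPointF_eq cert) 126750 25 chkP_126750 i (by omega) (by omega)
              · skip
                rcases Nat.lt_or_ge i 126800 with h8 | h8
                · skip
                  exact allRangeF_sound _ _ (checkPointF_eq cert) 126775 25 chkP_126775 i (by omega) (by omega)
                · skip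
                  rcases Nat.lt_or_ge i 126825 with h9 | h9
                  · skip
                    exact allRangeF_sound _ _ (checkPointF_eq cert) 126800 25 chkP_126800 i (by omega) (by omega)
                  · skip
                    exact allRangeF_sound _ _ (checkPointF_eq cert) 126825 25 chkP_126825 i (by omega) (by omega)
          · skip
            rcases Nat.lt_or_ge i 126975 with h6 | h6
            · skip
              rcases Nat.lt_or_ge i 126900 with h7 | h7
              · skip
                rcases Nat.lt_or_ge i 126875 with h8 | h8
                · skip
                  exact allRangeF_sound _ _ (checkPointF_eq cert) 126850 25 chkP_126850 i (by omega) (by omega)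
                · skip
                  exact allRangeF_sound _ _ (checkPointF_eq cert) 126875 25 chkP_126875 i (by omega) (by omega)
              · skip
                rcases Nat.lt_or_ge i 126925 with h8 | h8
                · skip
                  exact allRangeF_sound _ _ (checkPointF_eq cert) 126900 25 chkP_126900 i (by omega) (by omega)
                · skip
                  rcases Nat.lt_or_ge i 126950 with h9 | h9
                  · skip
                    exact allRangeF_sound _ _ (checkPointF_eq cert) 126925 25 chkP_126925 i (by omega) (by omega)
                  · skip
                    exact allRangeF_sound _ _ (checkPointF_eq cert) 126950 25 chkP_126950 i (by omega) (by omega)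
            · skip
              rcases Nat.lt_or_ge i 127025 with h7 | h7
              · skip
                rcases Nat.lt_or_ge i 127000 with h8 | h8
                · skip
                  exact allRangeF_sound _ _ (checkPointF_eq cert) 126975 25 chkP_126975 i (by omega) (by omega)
                · skip
                  exact allRangeF_sound _ _ (checkPointF_eq cert) 127000 25 chkP_127000 i (by omega) (by omega)
              · skip
                rcases Nat.lt_or_ge i 127050 with h8 | h8
                · skip
                  exact allRangeF_sound _ _ (checkPointF_eq cert) 127025 25 chkP_127025 i (by omega) (by omega)
                · skip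
                  rcases Nat.lt_or_ge i 127075 with h9 | h9
                  · skip
                    exact allRangeF_sound _ _ (checkPointF_eq cert) 127050 25 chkP_127050 i (by omega) (by omega)
                  · skip
                    exact allRangeF_sound _ _ (checkPointF_eq cert) 127075 25 chkP_127075 i (by omega) (by omega)
        · skip
          rcases Nat.lt_or_ge i 127325 with h5 | h5
          · skip
            rcases Nat.lt_or_ge i 127200 with h6 | h6
            · skip
              rcases Nat.lt_or_ge i 127150 with h7 | h7
              · skip
                rcases Nat.lt_or_ge i 127125 with h8 | h8
                · skip
                  exact allRangeF_sound _ _ (checkPointF_eq cert) 127100 25 chkP_127100 i (by omega) (by omega)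
                · skip
                  exact allRangeF_sound _ _ (checkPointF_eq cert) 127125 25 chkP_127125 i (by omega) (by omega)
              · skip
                rcases Nat.lt_or_ge i 127175 with h8 | h8
                · skip
                  exact allRangeF_sound _ _ (checkPointF_eq cert) 127150 25 chkP_127150 i (by omega) (by omega)
                · skip
                  exact allRangeF_sound _ _ (checkPointF_eq cert) 127175 25 chkP_127175 i (by omega) (by omega)
            · skip
              rcases Nat.lt_or_ge i 127250 with h7 | h7
              · skip
                rcases Nat.lt_or_ge i 127225 with h8 | h8
                · skip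
                  exact allRangeF_sound _ _ (checkPointF_eq cert) 127200 25 chkP_127200 i (by omega) (by omega)
                · skip
                  exact allRangeF_sound _ _ (checkPointF_eq cert) 127225 25 chkP_127225 i (by omega) (by omega)
              · skip
                rcases Nat.lt_or_ge i 127275 with h8 | h8
                · skip
                  exact allRangeF_sound _ _ (checkPointF_eq cert) 127250 25 chkP_127250 i (by omega) (by omega)
                · skip
                  rcases Nat.lt_or_ge i 127300 with h9 | h9
                  · skip
                    exact allRangeF_sound _ _ (checkPointF_eq cert) 127275 25 chkP_127275 i (by omega) (by omega)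
                  · skip
                    exact allRangeF_sound _ _ (checkPointF_eq cert) 127300 25 chkP_127300 i (by omega) (by omega)
          · skip
            rcases Nat.lt_or_ge i 127450 with h6 | h6
            · skip
              rcases Nat.lt_or_ge i 127375 with h7 | h7
              · skip
                rcases Nat.lt_or_ge i 127350 with h8 | h8
                · skip
                  exact allRangeF_sound _ _ (checkPointF_eq cert) 127325 25 chkP_127325 i (by omega) (by omega)
                · skip
                  exact allRangeF_sound _ _ (checkPointF_eq cert) 127350 25 chkP_127350 i (by omega) (by omega)
              · skip
                rcases Nat.lt_or_ge i 127400 with h8 | h8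
                · skip
                  exact allRangeF_sound _ _ (checkPointF_eq cert) 127375 25 chkP_127375 i (by omega) (by omega)
                · skip
                  rcases Nat.lt_or_ge i 127425 with h9 | h9
                  · skip
                    exact allRangeF_sound _ _ (checkPointF_eq cert) 127400 25 chkP_127400 i (by omega) (by omega)
                  · skip
                    exact allRangeF_sound _ _ (checkPointF_eq cert) 127425 25 chkP_127425 i (by omega) (by omega)
            · skip
              rcases Nat.lt_or_ge i 127500 with h7 | h7
              · skip
                rcases Nat.lt_or_ge i 127475 with h8 | h8
                · skip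
                  exact allRangeF_sound _ _ (checkPointF_eq cert) 127450 25 chkP_127450 i (by omega) (by omega)
                · skip
                  exact allRangeF_sound _ _ (checkPointF_eq cert) 127475 25 chkP_127475 i (by omega) (by omega)
              · skip
                rcases Nat.lt_or_ge i 127525 with h8 | h8
                · skip
                  exact allRangeF_sound _ _ (checkPointF_eq cert) 127500 25 chkP_127500 i (by omega) (by omega)
                · skip
                  rcases Nat.lt_or_ge i 127550 with h9 | h9
                  · skip
                    exact allRangeF_sound _ _ (checkPointF_eq cert) 127525 25 chkP_127525 i (by omega) (by omega)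
                  · skip
                    exact allRangeF_sound _ _ (checkPointF_eq cert) 127550 25 chkP_127550 i (by omega) (by omega)
      · skip
        rcases Nat.lt_or_ge i 128050 with h4 | h4
        · skip
          rcases Nat.lt_or_ge i 127800 with h5 | h5
          · skip
            rcases Nat.lt_or_ge i 127675 with h6 | h6
            · skip
              rcases Nat.lt_or_ge i 127625 with h7 | h7
              · skip
                rcases Nat.lt_or_ge i 127600 with h8 | h8
                · skip
                  exact allRangeF_sound _ _ (checkPointF_eq cert) 127575 25 chkP_127575 i (by omega) (by omega)
                · skip
                  exact allRangeF_sound _ _ (checkPointF_eq cert) 127600 25 chkP_127600 i (by omega) (by omega)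
              · skip
                rcases Nat.lt_or_ge i 127650 with h8 | h8
                · skip
                  exact allRangeF_sound _ _ (checkPointF_eq cert) 127625 25 chkP_127625 i (by omega) (by omega)
                · skip
                  exact allRangeF_sound _ _ (checkPointF_eq cert) 127650 25 chkP_127650 i (by omega) (by omega)
            · skip
              rcases Nat.lt_or_ge i 127725 with h7 | h7
              · skip
                rcases Nat.lt_or_ge i 127700 with h8 | h8
                · skip
                  exact allRangeF_sound _ _ (checkPointF_eq cert) 127675 25 chkP_127675 i (by omega) (by omega)
                · skip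
                  exact allRangeF_sound _ _ (checkPointF_eq cert) 127700 25 chkP_127700 i (by omega) (by omega)
              · skip
                rcases Nat.lt_or_ge i 127750 with h8 | h8
                · skip
                  exact allRangeF_sound _ _ (checkPointF_eq cert) 127725 25 chkP_127725 i (by omega) (by omega)
                · skip
                  rcases Nat.lt_or_ge i 127775 with h9 | h9
                  · skip
                    exact allRangeF_sound _ _ (checkPointF_eq cert) 127750 25 chkP_127750 i (by omega) (by omega)
                  · skip
                    exact allRangeF_sound _ _ (checkPointF_eq cert) 127775 25 chkP_127775 i (by omega) (by omega)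
          · skip
            rcases Nat.lt_or_ge i 127925 with h6 | h6
            · skip
              rcases Nat.lt_or_ge i 127850 with h7 | h7
              · skip
                rcases Nat.lt_or_ge i 127825 with h8 | h8
                · skip
                  exact allRangeF_sound _ _ (checkPointF_eq cert) 127800 25 chkP_127800 i (by omega) (by omega)
                · skip
                  exact allRangeF_sound _ _ (checkPointF_eq cert) 127825 25 chkP_127825 i (by omega) (by omega)
              · skip
                rcases Nat.lt_or_ge i 127875 with h8 | h8
                · skip
                  exact allRangeF_sound _ _ (checkPointF_eq cert) 127850 25 chkP_127850 i (by omega) (by omega)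
                · skip
                  rcases Nat.lt_or_ge i 127900 with h9 | h9
                  · skip
                    exact allRangeF_sound _ _ (checkPointF_eq cert) 127875 25 chkP_127875 i (by omega) (by omega)
                  · skip
                    exact allRangeF_sound _ _ (checkPointF_eq cert) 127900 25 chkP_127900 i (by omega) (by omega)
            · skip
              rcases Nat.lt_or_ge i 127975 with h7 | h7
              · skip
                rcases Nat.lt_or_ge i 127950 with h8 | h8
                · skip
                  exact allRangeF_sound _ _ (checkPointF_eq cert) 127925 25 chkP_127925 i (by omega) (by omega)
                · skip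
                  exact allRangeF_sound _ _ (checkPointF_eq cert) 127950 25 chkP_127950 i (by omega) (by omega)
              · skip
                rcases Nat.lt_or_ge i 128000 with h8 | h8
                · skip
                  exact allRangeF_sound _ _ (checkPointF_eq cert) 127975 25 chkP_127975 i (by omega) (by omega)
                · skip
                  rcases Nat.lt_or_ge i 128025 with h9 | h9
                  · skip
                    exact allRangeF_sound _ _ (checkPointF_eq cert) 128000 25 chkP_128000 i (by omega) (by omega)
                  · skip
                    exact allRangeF_sound _ _ (checkPointF_eq cert) 128025 25 chkP_128025 i (by omega) (by omega)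
        · skip
          rcases Nat.lt_or_ge i 128300 with h5 | h5
          · skip
            rcases Nat.lt_or_ge i 128175 with h6 | h6
            · skip
              rcases Nat.lt_or_ge i 128100 with h7 | h7
              · skip
                rcases Nat.lt_or_ge i 128075 with h8 | h8
                · skip
                  exact allRangeF_sound _ _ (checkPointF_eq cert) 128050 25 chkP_128050 i (by omega) (by omega)
                · skip
                  exact allRangeF_sound _ _ (checkPointF_eq cert) 128075 25 chkP_128075 i (by omega) (by omega)
              · skip
                rcases Nat.lt_or_ge i 128125 with h8 | h8
                · skip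
                  exact allRangeF_sound _ _ (checkPointF_eq cert) 128100 25 chkP_128100 i (by omega) (by omega)
                · skip
                  rcases Nat.lt_or_ge i 128150 with h9 | h9
                  · skip
                    exact allRangeF_sound _ _ (checkPointF_eq cert) 128125 25 chkP_128125 i (by omega) (by omega)
                  · skip
                    exact allRangeF_sound _ _ (checkPointF_eq cert) 128150 25 chkP_128150 i (by omega) (by omega)
            · skip
              rcases Nat.lt_or_ge i 128225 with h7 | h7
              · skip
                rcases Nat.lt_or_ge i 128200 with h8 | h8
                · skip
                  exact allRangeF_sound _ _ (checkPointF_eq cert) 128175 25 chkP_128175 i (by omega) (by omega)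
                · skip
                  exact allRangeF_sound _ _ (checkPointF_eq cert) 128200 25 chkP_128200 i (by omega) (by omega)
              · skip
                rcases Nat.lt_or_ge i 128250 with h8 | h8
                · skip
                  exact allRangeF_sound _ _ (checkPointF_eq cert) 128225 25 chkP_128225 i (by omega) (by omega)
                · skip
                  rcases Nat.lt_or_ge i 128275 with h9 | h9
                  · skip
                    exact allRangeF_sound _ _ (checkPointF_eq cert) 128250 25 chkP_128250 i (by omega) (by omega)
                  · skip
                    exact allRangeF_sound _ _ (checkPointF_eq cert) 128275 25 chkP_128275 i (by omega) (by omega)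
          · skip
            rcases Nat.lt_or_ge i 128425 with h6 | h6
            · skip
              rcases Nat.lt_or_ge i 128350 with h7 | h7
              · skip
                rcases Nat.lt_or_ge i 128325 with h8 | h8
                · skip
                  exact allRangeF_sound _ _ (checkPointF_eq cert) 128300 25 chkP_128300 i (by omega) (by omega)
                · skip
                  exact allRangeF_sound _ _ (checkPointF_eq cert) 128325 25 chkP_128325 i (by omega) (by omega)
              · skip
                rcases Nat.lt_or_ge i 128375 with h8 | h8
                · skip
                  exact allRangeF_sound _ _ (checkPointF_eq cert) 128350 25 chkP_128350 i (by omega) (by omega)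
                · skip
                  rcases Nat.lt_or_ge i 128400 with h9 | h9
                  · skip
                    exact allRangeF_sound _ _ (checkPointF_eq cert) 128375 25 chkP_128375 i (by omega) (by omega)
                  · skip
                    exact allRangeF_sound _ _ (checkPointF_eq cert) 128400 25 chkP_128400 i (by omega) (by omega)
            · skip
              rcases Nat.lt_or_ge i 128475 with h7 | h7
              · skip
                rcases Nat.lt_or_ge i 128450 with h8 | h8
                · skip
                  exact allRangeF_sound _ _ (checkPointF_eq cert) 128425 25 chkP_128425 i (by omega) (by omega)
                · skip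
                  exact allRangeF_sound _ _ (checkPointF_eq cert) 128450 25 chkP_128450 i (by omega) (by omega)
              · skip
                rcases Nat.lt_or_ge i 128500 with h8 | h8
                · skip
                  exact allRangeF_sound _ _ (checkPointF_eq cert) 128475 25 chkP_128475 i (by omega) (by omega)
                · skip
                  rcases Nat.lt_or_ge i 128525 with h9 | h9
                  · skip
                    exact allRangeF_sound _ _ (checkPointF_eq cert) 128500 25 chkP_128500 i (by omega) (by omega)
                  · skip
                    exact allRangeF_sound _ _ (checkPointF_eq cert) 128525 25 chkP_128525 i (by omega) (by omega)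
    · skip
      rcases Nat.lt_or_ge i 129500 with h3 | h3
      · skip
        rcases Nat.lt_or_ge i 129025 with h4 | h4
        · skip
          rcases Nat.lt_or_ge i 128775 with h5 | h5
          · skip
            rcases Nat.lt_or_ge i 128650 with h6 | h6
            · skip
              rcases Nat.lt_or_ge i 128600 with h7 | h7
              · skip
                rcases Nat.lt_or_ge i 128575 with h8 | h8
                · skip
                  exact allRangeF_sound _ _ (checkPointF_eq cert) 128550 25 chkP_128550 i (by omega) (by omega)
                · skip
                  exact allRangeF_sound _ _ (checkPointF_eq cert) 128575 25 chkP_128575 i (by omega) (by omega)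
              · skip
                rcases Nat.lt_or_ge i 128625 with h8 | h8
                · skip
                  exact allRangeF_sound _ _ (checkPointF_eq cert) 128600 25 chkP_128600 i (by omega) (by omega)
                · skip
                  exact allRangeF_sound _ _ (checkPointF_eq cert) 128625 25 chkP_128625 i (by omega) (by omega)
            · skip
              rcases Nat.lt_or_ge i 128700 with h7 | h7
              · skip
                rcases Nat.lt_or_ge i 128675 with h8 | h8
                · skip
                  exact allRangeF_sound _ _ (checkPointF_eq cert) 128650 25 chkP_128650 i (by omega) (by omega)
                · skip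
                  exact allRangeF_sound _ _ (checkPointF_eq cert) 128675 25 chkP_128675 i (by omega) (by omega)
              · skip
                rcases Nat.lt_or_ge i 128725 with h8 | h8
                · skip
                  exact allRangeF_sound _ _ (checkPointF_eq cert) 128700 25 chkP_128700 i (by omega) (by omega)
                · skip
                  rcases Nat.lt_or_ge i 128750 with h9 | h9
                  · skip
                    exact allRangeF_sound _ _ (checkPointF_eq cert) 128725 25 chkP_128725 i (by omega) (by omega)
                  · skip
                    exact allRangeF_sound _ _ (checkPointF_eq cert) 128750 25 chkP_128750 i (by omega) (by omega)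
          · skip
            rcases Nat.lt_or_ge i 128900 with h6 | h6
            · skip
              rcases Nat.lt_or_ge i 128825 with h7 | h7
              · skip
                rcases Nat.lt_or_ge i 128800 with h8 | h8
                · skip
                  exact allRangeF_sound _ _ (checkPointF_eq cert) 128775 25 chkP_128775 i (by omega) (by omega)
                · skip
                  exact allRangeF_sound _ _ (checkPointF_eq cert) 128800 25 chkP_128800 i (by omega) (by omega)
              · skip
                rcases Nat.lt_or_ge i 128850 with h8 | h8
                · skip
                  exact allRangeF_sound _ _ (checkPointF_eq cert) 128825 25 chkP_128825 i (by omega) (by omega)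
                · skip
                  rcases Nat.lt_or_ge i 128875 with h9 | h9
                  · skip
                    exact allRangeF_sound _ _ (checkPointF_eq cert) 128850 25 chkP_128850 i (by omega) (by omega)
                  · skip
                    exact allRangeF_sound _ _ (checkPointF_eq cert) 128875 25 chkP_128875 i (by omega) (by omega)
            · skip
              rcases Nat.lt_or_ge i 128950 with h7 | h7
              · skip
                rcases Nat.lt_or_ge i 128925 with h8 | h8
                · skip
                  exact allRangeF_sound _ _ (checkPointF_eq cert) 128900 25 chkP_128900 i (by omega) (by omega)
                · skip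
                  exact allRangeF_sound _ _ (checkPointF_eq cert) 128925 25 chkP_128925 i (by omega) (by omega)
              · skip
                rcases Nat.lt_or_ge i 128975 with h8 | h8
                · skip
                  exact allRangeF_sound _ _ (checkPointF_eq cert) 128950 25 chkP_128950 i (by omega) (by omega)
                · skip
                  rcases Nat.lt_or_ge i 129000 with h9 | h9
                  · skip
                    exact allRangeF_sound _ _ (checkPointF_eq cert) 128975 25 chkP_128975 i (by omega) (by omega)
                  · skip
                    exact allRangeF_sound _ _ (checkPointF_eq cert) 129000 25 chkP_129000 i (by omega) (by omega)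
        · skip
          rcases Nat.lt_or_ge i 129250 with h5 | h5
          · skip
            rcases Nat.lt_or_ge i 129125 with h6 | h6
            · skip
              rcases Nat.lt_or_ge i 129075 with h7 | h7
              · skip
                rcases Nat.lt_or_ge i 129050 with h8 | h8
                · skip
                  exact allRangeF_sound _ _ (checkPointF_eq cert) 129025 25 chkP_129025 i (by omega) (by omega)
                · skip
                  exact allRangeF_sound _ _ (checkPointF_eq cert) 129050 25 chkP_129050 i (by omega) (by omega)
              · skip
                rcases Nat.lt_or_ge i 129100 with h8 | h8
                · skip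
                  exact allRangeF_sound _ _ (checkPointF_eq cert) 129075 25 chkP_129075 i (by omega) (by omega)
                · skip
                  exact allRangeF_sound _ _ (checkPointF_eq cert) 129100 25 chkP_129100 i (by omega) (by omega)
            · skip
              rcases Nat.lt_or_ge i 129175 with h7 | h7
              · skip
                rcases Nat.lt_or_ge i 129150 with h8 | h8
                · skip
                  exact allRangeF_sound _ _ (checkPointF_eq cert) 129125 25 chkP_129125 i (by omega) (by omega)
                · skip
                  exact allRangeF_sound _ _ (checkPointF_eq cert) 129150 25 chkP_129150 i (by omega) (by omega)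
              · skip
                rcases Nat.lt_or_ge i 129200 with h8 | h8
                · skip
                  exact allRangeF_sound _ _ (checkPointF_eq cert) 129175 25 chkP_129175 i (by omega) (by omega)
                · skip
                  rcases Nat.lt_or_ge i 129225 with h9 | h9
                  · skip
                    exact allRangeF_sound _ _ (checkPointF_eq cert) 129200 25 chkP_129200 i (by omega) (by omega)
                  · skip
                    exact allRangeF_sound _ _ (checkPointF_eq cert) 129225 25 chkP_129225 i (by omega) (by omega)
          · skip
            rcases Nat.lt_or_ge i 129375 with h6 | h6
            · skip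
              rcases Nat.lt_or_ge i 129300 with h7 | h7
              · skip
                rcases Nat.lt_or_ge i 129275 with h8 | h8
                · skip
                  exact allRangeF_sound _ _ (checkPointF_eq cert) 129250 25 chkP_129250 i (by omega) (by omega)
                · skip
                  exact allRangeF_sound _ _ (checkPointF_eq cert) 129275 25 chkP_129275 i (by omega) (by omega)
              · skip
                rcases Nat.lt_or_ge i 129325 with h8 | h8
                · skip
                  exact allRangeF_sound _ _ (checkPointF_eq cert) 129300 25 chkP_129300 i (by omega) (by omega)
                · skip
                  rcases Nat.lt_or_ge i 129350 with h9 | h9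
                  · skip
                    exact allRangeF_sound _ _ (checkPointF_eq cert) 129325 25 chkP_129325 i (by omega) (by omega)
                  · skip
                    exact allRangeF_sound _ _ (checkPointF_eq cert) 129350 25 chkP_129350 i (by omega) (by omega)
            · skip
              rcases Nat.lt_or_ge i 129425 with h7 | h7
              · skip
                rcases Nat.lt_or_ge i 129400 with h8 | h8
                · skip
                  exact allRangeF_sound _ _ (checkPointF_eq cert) 129375 25 chkP_129375 i (by omega) (by omega)
                · skip
                  exact allRangeF_sound _ _ (checkPointF_eq cert) 129400 25 chkP_129400 i (by omega) (by omega)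
              · skip
                rcases Nat.lt_or_ge i 129450 with h8 | h8
                · skip
                  exact allRangeF_sound _ _ (checkPointF_eq cert) 129425 25 chkP_129425 i (by omega) (by omega)
                · skip
                  rcases Nat.lt_or_ge i 129475 with h9 | h9
                  · skip
                    exact allRangeF_sound _ _ (checkPointF_eq cert) 129450 25 chkP_129450 i (by omega) (by omega)
                  · skip
                    exact allRangeF_sound _ _ (checkPointF_eq cert) 129475 25 chkP_129475 i (by omega) (by omega)
      · skip
        rcases Nat.lt_or_ge i 129975 with h4 | h4
        · skip
          rcases Nat.lt_or_ge i 129725 with h5 | h5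
          · skip
            rcases Nat.lt_or_ge i 129600 with h6 | h6
            · skip
              rcases Nat.lt_or_ge i 129550 with h7 | h7
              · skip
                rcases Nat.lt_or_ge i 129525 with h8 | h8
                · skip
                  exact allRangeF_sound _ _ (checkPointF_eq cert) 129500 25 chkP_129500 i (by omega) (by omega)
                · skip
                  exact allRangeF_sound _ _ (checkPointF_eq cert) 129525 25 chkP_129525 i (by omega) (by omega)
              · skip
                rcases Nat.lt_or_ge i 129575 with h8 | h8
                · skip
                  exact allRangeF_sound _ _ (checkPointF_eq cert) 129550 25 chkP_129550 i (by omega) (by omega)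
                · skip
                  exact allRangeF_sound _ _ (checkPointF_eq cert) 129575 25 chkP_129575 i (by omega) (by omega)
            · skip
              rcases Nat.lt_or_ge i 129650 with h7 | h7
              · skip
                rcases Nat.lt_or_ge i 129625 with h8 | h8
                · skip
                  exact allRangeF_sound _ _ (checkPointF_eq cert) 129600 25 chkP_129600 i (by omega) (by omega)
                · skip
                  exact allRangeF_sound _ _ (checkPointF_eq cert) 129625 25 chkP_129625 i (by omega) (by omega)
              · skip
                rcases Nat.lt_or_ge i 129675 with h8 | h8
                · skip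
                  exact allRangeF_sound _ _ (checkPointF_eq cert) 129650 25 chkP_129650 i (by omega) (by omega)
                · skip
                  rcases Nat.lt_or_ge i 129700 with h9 | h9
                  · skip
                    exact allRangeF_sound _ _ (checkPointF_eq cert) 129675 25 chkP_129675 i (by omega) (by omega)
                  · skip
                    exact allRangeF_sound _ _ (checkPointF_eq cert) 129700 25 chkP_129700 i (by omega) (by omega)
          · skip
            rcases Nat.lt_or_ge i 129850 with h6 | h6
            · skip
              rcases Nat.lt_or_ge i 129775 with h7 | h7
              · skip
                rcases Nat.lt_or_ge i 129750 with h8 | h8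
                · skip
                  exact allRangeF_sound _ _ (checkPointF_eq cert) 129725 25 chkP_129725 i (by omega) (by omega)
                · skip
                  exact allRangeF_sound _ _ (checkPointF_eq cert) 129750 25 chkP_129750 i (by omega) (by omega)
              · skip
                rcases Nat.lt_or_ge i 129800 with h8 | h8
                · skip
                  exact allRangeF_sound _ _ (checkPointF_eq cert) 129775 25 chkP_129775 i (by omega) (by omega)
                · skip
                  rcases Nat.lt_or_ge i 129825 with h9 | h9
                  · skip
                    exact allRangeF_sound _ _ (checkPointF_eq cert) 129800 25 chkP_129800 i (by omega) (by omega)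
                  · skip
                    exact allRangeF_sound _ _ (checkPointF_eq cert) 129825 25 chkP_129825 i (by omega) (by omega)
            · skip
              rcases Nat.lt_or_ge i 129900 with h7 | h7
              · skip
                rcases Nat.lt_or_ge i 129875 with h8 | h8
                · skip
                  exact allRangeF_sound _ _ (checkPointF_eq cert) 129850 25 chkP_129850 i (by omega) (by omega)
                · skip
                  exact allRangeF_sound _ _ (checkPointF_eq cert) 129875 25 chkP_129875 i (by omega) (by omega)
              · skip
                rcases Nat.lt_or_ge i 129925 with h8 | h8
                · skip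
                  exact allRangeF_sound _ _ (checkPointF_eq cert) 129900 25 chkP_129900 i (by omega) (by omega)
                · skip
                  rcases Nat.lt_or_ge i 129950 with h9 | h9
                  · skip
                    exact allRangeF_sound _ _ (checkPointF_eq cert) 129925 25 chkP_129925 i (by omega) (by omega)
                  · skip
                    exact allRangeF_sound _ _ (checkPointF_eq cert) 129950 25 chkP_129950 i (by omega) (by omega)
        · skip
          rcases Nat.lt_or_ge i 130225 with h5 | h5
          · skip
            rcases Nat.lt_or_ge i 130100 with h6 | h6
            · skip
              rcases Nat.lt_or_ge i 130025 with h7 | h7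
              · skip
                rcases Nat.lt_or_ge i 130000 with h8 | h8
                · skip
                  exact allRangeF_sound _ _ (checkPointF_eq cert) 129975 25 chkP_129975 i (by omega) (by omega)
                · skip
                  exact allRangeF_sound _ _ (checkPointF_eq cert) 130000 25 chkP_130000 i (by omega) (by omega)
              · skip
                rcases Nat.lt_or_ge i 130050 with h8 | h8
                · skip
                  exact allRangeF_sound _ _ (checkPointF_eq cert) 130025 25 chkP_130025 i (by omega) (by omega)
                · skip
                  rcases Nat.lt_or_ge i 130075 with h9 | h9
                  · skip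
                    exact allRangeF_sound _ _ (checkPointF_eq cert) 130050 25 chkP_130050 i (by omega) (by omega)
                  · skip
                    exact allRangeF_sound _ _ (checkPointF_eq cert) 130075 25 chkP_130075 i (by omega) (by omega)
            · skip
              rcases Nat.lt_or_ge i 130150 with h7 | h7
              · skip
                rcases Nat.lt_or_ge i 130125 with h8 | h8
                · skip
                  exact allRangeF_sound _ _ (checkPointF_eq cert) 130100 25 chkP_130100 i (by omega) (by omega)
                · skip
                  exact allRangeF_sound _ _ (checkPointF_eq cert) 130125 25 chkP_130125 i (by omega) (by omega)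
              · skip
                rcases Nat.lt_or_ge i 130175 with h8 | h8
                · skip
                  exact allRangeF_sound _ _ (checkPointF_eq cert) 130150 25 chkP_130150 i (by omega) (by omega)
                · skip
                  rcases Nat.lt_or_ge i 130200 with h9 | h9
                  · skip
                    exact allRangeF_sound _ _ (checkPointF_eq cert) 130175 25 chkP_130175 i (by omega) (by omega)
                  · skip
                    exact allRangeF_sound _ _ (checkPointF_eq cert) 130200 25 chkP_130200 i (by omega) (by omega)
          · skip
            rcases Nat.lt_or_ge i 130350 with h6 | h6
            · skip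
              rcases Nat.lt_or_ge i 130275 with h7 | h7
              · skip
                rcases Nat.lt_or_ge i 130250 with h8 | h8
                · skip
                  exact allRangeF_sound _ _ (checkPointF_eq cert) 130225 25 chkP_130225 i (by omega) (by omega)
                · skip
                  exact allRangeF_sound _ _ (checkPointF_eq cert) 130250 25 chkP_130250 i (by omega) (by omega)
              · skip
                rcases Nat.lt_or_ge i 130300 with h8 | h8
                · skip
                  exact allRangeF_sound _ _ (checkPointF_eq cert) 130275 25 chkP_130275 i (by omega) (by omega)
                · skip
                  rcases Nat.lt_or_ge i 130325 with h9 | h9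
                  · skip
                    exact allRangeF_sound _ _ (checkPointF_eq cert) 130300 25 chkP_130300 i (by omega) (by omega)
                  · skip
                    exact allRangeF_sound _ _ (checkPointF_eq cert) 130325 25 chkP_130325 i (by omega) (by omega)
            · skip
              rcases Nat.lt_or_ge i 130400 with h7 | h7
              · skip
                rcases Nat.lt_or_ge i 130375 with h8 | h8
                · skip
                  exact allRangeF_sound _ _ (checkPointF_eq cert) 130350 25 chkP_130350 i (by omega) (by omega)
                · skip
                  exact allRangeF_sound _ _ (checkPointF_eq cert) 130375 25 chkP_130375 i (by omega) (by omega)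
              · skip
                rcases Nat.lt_or_ge i 130425 with h8 | h8
                · skip
                  exact allRangeF_sound _ _ (checkPointF_eq cert) 130400 25 chkP_130400 i (by omega) (by omega)
                · skip
                  rcases Nat.lt_or_ge i 130450 with h9 | h9
                  · skip
                    exact allRangeF_sound _ _ (checkPointF_eq cert) 130425 25 chkP_130425 i (by omega) (by omega)
                  · skip
                    exact allRangeF_sound _ _ (checkPointF_eq cert) 130450 25 chkP_130450 i (by omega) (by omega)

end Cfsg.Agent.Lib.Helper28.Fi24Data
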