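import Cfsg.Agent.Lib.Helper28.Fi24Data
import Cfsg.Agent.Lib.Helper28.TCFastB

set_option autoImplicit false
set_option maxRecDepth 1000000
set_option linter.all false
set_option Elab.async false

namespace Cfsg.Agent.Lib.Helper28.Fi24Data

open Cfsg.Agent.Lib.Helper28B

theorem chkP_130475 : allRangeF (checkPointF cert) (nat_lit 130475) (nat_lit 25) = true := by decide +kernel
theorem chkP_130500 : allRangeF (checkPointF cert) (nat_lit 130500) (nat_lit 25) = true := by decide +kernel
theorem chkP_130525 : allRangeF (checkPointF cert) (nat_lit 130525) (nat_lit 25) = true := by decide +kernel
theorem chkP_130550 : allRangeF (checkPointF cert) (nat_lit 130550) (nat_lit 25) = true := by decide +kernel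
theorem chkP_130575 : allRangeF (checkPointF cert) (nat_lit 130575) (nat_lit 25) = true := by decide +kernel
theorem chkP_130600 : allRangeF (checkPointF cert) (nat_lit 130600) (nat_lit 25) = true := by decide +kernel
theorem chkP_130625 : allRangeF (checkPointF cert) (nat_lit 130625) (nat_lit 25) = true := by decide +kernel
theorem chkP_130650 : allRangeF (checkPointF cert) (nat_lit 130650) (nat_lit 25) = true := by decide +kernel
theorem chkP_130675 : allRangeF (checkPointF cert) (nat_lit 130675) (nat_lit 25) = true := by decide +kernel
theorem chkP_130700 : allRangeF (checkPointF cert) (nat_lit 130700) (nat_lit 25) = true := by decide +kernel
theorem chkP_130725 : allRangeF (checkPointF cert) (nat_lit 130725) (nat_lit 25) = true := by decide +kernel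
theorem chkP_130750 : allRangeF (checkPointF cert) (nat_lit 130750) (nat_lit 25) = true := by decide +kernel
theorem chkP_130775 : allRangeF (checkPointF cert) (nat_lit 130775) (nat_lit 25) = true := by decide +kernel
theorem chkP_130800 : allRangeF (checkPointF cert) (nat_lit 130800) (nat_lit 25) = true := by decide +kernel
theorem chkP_130825 : allRangeF (checkPointF cert) (nat_lit 130825) (nat_lit 25) = true := by decide +kernel
theorem chkP_130850 : allRangeF (checkPointF cert) (nat_lit 130850) (nat_lit 25) = true := by decide +kernel
theorem chkP_130875 : allRangeF (checkPointF cert) (nat_lit 130875) (nat_lit 25) = true := by decide +kernel
theorem chkP_130900 : allRangeF (checkPointF cert) (nat_lit 130900) (nat_lit 25) = true := by decide +kernel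
theorem chkP_130925 : allRangeF (checkPointF cert) (nat_lit 130925) (nat_lit 25) = true := by decide +kernel
theorem chkP_130950 : allRangeF (checkPointF cert) (nat_lit 130950) (nat_lit 25) = true := by decide +kernel
theorem chkP_130975 : allRangeF (checkPointF cert) (nat_lit 130975) (nat_lit 25) = true := by decide +kernel
theorem chkP_131000 : allRangeF (checkPointF cert) (nat_lit 131000) (nat_lit 25) = true := by decide +kernel
theorem chkP_131025 : allRangeF (checkPointF cert) (nat_lit 131025) (nat_lit 25) = true := by decide +kernel
theorem chkP_131050 : allRangeF (checkPointF cert) (nat_lit 131050) (nat_lit 25) = true := by decide +kernel
theorem chkP_131075 : allRangeF (checkPointF cert) (nat_lit 131075) (nat_lit 25) = true := by decide +kernel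
theorem chkP_131100 : allRangeF (checkPointF cert) (nat_lit 131100) (nat_lit 25) = true := by decide +kernel
theorem chkP_131125 : allRangeF (checkPointF cert) (nat_lit 131125) (nat_lit 25) = true := by decide +kernel
theorem chkP_131150 : allRangeF (checkPointF cert) (nat_lit 131150) (nat_lit 25) = true := by decide +kernel
theorem chkP_131175 : allRangeF (checkPointF cert) (nat_lit 131175) (nat_lit 25) = true := by decide +kernel
theorem chkP_131200 : allRangeF (checkPointF cert) (nat_lit 131200) (nat_lit 25) = true := by decide +kernel
theorem chkP_131225 : allRangeF (checkPointF cert) (nat_lit 131225) (nat_lit 25) = true := by decide +kernel
theorem chkP_131250 : allRangeF (checkPointF cert) (nat_lit 131250) (nat_lit 25) = true := by decide +kernel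
theorem chkP_131275 : allRangeF (checkPointF cert) (nat_lit 131275) (nat_lit 25) = true := by decide +kernel
theorem chkP_131300 : allRangeF (checkPointF cert) (nat_lit 131300) (nat_lit 25) = true := by decide +kernel
theorem chkP_131325 : allRangeF (checkPointF cert) (nat_lit 131325) (nat_lit 25) = true := by decide +kernel
theorem chkP_131350 : allRangeF (checkPointF cert) (nat_lit 131350) (nat_lit 25) = true := by decide +kernel
theorem chkP_131375 : allRangeF (checkPointF cert) (nat_lit 131375) (nat_lit 25) = true := by decide +kernel
theorem chkP_131400 : allRangeF (checkPointF cert) (nat_lit 131400) (nat_lit 25) = true := by decide +kernel
theorem chkP_131425 : allRangeF (checkPointF cert) (nat_lit 131425) (nat_lit 25) = true := by decide +kernel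
theorem chkP_131450 : allRangeF (checkPointF cert) (nat_lit 131450) (nat_lit 25) = true := by decide +kernel
theorem chkP_131475 : allRangeF (checkPointF cert) (nat_lit 131475) (nat_lit 25) = true := by decide +kernel
theorem chkP_131500 : allRangeF (checkPointF cert) (nat_lit 131500) (nat_lit 25) = true := by decide +kernel
theorem chkP_131525 : allRangeF (checkPointF cert) (nat_lit 131525) (nat_lit 25) = true := by decide +kernel
theorem chkP_131550 : allRangeF (checkPointF cert) (nat_lit 131550) (nat_lit 25) = true := by decide +kernel
theorem chkP_131575 : allRangeF (checkPointF cert) (nat_lit 131575) (nat_lit 25) = true := by decide +kernel
theorem chkP_131600 : allRangeF (checkPointF cert) (nat_lit 131600) (nat_lit 25) = true := by decide +kernel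
theorem chkP_131625 : allRangeF (checkPointF cert) (nat_lit 131625) (nat_lit 25) = true := by decide +kernel
theorem chkP_131650 : allRangeF (checkPointF cert) (nat_lit 131650) (nat_lit 25) = true := by decide +kernel
theorem chkP_131675 : allRangeF (checkPointF cert) (nat_lit 131675) (nat_lit 25) = true := by decide +kernel
theorem chkP_131700 : allRangeF (checkPointF cert) (nat_lit 131700) (nat_lit 25) = true := by decide +kernel
theorem chkP_131725 : allRangeF (checkPointF cert) (nat_lit 131725) (nat_lit 25) = true := by decide +kernel
theorem chkP_131750 : allRangeF (checkPointF cert) (nat_lit 131750) (nat_lit 25) = true := by decide +kernel
theorem chkP_131775 : allRangeF (checkPointF cert) (nat_lit 131775) (nat_lit 25) = true := by decide +kernel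
theorem chkP_131800 : allRangeF (checkPointF cert) (nat_lit 131800) (nat_lit 25) = true := by decide +kernel
theorem chkP_131825 : allRangeF (checkPointF cert) (nat_lit 131825) (nat_lit 25) = true := by decide +kernel
theorem chkP_131850 : allRangeF (checkPointF cert) (nat_lit 131850) (nat_lit 25) = true := by decide +kernel
theorem chkP_131875 : allRangeF (checkPointF cert) (nat_lit 131875) (nat_lit 25) = true := by decide +kernel
theorem chkP_131900 : allRangeF (checkPointF cert) (nat_lit 131900) (nat_lit 25) = true := by decide +kernel
theorem chkP_131925 : allRangeF (checkPointF cert) (nat_lit 131925) (nat_lit 25) = true := by decide +kernel
theorem chkP_131950 : allRangeF (checkPointF cert) (nat_lit 131950) (nat_lit 25) = true := by decide +kernel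
theorem chkP_131975 : allRangeF (checkPointF cert) (nat_lit 131975) (nat_lit 25) = true := by decide +kernel
theorem chkP_132000 : allRangeF (checkPointF cert) (nat_lit 132000) (nat_lit 25) = true := by decide +kernel
theorem chkP_132025 : allRangeF (checkPointF cert) (nat_lit 132025) (nat_lit 25) = true := by decide +kernel
theorem chkP_132050 : allRangeF (checkPointF cert) (nat_lit 132050) (nat_lit 25) = true := by decide +kernel
theorem chkP_132075 : allRangeF (checkPointF cert) (nat_lit 132075) (nat_lit 25) = true := by decide +kernel
theorem chkP_132100 : allRangeF (checkPointF cert) (nat_lit 132100) (nat_lit 25) = true := by decide +kernel
theorem chkP_132125 : allRangeF (checkPointF cert) (nat_lit 132125) (nat_lit 25) = true := by decide +kernel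
theorem chkP_132150 : allRangeF (checkPointF cert) (nat_lit 132150) (nat_lit 25) = true := by decide +kernel
theorem chkP_132175 : allRangeF (checkPointF cert) (nat_lit 132175) (nat_lit 25) = true := by decide +kernel
theorem chkP_132200 : allRangeF (checkPointF cert) (nat_lit 132200) (nat_lit 25) = true := by decide +kernel
theorem chkP_132225 : allRangeF (checkPointF cert) (nat_lit 132225) (nat_lit 25) = true := by decide +kernel
theorem chkP_132250 : allRangeF (checkPointF cert) (nat_lit 132250) (nat_lit 25) = true := by decide +kernel
theorem chkP_132275 : allRangeF (checkPointF cert) (nat_lit 132275) (nat_lit 25) = true := by decide +kernel
theorem chkP_132300 : allRangeF (checkPointF cert) (nat_lit 132300) (nat_lit 25) = true := by decide +kernel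
theorem chkP_132325 : allRangeF (checkPointF cert) (nat_lit 132325) (nat_lit 25) = true := by decide +kernel
theorem chkP_132350 : allRangeF (checkPointF cert) (nat_lit 132350) (nat_lit 25) = true := by decide +kernel
theorem chkP_132375 : allRangeF (checkPointF cert) (nat_lit 132375) (nat_lit 25) = true := by decide +kernel
theorem chkP_132400 : allRangeF (checkPointF cert) (nat_lit 132400) (nat_lit 25) = true := by decide +kernel
theorem chkP_132425 : allRangeF (checkPointF cert) (nat_lit 132425) (nat_lit 25) = true := by decide +kernel
theorem chkP_132450 : allRangeF (checkPointF cert) (nat_lit 132450) (nat_lit 25) = true := by decide +kernel
theorem chkP_132475 : allRangeF (checkPointF cert) (nat_lit 132475) (nat_lit 25) = true := by decide +kernel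
theorem chkP_132500 : allRangeF (checkPointF cert) (nat_lit 132500) (nat_lit 25) = true := by decide +kernel
theorem chkP_132525 : allRangeF (checkPointF cert) (nat_lit 132525) (nat_lit 25) = true := by decide +kernel
theorem chkP_132550 : allRangeF (checkPointF cert) (nat_lit 132550) (nat_lit 25) = true := by decide +kernel
theorem chkP_132575 : allRangeF (checkPointF cert) (nat_lit 132575) (nat_lit 25) = true := by decide +kernel
theorem chkP_132600 : allRangeF (checkPointF cert) (nat_lit 132600) (nat_lit 25) = true := by decide +kernel
theorem chkP_132625 : allRangeF (checkPointF cert) (nat_lit 132625) (nat_lit 25) = true := by decide +kernel
theorem chkP_132650 : allRangeF (checkPointF cert) (nat_lit 132650) (nat_lit 25) = true := by decide +kernel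
theorem chkP_132675 : allRangeF (checkPointF cert) (nat_lit 132675) (nat_lit 25) = true := by decide +kernel
theorem chkP_132700 : allRangeF (checkPointF cert) (nat_lit 132700) (nat_lit 25) = true := by decide +kernel
theorem chkP_132725 : allRangeF (checkPointF cert) (nat_lit 132725) (nat_lit 25) = true := by decide +kernel
theorem chkP_132750 : allRangeF (checkPointF cert) (nat_lit 132750) (nat_lit 25) = true := by decide +kernel
theorem chkP_132775 : allRangeF (checkPointF cert) (nat_lit 132775) (nat_lit 25) = true := by decide +kernel
theorem chkP_132800 : allRangeF (checkPointF cert) (nat_lit 132800) (nat_lit 25) = true := by decide +kernel
theorem chkP_132825 : allRangeF (checkPointF cert) (nat_lit 132825) (nat_lit 25) = true := by decide +kernel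
theorem chkP_132850 : allRangeF (checkPointF cert) (nat_lit 132850) (nat_lit 25) = true := by decide +kernel
theorem chkP_132875 : allRangeF (checkPointF cert) (nat_lit 132875) (nat_lit 25) = true := by decide +kernel
theorem chkP_132900 : allRangeF (checkPointF cert) (nat_lit 132900) (nat_lit 25) = true := by decide +kernel
theorem chkP_132925 : allRangeF (checkPointF cert) (nat_lit 132925) (nat_lit 25) = true := by decide +kernel
theorem chkP_132950 : allRangeF (checkPointF cert) (nat_lit 132950) (nat_lit 25) = true := by decide +kernel
theorem chkP_132975 : allRangeF (checkPointF cert) (nat_lit 132975) (nat_lit 25) = true := by decide +kernel
theorem chkP_133000 : allRangeF (checkPointF cert) (nat_lit 133000) (nat_lit 25) = true := by decide +kernel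
theorem chkP_133025 : allRangeF (checkPointF cert) (nat_lit 133025) (nat_lit 25) = true := by decide +kernel
theorem chkP_133050 : allRangeF (checkPointF cert) (nat_lit 133050) (nat_lit 25) = true := by decide +kernel
theorem chkP_133075 : allRangeF (checkPointF cert) (nat_lit 133075) (nat_lit 25) = true := by decide +kernel
theorem chkP_133100 : allRangeF (checkPointF cert) (nat_lit 133100) (nat_lit 25) = true := by decide +kernel
theorem chkP_133125 : allRangeF (checkPointF cert) (nat_lit 133125) (nat_lit 25) = true := by decide +kernel
theorem chkP_133150 : allRangeF (checkPointF cert) (nat_lit 133150) (nat_lit 25) = true := by decide +kernel
theorem chkP_133175 : allRangeF (checkPointF cert) (nat_lit 133175) (nat_lit 25) = true := by decide +kernel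
theorem chkP_133200 : allRangeF (checkPointF cert) (nat_lit 133200) (nat_lit 25) = true := by decide +kernel
theorem chkP_133225 : allRangeF (checkPointF cert) (nat_lit 133225) (nat_lit 25) = true := by decide +kernel
theorem chkP_133250 : allRangeF (checkPointF cert) (nat_lit 133250) (nat_lit 25) = true := by decide +kernel
theorem chkP_133275 : allRangeF (checkPointF cert) (nat_lit 133275) (nat_lit 25) = true := by decide +kernel
theorem chkP_133300 : allRangeF (checkPointF cert) (nat_lit 133300) (nat_lit 25) = true := by decide +kernel
theorem chkP_133325 : allRangeF (checkPointF cert) (nat_lit 133325) (nat_lit 25) = true := by decide +kernel
theorem chkP_133350 : allRangeF (checkPointF cert) (nat_lit 133350) (nat_lit 25) = true := by decide +kernel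
theorem chkP_133375 : allRangeF (checkPointF cert) (nat_lit 133375) (nat_lit 25) = true := by decide +kernel
theorem chkP_133400 : allRangeF (checkPointF cert) (nat_lit 133400) (nat_lit 25) = true := by decide +kernel
theorem chkP_133425 : allRangeF (checkPointF cert) (nat_lit 133425) (nat_lit 25) = true := by decide +kernel
theorem chkP_133450 : allRangeF (checkPointF cert) (nat_lit 133450) (nat_lit 25) = true := by decide +kernel
theorem chkP_133475 : allRangeF (checkPointF cert) (nat_lit 133475) (nat_lit 25) = true := by decide +kernel
theorem chkP_133500 : allRangeF (checkPointF cert) (nat_lit 133500) (nat_lit 25) = true := by decide +kernel
theorem chkP_133525 : allRangeF (checkPointF cert) (nat_lit 133525) (nat_lit 25) = true := by decide +kernel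
theorem chkP_133550 : allRangeF (checkPointF cert) (nat_lit 133550) (nat_lit 25) = true := by decide +kernel
theorem chkP_133575 : allRangeF (checkPointF cert) (nat_lit 133575) (nat_lit 25) = true := by decide +kernel
theorem chkP_133600 : allRangeF (checkPointF cert) (nat_lit 133600) (nat_lit 25) = true := by decide +kernel
theorem chkP_133625 : allRangeF (checkPointF cert) (nat_lit 133625) (nat_lit 25) = true := by decide +kernel
theorem chkP_133650 : allRangeF (checkPointF cert) (nat_lit 133650) (nat_lit 25) = true := by decide +kernel
theorem chkP_133675 : allRangeF (checkPointF cert) (nat_lit 133675) (nat_lit 25) = true := by decide +kernel
theorem chkP_133700 : allRangeF (checkPointF cert) (nat_lit 133700) (nat_lit 25) = true := by decide +kernel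
theorem chkP_133725 : allRangeF (checkPointF cert) (nat_lit 133725) (nat_lit 25) = true := by decide +kernel
theorem chkP_133750 : allRangeF (checkPointF cert) (nat_lit 133750) (nat_lit 25) = true := by decide +kernel
theorem chkP_133775 : allRangeF (checkPointF cert) (nat_lit 133775) (nat_lit 25) = true := by decide +kernel
theorem chkP_133800 : allRangeF (checkPointF cert) (nat_lit 133800) (nat_lit 25) = true := by decide +kernel
theorem chkP_133825 : allRangeF (checkPointF cert) (nat_lit 133825) (nat_lit 25) = true := by decide +kernel
theorem chkP_133850 : allRangeF (checkPointF cert) (nat_lit 133850) (nat_lit 25) = true := by decide +kernel
theorem chkP_133875 : allRangeF (checkPointF cert) (nat_lit 133875) (nat_lit 25) = true := by decide +kernel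
theorem chkP_133900 : allRangeF (checkPointF cert) (nat_lit 133900) (nat_lit 25) = true := by decide +kernel
theorem chkP_133925 : allRangeF (checkPointF cert) (nat_lit 133925) (nat_lit 25) = true := by decide +kernel
theorem chkP_133950 : allRangeF (checkPointF cert) (nat_lit 133950) (nat_lit 25) = true := by decide +kernel
theorem chkP_133975 : allRangeF (checkPointF cert) (nat_lit 133975) (nat_lit 25) = true := by decide +kernel
theorem chkP_134000 : allRangeF (checkPointF cert) (nat_lit 134000) (nat_lit 25) = true := by decide +kernel
theorem chkP_134025 : allRangeF (checkPointF cert) (nat_lit 134025) (nat_lit 25) = true := by decide +kernel
theorem chkP_134050 : allRangeF (checkPointF cert) (nat_lit 134050) (nat_lit 25) = true := by decide +kernel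
theorem chkP_134075 : allRangeF (checkPointF cert) (nat_lit 134075) (nat_lit 25) = true := by decide +kernel
theorem chkP_134100 : allRangeF (checkPointF cert) (nat_lit 134100) (nat_lit 25) = true := by decide +kernel
theorem chkP_134125 : allRangeF (checkPointF cert) (nat_lit 134125) (nat_lit 25) = true := by decide +kernel
theorem chkP_134150 : allRangeF (checkPointF cert) (nat_lit 134150) (nat_lit 25) = true := by decide +kernel
theorem chkP_134175 : allRangeF (checkPointF cert) (nat_lit 134175) (nat_lit 25) = true := by decide +kernel
theorem chkP_134200 : allRangeF (checkPointF cert) (nat_lit 134200) (nat_lit 25) = true := by decide +kernel
theorem chkP_134225 : allRangeF (checkPointF cert) (nat_lit 134225) (nat_lit 25) = true := by decide +kernel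
theorem chkP_134250 : allRangeF (checkPointF cert) (nat_lit 134250) (nat_lit 25) = true := by decide +kernel
theorem chkP_134275 : allRangeF (checkPointF cert) (nat_lit 134275) (nat_lit 25) = true := by decide +kernel
theorem chkP_134300 : allRangeF (checkPointF cert) (nat_lit 134300) (nat_lit 25) = true := by decide +kernel
theorem chkP_134325 : allRangeF (checkPointF cert) (nat_lit 134325) (nat_lit 25) = true := by decide +kernel
theorem chkP_134350 : allRangeF (checkPointF cert) (nat_lit 134350) (nat_lit 25) = true := by decide +kernel
theorem chkP_134375 : allRangeF (checkPointF cert) (nat_lit 134375) (nat_lit 25) = true := by decide +kernel
theorem chkP_134400 : allRangeF (checkPointF cert) (nat_lit 134400) (nat_lit 25) = true := by decide +kernel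
theorem chkP_134425 : allRangeF (checkPointF cert) (nat_lit 134425) (nat_lit 25) = true := by decide +kernel
theorem chkP_134450 : allRangeF (checkPointF cert) (nat_lit 134450) (nat_lit 25) = true := by decide +kernel
theorem chkP_134475 : allRangeF (checkPointF cert) (nat_lit 134475) (nat_lit 25) = true := by decide +kernel
theorem chkP_134500 : allRangeF (checkPointF cert) (nat_lit 134500) (nat_lit 25) = true := by decide +kernel
theorem chkP_134525 : allRangeF (checkPointF cert) (nat_lit 134525) (nat_lit 25) = true := by decide +kernel
theorem chkP_134550 : allRangeF (checkPointF cert) (nat_lit 134550) (nat_lit 25) = true := by decide +kernel
theorem chkP_134575 : allRangeF (checkPointF cert) (nat_lit 134575) (nat_lit 25) = true := by decide +kernel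
theorem chkP_134600 : allRangeF (checkPointF cert) (nat_lit 134600) (nat_lit 25) = true := by decide +kernel
theorem chkP_134625 : allRangeF (checkPointF cert) (nat_lit 134625) (nat_lit 25) = true := by decide +kernel
theorem chkP_134650 : allRangeF (checkPointF cert) (nat_lit 134650) (nat_lit 25) = true := by decide +kernel
theorem chkP_134675 : allRangeF (checkPointF cert) (nat_lit 134675) (nat_lit 25) = true := by decide +kernel
theorem chkP_134700 : allRangeF (checkPointF cert) (nat_lit 134700) (nat_lit 25) = true := by decide +kernel
theorem chkP_134725 : allRangeF (checkPointF cert) (nat_lit 134725) (nat_lit 25) = true := by decide +kernel
theorem chkP_134750 : allRangeF (checkPointF cert) (nat_lit 134750) (nat_lit 25) = true := by decide +kernel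
theorem chkP_134775 : allRangeF (checkPointF cert) (nat_lit 134775) (nat_lit 25) = true := by decide +kernel
theorem chkP_134800 : allRangeF (checkPointF cert) (nat_lit 134800) (nat_lit 25) = true := by decide +kernel
theorem chkP_134825 : allRangeF (checkPointF cert) (nat_lit 134825) (nat_lit 25) = true := by decide +kernel
theorem chkP_134850 : allRangeF (checkPointF cert) (nat_lit 134850) (nat_lit 25) = true := by decide +kernel
theorem chkP_134875 : allRangeF (checkPointF cert) (nat_lit 134875) (nat_lit 25) = true := by decide +kernel
theorem chkP_134900 : allRangeF (checkPointF cert) (nat_lit 134900) (nat_lit 25) = true := by decide +kernel
theorem chkP_134925 : allRangeF (checkPointF cert) (nat_lit 134925) (nat_lit 25) = true := by decide +kernel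
theorem chkP_134950 : allRangeF (checkPointF cert) (nat_lit 134950) (nat_lit 25) = true := by decide +kernel
theorem chkP_134975 : allRangeF (checkPointF cert) (nat_lit 134975) (nat_lit 25) = true := by decide +kernel
theorem chkP_135000 : allRangeF (checkPointF cert) (nat_lit 135000) (nat_lit 25) = true := by decide +kernel
theorem chkP_135025 : allRangeF (checkPointF cert) (nat_lit 135025) (nat_lit 25) = true := by decide +kernel
theorem chkP_135050 : allRangeF (checkPointF cert) (nat_lit 135050) (nat_lit 25) = true := by decide +kernel
theorem chkP_135075 : allRangeF (checkPointF cert) (nat_lit 135075) (nat_lit 25) = true := by decide +kernel
theorem chkP_135100 : allRangeF (checkPointF cert) (nat_lit 135100) (nat_lit 25) = true := by decide +kernel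
theorem chkP_135125 : allRangeF (checkPointF cert) (nat_lit 135125) (nat_lit 25) = true := by decide +kernel
theorem chkP_135150 : allRangeF (checkPointF cert) (nat_lit 135150) (nat_lit 25) = true := by decide +kernel
theorem chkP_135175 : allRangeF (checkPointF cert) (nat_lit 135175) (nat_lit 25) = true := by decide +kernel
theorem chkP_135200 : allRangeF (checkPointF cert) (nat_lit 135200) (nat_lit 25) = true := by decide +kernel
theorem chkP_135225 : allRangeF (checkPointF cert) (nat_lit 135225) (nat_lit 25) = true := by decide +kernel
theorem chkP_135250 : allRangeF (checkPointF cert) (nat_lit 135250) (nat_lit 25) = true := by decide +kernel
theorem chkP_135275 : allRangeF (checkPointF cert) (nat_lit 135275) (nat_lit 25) = true := by decide +kernel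
theorem chkP_135300 : allRangeF (checkPointF cert) (nat_lit 135300) (nat_lit 25) = true := by decide +kernel
theorem chkP_135325 : allRangeF (checkPointF cert) (nat_lit 135325) (nat_lit 25) = true := by decide +kernel
theorem chkP_135350 : allRangeF (checkPointF cert) (nat_lit 135350) (nat_lit 25) = true := by decide +kernel
theorem chkP_135375 : allRangeF (checkPointF cert) (nat_lit 135375) (nat_lit 25) = true := by decide +kernel
theorem chkP_135400 : allRangeF (checkPointF cert) (nat_lit 135400) (nat_lit 25) = true := by decide +kernel
theorem chkP_135425 : allRangeF (checkPointF cert) (nat_lit 135425) (nat_lit 25) = true := by decide +kernel
theorem chkP_135450 : allRangeF (checkPointF cert) (nat_lit 135450) (nat_lit 25) = true := by decide +kernel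
theorem chkP_135475 : allRangeF (checkPointF cert) (nat_lit 135475) (nat_lit 25) = true := by decide +kernel
theorem chkP_135500 : allRangeF (checkPointF cert) (nat_lit 135500) (nat_lit 25) = true := by decide +kernel
theorem chkP_135525 : allRangeF (checkPointF cert) (nat_lit 135525) (nat_lit 25) = true := by decide +kernel
theorem chkP_135550 : allRangeF (checkPointF cert) (nat_lit 135550) (nat_lit 25) = true := by decide +kernel
theorem chkP_135575 : allRangeF (checkPointF cert) (nat_lit 135575) (nat_lit 25) = true := by decide +kernel
theorem chkP_135600 : allRangeF (checkPointF cert) (nat_lit 135600) (nat_lit 25) = true := by decide +kernel
theorem chkP_135625 : allRangeF (checkPointF cert) (nat_lit 135625) (nat_lit 25) = true := by decide +kernel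
theorem chkP_135650 : allRangeF (checkPointF cert) (nat_lit 135650) (nat_lit 25) = true := by decide +kernel
theorem chkP_135675 : allRangeF (checkPointF cert) (nat_lit 135675) (nat_lit 25) = true := by decide +kernel
theorem chkP_135700 : allRangeF (checkPointF cert) (nat_lit 135700) (nat_lit 25) = true := by decide +kernel
theorem chkP_135725 : allRangeF (checkPointF cert) (nat_lit 135725) (nat_lit 25) = true := by decide +kernel
theorem chkP_135750 : allRangeF (checkPointF cert) (nat_lit 135750) (nat_lit 25) = true := by decide +kernel
theorem chkP_135775 : allRangeF (checkPointF cert) (nat_lit 135775) (nat_lit 25) = true := by decide +kernel
theorem chkP_135800 : allRangeF (checkPointF cert) (nat_lit 135800) (nat_lit 25) = true := by decide +kernel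
theorem chkP_135825 : allRangeF (checkPointF cert) (nat_lit 135825) (nat_lit 25) = true := by decide +kernel
theorem chkP_135850 : allRangeF (checkPointF cert) (nat_lit 135850) (nat_lit 25) = true := by decide +kernel
theorem chkP_135875 : allRangeF (checkPointF cert) (nat_lit 135875) (nat_lit 25) = true := by decide +kernel
theorem chkP_135900 : allRangeF (checkPointF cert) (nat_lit 135900) (nat_lit 25) = true := by decide +kernel
theorem chkP_135925 : allRangeF (checkPointF cert) (nat_lit 135925) (nat_lit 25) = true := by decide +kernel
theorem chkP_135950 : allRangeF (checkPointF cert) (nat_lit 135950) (nat_lit 25) = true := by decide +kernel
theorem chkP_135975 : allRangeF (checkPointF cert) (nat_lit 135975) (nat_lit 25) = true := by decide +kernel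
theorem chkP_136000 : allRangeF (checkPointF cert) (nat_lit 136000) (nat_lit 25) = true := by decide +kernel
theorem chkP_136025 : allRangeF (checkPointF cert) (nat_lit 136025) (nat_lit 25) = true := by decide +kernel
theorem chkP_136050 : allRangeF (checkPointF cert) (nat_lit 136050) (nat_lit 25) = true := by decide +kernel
theorem chkP_136075 : allRangeF (checkPointF cert) (nat_lit 136075) (nat_lit 25) = true := by decide +kernel
theorem chkP_136100 : allRangeF (checkPointF cert) (nat_lit 136100) (nat_lit 25) = true := by decide +kernel
theorem chkP_136125 : allRangeF (checkPointF cert) (nat_lit 136125) (nat_lit 25) = true := by decide +kernel
theorem chkP_136150 : allRangeF (checkPointF cert) (nat_lit 136150) (nat_lit 25) = true := by decide +kernel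
theorem chkP_136175 : allRangeF (checkPointF cert) (nat_lit 136175) (nat_lit 25) = true := by decide +kernel
theorem chkP_136200 : allRangeF (checkPointF cert) (nat_lit 136200) (nat_lit 25) = true := by decide +kernel
theorem chkP_136225 : allRangeF (checkPointF cert) (nat_lit 136225) (nat_lit 25) = true := by decide +kernel
theorem chkP_136250 : allRangeF (checkPointF cert) (nat_lit 136250) (nat_lit 25) = true := by decide +kernel
theorem chkP_136275 : allRangeF (checkPointF cert) (nat_lit 136275) (nat_lit 25) = true := by decide +kernel
theorem chkP_136300 : allRangeF (checkPointF cert) (nat_lit 136300) (nat_lit 25) = true := by decide +kernel
theorem chkP_136325 : allRangeF (checkPointF cert) (nat_lit 136325) (nat_lit 25) = true := by decide +kernel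
theorem chkP_136350 : allRangeF (checkPointF cert) (nat_lit 136350) (nat_lit 25) = true := by decide +kernel
theorem chkP_136375 : allRangeF (checkPointF cert) (nat_lit 136375) (nat_lit 25) = true := by decide +kernel
theorem chkP_136400 : allRangeF (checkPointF cert) (nat_lit 136400) (nat_lit 25) = true := by decide +kernel
theorem chkP_136425 : allRangeF (checkPointF cert) (nat_lit 136425) (nat_lit 25) = true := by decide +kernel
theorem chkP_136450 : allRangeF (checkPointF cert) (nat_lit 136450) (nat_lit 25) = true := by decide +kernel
theorem chkP_136475 : allRangeF (checkPointF cert) (nat_lit 136475) (nat_lit 25) = true := by decide +kernel
theorem chkP_136500 : allRangeF (checkPointF cert) (nat_lit 136500) (nat_lit 25) = true := by decide +kernel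
theorem chkP_136525 : allRangeF (checkPointF cert) (nat_lit 136525) (nat_lit 25) = true := by decide +kernel
theorem chkP_136550 : allRangeF (checkPointF cert) (nat_lit 136550) (nat_lit 25) = true := by decide +kernel
theorem chkP_136575 : allRangeF (checkPointF cert) (nat_lit 136575) (nat_lit 25) = true := by decide +kernel
theorem chkP_136600 : allRangeF (checkPointF cert) (nat_lit 136600) (nat_lit 25) = true := by decide +kernel
theorem chkP_136625 : allRangeF (checkPointF cert) (nat_lit 136625) (nat_lit 25) = true := by decide +kernel
theorem chkP_136650 : allRangeF (checkPointF cert) (nat_lit 136650) (nat_lit 25) = true := by decide +kernel
theorem chkP_136675 : allRangeF (checkPointF cert) (nat_lit 136675) (nat_lit 25) = true := by decide +kernel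
theorem chkP_136700 : allRangeF (checkPointF cert) (nat_lit 136700) (nat_lit 25) = true := by decide +kernel
theorem chkP_136725 : allRangeF (checkPointF cert) (nat_lit 136725) (nat_lit 25) = true := by decide +kernel
theorem chkP_136750 : allRangeF (checkPointF cert) (nat_lit 136750) (nat_lit 25) = true := by decide +kernel
theorem chkP_136775 : allRangeF (checkPointF cert) (nat_lit 136775) (nat_lit 25) = true := by decide +kernel
theorem chkP_136800 : allRangeF (checkPointF cert) (nat_lit 136800) (nat_lit 25) = true := by decide +kernel
theorem chkP_136825 : allRangeF (checkPointF cert) (nat_lit 136825) (nat_lit 25) = true := by decide +kernel
theorem chkP_136850 : allRangeF (checkPointF cert) (nat_lit 136850) (nat_lit 25) = true := by decide +kernel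
theorem chkP_136875 : allRangeF (checkPointF cert) (nat_lit 136875) (nat_lit 25) = true := by decide +kernel
theorem chkP_136900 : allRangeF (checkPointF cert) (nat_lit 136900) (nat_lit 25) = true := by decide +kernel
theorem chkP_136925 : allRangeF (checkPointF cert) (nat_lit 136925) (nat_lit 25) = true := by decide +kernel
theorem chkP_136950 : allRangeF (checkPointF cert) (nat_lit 136950) (nat_lit 25) = true := by decide +kernel
theorem chkP_136975 : allRangeF (checkPointF cert) (nat_lit 136975) (nat_lit 25) = true := by decide +kernel
theorem chkP_137000 : allRangeF (checkPointF cert) (nat_lit 137000) (nat_lit 25) = true := by decide +kernel
theorem chkP_137025 : allRangeF (checkPointF cert) (nat_lit 137025) (nat_lit 25) = true := by decide +kernel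
theorem chkP_137050 : allRangeF (checkPointF cert) (nat_lit 137050) (nat_lit 25) = true := by decide +kernel
theorem chkP_137075 : allRangeF (checkPointF cert) (nat_lit 137075) (nat_lit 25) = true := by decide +kernel
theorem chkP_137100 : allRangeF (checkPointF cert) (nat_lit 137100) (nat_lit 25) = true := by decide +kernel
theorem chkP_137125 : allRangeF (checkPointF cert) (nat_lit 137125) (nat_lit 25) = true := by decide +kernel
theorem chkP_137150 : allRangeF (checkPointF cert) (nat_lit 137150) (nat_lit 25) = true := by decide +kernel
theorem chkP_137175 : allRangeF (checkPointF cert) (nat_lit 137175) (nat_lit 25) = true := by decide +kernel
theorem chkP_137200 : allRangeF (checkPointF cert) (nat_lit 137200) (nat_lit 25) = true := by decide +kernel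
theorem chkP_137225 : allRangeF (checkPointF cert) (nat_lit 137225) (nat_lit 25) = true := by decide +kernel
theorem chkP_137250 : allRangeF (checkPointF cert) (nat_lit 137250) (nat_lit 25) = true := by decide +kernel
theorem chkP_137275 : allRangeF (checkPointF cert) (nat_lit 137275) (nat_lit 25) = true := by decide +kernel
theorem chkP_137300 : allRangeF (checkPointF cert) (nat_lit 137300) (nat_lit 25) = true := by decide +kernel
theorem chkP_137325 : allRangeF (checkPointF cert) (nat_lit 137325) (nat_lit 25) = true := by decide +kernel
theorem chkP_137350 : allRangeF (checkPointF cert) (nat_lit 137350) (nat_lit 25) = true := by decide +kernel
theorem chkP_137375 : allRangeF (checkPointF cert) (nat_lit 137375) (nat_lit 25) = true := by decide +kernel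
theorem chkP_137400 : allRangeF (checkPointF cert) (nat_lit 137400) (nat_lit 25) = true := by decide +kernel
theorem chkP_137425 : allRangeF (checkPointF cert) (nat_lit 137425) (nat_lit 25) = true := by decide +kernel
theorem chkP_137450 : allRangeF (checkPointF cert) (nat_lit 137450) (nat_lit 25) = true := by decide +kernel
theorem chkP_137475 : allRangeF (checkPointF cert) (nat_lit 137475) (nat_lit 25) = true := by decide +kernel
theorem chkP_137500 : allRangeF (checkPointF cert) (nat_lit 137500) (nat_lit 25) = true := by decide +kernel
theorem chkP_137525 : allRangeF (checkPointF cert) (nat_lit 137525) (nat_lit 25) = true := by decide +kernel
theorem chkP_137550 : allRangeF (checkPointF cert) (nat_lit 137550) (nat_lit 25) = true := by decide +kernel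
theorem chkP_137575 : allRangeF (checkPointF cert) (nat_lit 137575) (nat_lit 25) = true := by decide +kernel
theorem chkP_137600 : allRangeF (checkPointF cert) (nat_lit 137600) (nat_lit 25) = true := by decide +kernel
theorem chkP_137625 : allRangeF (checkPointF cert) (nat_lit 137625) (nat_lit 25) = true := by decide +kernel
theorem chkP_137650 : allRangeF (checkPointF cert) (nat_lit 137650) (nat_lit 25) = true := by decide +kernel
theorem chkP_137675 : allRangeF (checkPointF cert) (nat_lit 137675) (nat_lit 25) = true := by decide +kernel
theorem chkP_137700 : allRangeF (checkPointF cert) (nat_lit 137700) (nat_lit 25) = true := by decide +kernel
theorem chkP_137725 : allRangeF (checkPointF cert) (nat_lit 137725) (nat_lit 25) = true := by decide +kernel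
theorem chkP_137750 : allRangeF (checkPointF cert) (nat_lit 137750) (nat_lit 25) = true := by decide +kernel
theorem chkP_137775 : allRangeF (checkPointF cert) (nat_lit 137775) (nat_lit 25) = true := by decide +kernel
theorem chkP_137800 : allRangeF (checkPointF cert) (nat_lit 137800) (nat_lit 25) = true := by decide +kernel
theorem chkP_137825 : allRangeF (checkPointF cert) (nat_lit 137825) (nat_lit 25) = true := by decide +kernel
theorem chkP_137850 : allRangeF (checkPointF cert) (nat_lit 137850) (nat_lit 25) = true := by decide +kernel
theorem chkP_137875 : allRangeF (checkPointF cert) (nat_lit 137875) (nat_lit 25) = true := by decide +kernel
theorem chkP_137900 : allRangeF (checkPointF cert) (nat_lit 137900) (nat_lit 25) = true := by decide +kernel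
theorem chkP_137925 : allRangeF (checkPointF cert) (nat_lit 137925) (nat_lit 25) = true := by decide +kernel
theorem chkP_137950 : allRangeF (checkPointF cert) (nat_lit 137950) (nat_lit 25) = true := by decide +kernel
theorem chkP_137975 : allRangeF (checkPointF cert) (nat_lit 137975) (nat_lit 25) = true := by decide +kernel
theorem chkP_138000 : allRangeF (checkPointF cert) (nat_lit 138000) (nat_lit 25) = true := by decide +kernel
theorem chkP_138025 : allRangeF (checkPointF cert) (nat_lit 138025) (nat_lit 25) = true := by decide +kernel
theorem chkP_138050 : allRangeF (checkPointF cert) (nat_lit 138050) (nat_lit 25) = true := by decide +kernel
theorem chkP_138075 : allRangeF (checkPointF cert) (nat_lit 138075) (nat_lit 25) = true := by decide +kernel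
theorem chkP_138100 : allRangeF (checkPointF cert) (nat_lit 138100) (nat_lit 25) = true := by decide +kernel
theorem chkP_138125 : allRangeF (checkPointF cert) (nat_lit 138125) (nat_lit 25) = true := by decide +kernel

theorem ptsRange_17 : ∀ i, 130475 ≤ i → i < 138150 → checkPoint cert i = true := by
  intro i hlo hhi
  rcases Nat.lt_or_ge i 134300 with h1 | h1
  · skip
    rcases Nat.lt_or_ge i 132375 with h2 | h2
    · skip
      rcases Nat.lt_or_ge i 131425 with h3 | h3
      · skip
        rcases Nat.lt_or_ge i 130950 with h4 | h4
        · skip
          rcases Nat.lt_or_ge i 130700 with h5 | h5
          · skip
            rcases Nat.lt_or_ge i 130575 with h6 | h6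
            · skip
              rcases Nat.lt_or_ge i 130525 with h7 | h7
              · skip
                rcases Nat.lt_or_ge i 130500 with h8 | h8
                · skip
                  exact allRangeF_sound _ _ (checkPointF_eq cert) 130475 25 chkP_130475 i (by omega) (by omega)
                · skip
                  exact allRangeF_sound _ _ (checkPointF_eq cert) 130500 25 chkP_130500 i (by omega) (by omega)
              · skip
                rcases Nat.lt_or_ge i 130550 with h8 | h8
                · skip
                  exact allRangeF_sound _ _ (checkPointF_eq cert) 130525 25 chkP_130525 i (by omega) (by omega)
                · skip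
                  exact allRangeF_sound _ _ (checkPointF_eq cert) 130550 25 chkP_130550 i (by omega) (by omega)
            · skip
              rcases Nat.lt_or_ge i 130625 with h7 | h7
              · skip
                rcases Nat.lt_or_ge i 130600 with h8 | h8
                · skip
                  exact allRangeF_sound _ _ (checkPointF_eq cert) 130575 25 chkP_130575 i (by omega) (by omega)
                · skip
                  exact allRangeF_sound _ _ (checkPointF_eq cert) 130600 25 chkP_130600 i (by omega) (by omega)
              · skip
                rcases Nat.lt_or_ge i 130650 with h8 | h8
                · skip
                  exact allRangeF_sound _ _ (checkPointF_eq cert) 130625 25 chkP_130625 i (by omega) (by omega)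
                · skip
                  rcases Nat.lt_or_ge i 130675 with h9 | h9
                  · skip
                    exact allRangeF_sound _ _ (checkPointF_eq cert) 130650 25 chkP_130650 i (by omega) (by omega)
                  · skip
                    exact allRangeF_sound _ _ (checkPointF_eq cert) 130675 25 chkP_130675 i (by omega) (by omega)
          · skip
            rcases Nat.lt_or_ge i 130825 with h6 | h6
            · skip
              rcases Nat.lt_or_ge i 130750 with h7 | h7
              · skip
                rcases Nat.lt_or_ge i 130725 with h8 | h8
                · skip
                  exact allRangeF_sound _ _ (checkPointF_eq cert) 130700 25 chkP_130700 i (by omega) (by omega)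
                · skip
                  exact allRangeF_sound _ _ (checkPointF_eq cert) 130725 25 chkP_130725 i (by omega) (by omega)
              · skip
                rcases Nat.lt_or_ge i 130775 with h8 | h8
                · skip
                  exact allRangeF_sound _ _ (checkPointF_eq cert) 130750 25 chkP_130750 i (by omega) (by omega)
                · skip
                  rcases Nat.lt_or_ge i 130800 with h9 | h9
                  · skip
                    exact allRangeF_sound _ _ (checkPointF_eq cert) 130775 25 chkP_130775 i (by omega) (by omega)
                  · skip
                    exact allRangeF_sound _ _ (checkPointF_eq cert) 130800 25 chkP_130800 i (by omega) (by omega)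
            · skip
              rcases Nat.lt_or_ge i 130875 with h7 | h7
              · skip
                rcases Nat.lt_or_ge i 130850 with h8 | h8
                · skip
                  exact allRangeF_sound _ _ (checkPointF_eq cert) 130825 25 chkP_130825 i (by omega) (by omega)
                · skip
                  exact allRangeF_sound _ _ (checkPointF_eq cert) 130850 25 chkP_130850 i (by omega) (by omega)
              · skip
                rcases Nat.lt_or_ge i 130900 with h8 | h8
                · skip
                  exact allRangeF_sound _ _ (checkPointF_eq cert) 130875 25 chkP_130875 i (by omega) (by omega)
                · skip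
                  rcases Nat.lt_or_ge i 130925 with h9 | h9
                  · skip
                    exact allRangeF_sound _ _ (checkPointF_eq cert) 130900 25 chkP_130900 i (by omega) (by omega)
                  · skip
                    exact allRangeF_sound _ _ (checkPointF_eq cert) 130925 25 chkP_130925 i (by omega) (by omega)
        · skip
          rcases Nat.lt_or_ge i 131175 with h5 | h5
          · skip
            rcases Nat.lt_or_ge i 131050 with h6 | h6
            · skip
              rcases Nat.lt_or_ge i 131000 with h7 | h7
              · skip
                rcases Nat.lt_or_ge i 130975 with h8 | h8
                · skip
                  exact allRangeF_sound _ _ (checkPointF_eq cert) 130950 25 chkP_130950 i (by omega) (by omega)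
                · skip
                  exact allRangeF_sound _ _ (checkPointF_eq cert) 130975 25 chkP_130975 i (by omega) (by omega)
              · skip
                rcases Nat.lt_or_ge i 131025 with h8 | h8
                · skip
                  exact allRangeF_sound _ _ (checkPointF_eq cert) 131000 25 chkP_131000 i (by omega) (by omega)
                · skip
                  exact allRangeF_sound _ _ (checkPointF_eq cert) 131025 25 chkP_131025 i (by omega) (by omega)
            · skip
              rcases Nat.lt_or_ge i 131100 with h7 | h7
              · skip
                rcases Nat.lt_or_ge i 131075 with h8 | h8
                · skip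
                  exact allRangeF_sound _ _ (checkPointF_eq cert) 131050 25 chkP_131050 i (by omega) (by omega)
                · skip
                  exact allRangeF_sound _ _ (checkPointF_eq cert) 131075 25 chkP_131075 i (by omega) (by omega)
              · skip
                rcases Nat.lt_or_ge i 131125 with h8 | h8
                · skip
                  exact allRangeF_sound _ _ (checkPointF_eq cert) 131100 25 chkP_131100 i (by omega) (by omega)
                · skip
                  rcases Nat.lt_or_ge i 131150 with h9 | h9
                  · skip
                    exact allRangeF_sound _ _ (checkPointF_eq cert) 131125 25 chkP_131125 i (by omega) (by omega)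
                  · skip
                    exact allRangeF_sound _ _ (checkPointF_eq cert) 131150 25 chkP_131150 i (by omega) (by omega)
          · skip
            rcases Nat.lt_or_ge i 131300 with h6 | h6
            · skip
              rcases Nat.lt_or_ge i 131225 with h7 | h7
              · skip
                rcases Nat.lt_or_ge i 131200 with h8 | h8
                · skip
                  exact allRangeF_sound _ _ (checkPointF_eq cert) 131175 25 chkP_131175 i (by omega) (by omega)
                · skip
                  exact allRangeF_sound _ _ (checkPointF_eq cert) 131200 25 chkP_131200 i (by omega) (by omega)
              · skip
                rcases Nat.lt_or_ge i 131250 with h8 | h8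
                · skip
                  exact allRangeF_sound _ _ (checkPointF_eq cert) 131225 25 chkP_131225 i (by omega) (by omega)
                · skip
                  rcases Nat.lt_or_ge i 131275 with h9 | h9
                  · skip
                    exact allRangeF_sound _ _ (checkPointF_eq cert) 131250 25 chkP_131250 i (by omega) (by omega)
                  · skip
                    exact allRangeF_sound _ _ (checkPointF_eq cert) 131275 25 chkP_131275 i (by omega) (by omega)
            · skip
              rcases Nat.lt_or_ge i 131350 with h7 | h7
              · skip
                rcases Nat.lt_or_ge i 131325 with h8 | h8
                · skip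
                  exact allRangeF_sound _ _ (checkPointF_eq cert) 131300 25 chkP_131300 i (by omega) (by omega)
                · skip
                  exact allRangeF_sound _ _ (checkPointF_eq cert) 131325 25 chkP_131325 i (by omega) (by omega)
              · skip
                rcases Nat.lt_or_ge i 131375 with h8 | h8
                · skip
                  exact allRangeF_sound _ _ (checkPointF_eq cert) 131350 25 chkP_131350 i (by omega) (by omega)
                · skip
                  rcases Nat.lt_or_ge i 131400 with h9 | h9
                  · skip
                    exact allRangeF_sound _ _ (checkPointF_eq cert) 131375 25 chkP_131375 i (by omega) (by omega)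
                  · skip
                    exact allRangeF_sound _ _ (checkPointF_eq cert) 131400 25 chkP_131400 i (by omega) (by omega)
      · skip
        rcases Nat.lt_or_ge i 131900 with h4 | h4
        · skip
          rcases Nat.lt_or_ge i 131650 with h5 | h5
          · skip
            rcases Nat.lt_or_ge i 131525 with h6 | h6
            · skip
              rcases Nat.lt_or_ge i 131475 with h7 | h7
              · skip
                rcases Nat.lt_or_ge i 131450 with h8 | h8
                · skip
                  exact allRangeF_sound _ _ (checkPointF_eq cert) 131425 25 chkP_131425 i (by omega) (by omega)
                · skip
                  exact allRangeF_sound _ _ (checkPointF_eq cert) 131450 25 chkP_131450 i (by omega) (by omega)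
              · skip
                rcases Nat.lt_or_ge i 131500 with h8 | h8
                · skip
                  exact allRangeF_sound _ _ (checkPointF_eq cert) 131475 25 chkP_131475 i (by omega) (by omega)
                · skip
                  exact allRangeF_sound _ _ (checkPointF_eq cert) 131500 25 chkP_131500 i (by omega) (by omega)
            · skip
              rcases Nat.lt_or_ge i 131575 with h7 | h7
              · skip
                rcases Nat.lt_or_ge i 131550 with h8 | h8
                · skip
                  exact allRangeF_sound _ _ (checkPointF_eq cert) 131525 25 chkP_131525 i (by omega) (by omega)
                · skip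
                  exact allRangeF_sound _ _ (checkPointF_eq cert) 131550 25 chkP_131550 i (by omega) (by omega)
              · skip
                rcases Nat.lt_or_ge i 131600 with h8 | h8
                · skip
                  exact allRangeF_sound _ _ (checkPointF_eq cert) 131575 25 chkP_131575 i (by omega) (by omega)
                · skip
                  rcases Nat.lt_or_ge i 131625 with h9 | h9
                  · skip
                    exact allRangeF_sound _ _ (checkPointF_eq cert) 131600 25 chkP_131600 i (by omega) (by omega)
                  · skip
                    exact allRangeF_sound _ _ (checkPointF_eq cert) 131625 25 chkP_131625 i (by omega) (by omega)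
          · skip
            rcases Nat.lt_or_ge i 131775 with h6 | h6
            · skip
              rcases Nat.lt_or_ge i 131700 with h7 | h7
              · skip
                rcases Nat.lt_or_ge i 131675 with h8 | h8
                · skip
                  exact allRangeF_sound _ _ (checkPointF_eq cert) 131650 25 chkP_131650 i (by omega) (by omega)
                · skip
                  exact allRangeF_sound _ _ (checkPointF_eq cert) 131675 25 chkP_131675 i (by omega) (by omega)
              · skip
                rcases Nat.lt_or_ge i 131725 with h8 | h8
                · skip
                  exact allRangeF_sound _ _ (checkPointF_eq cert) 131700 25 chkP_131700 i (by omega) (by omega)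
                · skip
                  rcases Nat.lt_or_ge i 131750 with h9 | h9
                  · skip
                    exact allRangeF_sound _ _ (checkPointF_eq cert) 131725 25 chkP_131725 i (by omega) (by omega)
                  · skip
                    exact allRangeF_sound _ _ (checkPointF_eq cert) 131750 25 chkP_131750 i (by omega) (by omega)
            · skip
              rcases Nat.lt_or_ge i 131825 with h7 | h7
              · skip
                rcases Nat.lt_or_ge i 131800 with h8 | h8
                · skip
                  exact allRangeF_sound _ _ (checkPointF_eq cert) 131775 25 chkP_131775 i (by omega) (by omega)
                · skip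
                  exact allRangeF_sound _ _ (checkPointF_eq cert) 131800 25 chkP_131800 i (by omega) (by omega)
              · skip
                rcases Nat.lt_or_ge i 131850 with h8 | h8
                · skip
                  exact allRangeF_sound _ _ (checkPointF_eq cert) 131825 25 chkP_131825 i (by omega) (by omega)
                · skip
                  rcases Nat.lt_or_ge i 131875 with h9 | h9
                  · skip
                    exact allRangeF_sound _ _ (checkPointF_eq cert) 131850 25 chkP_131850 i (by omega) (by omega)
                  · skip
                    exact allRangeF_sound _ _ (checkPointF_eq cert) 131875 25 chkP_131875 i (by omega) (by omega)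
        · skip
          rcases Nat.lt_or_ge i 132125 with h5 | h5
          · skip
            rcases Nat.lt_or_ge i 132000 with h6 | h6
            · skip
              rcases Nat.lt_or_ge i 131950 with h7 | h7
              · skip
                rcases Nat.lt_or_ge i 131925 with h8 | h8
                · skip
                  exact allRangeF_sound _ _ (checkPointF_eq cert) 131900 25 chkP_131900 i (by omega) (by omega)
                · skip
                  exact allRangeF_sound _ _ (checkPointF_eq cert) 131925 25 chkP_131925 i (by omega) (by omega)
              · skip
                rcases Nat.lt_or_ge i 131975 with h8 | h8
                · skip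
                  exact allRangeF_sound _ _ (checkPointF_eq cert) 131950 25 chkP_131950 i (by omega) (by omega)
                · skip
                  exact allRangeF_sound _ _ (checkPointF_eq cert) 131975 25 chkP_131975 i (by omega) (by omega)
            · skip
              rcases Nat.lt_or_ge i 132050 with h7 | h7
              · skip
                rcases Nat.lt_or_ge i 132025 with h8 | h8
                · skip
                  exact allRangeF_sound _ _ (checkPointF_eq cert) 132000 25 chkP_132000 i (by omega) (by omega)
                · skip
                  exact allRangeF_sound _ _ (checkPointF_eq cert) 132025 25 chkP_132025 i (by omega) (by omega)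
              · skip
                rcases Nat.lt_or_ge i 132075 with h8 | h8
                · skip
                  exact allRangeF_sound _ _ (checkPointF_eq cert) 132050 25 chkP_132050 i (by omega) (by omega)
                · skip
                  rcases Nat.lt_or_ge i 132100 with h9 | h9
                  · skip
                    exact allRangeF_sound _ _ (checkPointF_eq cert) 132075 25 chkP_132075 i (by omega) (by omega)
                  · skip
                    exact allRangeF_sound _ _ (checkPointF_eq cert) 132100 25 chkP_132100 i (by omega) (by omega)
          · skip
            rcases Nat.lt_or_ge i 132250 with h6 | h6
            · skip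
              rcases Nat.lt_or_ge i 132175 with h7 | h7
              · skip
                rcases Nat.lt_or_ge i 132150 with h8 | h8
                · skip
                  exact allRangeF_sound _ _ (checkPointF_eq cert) 132125 25 chkP_132125 i (by omega) (by omega)
                · skip
                  exact allRangeF_sound _ _ (checkPointF_eq cert) 132150 25 chkP_132150 i (by omega) (by omega)
              · skip
                rcases Nat.lt_or_ge i 132200 with h8 | h8
                · skip
                  exact allRangeF_sound _ _ (checkPointF_eq cert) 132175 25 chkP_132175 i (by omega) (by omega)
                · skip
                  rcases Nat.lt_or_ge i 132225 with h9 | h9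
                  · skip
                    exact allRangeF_sound _ _ (checkPointF_eq cert) 132200 25 chkP_132200 i (by omega) (by omega)
                  · skip
                    exact allRangeF_sound _ _ (checkPointF_eq cert) 132225 25 chkP_132225 i (by omega) (by omega)
            · skip
              rcases Nat.lt_or_ge i 132300 with h7 | h7
              · skip
                rcases Nat.lt_or_ge i 132275 with h8 | h8
                · skip
                  exact allRangeF_sound _ _ (checkPointF_eq cert) 132250 25 chkP_132250 i (by omega) (by omega)
                · skip
                  exact allRangeF_sound _ _ (checkPointF_eq cert) 132275 25 chkP_132275 i (by omega) (by omega)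
              · skip
                rcases Nat.lt_or_ge i 132325 with h8 | h8
                · skip
                  exact allRangeF_sound _ _ (checkPointF_eq cert) 132300 25 chkP_132300 i (by omega) (by omega)
                · skip
                  rcases Nat.lt_or_ge i 132350 with h9 | h9
                  · skip
                    exact allRangeF_sound _ _ (checkPointF_eq cert) 132325 25 chkP_132325 i (by omega) (by omega)
                  · skip
                    exact allRangeF_sound _ _ (checkPointF_eq cert) 132350 25 chkP_132350 i (by omega) (by omega)
    · skip
      rcases Nat.lt_or_ge i 133325 with h3 | h3
      · skip
        rcases Nat.lt_or_ge i 132850 with h4 | h4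
        · skip
          rcases Nat.lt_or_ge i 132600 with h5 | h5
          · skip
            rcases Nat.lt_or_ge i 132475 with h6 | h6
            · skip
              rcases Nat.lt_or_ge i 132425 with h7 | h7
              · skip
                rcases Nat.lt_or_ge i 132400 with h8 | h8
                · skip
                  exact allRangeF_sound _ _ (checkPointF_eq cert) 132375 25 chkP_132375 i (by omega) (by omega)
                · skip
                  exact allRangeF_sound _ _ (checkPointF_eq cert) 132400 25 chkP_132400 i (by omega) (by omega)
              · skip
                rcases Nat.lt_or_ge i 132450 with h8 | h8
                · skip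
                  exact allRangeF_sound _ _ (checkPointF_eq cert) 132425 25 chkP_132425 i (by omega) (by omega)
                · skip
                  exact allRangeF_sound _ _ (checkPointF_eq cert) 132450 25 chkP_132450 i (by omega) (by omega)
            · skip
              rcases Nat.lt_or_ge i 132525 with h7 | h7
              · skip
                rcases Nat.lt_or_ge i 132500 with h8 | h8
                · skip
                  exact allRangeF_sound _ _ (checkPointF_eq cert) 132475 25 chkP_132475 i (by omega) (by omega)
                · skip
                  exact allRangeF_sound _ _ (checkPointF_eq cert) 132500 25 chkP_132500 i (by omega) (by omega)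
              · skip
                rcases Nat.lt_or_ge i 132550 with h8 | h8
                · skip
                  exact allRangeF_sound _ _ (checkPointF_eq cert) 132525 25 chkP_132525 i (by omega) (by omega)
                · skip
                  rcases Nat.lt_or_ge i 132575 with h9 | h9
                  · skip
                    exact allRangeF_sound _ _ (checkPointF_eq cert) 132550 25 chkP_132550 i (by omega) (by omega)
                  · skip
                    exact allRangeF_sound _ _ (checkPointF_eq cert) 132575 25 chkP_132575 i (by omega) (by omega)
          · skip
            rcases Nat.lt_or_ge i 132725 with h6 | h6
            · skip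
              rcases Nat.lt_or_ge i 132650 with h7 | h7
              · skip
                rcases Nat.lt_or_ge i 132625 with h8 | h8
                · skip
                  exact allRangeF_sound _ _ (checkPointF_eq cert) 132600 25 chkP_132600 i (by omega) (by omega)
                · skip
                  exact allRangeF_sound _ _ (checkPointF_eq cert) 132625 25 chkP_132625 i (by omega) (by omega)
              · skip
                rcases Nat.lt_or_ge i 132675 with h8 | h8
                · skip
                  exact allRangeF_sound _ _ (checkPointF_eq cert) 132650 25 chkP_132650 i (by omega) (by omega)
                · skip
                  rcases Nat.lt_or_ge i 132700 with h9 | h9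
                  · skip
                    exact allRangeF_sound _ _ (checkPointF_eq cert) 132675 25 chkP_132675 i (by omega) (by omega)
                  · skip
                    exact allRangeF_sound _ _ (checkPointF_eq cert) 132700 25 chkP_132700 i (by omega) (by omega)
            · skip
              rcases Nat.lt_or_ge i 132775 with h7 | h7
              · skip
                rcases Nat.lt_or_ge i 132750 with h8 | h8
                · skip
                  exact allRangeF_sound _ _ (checkPointF_eq cert) 132725 25 chkP_132725 i (by omega) (by omega)
                · skip
                  exact allRangeF_sound _ _ (checkPointF_eq cert) 132750 25 chkP_132750 i (by omega) (by omega)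
              · skip
                rcases Nat.lt_or_ge i 132800 with h8 | h8
                · skip
                  exact allRangeF_sound _ _ (checkPointF_eq cert) 132775 25 chkP_132775 i (by omega) (by omega)
                · skip
                  rcases Nat.lt_or_ge i 132825 with h9 | h9
                  · skip
                    exact allRangeF_sound _ _ (checkPointF_eq cert) 132800 25 chkP_132800 i (by omega) (by omega)
                  · skip
                    exact allRangeF_sound _ _ (checkPointF_eq cert) 132825 25 chkP_132825 i (by omega) (by omega)
        · skip
          rcases Nat.lt_or_ge i 133075 with h5 | h5
          · skip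
            rcases Nat.lt_or_ge i 132950 with h6 | h6
            · skip
              rcases Nat.lt_or_ge i 132900 with h7 | h7
              · skip
                rcases Nat.lt_or_ge i 132875 with h8 | h8
                · skip
                  exact allRangeF_sound _ _ (checkPointF_eq cert) 132850 25 chkP_132850 i (by omega) (by omega)
                · skip
                  exact allRangeF_sound _ _ (checkPointF_eq cert) 132875 25 chkP_132875 i (by omega) (by omega)
              · skip
                rcases Nat.lt_or_ge i 132925 with h8 | h8
                · skip
                  exact allRangeF_sound _ _ (checkPointF_eq cert) 132900 25 chkP_132900 i (by omega) (by omega)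
                · skip
                  exact allRangeF_sound _ _ (checkPointF_eq cert) 132925 25 chkP_132925 i (by omega) (by omega)
            · skip
              rcases Nat.lt_or_ge i 133000 with h7 | h7
              · skip
                rcases Nat.lt_or_ge i 132975 with h8 | h8
                · skip
                  exact allRangeF_sound _ _ (checkPointF_eq cert) 132950 25 chkP_132950 i (by omega) (by omega)
                · skip
                  exact allRangeF_sound _ _ (checkPointF_eq cert) 132975 25 chkP_132975 i (by omega) (by omega)
              · skip
                rcases Nat.lt_or_ge i 133025 with h8 | h8
                · skip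
                  exact allRangeF_sound _ _ (checkPointF_eq cert) 133000 25 chkP_133000 i (by omega) (by omega)
                · skip
                  rcases Nat.lt_or_ge i 133050 with h9 | h9
                  · skip
                    exact allRangeF_sound _ _ (checkPointF_eq cert) 133025 25 chkP_133025 i (by omega) (by omega)
                  · skip
                    exact allRangeF_sound _ _ (checkPointF_eq cert) 133050 25 chkP_133050 i (by omega) (by omega)
          · skip
            rcases Nat.lt_or_ge i 133200 with h6 | h6
            · skip
              rcases Nat.lt_or_ge i 133125 with h7 | h7
              · skip
                rcases Nat.lt_or_ge i 133100 with h8 | h8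
                · skip
                  exact allRangeF_sound _ _ (checkPointF_eq cert) 133075 25 chkP_133075 i (by omega) (by omega)
                · skip
                  exact allRangeF_sound _ _ (checkPointF_eq cert) 133100 25 chkP_133100 i (by omega) (by omega)
              · skip
                rcases Nat.lt_or_ge i 133150 with h8 | h8
                · skip
                  exact allRangeF_sound _ _ (checkPointF_eq cert) 133125 25 chkP_133125 i (by omega) (by omega)
                · skip
                  rcases Nat.lt_or_ge i 133175 with h9 | h9
                  · skip
                    exact allRangeF_sound _ _ (checkPointF_eq cert) 133150 25 chkP_133150 i (by omega) (by omega)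
                  · skip
                    exact allRangeF_sound _ _ (checkPointF_eq cert) 133175 25 chkP_133175 i (by omega) (by omega)
            · skip
              rcases Nat.lt_or_ge i 133250 with h7 | h7
              · skip
                rcases Nat.lt_or_ge i 133225 with h8 | h8
                · skip
                  exact allRangeF_sound _ _ (checkPointF_eq cert) 133200 25 chkP_133200 i (by omega) (by omega)
                · skip
                  exact allRangeF_sound _ _ (checkPointF_eq cert) 133225 25 chkP_133225 i (by omega) (by omega)
              · skip
                rcases Nat.lt_or_ge i 133275 with h8 | h8
                · skip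
                  exact allRangeF_sound _ _ (checkPointF_eq cert) 133250 25 chkP_133250 i (by omega) (by omega)
                · skip
                  rcases Nat.lt_or_ge i 133300 with h9 | h9
                  · skip
                    exact allRangeF_sound _ _ (checkPointF_eq cert) 133275 25 chkP_133275 i (by omega) (by omega)
                  · skip
                    exact allRangeF_sound _ _ (checkPointF_eq cert) 133300 25 chkP_133300 i (by omega) (by omega)
      · skip
        rcases Nat.lt_or_ge i 133800 with h4 | h4
        · skip
          rcases Nat.lt_or_ge i 133550 with h5 | h5
          · skip
            rcases Nat.lt_or_ge i 133425 with h6 | h6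
            · skip
              rcases Nat.lt_or_ge i 133375 with h7 | h7
              · skip
                rcases Nat.lt_or_ge i 133350 with h8 | h8
                · skip
                  exact allRangeF_sound _ _ (checkPointF_eq cert) 133325 25 chkP_133325 i (by omega) (by omega)
                · skip
                  exact allRangeF_sound _ _ (checkPointF_eq cert) 133350 25 chkP_133350 i (by omega) (by omega)
              · skip
                rcases Nat.lt_or_ge i 133400 with h8 | h8
                · skip
                  exact allRangeF_sound _ _ (checkPointF_eq cert) 133375 25 chkP_133375 i (by omega) (by omega)
                · skip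
                  exact allRangeF_sound _ _ (checkPointF_eq cert) 133400 25 chkP_133400 i (by omega) (by omega)
            · skip
              rcases Nat.lt_or_ge i 133475 with h7 | h7
              · skip
                rcases Nat.lt_or_ge i 133450 with h8 | h8
                · skip
                  exact allRangeF_sound _ _ (checkPointF_eq cert) 133425 25 chkP_133425 i (by omega) (by omega)
                · skip
                  exact allRangeF_sound _ _ (checkPointF_eq cert) 133450 25 chkP_133450 i (by omega) (by omega)
              · skip
                rcases Nat.lt_or_ge i 133500 with h8 | h8
                · skip
                  exact allRangeF_sound _ _ (checkPointF_eq cert) 133475 25 chkP_133475 i (by omega) (by omega)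
                · skip
                  rcases Nat.lt_or_ge i 133525 with h9 | h9
                  · skip
                    exact allRangeF_sound _ _ (checkPointF_eq cert) 133500 25 chkP_133500 i (by omega) (by omega)
                  · skip
                    exact allRangeF_sound _ _ (checkPointF_eq cert) 133525 25 chkP_133525 i (by omega) (by omega)
          · skip
            rcases Nat.lt_or_ge i 133675 with h6 | h6
            · skip
              rcases Nat.lt_or_ge i 133600 with h7 | h7
              · skip
                rcases Nat.lt_or_ge i 133575 with h8 | h8
                · skip
                  exact allRangeF_sound _ _ (checkPointF_eq cert) 133550 25 chkP_133550 i (by omega) (by omega)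
                · skip
                  exact allRangeF_sound _ _ (checkPointF_eq cert) 133575 25 chkP_133575 i (by omega) (by omega)
              · skip
                rcases Nat.lt_or_ge i 133625 with h8 | h8
                · skip
                  exact allRangeF_sound _ _ (checkPointF_eq cert) 133600 25 chkP_133600 i (by omega) (by omega)
                · skip
                  rcases Nat.lt_or_ge i 133650 with h9 | h9
                  · skip
                    exact allRangeF_sound _ _ (checkPointF_eq cert) 133625 25 chkP_133625 i (by omega) (by omega)
                  · skip
                    exact allRangeF_sound _ _ (checkPointF_eq cert) 133650 25 chkP_133650 i (by omega) (by omega)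
            · skip
              rcases Nat.lt_or_ge i 133725 with h7 | h7
              · skip
                rcases Nat.lt_or_ge i 133700 with h8 | h8
                · skip
                  exact allRangeF_sound _ _ (checkPointF_eq cert) 133675 25 chkP_133675 i (by omega) (by omega)
                · skip
                  exact allRangeF_sound _ _ (checkPointF_eq cert) 133700 25 chkP_133700 i (by omega) (by omega)
              · skip
                rcases Nat.lt_or_ge i 133750 with h8 | h8
                · skip
                  exact allRangeF_sound _ _ (checkPointF_eq cert) 133725 25 chkP_133725 i (by omega) (by omega)
                · skip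
                  rcases Nat.lt_or_ge i 133775 with h9 | h9
                  · skip
                    exact allRangeF_sound _ _ (checkPointF_eq cert) 133750 25 chkP_133750 i (by omega) (by omega)
                  · skip
                    exact allRangeF_sound _ _ (checkPointF_eq cert) 133775 25 chkP_133775 i (by omega) (by omega)
        · skip
          rcases Nat.lt_or_ge i 134050 with h5 | h5
          · skip
            rcases Nat.lt_or_ge i 133925 with h6 | h6
            · skip
              rcases Nat.lt_or_ge i 133850 with h7 | h7
              · skip
                rcases Nat.lt_or_ge i 133825 with h8 | h8
                · skip
                  exact allRangeF_sound _ _ (checkPointF_eq cert) 133800 25 chkP_133800 i (by omega) (by omega)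
                · skip
                  exact allRangeF_sound _ _ (checkPointF_eq cert) 133825 25 chkP_133825 i (by omega) (by omega)
              · skip
                rcases Nat.lt_or_ge i 133875 with h8 | h8
                · skip
                  exact allRangeF_sound _ _ (checkPointF_eq cert) 133850 25 chkP_133850 i (by omega) (by omega)
                · skip
                  rcases Nat.lt_or_ge i 133900 with h9 | h9
                  · skip
                    exact allRangeF_sound _ _ (checkPointF_eq cert) 133875 25 chkP_133875 i (by omega) (by omega)
                  · skip
                    exact allRangeF_sound _ _ (checkPointF_eq cert) 133900 25 chkP_133900 i (by omega) (by omega)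
            · skip
              rcases Nat.lt_or_ge i 133975 with h7 | h7
              · skip
                rcases Nat.lt_or_ge i 133950 with h8 | h8
                · skip
                  exact allRangeF_sound _ _ (checkPointF_eq cert) 133925 25 chkP_133925 i (by omega) (by omega)
                · skip
                  exact allRangeF_sound _ _ (checkPointF_eq cert) 133950 25 chkP_133950 i (by omega) (by omega)
              · skip
                rcases Nat.lt_or_ge i 134000 with h8 | h8
                · skip
                  exact allRangeF_sound _ _ (checkPointF_eq cert) 133975 25 chkP_133975 i (by omega) (by omega)
                · skip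
                  rcases Nat.lt_or_ge i 134025 with h9 | h9
                  · skip
                    exact allRangeF_sound _ _ (checkPointF_eq cert) 134000 25 chkP_134000 i (by omega) (by omega)
                  · skip
                    exact allRangeF_sound _ _ (checkPointF_eq cert) 134025 25 chkP_134025 i (by omega) (by omega)
          · skip
            rcases Nat.lt_or_ge i 134175 with h6 | h6
            · skip
              rcases Nat.lt_or_ge i 134100 with h7 | h7
              · skip
                rcases Nat.lt_or_ge i 134075 with h8 | h8
                · skip
                  exact allRangeF_sound _ _ (checkPointF_eq cert) 134050 25 chkP_134050 i (by omega) (by omega)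
                · skip
                  exact allRangeF_sound _ _ (checkPointF_eq cert) 134075 25 chkP_134075 i (by omega) (by omega)
              · skip
                rcases Nat.lt_or_ge i 134125 with h8 | h8
                · skip
                  exact allRangeF_sound _ _ (checkPointF_eq cert) 134100 25 chkP_134100 i (by omega) (by omega)
                · skip
                  rcases Nat.lt_or_ge i 134150 with h9 | h9
                  · skip
                    exact allRangeF_sound _ _ (checkPointF_eq cert) 134125 25 chkP_134125 i (by omega) (by omega)
                  · skip
                    exact allRangeF_sound _ _ (checkPointF_eq cert) 134150 25 chkP_134150 i (by omega) (by omega)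
            · skip
              rcases Nat.lt_or_ge i 134225 with h7 | h7
              · skip
                rcases Nat.lt_or_ge i 134200 with h8 | h8
                · skip
                  exact allRangeF_sound _ _ (checkPointF_eq cert) 134175 25 chkP_134175 i (by omega) (by omega)
                · skip
                  exact allRangeF_sound _ _ (checkPointF_eq cert) 134200 25 chkP_134200 i (by omega) (by omega)
              · skip
                rcases Nat.lt_or_ge i 134250 with h8 | h8
                · skip
                  exact allRangeF_sound _ _ (checkPointF_eq cert) 134225 25 chkP_134225 i (by omega) (by omega)
                · skip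
                  rcases Nat.lt_or_ge i 134275 with h9 | h9
                  · skip
                    exact allRangeF_sound _ _ (checkPointF_eq cert) 134250 25 chkP_134250 i (by omega) (by omega)
                  · skip
                    exact allRangeF_sound _ _ (checkPointF_eq cert) 134275 25 chkP_134275 i (by omega) (by omega)
  · skip
    rcases Nat.lt_or_ge i 136225 with h2 | h2
    · skip
      rcases Nat.lt_or_ge i 135250 with h3 | h3
      · skip
        rcases Nat.lt_or_ge i 134775 with h4 | h4
        · skip
          rcases Nat.lt_or_ge i 134525 with h5 | h5
          · skip
            rcases Nat.lt_or_ge i 134400 with h6 | h6
            · skip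
              rcases Nat.lt_or_ge i 134350 with h7 | h7
              · skip
                rcases Nat.lt_or_ge i 134325 with h8 | h8
                · skip
                  exact allRangeF_sound _ _ (checkPointF_eq cert) 134300 25 chkP_134300 i (by omega) (by omega)
                · skip
                  exact allRangeF_sound _ _ (checkPointF_eq cert) 134325 25 chkP_134325 i (by omega) (by omega)
              · skip
                rcases Nat.lt_or_ge i 134375 with h8 | h8
                · skip
                  exact allRangeF_sound _ _ (checkPointF_eq cert) 134350 25 chkP_134350 i (by omega) (by omega)
                · skip
                  exact allRangeF_sound _ _ (checkPointF_eq cert) 134375 25 chkP_134375 i (by omega) (by omega)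
            · skip
              rcases Nat.lt_or_ge i 134450 with h7 | h7
              · skip
                rcases Nat.lt_or_ge i 134425 with h8 | h8
                · skip
                  exact allRangeF_sound _ _ (checkPointF_eq cert) 134400 25 chkP_134400 i (by omega) (by omega)
                · skip
                  exact allRangeF_sound _ _ (checkPointF_eq cert) 134425 25 chkP_134425 i (by omega) (by omega)
              · skip
                rcases Nat.lt_or_ge i 134475 with h8 | h8
                · skip
                  exact allRangeF_sound _ _ (checkPointF_eq cert) 134450 25 chkP_134450 i (by omega) (by omega)
                · skip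
                  rcases Nat.lt_or_ge i 134500 with h9 | h9
                  · skip
                    exact allRangeF_sound _ _ (checkPointF_eq cert) 134475 25 chkP_134475 i (by omega) (by omega)
                  · skip
                    exact allRangeF_sound _ _ (checkPointF_eq cert) 134500 25 chkP_134500 i (by omega) (by omega)
          · skip
            rcases Nat.lt_or_ge i 134650 with h6 | h6
            · skip
              rcases Nat.lt_or_ge i 134575 with h7 | h7
              · skip
                rcases Nat.lt_or_ge i 134550 with h8 | h8
                · skip
                  exact allRangeF_sound _ _ (checkPointF_eq cert) 134525 25 chkP_134525 i (by omega) (by omega)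
                · skip
                  exact allRangeF_sound _ _ (checkPointF_eq cert) 134550 25 chkP_134550 i (by omega) (by omega)
              · skip
                rcases Nat.lt_or_ge i 134600 with h8 | h8
                · skip
                  exact allRangeF_sound _ _ (checkPointF_eq cert) 134575 25 chkP_134575 i (by omega) (by omega)
                · skip
                  rcases Nat.lt_or_ge i 134625 with h9 | h9
                  · skip
                    exact allRangeF_sound _ _ (checkPointF_eq cert) 134600 25 chkP_134600 i (by omega) (by omega)
                  · skip
                    exact allRangeF_sound _ _ (checkPointF_eq cert) 134625 25 chkP_134625 i (by omega) (by omega)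
            · skip
              rcases Nat.lt_or_ge i 134700 with h7 | h7
              · skip
                rcases Nat.lt_or_ge i 134675 with h8 | h8
                · skip
                  exact allRangeF_sound _ _ (checkPointF_eq cert) 134650 25 chkP_134650 i (by omega) (by omega)
                · skip
                  exact allRangeF_sound _ _ (checkPointF_eq cert) 134675 25 chkP_134675 i (by omega) (by omega)
              · skip
                rcases Nat.lt_or_ge i 134725 with h8 | h8
                · skip
                  exact allRangeF_sound _ _ (checkPointF_eq cert) 134700 25 chkP_134700 i (by omega) (by omega)
                · skip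
                  rcases Nat.lt_or_ge i 134750 with h9 | h9
                  · skip
                    exact allRangeF_sound _ _ (checkPointF_eq cert) 134725 25 chkP_134725 i (by omega) (by omega)
                  · skip
                    exact allRangeF_sound _ _ (checkPointF_eq cert) 134750 25 chkP_134750 i (by omega) (by omega)
        · skip
          rcases Nat.lt_or_ge i 135000 with h5 | h5
          · skip
            rcases Nat.lt_or_ge i 134875 with h6 | h6
            · skip
              rcases Nat.lt_or_ge i 134825 with h7 | h7
              · skip
                rcases Nat.lt_or_ge i 134800 with h8 | h8
                · skip
                  exact allRangeF_sound _ _ (checkPointF_eq cert) 134775 25 chkP_134775 i (by omega) (by omega)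
                · skip
                  exact allRangeF_sound _ _ (checkPointF_eq cert) 134800 25 chkP_134800 i (by omega) (by omega)
              · skip
                rcases Nat.lt_or_ge i 134850 with h8 | h8
                · skip
                  exact allRangeF_sound _ _ (checkPointF_eq cert) 134825 25 chkP_134825 i (by omega) (by omega)
                · skip
                  exact allRangeF_sound _ _ (checkPointF_eq cert) 134850 25 chkP_134850 i (by omega) (by omega)
            · skip
              rcases Nat.lt_or_ge i 134925 with h7 | h7
              · skip
                rcases Nat.lt_or_ge i 134900 with h8 | h8
                · skip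
                  exact allRangeF_sound _ _ (checkPointF_eq cert) 134875 25 chkP_134875 i (by omega) (by omega)
                · skip
                  exact allRangeF_sound _ _ (checkPointF_eq cert) 134900 25 chkP_134900 i (by omega) (by omega)
              · skip
                rcases Nat.lt_or_ge i 134950 with h8 | h8
                · skip
                  exact allRangeF_sound _ _ (checkPointF_eq cert) 134925 25 chkP_134925 i (by omega) (by omega)
                · skip
                  rcases Nat.lt_or_ge i 134975 with h9 | h9
                  · skip
                    exact allRangeF_sound _ _ (checkPointF_eq cert) 134950 25 chkP_134950 i (by omega) (by omega)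
                  · skip
                    exact allRangeF_sound _ _ (checkPointF_eq cert) 134975 25 chkP_134975 i (by omega) (by omega)
          · skip
            rcases Nat.lt_or_ge i 135125 with h6 | h6
            · skip
              rcases Nat.lt_or_ge i 135050 with h7 | h7
              · skip
                rcases Nat.lt_or_ge i 135025 with h8 | h8
                · skip
                  exact allRangeF_sound _ _ (checkPointF_eq cert) 135000 25 chkP_135000 i (by omega) (by omega)
                · skip
                  exact allRangeF_sound _ _ (checkPointF_eq cert) 135025 25 chkP_135025 i (by omega) (by omega)
              · skip
                rcases Nat.lt_or_ge i 135075 with h8 | h8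
                · skip
                  exact allRangeF_sound _ _ (checkPointF_eq cert) 135050 25 chkP_135050 i (by omega) (by omega)
                · skip
                  rcases Nat.lt_or_ge i 135100 with h9 | h9
                  · skip
                    exact allRangeF_sound _ _ (checkPointF_eq cert) 135075 25 chkP_135075 i (by omega) (by omega)
                  · skip
                    exact allRangeF_sound _ _ (checkPointF_eq cert) 135100 25 chkP_135100 i (by omega) (by omega)
            · skip
              rcases Nat.lt_or_ge i 135175 with h7 | h7
              · skip
                rcases Nat.lt_or_ge i 135150 with h8 | h8
                · skip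
                  exact allRangeF_sound _ _ (checkPointF_eq cert) 135125 25 chkP_135125 i (by omega) (by omega)
                · skip
                  exact allRangeF_sound _ _ (checkPointF_eq cert) 135150 25 chkP_135150 i (by omega) (by omega)
              · skip
                rcases Nat.lt_or_ge i 135200 with h8 | h8
                · skip
                  exact allRangeF_sound _ _ (checkPointF_eq cert) 135175 25 chkP_135175 i (by omega) (by omega)
                · skip
                  rcases Nat.lt_or_ge i 135225 with h9 | h9
                  · skip
                    exact allRangeF_sound _ _ (checkPointF_eq cert) 135200 25 chkP_135200 i (by omega) (by omega)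
                  · skip
                    exact allRangeF_sound _ _ (checkPointF_eq cert) 135225 25 chkP_135225 i (by omega) (by omega)
      · skip
        rcases Nat.lt_or_ge i 135725 with h4 | h4
        · skip
          rcases Nat.lt_or_ge i 135475 with h5 | h5
          · skip
            rcases Nat.lt_or_ge i 135350 with h6 | h6
            · skip
              rcases Nat.lt_or_ge i 135300 with h7 | h7
              · skip
                rcases Nat.lt_or_ge i 135275 with h8 | h8
                · skip
                  exact allRangeF_sound _ _ (checkPointF_eq cert) 135250 25 chkP_135250 i (by omega) (by omega)
                · skip
                  exact allRangeF_sound _ _ (checkPointF_eq cert) 135275 25 chkP_135275 i (by omega) (by omega)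
              · skip
                rcases Nat.lt_or_ge i 135325 with h8 | h8
                · skip
                  exact allRangeF_sound _ _ (checkPointF_eq cert) 135300 25 chkP_135300 i (by omega) (by omega)
                · skip
                  exact allRangeF_sound _ _ (checkPointF_eq cert) 135325 25 chkP_135325 i (by omega) (by omega)
            · skip
              rcases Nat.lt_or_ge i 135400 with h7 | h7
              · skip
                rcases Nat.lt_or_ge i 135375 with h8 | h8
                · skip
                  exact allRangeF_sound _ _ (checkPointF_eq cert) 135350 25 chkP_135350 i (by omega) (by omega)
                · skip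
                  exact allRangeF_sound _ _ (checkPointF_eq cert) 135375 25 chkP_135375 i (by omega) (by omega)
              · skip
                rcases Nat.lt_or_ge i 135425 with h8 | h8
                · skip
                  exact allRangeF_sound _ _ (checkPointF_eq cert) 135400 25 chkP_135400 i (by omega) (by omega)
                · skip
                  rcases Nat.lt_or_ge i 135450 with h9 | h9
                  · skip
                    exact allRangeF_sound _ _ (checkPointF_eq cert) 135425 25 chkP_135425 i (by omega) (by omega)
                  · skip
                    exact allRangeF_sound _ _ (checkPointF_eq cert) 135450 25 chkP_135450 i (by omega) (by omega)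
          · skip
            rcases Nat.lt_or_ge i 135600 with h6 | h6
            · skip
              rcases Nat.lt_or_ge i 135525 with h7 | h7
              · skip
                rcases Nat.lt_or_ge i 135500 with h8 | h8
                · skip
                  exact allRangeF_sound _ _ (checkPointF_eq cert) 135475 25 chkP_135475 i (by omega) (by omega)
                · skip
                  exact allRangeF_sound _ _ (checkPointF_eq cert) 135500 25 chkP_135500 i (by omega) (by omega)
              · skip
                rcases Nat.lt_or_ge i 135550 with h8 | h8
                · skip
                  exact allRangeF_sound _ _ (checkPointF_eq cert) 135525 25 chkP_135525 i (by omega) (by omega)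
                · skip
                  rcases Nat.lt_or_ge i 135575 with h9 | h9
                  · skip
                    exact allRangeF_sound _ _ (checkPointF_eq cert) 135550 25 chkP_135550 i (by omega) (by omega)
                  · skip
                    exact allRangeF_sound _ _ (checkPointF_eq cert) 135575 25 chkP_135575 i (by omega) (by omega)
            · skip
              rcases Nat.lt_or_ge i 135650 with h7 | h7
              · skip
                rcases Nat.lt_or_ge i 135625 with h8 | h8
                · skip
                  exact allRangeF_sound _ _ (checkPointF_eq cert) 135600 25 chkP_135600 i (by omega) (by omega)
                · skip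
                  exact allRangeF_sound _ _ (checkPointF_eq cert) 135625 25 chkP_135625 i (by omega) (by omega)
              · skip
                rcases Nat.lt_or_ge i 135675 with h8 | h8
                · skip
                  exact allRangeF_sound _ _ (checkPointF_eq cert) 135650 25 chkP_135650 i (by omega) (by omega)
                · skip
                  rcases Nat.lt_or_ge i 135700 with h9 | h9
                  · skip
                    exact allRangeF_sound _ _ (checkPointF_eq cert) 135675 25 chkP_135675 i (by omega) (by omega)
                  · skip
                    exact allRangeF_sound _ _ (checkPointF_eq cert) 135700 25 chkP_135700 i (by omega) (by omega)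
        · skip
          rcases Nat.lt_or_ge i 135975 with h5 | h5
          · skip
            rcases Nat.lt_or_ge i 135850 with h6 | h6
            · skip
              rcases Nat.lt_or_ge i 135775 with h7 | h7
              · skip
                rcases Nat.lt_or_ge i 135750 with h8 | h8
                · skip
                  exact allRangeF_sound _ _ (checkPointF_eq cert) 135725 25 chkP_135725 i (by omega) (by omega)
                · skip
                  exact allRangeF_sound _ _ (checkPointF_eq cert) 135750 25 chkP_135750 i (by omega) (by omega)
              · skip
                rcases Nat.lt_or_ge i 135800 with h8 | h8
                · skip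
                  exact allRangeF_sound _ _ (checkPointF_eq cert) 135775 25 chkP_135775 i (by omega) (by omega)
                · skip
                  rcases Nat.lt_or_ge i 135825 with h9 | h9
                  · skip
                    exact allRangeF_sound _ _ (checkPointF_eq cert) 135800 25 chkP_135800 i (by omega) (by omega)
                  · skip
                    exact allRangeF_sound _ _ (checkPointF_eq cert) 135825 25 chkP_135825 i (by omega) (by omega)
            · skip
              rcases Nat.lt_or_ge i 135900 with h7 | h7
              · skip
                rcases Nat.lt_or_ge i 135875 with h8 | h8
                · skip
                  exact allRangeF_sound _ _ (checkPointF_eq cert) 135850 25 chkP_135850 i (by omega) (by omega)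
                · skip
                  exact allRangeF_sound _ _ (checkPointF_eq cert) 135875 25 chkP_135875 i (by omega) (by omega)
              · skip
                rcases Nat.lt_or_ge i 135925 with h8 | h8
                · skip
                  exact allRangeF_sound _ _ (checkPointF_eq cert) 135900 25 chkP_135900 i (by omega) (by omega)
                · skip
                  rcases Nat.lt_or_ge i 135950 with h9 | h9
                  · skip
                    exact allRangeF_sound _ _ (checkPointF_eq cert) 135925 25 chkP_135925 i (by omega) (by omega)
                  · skip
                    exact allRangeF_sound _ _ (checkPointF_eq cert) 135950 25 chkP_135950 i (by omega) (by omega)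
          · skip
            rcases Nat.lt_or_ge i 136100 with h6 | h6
            · skip
              rcases Nat.lt_or_ge i 136025 with h7 | h7
              · skip
                rcases Nat.lt_or_ge i 136000 with h8 | h8
                · skip
                  exact allRangeF_sound _ _ (checkPointF_eq cert) 135975 25 chkP_135975 i (by omega) (by omega)
                · skip
                  exact allRangeF_sound _ _ (checkPointF_eq cert) 136000 25 chkP_136000 i (by omega) (by omega)
              · skip
                rcases Nat.lt_or_ge i 136050 with h8 | h8
                · skip
                  exact allRangeF_sound _ _ (checkPointF_eq cert) 136025 25 chkP_136025 i (by omega) (by omega)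
                · skip
                  rcases Nat.lt_or_ge i 136075 with h9 | h9
                  · skip
                    exact allRangeF_sound _ _ (checkPointF_eq cert) 136050 25 chkP_136050 i (by omega) (by omega)
                  · skip
                    exact allRangeF_sound _ _ (checkPointF_eq cert) 136075 25 chkP_136075 i (by omega) (by omega)
            · skip
              rcases Nat.lt_or_ge i 136150 with h7 | h7
              · skip
                rcases Nat.lt_or_ge i 136125 with h8 | h8
                · skip
                  exact allRangeF_sound _ _ (checkPointF_eq cert) 136100 25 chkP_136100 i (by omega) (by omega)
                · skip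
                  exact allRangeF_sound _ _ (checkPointF_eq cert) 136125 25 chkP_136125 i (by omega) (by omega)
              · skip
                rcases Nat.lt_or_ge i 136175 with h8 | h8
                · skip
                  exact allRangeF_sound _ _ (checkPointF_eq cert) 136150 25 chkP_136150 i (by omega) (by omega)
                · skip
                  rcases Nat.lt_or_ge i 136200 with h9 | h9
                  · skip
                    exact allRangeF_sound _ _ (checkPointF_eq cert) 136175 25 chkP_136175 i (by omega) (by omega)
                  · skip
                    exact allRangeF_sound _ _ (checkPointF_eq cert) 136200 25 chkP_136200 i (by omega) (by omega)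
    · skip
      rcases Nat.lt_or_ge i 137175 with h3 | h3
      · skip
        rcases Nat.lt_or_ge i 136700 with h4 | h4
        · skip
          rcases Nat.lt_or_ge i 136450 with h5 | h5
          · skip
            rcases Nat.lt_or_ge i 136325 with h6 | h6
            · skip
              rcases Nat.lt_or_ge i 136275 with h7 | h7
              · skip
                rcases Nat.lt_or_ge i 136250 with h8 | h8
                · skip
                  exact allRangeF_sound _ _ (checkPointF_eq cert) 136225 25 chkP_136225 i (by omega) (by omega)
                · skip
                  exact allRangeF_sound _ _ (checkPointF_eq cert) 136250 25 chkP_136250 i (by omega) (by omega)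
              · skip
                rcases Nat.lt_or_ge i 136300 with h8 | h8
                · skip
                  exact allRangeF_sound _ _ (checkPointF_eq cert) 136275 25 chkP_136275 i (by omega) (by omega)
                · skip
                  exact allRangeF_sound _ _ (checkPointF_eq cert) 136300 25 chkP_136300 i (by omega) (by omega)
            · skip
              rcases Nat.lt_or_ge i 136375 with h7 | h7
              · skip
                rcases Nat.lt_or_ge i 136350 with h8 | h8
                · skip
                  exact allRangeF_sound _ _ (checkPointF_eq cert) 136325 25 chkP_136325 i (by omega) (by omega)
                · skip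
                  exact allRangeF_sound _ _ (checkPointF_eq cert) 136350 25 chkP_136350 i (by omega) (by omega)
              · skip
                rcases Nat.lt_or_ge i 136400 with h8 | h8
                · skip
                  exact allRangeF_sound _ _ (checkPointF_eq cert) 136375 25 chkP_136375 i (by omega) (by omega)
                · skip
                  rcases Nat.lt_or_ge i 136425 with h9 | h9
                  · skip
                    exact allRangeF_sound _ _ (checkPointF_eq cert) 136400 25 chkP_136400 i (by omega) (by omega)
                  · skip
                    exact allRangeF_sound _ _ (checkPointF_eq cert) 136425 25 chkP_136425 i (by omega) (by omega)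
          · skip
            rcases Nat.lt_or_ge i 136575 with h6 | h6
            · skip
              rcases Nat.lt_or_ge i 136500 with h7 | h7
              · skip
                rcases Nat.lt_or_ge i 136475 with h8 | h8
                · skip
                  exact allRangeF_sound _ _ (checkPointF_eq cert) 136450 25 chkP_136450 i (by omega) (by omega)
                · skip
                  exact allRangeF_sound _ _ (checkPointF_eq cert) 136475 25 chkP_136475 i (by omega) (by omega)
              · skip
                rcases Nat.lt_or_ge i 136525 with h8 | h8
                · skip
                  exact allRangeF_sound _ _ (checkPointF_eq cert) 136500 25 chkP_136500 i (by omega) (by omega)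
                · skip
                  rcases Nat.lt_or_ge i 136550 with h9 | h9
                  · skip
                    exact allRangeF_sound _ _ (checkPointF_eq cert) 136525 25 chkP_136525 i (by omega) (by omega)
                  · skip
                    exact allRangeF_sound _ _ (checkPointF_eq cert) 136550 25 chkP_136550 i (by omega) (by omega)
            · skip
              rcases Nat.lt_or_ge i 136625 with h7 | h7
              · skip
                rcases Nat.lt_or_ge i 136600 with h8 | h8
                · skip
                  exact allRangeF_sound _ _ (checkPointF_eq cert) 136575 25 chkP_136575 i (by omega) (by omega)
                · skip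
                  exact allRangeF_sound _ _ (checkPointF_eq cert) 136600 25 chkP_136600 i (by omega) (by omega)
              · skip
                rcases Nat.lt_or_ge i 136650 with h8 | h8
                · skip
                  exact allRangeF_sound _ _ (checkPointF_eq cert) 136625 25 chkP_136625 i (by omega) (by omega)
                · skip
                  rcases Nat.lt_or_ge i 136675 with h9 | h9
                  · skip
                    exact allRangeF_sound _ _ (checkPointF_eq cert) 136650 25 chkP_136650 i (by omega) (by omega)
                  · skip
                    exact allRangeF_sound _ _ (checkPointF_eq cert) 136675 25 chkP_136675 i (by omega) (by omega)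
        · skip
          rcases Nat.lt_or_ge i 136925 with h5 | h5
          · skip
            rcases Nat.lt_or_ge i 136800 with h6 | h6
            · skip
              rcases Nat.lt_or_ge i 136750 with h7 | h7
              · skip
                rcases Nat.lt_or_ge i 136725 with h8 | h8
                · skip
                  exact allRangeF_sound _ _ (checkPointF_eq cert) 136700 25 chkP_136700 i (by omega) (by omega)
                · skip
                  exact allRangeF_sound _ _ (checkPointF_eq cert) 136725 25 chkP_136725 i (by omega) (by omega)
              · skip
                rcases Nat.lt_or_ge i 136775 with h8 | h8
                · skip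
                  exact allRangeF_sound _ _ (checkPointF_eq cert) 136750 25 chkP_136750 i (by omega) (by omega)
                · skip
                  exact allRangeF_sound _ _ (checkPointF_eq cert) 136775 25 chkP_136775 i (by omega) (by omega)
            · skip
              rcases Nat.lt_or_ge i 136850 with h7 | h7
              · skip
                rcases Nat.lt_or_ge i 136825 with h8 | h8
                · skip
                  exact allRangeF_sound _ _ (checkPointF_eq cert) 136800 25 chkP_136800 i (by omega) (by omega)
                · skip
                  exact allRangeF_sound _ _ (checkPointF_eq cert) 136825 25 chkP_136825 i (by omega) (by omega)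
              · skip
                rcases Nat.lt_or_ge i 136875 with h8 | h8
                · skip
                  exact allRangeF_sound _ _ (checkPointF_eq cert) 136850 25 chkP_136850 i (by omega) (by omega)
                · skip
                  rcases Nat.lt_or_ge i 136900 with h9 | h9
                  · skip
                    exact allRangeF_sound _ _ (checkPointF_eq cert) 136875 25 chkP_136875 i (by omega) (by omega)
                  · skip
                    exact allRangeF_sound _ _ (checkPointF_eq cert) 136900 25 chkP_136900 i (by omega) (by omega)
          · skip
            rcases Nat.lt_or_ge i 137050 with h6 | h6
            · skip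
              rcases Nat.lt_or_ge i 136975 with h7 | h7
              · skip
                rcases Nat.lt_or_ge i 136950 with h8 | h8
                · skip
                  exact allRangeF_sound _ _ (checkPointF_eq cert) 136925 25 chkP_136925 i (by omega) (by omega)
                · skip
                  exact allRangeF_sound _ _ (checkPointF_eq cert) 136950 25 chkP_136950 i (by omega) (by omega)
              · skip
                rcases Nat.lt_or_ge i 137000 with h8 | h8
                · skip
                  exact allRangeF_sound _ _ (checkPointF_eq cert) 136975 25 chkP_136975 i (by omega) (by omega)
                · skip
                  rcases Nat.lt_or_ge i 137025 with h9 | h9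
                  · skip
                    exact allRangeF_sound _ _ (checkPointF_eq cert) 137000 25 chkP_137000 i (by omega) (by omega)
                  · skip
                    exact allRangeF_sound _ _ (checkPointF_eq cert) 137025 25 chkP_137025 i (by omega) (by omega)
            · skip
              rcases Nat.lt_or_ge i 137100 with h7 | h7
              · skip
                rcases Nat.lt_or_ge i 137075 with h8 | h8
                · skip
                  exact allRangeF_sound _ _ (checkPointF_eq cert) 137050 25 chkP_137050 i (by omega) (by omega)
                · skip
                  exact allRangeF_sound _ _ (checkPointF_eq cert) 137075 25 chkP_137075 i (by omega) (by omega)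
              · skip
                rcases Nat.lt_or_ge i 137125 with h8 | h8
                · skip
                  exact allRangeF_sound _ _ (checkPointF_eq cert) 137100 25 chkP_137100 i (by omega) (by omega)
                · skip
                  rcases Nat.lt_or_ge i 137150 with h9 | h9
                  · skip
                    exact allRangeF_sound _ _ (checkPointF_eq cert) 137125 25 chkP_137125 i (by omega) (by omega)
                  · skip
                    exact allRangeF_sound _ _ (checkPointF_eq cert) 137150 25 chkP_137150 i (by omega) (by omega)
      · skip
        rcases Nat.lt_or_ge i 137650 with h4 | h4
        · skip
          rcases Nat.lt_or_ge i 137400 with h5 | h5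
          · skip
            rcases Nat.lt_or_ge i 137275 with h6 | h6
            · skip
              rcases Nat.lt_or_ge i 137225 with h7 | h7
              · skip
                rcases Nat.lt_or_ge i 137200 with h8 | h8
                · skip
                  exact allRangeF_sound _ _ (checkPointF_eq cert) 137175 25 chkP_137175 i (by omega) (by omega)
                · skip
                  exact allRangeF_sound _ _ (checkPointF_eq cert) 137200 25 chkP_137200 i (by omega) (by omega)
              · skip
                rcases Nat.lt_or_ge i 137250 with h8 | h8
                · skip
                  exact allRangeF_sound _ _ (checkPointF_eq cert) 137225 25 chkP_137225 i (by omega) (by omega)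
                · skip
                  exact allRangeF_sound _ _ (checkPointF_eq cert) 137250 25 chkP_137250 i (by omega) (by omega)
            · skip
              rcases Nat.lt_or_ge i 137325 with h7 | h7
              · skip
                rcases Nat.lt_or_ge i 137300 with h8 | h8
                · skip
                  exact allRangeF_sound _ _ (checkPointF_eq cert) 137275 25 chkP_137275 i (by omega) (by omega)
                · skip
                  exact allRangeF_sound _ _ (checkPointF_eq cert) 137300 25 chkP_137300 i (by omega) (by omega)
              · skip
                rcases Nat.lt_or_ge i 137350 with h8 | h8
                · skip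
                  exact allRangeF_sound _ _ (checkPointF_eq cert) 137325 25 chkP_137325 i (by omega) (by omega)
                · skip
                  rcases Nat.lt_or_ge i 137375 with h9 | h9
                  · skip
                    exact allRangeF_sound _ _ (checkPointF_eq cert) 137350 25 chkP_137350 i (by omega) (by omega)
                  · skip
                    exact allRangeF_sound _ _ (checkPointF_eq cert) 137375 25 chkP_137375 i (by omega) (by omega)
          · skip
            rcases Nat.lt_or_ge i 137525 with h6 | h6
            · skip
              rcases Nat.lt_or_ge i 137450 with h7 | h7
              · skip
                rcases Nat.lt_or_ge i 137425 with h8 | h8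
                · skip
                  exact allRangeF_sound _ _ (checkPointF_eq cert) 137400 25 chkP_137400 i (by omega) (by omega)
                · skip
                  exact allRangeF_sound _ _ (checkPointF_eq cert) 137425 25 chkP_137425 i (by omega) (by omega)
              · skip
                rcases Nat.lt_or_ge i 137475 with h8 | h8
                · skip
                  exact allRangeF_sound _ _ (checkPointF_eq cert) 137450 25 chkP_137450 i (by omega) (by omega)
                · skip
                  rcases Nat.lt_or_ge i 137500 with h9 | h9
                  · skip
                    exact allRangeF_sound _ _ (checkPointF_eq cert) 137475 25 chkP_137475 i (by omega) (by omega)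
                  · skip
                    exact allRangeF_sound _ _ (checkPointF_eq cert) 137500 25 chkP_137500 i (by omega) (by omega)
            · skip
              rcases Nat.lt_or_ge i 137575 with h7 | h7
              · skip
                rcases Nat.lt_or_ge i 137550 with h8 | h8
                · skip
                  exact allRangeF_sound _ _ (checkPointF_eq cert) 137525 25 chkP_137525 i (by omega) (by omega)
                · skip
                  exact allRangeF_sound _ _ (checkPointF_eq cert) 137550 25 chkP_137550 i (by omega) (by omega)
              · skip
                rcases Nat.lt_or_ge i 137600 with h8 | h8
                · skip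
                  exact allRangeF_sound _ _ (checkPointF_eq cert) 137575 25 chkP_137575 i (by omega) (by omega)
                · skip
                  rcases Nat.lt_or_ge i 137625 with h9 | h9
                  · skip
                    exact allRangeF_sound _ _ (checkPointF_eq cert) 137600 25 chkP_137600 i (by omega) (by omega)
                  · skip
                    exact allRangeF_sound _ _ (checkPointF_eq cert) 137625 25 chkP_137625 i (by omega) (by omega)
        · skip
          rcases Nat.lt_or_ge i 137900 with h5 | h5
          · skip
            rcases Nat.lt_or_ge i 137775 with h6 | h6
            · skip
              rcases Nat.lt_or_ge i 137700 with h7 | h7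
              · skip
                rcases Nat.lt_or_ge i 137675 with h8 | h8
                · skip
                  exact allRangeF_sound _ _ (checkPointF_eq cert) 137650 25 chkP_137650 i (by omega) (by omega)
                · skip
                  exact allRangeF_sound _ _ (checkPointF_eq cert) 137675 25 chkP_137675 i (by omega) (by omega)
              · skip
                rcases Nat.lt_or_ge i 137725 with h8 | h8
                · skip
                  exact allRangeF_sound _ _ (checkPointF_eq cert) 137700 25 chkP_137700 i (by omega) (by omega)
                · skip
                  rcases Nat.lt_or_ge i 137750 with h9 | h9
                  · skip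
                    exact allRangeF_sound _ _ (checkPointF_eq cert) 137725 25 chkP_137725 i (by omega) (by omega)
                  · skip
                    exact allRangeF_sound _ _ (checkPointF_eq cert) 137750 25 chkP_137750 i (by omega) (by omega)
            · skip
              rcases Nat.lt_or_ge i 137825 with h7 | h7
              · skip
                rcases Nat.lt_or_ge i 137800 with h8 | h8
                · skip
                  exact allRangeF_sound _ _ (checkPointF_eq cert) 137775 25 chkP_137775 i (by omega) (by omega)
                · skip
                  exact allRangeF_sound _ _ (checkPointF_eq cert) 137800 25 chkP_137800 i (by omega) (by omega)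
              · skip
                rcases Nat.lt_or_ge i 137850 with h8 | h8
                · skip
                  exact allRangeF_sound _ _ (checkPointF_eq cert) 137825 25 chkP_137825 i (by omega) (by omega)
                · skip
                  rcases Nat.lt_or_ge i 137875 with h9 | h9
                  · skip
                    exact allRangeF_sound _ _ (checkPointF_eq cert) 137850 25 chkP_137850 i (by omega) (by omega)
                  · skip
                    exact allRangeF_sound _ _ (checkPointF_eq cert) 137875 25 chkP_137875 i (by omega) (by omega)
          · skip
            rcases Nat.lt_or_ge i 138025 with h6 | h6
            · skip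
              rcases Nat.lt_or_ge i 137950 with h7 | h7
              · skip
                rcases Nat.lt_or_ge i 137925 with h8 | h8
                · skip
                  exact allRangeF_sound _ _ (checkPointF_eq cert) 137900 25 chkP_137900 i (by omega) (by omega)
                · skip
                  exact allRangeF_sound _ _ (checkPointF_eq cert) 137925 25 chkP_137925 i (by omega) (by omega)
              · skip
                rcases Nat.lt_or_ge i 137975 with h8 | h8
                · skip
                  exact allRangeF_sound _ _ (checkPointF_eq cert) 137950 25 chkP_137950 i (by omega) (by omega)
                · skip
                  rcases Nat.lt_or_ge i 138000 with h9 | h9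
                  · skip
                    exact allRangeF_sound _ _ (checkPointF_eq cert) 137975 25 chkP_137975 i (by omega) (by omega)
                  · skip
                    exact allRangeF_sound _ _ (checkPointF_eq cert) 138000 25 chkP_138000 i (by omega) (by omega)
            · skip
              rcases Nat.lt_or_ge i 138075 with h7 | h7
              · skip
                rcases Nat.lt_or_ge i 138050 with h8 | h8
                · skip
                  exact allRangeF_sound _ _ (checkPointF_eq cert) 138025 25 chkP_138025 i (by omega) (by omega)
                · skip
                  exact allRangeF_sound _ _ (checkPointF_eq cert) 138050 25 chkP_138050 i (by omega) (by omega)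
              · skip
                rcases Nat.lt_or_ge i 138100 with h8 | h8
                · skip
                  exact allRangeF_sound _ _ (checkPointF_eq cert) 138075 25 chkP_138075 i (by omega) (by omega)
                · skip
                  rcases Nat.lt_or_ge i 138125 with h9 | h9
                  · skip
                    exact allRangeF_sound _ _ (checkPointF_eq cert) 138100 25 chkP_138100 i (by omega) (by omega)
                  · skip
                    exact allRangeF_sound _ _ (checkPointF_eq cert) 138125 25 chkP_138125 i (by omega) (by omega)

end Cfsg.Agent.Lib.Helper28.Fi24Data
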