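import Cfsg.Agent.Lib.Helper28.Fi24Data
import Cfsg.Agent.Lib.Helper28.TCFastB

set_option autoImplicit false
set_option maxRecDepth 1000000
set_option linter.all false
set_option Elab.async false

namespace Cfsg.Agent.Lib.Helper28.Fi24Data

open Cfsg.Agent.Lib.Helper28B

theorem chkP_138150 : allRangeF (checkPointF cert) (nat_lit 138150) (nat_lit 25) = true := by decide +kernel
theorem chkP_138175 : allRangeF (checkPointF cert) (nat_lit 138175) (nat_lit 25) = true := by decide +kernel
theorem chkP_138200 : allRangeF (checkPointF cert) (nat_lit 138200) (nat_lit 25) = true := by decide +kernel
theorem chkP_138225 : allRangeF (checkPointF cert) (nat_lit 138225) (nat_lit 25) = true := by decide +kernel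
theorem chkP_138250 : allRangeF (checkPointF cert) (nat_lit 138250) (nat_lit 25) = true := by decide +kernel
theorem chkP_138275 : allRangeF (checkPointF cert) (nat_lit 138275) (nat_lit 25) = true := by decide +kernel
theorem chkP_138300 : allRangeF (checkPointF cert) (nat_lit 138300) (nat_lit 25) = true := by decide +kernel
theorem chkP_138325 : allRangeF (checkPointF cert) (nat_lit 138325) (nat_lit 25) = true := by decide +kernel
theorem chkP_138350 : allRangeF (checkPointF cert) (nat_lit 138350) (nat_lit 25) = true := by decide +kernel
theorem chkP_138375 : allRangeF (checkPointF cert) (nat_lit 138375) (nat_lit 25) = true := by decide +kernel
theorem chkP_138400 : allRangeF (checkPointF cert) (nat_lit 138400) (nat_lit 25) = true := by decide +kernel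
theorem chkP_138425 : allRangeF (checkPointF cert) (nat_lit 138425) (nat_lit 25) = true := by decide +kernel
theorem chkP_138450 : allRangeF (checkPointF cert) (nat_lit 138450) (nat_lit 25) = true := by decide +kernel
theorem chkP_138475 : allRangeF (checkPointF cert) (nat_lit 138475) (nat_lit 25) = true := by decide +kernel
theorem chkP_138500 : allRangeF (checkPointF cert) (nat_lit 138500) (nat_lit 25) = true := by decide +kernel
theorem chkP_138525 : allRangeF (checkPointF cert) (nat_lit 138525) (nat_lit 25) = true := by decide +kernel
theorem chkP_138550 : allRangeF (checkPointF cert) (nat_lit 138550) (nat_lit 25) = true := by decide +kernel
theorem chkP_138575 : allRangeF (checkPointF cert) (nat_lit 138575) (nat_lit 25) = true := by decide +kernel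
theorem chkP_138600 : allRangeF (checkPointF cert) (nat_lit 138600) (nat_lit 25) = true := by decide +kernel
theorem chkP_138625 : allRangeF (checkPointF cert) (nat_lit 138625) (nat_lit 25) = true := by decide +kernel
theorem chkP_138650 : allRangeF (checkPointF cert) (nat_lit 138650) (nat_lit 25) = true := by decide +kernel
theorem chkP_138675 : allRangeF (checkPointF cert) (nat_lit 138675) (nat_lit 25) = true := by decide +kernel
theorem chkP_138700 : allRangeF (checkPointF cert) (nat_lit 138700) (nat_lit 25) = true := by decide +kernel
theorem chkP_138725 : allRangeF (checkPointF cert) (nat_lit 138725) (nat_lit 25) = true := by decide +kernel
theorem chkP_138750 : allRangeF (checkPointF cert) (nat_lit 138750) (nat_lit 25) = true := by decide +kernel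
theorem chkP_138775 : allRangeF (checkPointF cert) (nat_lit 138775) (nat_lit 25) = true := by decide +kernel
theorem chkP_138800 : allRangeF (checkPointF cert) (nat_lit 138800) (nat_lit 25) = true := by decide +kernel
theorem chkP_138825 : allRangeF (checkPointF cert) (nat_lit 138825) (nat_lit 25) = true := by decide +kernel
theorem chkP_138850 : allRangeF (checkPointF cert) (nat_lit 138850) (nat_lit 25) = true := by decide +kernel
theorem chkP_138875 : allRangeF (checkPointF cert) (nat_lit 138875) (nat_lit 25) = true := by decide +kernel
theorem chkP_138900 : allRangeF (checkPointF cert) (nat_lit 138900) (nat_lit 25) = true := by decide +kernel
theorem chkP_138925 : allRangeF (checkPointF cert) (nat_lit 138925) (nat_lit 25) = true := by decide +kernel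
theorem chkP_138950 : allRangeF (checkPointF cert) (nat_lit 138950) (nat_lit 25) = true := by decide +kernel
theorem chkP_138975 : allRangeF (checkPointF cert) (nat_lit 138975) (nat_lit 25) = true := by decide +kernel
theorem chkP_139000 : allRangeF (checkPointF cert) (nat_lit 139000) (nat_lit 25) = true := by decide +kernel
theorem chkP_139025 : allRangeF (checkPointF cert) (nat_lit 139025) (nat_lit 25) = true := by decide +kernel
theorem chkP_139050 : allRangeF (checkPointF cert) (nat_lit 139050) (nat_lit 25) = true := by decide +kernel
theorem chkP_139075 : allRangeF (checkPointF cert) (nat_lit 139075) (nat_lit 25) = true := by decide +kernel
theorem chkP_139100 : allRangeF (checkPointF cert) (nat_lit 139100) (nat_lit 25) = true := by decide +kernel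
theorem chkP_139125 : allRangeF (checkPointF cert) (nat_lit 139125) (nat_lit 25) = true := by decide +kernel
theorem chkP_139150 : allRangeF (checkPointF cert) (nat_lit 139150) (nat_lit 25) = true := by decide +kernel
theorem chkP_139175 : allRangeF (checkPointF cert) (nat_lit 139175) (nat_lit 25) = true := by decide +kernel
theorem chkP_139200 : allRangeF (checkPointF cert) (nat_lit 139200) (nat_lit 25) = true := by decide +kernel
theorem chkP_139225 : allRangeF (checkPointF cert) (nat_lit 139225) (nat_lit 25) = true := by decide +kernel
theorem chkP_139250 : allRangeF (checkPointF cert) (nat_lit 139250) (nat_lit 25) = true := by decide +kernel
theorem chkP_139275 : allRangeF (checkPointF cert) (nat_lit 139275) (nat_lit 25) = true := by decide +kernel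
theorem chkP_139300 : allRangeF (checkPointF cert) (nat_lit 139300) (nat_lit 25) = true := by decide +kernel
theorem chkP_139325 : allRangeF (checkPointF cert) (nat_lit 139325) (nat_lit 25) = true := by decide +kernel
theorem chkP_139350 : allRangeF (checkPointF cert) (nat_lit 139350) (nat_lit 25) = true := by decide +kernel
theorem chkP_139375 : allRangeF (checkPointF cert) (nat_lit 139375) (nat_lit 25) = true := by decide +kernel
theorem chkP_139400 : allRangeF (checkPointF cert) (nat_lit 139400) (nat_lit 25) = true := by decide +kernel
theorem chkP_139425 : allRangeF (checkPointF cert) (nat_lit 139425) (nat_lit 25) = true := by decide +kernel
theorem chkP_139450 : allRangeF (checkPointF cert) (nat_lit 139450) (nat_lit 25) = true := by decide +kernel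
theorem chkP_139475 : allRangeF (checkPointF cert) (nat_lit 139475) (nat_lit 25) = true := by decide +kernel
theorem chkP_139500 : allRangeF (checkPointF cert) (nat_lit 139500) (nat_lit 25) = true := by decide +kernel
theorem chkP_139525 : allRangeF (checkPointF cert) (nat_lit 139525) (nat_lit 25) = true := by decide +kernel
theorem chkP_139550 : allRangeF (checkPointF cert) (nat_lit 139550) (nat_lit 25) = true := by decide +kernel
theorem chkP_139575 : allRangeF (checkPointF cert) (nat_lit 139575) (nat_lit 25) = true := by decide +kernel
theorem chkP_139600 : allRangeF (checkPointF cert) (nat_lit 139600) (nat_lit 25) = true := by decide +kernel
theorem chkP_139625 : allRangeF (checkPointF cert) (nat_lit 139625) (nat_lit 25) = true := by decide +kernel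
theorem chkP_139650 : allRangeF (checkPointF cert) (nat_lit 139650) (nat_lit 25) = true := by decide +kernel
theorem chkP_139675 : allRangeF (checkPointF cert) (nat_lit 139675) (nat_lit 25) = true := by decide +kernel
theorem chkP_139700 : allRangeF (checkPointF cert) (nat_lit 139700) (nat_lit 25) = true := by decide +kernel
theorem chkP_139725 : allRangeF (checkPointF cert) (nat_lit 139725) (nat_lit 25) = true := by decide +kernel
theorem chkP_139750 : allRangeF (checkPointF cert) (nat_lit 139750) (nat_lit 25) = true := by decide +kernel
theorem chkP_139775 : allRangeF (checkPointF cert) (nat_lit 139775) (nat_lit 25) = true := by decide +kernel
theorem chkP_139800 : allRangeF (checkPointF cert) (nat_lit 139800) (nat_lit 25) = true := by decide +kernel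
theorem chkP_139825 : allRangeF (checkPointF cert) (nat_lit 139825) (nat_lit 25) = true := by decide +kernel
theorem chkP_139850 : allRangeF (checkPointF cert) (nat_lit 139850) (nat_lit 25) = true := by decide +kernel
theorem chkP_139875 : allRangeF (checkPointF cert) (nat_lit 139875) (nat_lit 25) = true := by decide +kernel
theorem chkP_139900 : allRangeF (checkPointF cert) (nat_lit 139900) (nat_lit 25) = true := by decide +kernel
theorem chkP_139925 : allRangeF (checkPointF cert) (nat_lit 139925) (nat_lit 25) = true := by decide +kernel
theorem chkP_139950 : allRangeF (checkPointF cert) (nat_lit 139950) (nat_lit 25) = true := by decide +kernel
theorem chkP_139975 : allRangeF (checkPointF cert) (nat_lit 139975) (nat_lit 25) = true := by decide +kernel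
theorem chkP_140000 : allRangeF (checkPointF cert) (nat_lit 140000) (nat_lit 25) = true := by decide +kernel
theorem chkP_140025 : allRangeF (checkPointF cert) (nat_lit 140025) (nat_lit 25) = true := by decide +kernel
theorem chkP_140050 : allRangeF (checkPointF cert) (nat_lit 140050) (nat_lit 25) = true := by decide +kernel
theorem chkP_140075 : allRangeF (checkPointF cert) (nat_lit 140075) (nat_lit 25) = true := by decide +kernel
theorem chkP_140100 : allRangeF (checkPointF cert) (nat_lit 140100) (nat_lit 25) = true := by decide +kernel
theorem chkP_140125 : allRangeF (checkPointF cert) (nat_lit 140125) (nat_lit 25) = true := by decide +kernel
theorem chkP_140150 : allRangeF (checkPointF cert) (nat_lit 140150) (nat_lit 25) = true := by decide +kernel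
theorem chkP_140175 : allRangeF (checkPointF cert) (nat_lit 140175) (nat_lit 25) = true := by decide +kernel
theorem chkP_140200 : allRangeF (checkPointF cert) (nat_lit 140200) (nat_lit 25) = true := by decide +kernel
theorem chkP_140225 : allRangeF (checkPointF cert) (nat_lit 140225) (nat_lit 25) = true := by decide +kernel
theorem chkP_140250 : allRangeF (checkPointF cert) (nat_lit 140250) (nat_lit 25) = true := by decide +kernel
theorem chkP_140275 : allRangeF (checkPointF cert) (nat_lit 140275) (nat_lit 25) = true := by decide +kernel
theorem chkP_140300 : allRangeF (checkPointF cert) (nat_lit 140300) (nat_lit 25) = true := by decide +kernel
theorem chkP_140325 : allRangeF (checkPointF cert) (nat_lit 140325) (nat_lit 25) = true := by decide +kernel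
theorem chkP_140350 : allRangeF (checkPointF cert) (nat_lit 140350) (nat_lit 25) = true := by decide +kernel
theorem chkP_140375 : allRangeF (checkPointF cert) (nat_lit 140375) (nat_lit 25) = true := by decide +kernel
theorem chkP_140400 : allRangeF (checkPointF cert) (nat_lit 140400) (nat_lit 25) = true := by decide +kernel
theorem chkP_140425 : allRangeF (checkPointF cert) (nat_lit 140425) (nat_lit 25) = true := by decide +kernel
theorem chkP_140450 : allRangeF (checkPointF cert) (nat_lit 140450) (nat_lit 25) = true := by decide +kernel
theorem chkP_140475 : allRangeF (checkPointF cert) (nat_lit 140475) (nat_lit 25) = true := by decide +kernel
theorem chkP_140500 : allRangeF (checkPointF cert) (nat_lit 140500) (nat_lit 25) = true := by decide +kernel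
theorem chkP_140525 : allRangeF (checkPointF cert) (nat_lit 140525) (nat_lit 25) = true := by decide +kernel
theorem chkP_140550 : allRangeF (checkPointF cert) (nat_lit 140550) (nat_lit 25) = true := by decide +kernel
theorem chkP_140575 : allRangeF (checkPointF cert) (nat_lit 140575) (nat_lit 25) = true := by decide +kernel
theorem chkP_140600 : allRangeF (checkPointF cert) (nat_lit 140600) (nat_lit 25) = true := by decide +kernel
theorem chkP_140625 : allRangeF (checkPointF cert) (nat_lit 140625) (nat_lit 25) = true := by decide +kernel
theorem chkP_140650 : allRangeF (checkPointF cert) (nat_lit 140650) (nat_lit 25) = true := by decide +kernel
theorem chkP_140675 : allRangeF (checkPointF cert) (nat_lit 140675) (nat_lit 25) = true := by decide +kernel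
theorem chkP_140700 : allRangeF (checkPointF cert) (nat_lit 140700) (nat_lit 25) = true := by decide +kernel
theorem chkP_140725 : allRangeF (checkPointF cert) (nat_lit 140725) (nat_lit 25) = true := by decide +kernel
theorem chkP_140750 : allRangeF (checkPointF cert) (nat_lit 140750) (nat_lit 25) = true := by decide +kernel
theorem chkP_140775 : allRangeF (checkPointF cert) (nat_lit 140775) (nat_lit 25) = true := by decide +kernel
theorem chkP_140800 : allRangeF (checkPointF cert) (nat_lit 140800) (nat_lit 25) = true := by decide +kernel
theorem chkP_140825 : allRangeF (checkPointF cert) (nat_lit 140825) (nat_lit 25) = true := by decide +kernel
theorem chkP_140850 : allRangeF (checkPointF cert) (nat_lit 140850) (nat_lit 25) = true := by decide +kernel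
theorem chkP_140875 : allRangeF (checkPointF cert) (nat_lit 140875) (nat_lit 25) = true := by decide +kernel
theorem chkP_140900 : allRangeF (checkPointF cert) (nat_lit 140900) (nat_lit 25) = true := by decide +kernel
theorem chkP_140925 : allRangeF (checkPointF cert) (nat_lit 140925) (nat_lit 25) = true := by decide +kernel
theorem chkP_140950 : allRangeF (checkPointF cert) (nat_lit 140950) (nat_lit 25) = true := by decide +kernel
theorem chkP_140975 : allRangeF (checkPointF cert) (nat_lit 140975) (nat_lit 25) = true := by decide +kernel
theorem chkP_141000 : allRangeF (checkPointF cert) (nat_lit 141000) (nat_lit 25) = true := by decide +kernel
theorem chkP_141025 : allRangeF (checkPointF cert) (nat_lit 141025) (nat_lit 25) = true := by decide +kernel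
theorem chkP_141050 : allRangeF (checkPointF cert) (nat_lit 141050) (nat_lit 25) = true := by decide +kernel
theorem chkP_141075 : allRangeF (checkPointF cert) (nat_lit 141075) (nat_lit 25) = true := by decide +kernel
theorem chkP_141100 : allRangeF (checkPointF cert) (nat_lit 141100) (nat_lit 25) = true := by decide +kernel
theorem chkP_141125 : allRangeF (checkPointF cert) (nat_lit 141125) (nat_lit 25) = true := by decide +kernel
theorem chkP_141150 : allRangeF (checkPointF cert) (nat_lit 141150) (nat_lit 25) = true := by decide +kernel
theorem chkP_141175 : allRangeF (checkPointF cert) (nat_lit 141175) (nat_lit 25) = true := by decide +kernel
theorem chkP_141200 : allRangeF (checkPointF cert) (nat_lit 141200) (nat_lit 25) = true := by decide +kernel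
theorem chkP_141225 : allRangeF (checkPointF cert) (nat_lit 141225) (nat_lit 25) = true := by decide +kernel
theorem chkP_141250 : allRangeF (checkPointF cert) (nat_lit 141250) (nat_lit 25) = true := by decide +kernel
theorem chkP_141275 : allRangeF (checkPointF cert) (nat_lit 141275) (nat_lit 25) = true := by decide +kernel
theorem chkP_141300 : allRangeF (checkPointF cert) (nat_lit 141300) (nat_lit 25) = true := by decide +kernel
theorem chkP_141325 : allRangeF (checkPointF cert) (nat_lit 141325) (nat_lit 25) = true := by decide +kernel
theorem chkP_141350 : allRangeF (checkPointF cert) (nat_lit 141350) (nat_lit 25) = true := by decide +kernel
theorem chkP_141375 : allRangeF (checkPointF cert) (nat_lit 141375) (nat_lit 25) = true := by decide +kernel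
theorem chkP_141400 : allRangeF (checkPointF cert) (nat_lit 141400) (nat_lit 25) = true := by decide +kernel
theorem chkP_141425 : allRangeF (checkPointF cert) (nat_lit 141425) (nat_lit 25) = true := by decide +kernel
theorem chkP_141450 : allRangeF (checkPointF cert) (nat_lit 141450) (nat_lit 25) = true := by decide +kernel
theorem chkP_141475 : allRangeF (checkPointF cert) (nat_lit 141475) (nat_lit 25) = true := by decide +kernel
theorem chkP_141500 : allRangeF (checkPointF cert) (nat_lit 141500) (nat_lit 25) = true := by decide +kernel
theorem chkP_141525 : allRangeF (checkPointF cert) (nat_lit 141525) (nat_lit 25) = true := by decide +kernel
theorem chkP_141550 : allRangeF (checkPointF cert) (nat_lit 141550) (nat_lit 25) = true := by decide +kernel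
theorem chkP_141575 : allRangeF (checkPointF cert) (nat_lit 141575) (nat_lit 25) = true := by decide +kernel
theorem chkP_141600 : allRangeF (checkPointF cert) (nat_lit 141600) (nat_lit 25) = true := by decide +kernel
theorem chkP_141625 : allRangeF (checkPointF cert) (nat_lit 141625) (nat_lit 25) = true := by decide +kernel
theorem chkP_141650 : allRangeF (checkPointF cert) (nat_lit 141650) (nat_lit 25) = true := by decide +kernel
theorem chkP_141675 : allRangeF (checkPointF cert) (nat_lit 141675) (nat_lit 25) = true := by decide +kernel
theorem chkP_141700 : allRangeF (checkPointF cert) (nat_lit 141700) (nat_lit 25) = true := by decide +kernel
theorem chkP_141725 : allRangeF (checkPointF cert) (nat_lit 141725) (nat_lit 25) = true := by decide +kernel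
theorem chkP_141750 : allRangeF (checkPointF cert) (nat_lit 141750) (nat_lit 25) = true := by decide +kernel
theorem chkP_141775 : allRangeF (checkPointF cert) (nat_lit 141775) (nat_lit 25) = true := by decide +kernel
theorem chkP_141800 : allRangeF (checkPointF cert) (nat_lit 141800) (nat_lit 25) = true := by decide +kernel
theorem chkP_141825 : allRangeF (checkPointF cert) (nat_lit 141825) (nat_lit 25) = true := by decide +kernel
theorem chkP_141850 : allRangeF (checkPointF cert) (nat_lit 141850) (nat_lit 25) = true := by decide +kernel
theorem chkP_141875 : allRangeF (checkPointF cert) (nat_lit 141875) (nat_lit 25) = true := by decide +kernel
theorem chkP_141900 : allRangeF (checkPointF cert) (nat_lit 141900) (nat_lit 25) = true := by decide +kernel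
theorem chkP_141925 : allRangeF (checkPointF cert) (nat_lit 141925) (nat_lit 25) = true := by decide +kernel
theorem chkP_141950 : allRangeF (checkPointF cert) (nat_lit 141950) (nat_lit 25) = true := by decide +kernel
theorem chkP_141975 : allRangeF (checkPointF cert) (nat_lit 141975) (nat_lit 25) = true := by decide +kernel
theorem chkP_142000 : allRangeF (checkPointF cert) (nat_lit 142000) (nat_lit 25) = true := by decide +kernel
theorem chkP_142025 : allRangeF (checkPointF cert) (nat_lit 142025) (nat_lit 25) = true := by decide +kernel
theorem chkP_142050 : allRangeF (checkPointF cert) (nat_lit 142050) (nat_lit 25) = true := by decide +kernel
theorem chkP_142075 : allRangeF (checkPointF cert) (nat_lit 142075) (nat_lit 25) = true := by decide +kernel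
theorem chkP_142100 : allRangeF (checkPointF cert) (nat_lit 142100) (nat_lit 25) = true := by decide +kernel
theorem chkP_142125 : allRangeF (checkPointF cert) (nat_lit 142125) (nat_lit 25) = true := by decide +kernel
theorem chkP_142150 : allRangeF (checkPointF cert) (nat_lit 142150) (nat_lit 25) = true := by decide +kernel
theorem chkP_142175 : allRangeF (checkPointF cert) (nat_lit 142175) (nat_lit 25) = true := by decide +kernel
theorem chkP_142200 : allRangeF (checkPointF cert) (nat_lit 142200) (nat_lit 25) = true := by decide +kernel
theorem chkP_142225 : allRangeF (checkPointF cert) (nat_lit 142225) (nat_lit 25) = true := by decide +kernel
theorem chkP_142250 : allRangeF (checkPointF cert) (nat_lit 142250) (nat_lit 25) = true := by decide +kernel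
theorem chkP_142275 : allRangeF (checkPointF cert) (nat_lit 142275) (nat_lit 25) = true := by decide +kernel
theorem chkP_142300 : allRangeF (checkPointF cert) (nat_lit 142300) (nat_lit 25) = true := by decide +kernel
theorem chkP_142325 : allRangeF (checkPointF cert) (nat_lit 142325) (nat_lit 25) = true := by decide +kernel
theorem chkP_142350 : allRangeF (checkPointF cert) (nat_lit 142350) (nat_lit 25) = true := by decide +kernel
theorem chkP_142375 : allRangeF (checkPointF cert) (nat_lit 142375) (nat_lit 25) = true := by decide +kernel
theorem chkP_142400 : allRangeF (checkPointF cert) (nat_lit 142400) (nat_lit 25) = true := by decide +kernel
theorem chkP_142425 : allRangeF (checkPointF cert) (nat_lit 142425) (nat_lit 25) = true := by decide +kernel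
theorem chkP_142450 : allRangeF (checkPointF cert) (nat_lit 142450) (nat_lit 25) = true := by decide +kernel
theorem chkP_142475 : allRangeF (checkPointF cert) (nat_lit 142475) (nat_lit 25) = true := by decide +kernel
theorem chkP_142500 : allRangeF (checkPointF cert) (nat_lit 142500) (nat_lit 25) = true := by decide +kernel
theorem chkP_142525 : allRangeF (checkPointF cert) (nat_lit 142525) (nat_lit 25) = true := by decide +kernel
theorem chkP_142550 : allRangeF (checkPointF cert) (nat_lit 142550) (nat_lit 25) = true := by decide +kernel
theorem chkP_142575 : allRangeF (checkPointF cert) (nat_lit 142575) (nat_lit 25) = true := by decide +kernel
theorem chkP_142600 : allRangeF (checkPointF cert) (nat_lit 142600) (nat_lit 25) = true := by decide +kernel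
theorem chkP_142625 : allRangeF (checkPointF cert) (nat_lit 142625) (nat_lit 25) = true := by decide +kernel
theorem chkP_142650 : allRangeF (checkPointF cert) (nat_lit 142650) (nat_lit 25) = true := by decide +kernel
theorem chkP_142675 : allRangeF (checkPointF cert) (nat_lit 142675) (nat_lit 25) = true := by decide +kernel
theorem chkP_142700 : allRangeF (checkPointF cert) (nat_lit 142700) (nat_lit 25) = true := by decide +kernel
theorem chkP_142725 : allRangeF (checkPointF cert) (nat_lit 142725) (nat_lit 25) = true := by decide +kernel
theorem chkP_142750 : allRangeF (checkPointF cert) (nat_lit 142750) (nat_lit 25) = true := by decide +kernel
theorem chkP_142775 : allRangeF (checkPointF cert) (nat_lit 142775) (nat_lit 25) = true := by decide +kernel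
theorem chkP_142800 : allRangeF (checkPointF cert) (nat_lit 142800) (nat_lit 25) = true := by decide +kernel
theorem chkP_142825 : allRangeF (checkPointF cert) (nat_lit 142825) (nat_lit 25) = true := by decide +kernel
theorem chkP_142850 : allRangeF (checkPointF cert) (nat_lit 142850) (nat_lit 25) = true := by decide +kernel
theorem chkP_142875 : allRangeF (checkPointF cert) (nat_lit 142875) (nat_lit 25) = true := by decide +kernel
theorem chkP_142900 : allRangeF (checkPointF cert) (nat_lit 142900) (nat_lit 25) = true := by decide +kernel
theorem chkP_142925 : allRangeF (checkPointF cert) (nat_lit 142925) (nat_lit 25) = true := by decide +kernel
theorem chkP_142950 : allRangeF (checkPointF cert) (nat_lit 142950) (nat_lit 25) = true := by decide +kernel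
theorem chkP_142975 : allRangeF (checkPointF cert) (nat_lit 142975) (nat_lit 25) = true := by decide +kernel
theorem chkP_143000 : allRangeF (checkPointF cert) (nat_lit 143000) (nat_lit 25) = true := by decide +kernel
theorem chkP_143025 : allRangeF (checkPointF cert) (nat_lit 143025) (nat_lit 25) = true := by decide +kernel
theorem chkP_143050 : allRangeF (checkPointF cert) (nat_lit 143050) (nat_lit 25) = true := by decide +kernel
theorem chkP_143075 : allRangeF (checkPointF cert) (nat_lit 143075) (nat_lit 25) = true := by decide +kernel
theorem chkP_143100 : allRangeF (checkPointF cert) (nat_lit 143100) (nat_lit 25) = true := by decide +kernel
theorem chkP_143125 : allRangeF (checkPointF cert) (nat_lit 143125) (nat_lit 25) = true := by decide +kernel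
theorem chkP_143150 : allRangeF (checkPointF cert) (nat_lit 143150) (nat_lit 25) = true := by decide +kernel
theorem chkP_143175 : allRangeF (checkPointF cert) (nat_lit 143175) (nat_lit 25) = true := by decide +kernel
theorem chkP_143200 : allRangeF (checkPointF cert) (nat_lit 143200) (nat_lit 25) = true := by decide +kernel
theorem chkP_143225 : allRangeF (checkPointF cert) (nat_lit 143225) (nat_lit 25) = true := by decide +kernel
theorem chkP_143250 : allRangeF (checkPointF cert) (nat_lit 143250) (nat_lit 25) = true := by decide +kernel
theorem chkP_143275 : allRangeF (checkPointF cert) (nat_lit 143275) (nat_lit 25) = true := by decide +kernel
theorem chkP_143300 : allRangeF (checkPointF cert) (nat_lit 143300) (nat_lit 25) = true := by decide +kernel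
theorem chkP_143325 : allRangeF (checkPointF cert) (nat_lit 143325) (nat_lit 25) = true := by decide +kernel
theorem chkP_143350 : allRangeF (checkPointF cert) (nat_lit 143350) (nat_lit 25) = true := by decide +kernel
theorem chkP_143375 : allRangeF (checkPointF cert) (nat_lit 143375) (nat_lit 25) = true := by decide +kernel
theorem chkP_143400 : allRangeF (checkPointF cert) (nat_lit 143400) (nat_lit 25) = true := by decide +kernel
theorem chkP_143425 : allRangeF (checkPointF cert) (nat_lit 143425) (nat_lit 25) = true := by decide +kernel
theorem chkP_143450 : allRangeF (checkPointF cert) (nat_lit 143450) (nat_lit 25) = true := by decide +kernel
theorem chkP_143475 : allRangeF (checkPointF cert) (nat_lit 143475) (nat_lit 25) = true := by decide +kernel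
theorem chkP_143500 : allRangeF (checkPointF cert) (nat_lit 143500) (nat_lit 25) = true := by decide +kernel
theorem chkP_143525 : allRangeF (checkPointF cert) (nat_lit 143525) (nat_lit 25) = true := by decide +kernel
theorem chkP_143550 : allRangeF (checkPointF cert) (nat_lit 143550) (nat_lit 25) = true := by decide +kernel
theorem chkP_143575 : allRangeF (checkPointF cert) (nat_lit 143575) (nat_lit 25) = true := by decide +kernel
theorem chkP_143600 : allRangeF (checkPointF cert) (nat_lit 143600) (nat_lit 25) = true := by decide +kernel
theorem chkP_143625 : allRangeF (checkPointF cert) (nat_lit 143625) (nat_lit 25) = true := by decide +kernel
theorem chkP_143650 : allRangeF (checkPointF cert) (nat_lit 143650) (nat_lit 25) = true := by decide +kernel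
theorem chkP_143675 : allRangeF (checkPointF cert) (nat_lit 143675) (nat_lit 25) = true := by decide +kernel
theorem chkP_143700 : allRangeF (checkPointF cert) (nat_lit 143700) (nat_lit 25) = true := by decide +kernel
theorem chkP_143725 : allRangeF (checkPointF cert) (nat_lit 143725) (nat_lit 25) = true := by decide +kernel
theorem chkP_143750 : allRangeF (checkPointF cert) (nat_lit 143750) (nat_lit 25) = true := by decide +kernel
theorem chkP_143775 : allRangeF (checkPointF cert) (nat_lit 143775) (nat_lit 25) = true := by decide +kernel
theorem chkP_143800 : allRangeF (checkPointF cert) (nat_lit 143800) (nat_lit 25) = true := by decide +kernel
theorem chkP_143825 : allRangeF (checkPointF cert) (nat_lit 143825) (nat_lit 25) = true := by decide +kernel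
theorem chkP_143850 : allRangeF (checkPointF cert) (nat_lit 143850) (nat_lit 25) = true := by decide +kernel
theorem chkP_143875 : allRangeF (checkPointF cert) (nat_lit 143875) (nat_lit 25) = true := by decide +kernel
theorem chkP_143900 : allRangeF (checkPointF cert) (nat_lit 143900) (nat_lit 25) = true := by decide +kernel
theorem chkP_143925 : allRangeF (checkPointF cert) (nat_lit 143925) (nat_lit 25) = true := by decide +kernel
theorem chkP_143950 : allRangeF (checkPointF cert) (nat_lit 143950) (nat_lit 25) = true := by decide +kernel
theorem chkP_143975 : allRangeF (checkPointF cert) (nat_lit 143975) (nat_lit 25) = true := by decide +kernel
theorem chkP_144000 : allRangeF (checkPointF cert) (nat_lit 144000) (nat_lit 25) = true := by decide +kernel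
theorem chkP_144025 : allRangeF (checkPointF cert) (nat_lit 144025) (nat_lit 25) = true := by decide +kernel
theorem chkP_144050 : allRangeF (checkPointF cert) (nat_lit 144050) (nat_lit 25) = true := by decide +kernel
theorem chkP_144075 : allRangeF (checkPointF cert) (nat_lit 144075) (nat_lit 25) = true := by decide +kernel
theorem chkP_144100 : allRangeF (checkPointF cert) (nat_lit 144100) (nat_lit 25) = true := by decide +kernel
theorem chkP_144125 : allRangeF (checkPointF cert) (nat_lit 144125) (nat_lit 25) = true := by decide +kernel
theorem chkP_144150 : allRangeF (checkPointF cert) (nat_lit 144150) (nat_lit 25) = true := by decide +kernel
theorem chkP_144175 : allRangeF (checkPointF cert) (nat_lit 144175) (nat_lit 25) = true := by decide +kernel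
theorem chkP_144200 : allRangeF (checkPointF cert) (nat_lit 144200) (nat_lit 25) = true := by decide +kernel
theorem chkP_144225 : allRangeF (checkPointF cert) (nat_lit 144225) (nat_lit 25) = true := by decide +kernel
theorem chkP_144250 : allRangeF (checkPointF cert) (nat_lit 144250) (nat_lit 25) = true := by decide +kernel
theorem chkP_144275 : allRangeF (checkPointF cert) (nat_lit 144275) (nat_lit 25) = true := by decide +kernel
theorem chkP_144300 : allRangeF (checkPointF cert) (nat_lit 144300) (nat_lit 25) = true := by decide +kernel
theorem chkP_144325 : allRangeF (checkPointF cert) (nat_lit 144325) (nat_lit 25) = true := by decide +kernel
theorem chkP_144350 : allRangeF (checkPointF cert) (nat_lit 144350) (nat_lit 25) = true := by decide +kernel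
theorem chkP_144375 : allRangeF (checkPointF cert) (nat_lit 144375) (nat_lit 25) = true := by decide +kernel
theorem chkP_144400 : allRangeF (checkPointF cert) (nat_lit 144400) (nat_lit 25) = true := by decide +kernel
theorem chkP_144425 : allRangeF (checkPointF cert) (nat_lit 144425) (nat_lit 25) = true := by decide +kernel
theorem chkP_144450 : allRangeF (checkPointF cert) (nat_lit 144450) (nat_lit 25) = true := by decide +kernel
theorem chkP_144475 : allRangeF (checkPointF cert) (nat_lit 144475) (nat_lit 25) = true := by decide +kernel
theorem chkP_144500 : allRangeF (checkPointF cert) (nat_lit 144500) (nat_lit 25) = true := by decide +kernel
theorem chkP_144525 : allRangeF (checkPointF cert) (nat_lit 144525) (nat_lit 25) = true := by decide +kernel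
theorem chkP_144550 : allRangeF (checkPointF cert) (nat_lit 144550) (nat_lit 25) = true := by decide +kernel
theorem chkP_144575 : allRangeF (checkPointF cert) (nat_lit 144575) (nat_lit 25) = true := by decide +kernel
theorem chkP_144600 : allRangeF (checkPointF cert) (nat_lit 144600) (nat_lit 25) = true := by decide +kernel
theorem chkP_144625 : allRangeF (checkPointF cert) (nat_lit 144625) (nat_lit 25) = true := by decide +kernel
theorem chkP_144650 : allRangeF (checkPointF cert) (nat_lit 144650) (nat_lit 25) = true := by decide +kernel
theorem chkP_144675 : allRangeF (checkPointF cert) (nat_lit 144675) (nat_lit 25) = true := by decide +kernel
theorem chkP_144700 : allRangeF (checkPointF cert) (nat_lit 144700) (nat_lit 25) = true := by decide +kernel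
theorem chkP_144725 : allRangeF (checkPointF cert) (nat_lit 144725) (nat_lit 25) = true := by decide +kernel
theorem chkP_144750 : allRangeF (checkPointF cert) (nat_lit 144750) (nat_lit 25) = true := by decide +kernel
theorem chkP_144775 : allRangeF (checkPointF cert) (nat_lit 144775) (nat_lit 25) = true := by decide +kernel
theorem chkP_144800 : allRangeF (checkPointF cert) (nat_lit 144800) (nat_lit 25) = true := by decide +kernel
theorem chkP_144825 : allRangeF (checkPointF cert) (nat_lit 144825) (nat_lit 25) = true := by decide +kernel
theorem chkP_144850 : allRangeF (checkPointF cert) (nat_lit 144850) (nat_lit 25) = true := by decide +kernel
theorem chkP_144875 : allRangeF (checkPointF cert) (nat_lit 144875) (nat_lit 25) = true := by decide +kernel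
theorem chkP_144900 : allRangeF (checkPointF cert) (nat_lit 144900) (nat_lit 25) = true := by decide +kernel
theorem chkP_144925 : allRangeF (checkPointF cert) (nat_lit 144925) (nat_lit 25) = true := by decide +kernel
theorem chkP_144950 : allRangeF (checkPointF cert) (nat_lit 144950) (nat_lit 25) = true := by decide +kernel
theorem chkP_144975 : allRangeF (checkPointF cert) (nat_lit 144975) (nat_lit 25) = true := by decide +kernel
theorem chkP_145000 : allRangeF (checkPointF cert) (nat_lit 145000) (nat_lit 25) = true := by decide +kernel
theorem chkP_145025 : allRangeF (checkPointF cert) (nat_lit 145025) (nat_lit 25) = true := by decide +kernel
theorem chkP_145050 : allRangeF (checkPointF cert) (nat_lit 145050) (nat_lit 25) = true := by decide +kernel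
theorem chkP_145075 : allRangeF (checkPointF cert) (nat_lit 145075) (nat_lit 25) = true := by decide +kernel
theorem chkP_145100 : allRangeF (checkPointF cert) (nat_lit 145100) (nat_lit 25) = true := by decide +kernel
theorem chkP_145125 : allRangeF (checkPointF cert) (nat_lit 145125) (nat_lit 25) = true := by decide +kernel
theorem chkP_145150 : allRangeF (checkPointF cert) (nat_lit 145150) (nat_lit 25) = true := by decide +kernel
theorem chkP_145175 : allRangeF (checkPointF cert) (nat_lit 145175) (nat_lit 25) = true := by decide +kernel
theorem chkP_145200 : allRangeF (checkPointF cert) (nat_lit 145200) (nat_lit 25) = true := by decide +kernel
theorem chkP_145225 : allRangeF (checkPointF cert) (nat_lit 145225) (nat_lit 25) = true := by decide +kernel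
theorem chkP_145250 : allRangeF (checkPointF cert) (nat_lit 145250) (nat_lit 25) = true := by decide +kernel
theorem chkP_145275 : allRangeF (checkPointF cert) (nat_lit 145275) (nat_lit 25) = true := by decide +kernel
theorem chkP_145300 : allRangeF (checkPointF cert) (nat_lit 145300) (nat_lit 25) = true := by decide +kernel
theorem chkP_145325 : allRangeF (checkPointF cert) (nat_lit 145325) (nat_lit 25) = true := by decide +kernel
theorem chkP_145350 : allRangeF (checkPointF cert) (nat_lit 145350) (nat_lit 25) = true := by decide +kernel
theorem chkP_145375 : allRangeF (checkPointF cert) (nat_lit 145375) (nat_lit 25) = true := by decide +kernel
theorem chkP_145400 : allRangeF (checkPointF cert) (nat_lit 145400) (nat_lit 25) = true := by decide +kernel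
theorem chkP_145425 : allRangeF (checkPointF cert) (nat_lit 145425) (nat_lit 25) = true := by decide +kernel
theorem chkP_145450 : allRangeF (checkPointF cert) (nat_lit 145450) (nat_lit 25) = true := by decide +kernel
theorem chkP_145475 : allRangeF (checkPointF cert) (nat_lit 145475) (nat_lit 25) = true := by decide +kernel
theorem chkP_145500 : allRangeF (checkPointF cert) (nat_lit 145500) (nat_lit 25) = true := by decide +kernel
theorem chkP_145525 : allRangeF (checkPointF cert) (nat_lit 145525) (nat_lit 25) = true := by decide +kernel
theorem chkP_145550 : allRangeF (checkPointF cert) (nat_lit 145550) (nat_lit 25) = true := by decide +kernel
theorem chkP_145575 : allRangeF (checkPointF cert) (nat_lit 145575) (nat_lit 25) = true := by decide +kernel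
theorem chkP_145600 : allRangeF (checkPointF cert) (nat_lit 145600) (nat_lit 25) = true := by decide +kernel
theorem chkP_145625 : allRangeF (checkPointF cert) (nat_lit 145625) (nat_lit 25) = true := by decide +kernel
theorem chkP_145650 : allRangeF (checkPointF cert) (nat_lit 145650) (nat_lit 25) = true := by decide +kernel
theorem chkP_145675 : allRangeF (checkPointF cert) (nat_lit 145675) (nat_lit 25) = true := by decide +kernel
theorem chkP_145700 : allRangeF (checkPointF cert) (nat_lit 145700) (nat_lit 25) = true := by decide +kernel
theorem chkP_145725 : allRangeF (checkPointF cert) (nat_lit 145725) (nat_lit 25) = true := by decide +kernel
theorem chkP_145750 : allRangeF (checkPointF cert) (nat_lit 145750) (nat_lit 25) = true := by decide +kernel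
theorem chkP_145775 : allRangeF (checkPointF cert) (nat_lit 145775) (nat_lit 25) = true := by decide +kernel
theorem chkP_145800 : allRangeF (checkPointF cert) (nat_lit 145800) (nat_lit 25) = true := by decide +kernel

theorem ptsRange_18 : ∀ i, 138150 ≤ i → i < 145825 → checkPoint cert i = true := by
  intro i hlo hhi
  rcases Nat.lt_or_ge i 141975 with h1 | h1
  · skip
    rcases Nat.lt_or_ge i 140050 with h2 | h2
    · skip
      rcases Nat.lt_or_ge i 139100 with h3 | h3
      · skip
        rcases Nat.lt_or_ge i 138625 with h4 | h4
        · skip
          rcases Nat.lt_or_ge i 138375 with h5 | h5
          · skip
            rcases Nat.lt_or_ge i 138250 with h6 | h6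
            · skip
              rcases Nat.lt_or_ge i 138200 with h7 | h7
              · skip
                rcases Nat.lt_or_ge i 138175 with h8 | h8
                · skip
                  exact allRangeF_sound _ _ (checkPointF_eq cert) 138150 25 chkP_138150 i (by omega) (by omega)
                · skip
                  exact allRangeF_sound _ _ (checkPointF_eq cert) 138175 25 chkP_138175 i (by omega) (by omega)
              · skip
                rcases Nat.lt_or_ge i 138225 with h8 | h8
                · skip
                  exact allRangeF_sound _ _ (checkPointF_eq cert) 138200 25 chkP_138200 i (by omega) (by omega)
                · skip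
                  exact allRangeF_sound _ _ (checkPointF_eq cert) 138225 25 chkP_138225 i (by omega) (by omega)
            · skip
              rcases Nat.lt_or_ge i 138300 with h7 | h7
              · skip
                rcases Nat.lt_or_ge i 138275 with h8 | h8
                · skip
                  exact allRangeF_sound _ _ (checkPointF_eq cert) 138250 25 chkP_138250 i (by omega) (by omega)
                · skip
                  exact allRangeF_sound _ _ (checkPointF_eq cert) 138275 25 chkP_138275 i (by omega) (by omega)
              · skip
                rcases Nat.lt_or_ge i 138325 with h8 | h8
                · skip
                  exact allRangeF_sound _ _ (checkPointF_eq cert) 138300 25 chkP_138300 i (by omega) (by omega)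
                · skip
                  rcases Nat.lt_or_ge i 138350 with h9 | h9
                  · skip
                    exact allRangeF_sound _ _ (checkPointF_eq cert) 138325 25 chkP_138325 i (by omega) (by omega)
                  · skip
                    exact allRangeF_sound _ _ (checkPointF_eq cert) 138350 25 chkP_138350 i (by omega) (by omega)
          · skip
            rcases Nat.lt_or_ge i 138500 with h6 | h6
            · skip
              rcases Nat.lt_or_ge i 138425 with h7 | h7
              · skip
                rcases Nat.lt_or_ge i 138400 with h8 | h8
                · skip
                  exact allRangeF_sound _ _ (checkPointF_eq cert) 138375 25 chkP_138375 i (by omega) (by omega)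
                · skip
                  exact allRangeF_sound _ _ (checkPointF_eq cert) 138400 25 chkP_138400 i (by omega) (by omega)
              · skip
                rcases Nat.lt_or_ge i 138450 with h8 | h8
                · skip
                  exact allRangeF_sound _ _ (checkPointF_eq cert) 138425 25 chkP_138425 i (by omega) (by omega)
                · skip
                  rcases Nat.lt_or_ge i 138475 with h9 | h9
                  · skip
                    exact allRangeF_sound _ _ (checkPointF_eq cert) 138450 25 chkP_138450 i (by omega) (by omega)
                  · skip
                    exact allRangeF_sound _ _ (checkPointF_eq cert) 138475 25 chkP_138475 i (by omega) (by omega)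
            · skip
              rcases Nat.lt_or_ge i 138550 with h7 | h7
              · skip
                rcases Nat.lt_or_ge i 138525 with h8 | h8
                · skip
                  exact allRangeF_sound _ _ (checkPointF_eq cert) 138500 25 chkP_138500 i (by omega) (by omega)
                · skip
                  exact allRangeF_sound _ _ (checkPointF_eq cert) 138525 25 chkP_138525 i (by omega) (by omega)
              · skip
                rcases Nat.lt_or_ge i 138575 with h8 | h8
                · skip
                  exact allRangeF_sound _ _ (checkPointF_eq cert) 138550 25 chkP_138550 i (by omega) (by omega)
                · skip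
                  rcases Nat.lt_or_ge i 138600 with h9 | h9
                  · skip
                    exact allRangeF_sound _ _ (checkPointF_eq cert) 138575 25 chkP_138575 i (by omega) (by omega)
                  · skip
                    exact allRangeF_sound _ _ (checkPointF_eq cert) 138600 25 chkP_138600 i (by omega) (by omega)
        · skip
          rcases Nat.lt_or_ge i 138850 with h5 | h5
          · skip
            rcases Nat.lt_or_ge i 138725 with h6 | h6
            · skip
              rcases Nat.lt_or_ge i 138675 with h7 | h7
              · skip
                rcases Nat.lt_or_ge i 138650 with h8 | h8
                · skip
                  exact allRangeF_sound _ _ (checkPointF_eq cert) 138625 25 chkP_138625 i (by omega) (by omega)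
                · skip
                  exact allRangeF_sound _ _ (checkPointF_eq cert) 138650 25 chkP_138650 i (by omega) (by omega)
              · skip
                rcases Nat.lt_or_ge i 138700 with h8 | h8
                · skip
                  exact allRangeF_sound _ _ (checkPointF_eq cert) 138675 25 chkP_138675 i (by omega) (by omega)
                · skip
                  exact allRangeF_sound _ _ (checkPointF_eq cert) 138700 25 chkP_138700 i (by omega) (by omega)
            · skip
              rcases Nat.lt_or_ge i 138775 with h7 | h7
              · skip
                rcases Nat.lt_or_ge i 138750 with h8 | h8
                · skip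
                  exact allRangeF_sound _ _ (checkPointF_eq cert) 138725 25 chkP_138725 i (by omega) (by omega)
                · skip
                  exact allRangeF_sound _ _ (checkPointF_eq cert) 138750 25 chkP_138750 i (by omega) (by omega)
              · skip
                rcases Nat.lt_or_ge i 138800 with h8 | h8
                · skip
                  exact allRangeF_sound _ _ (checkPointF_eq cert) 138775 25 chkP_138775 i (by omega) (by omega)
                · skip
                  rcases Nat.lt_or_ge i 138825 with h9 | h9
                  · skip
                    exact allRangeF_sound _ _ (checkPointF_eq cert) 138800 25 chkP_138800 i (by omega) (by omega)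
                  · skip
                    exact allRangeF_sound _ _ (checkPointF_eq cert) 138825 25 chkP_138825 i (by omega) (by omega)
          · skip
            rcases Nat.lt_or_ge i 138975 with h6 | h6
            · skip
              rcases Nat.lt_or_ge i 138900 with h7 | h7
              · skip
                rcases Nat.lt_or_ge i 138875 with h8 | h8
                · skip
                  exact allRangeF_sound _ _ (checkPointF_eq cert) 138850 25 chkP_138850 i (by omega) (by omega)
                · skip
                  exact allRangeF_sound _ _ (checkPointF_eq cert) 138875 25 chkP_138875 i (by omega) (by omega)
              · skip
                rcases Nat.lt_or_ge i 138925 with h8 | h8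
                · skip
                  exact allRangeF_sound _ _ (checkPointF_eq cert) 138900 25 chkP_138900 i (by omega) (by omega)
                · skip
                  rcases Nat.lt_or_ge i 138950 with h9 | h9
                  · skip
                    exact allRangeF_sound _ _ (checkPointF_eq cert) 138925 25 chkP_138925 i (by omega) (by omega)
                  · skip
                    exact allRangeF_sound _ _ (checkPointF_eq cert) 138950 25 chkP_138950 i (by omega) (by omega)
            · skip
              rcases Nat.lt_or_ge i 139025 with h7 | h7
              · skip
                rcases Nat.lt_or_ge i 139000 with h8 | h8
                · skip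
                  exact allRangeF_sound _ _ (checkPointF_eq cert) 138975 25 chkP_138975 i (by omega) (by omega)
                · skip
                  exact allRangeF_sound _ _ (checkPointF_eq cert) 139000 25 chkP_139000 i (by omega) (by omega)
              · skip
                rcases Nat.lt_or_ge i 139050 with h8 | h8
                · skip
                  exact allRangeF_sound _ _ (checkPointF_eq cert) 139025 25 chkP_139025 i (by omega) (by omega)
                · skip
                  rcases Nat.lt_or_ge i 139075 with h9 | h9
                  · skip
                    exact allRangeF_sound _ _ (checkPointF_eq cert) 139050 25 chkP_139050 i (by omega) (by omega)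
                  · skip
                    exact allRangeF_sound _ _ (checkPointF_eq cert) 139075 25 chkP_139075 i (by omega) (by omega)
      · skip
        rcases Nat.lt_or_ge i 139575 with h4 | h4
        · skip
          rcases Nat.lt_or_ge i 139325 with h5 | h5
          · skip
            rcases Nat.lt_or_ge i 139200 with h6 | h6
            · skip
              rcases Nat.lt_or_ge i 139150 with h7 | h7
              · skip
                rcases Nat.lt_or_ge i 139125 with h8 | h8
                · skip
                  exact allRangeF_sound _ _ (checkPointF_eq cert) 139100 25 chkP_139100 i (by omega) (by omega)
                · skip
                  exact allRangeF_sound _ _ (checkPointF_eq cert) 139125 25 chkP_139125 i (by omega) (by omega)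
              · skip
                rcases Nat.lt_or_ge i 139175 with h8 | h8
                · skip
                  exact allRangeF_sound _ _ (checkPointF_eq cert) 139150 25 chkP_139150 i (by omega) (by omega)
                · skip
                  exact allRangeF_sound _ _ (checkPointF_eq cert) 139175 25 chkP_139175 i (by omega) (by omega)
            · skip
              rcases Nat.lt_or_ge i 139250 with h7 | h7
              · skip
                rcases Nat.lt_or_ge i 139225 with h8 | h8
                · skip
                  exact allRangeF_sound _ _ (checkPointF_eq cert) 139200 25 chkP_139200 i (by omega) (by omega)
                · skip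
                  exact allRangeF_sound _ _ (checkPointF_eq cert) 139225 25 chkP_139225 i (by omega) (by omega)
              · skip
                rcases Nat.lt_or_ge i 139275 with h8 | h8
                · skip
                  exact allRangeF_sound _ _ (checkPointF_eq cert) 139250 25 chkP_139250 i (by omega) (by omega)
                · skip
                  rcases Nat.lt_or_ge i 139300 with h9 | h9
                  · skip
                    exact allRangeF_sound _ _ (checkPointF_eq cert) 139275 25 chkP_139275 i (by omega) (by omega)
                  · skip
                    exact allRangeF_sound _ _ (checkPointF_eq cert) 139300 25 chkP_139300 i (by omega) (by omega)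
          · skip
            rcases Nat.lt_or_ge i 139450 with h6 | h6
            · skip
              rcases Nat.lt_or_ge i 139375 with h7 | h7
              · skip
                rcases Nat.lt_or_ge i 139350 with h8 | h8
                · skip
                  exact allRangeF_sound _ _ (checkPointF_eq cert) 139325 25 chkP_139325 i (by omega) (by omega)
                · skip
                  exact allRangeF_sound _ _ (checkPointF_eq cert) 139350 25 chkP_139350 i (by omega) (by omega)
              · skip
                rcases Nat.lt_or_ge i 139400 with h8 | h8
                · skip
                  exact allRangeF_sound _ _ (checkPointF_eq cert) 139375 25 chkP_139375 i (by omega) (by omega)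
                · skip
                  rcases Nat.lt_or_ge i 139425 with h9 | h9
                  · skip
                    exact allRangeF_sound _ _ (checkPointF_eq cert) 139400 25 chkP_139400 i (by omega) (by omega)
                  · skip
                    exact allRangeF_sound _ _ (checkPointF_eq cert) 139425 25 chkP_139425 i (by omega) (by omega)
            · skip
              rcases Nat.lt_or_ge i 139500 with h7 | h7
              · skip
                rcases Nat.lt_or_ge i 139475 with h8 | h8
                · skip
                  exact allRangeF_sound _ _ (checkPointF_eq cert) 139450 25 chkP_139450 i (by omega) (by omega)
                · skip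
                  exact allRangeF_sound _ _ (checkPointF_eq cert) 139475 25 chkP_139475 i (by omega) (by omega)
              · skip
                rcases Nat.lt_or_ge i 139525 with h8 | h8
                · skip
                  exact allRangeF_sound _ _ (checkPointF_eq cert) 139500 25 chkP_139500 i (by omega) (by omega)
                · skip
                  rcases Nat.lt_or_ge i 139550 with h9 | h9
                  · skip
                    exact allRangeF_sound _ _ (checkPointF_eq cert) 139525 25 chkP_139525 i (by omega) (by omega)
                  · skip
                    exact allRangeF_sound _ _ (checkPointF_eq cert) 139550 25 chkP_139550 i (by omega) (by omega)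
        · skip
          rcases Nat.lt_or_ge i 139800 with h5 | h5
          · skip
            rcases Nat.lt_or_ge i 139675 with h6 | h6
            · skip
              rcases Nat.lt_or_ge i 139625 with h7 | h7
              · skip
                rcases Nat.lt_or_ge i 139600 with h8 | h8
                · skip
                  exact allRangeF_sound _ _ (checkPointF_eq cert) 139575 25 chkP_139575 i (by omega) (by omega)
                · skip
                  exact allRangeF_sound _ _ (checkPointF_eq cert) 139600 25 chkP_139600 i (by omega) (by omega)
              · skip
                rcases Nat.lt_or_ge i 139650 with h8 | h8
                · skip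
                  exact allRangeF_sound _ _ (checkPointF_eq cert) 139625 25 chkP_139625 i (by omega) (by omega)
                · skip
                  exact allRangeF_sound _ _ (checkPointF_eq cert) 139650 25 chkP_139650 i (by omega) (by omega)
            · skip
              rcases Nat.lt_or_ge i 139725 with h7 | h7
              · skip
                rcases Nat.lt_or_ge i 139700 with h8 | h8
                · skip
                  exact allRangeF_sound _ _ (checkPointF_eq cert) 139675 25 chkP_139675 i (by omega) (by omega)
                · skip
                  exact allRangeF_sound _ _ (checkPointF_eq cert) 139700 25 chkP_139700 i (by omega) (by omega)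
              · skip
                rcases Nat.lt_or_ge i 139750 with h8 | h8
                · skip
                  exact allRangeF_sound _ _ (checkPointF_eq cert) 139725 25 chkP_139725 i (by omega) (by omega)
                · skip
                  rcases Nat.lt_or_ge i 139775 with h9 | h9
                  · skip
                    exact allRangeF_sound _ _ (checkPointF_eq cert) 139750 25 chkP_139750 i (by omega) (by omega)
                  · skip
                    exact allRangeF_sound _ _ (checkPointF_eq cert) 139775 25 chkP_139775 i (by omega) (by omega)
          · skip
            rcases Nat.lt_or_ge i 139925 with h6 | h6
            · skip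
              rcases Nat.lt_or_ge i 139850 with h7 | h7
              · skip
                rcases Nat.lt_or_ge i 139825 with h8 | h8
                · skip
                  exact allRangeF_sound _ _ (checkPointF_eq cert) 139800 25 chkP_139800 i (by omega) (by omega)
                · skip
                  exact allRangeF_sound _ _ (checkPointF_eq cert) 139825 25 chkP_139825 i (by omega) (by omega)
              · skip
                rcases Nat.lt_or_ge i 139875 with h8 | h8
                · skip
                  exact allRangeF_sound _ _ (checkPointF_eq cert) 139850 25 chkP_139850 i (by omega) (by omega)
                · skip
                  rcases Nat.lt_or_ge i 139900 with h9 | h9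
                  · skip
                    exact allRangeF_sound _ _ (checkPointF_eq cert) 139875 25 chkP_139875 i (by omega) (by omega)
                  · skip
                    exact allRangeF_sound _ _ (checkPointF_eq cert) 139900 25 chkP_139900 i (by omega) (by omega)
            · skip
              rcases Nat.lt_or_ge i 139975 with h7 | h7
              · skip
                rcases Nat.lt_or_ge i 139950 with h8 | h8
                · skip
                  exact allRangeF_sound _ _ (checkPointF_eq cert) 139925 25 chkP_139925 i (by omega) (by omega)
                · skip
                  exact allRangeF_sound _ _ (checkPointF_eq cert) 139950 25 chkP_139950 i (by omega) (by omega)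
              · skip
                rcases Nat.lt_or_ge i 140000 with h8 | h8
                · skip
                  exact allRangeF_sound _ _ (checkPointF_eq cert) 139975 25 chkP_139975 i (by omega) (by omega)
                · skip
                  rcases Nat.lt_or_ge i 140025 with h9 | h9
                  · skip
                    exact allRangeF_sound _ _ (checkPointF_eq cert) 140000 25 chkP_140000 i (by omega) (by omega)
                  · skip
                    exact allRangeF_sound _ _ (checkPointF_eq cert) 140025 25 chkP_140025 i (by omega) (by omega)
    · skip
      rcases Nat.lt_or_ge i 141000 with h3 | h3
      · skip
        rcases Nat.lt_or_ge i 140525 with h4 | h4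
        · skip
          rcases Nat.lt_or_ge i 140275 with h5 | h5
          · skip
            rcases Nat.lt_or_ge i 140150 with h6 | h6
            · skip
              rcases Nat.lt_or_ge i 140100 with h7 | h7
              · skip
                rcases Nat.lt_or_ge i 140075 with h8 | h8
                · skip
                  exact allRangeF_sound _ _ (checkPointF_eq cert) 140050 25 chkP_140050 i (by omega) (by omega)
                · skip
                  exact allRangeF_sound _ _ (checkPointF_eq cert) 140075 25 chkP_140075 i (by omega) (by omega)
              · skip
                rcases Nat.lt_or_ge i 140125 with h8 | h8
                · skip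
                  exact allRangeF_sound _ _ (checkPointF_eq cert) 140100 25 chkP_140100 i (by omega) (by omega)
                · skip
                  exact allRangeF_sound _ _ (checkPointF_eq cert) 140125 25 chkP_140125 i (by omega) (by omega)
            · skip
              rcases Nat.lt_or_ge i 140200 with h7 | h7
              · skip
                rcases Nat.lt_or_ge i 140175 with h8 | h8
                · skip
                  exact allRangeF_sound _ _ (checkPointF_eq cert) 140150 25 chkP_140150 i (by omega) (by omega)
                · skip
                  exact allRangeF_sound _ _ (checkPointF_eq cert) 140175 25 chkP_140175 i (by omega) (by omega)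
              · skip
                rcases Nat.lt_or_ge i 140225 with h8 | h8
                · skip
                  exact allRangeF_sound _ _ (checkPointF_eq cert) 140200 25 chkP_140200 i (by omega) (by omega)
                · skip
                  rcases Nat.lt_or_ge i 140250 with h9 | h9
                  · skip
                    exact allRangeF_sound _ _ (checkPointF_eq cert) 140225 25 chkP_140225 i (by omega) (by omega)
                  · skip
                    exact allRangeF_sound _ _ (checkPointF_eq cert) 140250 25 chkP_140250 i (by omega) (by omega)
          · skip
            rcases Nat.lt_or_ge i 140400 with h6 | h6
            · skip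
              rcases Nat.lt_or_ge i 140325 with h7 | h7
              · skip
                rcases Nat.lt_or_ge i 140300 with h8 | h8
                · skip
                  exact allRangeF_sound _ _ (checkPointF_eq cert) 140275 25 chkP_140275 i (by omega) (by omega)
                · skip
                  exact allRangeF_sound _ _ (checkPointF_eq cert) 140300 25 chkP_140300 i (by omega) (by omega)
              · skip
                rcases Nat.lt_or_ge i 140350 with h8 | h8
                · skip
                  exact allRangeF_sound _ _ (checkPointF_eq cert) 140325 25 chkP_140325 i (by omega) (by omega)
                · skip
                  rcases Nat.lt_or_ge i 140375 with h9 | h9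
                  · skip
                    exact allRangeF_sound _ _ (checkPointF_eq cert) 140350 25 chkP_140350 i (by omega) (by omega)
                  · skip
                    exact allRangeF_sound _ _ (checkPointF_eq cert) 140375 25 chkP_140375 i (by omega) (by omega)
            · skip
              rcases Nat.lt_or_ge i 140450 with h7 | h7
              · skip
                rcases Nat.lt_or_ge i 140425 with h8 | h8
                · skip
                  exact allRangeF_sound _ _ (checkPointF_eq cert) 140400 25 chkP_140400 i (by omega) (by omega)
                · skip
                  exact allRangeF_sound _ _ (checkPointF_eq cert) 140425 25 chkP_140425 i (by omega) (by omega)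
              · skip
                rcases Nat.lt_or_ge i 140475 with h8 | h8
                · skip
                  exact allRangeF_sound _ _ (checkPointF_eq cert) 140450 25 chkP_140450 i (by omega) (by omega)
                · skip
                  rcases Nat.lt_or_ge i 140500 with h9 | h9
                  · skip
                    exact allRangeF_sound _ _ (checkPointF_eq cert) 140475 25 chkP_140475 i (by omega) (by omega)
                  · skip
                    exact allRangeF_sound _ _ (checkPointF_eq cert) 140500 25 chkP_140500 i (by omega) (by omega)
        · skip
          rcases Nat.lt_or_ge i 140750 with h5 | h5
          · skip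
            rcases Nat.lt_or_ge i 140625 with h6 | h6
            · skip
              rcases Nat.lt_or_ge i 140575 with h7 | h7
              · skip
                rcases Nat.lt_or_ge i 140550 with h8 | h8
                · skip
                  exact allRangeF_sound _ _ (checkPointF_eq cert) 140525 25 chkP_140525 i (by omega) (by omega)
                · skip
                  exact allRangeF_sound _ _ (checkPointF_eq cert) 140550 25 chkP_140550 i (by omega) (by omega)
              · skip
                rcases Nat.lt_or_ge i 140600 with h8 | h8
                · skip
                  exact allRangeF_sound _ _ (checkPointF_eq cert) 140575 25 chkP_140575 i (by omega) (by omega)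
                · skip
                  exact allRangeF_sound _ _ (checkPointF_eq cert) 140600 25 chkP_140600 i (by omega) (by omega)
            · skip
              rcases Nat.lt_or_ge i 140675 with h7 | h7
              · skip
                rcases Nat.lt_or_ge i 140650 with h8 | h8
                · skip
                  exact allRangeF_sound _ _ (checkPointF_eq cert) 140625 25 chkP_140625 i (by omega) (by omega)
                · skip
                  exact allRangeF_sound _ _ (checkPointF_eq cert) 140650 25 chkP_140650 i (by omega) (by omega)
              · skip
                rcases Nat.lt_or_ge i 140700 with h8 | h8
                · skip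
                  exact allRangeF_sound _ _ (checkPointF_eq cert) 140675 25 chkP_140675 i (by omega) (by omega)
                · skip
                  rcases Nat.lt_or_ge i 140725 with h9 | h9
                  · skip
                    exact allRangeF_sound _ _ (checkPointF_eq cert) 140700 25 chkP_140700 i (by omega) (by omega)
                  · skip
                    exact allRangeF_sound _ _ (checkPointF_eq cert) 140725 25 chkP_140725 i (by omega) (by omega)
          · skip
            rcases Nat.lt_or_ge i 140875 with h6 | h6
            · skip
              rcases Nat.lt_or_ge i 140800 with h7 | h7
              · skip
                rcases Nat.lt_or_ge i 140775 with h8 | h8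
                · skip
                  exact allRangeF_sound _ _ (checkPointF_eq cert) 140750 25 chkP_140750 i (by omega) (by omega)
                · skip
                  exact allRangeF_sound _ _ (checkPointF_eq cert) 140775 25 chkP_140775 i (by omega) (by omega)
              · skip
                rcases Nat.lt_or_ge i 140825 with h8 | h8
                · skip
                  exact allRangeF_sound _ _ (checkPointF_eq cert) 140800 25 chkP_140800 i (by omega) (by omega)
                · skip
                  rcases Nat.lt_or_ge i 140850 with h9 | h9
                  · skip
                    exact allRangeF_sound _ _ (checkPointF_eq cert) 140825 25 chkP_140825 i (by omega) (by omega)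
                  · skip
                    exact allRangeF_sound _ _ (checkPointF_eq cert) 140850 25 chkP_140850 i (by omega) (by omega)
            · skip
              rcases Nat.lt_or_ge i 140925 with h7 | h7
              · skip
                rcases Nat.lt_or_ge i 140900 with h8 | h8
                · skip
                  exact allRangeF_sound _ _ (checkPointF_eq cert) 140875 25 chkP_140875 i (by omega) (by omega)
                · skip
                  exact allRangeF_sound _ _ (checkPointF_eq cert) 140900 25 chkP_140900 i (by omega) (by omega)
              · skip
                rcases Nat.lt_or_ge i 140950 with h8 | h8
                · skip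
                  exact allRangeF_sound _ _ (checkPointF_eq cert) 140925 25 chkP_140925 i (by omega) (by omega)
                · skip
                  rcases Nat.lt_or_ge i 140975 with h9 | h9
                  · skip
                    exact allRangeF_sound _ _ (checkPointF_eq cert) 140950 25 chkP_140950 i (by omega) (by omega)
                  · skip
                    exact allRangeF_sound _ _ (checkPointF_eq cert) 140975 25 chkP_140975 i (by omega) (by omega)
      · skip
        rcases Nat.lt_or_ge i 141475 with h4 | h4
        · skip
          rcases Nat.lt_or_ge i 141225 with h5 | h5
          · skip
            rcases Nat.lt_or_ge i 141100 with h6 | h6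
            · skip
              rcases Nat.lt_or_ge i 141050 with h7 | h7
              · skip
                rcases Nat.lt_or_ge i 141025 with h8 | h8
                · skip
                  exact allRangeF_sound _ _ (checkPointF_eq cert) 141000 25 chkP_141000 i (by omega) (by omega)
                · skip
                  exact allRangeF_sound _ _ (checkPointF_eq cert) 141025 25 chkP_141025 i (by omega) (by omega)
              · skip
                rcases Nat.lt_or_ge i 141075 with h8 | h8
                · skip
                  exact allRangeF_sound _ _ (checkPointF_eq cert) 141050 25 chkP_141050 i (by omega) (by omega)
                · skip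
                  exact allRangeF_sound _ _ (checkPointF_eq cert) 141075 25 chkP_141075 i (by omega) (by omega)
            · skip
              rcases Nat.lt_or_ge i 141150 with h7 | h7
              · skip
                rcases Nat.lt_or_ge i 141125 with h8 | h8
                · skip
                  exact allRangeF_sound _ _ (checkPointF_eq cert) 141100 25 chkP_141100 i (by omega) (by omega)
                · skip
                  exact allRangeF_sound _ _ (checkPointF_eq cert) 141125 25 chkP_141125 i (by omega) (by omega)
              · skip
                rcases Nat.lt_or_ge i 141175 with h8 | h8
                · skip
                  exact allRangeF_sound _ _ (checkPointF_eq cert) 141150 25 chkP_141150 i (by omega) (by omega)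
                · skip
                  rcases Nat.lt_or_ge i 141200 with h9 | h9
                  · skip
                    exact allRangeF_sound _ _ (checkPointF_eq cert) 141175 25 chkP_141175 i (by omega) (by omega)
                  · skip
                    exact allRangeF_sound _ _ (checkPointF_eq cert) 141200 25 chkP_141200 i (by omega) (by omega)
          · skip
            rcases Nat.lt_or_ge i 141350 with h6 | h6
            · skip
              rcases Nat.lt_or_ge i 141275 with h7 | h7
              · skip
                rcases Nat.lt_or_ge i 141250 with h8 | h8
                · skip
                  exact allRangeF_sound _ _ (checkPointF_eq cert) 141225 25 chkP_141225 i (by omega) (by omega)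
                · skip
                  exact allRangeF_sound _ _ (checkPointF_eq cert) 141250 25 chkP_141250 i (by omega) (by omega)
              · skip
                rcases Nat.lt_or_ge i 141300 with h8 | h8
                · skip
                  exact allRangeF_sound _ _ (checkPointF_eq cert) 141275 25 chkP_141275 i (by omega) (by omega)
                · skip
                  rcases Nat.lt_or_ge i 141325 with h9 | h9
                  · skip
                    exact allRangeF_sound _ _ (checkPointF_eq cert) 141300 25 chkP_141300 i (by omega) (by omega)
                  · skip
                    exact allRangeF_sound _ _ (checkPointF_eq cert) 141325 25 chkP_141325 i (by omega) (by omega)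
            · skip
              rcases Nat.lt_or_ge i 141400 with h7 | h7
              · skip
                rcases Nat.lt_or_ge i 141375 with h8 | h8
                · skip
                  exact allRangeF_sound _ _ (checkPointF_eq cert) 141350 25 chkP_141350 i (by omega) (by omega)
                · skip
                  exact allRangeF_sound _ _ (checkPointF_eq cert) 141375 25 chkP_141375 i (by omega) (by omega)
              · skip
                rcases Nat.lt_or_ge i 141425 with h8 | h8
                · skip
                  exact allRangeF_sound _ _ (checkPointF_eq cert) 141400 25 chkP_141400 i (by omega) (by omega)
                · skip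
                  rcases Nat.lt_or_ge i 141450 with h9 | h9
                  · skip
                    exact allRangeF_sound _ _ (checkPointF_eq cert) 141425 25 chkP_141425 i (by omega) (by omega)
                  · skip
                    exact allRangeF_sound _ _ (checkPointF_eq cert) 141450 25 chkP_141450 i (by omega) (by omega)
        · skip
          rcases Nat.lt_or_ge i 141725 with h5 | h5
          · skip
            rcases Nat.lt_or_ge i 141600 with h6 | h6
            · skip
              rcases Nat.lt_or_ge i 141525 with h7 | h7
              · skip
                rcases Nat.lt_or_ge i 141500 with h8 | h8
                · skip
                  exact allRangeF_sound _ _ (checkPointF_eq cert) 141475 25 chkP_141475 i (by omega) (by omega)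
                · skip
                  exact allRangeF_sound _ _ (checkPointF_eq cert) 141500 25 chkP_141500 i (by omega) (by omega)
              · skip
                rcases Nat.lt_or_ge i 141550 with h8 | h8
                · skip
                  exact allRangeF_sound _ _ (checkPointF_eq cert) 141525 25 chkP_141525 i (by omega) (by omega)
                · skip
                  rcases Nat.lt_or_ge i 141575 with h9 | h9
                  · skip
                    exact allRangeF_sound _ _ (checkPointF_eq cert) 141550 25 chkP_141550 i (by omega) (by omega)
                  · skip
                    exact allRangeF_sound _ _ (checkPointF_eq cert) 141575 25 chkP_141575 i (by omega) (by omega)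
            · skip
              rcases Nat.lt_or_ge i 141650 with h7 | h7
              · skip
                rcases Nat.lt_or_ge i 141625 with h8 | h8
                · skip
                  exact allRangeF_sound _ _ (checkPointF_eq cert) 141600 25 chkP_141600 i (by omega) (by omega)
                · skip
                  exact allRangeF_sound _ _ (checkPointF_eq cert) 141625 25 chkP_141625 i (by omega) (by omega)
              · skip
                rcases Nat.lt_or_ge i 141675 with h8 | h8
                · skip
                  exact allRangeF_sound _ _ (checkPointF_eq cert) 141650 25 chkP_141650 i (by omega) (by omega)
                · skip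
                  rcases Nat.lt_or_ge i 141700 with h9 | h9
                  · skip
                    exact allRangeF_sound _ _ (checkPointF_eq cert) 141675 25 chkP_141675 i (by omega) (by omega)
                  · skip
                    exact allRangeF_sound _ _ (checkPointF_eq cert) 141700 25 chkP_141700 i (by omega) (by omega)
          · skip
            rcases Nat.lt_or_ge i 141850 with h6 | h6
            · skip
              rcases Nat.lt_or_ge i 141775 with h7 | h7
              · skip
                rcases Nat.lt_or_ge i 141750 with h8 | h8
                · skip
                  exact allRangeF_sound _ _ (checkPointF_eq cert) 141725 25 chkP_141725 i (by omega) (by omega)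
                · skip
                  exact allRangeF_sound _ _ (checkPointF_eq cert) 141750 25 chkP_141750 i (by omega) (by omega)
              · skip
                rcases Nat.lt_or_ge i 141800 with h8 | h8
                · skip
                  exact allRangeF_sound _ _ (checkPointF_eq cert) 141775 25 chkP_141775 i (by omega) (by omega)
                · skip
                  rcases Nat.lt_or_ge i 141825 with h9 | h9
                  · skip
                    exact allRangeF_sound _ _ (checkPointF_eq cert) 141800 25 chkP_141800 i (by omega) (by omega)
                  · skip
                    exact allRangeF_sound _ _ (checkPointF_eq cert) 141825 25 chkP_141825 i (by omega) (by omega)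
            · skip
              rcases Nat.lt_or_ge i 141900 with h7 | h7
              · skip
                rcases Nat.lt_or_ge i 141875 with h8 | h8
                · skip
                  exact allRangeF_sound _ _ (checkPointF_eq cert) 141850 25 chkP_141850 i (by omega) (by omega)
                · skip
                  exact allRangeF_sound _ _ (checkPointF_eq cert) 141875 25 chkP_141875 i (by omega) (by omega)
              · skip
                rcases Nat.lt_or_ge i 141925 with h8 | h8
                · skip
                  exact allRangeF_sound _ _ (checkPointF_eq cert) 141900 25 chkP_141900 i (by omega) (by omega)
                · skip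
                  rcases Nat.lt_or_ge i 141950 with h9 | h9
                  · skip
                    exact allRangeF_sound _ _ (checkPointF_eq cert) 141925 25 chkP_141925 i (by omega) (by omega)
                  · skip
                    exact allRangeF_sound _ _ (checkPointF_eq cert) 141950 25 chkP_141950 i (by omega) (by omega)
  · skip
    rcases Nat.lt_or_ge i 143900 with h2 | h2
    · skip
      rcases Nat.lt_or_ge i 142925 with h3 | h3
      · skip
        rcases Nat.lt_or_ge i 142450 with h4 | h4
        · skip
          rcases Nat.lt_or_ge i 142200 with h5 | h5
          · skip
            rcases Nat.lt_or_ge i 142075 with h6 | h6
            · skip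
              rcases Nat.lt_or_ge i 142025 with h7 | h7
              · skip
                rcases Nat.lt_or_ge i 142000 with h8 | h8
                · skip
                  exact allRangeF_sound _ _ (checkPointF_eq cert) 141975 25 chkP_141975 i (by omega) (by omega)
                · skip
                  exact allRangeF_sound _ _ (checkPointF_eq cert) 142000 25 chkP_142000 i (by omega) (by omega)
              · skip
                rcases Nat.lt_or_ge i 142050 with h8 | h8
                · skip
                  exact allRangeF_sound _ _ (checkPointF_eq cert) 142025 25 chkP_142025 i (by omega) (by omega)
                · skip
                  exact allRangeF_sound _ _ (checkPointF_eq cert) 142050 25 chkP_142050 i (by omega) (by omega)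
            · skip
              rcases Nat.lt_or_ge i 142125 with h7 | h7
              · skip
                rcases Nat.lt_or_ge i 142100 with h8 | h8
                · skip
                  exact allRangeF_sound _ _ (checkPointF_eq cert) 142075 25 chkP_142075 i (by omega) (by omega)
                · skip
                  exact allRangeF_sound _ _ (checkPointF_eq cert) 142100 25 chkP_142100 i (by omega) (by omega)
              · skip
                rcases Nat.lt_or_ge i 142150 with h8 | h8
                · skip
                  exact allRangeF_sound _ _ (checkPointF_eq cert) 142125 25 chkP_142125 i (by omega) (by omega)
                · skip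
                  rcases Nat.lt_or_ge i 142175 with h9 | h9
                  · skip
                    exact allRangeF_sound _ _ (checkPointF_eq cert) 142150 25 chkP_142150 i (by omega) (by omega)
                  · skip
                    exact allRangeF_sound _ _ (checkPointF_eq cert) 142175 25 chkP_142175 i (by omega) (by omega)
          · skip
            rcases Nat.lt_or_ge i 142325 with h6 | h6
            · skip
              rcases Nat.lt_or_ge i 142250 with h7 | h7
              · skip
                rcases Nat.lt_or_ge i 142225 with h8 | h8
                · skip
                  exact allRangeF_sound _ _ (checkPointF_eq cert) 142200 25 chkP_142200 i (by omega) (by omega)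
                · skip
                  exact allRangeF_sound _ _ (checkPointF_eq cert) 142225 25 chkP_142225 i (by omega) (by omega)
              · skip
                rcases Nat.lt_or_ge i 142275 with h8 | h8
                · skip
                  exact allRangeF_sound _ _ (checkPointF_eq cert) 142250 25 chkP_142250 i (by omega) (by omega)
                · skip
                  rcases Nat.lt_or_ge i 142300 with h9 | h9
                  · skip
                    exact allRangeF_sound _ _ (checkPointF_eq cert) 142275 25 chkP_142275 i (by omega) (by omega)
                  · skip
                    exact allRangeF_sound _ _ (checkPointF_eq cert) 142300 25 chkP_142300 i (by omega) (by omega)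
            · skip
              rcases Nat.lt_or_ge i 142375 with h7 | h7
              · skip
                rcases Nat.lt_or_ge i 142350 with h8 | h8
                · skip
                  exact allRangeF_sound _ _ (checkPointF_eq cert) 142325 25 chkP_142325 i (by omega) (by omega)
                · skip
                  exact allRangeF_sound _ _ (checkPointF_eq cert) 142350 25 chkP_142350 i (by omega) (by omega)
              · skip
                rcases Nat.lt_or_ge i 142400 with h8 | h8
                · skip
                  exact allRangeF_sound _ _ (checkPointF_eq cert) 142375 25 chkP_142375 i (by omega) (by omega)
                · skip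
                  rcases Nat.lt_or_ge i 142425 with h9 | h9
                  · skip
                    exact allRangeF_sound _ _ (checkPointF_eq cert) 142400 25 chkP_142400 i (by omega) (by omega)
                  · skip
                    exact allRangeF_sound _ _ (checkPointF_eq cert) 142425 25 chkP_142425 i (by omega) (by omega)
        · skip
          rcases Nat.lt_or_ge i 142675 with h5 | h5
          · skip
            rcases Nat.lt_or_ge i 142550 with h6 | h6
            · skip
              rcases Nat.lt_or_ge i 142500 with h7 | h7
              · skip
                rcases Nat.lt_or_ge i 142475 with h8 | h8
                · skip
                  exact allRangeF_sound _ _ (checkPointF_eq cert) 142450 25 chkP_142450 i (by omega) (by omega)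
                · skip
                  exact allRangeF_sound _ _ (checkPointF_eq cert) 142475 25 chkP_142475 i (by omega) (by omega)
              · skip
                rcases Nat.lt_or_ge i 142525 with h8 | h8
                · skip
                  exact allRangeF_sound _ _ (checkPointF_eq cert) 142500 25 chkP_142500 i (by omega) (by omega)
                · skip
                  exact allRangeF_sound _ _ (checkPointF_eq cert) 142525 25 chkP_142525 i (by omega) (by omega)
            · skip
              rcases Nat.lt_or_ge i 142600 with h7 | h7
              · skip
                rcases Nat.lt_or_ge i 142575 with h8 | h8
                · skip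
                  exact allRangeF_sound _ _ (checkPointF_eq cert) 142550 25 chkP_142550 i (by omega) (by omega)
                · skip
                  exact allRangeF_sound _ _ (checkPointF_eq cert) 142575 25 chkP_142575 i (by omega) (by omega)
              · skip
                rcases Nat.lt_or_ge i 142625 with h8 | h8
                · skip
                  exact allRangeF_sound _ _ (checkPointF_eq cert) 142600 25 chkP_142600 i (by omega) (by omega)
                · skip
                  rcases Nat.lt_or_ge i 142650 with h9 | h9
                  · skip
                    exact allRangeF_sound _ _ (checkPointF_eq cert) 142625 25 chkP_142625 i (by omega) (by omega)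
                  · skip
                    exact allRangeF_sound _ _ (checkPointF_eq cert) 142650 25 chkP_142650 i (by omega) (by omega)
          · skip
            rcases Nat.lt_or_ge i 142800 with h6 | h6
            · skip
              rcases Nat.lt_or_ge i 142725 with h7 | h7
              · skip
                rcases Nat.lt_or_ge i 142700 with h8 | h8
                · skip
                  exact allRangeF_sound _ _ (checkPointF_eq cert) 142675 25 chkP_142675 i (by omega) (by omega)
                · skip
                  exact allRangeF_sound _ _ (checkPointF_eq cert) 142700 25 chkP_142700 i (by omega) (by omega)
              · skip
                rcases Nat.lt_or_ge i 142750 with h8 | h8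
                · skip
                  exact allRangeF_sound _ _ (checkPointF_eq cert) 142725 25 chkP_142725 i (by omega) (by omega)
                · skip
                  rcases Nat.lt_or_ge i 142775 with h9 | h9
                  · skip
                    exact allRangeF_sound _ _ (checkPointF_eq cert) 142750 25 chkP_142750 i (by omega) (by omega)
                  · skip
                    exact allRangeF_sound _ _ (checkPointF_eq cert) 142775 25 chkP_142775 i (by omega) (by omega)
            · skip
              rcases Nat.lt_or_ge i 142850 with h7 | h7
              · skip
                rcases Nat.lt_or_ge i 142825 with h8 | h8
                · skip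
                  exact allRangeF_sound _ _ (checkPointF_eq cert) 142800 25 chkP_142800 i (by omega) (by omega)
                · skip
                  exact allRangeF_sound _ _ (checkPointF_eq cert) 142825 25 chkP_142825 i (by omega) (by omega)
              · skip
                rcases Nat.lt_or_ge i 142875 with h8 | h8
                · skip
                  exact allRangeF_sound _ _ (checkPointF_eq cert) 142850 25 chkP_142850 i (by omega) (by omega)
                · skip
                  rcases Nat.lt_or_ge i 142900 with h9 | h9
                  · skip
                    exact allRangeF_sound _ _ (checkPointF_eq cert) 142875 25 chkP_142875 i (by omega) (by omega)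
                  · skip
                    exact allRangeF_sound _ _ (checkPointF_eq cert) 142900 25 chkP_142900 i (by omega) (by omega)
      · skip
        rcases Nat.lt_or_ge i 143400 with h4 | h4
        · skip
          rcases Nat.lt_or_ge i 143150 with h5 | h5
          · skip
            rcases Nat.lt_or_ge i 143025 with h6 | h6
            · skip
              rcases Nat.lt_or_ge i 142975 with h7 | h7
              · skip
                rcases Nat.lt_or_ge i 142950 with h8 | h8
                · skip
                  exact allRangeF_sound _ _ (checkPointF_eq cert) 142925 25 chkP_142925 i (by omega) (by omega)
                · skip
                  exact allRangeF_sound _ _ (checkPointF_eq cert) 142950 25 chkP_142950 i (by omega) (by omega)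
              · skip
                rcases Nat.lt_or_ge i 143000 with h8 | h8
                · skip
                  exact allRangeF_sound _ _ (checkPointF_eq cert) 142975 25 chkP_142975 i (by omega) (by omega)
                · skip
                  exact allRangeF_sound _ _ (checkPointF_eq cert) 143000 25 chkP_143000 i (by omega) (by omega)
            · skip
              rcases Nat.lt_or_ge i 143075 with h7 | h7
              · skip
                rcases Nat.lt_or_ge i 143050 with h8 | h8
                · skip
                  exact allRangeF_sound _ _ (checkPointF_eq cert) 143025 25 chkP_143025 i (by omega) (by omega)
                · skip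
                  exact allRangeF_sound _ _ (checkPointF_eq cert) 143050 25 chkP_143050 i (by omega) (by omega)
              · skip
                rcases Nat.lt_or_ge i 143100 with h8 | h8
                · skip
                  exact allRangeF_sound _ _ (checkPointF_eq cert) 143075 25 chkP_143075 i (by omega) (by omega)
                · skip
                  rcases Nat.lt_or_ge i 143125 with h9 | h9
                  · skip
                    exact allRangeF_sound _ _ (checkPointF_eq cert) 143100 25 chkP_143100 i (by omega) (by omega)
                  · skip
                    exact allRangeF_sound _ _ (checkPointF_eq cert) 143125 25 chkP_143125 i (by omega) (by omega)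
          · skip
            rcases Nat.lt_or_ge i 143275 with h6 | h6
            · skip
              rcases Nat.lt_or_ge i 143200 with h7 | h7
              · skip
                rcases Nat.lt_or_ge i 143175 with h8 | h8
                · skip
                  exact allRangeF_sound _ _ (checkPointF_eq cert) 143150 25 chkP_143150 i (by omega) (by omega)
                · skip
                  exact allRangeF_sound _ _ (checkPointF_eq cert) 143175 25 chkP_143175 i (by omega) (by omega)
              · skip
                rcases Nat.lt_or_ge i 143225 with h8 | h8
                · skip
                  exact allRangeF_sound _ _ (checkPointF_eq cert) 143200 25 chkP_143200 i (by omega) (by omega)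
                · skip
                  rcases Nat.lt_or_ge i 143250 with h9 | h9
                  · skip
                    exact allRangeF_sound _ _ (checkPointF_eq cert) 143225 25 chkP_143225 i (by omega) (by omega)
                  · skip
                    exact allRangeF_sound _ _ (checkPointF_eq cert) 143250 25 chkP_143250 i (by omega) (by omega)
            · skip
              rcases Nat.lt_or_ge i 143325 with h7 | h7
              · skip
                rcases Nat.lt_or_ge i 143300 with h8 | h8
                · skip
                  exact allRangeF_sound _ _ (checkPointF_eq cert) 143275 25 chkP_143275 i (by omega) (by omega)
                · skip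
                  exact allRangeF_sound _ _ (checkPointF_eq cert) 143300 25 chkP_143300 i (by omega) (by omega)
              · skip
                rcases Nat.lt_or_ge i 143350 with h8 | h8
                · skip
                  exact allRangeF_sound _ _ (checkPointF_eq cert) 143325 25 chkP_143325 i (by omega) (by omega)
                · skip
                  rcases Nat.lt_or_ge i 143375 with h9 | h9
                  · skip
                    exact allRangeF_sound _ _ (checkPointF_eq cert) 143350 25 chkP_143350 i (by omega) (by omega)
                  · skip
                    exact allRangeF_sound _ _ (checkPointF_eq cert) 143375 25 chkP_143375 i (by omega) (by omega)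
        · skip
          rcases Nat.lt_or_ge i 143650 with h5 | h5
          · skip
            rcases Nat.lt_or_ge i 143525 with h6 | h6
            · skip
              rcases Nat.lt_or_ge i 143450 with h7 | h7
              · skip
                rcases Nat.lt_or_ge i 143425 with h8 | h8
                · skip
                  exact allRangeF_sound _ _ (checkPointF_eq cert) 143400 25 chkP_143400 i (by omega) (by omega)
                · skip
                  exact allRangeF_sound _ _ (checkPointF_eq cert) 143425 25 chkP_143425 i (by omega) (by omega)
              · skip
                rcases Nat.lt_or_ge i 143475 with h8 | h8
                · skip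
                  exact allRangeF_sound _ _ (checkPointF_eq cert) 143450 25 chkP_143450 i (by omega) (by omega)
                · skip
                  rcases Nat.lt_or_ge i 143500 with h9 | h9
                  · skip
                    exact allRangeF_sound _ _ (checkPointF_eq cert) 143475 25 chkP_143475 i (by omega) (by omega)
                  · skip
                    exact allRangeF_sound _ _ (checkPointF_eq cert) 143500 25 chkP_143500 i (by omega) (by omega)
            · skip
              rcases Nat.lt_or_ge i 143575 with h7 | h7
              · skip
                rcases Nat.lt_or_ge i 143550 with h8 | h8
                · skip
                  exact allRangeF_sound _ _ (checkPointF_eq cert) 143525 25 chkP_143525 i (by omega) (by omega)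
                · skip
                  exact allRangeF_sound _ _ (checkPointF_eq cert) 143550 25 chkP_143550 i (by omega) (by omega)
              · skip
                rcases Nat.lt_or_ge i 143600 with h8 | h8
                · skip
                  exact allRangeF_sound _ _ (checkPointF_eq cert) 143575 25 chkP_143575 i (by omega) (by omega)
                · skip
                  rcases Nat.lt_or_ge i 143625 with h9 | h9
                  · skip
                    exact allRangeF_sound _ _ (checkPointF_eq cert) 143600 25 chkP_143600 i (by omega) (by omega)
                  · skip
                    exact allRangeF_sound _ _ (checkPointF_eq cert) 143625 25 chkP_143625 i (by omega) (by omega)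
          · skip
            rcases Nat.lt_or_ge i 143775 with h6 | h6
            · skip
              rcases Nat.lt_or_ge i 143700 with h7 | h7
              · skip
                rcases Nat.lt_or_ge i 143675 with h8 | h8
                · skip
                  exact allRangeF_sound _ _ (checkPointF_eq cert) 143650 25 chkP_143650 i (by omega) (by omega)
                · skip
                  exact allRangeF_sound _ _ (checkPointF_eq cert) 143675 25 chkP_143675 i (by omega) (by omega)
              · skip
                rcases Nat.lt_or_ge i 143725 with h8 | h8
                · skip
                  exact allRangeF_sound _ _ (checkPointF_eq cert) 143700 25 chkP_143700 i (by omega) (by omega)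
                · skip
                  rcases Nat.lt_or_ge i 143750 with h9 | h9
                  · skip
                    exact allRangeF_sound _ _ (checkPointF_eq cert) 143725 25 chkP_143725 i (by omega) (by omega)
                  · skip
                    exact allRangeF_sound _ _ (checkPointF_eq cert) 143750 25 chkP_143750 i (by omega) (by omega)
            · skip
              rcases Nat.lt_or_ge i 143825 with h7 | h7
              · skip
                rcases Nat.lt_or_ge i 143800 with h8 | h8
                · skip
                  exact allRangeF_sound _ _ (checkPointF_eq cert) 143775 25 chkP_143775 i (by omega) (by omega)
                · skip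
                  exact allRangeF_sound _ _ (checkPointF_eq cert) 143800 25 chkP_143800 i (by omega) (by omega)
              · skip
                rcases Nat.lt_or_ge i 143850 with h8 | h8
                · skip
                  exact allRangeF_sound _ _ (checkPointF_eq cert) 143825 25 chkP_143825 i (by omega) (by omega)
                · skip
                  rcases Nat.lt_or_ge i 143875 with h9 | h9
                  · skip
                    exact allRangeF_sound _ _ (checkPointF_eq cert) 143850 25 chkP_143850 i (by omega) (by omega)
                  · skip
                    exact allRangeF_sound _ _ (checkPointF_eq cert) 143875 25 chkP_143875 i (by omega) (by omega)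
    · skip
      rcases Nat.lt_or_ge i 144850 with h3 | h3
      · skip
        rcases Nat.lt_or_ge i 144375 with h4 | h4
        · skip
          rcases Nat.lt_or_ge i 144125 with h5 | h5
          · skip
            rcases Nat.lt_or_ge i 144000 with h6 | h6
            · skip
              rcases Nat.lt_or_ge i 143950 with h7 | h7
              · skip
                rcases Nat.lt_or_ge i 143925 with h8 | h8
                · skip
                  exact allRangeF_sound _ _ (checkPointF_eq cert) 143900 25 chkP_143900 i (by omega) (by omega)
                · skip
                  exact allRangeF_sound _ _ (checkPointF_eq cert) 143925 25 chkP_143925 i (by omega) (by omega)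
              · skip
                rcases Nat.lt_or_ge i 143975 with h8 | h8
                · skip
                  exact allRangeF_sound _ _ (checkPointF_eq cert) 143950 25 chkP_143950 i (by omega) (by omega)
                · skip
                  exact allRangeF_sound _ _ (checkPointF_eq cert) 143975 25 chkP_143975 i (by omega) (by omega)
            · skip
              rcases Nat.lt_or_ge i 144050 with h7 | h7
              · skip
                rcases Nat.lt_or_ge i 144025 with h8 | h8
                · skip
                  exact allRangeF_sound _ _ (checkPointF_eq cert) 144000 25 chkP_144000 i (by omega) (by omega)
                · skip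
                  exact allRangeF_sound _ _ (checkPointF_eq cert) 144025 25 chkP_144025 i (by omega) (by omega)
              · skip
                rcases Nat.lt_or_ge i 144075 with h8 | h8
                · skip
                  exact allRangeF_sound _ _ (checkPointF_eq cert) 144050 25 chkP_144050 i (by omega) (by omega)
                · skip
                  rcases Nat.lt_or_ge i 144100 with h9 | h9
                  · skip
                    exact allRangeF_sound _ _ (checkPointF_eq cert) 144075 25 chkP_144075 i (by omega) (by omega)
                  · skip
                    exact allRangeF_sound _ _ (checkPointF_eq cert) 144100 25 chkP_144100 i (by omega) (by omega)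
          · skip
            rcases Nat.lt_or_ge i 144250 with h6 | h6
            · skip
              rcases Nat.lt_or_ge i 144175 with h7 | h7
              · skip
                rcases Nat.lt_or_ge i 144150 with h8 | h8
                · skip
                  exact allRangeF_sound _ _ (checkPointF_eq cert) 144125 25 chkP_144125 i (by omega) (by omega)
                · skip
                  exact allRangeF_sound _ _ (checkPointF_eq cert) 144150 25 chkP_144150 i (by omega) (by omega)
              · skip
                rcases Nat.lt_or_ge i 144200 with h8 | h8
                · skip
                  exact allRangeF_sound _ _ (checkPointF_eq cert) 144175 25 chkP_144175 i (by omega) (by omega)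
                · skip
                  rcases Nat.lt_or_ge i 144225 with h9 | h9
                  · skip
                    exact allRangeF_sound _ _ (checkPointF_eq cert) 144200 25 chkP_144200 i (by omega) (by omega)
                  · skip
                    exact allRangeF_sound _ _ (checkPointF_eq cert) 144225 25 chkP_144225 i (by omega) (by omega)
            · skip
              rcases Nat.lt_or_ge i 144300 with h7 | h7
              · skip
                rcases Nat.lt_or_ge i 144275 with h8 | h8
                · skip
                  exact allRangeF_sound _ _ (checkPointF_eq cert) 144250 25 chkP_144250 i (by omega) (by omega)
                · skip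
                  exact allRangeF_sound _ _ (checkPointF_eq cert) 144275 25 chkP_144275 i (by omega) (by omega)
              · skip
                rcases Nat.lt_or_ge i 144325 with h8 | h8
                · skip
                  exact allRangeF_sound _ _ (checkPointF_eq cert) 144300 25 chkP_144300 i (by omega) (by omega)
                · skip
                  rcases Nat.lt_or_ge i 144350 with h9 | h9
                  · skip
                    exact allRangeF_sound _ _ (checkPointF_eq cert) 144325 25 chkP_144325 i (by omega) (by omega)
                  · skip
                    exact allRangeF_sound _ _ (checkPointF_eq cert) 144350 25 chkP_144350 i (by omega) (by omega)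
        · skip
          rcases Nat.lt_or_ge i 144600 with h5 | h5
          · skip
            rcases Nat.lt_or_ge i 144475 with h6 | h6
            · skip
              rcases Nat.lt_or_ge i 144425 with h7 | h7
              · skip
                rcases Nat.lt_or_ge i 144400 with h8 | h8
                · skip
                  exact allRangeF_sound _ _ (checkPointF_eq cert) 144375 25 chkP_144375 i (by omega) (by omega)
                · skip
                  exact allRangeF_sound _ _ (checkPointF_eq cert) 144400 25 chkP_144400 i (by omega) (by omega)
              · skip
                rcases Nat.lt_or_ge i 144450 with h8 | h8
                · skip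
                  exact allRangeF_sound _ _ (checkPointF_eq cert) 144425 25 chkP_144425 i (by omega) (by omega)
                · skip
                  exact allRangeF_sound _ _ (checkPointF_eq cert) 144450 25 chkP_144450 i (by omega) (by omega)
            · skip
              rcases Nat.lt_or_ge i 144525 with h7 | h7
              · skip
                rcases Nat.lt_or_ge i 144500 with h8 | h8
                · skip
                  exact allRangeF_sound _ _ (checkPointF_eq cert) 144475 25 chkP_144475 i (by omega) (by omega)
                · skip
                  exact allRangeF_sound _ _ (checkPointF_eq cert) 144500 25 chkP_144500 i (by omega) (by omega)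
              · skip
                rcases Nat.lt_or_ge i 144550 with h8 | h8
                · skip
                  exact allRangeF_sound _ _ (checkPointF_eq cert) 144525 25 chkP_144525 i (by omega) (by omega)
                · skip
                  rcases Nat.lt_or_ge i 144575 with h9 | h9
                  · skip
                    exact allRangeF_sound _ _ (checkPointF_eq cert) 144550 25 chkP_144550 i (by omega) (by omega)
                  · skip
                    exact allRangeF_sound _ _ (checkPointF_eq cert) 144575 25 chkP_144575 i (by omega) (by omega)
          · skip
            rcases Nat.lt_or_ge i 144725 with h6 | h6
            · skip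
              rcases Nat.lt_or_ge i 144650 with h7 | h7
              · skip
                rcases Nat.lt_or_ge i 144625 with h8 | h8
                · skip
                  exact allRangeF_sound _ _ (checkPointF_eq cert) 144600 25 chkP_144600 i (by omega) (by omega)
                · skip
                  exact allRangeF_sound _ _ (checkPointF_eq cert) 144625 25 chkP_144625 i (by omega) (by omega)
              · skip
                rcases Nat.lt_or_ge i 144675 with h8 | h8
                · skip
                  exact allRangeF_sound _ _ (checkPointF_eq cert) 144650 25 chkP_144650 i (by omega) (by omega)
                · skip
                  rcases Nat.lt_or_ge i 144700 with h9 | h9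
                  · skip
                    exact allRangeF_sound _ _ (checkPointF_eq cert) 144675 25 chkP_144675 i (by omega) (by omega)
                  · skip
                    exact allRangeF_sound _ _ (checkPointF_eq cert) 144700 25 chkP_144700 i (by omega) (by omega)
            · skip
              rcases Nat.lt_or_ge i 144775 with h7 | h7
              · skip
                rcases Nat.lt_or_ge i 144750 with h8 | h8
                · skip
                  exact allRangeF_sound _ _ (checkPointF_eq cert) 144725 25 chkP_144725 i (by omega) (by omega)
                · skip
                  exact allRangeF_sound _ _ (checkPointF_eq cert) 144750 25 chkP_144750 i (by omega) (by omega)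
              · skip
                rcases Nat.lt_or_ge i 144800 with h8 | h8
                · skip
                  exact allRangeF_sound _ _ (checkPointF_eq cert) 144775 25 chkP_144775 i (by omega) (by omega)
                · skip
                  rcases Nat.lt_or_ge i 144825 with h9 | h9
                  · skip
                    exact allRangeF_sound _ _ (checkPointF_eq cert) 144800 25 chkP_144800 i (by omega) (by omega)
                  · skip
                    exact allRangeF_sound _ _ (checkPointF_eq cert) 144825 25 chkP_144825 i (by omega) (by omega)
      · skip
        rcases Nat.lt_or_ge i 145325 with h4 | h4
        · skip
          rcases Nat.lt_or_ge i 145075 with h5 | h5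
          · skip
            rcases Nat.lt_or_ge i 144950 with h6 | h6
            · skip
              rcases Nat.lt_or_ge i 144900 with h7 | h7
              · skip
                rcases Nat.lt_or_ge i 144875 with h8 | h8
                · skip
                  exact allRangeF_sound _ _ (checkPointF_eq cert) 144850 25 chkP_144850 i (by omega) (by omega)
                · skip
                  exact allRangeF_sound _ _ (checkPointF_eq cert) 144875 25 chkP_144875 i (by omega) (by omega)
              · skip
                rcases Nat.lt_or_ge i 144925 with h8 | h8
                · skip
                  exact allRangeF_sound _ _ (checkPointF_eq cert) 144900 25 chkP_144900 i (by omega) (by omega)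
                · skip
                  exact allRangeF_sound _ _ (checkPointF_eq cert) 144925 25 chkP_144925 i (by omega) (by omega)
            · skip
              rcases Nat.lt_or_ge i 145000 with h7 | h7
              · skip
                rcases Nat.lt_or_ge i 144975 with h8 | h8
                · skip
                  exact allRangeF_sound _ _ (checkPointF_eq cert) 144950 25 chkP_144950 i (by omega) (by omega)
                · skip
                  exact allRangeF_sound _ _ (checkPointF_eq cert) 144975 25 chkP_144975 i (by omega) (by omega)
              · skip
                rcases Nat.lt_or_ge i 145025 with h8 | h8
                · skip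
                  exact allRangeF_sound _ _ (checkPointF_eq cert) 145000 25 chkP_145000 i (by omega) (by omega)
                · skip
                  rcases Nat.lt_or_ge i 145050 with h9 | h9
                  · skip
                    exact allRangeF_sound _ _ (checkPointF_eq cert) 145025 25 chkP_145025 i (by omega) (by omega)
                  · skip
                    exact allRangeF_sound _ _ (checkPointF_eq cert) 145050 25 chkP_145050 i (by omega) (by omega)
          · skip
            rcases Nat.lt_or_ge i 145200 with h6 | h6
            · skip
              rcases Nat.lt_or_ge i 145125 with h7 | h7
              · skip
                rcases Nat.lt_or_ge i 145100 with h8 | h8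
                · skip
                  exact allRangeF_sound _ _ (checkPointF_eq cert) 145075 25 chkP_145075 i (by omega) (by omega)
                · skip
                  exact allRangeF_sound _ _ (checkPointF_eq cert) 145100 25 chkP_145100 i (by omega) (by omega)
              · skip
                rcases Nat.lt_or_ge i 145150 with h8 | h8
                · skip
                  exact allRangeF_sound _ _ (checkPointF_eq cert) 145125 25 chkP_145125 i (by omega) (by omega)
                · skip
                  rcases Nat.lt_or_ge i 145175 with h9 | h9
                  · skip
                    exact allRangeF_sound _ _ (checkPointF_eq cert) 145150 25 chkP_145150 i (by omega) (by omega)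
                  · skip
                    exact allRangeF_sound _ _ (checkPointF_eq cert) 145175 25 chkP_145175 i (by omega) (by omega)
            · skip
              rcases Nat.lt_or_ge i 145250 with h7 | h7
              · skip
                rcases Nat.lt_or_ge i 145225 with h8 | h8
                · skip
                  exact allRangeF_sound _ _ (checkPointF_eq cert) 145200 25 chkP_145200 i (by omega) (by omega)
                · skip
                  exact allRangeF_sound _ _ (checkPointF_eq cert) 145225 25 chkP_145225 i (by omega) (by omega)
              · skip
                rcases Nat.lt_or_ge i 145275 with h8 | h8
                · skip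
                  exact allRangeF_sound _ _ (checkPointF_eq cert) 145250 25 chkP_145250 i (by omega) (by omega)
                · skip
                  rcases Nat.lt_or_ge i 145300 with h9 | h9
                  · skip
                    exact allRangeF_sound _ _ (checkPointF_eq cert) 145275 25 chkP_145275 i (by omega) (by omega)
                  · skip
                    exact allRangeF_sound _ _ (checkPointF_eq cert) 145300 25 chkP_145300 i (by omega) (by omega)
        · skip
          rcases Nat.lt_or_ge i 145575 with h5 | h5
          · skip
            rcases Nat.lt_or_ge i 145450 with h6 | h6
            · skip
              rcases Nat.lt_or_ge i 145375 with h7 | h7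
              · skip
                rcases Nat.lt_or_ge i 145350 with h8 | h8
                · skip
                  exact allRangeF_sound _ _ (checkPointF_eq cert) 145325 25 chkP_145325 i (by omega) (by omega)
                · skip
                  exact allRangeF_sound _ _ (checkPointF_eq cert) 145350 25 chkP_145350 i (by omega) (by omega)
              · skip
                rcases Nat.lt_or_ge i 145400 with h8 | h8
                · skip
                  exact allRangeF_sound _ _ (checkPointF_eq cert) 145375 25 chkP_145375 i (by omega) (by omega)
                · skip
                  rcases Nat.lt_or_ge i 145425 with h9 | h9
                  · skip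
                    exact allRangeF_sound _ _ (checkPointF_eq cert) 145400 25 chkP_145400 i (by omega) (by omega)
                  · skip
                    exact allRangeF_sound _ _ (checkPointF_eq cert) 145425 25 chkP_145425 i (by omega) (by omega)
            · skip
              rcases Nat.lt_or_ge i 145500 with h7 | h7
              · skip
                rcases Nat.lt_or_ge i 145475 with h8 | h8
                · skip
                  exact allRangeF_sound _ _ (checkPointF_eq cert) 145450 25 chkP_145450 i (by omega) (by omega)
                · skip
                  exact allRangeF_sound _ _ (checkPointF_eq cert) 145475 25 chkP_145475 i (by omega) (by omega)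
              · skip
                rcases Nat.lt_or_ge i 145525 with h8 | h8
                · skip
                  exact allRangeF_sound _ _ (checkPointF_eq cert) 145500 25 chkP_145500 i (by omega) (by omega)
                · skip
                  rcases Nat.lt_or_ge i 145550 with h9 | h9
                  · skip
                    exact allRangeF_sound _ _ (checkPointF_eq cert) 145525 25 chkP_145525 i (by omega) (by omega)
                  · skip
                    exact allRangeF_sound _ _ (checkPointF_eq cert) 145550 25 chkP_145550 i (by omega) (by omega)
          · skip
            rcases Nat.lt_or_ge i 145700 with h6 | h6
            · skip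
              rcases Nat.lt_or_ge i 145625 with h7 | h7
              · skip
                rcases Nat.lt_or_ge i 145600 with h8 | h8
                · skip
                  exact allRangeF_sound _ _ (checkPointF_eq cert) 145575 25 chkP_145575 i (by omega) (by omega)
                · skip
                  exact allRangeF_sound _ _ (checkPointF_eq cert) 145600 25 chkP_145600 i (by omega) (by omega)
              · skip
                rcases Nat.lt_or_ge i 145650 with h8 | h8
                · skip
                  exact allRangeF_sound _ _ (checkPointF_eq cert) 145625 25 chkP_145625 i (by omega) (by omega)
                · skip
                  rcases Nat.lt_or_ge i 145675 with h9 | h9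
                  · skip
                    exact allRangeF_sound _ _ (checkPointF_eq cert) 145650 25 chkP_145650 i (by omega) (by omega)
                  · skip
                    exact allRangeF_sound _ _ (checkPointF_eq cert) 145675 25 chkP_145675 i (by omega) (by omega)
            · skip
              rcases Nat.lt_or_ge i 145750 with h7 | h7
              · skip
                rcases Nat.lt_or_ge i 145725 with h8 | h8
                · skip
                  exact allRangeF_sound _ _ (checkPointF_eq cert) 145700 25 chkP_145700 i (by omega) (by omega)
                · skip
                  exact allRangeF_sound _ _ (checkPointF_eq cert) 145725 25 chkP_145725 i (by omega) (by omega)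
              · skip
                rcases Nat.lt_or_ge i 145775 with h8 | h8
                · skip
                  exact allRangeF_sound _ _ (checkPointF_eq cert) 145750 25 chkP_145750 i (by omega) (by omega)
                · skip
                  rcases Nat.lt_or_ge i 145800 with h9 | h9
                  · skip
                    exact allRangeF_sound _ _ (checkPointF_eq cert) 145775 25 chkP_145775 i (by omega) (by omega)
                  · skip
                    exact allRangeF_sound _ _ (checkPointF_eq cert) 145800 25 chkP_145800 i (by omega) (by omega)

end Cfsg.Agent.Lib.Helper28.Fi24Data
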