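import Cfsg.Agent.Lib.Helper28.Fi24Data
import Cfsg.Agent.Lib.Helper28.TCFastB

set_option autoImplicit false
set_option maxRecDepth 1000000
set_option linter.all false
set_option Elab.async false

namespace Cfsg.Agent.Lib.Helper28.Fi24Data

open Cfsg.Agent.Lib.Helper28B

theorem chkP_145825 : allRangeF (checkPointF cert) (nat_lit 145825) (nat_lit 25) = true := by decide +kernel
theorem chkP_145850 : allRangeF (checkPointF cert) (nat_lit 145850) (nat_lit 25) = true := by decide +kernel
theorem chkP_145875 : allRangeF (checkPointF cert) (nat_lit 145875) (nat_lit 25) = true := by decide +kernel
theorem chkP_145900 : allRangeF (checkPointF cert) (nat_lit 145900) (nat_lit 25) = true := by decide +kernel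
theorem chkP_145925 : allRangeF (checkPointF cert) (nat_lit 145925) (nat_lit 25) = true := by decide +kernel
theorem chkP_145950 : allRangeF (checkPointF cert) (nat_lit 145950) (nat_lit 25) = true := by decide +kernel
theorem chkP_145975 : allRangeF (checkPointF cert) (nat_lit 145975) (nat_lit 25) = true := by decide +kernel
theorem chkP_146000 : allRangeF (checkPointF cert) (nat_lit 146000) (nat_lit 25) = true := by decide +kernel
theorem chkP_146025 : allRangeF (checkPointF cert) (nat_lit 146025) (nat_lit 25) = true := by decide +kernel
theorem chkP_146050 : allRangeF (checkPointF cert) (nat_lit 146050) (nat_lit 25) = true := by decide +kernel
theorem chkP_146075 : allRangeF (checkPointF cert) (nat_lit 146075) (nat_lit 25) = true := by decide +kernel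
theorem chkP_146100 : allRangeF (checkPointF cert) (nat_lit 146100) (nat_lit 25) = true := by decide +kernel
theorem chkP_146125 : allRangeF (checkPointF cert) (nat_lit 146125) (nat_lit 25) = true := by decide +kernel
theorem chkP_146150 : allRangeF (checkPointF cert) (nat_lit 146150) (nat_lit 25) = true := by decide +kernel
theorem chkP_146175 : allRangeF (checkPointF cert) (nat_lit 146175) (nat_lit 25) = true := by decide +kernel
theorem chkP_146200 : allRangeF (checkPointF cert) (nat_lit 146200) (nat_lit 25) = true := by decide +kernel
theorem chkP_146225 : allRangeF (checkPointF cert) (nat_lit 146225) (nat_lit 25) = true := by decide +kernel
theorem chkP_146250 : allRangeF (checkPointF cert) (nat_lit 146250) (nat_lit 25) = true := by decide +kernel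
theorem chkP_146275 : allRangeF (checkPointF cert) (nat_lit 146275) (nat_lit 25) = true := by decide +kernel
theorem chkP_146300 : allRangeF (checkPointF cert) (nat_lit 146300) (nat_lit 25) = true := by decide +kernel
theorem chkP_146325 : allRangeF (checkPointF cert) (nat_lit 146325) (nat_lit 25) = true := by decide +kernel
theorem chkP_146350 : allRangeF (checkPointF cert) (nat_lit 146350) (nat_lit 25) = true := by decide +kernel
theorem chkP_146375 : allRangeF (checkPointF cert) (nat_lit 146375) (nat_lit 25) = true := by decide +kernel
theorem chkP_146400 : allRangeF (checkPointF cert) (nat_lit 146400) (nat_lit 25) = true := by decide +kernel
theorem chkP_146425 : allRangeF (checkPointF cert) (nat_lit 146425) (nat_lit 25) = true := by decide +kernel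
theorem chkP_146450 : allRangeF (checkPointF cert) (nat_lit 146450) (nat_lit 25) = true := by decide +kernel
theorem chkP_146475 : allRangeF (checkPointF cert) (nat_lit 146475) (nat_lit 25) = true := by decide +kernel
theorem chkP_146500 : allRangeF (checkPointF cert) (nat_lit 146500) (nat_lit 25) = true := by decide +kernel
theorem chkP_146525 : allRangeF (checkPointF cert) (nat_lit 146525) (nat_lit 25) = true := by decide +kernel
theorem chkP_146550 : allRangeF (checkPointF cert) (nat_lit 146550) (nat_lit 25) = true := by decide +kernel
theorem chkP_146575 : allRangeF (checkPointF cert) (nat_lit 146575) (nat_lit 25) = true := by decide +kernel
theorem chkP_146600 : allRangeF (checkPointF cert) (nat_lit 146600) (nat_lit 25) = true := by decide +kernel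
theorem chkP_146625 : allRangeF (checkPointF cert) (nat_lit 146625) (nat_lit 25) = true := by decide +kernel
theorem chkP_146650 : allRangeF (checkPointF cert) (nat_lit 146650) (nat_lit 25) = true := by decide +kernel
theorem chkP_146675 : allRangeF (checkPointF cert) (nat_lit 146675) (nat_lit 25) = true := by decide +kernel
theorem chkP_146700 : allRangeF (checkPointF cert) (nat_lit 146700) (nat_lit 25) = true := by decide +kernel
theorem chkP_146725 : allRangeF (checkPointF cert) (nat_lit 146725) (nat_lit 25) = true := by decide +kernel
theorem chkP_146750 : allRangeF (checkPointF cert) (nat_lit 146750) (nat_lit 25) = true := by decide +kernel
theorem chkP_146775 : allRangeF (checkPointF cert) (nat_lit 146775) (nat_lit 25) = true := by decide +kernel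
theorem chkP_146800 : allRangeF (checkPointF cert) (nat_lit 146800) (nat_lit 25) = true := by decide +kernel
theorem chkP_146825 : allRangeF (checkPointF cert) (nat_lit 146825) (nat_lit 25) = true := by decide +kernel
theorem chkP_146850 : allRangeF (checkPointF cert) (nat_lit 146850) (nat_lit 25) = true := by decide +kernel
theorem chkP_146875 : allRangeF (checkPointF cert) (nat_lit 146875) (nat_lit 25) = true := by decide +kernel
theorem chkP_146900 : allRangeF (checkPointF cert) (nat_lit 146900) (nat_lit 25) = true := by decide +kernel
theorem chkP_146925 : allRangeF (checkPointF cert) (nat_lit 146925) (nat_lit 25) = true := by decide +kernel
theorem chkP_146950 : allRangeF (checkPointF cert) (nat_lit 146950) (nat_lit 25) = true := by decide +kernel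
theorem chkP_146975 : allRangeF (checkPointF cert) (nat_lit 146975) (nat_lit 25) = true := by decide +kernel
theorem chkP_147000 : allRangeF (checkPointF cert) (nat_lit 147000) (nat_lit 25) = true := by decide +kernel
theorem chkP_147025 : allRangeF (checkPointF cert) (nat_lit 147025) (nat_lit 25) = true := by decide +kernel
theorem chkP_147050 : allRangeF (checkPointF cert) (nat_lit 147050) (nat_lit 25) = true := by decide +kernel
theorem chkP_147075 : allRangeF (checkPointF cert) (nat_lit 147075) (nat_lit 25) = true := by decide +kernel
theorem chkP_147100 : allRangeF (checkPointF cert) (nat_lit 147100) (nat_lit 25) = true := by decide +kernel
theorem chkP_147125 : allRangeF (checkPointF cert) (nat_lit 147125) (nat_lit 25) = true := by decide +kernel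
theorem chkP_147150 : allRangeF (checkPointF cert) (nat_lit 147150) (nat_lit 25) = true := by decide +kernel
theorem chkP_147175 : allRangeF (checkPointF cert) (nat_lit 147175) (nat_lit 25) = true := by decide +kernel
theorem chkP_147200 : allRangeF (checkPointF cert) (nat_lit 147200) (nat_lit 25) = true := by decide +kernel
theorem chkP_147225 : allRangeF (checkPointF cert) (nat_lit 147225) (nat_lit 25) = true := by decide +kernel
theorem chkP_147250 : allRangeF (checkPointF cert) (nat_lit 147250) (nat_lit 25) = true := by decide +kernel
theorem chkP_147275 : allRangeF (checkPointF cert) (nat_lit 147275) (nat_lit 25) = true := by decide +kernel
theorem chkP_147300 : allRangeF (checkPointF cert) (nat_lit 147300) (nat_lit 25) = true := by decide +kernel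
theorem chkP_147325 : allRangeF (checkPointF cert) (nat_lit 147325) (nat_lit 25) = true := by decide +kernel
theorem chkP_147350 : allRangeF (checkPointF cert) (nat_lit 147350) (nat_lit 25) = true := by decide +kernel
theorem chkP_147375 : allRangeF (checkPointF cert) (nat_lit 147375) (nat_lit 25) = true := by decide +kernel
theorem chkP_147400 : allRangeF (checkPointF cert) (nat_lit 147400) (nat_lit 25) = true := by decide +kernel
theorem chkP_147425 : allRangeF (checkPointF cert) (nat_lit 147425) (nat_lit 25) = true := by decide +kernel
theorem chkP_147450 : allRangeF (checkPointF cert) (nat_lit 147450) (nat_lit 25) = true := by decide +kernel
theorem chkP_147475 : allRangeF (checkPointF cert) (nat_lit 147475) (nat_lit 25) = true := by decide +kernel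
theorem chkP_147500 : allRangeF (checkPointF cert) (nat_lit 147500) (nat_lit 25) = true := by decide +kernel
theorem chkP_147525 : allRangeF (checkPointF cert) (nat_lit 147525) (nat_lit 25) = true := by decide +kernel
theorem chkP_147550 : allRangeF (checkPointF cert) (nat_lit 147550) (nat_lit 25) = true := by decide +kernel
theorem chkP_147575 : allRangeF (checkPointF cert) (nat_lit 147575) (nat_lit 25) = true := by decide +kernel
theorem chkP_147600 : allRangeF (checkPointF cert) (nat_lit 147600) (nat_lit 25) = true := by decide +kernel
theorem chkP_147625 : allRangeF (checkPointF cert) (nat_lit 147625) (nat_lit 25) = true := by decide +kernel
theorem chkP_147650 : allRangeF (checkPointF cert) (nat_lit 147650) (nat_lit 25) = true := by decide +kernel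
theorem chkP_147675 : allRangeF (checkPointF cert) (nat_lit 147675) (nat_lit 25) = true := by decide +kernel
theorem chkP_147700 : allRangeF (checkPointF cert) (nat_lit 147700) (nat_lit 25) = true := by decide +kernel
theorem chkP_147725 : allRangeF (checkPointF cert) (nat_lit 147725) (nat_lit 25) = true := by decide +kernel
theorem chkP_147750 : allRangeF (checkPointF cert) (nat_lit 147750) (nat_lit 25) = true := by decide +kernel
theorem chkP_147775 : allRangeF (checkPointF cert) (nat_lit 147775) (nat_lit 25) = true := by decide +kernel
theorem chkP_147800 : allRangeF (checkPointF cert) (nat_lit 147800) (nat_lit 25) = true := by decide +kernel
theorem chkP_147825 : allRangeF (checkPointF cert) (nat_lit 147825) (nat_lit 25) = true := by decide +kernel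
theorem chkP_147850 : allRangeF (checkPointF cert) (nat_lit 147850) (nat_lit 25) = true := by decide +kernel
theorem chkP_147875 : allRangeF (checkPointF cert) (nat_lit 147875) (nat_lit 25) = true := by decide +kernel
theorem chkP_147900 : allRangeF (checkPointF cert) (nat_lit 147900) (nat_lit 25) = true := by decide +kernel
theorem chkP_147925 : allRangeF (checkPointF cert) (nat_lit 147925) (nat_lit 25) = true := by decide +kernel
theorem chkP_147950 : allRangeF (checkPointF cert) (nat_lit 147950) (nat_lit 25) = true := by decide +kernel
theorem chkP_147975 : allRangeF (checkPointF cert) (nat_lit 147975) (nat_lit 25) = true := by decide +kernel
theorem chkP_148000 : allRangeF (checkPointF cert) (nat_lit 148000) (nat_lit 25) = true := by decide +kernel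
theorem chkP_148025 : allRangeF (checkPointF cert) (nat_lit 148025) (nat_lit 25) = true := by decide +kernel
theorem chkP_148050 : allRangeF (checkPointF cert) (nat_lit 148050) (nat_lit 25) = true := by decide +kernel
theorem chkP_148075 : allRangeF (checkPointF cert) (nat_lit 148075) (nat_lit 25) = true := by decide +kernel
theorem chkP_148100 : allRangeF (checkPointF cert) (nat_lit 148100) (nat_lit 25) = true := by decide +kernel
theorem chkP_148125 : allRangeF (checkPointF cert) (nat_lit 148125) (nat_lit 25) = true := by decide +kernel
theorem chkP_148150 : allRangeF (checkPointF cert) (nat_lit 148150) (nat_lit 25) = true := by decide +kernel
theorem chkP_148175 : allRangeF (checkPointF cert) (nat_lit 148175) (nat_lit 25) = true := by decide +kernel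
theorem chkP_148200 : allRangeF (checkPointF cert) (nat_lit 148200) (nat_lit 25) = true := by decide +kernel
theorem chkP_148225 : allRangeF (checkPointF cert) (nat_lit 148225) (nat_lit 25) = true := by decide +kernel
theorem chkP_148250 : allRangeF (checkPointF cert) (nat_lit 148250) (nat_lit 25) = true := by decide +kernel
theorem chkP_148275 : allRangeF (checkPointF cert) (nat_lit 148275) (nat_lit 25) = true := by decide +kernel
theorem chkP_148300 : allRangeF (checkPointF cert) (nat_lit 148300) (nat_lit 25) = true := by decide +kernel
theorem chkP_148325 : allRangeF (checkPointF cert) (nat_lit 148325) (nat_lit 25) = true := by decide +kernel
theorem chkP_148350 : allRangeF (checkPointF cert) (nat_lit 148350) (nat_lit 25) = true := by decide +kernel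
theorem chkP_148375 : allRangeF (checkPointF cert) (nat_lit 148375) (nat_lit 25) = true := by decide +kernel
theorem chkP_148400 : allRangeF (checkPointF cert) (nat_lit 148400) (nat_lit 25) = true := by decide +kernel
theorem chkP_148425 : allRangeF (checkPointF cert) (nat_lit 148425) (nat_lit 25) = true := by decide +kernel
theorem chkP_148450 : allRangeF (checkPointF cert) (nat_lit 148450) (nat_lit 25) = true := by decide +kernel
theorem chkP_148475 : allRangeF (checkPointF cert) (nat_lit 148475) (nat_lit 25) = true := by decide +kernel
theorem chkP_148500 : allRangeF (checkPointF cert) (nat_lit 148500) (nat_lit 25) = true := by decide +kernel
theorem chkP_148525 : allRangeF (checkPointF cert) (nat_lit 148525) (nat_lit 25) = true := by decide +kernel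
theorem chkP_148550 : allRangeF (checkPointF cert) (nat_lit 148550) (nat_lit 25) = true := by decide +kernel
theorem chkP_148575 : allRangeF (checkPointF cert) (nat_lit 148575) (nat_lit 25) = true := by decide +kernel
theorem chkP_148600 : allRangeF (checkPointF cert) (nat_lit 148600) (nat_lit 25) = true := by decide +kernel
theorem chkP_148625 : allRangeF (checkPointF cert) (nat_lit 148625) (nat_lit 25) = true := by decide +kernel
theorem chkP_148650 : allRangeF (checkPointF cert) (nat_lit 148650) (nat_lit 25) = true := by decide +kernel
theorem chkP_148675 : allRangeF (checkPointF cert) (nat_lit 148675) (nat_lit 25) = true := by decide +kernel
theorem chkP_148700 : allRangeF (checkPointF cert) (nat_lit 148700) (nat_lit 25) = true := by decide +kernel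
theorem chkP_148725 : allRangeF (checkPointF cert) (nat_lit 148725) (nat_lit 25) = true := by decide +kernel
theorem chkP_148750 : allRangeF (checkPointF cert) (nat_lit 148750) (nat_lit 25) = true := by decide +kernel
theorem chkP_148775 : allRangeF (checkPointF cert) (nat_lit 148775) (nat_lit 25) = true := by decide +kernel
theorem chkP_148800 : allRangeF (checkPointF cert) (nat_lit 148800) (nat_lit 25) = true := by decide +kernel
theorem chkP_148825 : allRangeF (checkPointF cert) (nat_lit 148825) (nat_lit 25) = true := by decide +kernel
theorem chkP_148850 : allRangeF (checkPointF cert) (nat_lit 148850) (nat_lit 25) = true := by decide +kernel
theorem chkP_148875 : allRangeF (checkPointF cert) (nat_lit 148875) (nat_lit 25) = true := by decide +kernel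
theorem chkP_148900 : allRangeF (checkPointF cert) (nat_lit 148900) (nat_lit 25) = true := by decide +kernel
theorem chkP_148925 : allRangeF (checkPointF cert) (nat_lit 148925) (nat_lit 25) = true := by decide +kernel
theorem chkP_148950 : allRangeF (checkPointF cert) (nat_lit 148950) (nat_lit 25) = true := by decide +kernel
theorem chkP_148975 : allRangeF (checkPointF cert) (nat_lit 148975) (nat_lit 25) = true := by decide +kernel
theorem chkP_149000 : allRangeF (checkPointF cert) (nat_lit 149000) (nat_lit 25) = true := by decide +kernel
theorem chkP_149025 : allRangeF (checkPointF cert) (nat_lit 149025) (nat_lit 25) = true := by decide +kernel
theorem chkP_149050 : allRangeF (checkPointF cert) (nat_lit 149050) (nat_lit 25) = true := by decide +kernel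
theorem chkP_149075 : allRangeF (checkPointF cert) (nat_lit 149075) (nat_lit 25) = true := by decide +kernel
theorem chkP_149100 : allRangeF (checkPointF cert) (nat_lit 149100) (nat_lit 25) = true := by decide +kernel
theorem chkP_149125 : allRangeF (checkPointF cert) (nat_lit 149125) (nat_lit 25) = true := by decide +kernel
theorem chkP_149150 : allRangeF (checkPointF cert) (nat_lit 149150) (nat_lit 25) = true := by decide +kernel
theorem chkP_149175 : allRangeF (checkPointF cert) (nat_lit 149175) (nat_lit 25) = true := by decide +kernel
theorem chkP_149200 : allRangeF (checkPointF cert) (nat_lit 149200) (nat_lit 25) = true := by decide +kernel
theorem chkP_149225 : allRangeF (checkPointF cert) (nat_lit 149225) (nat_lit 25) = true := by decide +kernel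
theorem chkP_149250 : allRangeF (checkPointF cert) (nat_lit 149250) (nat_lit 25) = true := by decide +kernel
theorem chkP_149275 : allRangeF (checkPointF cert) (nat_lit 149275) (nat_lit 25) = true := by decide +kernel
theorem chkP_149300 : allRangeF (checkPointF cert) (nat_lit 149300) (nat_lit 25) = true := by decide +kernel
theorem chkP_149325 : allRangeF (checkPointF cert) (nat_lit 149325) (nat_lit 25) = true := by decide +kernel
theorem chkP_149350 : allRangeF (checkPointF cert) (nat_lit 149350) (nat_lit 25) = true := by decide +kernel
theorem chkP_149375 : allRangeF (checkPointF cert) (nat_lit 149375) (nat_lit 25) = true := by decide +kernel
theorem chkP_149400 : allRangeF (checkPointF cert) (nat_lit 149400) (nat_lit 25) = true := by decide +kernel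
theorem chkP_149425 : allRangeF (checkPointF cert) (nat_lit 149425) (nat_lit 25) = true := by decide +kernel
theorem chkP_149450 : allRangeF (checkPointF cert) (nat_lit 149450) (nat_lit 25) = true := by decide +kernel
theorem chkP_149475 : allRangeF (checkPointF cert) (nat_lit 149475) (nat_lit 25) = true := by decide +kernel
theorem chkP_149500 : allRangeF (checkPointF cert) (nat_lit 149500) (nat_lit 25) = true := by decide +kernel
theorem chkP_149525 : allRangeF (checkPointF cert) (nat_lit 149525) (nat_lit 25) = true := by decide +kernel
theorem chkP_149550 : allRangeF (checkPointF cert) (nat_lit 149550) (nat_lit 25) = true := by decide +kernel
theorem chkP_149575 : allRangeF (checkPointF cert) (nat_lit 149575) (nat_lit 25) = true := by decide +kernel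
theorem chkP_149600 : allRangeF (checkPointF cert) (nat_lit 149600) (nat_lit 25) = true := by decide +kernel
theorem chkP_149625 : allRangeF (checkPointF cert) (nat_lit 149625) (nat_lit 25) = true := by decide +kernel
theorem chkP_149650 : allRangeF (checkPointF cert) (nat_lit 149650) (nat_lit 25) = true := by decide +kernel
theorem chkP_149675 : allRangeF (checkPointF cert) (nat_lit 149675) (nat_lit 25) = true := by decide +kernel
theorem chkP_149700 : allRangeF (checkPointF cert) (nat_lit 149700) (nat_lit 25) = true := by decide +kernel
theorem chkP_149725 : allRangeF (checkPointF cert) (nat_lit 149725) (nat_lit 25) = true := by decide +kernel
theorem chkP_149750 : allRangeF (checkPointF cert) (nat_lit 149750) (nat_lit 25) = true := by decide +kernel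
theorem chkP_149775 : allRangeF (checkPointF cert) (nat_lit 149775) (nat_lit 25) = true := by decide +kernel
theorem chkP_149800 : allRangeF (checkPointF cert) (nat_lit 149800) (nat_lit 25) = true := by decide +kernel
theorem chkP_149825 : allRangeF (checkPointF cert) (nat_lit 149825) (nat_lit 25) = true := by decide +kernel
theorem chkP_149850 : allRangeF (checkPointF cert) (nat_lit 149850) (nat_lit 25) = true := by decide +kernel
theorem chkP_149875 : allRangeF (checkPointF cert) (nat_lit 149875) (nat_lit 25) = true := by decide +kernel
theorem chkP_149900 : allRangeF (checkPointF cert) (nat_lit 149900) (nat_lit 25) = true := by decide +kernel
theorem chkP_149925 : allRangeF (checkPointF cert) (nat_lit 149925) (nat_lit 25) = true := by decide +kernel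
theorem chkP_149950 : allRangeF (checkPointF cert) (nat_lit 149950) (nat_lit 25) = true := by decide +kernel
theorem chkP_149975 : allRangeF (checkPointF cert) (nat_lit 149975) (nat_lit 25) = true := by decide +kernel
theorem chkP_150000 : allRangeF (checkPointF cert) (nat_lit 150000) (nat_lit 25) = true := by decide +kernel
theorem chkP_150025 : allRangeF (checkPointF cert) (nat_lit 150025) (nat_lit 25) = true := by decide +kernel
theorem chkP_150050 : allRangeF (checkPointF cert) (nat_lit 150050) (nat_lit 25) = true := by decide +kernel
theorem chkP_150075 : allRangeF (checkPointF cert) (nat_lit 150075) (nat_lit 25) = true := by decide +kernel
theorem chkP_150100 : allRangeF (checkPointF cert) (nat_lit 150100) (nat_lit 25) = true := by decide +kernel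
theorem chkP_150125 : allRangeF (checkPointF cert) (nat_lit 150125) (nat_lit 25) = true := by decide +kernel
theorem chkP_150150 : allRangeF (checkPointF cert) (nat_lit 150150) (nat_lit 25) = true := by decide +kernel
theorem chkP_150175 : allRangeF (checkPointF cert) (nat_lit 150175) (nat_lit 25) = true := by decide +kernel
theorem chkP_150200 : allRangeF (checkPointF cert) (nat_lit 150200) (nat_lit 25) = true := by decide +kernel
theorem chkP_150225 : allRangeF (checkPointF cert) (nat_lit 150225) (nat_lit 25) = true := by decide +kernel
theorem chkP_150250 : allRangeF (checkPointF cert) (nat_lit 150250) (nat_lit 25) = true := by decide +kernel
theorem chkP_150275 : allRangeF (checkPointF cert) (nat_lit 150275) (nat_lit 25) = true := by decide +kernel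
theorem chkP_150300 : allRangeF (checkPointF cert) (nat_lit 150300) (nat_lit 25) = true := by decide +kernel
theorem chkP_150325 : allRangeF (checkPointF cert) (nat_lit 150325) (nat_lit 25) = true := by decide +kernel
theorem chkP_150350 : allRangeF (checkPointF cert) (nat_lit 150350) (nat_lit 25) = true := by decide +kernel
theorem chkP_150375 : allRangeF (checkPointF cert) (nat_lit 150375) (nat_lit 25) = true := by decide +kernel
theorem chkP_150400 : allRangeF (checkPointF cert) (nat_lit 150400) (nat_lit 25) = true := by decide +kernel
theorem chkP_150425 : allRangeF (checkPointF cert) (nat_lit 150425) (nat_lit 25) = true := by decide +kernel
theorem chkP_150450 : allRangeF (checkPointF cert) (nat_lit 150450) (nat_lit 25) = true := by decide +kernel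
theorem chkP_150475 : allRangeF (checkPointF cert) (nat_lit 150475) (nat_lit 25) = true := by decide +kernel
theorem chkP_150500 : allRangeF (checkPointF cert) (nat_lit 150500) (nat_lit 25) = true := by decide +kernel
theorem chkP_150525 : allRangeF (checkPointF cert) (nat_lit 150525) (nat_lit 25) = true := by decide +kernel
theorem chkP_150550 : allRangeF (checkPointF cert) (nat_lit 150550) (nat_lit 25) = true := by decide +kernel
theorem chkP_150575 : allRangeF (checkPointF cert) (nat_lit 150575) (nat_lit 25) = true := by decide +kernel
theorem chkP_150600 : allRangeF (checkPointF cert) (nat_lit 150600) (nat_lit 25) = true := by decide +kernel
theorem chkP_150625 : allRangeF (checkPointF cert) (nat_lit 150625) (nat_lit 25) = true := by decide +kernel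
theorem chkP_150650 : allRangeF (checkPointF cert) (nat_lit 150650) (nat_lit 25) = true := by decide +kernel
theorem chkP_150675 : allRangeF (checkPointF cert) (nat_lit 150675) (nat_lit 25) = true := by decide +kernel
theorem chkP_150700 : allRangeF (checkPointF cert) (nat_lit 150700) (nat_lit 25) = true := by decide +kernel
theorem chkP_150725 : allRangeF (checkPointF cert) (nat_lit 150725) (nat_lit 25) = true := by decide +kernel
theorem chkP_150750 : allRangeF (checkPointF cert) (nat_lit 150750) (nat_lit 25) = true := by decide +kernel
theorem chkP_150775 : allRangeF (checkPointF cert) (nat_lit 150775) (nat_lit 25) = true := by decide +kernel
theorem chkP_150800 : allRangeF (checkPointF cert) (nat_lit 150800) (nat_lit 25) = true := by decide +kernel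
theorem chkP_150825 : allRangeF (checkPointF cert) (nat_lit 150825) (nat_lit 25) = true := by decide +kernel
theorem chkP_150850 : allRangeF (checkPointF cert) (nat_lit 150850) (nat_lit 25) = true := by decide +kernel
theorem chkP_150875 : allRangeF (checkPointF cert) (nat_lit 150875) (nat_lit 25) = true := by decide +kernel
theorem chkP_150900 : allRangeF (checkPointF cert) (nat_lit 150900) (nat_lit 25) = true := by decide +kernel
theorem chkP_150925 : allRangeF (checkPointF cert) (nat_lit 150925) (nat_lit 25) = true := by decide +kernel
theorem chkP_150950 : allRangeF (checkPointF cert) (nat_lit 150950) (nat_lit 25) = true := by decide +kernel
theorem chkP_150975 : allRangeF (checkPointF cert) (nat_lit 150975) (nat_lit 25) = true := by decide +kernel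
theorem chkP_151000 : allRangeF (checkPointF cert) (nat_lit 151000) (nat_lit 25) = true := by decide +kernel
theorem chkP_151025 : allRangeF (checkPointF cert) (nat_lit 151025) (nat_lit 25) = true := by decide +kernel
theorem chkP_151050 : allRangeF (checkPointF cert) (nat_lit 151050) (nat_lit 25) = true := by decide +kernel
theorem chkP_151075 : allRangeF (checkPointF cert) (nat_lit 151075) (nat_lit 25) = true := by decide +kernel
theorem chkP_151100 : allRangeF (checkPointF cert) (nat_lit 151100) (nat_lit 25) = true := by decide +kernel
theorem chkP_151125 : allRangeF (checkPointF cert) (nat_lit 151125) (nat_lit 25) = true := by decide +kernel
theorem chkP_151150 : allRangeF (checkPointF cert) (nat_lit 151150) (nat_lit 25) = true := by decide +kernel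
theorem chkP_151175 : allRangeF (checkPointF cert) (nat_lit 151175) (nat_lit 25) = true := by decide +kernel
theorem chkP_151200 : allRangeF (checkPointF cert) (nat_lit 151200) (nat_lit 25) = true := by decide +kernel
theorem chkP_151225 : allRangeF (checkPointF cert) (nat_lit 151225) (nat_lit 25) = true := by decide +kernel
theorem chkP_151250 : allRangeF (checkPointF cert) (nat_lit 151250) (nat_lit 25) = true := by decide +kernel
theorem chkP_151275 : allRangeF (checkPointF cert) (nat_lit 151275) (nat_lit 25) = true := by decide +kernel
theorem chkP_151300 : allRangeF (checkPointF cert) (nat_lit 151300) (nat_lit 25) = true := by decide +kernel
theorem chkP_151325 : allRangeF (checkPointF cert) (nat_lit 151325) (nat_lit 25) = true := by decide +kernel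
theorem chkP_151350 : allRangeF (checkPointF cert) (nat_lit 151350) (nat_lit 25) = true := by decide +kernel
theorem chkP_151375 : allRangeF (checkPointF cert) (nat_lit 151375) (nat_lit 25) = true := by decide +kernel
theorem chkP_151400 : allRangeF (checkPointF cert) (nat_lit 151400) (nat_lit 25) = true := by decide +kernel
theorem chkP_151425 : allRangeF (checkPointF cert) (nat_lit 151425) (nat_lit 25) = true := by decide +kernel
theorem chkP_151450 : allRangeF (checkPointF cert) (nat_lit 151450) (nat_lit 25) = true := by decide +kernel
theorem chkP_151475 : allRangeF (checkPointF cert) (nat_lit 151475) (nat_lit 25) = true := by decide +kernel
theorem chkP_151500 : allRangeF (checkPointF cert) (nat_lit 151500) (nat_lit 25) = true := by decide +kernel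
theorem chkP_151525 : allRangeF (checkPointF cert) (nat_lit 151525) (nat_lit 25) = true := by decide +kernel
theorem chkP_151550 : allRangeF (checkPointF cert) (nat_lit 151550) (nat_lit 25) = true := by decide +kernel
theorem chkP_151575 : allRangeF (checkPointF cert) (nat_lit 151575) (nat_lit 25) = true := by decide +kernel
theorem chkP_151600 : allRangeF (checkPointF cert) (nat_lit 151600) (nat_lit 25) = true := by decide +kernel
theorem chkP_151625 : allRangeF (checkPointF cert) (nat_lit 151625) (nat_lit 25) = true := by decide +kernel
theorem chkP_151650 : allRangeF (checkPointF cert) (nat_lit 151650) (nat_lit 25) = true := by decide +kernel
theorem chkP_151675 : allRangeF (checkPointF cert) (nat_lit 151675) (nat_lit 25) = true := by decide +kernel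
theorem chkP_151700 : allRangeF (checkPointF cert) (nat_lit 151700) (nat_lit 25) = true := by decide +kernel
theorem chkP_151725 : allRangeF (checkPointF cert) (nat_lit 151725) (nat_lit 25) = true := by decide +kernel
theorem chkP_151750 : allRangeF (checkPointF cert) (nat_lit 151750) (nat_lit 25) = true := by decide +kernel
theorem chkP_151775 : allRangeF (checkPointF cert) (nat_lit 151775) (nat_lit 25) = true := by decide +kernel
theorem chkP_151800 : allRangeF (checkPointF cert) (nat_lit 151800) (nat_lit 25) = true := by decide +kernel
theorem chkP_151825 : allRangeF (checkPointF cert) (nat_lit 151825) (nat_lit 25) = true := by decide +kernel
theorem chkP_151850 : allRangeF (checkPointF cert) (nat_lit 151850) (nat_lit 25) = true := by decide +kernel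
theorem chkP_151875 : allRangeF (checkPointF cert) (nat_lit 151875) (nat_lit 25) = true := by decide +kernel
theorem chkP_151900 : allRangeF (checkPointF cert) (nat_lit 151900) (nat_lit 25) = true := by decide +kernel
theorem chkP_151925 : allRangeF (checkPointF cert) (nat_lit 151925) (nat_lit 25) = true := by decide +kernel
theorem chkP_151950 : allRangeF (checkPointF cert) (nat_lit 151950) (nat_lit 25) = true := by decide +kernel
theorem chkP_151975 : allRangeF (checkPointF cert) (nat_lit 151975) (nat_lit 25) = true := by decide +kernel
theorem chkP_152000 : allRangeF (checkPointF cert) (nat_lit 152000) (nat_lit 25) = true := by decide +kernel
theorem chkP_152025 : allRangeF (checkPointF cert) (nat_lit 152025) (nat_lit 25) = true := by decide +kernel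
theorem chkP_152050 : allRangeF (checkPointF cert) (nat_lit 152050) (nat_lit 25) = true := by decide +kernel
theorem chkP_152075 : allRangeF (checkPointF cert) (nat_lit 152075) (nat_lit 25) = true := by decide +kernel
theorem chkP_152100 : allRangeF (checkPointF cert) (nat_lit 152100) (nat_lit 25) = true := by decide +kernel
theorem chkP_152125 : allRangeF (checkPointF cert) (nat_lit 152125) (nat_lit 25) = true := by decide +kernel
theorem chkP_152150 : allRangeF (checkPointF cert) (nat_lit 152150) (nat_lit 25) = true := by decide +kernel
theorem chkP_152175 : allRangeF (checkPointF cert) (nat_lit 152175) (nat_lit 25) = true := by decide +kernel
theorem chkP_152200 : allRangeF (checkPointF cert) (nat_lit 152200) (nat_lit 25) = true := by decide +kernel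
theorem chkP_152225 : allRangeF (checkPointF cert) (nat_lit 152225) (nat_lit 25) = true := by decide +kernel
theorem chkP_152250 : allRangeF (checkPointF cert) (nat_lit 152250) (nat_lit 25) = true := by decide +kernel
theorem chkP_152275 : allRangeF (checkPointF cert) (nat_lit 152275) (nat_lit 25) = true := by decide +kernel
theorem chkP_152300 : allRangeF (checkPointF cert) (nat_lit 152300) (nat_lit 25) = true := by decide +kernel
theorem chkP_152325 : allRangeF (checkPointF cert) (nat_lit 152325) (nat_lit 25) = true := by decide +kernel
theorem chkP_152350 : allRangeF (checkPointF cert) (nat_lit 152350) (nat_lit 25) = true := by decide +kernel
theorem chkP_152375 : allRangeF (checkPointF cert) (nat_lit 152375) (nat_lit 25) = true := by decide +kernel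
theorem chkP_152400 : allRangeF (checkPointF cert) (nat_lit 152400) (nat_lit 25) = true := by decide +kernel
theorem chkP_152425 : allRangeF (checkPointF cert) (nat_lit 152425) (nat_lit 25) = true := by decide +kernel
theorem chkP_152450 : allRangeF (checkPointF cert) (nat_lit 152450) (nat_lit 25) = true := by decide +kernel
theorem chkP_152475 : allRangeF (checkPointF cert) (nat_lit 152475) (nat_lit 25) = true := by decide +kernel
theorem chkP_152500 : allRangeF (checkPointF cert) (nat_lit 152500) (nat_lit 25) = true := by decide +kernel
theorem chkP_152525 : allRangeF (checkPointF cert) (nat_lit 152525) (nat_lit 25) = true := by decide +kernel
theorem chkP_152550 : allRangeF (checkPointF cert) (nat_lit 152550) (nat_lit 25) = true := by decide +kernel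
theorem chkP_152575 : allRangeF (checkPointF cert) (nat_lit 152575) (nat_lit 25) = true := by decide +kernel
theorem chkP_152600 : allRangeF (checkPointF cert) (nat_lit 152600) (nat_lit 25) = true := by decide +kernel
theorem chkP_152625 : allRangeF (checkPointF cert) (nat_lit 152625) (nat_lit 25) = true := by decide +kernel
theorem chkP_152650 : allRangeF (checkPointF cert) (nat_lit 152650) (nat_lit 25) = true := by decide +kernel
theorem chkP_152675 : allRangeF (checkPointF cert) (nat_lit 152675) (nat_lit 25) = true := by decide +kernel
theorem chkP_152700 : allRangeF (checkPointF cert) (nat_lit 152700) (nat_lit 25) = true := by decide +kernel
theorem chkP_152725 : allRangeF (checkPointF cert) (nat_lit 152725) (nat_lit 25) = true := by decide +kernel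
theorem chkP_152750 : allRangeF (checkPointF cert) (nat_lit 152750) (nat_lit 25) = true := by decide +kernel
theorem chkP_152775 : allRangeF (checkPointF cert) (nat_lit 152775) (nat_lit 25) = true := by decide +kernel
theorem chkP_152800 : allRangeF (checkPointF cert) (nat_lit 152800) (nat_lit 25) = true := by decide +kernel
theorem chkP_152825 : allRangeF (checkPointF cert) (nat_lit 152825) (nat_lit 25) = true := by decide +kernel
theorem chkP_152850 : allRangeF (checkPointF cert) (nat_lit 152850) (nat_lit 25) = true := by decide +kernel
theorem chkP_152875 : allRangeF (checkPointF cert) (nat_lit 152875) (nat_lit 25) = true := by decide +kernel
theorem chkP_152900 : allRangeF (checkPointF cert) (nat_lit 152900) (nat_lit 25) = true := by decide +kernel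
theorem chkP_152925 : allRangeF (checkPointF cert) (nat_lit 152925) (nat_lit 25) = true := by decide +kernel
theorem chkP_152950 : allRangeF (checkPointF cert) (nat_lit 152950) (nat_lit 25) = true := by decide +kernel
theorem chkP_152975 : allRangeF (checkPointF cert) (nat_lit 152975) (nat_lit 25) = true := by decide +kernel
theorem chkP_153000 : allRangeF (checkPointF cert) (nat_lit 153000) (nat_lit 25) = true := by decide +kernel
theorem chkP_153025 : allRangeF (checkPointF cert) (nat_lit 153025) (nat_lit 25) = true := by decide +kernel
theorem chkP_153050 : allRangeF (checkPointF cert) (nat_lit 153050) (nat_lit 25) = true := by decide +kernel
theorem chkP_153075 : allRangeF (checkPointF cert) (nat_lit 153075) (nat_lit 25) = true := by decide +kernel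
theorem chkP_153100 : allRangeF (checkPointF cert) (nat_lit 153100) (nat_lit 25) = true := by decide +kernel
theorem chkP_153125 : allRangeF (checkPointF cert) (nat_lit 153125) (nat_lit 25) = true := by decide +kernel
theorem chkP_153150 : allRangeF (checkPointF cert) (nat_lit 153150) (nat_lit 25) = true := by decide +kernel
theorem chkP_153175 : allRangeF (checkPointF cert) (nat_lit 153175) (nat_lit 25) = true := by decide +kernel
theorem chkP_153200 : allRangeF (checkPointF cert) (nat_lit 153200) (nat_lit 25) = true := by decide +kernel
theorem chkP_153225 : allRangeF (checkPointF cert) (nat_lit 153225) (nat_lit 25) = true := by decide +kernel
theorem chkP_153250 : allRangeF (checkPointF cert) (nat_lit 153250) (nat_lit 25) = true := by decide +kernel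
theorem chkP_153275 : allRangeF (checkPointF cert) (nat_lit 153275) (nat_lit 25) = true := by decide +kernel
theorem chkP_153300 : allRangeF (checkPointF cert) (nat_lit 153300) (nat_lit 25) = true := by decide +kernel
theorem chkP_153325 : allRangeF (checkPointF cert) (nat_lit 153325) (nat_lit 25) = true := by decide +kernel
theorem chkP_153350 : allRangeF (checkPointF cert) (nat_lit 153350) (nat_lit 25) = true := by decide +kernel
theorem chkP_153375 : allRangeF (checkPointF cert) (nat_lit 153375) (nat_lit 25) = true := by decide +kernel
theorem chkP_153400 : allRangeF (checkPointF cert) (nat_lit 153400) (nat_lit 25) = true := by decide +kernel
theorem chkP_153425 : allRangeF (checkPointF cert) (nat_lit 153425) (nat_lit 25) = true := by decide +kernel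
theorem chkP_153450 : allRangeF (checkPointF cert) (nat_lit 153450) (nat_lit 25) = true := by decide +kernel
theorem chkP_153475 : allRangeF (checkPointF cert) (nat_lit 153475) (nat_lit 25) = true := by decide +kernel

theorem ptsRange_19 : ∀ i, 145825 ≤ i → i < 153500 → checkPoint cert i = true := by
  intro i hlo hhi
  rcases Nat.lt_or_ge i 149650 with h1 | h1
  · skip
    rcases Nat.lt_or_ge i 147725 with h2 | h2
    · skip
      rcases Nat.lt_or_ge i 146775 with h3 | h3
      · skip
        rcases Nat.lt_or_ge i 146300 with h4 | h4
        · skip
          rcases Nat.lt_or_ge i 146050 with h5 | h5
          · skip
            rcases Nat.lt_or_ge i 145925 with h6 | h6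
            · skip
              rcases Nat.lt_or_ge i 145875 with h7 | h7
              · skip
                rcases Nat.lt_or_ge i 145850 with h8 | h8
                · skip
                  exact allRangeF_sound _ _ (checkPointF_eq cert) 145825 25 chkP_145825 i (by omega) (by omega)
                · skip
                  exact allRangeF_sound _ _ (checkPointF_eq cert) 145850 25 chkP_145850 i (by omega) (by omega)
              · skip
                rcases Nat.lt_or_ge i 145900 with h8 | h8
                · skip
                  exact allRangeF_sound _ _ (checkPointF_eq cert) 145875 25 chkP_145875 i (by omega) (by omega)
                · skip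
                  exact allRangeF_sound _ _ (checkPointF_eq cert) 145900 25 chkP_145900 i (by omega) (by omega)
            · skip
              rcases Nat.lt_or_ge i 145975 with h7 | h7
              · skip
                rcases Nat.lt_or_ge i 145950 with h8 | h8
                · skip
                  exact allRangeF_sound _ _ (checkPointF_eq cert) 145925 25 chkP_145925 i (by omega) (by omega)
                · skip
                  exact allRangeF_sound _ _ (checkPointF_eq cert) 145950 25 chkP_145950 i (by omega) (by omega)
              · skip
                rcases Nat.lt_or_ge i 146000 with h8 | h8
                · skip
                  exact allRangeF_sound _ _ (checkPointF_eq cert) 145975 25 chkP_145975 i (by omega) (by omega)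
                · skip
                  rcases Nat.lt_or_ge i 146025 with h9 | h9
                  · skip
                    exact allRangeF_sound _ _ (checkPointF_eq cert) 146000 25 chkP_146000 i (by omega) (by omega)
                  · skip
                    exact allRangeF_sound _ _ (checkPointF_eq cert) 146025 25 chkP_146025 i (by omega) (by omega)
          · skip
            rcases Nat.lt_or_ge i 146175 with h6 | h6
            · skip
              rcases Nat.lt_or_ge i 146100 with h7 | h7
              · skip
                rcases Nat.lt_or_ge i 146075 with h8 | h8
                · skip
                  exact allRangeF_sound _ _ (checkPointF_eq cert) 146050 25 chkP_146050 i (by omega) (by omega)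
                · skip
                  exact allRangeF_sound _ _ (checkPointF_eq cert) 146075 25 chkP_146075 i (by omega) (by omega)
              · skip
                rcases Nat.lt_or_ge i 146125 with h8 | h8
                · skip
                  exact allRangeF_sound _ _ (checkPointF_eq cert) 146100 25 chkP_146100 i (by omega) (by omega)
                · skip
                  rcases Nat.lt_or_ge i 146150 with h9 | h9
                  · skip
                    exact allRangeF_sound _ _ (checkPointF_eq cert) 146125 25 chkP_146125 i (by omega) (by omega)
                  · skip
                    exact allRangeF_sound _ _ (checkPointF_eq cert) 146150 25 chkP_146150 i (by omega) (by omega)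
            · skip
              rcases Nat.lt_or_ge i 146225 with h7 | h7
              · skip
                rcases Nat.lt_or_ge i 146200 with h8 | h8
                · skip
                  exact allRangeF_sound _ _ (checkPointF_eq cert) 146175 25 chkP_146175 i (by omega) (by omega)
                · skip
                  exact allRangeF_sound _ _ (checkPointF_eq cert) 146200 25 chkP_146200 i (by omega) (by omega)
              · skip
                rcases Nat.lt_or_ge i 146250 with h8 | h8
                · skip
                  exact allRangeF_sound _ _ (checkPointF_eq cert) 146225 25 chkP_146225 i (by omega) (by omega)
                · skip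
                  rcases Nat.lt_or_ge i 146275 with h9 | h9
                  · skip
                    exact allRangeF_sound _ _ (checkPointF_eq cert) 146250 25 chkP_146250 i (by omega) (by omega)
                  · skip
                    exact allRangeF_sound _ _ (checkPointF_eq cert) 146275 25 chkP_146275 i (by omega) (by omega)
        · skip
          rcases Nat.lt_or_ge i 146525 with h5 | h5
          · skip
            rcases Nat.lt_or_ge i 146400 with h6 | h6
            · skip
              rcases Nat.lt_or_ge i 146350 with h7 | h7
              · skip
                rcases Nat.lt_or_ge i 146325 with h8 | h8
                · skip
                  exact allRangeF_sound _ _ (checkPointF_eq cert) 146300 25 chkP_146300 i (by omega) (by omega)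
                · skip
                  exact allRangeF_sound _ _ (checkPointF_eq cert) 146325 25 chkP_146325 i (by omega) (by omega)
              · skip
                rcases Nat.lt_or_ge i 146375 with h8 | h8
                · skip
                  exact allRangeF_sound _ _ (checkPointF_eq cert) 146350 25 chkP_146350 i (by omega) (by omega)
                · skip
                  exact allRangeF_sound _ _ (checkPointF_eq cert) 146375 25 chkP_146375 i (by omega) (by omega)
            · skip
              rcases Nat.lt_or_ge i 146450 with h7 | h7
              · skip
                rcases Nat.lt_or_ge i 146425 with h8 | h8
                · skip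
                  exact allRangeF_sound _ _ (checkPointF_eq cert) 146400 25 chkP_146400 i (by omega) (by omega)
                · skip
                  exact allRangeF_sound _ _ (checkPointF_eq cert) 146425 25 chkP_146425 i (by omega) (by omega)
              · skip
                rcases Nat.lt_or_ge i 146475 with h8 | h8
                · skip
                  exact allRangeF_sound _ _ (checkPointF_eq cert) 146450 25 chkP_146450 i (by omega) (by omega)
                · skip
                  rcases Nat.lt_or_ge i 146500 with h9 | h9
                  · skip
                    exact allRangeF_sound _ _ (checkPointF_eq cert) 146475 25 chkP_146475 i (by omega) (by omega)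
                  · skip
                    exact allRangeF_sound _ _ (checkPointF_eq cert) 146500 25 chkP_146500 i (by omega) (by omega)
          · skip
            rcases Nat.lt_or_ge i 146650 with h6 | h6
            · skip
              rcases Nat.lt_or_ge i 146575 with h7 | h7
              · skip
                rcases Nat.lt_or_ge i 146550 with h8 | h8
                · skip
                  exact allRangeF_sound _ _ (checkPointF_eq cert) 146525 25 chkP_146525 i (by omega) (by omega)
                · skip
                  exact allRangeF_sound _ _ (checkPointF_eq cert) 146550 25 chkP_146550 i (by omega) (by omega)
              · skip
                rcases Nat.lt_or_ge i 146600 with h8 | h8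
                · skip
                  exact allRangeF_sound _ _ (checkPointF_eq cert) 146575 25 chkP_146575 i (by omega) (by omega)
                · skip
                  rcases Nat.lt_or_ge i 146625 with h9 | h9
                  · skip
                    exact allRangeF_sound _ _ (checkPointF_eq cert) 146600 25 chkP_146600 i (by omega) (by omega)
                  · skip
                    exact allRangeF_sound _ _ (checkPointF_eq cert) 146625 25 chkP_146625 i (by omega) (by omega)
            · skip
              rcases Nat.lt_or_ge i 146700 with h7 | h7
              · skip
                rcases Nat.lt_or_ge i 146675 with h8 | h8
                · skip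
                  exact allRangeF_sound _ _ (checkPointF_eq cert) 146650 25 chkP_146650 i (by omega) (by omega)
                · skip
                  exact allRangeF_sound _ _ (checkPointF_eq cert) 146675 25 chkP_146675 i (by omega) (by omega)
              · skip
                rcases Nat.lt_or_ge i 146725 with h8 | h8
                · skip
                  exact allRangeF_sound _ _ (checkPointF_eq cert) 146700 25 chkP_146700 i (by omega) (by omega)
                · skip
                  rcases Nat.lt_or_ge i 146750 with h9 | h9
                  · skip
                    exact allRangeF_sound _ _ (checkPointF_eq cert) 146725 25 chkP_146725 i (by omega) (by omega)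
                  · skip
                    exact allRangeF_sound _ _ (checkPointF_eq cert) 146750 25 chkP_146750 i (by omega) (by omega)
      · skip
        rcases Nat.lt_or_ge i 147250 with h4 | h4
        · skip
          rcases Nat.lt_or_ge i 147000 with h5 | h5
          · skip
            rcases Nat.lt_or_ge i 146875 with h6 | h6
            · skip
              rcases Nat.lt_or_ge i 146825 with h7 | h7
              · skip
                rcases Nat.lt_or_ge i 146800 with h8 | h8
                · skip
                  exact allRangeF_sound _ _ (checkPointF_eq cert) 146775 25 chkP_146775 i (by omega) (by omega)
                · skip
                  exact allRangeF_sound _ _ (checkPointF_eq cert) 146800 25 chkP_146800 i (by omega) (by omega)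
              · skip
                rcases Nat.lt_or_ge i 146850 with h8 | h8
                · skip
                  exact allRangeF_sound _ _ (checkPointF_eq cert) 146825 25 chkP_146825 i (by omega) (by omega)
                · skip
                  exact allRangeF_sound _ _ (checkPointF_eq cert) 146850 25 chkP_146850 i (by omega) (by omega)
            · skip
              rcases Nat.lt_or_ge i 146925 with h7 | h7
              · skip
                rcases Nat.lt_or_ge i 146900 with h8 | h8
                · skip
                  exact allRangeF_sound _ _ (checkPointF_eq cert) 146875 25 chkP_146875 i (by omega) (by omega)
                · skip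
                  exact allRangeF_sound _ _ (checkPointF_eq cert) 146900 25 chkP_146900 i (by omega) (by omega)
              · skip
                rcases Nat.lt_or_ge i 146950 with h8 | h8
                · skip
                  exact allRangeF_sound _ _ (checkPointF_eq cert) 146925 25 chkP_146925 i (by omega) (by omega)
                · skip
                  rcases Nat.lt_or_ge i 146975 with h9 | h9
                  · skip
                    exact allRangeF_sound _ _ (checkPointF_eq cert) 146950 25 chkP_146950 i (by omega) (by omega)
                  · skip
                    exact allRangeF_sound _ _ (checkPointF_eq cert) 146975 25 chkP_146975 i (by omega) (by omega)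
          · skip
            rcases Nat.lt_or_ge i 147125 with h6 | h6
            · skip
              rcases Nat.lt_or_ge i 147050 with h7 | h7
              · skip
                rcases Nat.lt_or_ge i 147025 with h8 | h8
                · skip
                  exact allRangeF_sound _ _ (checkPointF_eq cert) 147000 25 chkP_147000 i (by omega) (by omega)
                · skip
                  exact allRangeF_sound _ _ (checkPointF_eq cert) 147025 25 chkP_147025 i (by omega) (by omega)
              · skip
                rcases Nat.lt_or_ge i 147075 with h8 | h8
                · skip
                  exact allRangeF_sound _ _ (checkPointF_eq cert) 147050 25 chkP_147050 i (by omega) (by omega)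
                · skip
                  rcases Nat.lt_or_ge i 147100 with h9 | h9
                  · skip
                    exact allRangeF_sound _ _ (checkPointF_eq cert) 147075 25 chkP_147075 i (by omega) (by omega)
                  · skip
                    exact allRangeF_sound _ _ (checkPointF_eq cert) 147100 25 chkP_147100 i (by omega) (by omega)
            · skip
              rcases Nat.lt_or_ge i 147175 with h7 | h7
              · skip
                rcases Nat.lt_or_ge i 147150 with h8 | h8
                · skip
                  exact allRangeF_sound _ _ (checkPointF_eq cert) 147125 25 chkP_147125 i (by omega) (by omega)
                · skip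
                  exact allRangeF_sound _ _ (checkPointF_eq cert) 147150 25 chkP_147150 i (by omega) (by omega)
              · skip
                rcases Nat.lt_or_ge i 147200 with h8 | h8
                · skip
                  exact allRangeF_sound _ _ (checkPointF_eq cert) 147175 25 chkP_147175 i (by omega) (by omega)
                · skip
                  rcases Nat.lt_or_ge i 147225 with h9 | h9
                  · skip
                    exact allRangeF_sound _ _ (checkPointF_eq cert) 147200 25 chkP_147200 i (by omega) (by omega)
                  · skip
                    exact allRangeF_sound _ _ (checkPointF_eq cert) 147225 25 chkP_147225 i (by omega) (by omega)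
        · skip
          rcases Nat.lt_or_ge i 147475 with h5 | h5
          · skip
            rcases Nat.lt_or_ge i 147350 with h6 | h6
            · skip
              rcases Nat.lt_or_ge i 147300 with h7 | h7
              · skip
                rcases Nat.lt_or_ge i 147275 with h8 | h8
                · skip
                  exact allRangeF_sound _ _ (checkPointF_eq cert) 147250 25 chkP_147250 i (by omega) (by omega)
                · skip
                  exact allRangeF_sound _ _ (checkPointF_eq cert) 147275 25 chkP_147275 i (by omega) (by omega)
              · skip
                rcases Nat.lt_or_ge i 147325 with h8 | h8
                · skip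
                  exact allRangeF_sound _ _ (checkPointF_eq cert) 147300 25 chkP_147300 i (by omega) (by omega)
                · skip
                  exact allRangeF_sound _ _ (checkPointF_eq cert) 147325 25 chkP_147325 i (by omega) (by omega)
            · skip
              rcases Nat.lt_or_ge i 147400 with h7 | h7
              · skip
                rcases Nat.lt_or_ge i 147375 with h8 | h8
                · skip
                  exact allRangeF_sound _ _ (checkPointF_eq cert) 147350 25 chkP_147350 i (by omega) (by omega)
                · skip
                  exact allRangeF_sound _ _ (checkPointF_eq cert) 147375 25 chkP_147375 i (by omega) (by omega)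
              · skip
                rcases Nat.lt_or_ge i 147425 with h8 | h8
                · skip
                  exact allRangeF_sound _ _ (checkPointF_eq cert) 147400 25 chkP_147400 i (by omega) (by omega)
                · skip
                  rcases Nat.lt_or_ge i 147450 with h9 | h9
                  · skip
                    exact allRangeF_sound _ _ (checkPointF_eq cert) 147425 25 chkP_147425 i (by omega) (by omega)
                  · skip
                    exact allRangeF_sound _ _ (checkPointF_eq cert) 147450 25 chkP_147450 i (by omega) (by omega)
          · skip
            rcases Nat.lt_or_ge i 147600 with h6 | h6
            · skip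
              rcases Nat.lt_or_ge i 147525 with h7 | h7
              · skip
                rcases Nat.lt_or_ge i 147500 with h8 | h8
                · skip
                  exact allRangeF_sound _ _ (checkPointF_eq cert) 147475 25 chkP_147475 i (by omega) (by omega)
                · skip
                  exact allRangeF_sound _ _ (checkPointF_eq cert) 147500 25 chkP_147500 i (by omega) (by omega)
              · skip
                rcases Nat.lt_or_ge i 147550 with h8 | h8
                · skip
                  exact allRangeF_sound _ _ (checkPointF_eq cert) 147525 25 chkP_147525 i (by omega) (by omega)
                · skip
                  rcases Nat.lt_or_ge i 147575 with h9 | h9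
                  · skip
                    exact allRangeF_sound _ _ (checkPointF_eq cert) 147550 25 chkP_147550 i (by omega) (by omega)
                  · skip
                    exact allRangeF_sound _ _ (checkPointF_eq cert) 147575 25 chkP_147575 i (by omega) (by omega)
            · skip
              rcases Nat.lt_or_ge i 147650 with h7 | h7
              · skip
                rcases Nat.lt_or_ge i 147625 with h8 | h8
                · skip
                  exact allRangeF_sound _ _ (checkPointF_eq cert) 147600 25 chkP_147600 i (by omega) (by omega)
                · skip
                  exact allRangeF_sound _ _ (checkPointF_eq cert) 147625 25 chkP_147625 i (by omega) (by omega)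
              · skip
                rcases Nat.lt_or_ge i 147675 with h8 | h8
                · skip
                  exact allRangeF_sound _ _ (checkPointF_eq cert) 147650 25 chkP_147650 i (by omega) (by omega)
                · skip
                  rcases Nat.lt_or_ge i 147700 with h9 | h9
                  · skip
                    exact allRangeF_sound _ _ (checkPointF_eq cert) 147675 25 chkP_147675 i (by omega) (by omega)
                  · skip
                    exact allRangeF_sound _ _ (checkPointF_eq cert) 147700 25 chkP_147700 i (by omega) (by omega)
    · skip
      rcases Nat.lt_or_ge i 148675 with h3 | h3
      · skip
        rcases Nat.lt_or_ge i 148200 with h4 | h4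
        · skip
          rcases Nat.lt_or_ge i 147950 with h5 | h5
          · skip
            rcases Nat.lt_or_ge i 147825 with h6 | h6
            · skip
              rcases Nat.lt_or_ge i 147775 with h7 | h7
              · skip
                rcases Nat.lt_or_ge i 147750 with h8 | h8
                · skip
                  exact allRangeF_sound _ _ (checkPointF_eq cert) 147725 25 chkP_147725 i (by omega) (by omega)
                · skip
                  exact allRangeF_sound _ _ (checkPointF_eq cert) 147750 25 chkP_147750 i (by omega) (by omega)
              · skip
                rcases Nat.lt_or_ge i 147800 with h8 | h8
                · skip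
                  exact allRangeF_sound _ _ (checkPointF_eq cert) 147775 25 chkP_147775 i (by omega) (by omega)
                · skip
                  exact allRangeF_sound _ _ (checkPointF_eq cert) 147800 25 chkP_147800 i (by omega) (by omega)
            · skip
              rcases Nat.lt_or_ge i 147875 with h7 | h7
              · skip
                rcases Nat.lt_or_ge i 147850 with h8 | h8
                · skip
                  exact allRangeF_sound _ _ (checkPointF_eq cert) 147825 25 chkP_147825 i (by omega) (by omega)
                · skip
                  exact allRangeF_sound _ _ (checkPointF_eq cert) 147850 25 chkP_147850 i (by omega) (by omega)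
              · skip
                rcases Nat.lt_or_ge i 147900 with h8 | h8
                · skip
                  exact allRangeF_sound _ _ (checkPointF_eq cert) 147875 25 chkP_147875 i (by omega) (by omega)
                · skip
                  rcases Nat.lt_or_ge i 147925 with h9 | h9
                  · skip
                    exact allRangeF_sound _ _ (checkPointF_eq cert) 147900 25 chkP_147900 i (by omega) (by omega)
                  · skip
                    exact allRangeF_sound _ _ (checkPointF_eq cert) 147925 25 chkP_147925 i (by omega) (by omega)
          · skip
            rcases Nat.lt_or_ge i 148075 with h6 | h6
            · skip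
              rcases Nat.lt_or_ge i 148000 with h7 | h7
              · skip
                rcases Nat.lt_or_ge i 147975 with h8 | h8
                · skip
                  exact allRangeF_sound _ _ (checkPointF_eq cert) 147950 25 chkP_147950 i (by omega) (by omega)
                · skip
                  exact allRangeF_sound _ _ (checkPointF_eq cert) 147975 25 chkP_147975 i (by omega) (by omega)
              · skip
                rcases Nat.lt_or_ge i 148025 with h8 | h8
                · skip
                  exact allRangeF_sound _ _ (checkPointF_eq cert) 148000 25 chkP_148000 i (by omega) (by omega)
                · skip
                  rcases Nat.lt_or_ge i 148050 with h9 | h9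
                  · skip
                    exact allRangeF_sound _ _ (checkPointF_eq cert) 148025 25 chkP_148025 i (by omega) (by omega)
                  · skip
                    exact allRangeF_sound _ _ (checkPointF_eq cert) 148050 25 chkP_148050 i (by omega) (by omega)
            · skip
              rcases Nat.lt_or_ge i 148125 with h7 | h7
              · skip
                rcases Nat.lt_or_ge i 148100 with h8 | h8
                · skip
                  exact allRangeF_sound _ _ (checkPointF_eq cert) 148075 25 chkP_148075 i (by omega) (by omega)
                · skip
                  exact allRangeF_sound _ _ (checkPointF_eq cert) 148100 25 chkP_148100 i (by omega) (by omega)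
              · skip
                rcases Nat.lt_or_ge i 148150 with h8 | h8
                · skip
                  exact allRangeF_sound _ _ (checkPointF_eq cert) 148125 25 chkP_148125 i (by omega) (by omega)
                · skip
                  rcases Nat.lt_or_ge i 148175 with h9 | h9
                  · skip
                    exact allRangeF_sound _ _ (checkPointF_eq cert) 148150 25 chkP_148150 i (by omega) (by omega)
                  · skip
                    exact allRangeF_sound _ _ (checkPointF_eq cert) 148175 25 chkP_148175 i (by omega) (by omega)
        · skip
          rcases Nat.lt_or_ge i 148425 with h5 | h5
          · skip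
            rcases Nat.lt_or_ge i 148300 with h6 | h6
            · skip
              rcases Nat.lt_or_ge i 148250 with h7 | h7
              · skip
                rcases Nat.lt_or_ge i 148225 with h8 | h8
                · skip
                  exact allRangeF_sound _ _ (checkPointF_eq cert) 148200 25 chkP_148200 i (by omega) (by omega)
                · skip
                  exact allRangeF_sound _ _ (checkPointF_eq cert) 148225 25 chkP_148225 i (by omega) (by omega)
              · skip
                rcases Nat.lt_or_ge i 148275 with h8 | h8
                · skip
                  exact allRangeF_sound _ _ (checkPointF_eq cert) 148250 25 chkP_148250 i (by omega) (by omega)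
                · skip
                  exact allRangeF_sound _ _ (checkPointF_eq cert) 148275 25 chkP_148275 i (by omega) (by omega)
            · skip
              rcases Nat.lt_or_ge i 148350 with h7 | h7
              · skip
                rcases Nat.lt_or_ge i 148325 with h8 | h8
                · skip
                  exact allRangeF_sound _ _ (checkPointF_eq cert) 148300 25 chkP_148300 i (by omega) (by omega)
                · skip
                  exact allRangeF_sound _ _ (checkPointF_eq cert) 148325 25 chkP_148325 i (by omega) (by omega)
              · skip
                rcases Nat.lt_or_ge i 148375 with h8 | h8
                · skip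
                  exact allRangeF_sound _ _ (checkPointF_eq cert) 148350 25 chkP_148350 i (by omega) (by omega)
                · skip
                  rcases Nat.lt_or_ge i 148400 with h9 | h9
                  · skip
                    exact allRangeF_sound _ _ (checkPointF_eq cert) 148375 25 chkP_148375 i (by omega) (by omega)
                  · skip
                    exact allRangeF_sound _ _ (checkPointF_eq cert) 148400 25 chkP_148400 i (by omega) (by omega)
          · skip
            rcases Nat.lt_or_ge i 148550 with h6 | h6
            · skip
              rcases Nat.lt_or_ge i 148475 with h7 | h7
              · skip
                rcases Nat.lt_or_ge i 148450 with h8 | h8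
                · skip
                  exact allRangeF_sound _ _ (checkPointF_eq cert) 148425 25 chkP_148425 i (by omega) (by omega)
                · skip
                  exact allRangeF_sound _ _ (checkPointF_eq cert) 148450 25 chkP_148450 i (by omega) (by omega)
              · skip
                rcases Nat.lt_or_ge i 148500 with h8 | h8
                · skip
                  exact allRangeF_sound _ _ (checkPointF_eq cert) 148475 25 chkP_148475 i (by omega) (by omega)
                · skip
                  rcases Nat.lt_or_ge i 148525 with h9 | h9
                  · skip
                    exact allRangeF_sound _ _ (checkPointF_eq cert) 148500 25 chkP_148500 i (by omega) (by omega)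
                  · skip
                    exact allRangeF_sound _ _ (checkPointF_eq cert) 148525 25 chkP_148525 i (by omega) (by omega)
            · skip
              rcases Nat.lt_or_ge i 148600 with h7 | h7
              · skip
                rcases Nat.lt_or_ge i 148575 with h8 | h8
                · skip
                  exact allRangeF_sound _ _ (checkPointF_eq cert) 148550 25 chkP_148550 i (by omega) (by omega)
                · skip
                  exact allRangeF_sound _ _ (checkPointF_eq cert) 148575 25 chkP_148575 i (by omega) (by omega)
              · skip
                rcases Nat.lt_or_ge i 148625 with h8 | h8
                · skip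
                  exact allRangeF_sound _ _ (checkPointF_eq cert) 148600 25 chkP_148600 i (by omega) (by omega)
                · skip
                  rcases Nat.lt_or_ge i 148650 with h9 | h9
                  · skip
                    exact allRangeF_sound _ _ (checkPointF_eq cert) 148625 25 chkP_148625 i (by omega) (by omega)
                  · skip
                    exact allRangeF_sound _ _ (checkPointF_eq cert) 148650 25 chkP_148650 i (by omega) (by omega)
      · skip
        rcases Nat.lt_or_ge i 149150 with h4 | h4
        · skip
          rcases Nat.lt_or_ge i 148900 with h5 | h5
          · skip
            rcases Nat.lt_or_ge i 148775 with h6 | h6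
            · skip
              rcases Nat.lt_or_ge i 148725 with h7 | h7
              · skip
                rcases Nat.lt_or_ge i 148700 with h8 | h8
                · skip
                  exact allRangeF_sound _ _ (checkPointF_eq cert) 148675 25 chkP_148675 i (by omega) (by omega)
                · skip
                  exact allRangeF_sound _ _ (checkPointF_eq cert) 148700 25 chkP_148700 i (by omega) (by omega)
              · skip
                rcases Nat.lt_or_ge i 148750 with h8 | h8
                · skip
                  exact allRangeF_sound _ _ (checkPointF_eq cert) 148725 25 chkP_148725 i (by omega) (by omega)
                · skip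
                  exact allRangeF_sound _ _ (checkPointF_eq cert) 148750 25 chkP_148750 i (by omega) (by omega)
            · skip
              rcases Nat.lt_or_ge i 148825 with h7 | h7
              · skip
                rcases Nat.lt_or_ge i 148800 with h8 | h8
                · skip
                  exact allRangeF_sound _ _ (checkPointF_eq cert) 148775 25 chkP_148775 i (by omega) (by omega)
                · skip
                  exact allRangeF_sound _ _ (checkPointF_eq cert) 148800 25 chkP_148800 i (by omega) (by omega)
              · skip
                rcases Nat.lt_or_ge i 148850 with h8 | h8
                · skip
                  exact allRangeF_sound _ _ (checkPointF_eq cert) 148825 25 chkP_148825 i (by omega) (by omega)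
                · skip
                  rcases Nat.lt_or_ge i 148875 with h9 | h9
                  · skip
                    exact allRangeF_sound _ _ (checkPointF_eq cert) 148850 25 chkP_148850 i (by omega) (by omega)
                  · skip
                    exact allRangeF_sound _ _ (checkPointF_eq cert) 148875 25 chkP_148875 i (by omega) (by omega)
          · skip
            rcases Nat.lt_or_ge i 149025 with h6 | h6
            · skip
              rcases Nat.lt_or_ge i 148950 with h7 | h7
              · skip
                rcases Nat.lt_or_ge i 148925 with h8 | h8
                · skip
                  exact allRangeF_sound _ _ (checkPointF_eq cert) 148900 25 chkP_148900 i (by omega) (by omega)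
                · skip
                  exact allRangeF_sound _ _ (checkPointF_eq cert) 148925 25 chkP_148925 i (by omega) (by omega)
              · skip
                rcases Nat.lt_or_ge i 148975 with h8 | h8
                · skip
                  exact allRangeF_sound _ _ (checkPointF_eq cert) 148950 25 chkP_148950 i (by omega) (by omega)
                · skip
                  rcases Nat.lt_or_ge i 149000 with h9 | h9
                  · skip
                    exact allRangeF_sound _ _ (checkPointF_eq cert) 148975 25 chkP_148975 i (by omega) (by omega)
                  · skip
                    exact allRangeF_sound _ _ (checkPointF_eq cert) 149000 25 chkP_149000 i (by omega) (by omega)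
            · skip
              rcases Nat.lt_or_ge i 149075 with h7 | h7
              · skip
                rcases Nat.lt_or_ge i 149050 with h8 | h8
                · skip
                  exact allRangeF_sound _ _ (checkPointF_eq cert) 149025 25 chkP_149025 i (by omega) (by omega)
                · skip
                  exact allRangeF_sound _ _ (checkPointF_eq cert) 149050 25 chkP_149050 i (by omega) (by omega)
              · skip
                rcases Nat.lt_or_ge i 149100 with h8 | h8
                · skip
                  exact allRangeF_sound _ _ (checkPointF_eq cert) 149075 25 chkP_149075 i (by omega) (by omega)
                · skip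
                  rcases Nat.lt_or_ge i 149125 with h9 | h9
                  · skip
                    exact allRangeF_sound _ _ (checkPointF_eq cert) 149100 25 chkP_149100 i (by omega) (by omega)
                  · skip
                    exact allRangeF_sound _ _ (checkPointF_eq cert) 149125 25 chkP_149125 i (by omega) (by omega)
        · skip
          rcases Nat.lt_or_ge i 149400 with h5 | h5
          · skip
            rcases Nat.lt_or_ge i 149275 with h6 | h6
            · skip
              rcases Nat.lt_or_ge i 149200 with h7 | h7
              · skip
                rcases Nat.lt_or_ge i 149175 with h8 | h8
                · skip
                  exact allRangeF_sound _ _ (checkPointF_eq cert) 149150 25 chkP_149150 i (by omega) (by omega)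
                · skip
                  exact allRangeF_sound _ _ (checkPointF_eq cert) 149175 25 chkP_149175 i (by omega) (by omega)
              · skip
                rcases Nat.lt_or_ge i 149225 with h8 | h8
                · skip
                  exact allRangeF_sound _ _ (checkPointF_eq cert) 149200 25 chkP_149200 i (by omega) (by omega)
                · skip
                  rcases Nat.lt_or_ge i 149250 with h9 | h9
                  · skip
                    exact allRangeF_sound _ _ (checkPointF_eq cert) 149225 25 chkP_149225 i (by omega) (by omega)
                  · skip
                    exact allRangeF_sound _ _ (checkPointF_eq cert) 149250 25 chkP_149250 i (by omega) (by omega)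
            · skip
              rcases Nat.lt_or_ge i 149325 with h7 | h7
              · skip
                rcases Nat.lt_or_ge i 149300 with h8 | h8
                · skip
                  exact allRangeF_sound _ _ (checkPointF_eq cert) 149275 25 chkP_149275 i (by omega) (by omega)
                · skip
                  exact allRangeF_sound _ _ (checkPointF_eq cert) 149300 25 chkP_149300 i (by omega) (by omega)
              · skip
                rcases Nat.lt_or_ge i 149350 with h8 | h8
                · skip
                  exact allRangeF_sound _ _ (checkPointF_eq cert) 149325 25 chkP_149325 i (by omega) (by omega)
                · skip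
                  rcases Nat.lt_or_ge i 149375 with h9 | h9
                  · skip
                    exact allRangeF_sound _ _ (checkPointF_eq cert) 149350 25 chkP_149350 i (by omega) (by omega)
                  · skip
                    exact allRangeF_sound _ _ (checkPointF_eq cert) 149375 25 chkP_149375 i (by omega) (by omega)
          · skip
            rcases Nat.lt_or_ge i 149525 with h6 | h6
            · skip
              rcases Nat.lt_or_ge i 149450 with h7 | h7
              · skip
                rcases Nat.lt_or_ge i 149425 with h8 | h8
                · skip
                  exact allRangeF_sound _ _ (checkPointF_eq cert) 149400 25 chkP_149400 i (by omega) (by omega)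
                · skip
                  exact allRangeF_sound _ _ (checkPointF_eq cert) 149425 25 chkP_149425 i (by omega) (by omega)
              · skip
                rcases Nat.lt_or_ge i 149475 with h8 | h8
                · skip
                  exact allRangeF_sound _ _ (checkPointF_eq cert) 149450 25 chkP_149450 i (by omega) (by omega)
                · skip
                  rcases Nat.lt_or_ge i 149500 with h9 | h9
                  · skip
                    exact allRangeF_sound _ _ (checkPointF_eq cert) 149475 25 chkP_149475 i (by omega) (by omega)
                  · skip
                    exact allRangeF_sound _ _ (checkPointF_eq cert) 149500 25 chkP_149500 i (by omega) (by omega)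
            · skip
              rcases Nat.lt_or_ge i 149575 with h7 | h7
              · skip
                rcases Nat.lt_or_ge i 149550 with h8 | h8
                · skip
                  exact allRangeF_sound _ _ (checkPointF_eq cert) 149525 25 chkP_149525 i (by omega) (by omega)
                · skip
                  exact allRangeF_sound _ _ (checkPointF_eq cert) 149550 25 chkP_149550 i (by omega) (by omega)
              · skip
                rcases Nat.lt_or_ge i 149600 with h8 | h8
                · skip
                  exact allRangeF_sound _ _ (checkPointF_eq cert) 149575 25 chkP_149575 i (by omega) (by omega)
                · skip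
                  rcases Nat.lt_or_ge i 149625 with h9 | h9
                  · skip
                    exact allRangeF_sound _ _ (checkPointF_eq cert) 149600 25 chkP_149600 i (by omega) (by omega)
                  · skip
                    exact allRangeF_sound _ _ (checkPointF_eq cert) 149625 25 chkP_149625 i (by omega) (by omega)
  · skip
    rcases Nat.lt_or_ge i 151575 with h2 | h2
    · skip
      rcases Nat.lt_or_ge i 150600 with h3 | h3
      · skip
        rcases Nat.lt_or_ge i 150125 with h4 | h4
        · skip
          rcases Nat.lt_or_ge i 149875 with h5 | h5
          · skip
            rcases Nat.lt_or_ge i 149750 with h6 | h6
            · skip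
              rcases Nat.lt_or_ge i 149700 with h7 | h7
              · skip
                rcases Nat.lt_or_ge i 149675 with h8 | h8
                · skip
                  exact allRangeF_sound _ _ (checkPointF_eq cert) 149650 25 chkP_149650 i (by omega) (by omega)
                · skip
                  exact allRangeF_sound _ _ (checkPointF_eq cert) 149675 25 chkP_149675 i (by omega) (by omega)
              · skip
                rcases Nat.lt_or_ge i 149725 with h8 | h8
                · skip
                  exact allRangeF_sound _ _ (checkPointF_eq cert) 149700 25 chkP_149700 i (by omega) (by omega)
                · skip
                  exact allRangeF_sound _ _ (checkPointF_eq cert) 149725 25 chkP_149725 i (by omega) (by omega)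
            · skip
              rcases Nat.lt_or_ge i 149800 with h7 | h7
              · skip
                rcases Nat.lt_or_ge i 149775 with h8 | h8
                · skip
                  exact allRangeF_sound _ _ (checkPointF_eq cert) 149750 25 chkP_149750 i (by omega) (by omega)
                · skip
                  exact allRangeF_sound _ _ (checkPointF_eq cert) 149775 25 chkP_149775 i (by omega) (by omega)
              · skip
                rcases Nat.lt_or_ge i 149825 with h8 | h8
                · skip
                  exact allRangeF_sound _ _ (checkPointF_eq cert) 149800 25 chkP_149800 i (by omega) (by omega)
                · skip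
                  rcases Nat.lt_or_ge i 149850 with h9 | h9
                  · skip
                    exact allRangeF_sound _ _ (checkPointF_eq cert) 149825 25 chkP_149825 i (by omega) (by omega)
                  · skip
                    exact allRangeF_sound _ _ (checkPointF_eq cert) 149850 25 chkP_149850 i (by omega) (by omega)
          · skip
            rcases Nat.lt_or_ge i 150000 with h6 | h6
            · skip
              rcases Nat.lt_or_ge i 149925 with h7 | h7
              · skip
                rcases Nat.lt_or_ge i 149900 with h8 | h8
                · skip
                  exact allRangeF_sound _ _ (checkPointF_eq cert) 149875 25 chkP_149875 i (by omega) (by omega)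
                · skip
                  exact allRangeF_sound _ _ (checkPointF_eq cert) 149900 25 chkP_149900 i (by omega) (by omega)
              · skip
                rcases Nat.lt_or_ge i 149950 with h8 | h8
                · skip
                  exact allRangeF_sound _ _ (checkPointF_eq cert) 149925 25 chkP_149925 i (by omega) (by omega)
                · skip
                  rcases Nat.lt_or_ge i 149975 with h9 | h9
                  · skip
                    exact allRangeF_sound _ _ (checkPointF_eq cert) 149950 25 chkP_149950 i (by omega) (by omega)
                  · skip
                    exact allRangeF_sound _ _ (checkPointF_eq cert) 149975 25 chkP_149975 i (by omega) (by omega)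
            · skip
              rcases Nat.lt_or_ge i 150050 with h7 | h7
              · skip
                rcases Nat.lt_or_ge i 150025 with h8 | h8
                · skip
                  exact allRangeF_sound _ _ (checkPointF_eq cert) 150000 25 chkP_150000 i (by omega) (by omega)
                · skip
                  exact allRangeF_sound _ _ (checkPointF_eq cert) 150025 25 chkP_150025 i (by omega) (by omega)
              · skip
                rcases Nat.lt_or_ge i 150075 with h8 | h8
                · skip
                  exact allRangeF_sound _ _ (checkPointF_eq cert) 150050 25 chkP_150050 i (by omega) (by omega)
                · skip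
                  rcases Nat.lt_or_ge i 150100 with h9 | h9
                  · skip
                    exact allRangeF_sound _ _ (checkPointF_eq cert) 150075 25 chkP_150075 i (by omega) (by omega)
                  · skip
                    exact allRangeF_sound _ _ (checkPointF_eq cert) 150100 25 chkP_150100 i (by omega) (by omega)
        · skip
          rcases Nat.lt_or_ge i 150350 with h5 | h5
          · skip
            rcases Nat.lt_or_ge i 150225 with h6 | h6
            · skip
              rcases Nat.lt_or_ge i 150175 with h7 | h7
              · skip
                rcases Nat.lt_or_ge i 150150 with h8 | h8
                · skip
                  exact allRangeF_sound _ _ (checkPointF_eq cert) 150125 25 chkP_150125 i (by omega) (by omega)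
                · skip
                  exact allRangeF_sound _ _ (checkPointF_eq cert) 150150 25 chkP_150150 i (by omega) (by omega)
              · skip
                rcases Nat.lt_or_ge i 150200 with h8 | h8
                · skip
                  exact allRangeF_sound _ _ (checkPointF_eq cert) 150175 25 chkP_150175 i (by omega) (by omega)
                · skip
                  exact allRangeF_sound _ _ (checkPointF_eq cert) 150200 25 chkP_150200 i (by omega) (by omega)
            · skip
              rcases Nat.lt_or_ge i 150275 with h7 | h7
              · skip
                rcases Nat.lt_or_ge i 150250 with h8 | h8
                · skip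
                  exact allRangeF_sound _ _ (checkPointF_eq cert) 150225 25 chkP_150225 i (by omega) (by omega)
                · skip
                  exact allRangeF_sound _ _ (checkPointF_eq cert) 150250 25 chkP_150250 i (by omega) (by omega)
              · skip
                rcases Nat.lt_or_ge i 150300 with h8 | h8
                · skip
                  exact allRangeF_sound _ _ (checkPointF_eq cert) 150275 25 chkP_150275 i (by omega) (by omega)
                · skip
                  rcases Nat.lt_or_ge i 150325 with h9 | h9
                  · skip
                    exact allRangeF_sound _ _ (checkPointF_eq cert) 150300 25 chkP_150300 i (by omega) (by omega)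
                  · skip
                    exact allRangeF_sound _ _ (checkPointF_eq cert) 150325 25 chkP_150325 i (by omega) (by omega)
          · skip
            rcases Nat.lt_or_ge i 150475 with h6 | h6
            · skip
              rcases Nat.lt_or_ge i 150400 with h7 | h7
              · skip
                rcases Nat.lt_or_ge i 150375 with h8 | h8
                · skip
                  exact allRangeF_sound _ _ (checkPointF_eq cert) 150350 25 chkP_150350 i (by omega) (by omega)
                · skip
                  exact allRangeF_sound _ _ (checkPointF_eq cert) 150375 25 chkP_150375 i (by omega) (by omega)
              · skip
                rcases Nat.lt_or_ge i 150425 with h8 | h8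
                · skip
                  exact allRangeF_sound _ _ (checkPointF_eq cert) 150400 25 chkP_150400 i (by omega) (by omega)
                · skip
                  rcases Nat.lt_or_ge i 150450 with h9 | h9
                  · skip
                    exact allRangeF_sound _ _ (checkPointF_eq cert) 150425 25 chkP_150425 i (by omega) (by omega)
                  · skip
                    exact allRangeF_sound _ _ (checkPointF_eq cert) 150450 25 chkP_150450 i (by omega) (by omega)
            · skip
              rcases Nat.lt_or_ge i 150525 with h7 | h7
              · skip
                rcases Nat.lt_or_ge i 150500 with h8 | h8
                · skip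
                  exact allRangeF_sound _ _ (checkPointF_eq cert) 150475 25 chkP_150475 i (by omega) (by omega)
                · skip
                  exact allRangeF_sound _ _ (checkPointF_eq cert) 150500 25 chkP_150500 i (by omega) (by omega)
              · skip
                rcases Nat.lt_or_ge i 150550 with h8 | h8
                · skip
                  exact allRangeF_sound _ _ (checkPointF_eq cert) 150525 25 chkP_150525 i (by omega) (by omega)
                · skip
                  rcases Nat.lt_or_ge i 150575 with h9 | h9
                  · skip
                    exact allRangeF_sound _ _ (checkPointF_eq cert) 150550 25 chkP_150550 i (by omega) (by omega)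
                  · skip
                    exact allRangeF_sound _ _ (checkPointF_eq cert) 150575 25 chkP_150575 i (by omega) (by omega)
      · skip
        rcases Nat.lt_or_ge i 151075 with h4 | h4
        · skip
          rcases Nat.lt_or_ge i 150825 with h5 | h5
          · skip
            rcases Nat.lt_or_ge i 150700 with h6 | h6
            · skip
              rcases Nat.lt_or_ge i 150650 with h7 | h7
              · skip
                rcases Nat.lt_or_ge i 150625 with h8 | h8
                · skip
                  exact allRangeF_sound _ _ (checkPointF_eq cert) 150600 25 chkP_150600 i (by omega) (by omega)
                · skip
                  exact allRangeF_sound _ _ (checkPointF_eq cert) 150625 25 chkP_150625 i (by omega) (by omega)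
              · skip
                rcases Nat.lt_or_ge i 150675 with h8 | h8
                · skip
                  exact allRangeF_sound _ _ (checkPointF_eq cert) 150650 25 chkP_150650 i (by omega) (by omega)
                · skip
                  exact allRangeF_sound _ _ (checkPointF_eq cert) 150675 25 chkP_150675 i (by omega) (by omega)
            · skip
              rcases Nat.lt_or_ge i 150750 with h7 | h7
              · skip
                rcases Nat.lt_or_ge i 150725 with h8 | h8
                · skip
                  exact allRangeF_sound _ _ (checkPointF_eq cert) 150700 25 chkP_150700 i (by omega) (by omega)
                · skip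
                  exact allRangeF_sound _ _ (checkPointF_eq cert) 150725 25 chkP_150725 i (by omega) (by omega)
              · skip
                rcases Nat.lt_or_ge i 150775 with h8 | h8
                · skip
                  exact allRangeF_sound _ _ (checkPointF_eq cert) 150750 25 chkP_150750 i (by omega) (by omega)
                · skip
                  rcases Nat.lt_or_ge i 150800 with h9 | h9
                  · skip
                    exact allRangeF_sound _ _ (checkPointF_eq cert) 150775 25 chkP_150775 i (by omega) (by omega)
                  · skip
                    exact allRangeF_sound _ _ (checkPointF_eq cert) 150800 25 chkP_150800 i (by omega) (by omega)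
          · skip
            rcases Nat.lt_or_ge i 150950 with h6 | h6
            · skip
              rcases Nat.lt_or_ge i 150875 with h7 | h7
              · skip
                rcases Nat.lt_or_ge i 150850 with h8 | h8
                · skip
                  exact allRangeF_sound _ _ (checkPointF_eq cert) 150825 25 chkP_150825 i (by omega) (by omega)
                · skip
                  exact allRangeF_sound _ _ (checkPointF_eq cert) 150850 25 chkP_150850 i (by omega) (by omega)
              · skip
                rcases Nat.lt_or_ge i 150900 with h8 | h8
                · skip
                  exact allRangeF_sound _ _ (checkPointF_eq cert) 150875 25 chkP_150875 i (by omega) (by omega)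
                · skip
                  rcases Nat.lt_or_ge i 150925 with h9 | h9
                  · skip
                    exact allRangeF_sound _ _ (checkPointF_eq cert) 150900 25 chkP_150900 i (by omega) (by omega)
                  · skip
                    exact allRangeF_sound _ _ (checkPointF_eq cert) 150925 25 chkP_150925 i (by omega) (by omega)
            · skip
              rcases Nat.lt_or_ge i 151000 with h7 | h7
              · skip
                rcases Nat.lt_or_ge i 150975 with h8 | h8
                · skip
                  exact allRangeF_sound _ _ (checkPointF_eq cert) 150950 25 chkP_150950 i (by omega) (by omega)
                · skip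
                  exact allRangeF_sound _ _ (checkPointF_eq cert) 150975 25 chkP_150975 i (by omega) (by omega)
              · skip
                rcases Nat.lt_or_ge i 151025 with h8 | h8
                · skip
                  exact allRangeF_sound _ _ (checkPointF_eq cert) 151000 25 chkP_151000 i (by omega) (by omega)
                · skip
                  rcases Nat.lt_or_ge i 151050 with h9 | h9
                  · skip
                    exact allRangeF_sound _ _ (checkPointF_eq cert) 151025 25 chkP_151025 i (by omega) (by omega)
                  · skip
                    exact allRangeF_sound _ _ (checkPointF_eq cert) 151050 25 chkP_151050 i (by omega) (by omega)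
        · skip
          rcases Nat.lt_or_ge i 151325 with h5 | h5
          · skip
            rcases Nat.lt_or_ge i 151200 with h6 | h6
            · skip
              rcases Nat.lt_or_ge i 151125 with h7 | h7
              · skip
                rcases Nat.lt_or_ge i 151100 with h8 | h8
                · skip
                  exact allRangeF_sound _ _ (checkPointF_eq cert) 151075 25 chkP_151075 i (by omega) (by omega)
                · skip
                  exact allRangeF_sound _ _ (checkPointF_eq cert) 151100 25 chkP_151100 i (by omega) (by omega)
              · skip
                rcases Nat.lt_or_ge i 151150 with h8 | h8
                · skip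
                  exact allRangeF_sound _ _ (checkPointF_eq cert) 151125 25 chkP_151125 i (by omega) (by omega)
                · skip
                  rcases Nat.lt_or_ge i 151175 with h9 | h9
                  · skip
                    exact allRangeF_sound _ _ (checkPointF_eq cert) 151150 25 chkP_151150 i (by omega) (by omega)
                  · skip
                    exact allRangeF_sound _ _ (checkPointF_eq cert) 151175 25 chkP_151175 i (by omega) (by omega)
            · skip
              rcases Nat.lt_or_ge i 151250 with h7 | h7
              · skip
                rcases Nat.lt_or_ge i 151225 with h8 | h8
                · skip
                  exact allRangeF_sound _ _ (checkPointF_eq cert) 151200 25 chkP_151200 i (by omega) (by omega)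
                · skip
                  exact allRangeF_sound _ _ (checkPointF_eq cert) 151225 25 chkP_151225 i (by omega) (by omega)
              · skip
                rcases Nat.lt_or_ge i 151275 with h8 | h8
                · skip
                  exact allRangeF_sound _ _ (checkPointF_eq cert) 151250 25 chkP_151250 i (by omega) (by omega)
                · skip
                  rcases Nat.lt_or_ge i 151300 with h9 | h9
                  · skip
                    exact allRangeF_sound _ _ (checkPointF_eq cert) 151275 25 chkP_151275 i (by omega) (by omega)
                  · skip
                    exact allRangeF_sound _ _ (checkPointF_eq cert) 151300 25 chkP_151300 i (by omega) (by omega)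
          · skip
            rcases Nat.lt_or_ge i 151450 with h6 | h6
            · skip
              rcases Nat.lt_or_ge i 151375 with h7 | h7
              · skip
                rcases Nat.lt_or_ge i 151350 with h8 | h8
                · skip
                  exact allRangeF_sound _ _ (checkPointF_eq cert) 151325 25 chkP_151325 i (by omega) (by omega)
                · skip
                  exact allRangeF_sound _ _ (checkPointF_eq cert) 151350 25 chkP_151350 i (by omega) (by omega)
              · skip
                rcases Nat.lt_or_ge i 151400 with h8 | h8
                · skip
                  exact allRangeF_sound _ _ (checkPointF_eq cert) 151375 25 chkP_151375 i (by omega) (by omega)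
                · skip
                  rcases Nat.lt_or_ge i 151425 with h9 | h9
                  · skip
                    exact allRangeF_sound _ _ (checkPointF_eq cert) 151400 25 chkP_151400 i (by omega) (by omega)
                  · skip
                    exact allRangeF_sound _ _ (checkPointF_eq cert) 151425 25 chkP_151425 i (by omega) (by omega)
            · skip
              rcases Nat.lt_or_ge i 151500 with h7 | h7
              · skip
                rcases Nat.lt_or_ge i 151475 with h8 | h8
                · skip
                  exact allRangeF_sound _ _ (checkPointF_eq cert) 151450 25 chkP_151450 i (by omega) (by omega)
                · skip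
                  exact allRangeF_sound _ _ (checkPointF_eq cert) 151475 25 chkP_151475 i (by omega) (by omega)
              · skip
                rcases Nat.lt_or_ge i 151525 with h8 | h8
                · skip
                  exact allRangeF_sound _ _ (checkPointF_eq cert) 151500 25 chkP_151500 i (by omega) (by omega)
                · skip
                  rcases Nat.lt_or_ge i 151550 with h9 | h9
                  · skip
                    exact allRangeF_sound _ _ (checkPointF_eq cert) 151525 25 chkP_151525 i (by omega) (by omega)
                  · skip
                    exact allRangeF_sound _ _ (checkPointF_eq cert) 151550 25 chkP_151550 i (by omega) (by omega)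
    · skip
      rcases Nat.lt_or_ge i 152525 with h3 | h3
      · skip
        rcases Nat.lt_or_ge i 152050 with h4 | h4
        · skip
          rcases Nat.lt_or_ge i 151800 with h5 | h5
          · skip
            rcases Nat.lt_or_ge i 151675 with h6 | h6
            · skip
              rcases Nat.lt_or_ge i 151625 with h7 | h7
              · skip
                rcases Nat.lt_or_ge i 151600 with h8 | h8
                · skip
                  exact allRangeF_sound _ _ (checkPointF_eq cert) 151575 25 chkP_151575 i (by omega) (by omega)
                · skip
                  exact allRangeF_sound _ _ (checkPointF_eq cert) 151600 25 chkP_151600 i (by omega) (by omega)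
              · skip
                rcases Nat.lt_or_ge i 151650 with h8 | h8
                · skip
                  exact allRangeF_sound _ _ (checkPointF_eq cert) 151625 25 chkP_151625 i (by omega) (by omega)
                · skip
                  exact allRangeF_sound _ _ (checkPointF_eq cert) 151650 25 chkP_151650 i (by omega) (by omega)
            · skip
              rcases Nat.lt_or_ge i 151725 with h7 | h7
              · skip
                rcases Nat.lt_or_ge i 151700 with h8 | h8
                · skip
                  exact allRangeF_sound _ _ (checkPointF_eq cert) 151675 25 chkP_151675 i (by omega) (by omega)
                · skip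
                  exact allRangeF_sound _ _ (checkPointF_eq cert) 151700 25 chkP_151700 i (by omega) (by omega)
              · skip
                rcases Nat.lt_or_ge i 151750 with h8 | h8
                · skip
                  exact allRangeF_sound _ _ (checkPointF_eq cert) 151725 25 chkP_151725 i (by omega) (by omega)
                · skip
                  rcases Nat.lt_or_ge i 151775 with h9 | h9
                  · skip
                    exact allRangeF_sound _ _ (checkPointF_eq cert) 151750 25 chkP_151750 i (by omega) (by omega)
                  · skip
                    exact allRangeF_sound _ _ (checkPointF_eq cert) 151775 25 chkP_151775 i (by omega) (by omega)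
          · skip
            rcases Nat.lt_or_ge i 151925 with h6 | h6
            · skip
              rcases Nat.lt_or_ge i 151850 with h7 | h7
              · skip
                rcases Nat.lt_or_ge i 151825 with h8 | h8
                · skip
                  exact allRangeF_sound _ _ (checkPointF_eq cert) 151800 25 chkP_151800 i (by omega) (by omega)
                · skip
                  exact allRangeF_sound _ _ (checkPointF_eq cert) 151825 25 chkP_151825 i (by omega) (by omega)
              · skip
                rcases Nat.lt_or_ge i 151875 with h8 | h8
                · skip
                  exact allRangeF_sound _ _ (checkPointF_eq cert) 151850 25 chkP_151850 i (by omega) (by omega)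
                · skip
                  rcases Nat.lt_or_ge i 151900 with h9 | h9
                  · skip
                    exact allRangeF_sound _ _ (checkPointF_eq cert) 151875 25 chkP_151875 i (by omega) (by omega)
                  · skip
                    exact allRangeF_sound _ _ (checkPointF_eq cert) 151900 25 chkP_151900 i (by omega) (by omega)
            · skip
              rcases Nat.lt_or_ge i 151975 with h7 | h7
              · skip
                rcases Nat.lt_or_ge i 151950 with h8 | h8
                · skip
                  exact allRangeF_sound _ _ (checkPointF_eq cert) 151925 25 chkP_151925 i (by omega) (by omega)
                · skip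
                  exact allRangeF_sound _ _ (checkPointF_eq cert) 151950 25 chkP_151950 i (by omega) (by omega)
              · skip
                rcases Nat.lt_or_ge i 152000 with h8 | h8
                · skip
                  exact allRangeF_sound _ _ (checkPointF_eq cert) 151975 25 chkP_151975 i (by omega) (by omega)
                · skip
                  rcases Nat.lt_or_ge i 152025 with h9 | h9
                  · skip
                    exact allRangeF_sound _ _ (checkPointF_eq cert) 152000 25 chkP_152000 i (by omega) (by omega)
                  · skip
                    exact allRangeF_sound _ _ (checkPointF_eq cert) 152025 25 chkP_152025 i (by omega) (by omega)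
        · skip
          rcases Nat.lt_or_ge i 152275 with h5 | h5
          · skip
            rcases Nat.lt_or_ge i 152150 with h6 | h6
            · skip
              rcases Nat.lt_or_ge i 152100 with h7 | h7
              · skip
                rcases Nat.lt_or_ge i 152075 with h8 | h8
                · skip
                  exact allRangeF_sound _ _ (checkPointF_eq cert) 152050 25 chkP_152050 i (by omega) (by omega)
                · skip
                  exact allRangeF_sound _ _ (checkPointF_eq cert) 152075 25 chkP_152075 i (by omega) (by omega)
              · skip
                rcases Nat.lt_or_ge i 152125 with h8 | h8
                · skip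
                  exact allRangeF_sound _ _ (checkPointF_eq cert) 152100 25 chkP_152100 i (by omega) (by omega)
                · skip
                  exact allRangeF_sound _ _ (checkPointF_eq cert) 152125 25 chkP_152125 i (by omega) (by omega)
            · skip
              rcases Nat.lt_or_ge i 152200 with h7 | h7
              · skip
                rcases Nat.lt_or_ge i 152175 with h8 | h8
                · skip
                  exact allRangeF_sound _ _ (checkPointF_eq cert) 152150 25 chkP_152150 i (by omega) (by omega)
                · skip
                  exact allRangeF_sound _ _ (checkPointF_eq cert) 152175 25 chkP_152175 i (by omega) (by omega)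
              · skip
                rcases Nat.lt_or_ge i 152225 with h8 | h8
                · skip
                  exact allRangeF_sound _ _ (checkPointF_eq cert) 152200 25 chkP_152200 i (by omega) (by omega)
                · skip
                  rcases Nat.lt_or_ge i 152250 with h9 | h9
                  · skip
                    exact allRangeF_sound _ _ (checkPointF_eq cert) 152225 25 chkP_152225 i (by omega) (by omega)
                  · skip
                    exact allRangeF_sound _ _ (checkPointF_eq cert) 152250 25 chkP_152250 i (by omega) (by omega)
          · skip
            rcases Nat.lt_or_ge i 152400 with h6 | h6
            · skip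
              rcases Nat.lt_or_ge i 152325 with h7 | h7
              · skip
                rcases Nat.lt_or_ge i 152300 with h8 | h8
                · skip
                  exact allRangeF_sound _ _ (checkPointF_eq cert) 152275 25 chkP_152275 i (by omega) (by omega)
                · skip
                  exact allRangeF_sound _ _ (checkPointF_eq cert) 152300 25 chkP_152300 i (by omega) (by omega)
              · skip
                rcases Nat.lt_or_ge i 152350 with h8 | h8
                · skip
                  exact allRangeF_sound _ _ (checkPointF_eq cert) 152325 25 chkP_152325 i (by omega) (by omega)
                · skip
                  rcases Nat.lt_or_ge i 152375 with h9 | h9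
                  · skip
                    exact allRangeF_sound _ _ (checkPointF_eq cert) 152350 25 chkP_152350 i (by omega) (by omega)
                  · skip
                    exact allRangeF_sound _ _ (checkPointF_eq cert) 152375 25 chkP_152375 i (by omega) (by omega)
            · skip
              rcases Nat.lt_or_ge i 152450 with h7 | h7
              · skip
                rcases Nat.lt_or_ge i 152425 with h8 | h8
                · skip
                  exact allRangeF_sound _ _ (checkPointF_eq cert) 152400 25 chkP_152400 i (by omega) (by omega)
                · skip
                  exact allRangeF_sound _ _ (checkPointF_eq cert) 152425 25 chkP_152425 i (by omega) (by omega)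
              · skip
                rcases Nat.lt_or_ge i 152475 with h8 | h8
                · skip
                  exact allRangeF_sound _ _ (checkPointF_eq cert) 152450 25 chkP_152450 i (by omega) (by omega)
                · skip
                  rcases Nat.lt_or_ge i 152500 with h9 | h9
                  · skip
                    exact allRangeF_sound _ _ (checkPointF_eq cert) 152475 25 chkP_152475 i (by omega) (by omega)
                  · skip
                    exact allRangeF_sound _ _ (checkPointF_eq cert) 152500 25 chkP_152500 i (by omega) (by omega)
      · skip
        rcases Nat.lt_or_ge i 153000 with h4 | h4
        · skip
          rcases Nat.lt_or_ge i 152750 with h5 | h5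
          · skip
            rcases Nat.lt_or_ge i 152625 with h6 | h6
            · skip
              rcases Nat.lt_or_ge i 152575 with h7 | h7
              · skip
                rcases Nat.lt_or_ge i 152550 with h8 | h8
                · skip
                  exact allRangeF_sound _ _ (checkPointF_eq cert) 152525 25 chkP_152525 i (by omega) (by omega)
                · skip
                  exact allRangeF_sound _ _ (checkPointF_eq cert) 152550 25 chkP_152550 i (by omega) (by omega)
              · skip
                rcases Nat.lt_or_ge i 152600 with h8 | h8
                · skip
                  exact allRangeF_sound _ _ (checkPointF_eq cert) 152575 25 chkP_152575 i (by omega) (by omega)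
                · skip
                  exact allRangeF_sound _ _ (checkPointF_eq cert) 152600 25 chkP_152600 i (by omega) (by omega)
            · skip
              rcases Nat.lt_or_ge i 152675 with h7 | h7
              · skip
                rcases Nat.lt_or_ge i 152650 with h8 | h8
                · skip
                  exact allRangeF_sound _ _ (checkPointF_eq cert) 152625 25 chkP_152625 i (by omega) (by omega)
                · skip
                  exact allRangeF_sound _ _ (checkPointF_eq cert) 152650 25 chkP_152650 i (by omega) (by omega)
              · skip
                rcases Nat.lt_or_ge i 152700 with h8 | h8
                · skip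
                  exact allRangeF_sound _ _ (checkPointF_eq cert) 152675 25 chkP_152675 i (by omega) (by omega)
                · skip
                  rcases Nat.lt_or_ge i 152725 with h9 | h9
                  · skip
                    exact allRangeF_sound _ _ (checkPointF_eq cert) 152700 25 chkP_152700 i (by omega) (by omega)
                  · skip
                    exact allRangeF_sound _ _ (checkPointF_eq cert) 152725 25 chkP_152725 i (by omega) (by omega)
          · skip
            rcases Nat.lt_or_ge i 152875 with h6 | h6
            · skip
              rcases Nat.lt_or_ge i 152800 with h7 | h7
              · skip
                rcases Nat.lt_or_ge i 152775 with h8 | h8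
                · skip
                  exact allRangeF_sound _ _ (checkPointF_eq cert) 152750 25 chkP_152750 i (by omega) (by omega)
                · skip
                  exact allRangeF_sound _ _ (checkPointF_eq cert) 152775 25 chkP_152775 i (by omega) (by omega)
              · skip
                rcases Nat.lt_or_ge i 152825 with h8 | h8
                · skip
                  exact allRangeF_sound _ _ (checkPointF_eq cert) 152800 25 chkP_152800 i (by omega) (by omega)
                · skip
                  rcases Nat.lt_or_ge i 152850 with h9 | h9
                  · skip
                    exact allRangeF_sound _ _ (checkPointF_eq cert) 152825 25 chkP_152825 i (by omega) (by omega)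
                  · skip
                    exact allRangeF_sound _ _ (checkPointF_eq cert) 152850 25 chkP_152850 i (by omega) (by omega)
            · skip
              rcases Nat.lt_or_ge i 152925 with h7 | h7
              · skip
                rcases Nat.lt_or_ge i 152900 with h8 | h8
                · skip
                  exact allRangeF_sound _ _ (checkPointF_eq cert) 152875 25 chkP_152875 i (by omega) (by omega)
                · skip
                  exact allRangeF_sound _ _ (checkPointF_eq cert) 152900 25 chkP_152900 i (by omega) (by omega)
              · skip
                rcases Nat.lt_or_ge i 152950 with h8 | h8
                · skip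
                  exact allRangeF_sound _ _ (checkPointF_eq cert) 152925 25 chkP_152925 i (by omega) (by omega)
                · skip
                  rcases Nat.lt_or_ge i 152975 with h9 | h9
                  · skip
                    exact allRangeF_sound _ _ (checkPointF_eq cert) 152950 25 chkP_152950 i (by omega) (by omega)
                  · skip
                    exact allRangeF_sound _ _ (checkPointF_eq cert) 152975 25 chkP_152975 i (by omega) (by omega)
        · skip
          rcases Nat.lt_or_ge i 153250 with h5 | h5
          · skip
            rcases Nat.lt_or_ge i 153125 with h6 | h6
            · skip
              rcases Nat.lt_or_ge i 153050 with h7 | h7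
              · skip
                rcases Nat.lt_or_ge i 153025 with h8 | h8
                · skip
                  exact allRangeF_sound _ _ (checkPointF_eq cert) 153000 25 chkP_153000 i (by omega) (by omega)
                · skip
                  exact allRangeF_sound _ _ (checkPointF_eq cert) 153025 25 chkP_153025 i (by omega) (by omega)
              · skip
                rcases Nat.lt_or_ge i 153075 with h8 | h8
                · skip
                  exact allRangeF_sound _ _ (checkPointF_eq cert) 153050 25 chkP_153050 i (by omega) (by omega)
                · skip
                  rcases Nat.lt_or_ge i 153100 with h9 | h9
                  · skip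
                    exact allRangeF_sound _ _ (checkPointF_eq cert) 153075 25 chkP_153075 i (by omega) (by omega)
                  · skip
                    exact allRangeF_sound _ _ (checkPointF_eq cert) 153100 25 chkP_153100 i (by omega) (by omega)
            · skip
              rcases Nat.lt_or_ge i 153175 with h7 | h7
              · skip
                rcases Nat.lt_or_ge i 153150 with h8 | h8
                · skip
                  exact allRangeF_sound _ _ (checkPointF_eq cert) 153125 25 chkP_153125 i (by omega) (by omega)
                · skip
                  exact allRangeF_sound _ _ (checkPointF_eq cert) 153150 25 chkP_153150 i (by omega) (by omega)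
              · skip
                rcases Nat.lt_or_ge i 153200 with h8 | h8
                · skip
                  exact allRangeF_sound _ _ (checkPointF_eq cert) 153175 25 chkP_153175 i (by omega) (by omega)
                · skip
                  rcases Nat.lt_or_ge i 153225 with h9 | h9
                  · skip
                    exact allRangeF_sound _ _ (checkPointF_eq cert) 153200 25 chkP_153200 i (by omega) (by omega)
                  · skip
                    exact allRangeF_sound _ _ (checkPointF_eq cert) 153225 25 chkP_153225 i (by omega) (by omega)
          · skip
            rcases Nat.lt_or_ge i 153375 with h6 | h6
            · skip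
              rcases Nat.lt_or_ge i 153300 with h7 | h7
              · skip
                rcases Nat.lt_or_ge i 153275 with h8 | h8
                · skip
                  exact allRangeF_sound _ _ (checkPointF_eq cert) 153250 25 chkP_153250 i (by omega) (by omega)
                · skip
                  exact allRangeF_sound _ _ (checkPointF_eq cert) 153275 25 chkP_153275 i (by omega) (by omega)
              · skip
                rcases Nat.lt_or_ge i 153325 with h8 | h8
                · skip
                  exact allRangeF_sound _ _ (checkPointF_eq cert) 153300 25 chkP_153300 i (by omega) (by omega)
                · skip
                  rcases Nat.lt_or_ge i 153350 with h9 | h9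
                  · skip
                    exact allRangeF_sound _ _ (checkPointF_eq cert) 153325 25 chkP_153325 i (by omega) (by omega)
                  · skip
                    exact allRangeF_sound _ _ (checkPointF_eq cert) 153350 25 chkP_153350 i (by omega) (by omega)
            · skip
              rcases Nat.lt_or_ge i 153425 with h7 | h7
              · skip
                rcases Nat.lt_or_ge i 153400 with h8 | h8
                · skip
                  exact allRangeF_sound _ _ (checkPointF_eq cert) 153375 25 chkP_153375 i (by omega) (by omega)
                · skip
                  exact allRangeF_sound _ _ (checkPointF_eq cert) 153400 25 chkP_153400 i (by omega) (by omega)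
              · skip
                rcases Nat.lt_or_ge i 153450 with h8 | h8
                · skip
                  exact allRangeF_sound _ _ (checkPointF_eq cert) 153425 25 chkP_153425 i (by omega) (by omega)
                · skip
                  rcases Nat.lt_or_ge i 153475 with h9 | h9
                  · skip
                    exact allRangeF_sound _ _ (checkPointF_eq cert) 153450 25 chkP_153450 i (by omega) (by omega)
                  · skip
                    exact allRangeF_sound _ _ (checkPointF_eq cert) 153475 25 chkP_153475 i (by omega) (by omega)

end Cfsg.Agent.Lib.Helper28.Fi24Data
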