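import Cfsg.Agent.Lib.Helper28.Fi24Data
import Cfsg.Agent.Lib.Helper28.TCFastB

set_option autoImplicit false
set_option maxRecDepth 1000000
set_option linter.all false
set_option Elab.async false

namespace Cfsg.Agent.Lib.Helper28.Fi24Data

open Cfsg.Agent.Lib.Helper28B

theorem chkP_15350 : allRangeF (checkPointF cert) (nat_lit 15350) (nat_lit 25) = true := by decide +kernel
theorem chkP_15375 : allRangeF (checkPointF cert) (nat_lit 15375) (nat_lit 25) = true := by decide +kernel
theorem chkP_15400 : allRangeF (checkPointF cert) (nat_lit 15400) (nat_lit 25) = true := by decide +kernel
theorem chkP_15425 : allRangeF (checkPointF cert) (nat_lit 15425) (nat_lit 25) = true := by decide +kernel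
theorem chkP_15450 : allRangeF (checkPointF cert) (nat_lit 15450) (nat_lit 25) = true := by decide +kernel
theorem chkP_15475 : allRangeF (checkPointF cert) (nat_lit 15475) (nat_lit 25) = true := by decide +kernel
theorem chkP_15500 : allRangeF (checkPointF cert) (nat_lit 15500) (nat_lit 25) = true := by decide +kernel
theorem chkP_15525 : allRangeF (checkPointF cert) (nat_lit 15525) (nat_lit 25) = true := by decide +kernel
theorem chkP_15550 : allRangeF (checkPointF cert) (nat_lit 15550) (nat_lit 25) = true := by decide +kernel
theorem chkP_15575 : allRangeF (checkPointF cert) (nat_lit 15575) (nat_lit 25) = true := by decide +kernel
theorem chkP_15600 : allRangeF (checkPointF cert) (nat_lit 15600) (nat_lit 25) = true := by decide +kernel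
theorem chkP_15625 : allRangeF (checkPointF cert) (nat_lit 15625) (nat_lit 25) = true := by decide +kernel
theorem chkP_15650 : allRangeF (checkPointF cert) (nat_lit 15650) (nat_lit 25) = true := by decide +kernel
theorem chkP_15675 : allRangeF (checkPointF cert) (nat_lit 15675) (nat_lit 25) = true := by decide +kernel
theorem chkP_15700 : allRangeF (checkPointF cert) (nat_lit 15700) (nat_lit 25) = true := by decide +kernel
theorem chkP_15725 : allRangeF (checkPointF cert) (nat_lit 15725) (nat_lit 25) = true := by decide +kernel
theorem chkP_15750 : allRangeF (checkPointF cert) (nat_lit 15750) (nat_lit 25) = true := by decide +kernel
theorem chkP_15775 : allRangeF (checkPointF cert) (nat_lit 15775) (nat_lit 25) = true := by decide +kernel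
theorem chkP_15800 : allRangeF (checkPointF cert) (nat_lit 15800) (nat_lit 25) = true := by decide +kernel
theorem chkP_15825 : allRangeF (checkPointF cert) (nat_lit 15825) (nat_lit 25) = true := by decide +kernel
theorem chkP_15850 : allRangeF (checkPointF cert) (nat_lit 15850) (nat_lit 25) = true := by decide +kernel
theorem chkP_15875 : allRangeF (checkPointF cert) (nat_lit 15875) (nat_lit 25) = true := by decide +kernel
theorem chkP_15900 : allRangeF (checkPointF cert) (nat_lit 15900) (nat_lit 25) = true := by decide +kernel
theorem chkP_15925 : allRangeF (checkPointF cert) (nat_lit 15925) (nat_lit 25) = true := by decide +kernel
theorem chkP_15950 : allRangeF (checkPointF cert) (nat_lit 15950) (nat_lit 25) = true := by decide +kernel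
theorem chkP_15975 : allRangeF (checkPointF cert) (nat_lit 15975) (nat_lit 25) = true := by decide +kernel
theorem chkP_16000 : allRangeF (checkPointF cert) (nat_lit 16000) (nat_lit 25) = true := by decide +kernel
theorem chkP_16025 : allRangeF (checkPointF cert) (nat_lit 16025) (nat_lit 25) = true := by decide +kernel
theorem chkP_16050 : allRangeF (checkPointF cert) (nat_lit 16050) (nat_lit 25) = true := by decide +kernel
theorem chkP_16075 : allRangeF (checkPointF cert) (nat_lit 16075) (nat_lit 25) = true := by decide +kernel
theorem chkP_16100 : allRangeF (checkPointF cert) (nat_lit 16100) (nat_lit 25) = true := by decide +kernel
theorem chkP_16125 : allRangeF (checkPointF cert) (nat_lit 16125) (nat_lit 25) = true := by decide +kernel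
theorem chkP_16150 : allRangeF (checkPointF cert) (nat_lit 16150) (nat_lit 25) = true := by decide +kernel
theorem chkP_16175 : allRangeF (checkPointF cert) (nat_lit 16175) (nat_lit 25) = true := by decide +kernel
theorem chkP_16200 : allRangeF (checkPointF cert) (nat_lit 16200) (nat_lit 25) = true := by decide +kernel
theorem chkP_16225 : allRangeF (checkPointF cert) (nat_lit 16225) (nat_lit 25) = true := by decide +kernel
theorem chkP_16250 : allRangeF (checkPointF cert) (nat_lit 16250) (nat_lit 25) = true := by decide +kernel
theorem chkP_16275 : allRangeF (checkPointF cert) (nat_lit 16275) (nat_lit 25) = true := by decide +kernel
theorem chkP_16300 : allRangeF (checkPointF cert) (nat_lit 16300) (nat_lit 25) = true := by decide +kernel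
theorem chkP_16325 : allRangeF (checkPointF cert) (nat_lit 16325) (nat_lit 25) = true := by decide +kernel
theorem chkP_16350 : allRangeF (checkPointF cert) (nat_lit 16350) (nat_lit 25) = true := by decide +kernel
theorem chkP_16375 : allRangeF (checkPointF cert) (nat_lit 16375) (nat_lit 25) = true := by decide +kernel
theorem chkP_16400 : allRangeF (checkPointF cert) (nat_lit 16400) (nat_lit 25) = true := by decide +kernel
theorem chkP_16425 : allRangeF (checkPointF cert) (nat_lit 16425) (nat_lit 25) = true := by decide +kernel
theorem chkP_16450 : allRangeF (checkPointF cert) (nat_lit 16450) (nat_lit 25) = true := by decide +kernel
theorem chkP_16475 : allRangeF (checkPointF cert) (nat_lit 16475) (nat_lit 25) = true := by decide +kernel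
theorem chkP_16500 : allRangeF (checkPointF cert) (nat_lit 16500) (nat_lit 25) = true := by decide +kernel
theorem chkP_16525 : allRangeF (checkPointF cert) (nat_lit 16525) (nat_lit 25) = true := by decide +kernel
theorem chkP_16550 : allRangeF (checkPointF cert) (nat_lit 16550) (nat_lit 25) = true := by decide +kernel
theorem chkP_16575 : allRangeF (checkPointF cert) (nat_lit 16575) (nat_lit 25) = true := by decide +kernel
theorem chkP_16600 : allRangeF (checkPointF cert) (nat_lit 16600) (nat_lit 25) = true := by decide +kernel
theorem chkP_16625 : allRangeF (checkPointF cert) (nat_lit 16625) (nat_lit 25) = true := by decide +kernel
theorem chkP_16650 : allRangeF (checkPointF cert) (nat_lit 16650) (nat_lit 25) = true := by decide +kernel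
theorem chkP_16675 : allRangeF (checkPointF cert) (nat_lit 16675) (nat_lit 25) = true := by decide +kernel
theorem chkP_16700 : allRangeF (checkPointF cert) (nat_lit 16700) (nat_lit 25) = true := by decide +kernel
theorem chkP_16725 : allRangeF (checkPointF cert) (nat_lit 16725) (nat_lit 25) = true := by decide +kernel
theorem chkP_16750 : allRangeF (checkPointF cert) (nat_lit 16750) (nat_lit 25) = true := by decide +kernel
theorem chkP_16775 : allRangeF (checkPointF cert) (nat_lit 16775) (nat_lit 25) = true := by decide +kernel
theorem chkP_16800 : allRangeF (checkPointF cert) (nat_lit 16800) (nat_lit 25) = true := by decide +kernel
theorem chkP_16825 : allRangeF (checkPointF cert) (nat_lit 16825) (nat_lit 25) = true := by decide +kernel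
theorem chkP_16850 : allRangeF (checkPointF cert) (nat_lit 16850) (nat_lit 25) = true := by decide +kernel
theorem chkP_16875 : allRangeF (checkPointF cert) (nat_lit 16875) (nat_lit 25) = true := by decide +kernel
theorem chkP_16900 : allRangeF (checkPointF cert) (nat_lit 16900) (nat_lit 25) = true := by decide +kernel
theorem chkP_16925 : allRangeF (checkPointF cert) (nat_lit 16925) (nat_lit 25) = true := by decide +kernel
theorem chkP_16950 : allRangeF (checkPointF cert) (nat_lit 16950) (nat_lit 25) = true := by decide +kernel
theorem chkP_16975 : allRangeF (checkPointF cert) (nat_lit 16975) (nat_lit 25) = true := by decide +kernel
theorem chkP_17000 : allRangeF (checkPointF cert) (nat_lit 17000) (nat_lit 25) = true := by decide +kernel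
theorem chkP_17025 : allRangeF (checkPointF cert) (nat_lit 17025) (nat_lit 25) = true := by decide +kernel
theorem chkP_17050 : allRangeF (checkPointF cert) (nat_lit 17050) (nat_lit 25) = true := by decide +kernel
theorem chkP_17075 : allRangeF (checkPointF cert) (nat_lit 17075) (nat_lit 25) = true := by decide +kernel
theorem chkP_17100 : allRangeF (checkPointF cert) (nat_lit 17100) (nat_lit 25) = true := by decide +kernel
theorem chkP_17125 : allRangeF (checkPointF cert) (nat_lit 17125) (nat_lit 25) = true := by decide +kernel
theorem chkP_17150 : allRangeF (checkPointF cert) (nat_lit 17150) (nat_lit 25) = true := by decide +kernel
theorem chkP_17175 : allRangeF (checkPointF cert) (nat_lit 17175) (nat_lit 25) = true := by decide +kernel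
theorem chkP_17200 : allRangeF (checkPointF cert) (nat_lit 17200) (nat_lit 25) = true := by decide +kernel
theorem chkP_17225 : allRangeF (checkPointF cert) (nat_lit 17225) (nat_lit 25) = true := by decide +kernel
theorem chkP_17250 : allRangeF (checkPointF cert) (nat_lit 17250) (nat_lit 25) = true := by decide +kernel
theorem chkP_17275 : allRangeF (checkPointF cert) (nat_lit 17275) (nat_lit 25) = true := by decide +kernel
theorem chkP_17300 : allRangeF (checkPointF cert) (nat_lit 17300) (nat_lit 25) = true := by decide +kernel
theorem chkP_17325 : allRangeF (checkPointF cert) (nat_lit 17325) (nat_lit 25) = true := by decide +kernel
theorem chkP_17350 : allRangeF (checkPointF cert) (nat_lit 17350) (nat_lit 25) = true := by decide +kernel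
theorem chkP_17375 : allRangeF (checkPointF cert) (nat_lit 17375) (nat_lit 25) = true := by decide +kernel
theorem chkP_17400 : allRangeF (checkPointF cert) (nat_lit 17400) (nat_lit 25) = true := by decide +kernel
theorem chkP_17425 : allRangeF (checkPointF cert) (nat_lit 17425) (nat_lit 25) = true := by decide +kernel
theorem chkP_17450 : allRangeF (checkPointF cert) (nat_lit 17450) (nat_lit 25) = true := by decide +kernel
theorem chkP_17475 : allRangeF (checkPointF cert) (nat_lit 17475) (nat_lit 25) = true := by decide +kernel
theorem chkP_17500 : allRangeF (checkPointF cert) (nat_lit 17500) (nat_lit 25) = true := by decide +kernel
theorem chkP_17525 : allRangeF (checkPointF cert) (nat_lit 17525) (nat_lit 25) = true := by decide +kernel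
theorem chkP_17550 : allRangeF (checkPointF cert) (nat_lit 17550) (nat_lit 25) = true := by decide +kernel
theorem chkP_17575 : allRangeF (checkPointF cert) (nat_lit 17575) (nat_lit 25) = true := by decide +kernel
theorem chkP_17600 : allRangeF (checkPointF cert) (nat_lit 17600) (nat_lit 25) = true := by decide +kernel
theorem chkP_17625 : allRangeF (checkPointF cert) (nat_lit 17625) (nat_lit 25) = true := by decide +kernel
theorem chkP_17650 : allRangeF (checkPointF cert) (nat_lit 17650) (nat_lit 25) = true := by decide +kernel
theorem chkP_17675 : allRangeF (checkPointF cert) (nat_lit 17675) (nat_lit 25) = true := by decide +kernel
theorem chkP_17700 : allRangeF (checkPointF cert) (nat_lit 17700) (nat_lit 25) = true := by decide +kernel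
theorem chkP_17725 : allRangeF (checkPointF cert) (nat_lit 17725) (nat_lit 25) = true := by decide +kernel
theorem chkP_17750 : allRangeF (checkPointF cert) (nat_lit 17750) (nat_lit 25) = true := by decide +kernel
theorem chkP_17775 : allRangeF (checkPointF cert) (nat_lit 17775) (nat_lit 25) = true := by decide +kernel
theorem chkP_17800 : allRangeF (checkPointF cert) (nat_lit 17800) (nat_lit 25) = true := by decide +kernel
theorem chkP_17825 : allRangeF (checkPointF cert) (nat_lit 17825) (nat_lit 25) = true := by decide +kernel
theorem chkP_17850 : allRangeF (checkPointF cert) (nat_lit 17850) (nat_lit 25) = true := by decide +kernel
theorem chkP_17875 : allRangeF (checkPointF cert) (nat_lit 17875) (nat_lit 25) = true := by decide +kernel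
theorem chkP_17900 : allRangeF (checkPointF cert) (nat_lit 17900) (nat_lit 25) = true := by decide +kernel
theorem chkP_17925 : allRangeF (checkPointF cert) (nat_lit 17925) (nat_lit 25) = true := by decide +kernel
theorem chkP_17950 : allRangeF (checkPointF cert) (nat_lit 17950) (nat_lit 25) = true := by decide +kernel
theorem chkP_17975 : allRangeF (checkPointF cert) (nat_lit 17975) (nat_lit 25) = true := by decide +kernel
theorem chkP_18000 : allRangeF (checkPointF cert) (nat_lit 18000) (nat_lit 25) = true := by decide +kernel
theorem chkP_18025 : allRangeF (checkPointF cert) (nat_lit 18025) (nat_lit 25) = true := by decide +kernel
theorem chkP_18050 : allRangeF (checkPointF cert) (nat_lit 18050) (nat_lit 25) = true := by decide +kernel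
theorem chkP_18075 : allRangeF (checkPointF cert) (nat_lit 18075) (nat_lit 25) = true := by decide +kernel
theorem chkP_18100 : allRangeF (checkPointF cert) (nat_lit 18100) (nat_lit 25) = true := by decide +kernel
theorem chkP_18125 : allRangeF (checkPointF cert) (nat_lit 18125) (nat_lit 25) = true := by decide +kernel
theorem chkP_18150 : allRangeF (checkPointF cert) (nat_lit 18150) (nat_lit 25) = true := by decide +kernel
theorem chkP_18175 : allRangeF (checkPointF cert) (nat_lit 18175) (nat_lit 25) = true := by decide +kernel
theorem chkP_18200 : allRangeF (checkPointF cert) (nat_lit 18200) (nat_lit 25) = true := by decide +kernel
theorem chkP_18225 : allRangeF (checkPointF cert) (nat_lit 18225) (nat_lit 25) = true := by decide +kernel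
theorem chkP_18250 : allRangeF (checkPointF cert) (nat_lit 18250) (nat_lit 25) = true := by decide +kernel
theorem chkP_18275 : allRangeF (checkPointF cert) (nat_lit 18275) (nat_lit 25) = true := by decide +kernel
theorem chkP_18300 : allRangeF (checkPointF cert) (nat_lit 18300) (nat_lit 25) = true := by decide +kernel
theorem chkP_18325 : allRangeF (checkPointF cert) (nat_lit 18325) (nat_lit 25) = true := by decide +kernel
theorem chkP_18350 : allRangeF (checkPointF cert) (nat_lit 18350) (nat_lit 25) = true := by decide +kernel
theorem chkP_18375 : allRangeF (checkPointF cert) (nat_lit 18375) (nat_lit 25) = true := by decide +kernel
theorem chkP_18400 : allRangeF (checkPointF cert) (nat_lit 18400) (nat_lit 25) = true := by decide +kernel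
theorem chkP_18425 : allRangeF (checkPointF cert) (nat_lit 18425) (nat_lit 25) = true := by decide +kernel
theorem chkP_18450 : allRangeF (checkPointF cert) (nat_lit 18450) (nat_lit 25) = true := by decide +kernel
theorem chkP_18475 : allRangeF (checkPointF cert) (nat_lit 18475) (nat_lit 25) = true := by decide +kernel
theorem chkP_18500 : allRangeF (checkPointF cert) (nat_lit 18500) (nat_lit 25) = true := by decide +kernel
theorem chkP_18525 : allRangeF (checkPointF cert) (nat_lit 18525) (nat_lit 25) = true := by decide +kernel
theorem chkP_18550 : allRangeF (checkPointF cert) (nat_lit 18550) (nat_lit 25) = true := by decide +kernel
theorem chkP_18575 : allRangeF (checkPointF cert) (nat_lit 18575) (nat_lit 25) = true := by decide +kernel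
theorem chkP_18600 : allRangeF (checkPointF cert) (nat_lit 18600) (nat_lit 25) = true := by decide +kernel
theorem chkP_18625 : allRangeF (checkPointF cert) (nat_lit 18625) (nat_lit 25) = true := by decide +kernel
theorem chkP_18650 : allRangeF (checkPointF cert) (nat_lit 18650) (nat_lit 25) = true := by decide +kernel
theorem chkP_18675 : allRangeF (checkPointF cert) (nat_lit 18675) (nat_lit 25) = true := by decide +kernel
theorem chkP_18700 : allRangeF (checkPointF cert) (nat_lit 18700) (nat_lit 25) = true := by decide +kernel
theorem chkP_18725 : allRangeF (checkPointF cert) (nat_lit 18725) (nat_lit 25) = true := by decide +kernel
theorem chkP_18750 : allRangeF (checkPointF cert) (nat_lit 18750) (nat_lit 25) = true := by decide +kernel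
theorem chkP_18775 : allRangeF (checkPointF cert) (nat_lit 18775) (nat_lit 25) = true := by decide +kernel
theorem chkP_18800 : allRangeF (checkPointF cert) (nat_lit 18800) (nat_lit 25) = true := by decide +kernel
theorem chkP_18825 : allRangeF (checkPointF cert) (nat_lit 18825) (nat_lit 25) = true := by decide +kernel
theorem chkP_18850 : allRangeF (checkPointF cert) (nat_lit 18850) (nat_lit 25) = true := by decide +kernel
theorem chkP_18875 : allRangeF (checkPointF cert) (nat_lit 18875) (nat_lit 25) = true := by decide +kernel
theorem chkP_18900 : allRangeF (checkPointF cert) (nat_lit 18900) (nat_lit 25) = true := by decide +kernel
theorem chkP_18925 : allRangeF (checkPointF cert) (nat_lit 18925) (nat_lit 25) = true := by decide +kernel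
theorem chkP_18950 : allRangeF (checkPointF cert) (nat_lit 18950) (nat_lit 25) = true := by decide +kernel
theorem chkP_18975 : allRangeF (checkPointF cert) (nat_lit 18975) (nat_lit 25) = true := by decide +kernel
theorem chkP_19000 : allRangeF (checkPointF cert) (nat_lit 19000) (nat_lit 25) = true := by decide +kernel
theorem chkP_19025 : allRangeF (checkPointF cert) (nat_lit 19025) (nat_lit 25) = true := by decide +kernel
theorem chkP_19050 : allRangeF (checkPointF cert) (nat_lit 19050) (nat_lit 25) = true := by decide +kernel
theorem chkP_19075 : allRangeF (checkPointF cert) (nat_lit 19075) (nat_lit 25) = true := by decide +kernel
theorem chkP_19100 : allRangeF (checkPointF cert) (nat_lit 19100) (nat_lit 25) = true := by decide +kernel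
theorem chkP_19125 : allRangeF (checkPointF cert) (nat_lit 19125) (nat_lit 25) = true := by decide +kernel
theorem chkP_19150 : allRangeF (checkPointF cert) (nat_lit 19150) (nat_lit 25) = true := by decide +kernel
theorem chkP_19175 : allRangeF (checkPointF cert) (nat_lit 19175) (nat_lit 25) = true := by decide +kernel
theorem chkP_19200 : allRangeF (checkPointF cert) (nat_lit 19200) (nat_lit 25) = true := by decide +kernel
theorem chkP_19225 : allRangeF (checkPointF cert) (nat_lit 19225) (nat_lit 25) = true := by decide +kernel
theorem chkP_19250 : allRangeF (checkPointF cert) (nat_lit 19250) (nat_lit 25) = true := by decide +kernel
theorem chkP_19275 : allRangeF (checkPointF cert) (nat_lit 19275) (nat_lit 25) = true := by decide +kernel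
theorem chkP_19300 : allRangeF (checkPointF cert) (nat_lit 19300) (nat_lit 25) = true := by decide +kernel
theorem chkP_19325 : allRangeF (checkPointF cert) (nat_lit 19325) (nat_lit 25) = true := by decide +kernel
theorem chkP_19350 : allRangeF (checkPointF cert) (nat_lit 19350) (nat_lit 25) = true := by decide +kernel
theorem chkP_19375 : allRangeF (checkPointF cert) (nat_lit 19375) (nat_lit 25) = true := by decide +kernel
theorem chkP_19400 : allRangeF (checkPointF cert) (nat_lit 19400) (nat_lit 25) = true := by decide +kernel
theorem chkP_19425 : allRangeF (checkPointF cert) (nat_lit 19425) (nat_lit 25) = true := by decide +kernel
theorem chkP_19450 : allRangeF (checkPointF cert) (nat_lit 19450) (nat_lit 25) = true := by decide +kernel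
theorem chkP_19475 : allRangeF (checkPointF cert) (nat_lit 19475) (nat_lit 25) = true := by decide +kernel
theorem chkP_19500 : allRangeF (checkPointF cert) (nat_lit 19500) (nat_lit 25) = true := by decide +kernel
theorem chkP_19525 : allRangeF (checkPointF cert) (nat_lit 19525) (nat_lit 25) = true := by decide +kernel
theorem chkP_19550 : allRangeF (checkPointF cert) (nat_lit 19550) (nat_lit 25) = true := by decide +kernel
theorem chkP_19575 : allRangeF (checkPointF cert) (nat_lit 19575) (nat_lit 25) = true := by decide +kernel
theorem chkP_19600 : allRangeF (checkPointF cert) (nat_lit 19600) (nat_lit 25) = true := by decide +kernel
theorem chkP_19625 : allRangeF (checkPointF cert) (nat_lit 19625) (nat_lit 25) = true := by decide +kernel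
theorem chkP_19650 : allRangeF (checkPointF cert) (nat_lit 19650) (nat_lit 25) = true := by decide +kernel
theorem chkP_19675 : allRangeF (checkPointF cert) (nat_lit 19675) (nat_lit 25) = true := by decide +kernel
theorem chkP_19700 : allRangeF (checkPointF cert) (nat_lit 19700) (nat_lit 25) = true := by decide +kernel
theorem chkP_19725 : allRangeF (checkPointF cert) (nat_lit 19725) (nat_lit 25) = true := by decide +kernel
theorem chkP_19750 : allRangeF (checkPointF cert) (nat_lit 19750) (nat_lit 25) = true := by decide +kernel
theorem chkP_19775 : allRangeF (checkPointF cert) (nat_lit 19775) (nat_lit 25) = true := by decide +kernel
theorem chkP_19800 : allRangeF (checkPointF cert) (nat_lit 19800) (nat_lit 25) = true := by decide +kernel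
theorem chkP_19825 : allRangeF (checkPointF cert) (nat_lit 19825) (nat_lit 25) = true := by decide +kernel
theorem chkP_19850 : allRangeF (checkPointF cert) (nat_lit 19850) (nat_lit 25) = true := by decide +kernel
theorem chkP_19875 : allRangeF (checkPointF cert) (nat_lit 19875) (nat_lit 25) = true := by decide +kernel
theorem chkP_19900 : allRangeF (checkPointF cert) (nat_lit 19900) (nat_lit 25) = true := by decide +kernel
theorem chkP_19925 : allRangeF (checkPointF cert) (nat_lit 19925) (nat_lit 25) = true := by decide +kernel
theorem chkP_19950 : allRangeF (checkPointF cert) (nat_lit 19950) (nat_lit 25) = true := by decide +kernel
theorem chkP_19975 : allRangeF (checkPointF cert) (nat_lit 19975) (nat_lit 25) = true := by decide +kernel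
theorem chkP_20000 : allRangeF (checkPointF cert) (nat_lit 20000) (nat_lit 25) = true := by decide +kernel
theorem chkP_20025 : allRangeF (checkPointF cert) (nat_lit 20025) (nat_lit 25) = true := by decide +kernel
theorem chkP_20050 : allRangeF (checkPointF cert) (nat_lit 20050) (nat_lit 25) = true := by decide +kernel
theorem chkP_20075 : allRangeF (checkPointF cert) (nat_lit 20075) (nat_lit 25) = true := by decide +kernel
theorem chkP_20100 : allRangeF (checkPointF cert) (nat_lit 20100) (nat_lit 25) = true := by decide +kernel
theorem chkP_20125 : allRangeF (checkPointF cert) (nat_lit 20125) (nat_lit 25) = true := by decide +kernel
theorem chkP_20150 : allRangeF (checkPointF cert) (nat_lit 20150) (nat_lit 25) = true := by decide +kernel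
theorem chkP_20175 : allRangeF (checkPointF cert) (nat_lit 20175) (nat_lit 25) = true := by decide +kernel
theorem chkP_20200 : allRangeF (checkPointF cert) (nat_lit 20200) (nat_lit 25) = true := by decide +kernel
theorem chkP_20225 : allRangeF (checkPointF cert) (nat_lit 20225) (nat_lit 25) = true := by decide +kernel
theorem chkP_20250 : allRangeF (checkPointF cert) (nat_lit 20250) (nat_lit 25) = true := by decide +kernel
theorem chkP_20275 : allRangeF (checkPointF cert) (nat_lit 20275) (nat_lit 25) = true := by decide +kernel
theorem chkP_20300 : allRangeF (checkPointF cert) (nat_lit 20300) (nat_lit 25) = true := by decide +kernel
theorem chkP_20325 : allRangeF (checkPointF cert) (nat_lit 20325) (nat_lit 25) = true := by decide +kernel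
theorem chkP_20350 : allRangeF (checkPointF cert) (nat_lit 20350) (nat_lit 25) = true := by decide +kernel
theorem chkP_20375 : allRangeF (checkPointF cert) (nat_lit 20375) (nat_lit 25) = true := by decide +kernel
theorem chkP_20400 : allRangeF (checkPointF cert) (nat_lit 20400) (nat_lit 25) = true := by decide +kernel
theorem chkP_20425 : allRangeF (checkPointF cert) (nat_lit 20425) (nat_lit 25) = true := by decide +kernel
theorem chkP_20450 : allRangeF (checkPointF cert) (nat_lit 20450) (nat_lit 25) = true := by decide +kernel
theorem chkP_20475 : allRangeF (checkPointF cert) (nat_lit 20475) (nat_lit 25) = true := by decide +kernel
theorem chkP_20500 : allRangeF (checkPointF cert) (nat_lit 20500) (nat_lit 25) = true := by decide +kernel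
theorem chkP_20525 : allRangeF (checkPointF cert) (nat_lit 20525) (nat_lit 25) = true := by decide +kernel
theorem chkP_20550 : allRangeF (checkPointF cert) (nat_lit 20550) (nat_lit 25) = true := by decide +kernel
theorem chkP_20575 : allRangeF (checkPointF cert) (nat_lit 20575) (nat_lit 25) = true := by decide +kernel
theorem chkP_20600 : allRangeF (checkPointF cert) (nat_lit 20600) (nat_lit 25) = true := by decide +kernel
theorem chkP_20625 : allRangeF (checkPointF cert) (nat_lit 20625) (nat_lit 25) = true := by decide +kernel
theorem chkP_20650 : allRangeF (checkPointF cert) (nat_lit 20650) (nat_lit 25) = true := by decide +kernel
theorem chkP_20675 : allRangeF (checkPointF cert) (nat_lit 20675) (nat_lit 25) = true := by decide +kernel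
theorem chkP_20700 : allRangeF (checkPointF cert) (nat_lit 20700) (nat_lit 25) = true := by decide +kernel
theorem chkP_20725 : allRangeF (checkPointF cert) (nat_lit 20725) (nat_lit 25) = true := by decide +kernel
theorem chkP_20750 : allRangeF (checkPointF cert) (nat_lit 20750) (nat_lit 25) = true := by decide +kernel
theorem chkP_20775 : allRangeF (checkPointF cert) (nat_lit 20775) (nat_lit 25) = true := by decide +kernel
theorem chkP_20800 : allRangeF (checkPointF cert) (nat_lit 20800) (nat_lit 25) = true := by decide +kernel
theorem chkP_20825 : allRangeF (checkPointF cert) (nat_lit 20825) (nat_lit 25) = true := by decide +kernel
theorem chkP_20850 : allRangeF (checkPointF cert) (nat_lit 20850) (nat_lit 25) = true := by decide +kernel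
theorem chkP_20875 : allRangeF (checkPointF cert) (nat_lit 20875) (nat_lit 25) = true := by decide +kernel
theorem chkP_20900 : allRangeF (checkPointF cert) (nat_lit 20900) (nat_lit 25) = true := by decide +kernel
theorem chkP_20925 : allRangeF (checkPointF cert) (nat_lit 20925) (nat_lit 25) = true := by decide +kernel
theorem chkP_20950 : allRangeF (checkPointF cert) (nat_lit 20950) (nat_lit 25) = true := by decide +kernel
theorem chkP_20975 : allRangeF (checkPointF cert) (nat_lit 20975) (nat_lit 25) = true := by decide +kernel
theorem chkP_21000 : allRangeF (checkPointF cert) (nat_lit 21000) (nat_lit 25) = true := by decide +kernel
theorem chkP_21025 : allRangeF (checkPointF cert) (nat_lit 21025) (nat_lit 25) = true := by decide +kernel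
theorem chkP_21050 : allRangeF (checkPointF cert) (nat_lit 21050) (nat_lit 25) = true := by decide +kernel
theorem chkP_21075 : allRangeF (checkPointF cert) (nat_lit 21075) (nat_lit 25) = true := by decide +kernel
theorem chkP_21100 : allRangeF (checkPointF cert) (nat_lit 21100) (nat_lit 25) = true := by decide +kernel
theorem chkP_21125 : allRangeF (checkPointF cert) (nat_lit 21125) (nat_lit 25) = true := by decide +kernel
theorem chkP_21150 : allRangeF (checkPointF cert) (nat_lit 21150) (nat_lit 25) = true := by decide +kernel
theorem chkP_21175 : allRangeF (checkPointF cert) (nat_lit 21175) (nat_lit 25) = true := by decide +kernel
theorem chkP_21200 : allRangeF (checkPointF cert) (nat_lit 21200) (nat_lit 25) = true := by decide +kernel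
theorem chkP_21225 : allRangeF (checkPointF cert) (nat_lit 21225) (nat_lit 25) = true := by decide +kernel
theorem chkP_21250 : allRangeF (checkPointF cert) (nat_lit 21250) (nat_lit 25) = true := by decide +kernel
theorem chkP_21275 : allRangeF (checkPointF cert) (nat_lit 21275) (nat_lit 25) = true := by decide +kernel
theorem chkP_21300 : allRangeF (checkPointF cert) (nat_lit 21300) (nat_lit 25) = true := by decide +kernel
theorem chkP_21325 : allRangeF (checkPointF cert) (nat_lit 21325) (nat_lit 25) = true := by decide +kernel
theorem chkP_21350 : allRangeF (checkPointF cert) (nat_lit 21350) (nat_lit 25) = true := by decide +kernel
theorem chkP_21375 : allRangeF (checkPointF cert) (nat_lit 21375) (nat_lit 25) = true := by decide +kernel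
theorem chkP_21400 : allRangeF (checkPointF cert) (nat_lit 21400) (nat_lit 25) = true := by decide +kernel
theorem chkP_21425 : allRangeF (checkPointF cert) (nat_lit 21425) (nat_lit 25) = true := by decide +kernel
theorem chkP_21450 : allRangeF (checkPointF cert) (nat_lit 21450) (nat_lit 25) = true := by decide +kernel
theorem chkP_21475 : allRangeF (checkPointF cert) (nat_lit 21475) (nat_lit 25) = true := by decide +kernel
theorem chkP_21500 : allRangeF (checkPointF cert) (nat_lit 21500) (nat_lit 25) = true := by decide +kernel
theorem chkP_21525 : allRangeF (checkPointF cert) (nat_lit 21525) (nat_lit 25) = true := by decide +kernel
theorem chkP_21550 : allRangeF (checkPointF cert) (nat_lit 21550) (nat_lit 25) = true := by decide +kernel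
theorem chkP_21575 : allRangeF (checkPointF cert) (nat_lit 21575) (nat_lit 25) = true := by decide +kernel
theorem chkP_21600 : allRangeF (checkPointF cert) (nat_lit 21600) (nat_lit 25) = true := by decide +kernel
theorem chkP_21625 : allRangeF (checkPointF cert) (nat_lit 21625) (nat_lit 25) = true := by decide +kernel
theorem chkP_21650 : allRangeF (checkPointF cert) (nat_lit 21650) (nat_lit 25) = true := by decide +kernel
theorem chkP_21675 : allRangeF (checkPointF cert) (nat_lit 21675) (nat_lit 25) = true := by decide +kernel
theorem chkP_21700 : allRangeF (checkPointF cert) (nat_lit 21700) (nat_lit 25) = true := by decide +kernel
theorem chkP_21725 : allRangeF (checkPointF cert) (nat_lit 21725) (nat_lit 25) = true := by decide +kernel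
theorem chkP_21750 : allRangeF (checkPointF cert) (nat_lit 21750) (nat_lit 25) = true := by decide +kernel
theorem chkP_21775 : allRangeF (checkPointF cert) (nat_lit 21775) (nat_lit 25) = true := by decide +kernel
theorem chkP_21800 : allRangeF (checkPointF cert) (nat_lit 21800) (nat_lit 25) = true := by decide +kernel
theorem chkP_21825 : allRangeF (checkPointF cert) (nat_lit 21825) (nat_lit 25) = true := by decide +kernel
theorem chkP_21850 : allRangeF (checkPointF cert) (nat_lit 21850) (nat_lit 25) = true := by decide +kernel
theorem chkP_21875 : allRangeF (checkPointF cert) (nat_lit 21875) (nat_lit 25) = true := by decide +kernel
theorem chkP_21900 : allRangeF (checkPointF cert) (nat_lit 21900) (nat_lit 25) = true := by decide +kernel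
theorem chkP_21925 : allRangeF (checkPointF cert) (nat_lit 21925) (nat_lit 25) = true := by decide +kernel
theorem chkP_21950 : allRangeF (checkPointF cert) (nat_lit 21950) (nat_lit 25) = true := by decide +kernel
theorem chkP_21975 : allRangeF (checkPointF cert) (nat_lit 21975) (nat_lit 25) = true := by decide +kernel
theorem chkP_22000 : allRangeF (checkPointF cert) (nat_lit 22000) (nat_lit 25) = true := by decide +kernel
theorem chkP_22025 : allRangeF (checkPointF cert) (nat_lit 22025) (nat_lit 25) = true := by decide +kernel
theorem chkP_22050 : allRangeF (checkPointF cert) (nat_lit 22050) (nat_lit 25) = true := by decide +kernel
theorem chkP_22075 : allRangeF (checkPointF cert) (nat_lit 22075) (nat_lit 25) = true := by decide +kernel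
theorem chkP_22100 : allRangeF (checkPointF cert) (nat_lit 22100) (nat_lit 25) = true := by decide +kernel
theorem chkP_22125 : allRangeF (checkPointF cert) (nat_lit 22125) (nat_lit 25) = true := by decide +kernel
theorem chkP_22150 : allRangeF (checkPointF cert) (nat_lit 22150) (nat_lit 25) = true := by decide +kernel
theorem chkP_22175 : allRangeF (checkPointF cert) (nat_lit 22175) (nat_lit 25) = true := by decide +kernel
theorem chkP_22200 : allRangeF (checkPointF cert) (nat_lit 22200) (nat_lit 25) = true := by decide +kernel
theorem chkP_22225 : allRangeF (checkPointF cert) (nat_lit 22225) (nat_lit 25) = true := by decide +kernel
theorem chkP_22250 : allRangeF (checkPointF cert) (nat_lit 22250) (nat_lit 25) = true := by decide +kernel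
theorem chkP_22275 : allRangeF (checkPointF cert) (nat_lit 22275) (nat_lit 25) = true := by decide +kernel
theorem chkP_22300 : allRangeF (checkPointF cert) (nat_lit 22300) (nat_lit 25) = true := by decide +kernel
theorem chkP_22325 : allRangeF (checkPointF cert) (nat_lit 22325) (nat_lit 25) = true := by decide +kernel
theorem chkP_22350 : allRangeF (checkPointF cert) (nat_lit 22350) (nat_lit 25) = true := by decide +kernel
theorem chkP_22375 : allRangeF (checkPointF cert) (nat_lit 22375) (nat_lit 25) = true := by decide +kernel
theorem chkP_22400 : allRangeF (checkPointF cert) (nat_lit 22400) (nat_lit 25) = true := by decide +kernel
theorem chkP_22425 : allRangeF (checkPointF cert) (nat_lit 22425) (nat_lit 25) = true := by decide +kernel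
theorem chkP_22450 : allRangeF (checkPointF cert) (nat_lit 22450) (nat_lit 25) = true := by decide +kernel
theorem chkP_22475 : allRangeF (checkPointF cert) (nat_lit 22475) (nat_lit 25) = true := by decide +kernel
theorem chkP_22500 : allRangeF (checkPointF cert) (nat_lit 22500) (nat_lit 25) = true := by decide +kernel
theorem chkP_22525 : allRangeF (checkPointF cert) (nat_lit 22525) (nat_lit 25) = true := by decide +kernel
theorem chkP_22550 : allRangeF (checkPointF cert) (nat_lit 22550) (nat_lit 25) = true := by decide +kernel
theorem chkP_22575 : allRangeF (checkPointF cert) (nat_lit 22575) (nat_lit 25) = true := by decide +kernel
theorem chkP_22600 : allRangeF (checkPointF cert) (nat_lit 22600) (nat_lit 25) = true := by decide +kernel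
theorem chkP_22625 : allRangeF (checkPointF cert) (nat_lit 22625) (nat_lit 25) = true := by decide +kernel
theorem chkP_22650 : allRangeF (checkPointF cert) (nat_lit 22650) (nat_lit 25) = true := by decide +kernel
theorem chkP_22675 : allRangeF (checkPointF cert) (nat_lit 22675) (nat_lit 25) = true := by decide +kernel
theorem chkP_22700 : allRangeF (checkPointF cert) (nat_lit 22700) (nat_lit 25) = true := by decide +kernel
theorem chkP_22725 : allRangeF (checkPointF cert) (nat_lit 22725) (nat_lit 25) = true := by decide +kernel
theorem chkP_22750 : allRangeF (checkPointF cert) (nat_lit 22750) (nat_lit 25) = true := by decide +kernel
theorem chkP_22775 : allRangeF (checkPointF cert) (nat_lit 22775) (nat_lit 25) = true := by decide +kernel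
theorem chkP_22800 : allRangeF (checkPointF cert) (nat_lit 22800) (nat_lit 25) = true := by decide +kernel
theorem chkP_22825 : allRangeF (checkPointF cert) (nat_lit 22825) (nat_lit 25) = true := by decide +kernel
theorem chkP_22850 : allRangeF (checkPointF cert) (nat_lit 22850) (nat_lit 25) = true := by decide +kernel
theorem chkP_22875 : allRangeF (checkPointF cert) (nat_lit 22875) (nat_lit 25) = true := by decide +kernel
theorem chkP_22900 : allRangeF (checkPointF cert) (nat_lit 22900) (nat_lit 25) = true := by decide +kernel
theorem chkP_22925 : allRangeF (checkPointF cert) (nat_lit 22925) (nat_lit 25) = true := by decide +kernel
theorem chkP_22950 : allRangeF (checkPointF cert) (nat_lit 22950) (nat_lit 25) = true := by decide +kernel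
theorem chkP_22975 : allRangeF (checkPointF cert) (nat_lit 22975) (nat_lit 25) = true := by decide +kernel
theorem chkP_23000 : allRangeF (checkPointF cert) (nat_lit 23000) (nat_lit 25) = true := by decide +kernel

theorem ptsRange_2 : ∀ i, 15350 ≤ i → i < 23025 → checkPoint cert i = true := by
  intro i hlo hhi
  rcases Nat.lt_or_ge i 19175 with h1 | h1
  · skip
    rcases Nat.lt_or_ge i 17250 with h2 | h2
    · skip
      rcases Nat.lt_or_ge i 16300 with h3 | h3
      · skip
        rcases Nat.lt_or_ge i 15825 with h4 | h4
        · skip
          rcases Nat.lt_or_ge i 15575 with h5 | h5
          · skip
            rcases Nat.lt_or_ge i 15450 with h6 | h6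
            · skip
              rcases Nat.lt_or_ge i 15400 with h7 | h7
              · skip
                rcases Nat.lt_or_ge i 15375 with h8 | h8
                · skip
                  exact allRangeF_sound _ _ (checkPointF_eq cert) 15350 25 chkP_15350 i (by omega) (by omega)
                · skip
                  exact allRangeF_sound _ _ (checkPointF_eq cert) 15375 25 chkP_15375 i (by omega) (by omega)
              · skip
                rcases Nat.lt_or_ge i 15425 with h8 | h8
                · skip
                  exact allRangeF_sound _ _ (checkPointF_eq cert) 15400 25 chkP_15400 i (by omega) (by omega)
                · skip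
                  exact allRangeF_sound _ _ (checkPointF_eq cert) 15425 25 chkP_15425 i (by omega) (by omega)
            · skip
              rcases Nat.lt_or_ge i 15500 with h7 | h7
              · skip
                rcases Nat.lt_or_ge i 15475 with h8 | h8
                · skip
                  exact allRangeF_sound _ _ (checkPointF_eq cert) 15450 25 chkP_15450 i (by omega) (by omega)
                · skip
                  exact allRangeF_sound _ _ (checkPointF_eq cert) 15475 25 chkP_15475 i (by omega) (by omega)
              · skip
                rcases Nat.lt_or_ge i 15525 with h8 | h8
                · skip
                  exact allRangeF_sound _ _ (checkPointF_eq cert) 15500 25 chkP_15500 i (by omega) (by omega)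
                · skip
                  rcases Nat.lt_or_ge i 15550 with h9 | h9
                  · skip
                    exact allRangeF_sound _ _ (checkPointF_eq cert) 15525 25 chkP_15525 i (by omega) (by omega)
                  · skip
                    exact allRangeF_sound _ _ (checkPointF_eq cert) 15550 25 chkP_15550 i (by omega) (by omega)
          · skip
            rcases Nat.lt_or_ge i 15700 with h6 | h6
            · skip
              rcases Nat.lt_or_ge i 15625 with h7 | h7
              · skip
                rcases Nat.lt_or_ge i 15600 with h8 | h8
                · skip
                  exact allRangeF_sound _ _ (checkPointF_eq cert) 15575 25 chkP_15575 i (by omega) (by omega)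
                · skip
                  exact allRangeF_sound _ _ (checkPointF_eq cert) 15600 25 chkP_15600 i (by omega) (by omega)
              · skip
                rcases Nat.lt_or_ge i 15650 with h8 | h8
                · skip
                  exact allRangeF_sound _ _ (checkPointF_eq cert) 15625 25 chkP_15625 i (by omega) (by omega)
                · skip
                  rcases Nat.lt_or_ge i 15675 with h9 | h9
                  · skip
                    exact allRangeF_sound _ _ (checkPointF_eq cert) 15650 25 chkP_15650 i (by omega) (by omega)
                  · skip
                    exact allRangeF_sound _ _ (checkPointF_eq cert) 15675 25 chkP_15675 i (by omega) (by omega)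
            · skip
              rcases Nat.lt_or_ge i 15750 with h7 | h7
              · skip
                rcases Nat.lt_or_ge i 15725 with h8 | h8
                · skip
                  exact allRangeF_sound _ _ (checkPointF_eq cert) 15700 25 chkP_15700 i (by omega) (by omega)
                · skip
                  exact allRangeF_sound _ _ (checkPointF_eq cert) 15725 25 chkP_15725 i (by omega) (by omega)
              · skip
                rcases Nat.lt_or_ge i 15775 with h8 | h8
                · skip
                  exact allRangeF_sound _ _ (checkPointF_eq cert) 15750 25 chkP_15750 i (by omega) (by omega)
                · skip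
                  rcases Nat.lt_or_ge i 15800 with h9 | h9
                  · skip
                    exact allRangeF_sound _ _ (checkPointF_eq cert) 15775 25 chkP_15775 i (by omega) (by omega)
                  · skip
                    exact allRangeF_sound _ _ (checkPointF_eq cert) 15800 25 chkP_15800 i (by omega) (by omega)
        · skip
          rcases Nat.lt_or_ge i 16050 with h5 | h5
          · skip
            rcases Nat.lt_or_ge i 15925 with h6 | h6
            · skip
              rcases Nat.lt_or_ge i 15875 with h7 | h7
              · skip
                rcases Nat.lt_or_ge i 15850 with h8 | h8
                · skip
                  exact allRangeF_sound _ _ (checkPointF_eq cert) 15825 25 chkP_15825 i (by omega) (by omega)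
                · skip
                  exact allRangeF_sound _ _ (checkPointF_eq cert) 15850 25 chkP_15850 i (by omega) (by omega)
              · skip
                rcases Nat.lt_or_ge i 15900 with h8 | h8
                · skip
                  exact allRangeF_sound _ _ (checkPointF_eq cert) 15875 25 chkP_15875 i (by omega) (by omega)
                · skip
                  exact allRangeF_sound _ _ (checkPointF_eq cert) 15900 25 chkP_15900 i (by omega) (by omega)
            · skip
              rcases Nat.lt_or_ge i 15975 with h7 | h7
              · skip
                rcases Nat.lt_or_ge i 15950 with h8 | h8
                · skip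
                  exact allRangeF_sound _ _ (checkPointF_eq cert) 15925 25 chkP_15925 i (by omega) (by omega)
                · skip
                  exact allRangeF_sound _ _ (checkPointF_eq cert) 15950 25 chkP_15950 i (by omega) (by omega)
              · skip
                rcases Nat.lt_or_ge i 16000 with h8 | h8
                · skip
                  exact allRangeF_sound _ _ (checkPointF_eq cert) 15975 25 chkP_15975 i (by omega) (by omega)
                · skip
                  rcases Nat.lt_or_ge i 16025 with h9 | h9
                  · skip
                    exact allRangeF_sound _ _ (checkPointF_eq cert) 16000 25 chkP_16000 i (by omega) (by omega)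
                  · skip
                    exact allRangeF_sound _ _ (checkPointF_eq cert) 16025 25 chkP_16025 i (by omega) (by omega)
          · skip
            rcases Nat.lt_or_ge i 16175 with h6 | h6
            · skip
              rcases Nat.lt_or_ge i 16100 with h7 | h7
              · skip
                rcases Nat.lt_or_ge i 16075 with h8 | h8
                · skip
                  exact allRangeF_sound _ _ (checkPointF_eq cert) 16050 25 chkP_16050 i (by omega) (by omega)
                · skip
                  exact allRangeF_sound _ _ (checkPointF_eq cert) 16075 25 chkP_16075 i (by omega) (by omega)
              · skip
                rcases Nat.lt_or_ge i 16125 with h8 | h8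
                · skip
                  exact allRangeF_sound _ _ (checkPointF_eq cert) 16100 25 chkP_16100 i (by omega) (by omega)
                · skip
                  rcases Nat.lt_or_ge i 16150 with h9 | h9
                  · skip
                    exact allRangeF_sound _ _ (checkPointF_eq cert) 16125 25 chkP_16125 i (by omega) (by omega)
                  · skip
                    exact allRangeF_sound _ _ (checkPointF_eq cert) 16150 25 chkP_16150 i (by omega) (by omega)
            · skip
              rcases Nat.lt_or_ge i 16225 with h7 | h7
              · skip
                rcases Nat.lt_or_ge i 16200 with h8 | h8
                · skip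
                  exact allRangeF_sound _ _ (checkPointF_eq cert) 16175 25 chkP_16175 i (by omega) (by omega)
                · skip
                  exact allRangeF_sound _ _ (checkPointF_eq cert) 16200 25 chkP_16200 i (by omega) (by omega)
              · skip
                rcases Nat.lt_or_ge i 16250 with h8 | h8
                · skip
                  exact allRangeF_sound _ _ (checkPointF_eq cert) 16225 25 chkP_16225 i (by omega) (by omega)
                · skip
                  rcases Nat.lt_or_ge i 16275 with h9 | h9
                  · skip
                    exact allRangeF_sound _ _ (checkPointF_eq cert) 16250 25 chkP_16250 i (by omega) (by omega)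
                  · skip
                    exact allRangeF_sound _ _ (checkPointF_eq cert) 16275 25 chkP_16275 i (by omega) (by omega)
      · skip
        rcases Nat.lt_or_ge i 16775 with h4 | h4
        · skip
          rcases Nat.lt_or_ge i 16525 with h5 | h5
          · skip
            rcases Nat.lt_or_ge i 16400 with h6 | h6
            · skip
              rcases Nat.lt_or_ge i 16350 with h7 | h7
              · skip
                rcases Nat.lt_or_ge i 16325 with h8 | h8
                · skip
                  exact allRangeF_sound _ _ (checkPointF_eq cert) 16300 25 chkP_16300 i (by omega) (by omega)
                · skip
                  exact allRangeF_sound _ _ (checkPointF_eq cert) 16325 25 chkP_16325 i (by omega) (by omega)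
              · skip
                rcases Nat.lt_or_ge i 16375 with h8 | h8
                · skip
                  exact allRangeF_sound _ _ (checkPointF_eq cert) 16350 25 chkP_16350 i (by omega) (by omega)
                · skip
                  exact allRangeF_sound _ _ (checkPointF_eq cert) 16375 25 chkP_16375 i (by omega) (by omega)
            · skip
              rcases Nat.lt_or_ge i 16450 with h7 | h7
              · skip
                rcases Nat.lt_or_ge i 16425 with h8 | h8
                · skip
                  exact allRangeF_sound _ _ (checkPointF_eq cert) 16400 25 chkP_16400 i (by omega) (by omega)
                · skip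
                  exact allRangeF_sound _ _ (checkPointF_eq cert) 16425 25 chkP_16425 i (by omega) (by omega)
              · skip
                rcases Nat.lt_or_ge i 16475 with h8 | h8
                · skip
                  exact allRangeF_sound _ _ (checkPointF_eq cert) 16450 25 chkP_16450 i (by omega) (by omega)
                · skip
                  rcases Nat.lt_or_ge i 16500 with h9 | h9
                  · skip
                    exact allRangeF_sound _ _ (checkPointF_eq cert) 16475 25 chkP_16475 i (by omega) (by omega)
                  · skip
                    exact allRangeF_sound _ _ (checkPointF_eq cert) 16500 25 chkP_16500 i (by omega) (by omega)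
          · skip
            rcases Nat.lt_or_ge i 16650 with h6 | h6
            · skip
              rcases Nat.lt_or_ge i 16575 with h7 | h7
              · skip
                rcases Nat.lt_or_ge i 16550 with h8 | h8
                · skip
                  exact allRangeF_sound _ _ (checkPointF_eq cert) 16525 25 chkP_16525 i (by omega) (by omega)
                · skip
                  exact allRangeF_sound _ _ (checkPointF_eq cert) 16550 25 chkP_16550 i (by omega) (by omega)
              · skip
                rcases Nat.lt_or_ge i 16600 with h8 | h8
                · skip
                  exact allRangeF_sound _ _ (checkPointF_eq cert) 16575 25 chkP_16575 i (by omega) (by omega)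
                · skip
                  rcases Nat.lt_or_ge i 16625 with h9 | h9
                  · skip
                    exact allRangeF_sound _ _ (checkPointF_eq cert) 16600 25 chkP_16600 i (by omega) (by omega)
                  · skip
                    exact allRangeF_sound _ _ (checkPointF_eq cert) 16625 25 chkP_16625 i (by omega) (by omega)
            · skip
              rcases Nat.lt_or_ge i 16700 with h7 | h7
              · skip
                rcases Nat.lt_or_ge i 16675 with h8 | h8
                · skip
                  exact allRangeF_sound _ _ (checkPointF_eq cert) 16650 25 chkP_16650 i (by omega) (by omega)
                · skip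
                  exact allRangeF_sound _ _ (checkPointF_eq cert) 16675 25 chkP_16675 i (by omega) (by omega)
              · skip
                rcases Nat.lt_or_ge i 16725 with h8 | h8
                · skip
                  exact allRangeF_sound _ _ (checkPointF_eq cert) 16700 25 chkP_16700 i (by omega) (by omega)
                · skip
                  rcases Nat.lt_or_ge i 16750 with h9 | h9
                  · skip
                    exact allRangeF_sound _ _ (checkPointF_eq cert) 16725 25 chkP_16725 i (by omega) (by omega)
                  · skip
                    exact allRangeF_sound _ _ (checkPointF_eq cert) 16750 25 chkP_16750 i (by omega) (by omega)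
        · skip
          rcases Nat.lt_or_ge i 17000 with h5 | h5
          · skip
            rcases Nat.lt_or_ge i 16875 with h6 | h6
            · skip
              rcases Nat.lt_or_ge i 16825 with h7 | h7
              · skip
                rcases Nat.lt_or_ge i 16800 with h8 | h8
                · skip
                  exact allRangeF_sound _ _ (checkPointF_eq cert) 16775 25 chkP_16775 i (by omega) (by omega)
                · skip
                  exact allRangeF_sound _ _ (checkPointF_eq cert) 16800 25 chkP_16800 i (by omega) (by omega)
              · skip
                rcases Nat.lt_or_ge i 16850 with h8 | h8
                · skip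
                  exact allRangeF_sound _ _ (checkPointF_eq cert) 16825 25 chkP_16825 i (by omega) (by omega)
                · skip
                  exact allRangeF_sound _ _ (checkPointF_eq cert) 16850 25 chkP_16850 i (by omega) (by omega)
            · skip
              rcases Nat.lt_or_ge i 16925 with h7 | h7
              · skip
                rcases Nat.lt_or_ge i 16900 with h8 | h8
                · skip
                  exact allRangeF_sound _ _ (checkPointF_eq cert) 16875 25 chkP_16875 i (by omega) (by omega)
                · skip
                  exact allRangeF_sound _ _ (checkPointF_eq cert) 16900 25 chkP_16900 i (by omega) (by omega)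
              · skip
                rcases Nat.lt_or_ge i 16950 with h8 | h8
                · skip
                  exact allRangeF_sound _ _ (checkPointF_eq cert) 16925 25 chkP_16925 i (by omega) (by omega)
                · skip
                  rcases Nat.lt_or_ge i 16975 with h9 | h9
                  · skip
                    exact allRangeF_sound _ _ (checkPointF_eq cert) 16950 25 chkP_16950 i (by omega) (by omega)
                  · skip
                    exact allRangeF_sound _ _ (checkPointF_eq cert) 16975 25 chkP_16975 i (by omega) (by omega)
          · skip
            rcases Nat.lt_or_ge i 17125 with h6 | h6
            · skip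
              rcases Nat.lt_or_ge i 17050 with h7 | h7
              · skip
                rcases Nat.lt_or_ge i 17025 with h8 | h8
                · skip
                  exact allRangeF_sound _ _ (checkPointF_eq cert) 17000 25 chkP_17000 i (by omega) (by omega)
                · skip
                  exact allRangeF_sound _ _ (checkPointF_eq cert) 17025 25 chkP_17025 i (by omega) (by omega)
              · skip
                rcases Nat.lt_or_ge i 17075 with h8 | h8
                · skip
                  exact allRangeF_sound _ _ (checkPointF_eq cert) 17050 25 chkP_17050 i (by omega) (by omega)
                · skip
                  rcases Nat.lt_or_ge i 17100 with h9 | h9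
                  · skip
                    exact allRangeF_sound _ _ (checkPointF_eq cert) 17075 25 chkP_17075 i (by omega) (by omega)
                  · skip
                    exact allRangeF_sound _ _ (checkPointF_eq cert) 17100 25 chkP_17100 i (by omega) (by omega)
            · skip
              rcases Nat.lt_or_ge i 17175 with h7 | h7
              · skip
                rcases Nat.lt_or_ge i 17150 with h8 | h8
                · skip
                  exact allRangeF_sound _ _ (checkPointF_eq cert) 17125 25 chkP_17125 i (by omega) (by omega)
                · skip
                  exact allRangeF_sound _ _ (checkPointF_eq cert) 17150 25 chkP_17150 i (by omega) (by omega)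
              · skip
                rcases Nat.lt_or_ge i 17200 with h8 | h8
                · skip
                  exact allRangeF_sound _ _ (checkPointF_eq cert) 17175 25 chkP_17175 i (by omega) (by omega)
                · skip
                  rcases Nat.lt_or_ge i 17225 with h9 | h9
                  · skip
                    exact allRangeF_sound _ _ (checkPointF_eq cert) 17200 25 chkP_17200 i (by omega) (by omega)
                  · skip
                    exact allRangeF_sound _ _ (checkPointF_eq cert) 17225 25 chkP_17225 i (by omega) (by omega)
    · skip
      rcases Nat.lt_or_ge i 18200 with h3 | h3
      · skip
        rcases Nat.lt_or_ge i 17725 with h4 | h4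
        · skip
          rcases Nat.lt_or_ge i 17475 with h5 | h5
          · skip
            rcases Nat.lt_or_ge i 17350 with h6 | h6
            · skip
              rcases Nat.lt_or_ge i 17300 with h7 | h7
              · skip
                rcases Nat.lt_or_ge i 17275 with h8 | h8
                · skip
                  exact allRangeF_sound _ _ (checkPointF_eq cert) 17250 25 chkP_17250 i (by omega) (by omega)
                · skip
                  exact allRangeF_sound _ _ (checkPointF_eq cert) 17275 25 chkP_17275 i (by omega) (by omega)
              · skip
                rcases Nat.lt_or_ge i 17325 with h8 | h8
                · skip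
                  exact allRangeF_sound _ _ (checkPointF_eq cert) 17300 25 chkP_17300 i (by omega) (by omega)
                · skip
                  exact allRangeF_sound _ _ (checkPointF_eq cert) 17325 25 chkP_17325 i (by omega) (by omega)
            · skip
              rcases Nat.lt_or_ge i 17400 with h7 | h7
              · skip
                rcases Nat.lt_or_ge i 17375 with h8 | h8
                · skip
                  exact allRangeF_sound _ _ (checkPointF_eq cert) 17350 25 chkP_17350 i (by omega) (by omega)
                · skip
                  exact allRangeF_sound _ _ (checkPointF_eq cert) 17375 25 chkP_17375 i (by omega) (by omega)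
              · skip
                rcases Nat.lt_or_ge i 17425 with h8 | h8
                · skip
                  exact allRangeF_sound _ _ (checkPointF_eq cert) 17400 25 chkP_17400 i (by omega) (by omega)
                · skip
                  rcases Nat.lt_or_ge i 17450 with h9 | h9
                  · skip
                    exact allRangeF_sound _ _ (checkPointF_eq cert) 17425 25 chkP_17425 i (by omega) (by omega)
                  · skip
                    exact allRangeF_sound _ _ (checkPointF_eq cert) 17450 25 chkP_17450 i (by omega) (by omega)
          · skip
            rcases Nat.lt_or_ge i 17600 with h6 | h6
            · skip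
              rcases Nat.lt_or_ge i 17525 with h7 | h7
              · skip
                rcases Nat.lt_or_ge i 17500 with h8 | h8
                · skip
                  exact allRangeF_sound _ _ (checkPointF_eq cert) 17475 25 chkP_17475 i (by omega) (by omega)
                · skip
                  exact allRangeF_sound _ _ (checkPointF_eq cert) 17500 25 chkP_17500 i (by omega) (by omega)
              · skip
                rcases Nat.lt_or_ge i 17550 with h8 | h8
                · skip
                  exact allRangeF_sound _ _ (checkPointF_eq cert) 17525 25 chkP_17525 i (by omega) (by omega)
                · skip
                  rcases Nat.lt_or_ge i 17575 with h9 | h9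
                  · skip
                    exact allRangeF_sound _ _ (checkPointF_eq cert) 17550 25 chkP_17550 i (by omega) (by omega)
                  · skip
                    exact allRangeF_sound _ _ (checkPointF_eq cert) 17575 25 chkP_17575 i (by omega) (by omega)
            · skip
              rcases Nat.lt_or_ge i 17650 with h7 | h7
              · skip
                rcases Nat.lt_or_ge i 17625 with h8 | h8
                · skip
                  exact allRangeF_sound _ _ (checkPointF_eq cert) 17600 25 chkP_17600 i (by omega) (by omega)
                · skip
                  exact allRangeF_sound _ _ (checkPointF_eq cert) 17625 25 chkP_17625 i (by omega) (by omega)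
              · skip
                rcases Nat.lt_or_ge i 17675 with h8 | h8
                · skip
                  exact allRangeF_sound _ _ (checkPointF_eq cert) 17650 25 chkP_17650 i (by omega) (by omega)
                · skip
                  rcases Nat.lt_or_ge i 17700 with h9 | h9
                  · skip
                    exact allRangeF_sound _ _ (checkPointF_eq cert) 17675 25 chkP_17675 i (by omega) (by omega)
                  · skip
                    exact allRangeF_sound _ _ (checkPointF_eq cert) 17700 25 chkP_17700 i (by omega) (by omega)
        · skip
          rcases Nat.lt_or_ge i 17950 with h5 | h5
          · skip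
            rcases Nat.lt_or_ge i 17825 with h6 | h6
            · skip
              rcases Nat.lt_or_ge i 17775 with h7 | h7
              · skip
                rcases Nat.lt_or_ge i 17750 with h8 | h8
                · skip
                  exact allRangeF_sound _ _ (checkPointF_eq cert) 17725 25 chkP_17725 i (by omega) (by omega)
                · skip
                  exact allRangeF_sound _ _ (checkPointF_eq cert) 17750 25 chkP_17750 i (by omega) (by omega)
              · skip
                rcases Nat.lt_or_ge i 17800 with h8 | h8
                · skip
                  exact allRangeF_sound _ _ (checkPointF_eq cert) 17775 25 chkP_17775 i (by omega) (by omega)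
                · skip
                  exact allRangeF_sound _ _ (checkPointF_eq cert) 17800 25 chkP_17800 i (by omega) (by omega)
            · skip
              rcases Nat.lt_or_ge i 17875 with h7 | h7
              · skip
                rcases Nat.lt_or_ge i 17850 with h8 | h8
                · skip
                  exact allRangeF_sound _ _ (checkPointF_eq cert) 17825 25 chkP_17825 i (by omega) (by omega)
                · skip
                  exact allRangeF_sound _ _ (checkPointF_eq cert) 17850 25 chkP_17850 i (by omega) (by omega)
              · skip
                rcases Nat.lt_or_ge i 17900 with h8 | h8
                · skip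
                  exact allRangeF_sound _ _ (checkPointF_eq cert) 17875 25 chkP_17875 i (by omega) (by omega)
                · skip
                  rcases Nat.lt_or_ge i 17925 with h9 | h9
                  · skip
                    exact allRangeF_sound _ _ (checkPointF_eq cert) 17900 25 chkP_17900 i (by omega) (by omega)
                  · skip
                    exact allRangeF_sound _ _ (checkPointF_eq cert) 17925 25 chkP_17925 i (by omega) (by omega)
          · skip
            rcases Nat.lt_or_ge i 18075 with h6 | h6
            · skip
              rcases Nat.lt_or_ge i 18000 with h7 | h7
              · skip
                rcases Nat.lt_or_ge i 17975 with h8 | h8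
                · skip
                  exact allRangeF_sound _ _ (checkPointF_eq cert) 17950 25 chkP_17950 i (by omega) (by omega)
                · skip
                  exact allRangeF_sound _ _ (checkPointF_eq cert) 17975 25 chkP_17975 i (by omega) (by omega)
              · skip
                rcases Nat.lt_or_ge i 18025 with h8 | h8
                · skip
                  exact allRangeF_sound _ _ (checkPointF_eq cert) 18000 25 chkP_18000 i (by omega) (by omega)
                · skip
                  rcases Nat.lt_or_ge i 18050 with h9 | h9
                  · skip
                    exact allRangeF_sound _ _ (checkPointF_eq cert) 18025 25 chkP_18025 i (by omega) (by omega)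
                  · skip
                    exact allRangeF_sound _ _ (checkPointF_eq cert) 18050 25 chkP_18050 i (by omega) (by omega)
            · skip
              rcases Nat.lt_or_ge i 18125 with h7 | h7
              · skip
                rcases Nat.lt_or_ge i 18100 with h8 | h8
                · skip
                  exact allRangeF_sound _ _ (checkPointF_eq cert) 18075 25 chkP_18075 i (by omega) (by omega)
                · skip
                  exact allRangeF_sound _ _ (checkPointF_eq cert) 18100 25 chkP_18100 i (by omega) (by omega)
              · skip
                rcases Nat.lt_or_ge i 18150 with h8 | h8
                · skip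
                  exact allRangeF_sound _ _ (checkPointF_eq cert) 18125 25 chkP_18125 i (by omega) (by omega)
                · skip
                  rcases Nat.lt_or_ge i 18175 with h9 | h9
                  · skip
                    exact allRangeF_sound _ _ (checkPointF_eq cert) 18150 25 chkP_18150 i (by omega) (by omega)
                  · skip
                    exact allRangeF_sound _ _ (checkPointF_eq cert) 18175 25 chkP_18175 i (by omega) (by omega)
      · skip
        rcases Nat.lt_or_ge i 18675 with h4 | h4
        · skip
          rcases Nat.lt_or_ge i 18425 with h5 | h5
          · skip
            rcases Nat.lt_or_ge i 18300 with h6 | h6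
            · skip
              rcases Nat.lt_or_ge i 18250 with h7 | h7
              · skip
                rcases Nat.lt_or_ge i 18225 with h8 | h8
                · skip
                  exact allRangeF_sound _ _ (checkPointF_eq cert) 18200 25 chkP_18200 i (by omega) (by omega)
                · skip
                  exact allRangeF_sound _ _ (checkPointF_eq cert) 18225 25 chkP_18225 i (by omega) (by omega)
              · skip
                rcases Nat.lt_or_ge i 18275 with h8 | h8
                · skip
                  exact allRangeF_sound _ _ (checkPointF_eq cert) 18250 25 chkP_18250 i (by omega) (by omega)
                · skip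
                  exact allRangeF_sound _ _ (checkPointF_eq cert) 18275 25 chkP_18275 i (by omega) (by omega)
            · skip
              rcases Nat.lt_or_ge i 18350 with h7 | h7
              · skip
                rcases Nat.lt_or_ge i 18325 with h8 | h8
                · skip
                  exact allRangeF_sound _ _ (checkPointF_eq cert) 18300 25 chkP_18300 i (by omega) (by omega)
                · skip
                  exact allRangeF_sound _ _ (checkPointF_eq cert) 18325 25 chkP_18325 i (by omega) (by omega)
              · skip
                rcases Nat.lt_or_ge i 18375 with h8 | h8
                · skip
                  exact allRangeF_sound _ _ (checkPointF_eq cert) 18350 25 chkP_18350 i (by omega) (by omega)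
                · skip
                  rcases Nat.lt_or_ge i 18400 with h9 | h9
                  · skip
                    exact allRangeF_sound _ _ (checkPointF_eq cert) 18375 25 chkP_18375 i (by omega) (by omega)
                  · skip
                    exact allRangeF_sound _ _ (checkPointF_eq cert) 18400 25 chkP_18400 i (by omega) (by omega)
          · skip
            rcases Nat.lt_or_ge i 18550 with h6 | h6
            · skip
              rcases Nat.lt_or_ge i 18475 with h7 | h7
              · skip
                rcases Nat.lt_or_ge i 18450 with h8 | h8
                · skip
                  exact allRangeF_sound _ _ (checkPointF_eq cert) 18425 25 chkP_18425 i (by omega) (by omega)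
                · skip
                  exact allRangeF_sound _ _ (checkPointF_eq cert) 18450 25 chkP_18450 i (by omega) (by omega)
              · skip
                rcases Nat.lt_or_ge i 18500 with h8 | h8
                · skip
                  exact allRangeF_sound _ _ (checkPointF_eq cert) 18475 25 chkP_18475 i (by omega) (by omega)
                · skip
                  rcases Nat.lt_or_ge i 18525 with h9 | h9
                  · skip
                    exact allRangeF_sound _ _ (checkPointF_eq cert) 18500 25 chkP_18500 i (by omega) (by omega)
                  · skip
                    exact allRangeF_sound _ _ (checkPointF_eq cert) 18525 25 chkP_18525 i (by omega) (by omega)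
            · skip
              rcases Nat.lt_or_ge i 18600 with h7 | h7
              · skip
                rcases Nat.lt_or_ge i 18575 with h8 | h8
                · skip
                  exact allRangeF_sound _ _ (checkPointF_eq cert) 18550 25 chkP_18550 i (by omega) (by omega)
                · skip
                  exact allRangeF_sound _ _ (checkPointF_eq cert) 18575 25 chkP_18575 i (by omega) (by omega)
              · skip
                rcases Nat.lt_or_ge i 18625 with h8 | h8
                · skip
                  exact allRangeF_sound _ _ (checkPointF_eq cert) 18600 25 chkP_18600 i (by omega) (by omega)
                · skip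
                  rcases Nat.lt_or_ge i 18650 with h9 | h9
                  · skip
                    exact allRangeF_sound _ _ (checkPointF_eq cert) 18625 25 chkP_18625 i (by omega) (by omega)
                  · skip
                    exact allRangeF_sound _ _ (checkPointF_eq cert) 18650 25 chkP_18650 i (by omega) (by omega)
        · skip
          rcases Nat.lt_or_ge i 18925 with h5 | h5
          · skip
            rcases Nat.lt_or_ge i 18800 with h6 | h6
            · skip
              rcases Nat.lt_or_ge i 18725 with h7 | h7
              · skip
                rcases Nat.lt_or_ge i 18700 with h8 | h8
                · skip
                  exact allRangeF_sound _ _ (checkPointF_eq cert) 18675 25 chkP_18675 i (by omega) (by omega)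
                · skip
                  exact allRangeF_sound _ _ (checkPointF_eq cert) 18700 25 chkP_18700 i (by omega) (by omega)
              · skip
                rcases Nat.lt_or_ge i 18750 with h8 | h8
                · skip
                  exact allRangeF_sound _ _ (checkPointF_eq cert) 18725 25 chkP_18725 i (by omega) (by omega)
                · skip
                  rcases Nat.lt_or_ge i 18775 with h9 | h9
                  · skip
                    exact allRangeF_sound _ _ (checkPointF_eq cert) 18750 25 chkP_18750 i (by omega) (by omega)
                  · skip
                    exact allRangeF_sound _ _ (checkPointF_eq cert) 18775 25 chkP_18775 i (by omega) (by omega)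
            · skip
              rcases Nat.lt_or_ge i 18850 with h7 | h7
              · skip
                rcases Nat.lt_or_ge i 18825 with h8 | h8
                · skip
                  exact allRangeF_sound _ _ (checkPointF_eq cert) 18800 25 chkP_18800 i (by omega) (by omega)
                · skip
                  exact allRangeF_sound _ _ (checkPointF_eq cert) 18825 25 chkP_18825 i (by omega) (by omega)
              · skip
                rcases Nat.lt_or_ge i 18875 with h8 | h8
                · skip
                  exact allRangeF_sound _ _ (checkPointF_eq cert) 18850 25 chkP_18850 i (by omega) (by omega)
                · skip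
                  rcases Nat.lt_or_ge i 18900 with h9 | h9
                  · skip
                    exact allRangeF_sound _ _ (checkPointF_eq cert) 18875 25 chkP_18875 i (by omega) (by omega)
                  · skip
                    exact allRangeF_sound _ _ (checkPointF_eq cert) 18900 25 chkP_18900 i (by omega) (by omega)
          · skip
            rcases Nat.lt_or_ge i 19050 with h6 | h6
            · skip
              rcases Nat.lt_or_ge i 18975 with h7 | h7
              · skip
                rcases Nat.lt_or_ge i 18950 with h8 | h8
                · skip
                  exact allRangeF_sound _ _ (checkPointF_eq cert) 18925 25 chkP_18925 i (by omega) (by omega)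
                · skip
                  exact allRangeF_sound _ _ (checkPointF_eq cert) 18950 25 chkP_18950 i (by omega) (by omega)
              · skip
                rcases Nat.lt_or_ge i 19000 with h8 | h8
                · skip
                  exact allRangeF_sound _ _ (checkPointF_eq cert) 18975 25 chkP_18975 i (by omega) (by omega)
                · skip
                  rcases Nat.lt_or_ge i 19025 with h9 | h9
                  · skip
                    exact allRangeF_sound _ _ (checkPointF_eq cert) 19000 25 chkP_19000 i (by omega) (by omega)
                  · skip
                    exact allRangeF_sound _ _ (checkPointF_eq cert) 19025 25 chkP_19025 i (by omega) (by omega)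
            · skip
              rcases Nat.lt_or_ge i 19100 with h7 | h7
              · skip
                rcases Nat.lt_or_ge i 19075 with h8 | h8
                · skip
                  exact allRangeF_sound _ _ (checkPointF_eq cert) 19050 25 chkP_19050 i (by omega) (by omega)
                · skip
                  exact allRangeF_sound _ _ (checkPointF_eq cert) 19075 25 chkP_19075 i (by omega) (by omega)
              · skip
                rcases Nat.lt_or_ge i 19125 with h8 | h8
                · skip
                  exact allRangeF_sound _ _ (checkPointF_eq cert) 19100 25 chkP_19100 i (by omega) (by omega)
                · skip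
                  rcases Nat.lt_or_ge i 19150 with h9 | h9
                  · skip
                    exact allRangeF_sound _ _ (checkPointF_eq cert) 19125 25 chkP_19125 i (by omega) (by omega)
                  · skip
                    exact allRangeF_sound _ _ (checkPointF_eq cert) 19150 25 chkP_19150 i (by omega) (by omega)
  · skip
    rcases Nat.lt_or_ge i 21100 with h2 | h2
    · skip
      rcases Nat.lt_or_ge i 20125 with h3 | h3
      · skip
        rcases Nat.lt_or_ge i 19650 with h4 | h4
        · skip
          rcases Nat.lt_or_ge i 19400 with h5 | h5
          · skip
            rcases Nat.lt_or_ge i 19275 with h6 | h6
            · skip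
              rcases Nat.lt_or_ge i 19225 with h7 | h7
              · skip
                rcases Nat.lt_or_ge i 19200 with h8 | h8
                · skip
                  exact allRangeF_sound _ _ (checkPointF_eq cert) 19175 25 chkP_19175 i (by omega) (by omega)
                · skip
                  exact allRangeF_sound _ _ (checkPointF_eq cert) 19200 25 chkP_19200 i (by omega) (by omega)
              · skip
                rcases Nat.lt_or_ge i 19250 with h8 | h8
                · skip
                  exact allRangeF_sound _ _ (checkPointF_eq cert) 19225 25 chkP_19225 i (by omega) (by omega)
                · skip
                  exact allRangeF_sound _ _ (checkPointF_eq cert) 19250 25 chkP_19250 i (by omega) (by omega)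
            · skip
              rcases Nat.lt_or_ge i 19325 with h7 | h7
              · skip
                rcases Nat.lt_or_ge i 19300 with h8 | h8
                · skip
                  exact allRangeF_sound _ _ (checkPointF_eq cert) 19275 25 chkP_19275 i (by omega) (by omega)
                · skip
                  exact allRangeF_sound _ _ (checkPointF_eq cert) 19300 25 chkP_19300 i (by omega) (by omega)
              · skip
                rcases Nat.lt_or_ge i 19350 with h8 | h8
                · skip
                  exact allRangeF_sound _ _ (checkPointF_eq cert) 19325 25 chkP_19325 i (by omega) (by omega)
                · skip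
                  rcases Nat.lt_or_ge i 19375 with h9 | h9
                  · skip
                    exact allRangeF_sound _ _ (checkPointF_eq cert) 19350 25 chkP_19350 i (by omega) (by omega)
                  · skip
                    exact allRangeF_sound _ _ (checkPointF_eq cert) 19375 25 chkP_19375 i (by omega) (by omega)
          · skip
            rcases Nat.lt_or_ge i 19525 with h6 | h6
            · skip
              rcases Nat.lt_or_ge i 19450 with h7 | h7
              · skip
                rcases Nat.lt_or_ge i 19425 with h8 | h8
                · skip
                  exact allRangeF_sound _ _ (checkPointF_eq cert) 19400 25 chkP_19400 i (by omega) (by omega)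
                · skip
                  exact allRangeF_sound _ _ (checkPointF_eq cert) 19425 25 chkP_19425 i (by omega) (by omega)
              · skip
                rcases Nat.lt_or_ge i 19475 with h8 | h8
                · skip
                  exact allRangeF_sound _ _ (checkPointF_eq cert) 19450 25 chkP_19450 i (by omega) (by omega)
                · skip
                  rcases Nat.lt_or_ge i 19500 with h9 | h9
                  · skip
                    exact allRangeF_sound _ _ (checkPointF_eq cert) 19475 25 chkP_19475 i (by omega) (by omega)
                  · skip
                    exact allRangeF_sound _ _ (checkPointF_eq cert) 19500 25 chkP_19500 i (by omega) (by omega)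
            · skip
              rcases Nat.lt_or_ge i 19575 with h7 | h7
              · skip
                rcases Nat.lt_or_ge i 19550 with h8 | h8
                · skip
                  exact allRangeF_sound _ _ (checkPointF_eq cert) 19525 25 chkP_19525 i (by omega) (by omega)
                · skip
                  exact allRangeF_sound _ _ (checkPointF_eq cert) 19550 25 chkP_19550 i (by omega) (by omega)
              · skip
                rcases Nat.lt_or_ge i 19600 with h8 | h8
                · skip
                  exact allRangeF_sound _ _ (checkPointF_eq cert) 19575 25 chkP_19575 i (by omega) (by omega)
                · skip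
                  rcases Nat.lt_or_ge i 19625 with h9 | h9
                  · skip
                    exact allRangeF_sound _ _ (checkPointF_eq cert) 19600 25 chkP_19600 i (by omega) (by omega)
                  · skip
                    exact allRangeF_sound _ _ (checkPointF_eq cert) 19625 25 chkP_19625 i (by omega) (by omega)
        · skip
          rcases Nat.lt_or_ge i 19875 with h5 | h5
          · skip
            rcases Nat.lt_or_ge i 19750 with h6 | h6
            · skip
              rcases Nat.lt_or_ge i 19700 with h7 | h7
              · skip
                rcases Nat.lt_or_ge i 19675 with h8 | h8
                · skip
                  exact allRangeF_sound _ _ (checkPointF_eq cert) 19650 25 chkP_19650 i (by omega) (by omega)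
                · skip
                  exact allRangeF_sound _ _ (checkPointF_eq cert) 19675 25 chkP_19675 i (by omega) (by omega)
              · skip
                rcases Nat.lt_or_ge i 19725 with h8 | h8
                · skip
                  exact allRangeF_sound _ _ (checkPointF_eq cert) 19700 25 chkP_19700 i (by omega) (by omega)
                · skip
                  exact allRangeF_sound _ _ (checkPointF_eq cert) 19725 25 chkP_19725 i (by omega) (by omega)
            · skip
              rcases Nat.lt_or_ge i 19800 with h7 | h7
              · skip
                rcases Nat.lt_or_ge i 19775 with h8 | h8
                · skip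
                  exact allRangeF_sound _ _ (checkPointF_eq cert) 19750 25 chkP_19750 i (by omega) (by omega)
                · skip
                  exact allRangeF_sound _ _ (checkPointF_eq cert) 19775 25 chkP_19775 i (by omega) (by omega)
              · skip
                rcases Nat.lt_or_ge i 19825 with h8 | h8
                · skip
                  exact allRangeF_sound _ _ (checkPointF_eq cert) 19800 25 chkP_19800 i (by omega) (by omega)
                · skip
                  rcases Nat.lt_or_ge i 19850 with h9 | h9
                  · skip
                    exact allRangeF_sound _ _ (checkPointF_eq cert) 19825 25 chkP_19825 i (by omega) (by omega)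
                  · skip
                    exact allRangeF_sound _ _ (checkPointF_eq cert) 19850 25 chkP_19850 i (by omega) (by omega)
          · skip
            rcases Nat.lt_or_ge i 20000 with h6 | h6
            · skip
              rcases Nat.lt_or_ge i 19925 with h7 | h7
              · skip
                rcases Nat.lt_or_ge i 19900 with h8 | h8
                · skip
                  exact allRangeF_sound _ _ (checkPointF_eq cert) 19875 25 chkP_19875 i (by omega) (by omega)
                · skip
                  exact allRangeF_sound _ _ (checkPointF_eq cert) 19900 25 chkP_19900 i (by omega) (by omega)
              · skip
                rcases Nat.lt_or_ge i 19950 with h8 | h8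
                · skip
                  exact allRangeF_sound _ _ (checkPointF_eq cert) 19925 25 chkP_19925 i (by omega) (by omega)
                · skip
                  rcases Nat.lt_or_ge i 19975 with h9 | h9
                  · skip
                    exact allRangeF_sound _ _ (checkPointF_eq cert) 19950 25 chkP_19950 i (by omega) (by omega)
                  · skip
                    exact allRangeF_sound _ _ (checkPointF_eq cert) 19975 25 chkP_19975 i (by omega) (by omega)
            · skip
              rcases Nat.lt_or_ge i 20050 with h7 | h7
              · skip
                rcases Nat.lt_or_ge i 20025 with h8 | h8
                · skip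
                  exact allRangeF_sound _ _ (checkPointF_eq cert) 20000 25 chkP_20000 i (by omega) (by omega)
                · skip
                  exact allRangeF_sound _ _ (checkPointF_eq cert) 20025 25 chkP_20025 i (by omega) (by omega)
              · skip
                rcases Nat.lt_or_ge i 20075 with h8 | h8
                · skip
                  exact allRangeF_sound _ _ (checkPointF_eq cert) 20050 25 chkP_20050 i (by omega) (by omega)
                · skip
                  rcases Nat.lt_or_ge i 20100 with h9 | h9
                  · skip
                    exact allRangeF_sound _ _ (checkPointF_eq cert) 20075 25 chkP_20075 i (by omega) (by omega)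
                  · skip
                    exact allRangeF_sound _ _ (checkPointF_eq cert) 20100 25 chkP_20100 i (by omega) (by omega)
      · skip
        rcases Nat.lt_or_ge i 20600 with h4 | h4
        · skip
          rcases Nat.lt_or_ge i 20350 with h5 | h5
          · skip
            rcases Nat.lt_or_ge i 20225 with h6 | h6
            · skip
              rcases Nat.lt_or_ge i 20175 with h7 | h7
              · skip
                rcases Nat.lt_or_ge i 20150 with h8 | h8
                · skip
                  exact allRangeF_sound _ _ (checkPointF_eq cert) 20125 25 chkP_20125 i (by omega) (by omega)
                · skip
                  exact allRangeF_sound _ _ (checkPointF_eq cert) 20150 25 chkP_20150 i (by omega) (by omega)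
              · skip
                rcases Nat.lt_or_ge i 20200 with h8 | h8
                · skip
                  exact allRangeF_sound _ _ (checkPointF_eq cert) 20175 25 chkP_20175 i (by omega) (by omega)
                · skip
                  exact allRangeF_sound _ _ (checkPointF_eq cert) 20200 25 chkP_20200 i (by omega) (by omega)
            · skip
              rcases Nat.lt_or_ge i 20275 with h7 | h7
              · skip
                rcases Nat.lt_or_ge i 20250 with h8 | h8
                · skip
                  exact allRangeF_sound _ _ (checkPointF_eq cert) 20225 25 chkP_20225 i (by omega) (by omega)
                · skip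
                  exact allRangeF_sound _ _ (checkPointF_eq cert) 20250 25 chkP_20250 i (by omega) (by omega)
              · skip
                rcases Nat.lt_or_ge i 20300 with h8 | h8
                · skip
                  exact allRangeF_sound _ _ (checkPointF_eq cert) 20275 25 chkP_20275 i (by omega) (by omega)
                · skip
                  rcases Nat.lt_or_ge i 20325 with h9 | h9
                  · skip
                    exact allRangeF_sound _ _ (checkPointF_eq cert) 20300 25 chkP_20300 i (by omega) (by omega)
                  · skip
                    exact allRangeF_sound _ _ (checkPointF_eq cert) 20325 25 chkP_20325 i (by omega) (by omega)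
          · skip
            rcases Nat.lt_or_ge i 20475 with h6 | h6
            · skip
              rcases Nat.lt_or_ge i 20400 with h7 | h7
              · skip
                rcases Nat.lt_or_ge i 20375 with h8 | h8
                · skip
                  exact allRangeF_sound _ _ (checkPointF_eq cert) 20350 25 chkP_20350 i (by omega) (by omega)
                · skip
                  exact allRangeF_sound _ _ (checkPointF_eq cert) 20375 25 chkP_20375 i (by omega) (by omega)
              · skip
                rcases Nat.lt_or_ge i 20425 with h8 | h8
                · skip
                  exact allRangeF_sound _ _ (checkPointF_eq cert) 20400 25 chkP_20400 i (by omega) (by omega)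
                · skip
                  rcases Nat.lt_or_ge i 20450 with h9 | h9
                  · skip
                    exact allRangeF_sound _ _ (checkPointF_eq cert) 20425 25 chkP_20425 i (by omega) (by omega)
                  · skip
                    exact allRangeF_sound _ _ (checkPointF_eq cert) 20450 25 chkP_20450 i (by omega) (by omega)
            · skip
              rcases Nat.lt_or_ge i 20525 with h7 | h7
              · skip
                rcases Nat.lt_or_ge i 20500 with h8 | h8
                · skip
                  exact allRangeF_sound _ _ (checkPointF_eq cert) 20475 25 chkP_20475 i (by omega) (by omega)
                · skip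
                  exact allRangeF_sound _ _ (checkPointF_eq cert) 20500 25 chkP_20500 i (by omega) (by omega)
              · skip
                rcases Nat.lt_or_ge i 20550 with h8 | h8
                · skip
                  exact allRangeF_sound _ _ (checkPointF_eq cert) 20525 25 chkP_20525 i (by omega) (by omega)
                · skip
                  rcases Nat.lt_or_ge i 20575 with h9 | h9
                  · skip
                    exact allRangeF_sound _ _ (checkPointF_eq cert) 20550 25 chkP_20550 i (by omega) (by omega)
                  · skip
                    exact allRangeF_sound _ _ (checkPointF_eq cert) 20575 25 chkP_20575 i (by omega) (by omega)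
        · skip
          rcases Nat.lt_or_ge i 20850 with h5 | h5
          · skip
            rcases Nat.lt_or_ge i 20725 with h6 | h6
            · skip
              rcases Nat.lt_or_ge i 20650 with h7 | h7
              · skip
                rcases Nat.lt_or_ge i 20625 with h8 | h8
                · skip
                  exact allRangeF_sound _ _ (checkPointF_eq cert) 20600 25 chkP_20600 i (by omega) (by omega)
                · skip
                  exact allRangeF_sound _ _ (checkPointF_eq cert) 20625 25 chkP_20625 i (by omega) (by omega)
              · skip
                rcases Nat.lt_or_ge i 20675 with h8 | h8
                · skip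
                  exact allRangeF_sound _ _ (checkPointF_eq cert) 20650 25 chkP_20650 i (by omega) (by omega)
                · skip
                  rcases Nat.lt_or_ge i 20700 with h9 | h9
                  · skip
                    exact allRangeF_sound _ _ (checkPointF_eq cert) 20675 25 chkP_20675 i (by omega) (by omega)
                  · skip
                    exact allRangeF_sound _ _ (checkPointF_eq cert) 20700 25 chkP_20700 i (by omega) (by omega)
            · skip
              rcases Nat.lt_or_ge i 20775 with h7 | h7
              · skip
                rcases Nat.lt_or_ge i 20750 with h8 | h8
                · skip
                  exact allRangeF_sound _ _ (checkPointF_eq cert) 20725 25 chkP_20725 i (by omega) (by omega)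
                · skip
                  exact allRangeF_sound _ _ (checkPointF_eq cert) 20750 25 chkP_20750 i (by omega) (by omega)
              · skip
                rcases Nat.lt_or_ge i 20800 with h8 | h8
                · skip
                  exact allRangeF_sound _ _ (checkPointF_eq cert) 20775 25 chkP_20775 i (by omega) (by omega)
                · skip
                  rcases Nat.lt_or_ge i 20825 with h9 | h9
                  · skip
                    exact allRangeF_sound _ _ (checkPointF_eq cert) 20800 25 chkP_20800 i (by omega) (by omega)
                  · skip
                    exact allRangeF_sound _ _ (checkPointF_eq cert) 20825 25 chkP_20825 i (by omega) (by omega)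
          · skip
            rcases Nat.lt_or_ge i 20975 with h6 | h6
            · skip
              rcases Nat.lt_or_ge i 20900 with h7 | h7
              · skip
                rcases Nat.lt_or_ge i 20875 with h8 | h8
                · skip
                  exact allRangeF_sound _ _ (checkPointF_eq cert) 20850 25 chkP_20850 i (by omega) (by omega)
                · skip
                  exact allRangeF_sound _ _ (checkPointF_eq cert) 20875 25 chkP_20875 i (by omega) (by omega)
              · skip
                rcases Nat.lt_or_ge i 20925 with h8 | h8
                · skip
                  exact allRangeF_sound _ _ (checkPointF_eq cert) 20900 25 chkP_20900 i (by omega) (by omega)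
                · skip
                  rcases Nat.lt_or_ge i 20950 with h9 | h9
                  · skip
                    exact allRangeF_sound _ _ (checkPointF_eq cert) 20925 25 chkP_20925 i (by omega) (by omega)
                  · skip
                    exact allRangeF_sound _ _ (checkPointF_eq cert) 20950 25 chkP_20950 i (by omega) (by omega)
            · skip
              rcases Nat.lt_or_ge i 21025 with h7 | h7
              · skip
                rcases Nat.lt_or_ge i 21000 with h8 | h8
                · skip
                  exact allRangeF_sound _ _ (checkPointF_eq cert) 20975 25 chkP_20975 i (by omega) (by omega)
                · skip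
                  exact allRangeF_sound _ _ (checkPointF_eq cert) 21000 25 chkP_21000 i (by omega) (by omega)
              · skip
                rcases Nat.lt_or_ge i 21050 with h8 | h8
                · skip
                  exact allRangeF_sound _ _ (checkPointF_eq cert) 21025 25 chkP_21025 i (by omega) (by omega)
                · skip
                  rcases Nat.lt_or_ge i 21075 with h9 | h9
                  · skip
                    exact allRangeF_sound _ _ (checkPointF_eq cert) 21050 25 chkP_21050 i (by omega) (by omega)
                  · skip
                    exact allRangeF_sound _ _ (checkPointF_eq cert) 21075 25 chkP_21075 i (by omega) (by omega)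
    · skip
      rcases Nat.lt_or_ge i 22050 with h3 | h3
      · skip
        rcases Nat.lt_or_ge i 21575 with h4 | h4
        · skip
          rcases Nat.lt_or_ge i 21325 with h5 | h5
          · skip
            rcases Nat.lt_or_ge i 21200 with h6 | h6
            · skip
              rcases Nat.lt_or_ge i 21150 with h7 | h7
              · skip
                rcases Nat.lt_or_ge i 21125 with h8 | h8
                · skip
                  exact allRangeF_sound _ _ (checkPointF_eq cert) 21100 25 chkP_21100 i (by omega) (by omega)
                · skip
                  exact allRangeF_sound _ _ (checkPointF_eq cert) 21125 25 chkP_21125 i (by omega) (by omega)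
              · skip
                rcases Nat.lt_or_ge i 21175 with h8 | h8
                · skip
                  exact allRangeF_sound _ _ (checkPointF_eq cert) 21150 25 chkP_21150 i (by omega) (by omega)
                · skip
                  exact allRangeF_sound _ _ (checkPointF_eq cert) 21175 25 chkP_21175 i (by omega) (by omega)
            · skip
              rcases Nat.lt_or_ge i 21250 with h7 | h7
              · skip
                rcases Nat.lt_or_ge i 21225 with h8 | h8
                · skip
                  exact allRangeF_sound _ _ (checkPointF_eq cert) 21200 25 chkP_21200 i (by omega) (by omega)
                · skip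
                  exact allRangeF_sound _ _ (checkPointF_eq cert) 21225 25 chkP_21225 i (by omega) (by omega)
              · skip
                rcases Nat.lt_or_ge i 21275 with h8 | h8
                · skip
                  exact allRangeF_sound _ _ (checkPointF_eq cert) 21250 25 chkP_21250 i (by omega) (by omega)
                · skip
                  rcases Nat.lt_or_ge i 21300 with h9 | h9
                  · skip
                    exact allRangeF_sound _ _ (checkPointF_eq cert) 21275 25 chkP_21275 i (by omega) (by omega)
                  · skip
                    exact allRangeF_sound _ _ (checkPointF_eq cert) 21300 25 chkP_21300 i (by omega) (by omega)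
          · skip
            rcases Nat.lt_or_ge i 21450 with h6 | h6
            · skip
              rcases Nat.lt_or_ge i 21375 with h7 | h7
              · skip
                rcases Nat.lt_or_ge i 21350 with h8 | h8
                · skip
                  exact allRangeF_sound _ _ (checkPointF_eq cert) 21325 25 chkP_21325 i (by omega) (by omega)
                · skip
                  exact allRangeF_sound _ _ (checkPointF_eq cert) 21350 25 chkP_21350 i (by omega) (by omega)
              · skip
                rcases Nat.lt_or_ge i 21400 with h8 | h8
                · skip
                  exact allRangeF_sound _ _ (checkPointF_eq cert) 21375 25 chkP_21375 i (by omega) (by omega)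
                · skip
                  rcases Nat.lt_or_ge i 21425 with h9 | h9
                  · skip
                    exact allRangeF_sound _ _ (checkPointF_eq cert) 21400 25 chkP_21400 i (by omega) (by omega)
                  · skip
                    exact allRangeF_sound _ _ (checkPointF_eq cert) 21425 25 chkP_21425 i (by omega) (by omega)
            · skip
              rcases Nat.lt_or_ge i 21500 with h7 | h7
              · skip
                rcases Nat.lt_or_ge i 21475 with h8 | h8
                · skip
                  exact allRangeF_sound _ _ (checkPointF_eq cert) 21450 25 chkP_21450 i (by omega) (by omega)
                · skip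
                  exact allRangeF_sound _ _ (checkPointF_eq cert) 21475 25 chkP_21475 i (by omega) (by omega)
              · skip
                rcases Nat.lt_or_ge i 21525 with h8 | h8
                · skip
                  exact allRangeF_sound _ _ (checkPointF_eq cert) 21500 25 chkP_21500 i (by omega) (by omega)
                · skip
                  rcases Nat.lt_or_ge i 21550 with h9 | h9
                  · skip
                    exact allRangeF_sound _ _ (checkPointF_eq cert) 21525 25 chkP_21525 i (by omega) (by omega)
                  · skip
                    exact allRangeF_sound _ _ (checkPointF_eq cert) 21550 25 chkP_21550 i (by omega) (by omega)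
        · skip
          rcases Nat.lt_or_ge i 21800 with h5 | h5
          · skip
            rcases Nat.lt_or_ge i 21675 with h6 | h6
            · skip
              rcases Nat.lt_or_ge i 21625 with h7 | h7
              · skip
                rcases Nat.lt_or_ge i 21600 with h8 | h8
                · skip
                  exact allRangeF_sound _ _ (checkPointF_eq cert) 21575 25 chkP_21575 i (by omega) (by omega)
                · skip
                  exact allRangeF_sound _ _ (checkPointF_eq cert) 21600 25 chkP_21600 i (by omega) (by omega)
              · skip
                rcases Nat.lt_or_ge i 21650 with h8 | h8
                · skip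
                  exact allRangeF_sound _ _ (checkPointF_eq cert) 21625 25 chkP_21625 i (by omega) (by omega)
                · skip
                  exact allRangeF_sound _ _ (checkPointF_eq cert) 21650 25 chkP_21650 i (by omega) (by omega)
            · skip
              rcases Nat.lt_or_ge i 21725 with h7 | h7
              · skip
                rcases Nat.lt_or_ge i 21700 with h8 | h8
                · skip
                  exact allRangeF_sound _ _ (checkPointF_eq cert) 21675 25 chkP_21675 i (by omega) (by omega)
                · skip
                  exact allRangeF_sound _ _ (checkPointF_eq cert) 21700 25 chkP_21700 i (by omega) (by omega)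
              · skip
                rcases Nat.lt_or_ge i 21750 with h8 | h8
                · skip
                  exact allRangeF_sound _ _ (checkPointF_eq cert) 21725 25 chkP_21725 i (by omega) (by omega)
                · skip
                  rcases Nat.lt_or_ge i 21775 with h9 | h9
                  · skip
                    exact allRangeF_sound _ _ (checkPointF_eq cert) 21750 25 chkP_21750 i (by omega) (by omega)
                  · skip
                    exact allRangeF_sound _ _ (checkPointF_eq cert) 21775 25 chkP_21775 i (by omega) (by omega)
          · skip
            rcases Nat.lt_or_ge i 21925 with h6 | h6
            · skip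
              rcases Nat.lt_or_ge i 21850 with h7 | h7
              · skip
                rcases Nat.lt_or_ge i 21825 with h8 | h8
                · skip
                  exact allRangeF_sound _ _ (checkPointF_eq cert) 21800 25 chkP_21800 i (by omega) (by omega)
                · skip
                  exact allRangeF_sound _ _ (checkPointF_eq cert) 21825 25 chkP_21825 i (by omega) (by omega)
              · skip
                rcases Nat.lt_or_ge i 21875 with h8 | h8
                · skip
                  exact allRangeF_sound _ _ (checkPointF_eq cert) 21850 25 chkP_21850 i (by omega) (by omega)
                · skip
                  rcases Nat.lt_or_ge i 21900 with h9 | h9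
                  · skip
                    exact allRangeF_sound _ _ (checkPointF_eq cert) 21875 25 chkP_21875 i (by omega) (by omega)
                  · skip
                    exact allRangeF_sound _ _ (checkPointF_eq cert) 21900 25 chkP_21900 i (by omega) (by omega)
            · skip
              rcases Nat.lt_or_ge i 21975 with h7 | h7
              · skip
                rcases Nat.lt_or_ge i 21950 with h8 | h8
                · skip
                  exact allRangeF_sound _ _ (checkPointF_eq cert) 21925 25 chkP_21925 i (by omega) (by omega)
                · skip
                  exact allRangeF_sound _ _ (checkPointF_eq cert) 21950 25 chkP_21950 i (by omega) (by omega)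
              · skip
                rcases Nat.lt_or_ge i 22000 with h8 | h8
                · skip
                  exact allRangeF_sound _ _ (checkPointF_eq cert) 21975 25 chkP_21975 i (by omega) (by omega)
                · skip
                  rcases Nat.lt_or_ge i 22025 with h9 | h9
                  · skip
                    exact allRangeF_sound _ _ (checkPointF_eq cert) 22000 25 chkP_22000 i (by omega) (by omega)
                  · skip
                    exact allRangeF_sound _ _ (checkPointF_eq cert) 22025 25 chkP_22025 i (by omega) (by omega)
      · skip
        rcases Nat.lt_or_ge i 22525 with h4 | h4
        · skip
          rcases Nat.lt_or_ge i 22275 with h5 | h5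
          · skip
            rcases Nat.lt_or_ge i 22150 with h6 | h6
            · skip
              rcases Nat.lt_or_ge i 22100 with h7 | h7
              · skip
                rcases Nat.lt_or_ge i 22075 with h8 | h8
                · skip
                  exact allRangeF_sound _ _ (checkPointF_eq cert) 22050 25 chkP_22050 i (by omega) (by omega)
                · skip
                  exact allRangeF_sound _ _ (checkPointF_eq cert) 22075 25 chkP_22075 i (by omega) (by omega)
              · skip
                rcases Nat.lt_or_ge i 22125 with h8 | h8
                · skip
                  exact allRangeF_sound _ _ (checkPointF_eq cert) 22100 25 chkP_22100 i (by omega) (by omega)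
                · skip
                  exact allRangeF_sound _ _ (checkPointF_eq cert) 22125 25 chkP_22125 i (by omega) (by omega)
            · skip
              rcases Nat.lt_or_ge i 22200 with h7 | h7
              · skip
                rcases Nat.lt_or_ge i 22175 with h8 | h8
                · skip
                  exact allRangeF_sound _ _ (checkPointF_eq cert) 22150 25 chkP_22150 i (by omega) (by omega)
                · skip
                  exact allRangeF_sound _ _ (checkPointF_eq cert) 22175 25 chkP_22175 i (by omega) (by omega)
              · skip
                rcases Nat.lt_or_ge i 22225 with h8 | h8
                · skip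
                  exact allRangeF_sound _ _ (checkPointF_eq cert) 22200 25 chkP_22200 i (by omega) (by omega)
                · skip
                  rcases Nat.lt_or_ge i 22250 with h9 | h9
                  · skip
                    exact allRangeF_sound _ _ (checkPointF_eq cert) 22225 25 chkP_22225 i (by omega) (by omega)
                  · skip
                    exact allRangeF_sound _ _ (checkPointF_eq cert) 22250 25 chkP_22250 i (by omega) (by omega)
          · skip
            rcases Nat.lt_or_ge i 22400 with h6 | h6
            · skip
              rcases Nat.lt_or_ge i 22325 with h7 | h7
              · skip
                rcases Nat.lt_or_ge i 22300 with h8 | h8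
                · skip
                  exact allRangeF_sound _ _ (checkPointF_eq cert) 22275 25 chkP_22275 i (by omega) (by omega)
                · skip
                  exact allRangeF_sound _ _ (checkPointF_eq cert) 22300 25 chkP_22300 i (by omega) (by omega)
              · skip
                rcases Nat.lt_or_ge i 22350 with h8 | h8
                · skip
                  exact allRangeF_sound _ _ (checkPointF_eq cert) 22325 25 chkP_22325 i (by omega) (by omega)
                · skip
                  rcases Nat.lt_or_ge i 22375 with h9 | h9
                  · skip
                    exact allRangeF_sound _ _ (checkPointF_eq cert) 22350 25 chkP_22350 i (by omega) (by omega)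
                  · skip
                    exact allRangeF_sound _ _ (checkPointF_eq cert) 22375 25 chkP_22375 i (by omega) (by omega)
            · skip
              rcases Nat.lt_or_ge i 22450 with h7 | h7
              · skip
                rcases Nat.lt_or_ge i 22425 with h8 | h8
                · skip
                  exact allRangeF_sound _ _ (checkPointF_eq cert) 22400 25 chkP_22400 i (by omega) (by omega)
                · skip
                  exact allRangeF_sound _ _ (checkPointF_eq cert) 22425 25 chkP_22425 i (by omega) (by omega)
              · skip
                rcases Nat.lt_or_ge i 22475 with h8 | h8
                · skip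
                  exact allRangeF_sound _ _ (checkPointF_eq cert) 22450 25 chkP_22450 i (by omega) (by omega)
                · skip
                  rcases Nat.lt_or_ge i 22500 with h9 | h9
                  · skip
                    exact allRangeF_sound _ _ (checkPointF_eq cert) 22475 25 chkP_22475 i (by omega) (by omega)
                  · skip
                    exact allRangeF_sound _ _ (checkPointF_eq cert) 22500 25 chkP_22500 i (by omega) (by omega)
        · skip
          rcases Nat.lt_or_ge i 22775 with h5 | h5
          · skip
            rcases Nat.lt_or_ge i 22650 with h6 | h6
            · skip
              rcases Nat.lt_or_ge i 22575 with h7 | h7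
              · skip
                rcases Nat.lt_or_ge i 22550 with h8 | h8
                · skip
                  exact allRangeF_sound _ _ (checkPointF_eq cert) 22525 25 chkP_22525 i (by omega) (by omega)
                · skip
                  exact allRangeF_sound _ _ (checkPointF_eq cert) 22550 25 chkP_22550 i (by omega) (by omega)
              · skip
                rcases Nat.lt_or_ge i 22600 with h8 | h8
                · skip
                  exact allRangeF_sound _ _ (checkPointF_eq cert) 22575 25 chkP_22575 i (by omega) (by omega)
                · skip
                  rcases Nat.lt_or_ge i 22625 with h9 | h9
                  · skip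
                    exact allRangeF_sound _ _ (checkPointF_eq cert) 22600 25 chkP_22600 i (by omega) (by omega)
                  · skip
                    exact allRangeF_sound _ _ (checkPointF_eq cert) 22625 25 chkP_22625 i (by omega) (by omega)
            · skip
              rcases Nat.lt_or_ge i 22700 with h7 | h7
              · skip
                rcases Nat.lt_or_ge i 22675 with h8 | h8
                · skip
                  exact allRangeF_sound _ _ (checkPointF_eq cert) 22650 25 chkP_22650 i (by omega) (by omega)
                · skip
                  exact allRangeF_sound _ _ (checkPointF_eq cert) 22675 25 chkP_22675 i (by omega) (by omega)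
              · skip
                rcases Nat.lt_or_ge i 22725 with h8 | h8
                · skip
                  exact allRangeF_sound _ _ (checkPointF_eq cert) 22700 25 chkP_22700 i (by omega) (by omega)
                · skip
                  rcases Nat.lt_or_ge i 22750 with h9 | h9
                  · skip
                    exact allRangeF_sound _ _ (checkPointF_eq cert) 22725 25 chkP_22725 i (by omega) (by omega)
                  · skip
                    exact allRangeF_sound _ _ (checkPointF_eq cert) 22750 25 chkP_22750 i (by omega) (by omega)
          · skip
            rcases Nat.lt_or_ge i 22900 with h6 | h6
            · skip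
              rcases Nat.lt_or_ge i 22825 with h7 | h7
              · skip
                rcases Nat.lt_or_ge i 22800 with h8 | h8
                · skip
                  exact allRangeF_sound _ _ (checkPointF_eq cert) 22775 25 chkP_22775 i (by omega) (by omega)
                · skip
                  exact allRangeF_sound _ _ (checkPointF_eq cert) 22800 25 chkP_22800 i (by omega) (by omega)
              · skip
                rcases Nat.lt_or_ge i 22850 with h8 | h8
                · skip
                  exact allRangeF_sound _ _ (checkPointF_eq cert) 22825 25 chkP_22825 i (by omega) (by omega)
                · skip
                  rcases Nat.lt_or_ge i 22875 with h9 | h9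
                  · skip
                    exact allRangeF_sound _ _ (checkPointF_eq cert) 22850 25 chkP_22850 i (by omega) (by omega)
                  · skip
                    exact allRangeF_sound _ _ (checkPointF_eq cert) 22875 25 chkP_22875 i (by omega) (by omega)
            · skip
              rcases Nat.lt_or_ge i 22950 with h7 | h7
              · skip
                rcases Nat.lt_or_ge i 22925 with h8 | h8
                · skip
                  exact allRangeF_sound _ _ (checkPointF_eq cert) 22900 25 chkP_22900 i (by omega) (by omega)
                · skip
                  exact allRangeF_sound _ _ (checkPointF_eq cert) 22925 25 chkP_22925 i (by omega) (by omega)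
              · skip
                rcases Nat.lt_or_ge i 22975 with h8 | h8
                · skip
                  exact allRangeF_sound _ _ (checkPointF_eq cert) 22950 25 chkP_22950 i (by omega) (by omega)
                · skip
                  rcases Nat.lt_or_ge i 23000 with h9 | h9
                  · skip
                    exact allRangeF_sound _ _ (checkPointF_eq cert) 22975 25 chkP_22975 i (by omega) (by omega)
                  · skip
                    exact allRangeF_sound _ _ (checkPointF_eq cert) 23000 25 chkP_23000 i (by omega) (by omega)

end Cfsg.Agent.Lib.Helper28.Fi24Data
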