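import Cfsg.Agent.Lib.Helper28.Fi24Data
import Cfsg.Agent.Lib.Helper28.TCFastB

set_option autoImplicit false
set_option maxRecDepth 1000000
set_option linter.all false
set_option Elab.async false

namespace Cfsg.Agent.Lib.Helper28.Fi24Data

open Cfsg.Agent.Lib.Helper28B

theorem chkP_153500 : allRangeF (checkPointF cert) (nat_lit 153500) (nat_lit 25) = true := by decide +kernel
theorem chkP_153525 : allRangeF (checkPointF cert) (nat_lit 153525) (nat_lit 25) = true := by decide +kernel
theorem chkP_153550 : allRangeF (checkPointF cert) (nat_lit 153550) (nat_lit 25) = true := by decide +kernel
theorem chkP_153575 : allRangeF (checkPointF cert) (nat_lit 153575) (nat_lit 25) = true := by decide +kernel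
theorem chkP_153600 : allRangeF (checkPointF cert) (nat_lit 153600) (nat_lit 25) = true := by decide +kernel
theorem chkP_153625 : allRangeF (checkPointF cert) (nat_lit 153625) (nat_lit 25) = true := by decide +kernel
theorem chkP_153650 : allRangeF (checkPointF cert) (nat_lit 153650) (nat_lit 25) = true := by decide +kernel
theorem chkP_153675 : allRangeF (checkPointF cert) (nat_lit 153675) (nat_lit 25) = true := by decide +kernel
theorem chkP_153700 : allRangeF (checkPointF cert) (nat_lit 153700) (nat_lit 25) = true := by decide +kernel
theorem chkP_153725 : allRangeF (checkPointF cert) (nat_lit 153725) (nat_lit 25) = true := by decide +kernel
theorem chkP_153750 : allRangeF (checkPointF cert) (nat_lit 153750) (nat_lit 25) = true := by decide +kernel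
theorem chkP_153775 : allRangeF (checkPointF cert) (nat_lit 153775) (nat_lit 25) = true := by decide +kernel
theorem chkP_153800 : allRangeF (checkPointF cert) (nat_lit 153800) (nat_lit 25) = true := by decide +kernel
theorem chkP_153825 : allRangeF (checkPointF cert) (nat_lit 153825) (nat_lit 25) = true := by decide +kernel
theorem chkP_153850 : allRangeF (checkPointF cert) (nat_lit 153850) (nat_lit 25) = true := by decide +kernel
theorem chkP_153875 : allRangeF (checkPointF cert) (nat_lit 153875) (nat_lit 25) = true := by decide +kernel
theorem chkP_153900 : allRangeF (checkPointF cert) (nat_lit 153900) (nat_lit 25) = true := by decide +kernel
theorem chkP_153925 : allRangeF (checkPointF cert) (nat_lit 153925) (nat_lit 25) = true := by decide +kernel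
theorem chkP_153950 : allRangeF (checkPointF cert) (nat_lit 153950) (nat_lit 25) = true := by decide +kernel
theorem chkP_153975 : allRangeF (checkPointF cert) (nat_lit 153975) (nat_lit 25) = true := by decide +kernel
theorem chkP_154000 : allRangeF (checkPointF cert) (nat_lit 154000) (nat_lit 25) = true := by decide +kernel
theorem chkP_154025 : allRangeF (checkPointF cert) (nat_lit 154025) (nat_lit 25) = true := by decide +kernel
theorem chkP_154050 : allRangeF (checkPointF cert) (nat_lit 154050) (nat_lit 25) = true := by decide +kernel
theorem chkP_154075 : allRangeF (checkPointF cert) (nat_lit 154075) (nat_lit 25) = true := by decide +kernel
theorem chkP_154100 : allRangeF (checkPointF cert) (nat_lit 154100) (nat_lit 25) = true := by decide +kernel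
theorem chkP_154125 : allRangeF (checkPointF cert) (nat_lit 154125) (nat_lit 25) = true := by decide +kernel
theorem chkP_154150 : allRangeF (checkPointF cert) (nat_lit 154150) (nat_lit 25) = true := by decide +kernel
theorem chkP_154175 : allRangeF (checkPointF cert) (nat_lit 154175) (nat_lit 25) = true := by decide +kernel
theorem chkP_154200 : allRangeF (checkPointF cert) (nat_lit 154200) (nat_lit 25) = true := by decide +kernel
theorem chkP_154225 : allRangeF (checkPointF cert) (nat_lit 154225) (nat_lit 25) = true := by decide +kernel
theorem chkP_154250 : allRangeF (checkPointF cert) (nat_lit 154250) (nat_lit 25) = true := by decide +kernel
theorem chkP_154275 : allRangeF (checkPointF cert) (nat_lit 154275) (nat_lit 25) = true := by decide +kernel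
theorem chkP_154300 : allRangeF (checkPointF cert) (nat_lit 154300) (nat_lit 25) = true := by decide +kernel
theorem chkP_154325 : allRangeF (checkPointF cert) (nat_lit 154325) (nat_lit 25) = true := by decide +kernel
theorem chkP_154350 : allRangeF (checkPointF cert) (nat_lit 154350) (nat_lit 25) = true := by decide +kernel
theorem chkP_154375 : allRangeF (checkPointF cert) (nat_lit 154375) (nat_lit 25) = true := by decide +kernel
theorem chkP_154400 : allRangeF (checkPointF cert) (nat_lit 154400) (nat_lit 25) = true := by decide +kernel
theorem chkP_154425 : allRangeF (checkPointF cert) (nat_lit 154425) (nat_lit 25) = true := by decide +kernel
theorem chkP_154450 : allRangeF (checkPointF cert) (nat_lit 154450) (nat_lit 25) = true := by decide +kernel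
theorem chkP_154475 : allRangeF (checkPointF cert) (nat_lit 154475) (nat_lit 25) = true := by decide +kernel
theorem chkP_154500 : allRangeF (checkPointF cert) (nat_lit 154500) (nat_lit 25) = true := by decide +kernel
theorem chkP_154525 : allRangeF (checkPointF cert) (nat_lit 154525) (nat_lit 25) = true := by decide +kernel
theorem chkP_154550 : allRangeF (checkPointF cert) (nat_lit 154550) (nat_lit 25) = true := by decide +kernel
theorem chkP_154575 : allRangeF (checkPointF cert) (nat_lit 154575) (nat_lit 25) = true := by decide +kernel
theorem chkP_154600 : allRangeF (checkPointF cert) (nat_lit 154600) (nat_lit 25) = true := by decide +kernel
theorem chkP_154625 : allRangeF (checkPointF cert) (nat_lit 154625) (nat_lit 25) = true := by decide +kernel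
theorem chkP_154650 : allRangeF (checkPointF cert) (nat_lit 154650) (nat_lit 25) = true := by decide +kernel
theorem chkP_154675 : allRangeF (checkPointF cert) (nat_lit 154675) (nat_lit 25) = true := by decide +kernel
theorem chkP_154700 : allRangeF (checkPointF cert) (nat_lit 154700) (nat_lit 25) = true := by decide +kernel
theorem chkP_154725 : allRangeF (checkPointF cert) (nat_lit 154725) (nat_lit 25) = true := by decide +kernel
theorem chkP_154750 : allRangeF (checkPointF cert) (nat_lit 154750) (nat_lit 25) = true := by decide +kernel
theorem chkP_154775 : allRangeF (checkPointF cert) (nat_lit 154775) (nat_lit 25) = true := by decide +kernel
theorem chkP_154800 : allRangeF (checkPointF cert) (nat_lit 154800) (nat_lit 25) = true := by decide +kernel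
theorem chkP_154825 : allRangeF (checkPointF cert) (nat_lit 154825) (nat_lit 25) = true := by decide +kernel
theorem chkP_154850 : allRangeF (checkPointF cert) (nat_lit 154850) (nat_lit 25) = true := by decide +kernel
theorem chkP_154875 : allRangeF (checkPointF cert) (nat_lit 154875) (nat_lit 25) = true := by decide +kernel
theorem chkP_154900 : allRangeF (checkPointF cert) (nat_lit 154900) (nat_lit 25) = true := by decide +kernel
theorem chkP_154925 : allRangeF (checkPointF cert) (nat_lit 154925) (nat_lit 25) = true := by decide +kernel
theorem chkP_154950 : allRangeF (checkPointF cert) (nat_lit 154950) (nat_lit 25) = true := by decide +kernel
theorem chkP_154975 : allRangeF (checkPointF cert) (nat_lit 154975) (nat_lit 25) = true := by decide +kernel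
theorem chkP_155000 : allRangeF (checkPointF cert) (nat_lit 155000) (nat_lit 25) = true := by decide +kernel
theorem chkP_155025 : allRangeF (checkPointF cert) (nat_lit 155025) (nat_lit 25) = true := by decide +kernel
theorem chkP_155050 : allRangeF (checkPointF cert) (nat_lit 155050) (nat_lit 25) = true := by decide +kernel
theorem chkP_155075 : allRangeF (checkPointF cert) (nat_lit 155075) (nat_lit 25) = true := by decide +kernel
theorem chkP_155100 : allRangeF (checkPointF cert) (nat_lit 155100) (nat_lit 25) = true := by decide +kernel
theorem chkP_155125 : allRangeF (checkPointF cert) (nat_lit 155125) (nat_lit 25) = true := by decide +kernel
theorem chkP_155150 : allRangeF (checkPointF cert) (nat_lit 155150) (nat_lit 25) = true := by decide +kernel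
theorem chkP_155175 : allRangeF (checkPointF cert) (nat_lit 155175) (nat_lit 25) = true := by decide +kernel
theorem chkP_155200 : allRangeF (checkPointF cert) (nat_lit 155200) (nat_lit 25) = true := by decide +kernel
theorem chkP_155225 : allRangeF (checkPointF cert) (nat_lit 155225) (nat_lit 25) = true := by decide +kernel
theorem chkP_155250 : allRangeF (checkPointF cert) (nat_lit 155250) (nat_lit 25) = true := by decide +kernel
theorem chkP_155275 : allRangeF (checkPointF cert) (nat_lit 155275) (nat_lit 25) = true := by decide +kernel
theorem chkP_155300 : allRangeF (checkPointF cert) (nat_lit 155300) (nat_lit 25) = true := by decide +kernel
theorem chkP_155325 : allRangeF (checkPointF cert) (nat_lit 155325) (nat_lit 25) = true := by decide +kernel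
theorem chkP_155350 : allRangeF (checkPointF cert) (nat_lit 155350) (nat_lit 25) = true := by decide +kernel
theorem chkP_155375 : allRangeF (checkPointF cert) (nat_lit 155375) (nat_lit 25) = true := by decide +kernel
theorem chkP_155400 : allRangeF (checkPointF cert) (nat_lit 155400) (nat_lit 25) = true := by decide +kernel
theorem chkP_155425 : allRangeF (checkPointF cert) (nat_lit 155425) (nat_lit 25) = true := by decide +kernel
theorem chkP_155450 : allRangeF (checkPointF cert) (nat_lit 155450) (nat_lit 25) = true := by decide +kernel
theorem chkP_155475 : allRangeF (checkPointF cert) (nat_lit 155475) (nat_lit 25) = true := by decide +kernel
theorem chkP_155500 : allRangeF (checkPointF cert) (nat_lit 155500) (nat_lit 25) = true := by decide +kernel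
theorem chkP_155525 : allRangeF (checkPointF cert) (nat_lit 155525) (nat_lit 25) = true := by decide +kernel
theorem chkP_155550 : allRangeF (checkPointF cert) (nat_lit 155550) (nat_lit 25) = true := by decide +kernel
theorem chkP_155575 : allRangeF (checkPointF cert) (nat_lit 155575) (nat_lit 25) = true := by decide +kernel
theorem chkP_155600 : allRangeF (checkPointF cert) (nat_lit 155600) (nat_lit 25) = true := by decide +kernel
theorem chkP_155625 : allRangeF (checkPointF cert) (nat_lit 155625) (nat_lit 25) = true := by decide +kernel
theorem chkP_155650 : allRangeF (checkPointF cert) (nat_lit 155650) (nat_lit 25) = true := by decide +kernel
theorem chkP_155675 : allRangeF (checkPointF cert) (nat_lit 155675) (nat_lit 25) = true := by decide +kernel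
theorem chkP_155700 : allRangeF (checkPointF cert) (nat_lit 155700) (nat_lit 25) = true := by decide +kernel
theorem chkP_155725 : allRangeF (checkPointF cert) (nat_lit 155725) (nat_lit 25) = true := by decide +kernel
theorem chkP_155750 : allRangeF (checkPointF cert) (nat_lit 155750) (nat_lit 25) = true := by decide +kernel
theorem chkP_155775 : allRangeF (checkPointF cert) (nat_lit 155775) (nat_lit 25) = true := by decide +kernel
theorem chkP_155800 : allRangeF (checkPointF cert) (nat_lit 155800) (nat_lit 25) = true := by decide +kernel
theorem chkP_155825 : allRangeF (checkPointF cert) (nat_lit 155825) (nat_lit 25) = true := by decide +kernel
theorem chkP_155850 : allRangeF (checkPointF cert) (nat_lit 155850) (nat_lit 25) = true := by decide +kernel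
theorem chkP_155875 : allRangeF (checkPointF cert) (nat_lit 155875) (nat_lit 25) = true := by decide +kernel
theorem chkP_155900 : allRangeF (checkPointF cert) (nat_lit 155900) (nat_lit 25) = true := by decide +kernel
theorem chkP_155925 : allRangeF (checkPointF cert) (nat_lit 155925) (nat_lit 25) = true := by decide +kernel
theorem chkP_155950 : allRangeF (checkPointF cert) (nat_lit 155950) (nat_lit 25) = true := by decide +kernel
theorem chkP_155975 : allRangeF (checkPointF cert) (nat_lit 155975) (nat_lit 25) = true := by decide +kernel
theorem chkP_156000 : allRangeF (checkPointF cert) (nat_lit 156000) (nat_lit 25) = true := by decide +kernel
theorem chkP_156025 : allRangeF (checkPointF cert) (nat_lit 156025) (nat_lit 25) = true := by decide +kernel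
theorem chkP_156050 : allRangeF (checkPointF cert) (nat_lit 156050) (nat_lit 25) = true := by decide +kernel
theorem chkP_156075 : allRangeF (checkPointF cert) (nat_lit 156075) (nat_lit 25) = true := by decide +kernel
theorem chkP_156100 : allRangeF (checkPointF cert) (nat_lit 156100) (nat_lit 25) = true := by decide +kernel
theorem chkP_156125 : allRangeF (checkPointF cert) (nat_lit 156125) (nat_lit 25) = true := by decide +kernel
theorem chkP_156150 : allRangeF (checkPointF cert) (nat_lit 156150) (nat_lit 25) = true := by decide +kernel
theorem chkP_156175 : allRangeF (checkPointF cert) (nat_lit 156175) (nat_lit 25) = true := by decide +kernel
theorem chkP_156200 : allRangeF (checkPointF cert) (nat_lit 156200) (nat_lit 25) = true := by decide +kernel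
theorem chkP_156225 : allRangeF (checkPointF cert) (nat_lit 156225) (nat_lit 25) = true := by decide +kernel
theorem chkP_156250 : allRangeF (checkPointF cert) (nat_lit 156250) (nat_lit 25) = true := by decide +kernel
theorem chkP_156275 : allRangeF (checkPointF cert) (nat_lit 156275) (nat_lit 25) = true := by decide +kernel
theorem chkP_156300 : allRangeF (checkPointF cert) (nat_lit 156300) (nat_lit 25) = true := by decide +kernel
theorem chkP_156325 : allRangeF (checkPointF cert) (nat_lit 156325) (nat_lit 25) = true := by decide +kernel
theorem chkP_156350 : allRangeF (checkPointF cert) (nat_lit 156350) (nat_lit 25) = true := by decide +kernel
theorem chkP_156375 : allRangeF (checkPointF cert) (nat_lit 156375) (nat_lit 25) = true := by decide +kernel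
theorem chkP_156400 : allRangeF (checkPointF cert) (nat_lit 156400) (nat_lit 25) = true := by decide +kernel
theorem chkP_156425 : allRangeF (checkPointF cert) (nat_lit 156425) (nat_lit 25) = true := by decide +kernel
theorem chkP_156450 : allRangeF (checkPointF cert) (nat_lit 156450) (nat_lit 25) = true := by decide +kernel
theorem chkP_156475 : allRangeF (checkPointF cert) (nat_lit 156475) (nat_lit 25) = true := by decide +kernel
theorem chkP_156500 : allRangeF (checkPointF cert) (nat_lit 156500) (nat_lit 25) = true := by decide +kernel
theorem chkP_156525 : allRangeF (checkPointF cert) (nat_lit 156525) (nat_lit 25) = true := by decide +kernel
theorem chkP_156550 : allRangeF (checkPointF cert) (nat_lit 156550) (nat_lit 25) = true := by decide +kernel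
theorem chkP_156575 : allRangeF (checkPointF cert) (nat_lit 156575) (nat_lit 25) = true := by decide +kernel
theorem chkP_156600 : allRangeF (checkPointF cert) (nat_lit 156600) (nat_lit 25) = true := by decide +kernel
theorem chkP_156625 : allRangeF (checkPointF cert) (nat_lit 156625) (nat_lit 25) = true := by decide +kernel
theorem chkP_156650 : allRangeF (checkPointF cert) (nat_lit 156650) (nat_lit 25) = true := by decide +kernel
theorem chkP_156675 : allRangeF (checkPointF cert) (nat_lit 156675) (nat_lit 25) = true := by decide +kernel
theorem chkP_156700 : allRangeF (checkPointF cert) (nat_lit 156700) (nat_lit 25) = true := by decide +kernel
theorem chkP_156725 : allRangeF (checkPointF cert) (nat_lit 156725) (nat_lit 25) = true := by decide +kernel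
theorem chkP_156750 : allRangeF (checkPointF cert) (nat_lit 156750) (nat_lit 25) = true := by decide +kernel
theorem chkP_156775 : allRangeF (checkPointF cert) (nat_lit 156775) (nat_lit 25) = true := by decide +kernel
theorem chkP_156800 : allRangeF (checkPointF cert) (nat_lit 156800) (nat_lit 25) = true := by decide +kernel
theorem chkP_156825 : allRangeF (checkPointF cert) (nat_lit 156825) (nat_lit 25) = true := by decide +kernel
theorem chkP_156850 : allRangeF (checkPointF cert) (nat_lit 156850) (nat_lit 25) = true := by decide +kernel
theorem chkP_156875 : allRangeF (checkPointF cert) (nat_lit 156875) (nat_lit 25) = true := by decide +kernel
theorem chkP_156900 : allRangeF (checkPointF cert) (nat_lit 156900) (nat_lit 25) = true := by decide +kernel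
theorem chkP_156925 : allRangeF (checkPointF cert) (nat_lit 156925) (nat_lit 25) = true := by decide +kernel
theorem chkP_156950 : allRangeF (checkPointF cert) (nat_lit 156950) (nat_lit 25) = true := by decide +kernel
theorem chkP_156975 : allRangeF (checkPointF cert) (nat_lit 156975) (nat_lit 25) = true := by decide +kernel
theorem chkP_157000 : allRangeF (checkPointF cert) (nat_lit 157000) (nat_lit 25) = true := by decide +kernel
theorem chkP_157025 : allRangeF (checkPointF cert) (nat_lit 157025) (nat_lit 25) = true := by decide +kernel
theorem chkP_157050 : allRangeF (checkPointF cert) (nat_lit 157050) (nat_lit 25) = true := by decide +kernel
theorem chkP_157075 : allRangeF (checkPointF cert) (nat_lit 157075) (nat_lit 25) = true := by decide +kernel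
theorem chkP_157100 : allRangeF (checkPointF cert) (nat_lit 157100) (nat_lit 25) = true := by decide +kernel
theorem chkP_157125 : allRangeF (checkPointF cert) (nat_lit 157125) (nat_lit 25) = true := by decide +kernel
theorem chkP_157150 : allRangeF (checkPointF cert) (nat_lit 157150) (nat_lit 25) = true := by decide +kernel
theorem chkP_157175 : allRangeF (checkPointF cert) (nat_lit 157175) (nat_lit 25) = true := by decide +kernel
theorem chkP_157200 : allRangeF (checkPointF cert) (nat_lit 157200) (nat_lit 25) = true := by decide +kernel
theorem chkP_157225 : allRangeF (checkPointF cert) (nat_lit 157225) (nat_lit 25) = true := by decide +kernel
theorem chkP_157250 : allRangeF (checkPointF cert) (nat_lit 157250) (nat_lit 25) = true := by decide +kernel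
theorem chkP_157275 : allRangeF (checkPointF cert) (nat_lit 157275) (nat_lit 25) = true := by decide +kernel
theorem chkP_157300 : allRangeF (checkPointF cert) (nat_lit 157300) (nat_lit 25) = true := by decide +kernel
theorem chkP_157325 : allRangeF (checkPointF cert) (nat_lit 157325) (nat_lit 25) = true := by decide +kernel
theorem chkP_157350 : allRangeF (checkPointF cert) (nat_lit 157350) (nat_lit 25) = true := by decide +kernel
theorem chkP_157375 : allRangeF (checkPointF cert) (nat_lit 157375) (nat_lit 25) = true := by decide +kernel
theorem chkP_157400 : allRangeF (checkPointF cert) (nat_lit 157400) (nat_lit 25) = true := by decide +kernel
theorem chkP_157425 : allRangeF (checkPointF cert) (nat_lit 157425) (nat_lit 25) = true := by decide +kernel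
theorem chkP_157450 : allRangeF (checkPointF cert) (nat_lit 157450) (nat_lit 25) = true := by decide +kernel
theorem chkP_157475 : allRangeF (checkPointF cert) (nat_lit 157475) (nat_lit 25) = true := by decide +kernel
theorem chkP_157500 : allRangeF (checkPointF cert) (nat_lit 157500) (nat_lit 25) = true := by decide +kernel
theorem chkP_157525 : allRangeF (checkPointF cert) (nat_lit 157525) (nat_lit 25) = true := by decide +kernel
theorem chkP_157550 : allRangeF (checkPointF cert) (nat_lit 157550) (nat_lit 25) = true := by decide +kernel
theorem chkP_157575 : allRangeF (checkPointF cert) (nat_lit 157575) (nat_lit 25) = true := by decide +kernel
theorem chkP_157600 : allRangeF (checkPointF cert) (nat_lit 157600) (nat_lit 25) = true := by decide +kernel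
theorem chkP_157625 : allRangeF (checkPointF cert) (nat_lit 157625) (nat_lit 25) = true := by decide +kernel
theorem chkP_157650 : allRangeF (checkPointF cert) (nat_lit 157650) (nat_lit 25) = true := by decide +kernel
theorem chkP_157675 : allRangeF (checkPointF cert) (nat_lit 157675) (nat_lit 25) = true := by decide +kernel
theorem chkP_157700 : allRangeF (checkPointF cert) (nat_lit 157700) (nat_lit 25) = true := by decide +kernel
theorem chkP_157725 : allRangeF (checkPointF cert) (nat_lit 157725) (nat_lit 25) = true := by decide +kernel
theorem chkP_157750 : allRangeF (checkPointF cert) (nat_lit 157750) (nat_lit 25) = true := by decide +kernel
theorem chkP_157775 : allRangeF (checkPointF cert) (nat_lit 157775) (nat_lit 25) = true := by decide +kernel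
theorem chkP_157800 : allRangeF (checkPointF cert) (nat_lit 157800) (nat_lit 25) = true := by decide +kernel
theorem chkP_157825 : allRangeF (checkPointF cert) (nat_lit 157825) (nat_lit 25) = true := by decide +kernel
theorem chkP_157850 : allRangeF (checkPointF cert) (nat_lit 157850) (nat_lit 25) = true := by decide +kernel
theorem chkP_157875 : allRangeF (checkPointF cert) (nat_lit 157875) (nat_lit 25) = true := by decide +kernel
theorem chkP_157900 : allRangeF (checkPointF cert) (nat_lit 157900) (nat_lit 25) = true := by decide +kernel
theorem chkP_157925 : allRangeF (checkPointF cert) (nat_lit 157925) (nat_lit 25) = true := by decide +kernel
theorem chkP_157950 : allRangeF (checkPointF cert) (nat_lit 157950) (nat_lit 25) = true := by decide +kernel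
theorem chkP_157975 : allRangeF (checkPointF cert) (nat_lit 157975) (nat_lit 25) = true := by decide +kernel
theorem chkP_158000 : allRangeF (checkPointF cert) (nat_lit 158000) (nat_lit 25) = true := by decide +kernel
theorem chkP_158025 : allRangeF (checkPointF cert) (nat_lit 158025) (nat_lit 25) = true := by decide +kernel
theorem chkP_158050 : allRangeF (checkPointF cert) (nat_lit 158050) (nat_lit 25) = true := by decide +kernel
theorem chkP_158075 : allRangeF (checkPointF cert) (nat_lit 158075) (nat_lit 25) = true := by decide +kernel
theorem chkP_158100 : allRangeF (checkPointF cert) (nat_lit 158100) (nat_lit 25) = true := by decide +kernel
theorem chkP_158125 : allRangeF (checkPointF cert) (nat_lit 158125) (nat_lit 25) = true := by decide +kernel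
theorem chkP_158150 : allRangeF (checkPointF cert) (nat_lit 158150) (nat_lit 25) = true := by decide +kernel
theorem chkP_158175 : allRangeF (checkPointF cert) (nat_lit 158175) (nat_lit 25) = true := by decide +kernel
theorem chkP_158200 : allRangeF (checkPointF cert) (nat_lit 158200) (nat_lit 25) = true := by decide +kernel
theorem chkP_158225 : allRangeF (checkPointF cert) (nat_lit 158225) (nat_lit 25) = true := by decide +kernel
theorem chkP_158250 : allRangeF (checkPointF cert) (nat_lit 158250) (nat_lit 25) = true := by decide +kernel
theorem chkP_158275 : allRangeF (checkPointF cert) (nat_lit 158275) (nat_lit 25) = true := by decide +kernel
theorem chkP_158300 : allRangeF (checkPointF cert) (nat_lit 158300) (nat_lit 25) = true := by decide +kernel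
theorem chkP_158325 : allRangeF (checkPointF cert) (nat_lit 158325) (nat_lit 25) = true := by decide +kernel
theorem chkP_158350 : allRangeF (checkPointF cert) (nat_lit 158350) (nat_lit 25) = true := by decide +kernel
theorem chkP_158375 : allRangeF (checkPointF cert) (nat_lit 158375) (nat_lit 25) = true := by decide +kernel
theorem chkP_158400 : allRangeF (checkPointF cert) (nat_lit 158400) (nat_lit 25) = true := by decide +kernel
theorem chkP_158425 : allRangeF (checkPointF cert) (nat_lit 158425) (nat_lit 25) = true := by decide +kernel
theorem chkP_158450 : allRangeF (checkPointF cert) (nat_lit 158450) (nat_lit 25) = true := by decide +kernel
theorem chkP_158475 : allRangeF (checkPointF cert) (nat_lit 158475) (nat_lit 25) = true := by decide +kernel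
theorem chkP_158500 : allRangeF (checkPointF cert) (nat_lit 158500) (nat_lit 25) = true := by decide +kernel
theorem chkP_158525 : allRangeF (checkPointF cert) (nat_lit 158525) (nat_lit 25) = true := by decide +kernel
theorem chkP_158550 : allRangeF (checkPointF cert) (nat_lit 158550) (nat_lit 25) = true := by decide +kernel
theorem chkP_158575 : allRangeF (checkPointF cert) (nat_lit 158575) (nat_lit 25) = true := by decide +kernel
theorem chkP_158600 : allRangeF (checkPointF cert) (nat_lit 158600) (nat_lit 25) = true := by decide +kernel
theorem chkP_158625 : allRangeF (checkPointF cert) (nat_lit 158625) (nat_lit 25) = true := by decide +kernel
theorem chkP_158650 : allRangeF (checkPointF cert) (nat_lit 158650) (nat_lit 25) = true := by decide +kernel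
theorem chkP_158675 : allRangeF (checkPointF cert) (nat_lit 158675) (nat_lit 25) = true := by decide +kernel
theorem chkP_158700 : allRangeF (checkPointF cert) (nat_lit 158700) (nat_lit 25) = true := by decide +kernel
theorem chkP_158725 : allRangeF (checkPointF cert) (nat_lit 158725) (nat_lit 25) = true := by decide +kernel
theorem chkP_158750 : allRangeF (checkPointF cert) (nat_lit 158750) (nat_lit 25) = true := by decide +kernel
theorem chkP_158775 : allRangeF (checkPointF cert) (nat_lit 158775) (nat_lit 25) = true := by decide +kernel
theorem chkP_158800 : allRangeF (checkPointF cert) (nat_lit 158800) (nat_lit 25) = true := by decide +kernel
theorem chkP_158825 : allRangeF (checkPointF cert) (nat_lit 158825) (nat_lit 25) = true := by decide +kernel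
theorem chkP_158850 : allRangeF (checkPointF cert) (nat_lit 158850) (nat_lit 25) = true := by decide +kernel
theorem chkP_158875 : allRangeF (checkPointF cert) (nat_lit 158875) (nat_lit 25) = true := by decide +kernel
theorem chkP_158900 : allRangeF (checkPointF cert) (nat_lit 158900) (nat_lit 25) = true := by decide +kernel
theorem chkP_158925 : allRangeF (checkPointF cert) (nat_lit 158925) (nat_lit 25) = true := by decide +kernel
theorem chkP_158950 : allRangeF (checkPointF cert) (nat_lit 158950) (nat_lit 25) = true := by decide +kernel
theorem chkP_158975 : allRangeF (checkPointF cert) (nat_lit 158975) (nat_lit 25) = true := by decide +kernel
theorem chkP_159000 : allRangeF (checkPointF cert) (nat_lit 159000) (nat_lit 25) = true := by decide +kernel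
theorem chkP_159025 : allRangeF (checkPointF cert) (nat_lit 159025) (nat_lit 25) = true := by decide +kernel
theorem chkP_159050 : allRangeF (checkPointF cert) (nat_lit 159050) (nat_lit 25) = true := by decide +kernel
theorem chkP_159075 : allRangeF (checkPointF cert) (nat_lit 159075) (nat_lit 25) = true := by decide +kernel
theorem chkP_159100 : allRangeF (checkPointF cert) (nat_lit 159100) (nat_lit 25) = true := by decide +kernel
theorem chkP_159125 : allRangeF (checkPointF cert) (nat_lit 159125) (nat_lit 25) = true := by decide +kernel
theorem chkP_159150 : allRangeF (checkPointF cert) (nat_lit 159150) (nat_lit 25) = true := by decide +kernel
theorem chkP_159175 : allRangeF (checkPointF cert) (nat_lit 159175) (nat_lit 25) = true := by decide +kernel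
theorem chkP_159200 : allRangeF (checkPointF cert) (nat_lit 159200) (nat_lit 25) = true := by decide +kernel
theorem chkP_159225 : allRangeF (checkPointF cert) (nat_lit 159225) (nat_lit 25) = true := by decide +kernel
theorem chkP_159250 : allRangeF (checkPointF cert) (nat_lit 159250) (nat_lit 25) = true := by decide +kernel
theorem chkP_159275 : allRangeF (checkPointF cert) (nat_lit 159275) (nat_lit 25) = true := by decide +kernel
theorem chkP_159300 : allRangeF (checkPointF cert) (nat_lit 159300) (nat_lit 25) = true := by decide +kernel
theorem chkP_159325 : allRangeF (checkPointF cert) (nat_lit 159325) (nat_lit 25) = true := by decide +kernel
theorem chkP_159350 : allRangeF (checkPointF cert) (nat_lit 159350) (nat_lit 25) = true := by decide +kernel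
theorem chkP_159375 : allRangeF (checkPointF cert) (nat_lit 159375) (nat_lit 25) = true := by decide +kernel
theorem chkP_159400 : allRangeF (checkPointF cert) (nat_lit 159400) (nat_lit 25) = true := by decide +kernel
theorem chkP_159425 : allRangeF (checkPointF cert) (nat_lit 159425) (nat_lit 25) = true := by decide +kernel
theorem chkP_159450 : allRangeF (checkPointF cert) (nat_lit 159450) (nat_lit 25) = true := by decide +kernel
theorem chkP_159475 : allRangeF (checkPointF cert) (nat_lit 159475) (nat_lit 25) = true := by decide +kernel
theorem chkP_159500 : allRangeF (checkPointF cert) (nat_lit 159500) (nat_lit 25) = true := by decide +kernel
theorem chkP_159525 : allRangeF (checkPointF cert) (nat_lit 159525) (nat_lit 25) = true := by decide +kernel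
theorem chkP_159550 : allRangeF (checkPointF cert) (nat_lit 159550) (nat_lit 25) = true := by decide +kernel
theorem chkP_159575 : allRangeF (checkPointF cert) (nat_lit 159575) (nat_lit 25) = true := by decide +kernel
theorem chkP_159600 : allRangeF (checkPointF cert) (nat_lit 159600) (nat_lit 25) = true := by decide +kernel
theorem chkP_159625 : allRangeF (checkPointF cert) (nat_lit 159625) (nat_lit 25) = true := by decide +kernel
theorem chkP_159650 : allRangeF (checkPointF cert) (nat_lit 159650) (nat_lit 25) = true := by decide +kernel
theorem chkP_159675 : allRangeF (checkPointF cert) (nat_lit 159675) (nat_lit 25) = true := by decide +kernel
theorem chkP_159700 : allRangeF (checkPointF cert) (nat_lit 159700) (nat_lit 25) = true := by decide +kernel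
theorem chkP_159725 : allRangeF (checkPointF cert) (nat_lit 159725) (nat_lit 25) = true := by decide +kernel
theorem chkP_159750 : allRangeF (checkPointF cert) (nat_lit 159750) (nat_lit 25) = true := by decide +kernel
theorem chkP_159775 : allRangeF (checkPointF cert) (nat_lit 159775) (nat_lit 25) = true := by decide +kernel
theorem chkP_159800 : allRangeF (checkPointF cert) (nat_lit 159800) (nat_lit 25) = true := by decide +kernel
theorem chkP_159825 : allRangeF (checkPointF cert) (nat_lit 159825) (nat_lit 25) = true := by decide +kernel
theorem chkP_159850 : allRangeF (checkPointF cert) (nat_lit 159850) (nat_lit 25) = true := by decide +kernel
theorem chkP_159875 : allRangeF (checkPointF cert) (nat_lit 159875) (nat_lit 25) = true := by decide +kernel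
theorem chkP_159900 : allRangeF (checkPointF cert) (nat_lit 159900) (nat_lit 25) = true := by decide +kernel
theorem chkP_159925 : allRangeF (checkPointF cert) (nat_lit 159925) (nat_lit 25) = true := by decide +kernel
theorem chkP_159950 : allRangeF (checkPointF cert) (nat_lit 159950) (nat_lit 25) = true := by decide +kernel
theorem chkP_159975 : allRangeF (checkPointF cert) (nat_lit 159975) (nat_lit 25) = true := by decide +kernel
theorem chkP_160000 : allRangeF (checkPointF cert) (nat_lit 160000) (nat_lit 25) = true := by decide +kernel
theorem chkP_160025 : allRangeF (checkPointF cert) (nat_lit 160025) (nat_lit 25) = true := by decide +kernel
theorem chkP_160050 : allRangeF (checkPointF cert) (nat_lit 160050) (nat_lit 25) = true := by decide +kernel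
theorem chkP_160075 : allRangeF (checkPointF cert) (nat_lit 160075) (nat_lit 25) = true := by decide +kernel
theorem chkP_160100 : allRangeF (checkPointF cert) (nat_lit 160100) (nat_lit 25) = true := by decide +kernel
theorem chkP_160125 : allRangeF (checkPointF cert) (nat_lit 160125) (nat_lit 25) = true := by decide +kernel
theorem chkP_160150 : allRangeF (checkPointF cert) (nat_lit 160150) (nat_lit 25) = true := by decide +kernel
theorem chkP_160175 : allRangeF (checkPointF cert) (nat_lit 160175) (nat_lit 25) = true := by decide +kernel
theorem chkP_160200 : allRangeF (checkPointF cert) (nat_lit 160200) (nat_lit 25) = true := by decide +kernel
theorem chkP_160225 : allRangeF (checkPointF cert) (nat_lit 160225) (nat_lit 25) = true := by decide +kernel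
theorem chkP_160250 : allRangeF (checkPointF cert) (nat_lit 160250) (nat_lit 25) = true := by decide +kernel
theorem chkP_160275 : allRangeF (checkPointF cert) (nat_lit 160275) (nat_lit 25) = true := by decide +kernel
theorem chkP_160300 : allRangeF (checkPointF cert) (nat_lit 160300) (nat_lit 25) = true := by decide +kernel
theorem chkP_160325 : allRangeF (checkPointF cert) (nat_lit 160325) (nat_lit 25) = true := by decide +kernel
theorem chkP_160350 : allRangeF (checkPointF cert) (nat_lit 160350) (nat_lit 25) = true := by decide +kernel
theorem chkP_160375 : allRangeF (checkPointF cert) (nat_lit 160375) (nat_lit 25) = true := by decide +kernel
theorem chkP_160400 : allRangeF (checkPointF cert) (nat_lit 160400) (nat_lit 25) = true := by decide +kernel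
theorem chkP_160425 : allRangeF (checkPointF cert) (nat_lit 160425) (nat_lit 25) = true := by decide +kernel
theorem chkP_160450 : allRangeF (checkPointF cert) (nat_lit 160450) (nat_lit 25) = true := by decide +kernel
theorem chkP_160475 : allRangeF (checkPointF cert) (nat_lit 160475) (nat_lit 25) = true := by decide +kernel
theorem chkP_160500 : allRangeF (checkPointF cert) (nat_lit 160500) (nat_lit 25) = true := by decide +kernel
theorem chkP_160525 : allRangeF (checkPointF cert) (nat_lit 160525) (nat_lit 25) = true := by decide +kernel
theorem chkP_160550 : allRangeF (checkPointF cert) (nat_lit 160550) (nat_lit 25) = true := by decide +kernel
theorem chkP_160575 : allRangeF (checkPointF cert) (nat_lit 160575) (nat_lit 25) = true := by decide +kernel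
theorem chkP_160600 : allRangeF (checkPointF cert) (nat_lit 160600) (nat_lit 25) = true := by decide +kernel
theorem chkP_160625 : allRangeF (checkPointF cert) (nat_lit 160625) (nat_lit 25) = true := by decide +kernel
theorem chkP_160650 : allRangeF (checkPointF cert) (nat_lit 160650) (nat_lit 25) = true := by decide +kernel
theorem chkP_160675 : allRangeF (checkPointF cert) (nat_lit 160675) (nat_lit 25) = true := by decide +kernel
theorem chkP_160700 : allRangeF (checkPointF cert) (nat_lit 160700) (nat_lit 25) = true := by decide +kernel
theorem chkP_160725 : allRangeF (checkPointF cert) (nat_lit 160725) (nat_lit 25) = true := by decide +kernel
theorem chkP_160750 : allRangeF (checkPointF cert) (nat_lit 160750) (nat_lit 25) = true := by decide +kernel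
theorem chkP_160775 : allRangeF (checkPointF cert) (nat_lit 160775) (nat_lit 25) = true := by decide +kernel
theorem chkP_160800 : allRangeF (checkPointF cert) (nat_lit 160800) (nat_lit 25) = true := by decide +kernel
theorem chkP_160825 : allRangeF (checkPointF cert) (nat_lit 160825) (nat_lit 25) = true := by decide +kernel
theorem chkP_160850 : allRangeF (checkPointF cert) (nat_lit 160850) (nat_lit 25) = true := by decide +kernel
theorem chkP_160875 : allRangeF (checkPointF cert) (nat_lit 160875) (nat_lit 25) = true := by decide +kernel
theorem chkP_160900 : allRangeF (checkPointF cert) (nat_lit 160900) (nat_lit 25) = true := by decide +kernel
theorem chkP_160925 : allRangeF (checkPointF cert) (nat_lit 160925) (nat_lit 25) = true := by decide +kernel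
theorem chkP_160950 : allRangeF (checkPointF cert) (nat_lit 160950) (nat_lit 25) = true := by decide +kernel
theorem chkP_160975 : allRangeF (checkPointF cert) (nat_lit 160975) (nat_lit 25) = true := by decide +kernel
theorem chkP_161000 : allRangeF (checkPointF cert) (nat_lit 161000) (nat_lit 25) = true := by decide +kernel
theorem chkP_161025 : allRangeF (checkPointF cert) (nat_lit 161025) (nat_lit 25) = true := by decide +kernel
theorem chkP_161050 : allRangeF (checkPointF cert) (nat_lit 161050) (nat_lit 25) = true := by decide +kernel
theorem chkP_161075 : allRangeF (checkPointF cert) (nat_lit 161075) (nat_lit 25) = true := by decide +kernel
theorem chkP_161100 : allRangeF (checkPointF cert) (nat_lit 161100) (nat_lit 25) = true := by decide +kernel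
theorem chkP_161125 : allRangeF (checkPointF cert) (nat_lit 161125) (nat_lit 25) = true := by decide +kernel
theorem chkP_161150 : allRangeF (checkPointF cert) (nat_lit 161150) (nat_lit 25) = true := by decide +kernel

theorem ptsRange_20 : ∀ i, 153500 ≤ i → i < 161175 → checkPoint cert i = true := by
  intro i hlo hhi
  rcases Nat.lt_or_ge i 157325 with h1 | h1
  · skip
    rcases Nat.lt_or_ge i 155400 with h2 | h2
    · skip
      rcases Nat.lt_or_ge i 154450 with h3 | h3
      · skip
        rcases Nat.lt_or_ge i 153975 with h4 | h4
        · skip
          rcases Nat.lt_or_ge i 153725 with h5 | h5
          · skip
            rcases Nat.lt_or_ge i 153600 with h6 | h6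
            · skip
              rcases Nat.lt_or_ge i 153550 with h7 | h7
              · skip
                rcases Nat.lt_or_ge i 153525 with h8 | h8
                · skip
                  exact allRangeF_sound _ _ (checkPointF_eq cert) 153500 25 chkP_153500 i (by omega) (by omega)
                · skip
                  exact allRangeF_sound _ _ (checkPointF_eq cert) 153525 25 chkP_153525 i (by omega) (by omega)
              · skip
                rcases Nat.lt_or_ge i 153575 with h8 | h8
                · skip
                  exact allRangeF_sound _ _ (checkPointF_eq cert) 153550 25 chkP_153550 i (by omega) (by omega)
                · skip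
                  exact allRangeF_sound _ _ (checkPointF_eq cert) 153575 25 chkP_153575 i (by omega) (by omega)
            · skip
              rcases Nat.lt_or_ge i 153650 with h7 | h7
              · skip
                rcases Nat.lt_or_ge i 153625 with h8 | h8
                · skip
                  exact allRangeF_sound _ _ (checkPointF_eq cert) 153600 25 chkP_153600 i (by omega) (by omega)
                · skip
                  exact allRangeF_sound _ _ (checkPointF_eq cert) 153625 25 chkP_153625 i (by omega) (by omega)
              · skip
                rcases Nat.lt_or_ge i 153675 with h8 | h8
                · skip
                  exact allRangeF_sound _ _ (checkPointF_eq cert) 153650 25 chkP_153650 i (by omega) (by omega)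
                · skip
                  rcases Nat.lt_or_ge i 153700 with h9 | h9
                  · skip
                    exact allRangeF_sound _ _ (checkPointF_eq cert) 153675 25 chkP_153675 i (by omega) (by omega)
                  · skip
                    exact allRangeF_sound _ _ (checkPointF_eq cert) 153700 25 chkP_153700 i (by omega) (by omega)
          · skip
            rcases Nat.lt_or_ge i 153850 with h6 | h6
            · skip
              rcases Nat.lt_or_ge i 153775 with h7 | h7
              · skip
                rcases Nat.lt_or_ge i 153750 with h8 | h8
                · skip
                  exact allRangeF_sound _ _ (checkPointF_eq cert) 153725 25 chkP_153725 i (by omega) (by omega)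
                · skip
                  exact allRangeF_sound _ _ (checkPointF_eq cert) 153750 25 chkP_153750 i (by omega) (by omega)
              · skip
                rcases Nat.lt_or_ge i 153800 with h8 | h8
                · skip
                  exact allRangeF_sound _ _ (checkPointF_eq cert) 153775 25 chkP_153775 i (by omega) (by omega)
                · skip
                  rcases Nat.lt_or_ge i 153825 with h9 | h9
                  · skip
                    exact allRangeF_sound _ _ (checkPointF_eq cert) 153800 25 chkP_153800 i (by omega) (by omega)
                  · skip
                    exact allRangeF_sound _ _ (checkPointF_eq cert) 153825 25 chkP_153825 i (by omega) (by omega)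
            · skip
              rcases Nat.lt_or_ge i 153900 with h7 | h7
              · skip
                rcases Nat.lt_or_ge i 153875 with h8 | h8
                · skip
                  exact allRangeF_sound _ _ (checkPointF_eq cert) 153850 25 chkP_153850 i (by omega) (by omega)
                · skip
                  exact allRangeF_sound _ _ (checkPointF_eq cert) 153875 25 chkP_153875 i (by omega) (by omega)
              · skip
                rcases Nat.lt_or_ge i 153925 with h8 | h8
                · skip
                  exact allRangeF_sound _ _ (checkPointF_eq cert) 153900 25 chkP_153900 i (by omega) (by omega)
                · skip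
                  rcases Nat.lt_or_ge i 153950 with h9 | h9
                  · skip
                    exact allRangeF_sound _ _ (checkPointF_eq cert) 153925 25 chkP_153925 i (by omega) (by omega)
                  · skip
                    exact allRangeF_sound _ _ (checkPointF_eq cert) 153950 25 chkP_153950 i (by omega) (by omega)
        · skip
          rcases Nat.lt_or_ge i 154200 with h5 | h5
          · skip
            rcases Nat.lt_or_ge i 154075 with h6 | h6
            · skip
              rcases Nat.lt_or_ge i 154025 with h7 | h7
              · skip
                rcases Nat.lt_or_ge i 154000 with h8 | h8
                · skip
                  exact allRangeF_sound _ _ (checkPointF_eq cert) 153975 25 chkP_153975 i (by omega) (by omega)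
                · skip
                  exact allRangeF_sound _ _ (checkPointF_eq cert) 154000 25 chkP_154000 i (by omega) (by omega)
              · skip
                rcases Nat.lt_or_ge i 154050 with h8 | h8
                · skip
                  exact allRangeF_sound _ _ (checkPointF_eq cert) 154025 25 chkP_154025 i (by omega) (by omega)
                · skip
                  exact allRangeF_sound _ _ (checkPointF_eq cert) 154050 25 chkP_154050 i (by omega) (by omega)
            · skip
              rcases Nat.lt_or_ge i 154125 with h7 | h7
              · skip
                rcases Nat.lt_or_ge i 154100 with h8 | h8
                · skip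
                  exact allRangeF_sound _ _ (checkPointF_eq cert) 154075 25 chkP_154075 i (by omega) (by omega)
                · skip
                  exact allRangeF_sound _ _ (checkPointF_eq cert) 154100 25 chkP_154100 i (by omega) (by omega)
              · skip
                rcases Nat.lt_or_ge i 154150 with h8 | h8
                · skip
                  exact allRangeF_sound _ _ (checkPointF_eq cert) 154125 25 chkP_154125 i (by omega) (by omega)
                · skip
                  rcases Nat.lt_or_ge i 154175 with h9 | h9
                  · skip
                    exact allRangeF_sound _ _ (checkPointF_eq cert) 154150 25 chkP_154150 i (by omega) (by omega)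
                  · skip
                    exact allRangeF_sound _ _ (checkPointF_eq cert) 154175 25 chkP_154175 i (by omega) (by omega)
          · skip
            rcases Nat.lt_or_ge i 154325 with h6 | h6
            · skip
              rcases Nat.lt_or_ge i 154250 with h7 | h7
              · skip
                rcases Nat.lt_or_ge i 154225 with h8 | h8
                · skip
                  exact allRangeF_sound _ _ (checkPointF_eq cert) 154200 25 chkP_154200 i (by omega) (by omega)
                · skip
                  exact allRangeF_sound _ _ (checkPointF_eq cert) 154225 25 chkP_154225 i (by omega) (by omega)
              · skip
                rcases Nat.lt_or_ge i 154275 with h8 | h8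
                · skip
                  exact allRangeF_sound _ _ (checkPointF_eq cert) 154250 25 chkP_154250 i (by omega) (by omega)
                · skip
                  rcases Nat.lt_or_ge i 154300 with h9 | h9
                  · skip
                    exact allRangeF_sound _ _ (checkPointF_eq cert) 154275 25 chkP_154275 i (by omega) (by omega)
                  · skip
                    exact allRangeF_sound _ _ (checkPointF_eq cert) 154300 25 chkP_154300 i (by omega) (by omega)
            · skip
              rcases Nat.lt_or_ge i 154375 with h7 | h7
              · skip
                rcases Nat.lt_or_ge i 154350 with h8 | h8
                · skip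
                  exact allRangeF_sound _ _ (checkPointF_eq cert) 154325 25 chkP_154325 i (by omega) (by omega)
                · skip
                  exact allRangeF_sound _ _ (checkPointF_eq cert) 154350 25 chkP_154350 i (by omega) (by omega)
              · skip
                rcases Nat.lt_or_ge i 154400 with h8 | h8
                · skip
                  exact allRangeF_sound _ _ (checkPointF_eq cert) 154375 25 chkP_154375 i (by omega) (by omega)
                · skip
                  rcases Nat.lt_or_ge i 154425 with h9 | h9
                  · skip
                    exact allRangeF_sound _ _ (checkPointF_eq cert) 154400 25 chkP_154400 i (by omega) (by omega)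
                  · skip
                    exact allRangeF_sound _ _ (checkPointF_eq cert) 154425 25 chkP_154425 i (by omega) (by omega)
      · skip
        rcases Nat.lt_or_ge i 154925 with h4 | h4
        · skip
          rcases Nat.lt_or_ge i 154675 with h5 | h5
          · skip
            rcases Nat.lt_or_ge i 154550 with h6 | h6
            · skip
              rcases Nat.lt_or_ge i 154500 with h7 | h7
              · skip
                rcases Nat.lt_or_ge i 154475 with h8 | h8
                · skip
                  exact allRangeF_sound _ _ (checkPointF_eq cert) 154450 25 chkP_154450 i (by omega) (by omega)
                · skip
                  exact allRangeF_sound _ _ (checkPointF_eq cert) 154475 25 chkP_154475 i (by omega) (by omega)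
              · skip
                rcases Nat.lt_or_ge i 154525 with h8 | h8
                · skip
                  exact allRangeF_sound _ _ (checkPointF_eq cert) 154500 25 chkP_154500 i (by omega) (by omega)
                · skip
                  exact allRangeF_sound _ _ (checkPointF_eq cert) 154525 25 chkP_154525 i (by omega) (by omega)
            · skip
              rcases Nat.lt_or_ge i 154600 with h7 | h7
              · skip
                rcases Nat.lt_or_ge i 154575 with h8 | h8
                · skip
                  exact allRangeF_sound _ _ (checkPointF_eq cert) 154550 25 chkP_154550 i (by omega) (by omega)
                · skip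
                  exact allRangeF_sound _ _ (checkPointF_eq cert) 154575 25 chkP_154575 i (by omega) (by omega)
              · skip
                rcases Nat.lt_or_ge i 154625 with h8 | h8
                · skip
                  exact allRangeF_sound _ _ (checkPointF_eq cert) 154600 25 chkP_154600 i (by omega) (by omega)
                · skip
                  rcases Nat.lt_or_ge i 154650 with h9 | h9
                  · skip
                    exact allRangeF_sound _ _ (checkPointF_eq cert) 154625 25 chkP_154625 i (by omega) (by omega)
                  · skip
                    exact allRangeF_sound _ _ (checkPointF_eq cert) 154650 25 chkP_154650 i (by omega) (by omega)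
          · skip
            rcases Nat.lt_or_ge i 154800 with h6 | h6
            · skip
              rcases Nat.lt_or_ge i 154725 with h7 | h7
              · skip
                rcases Nat.lt_or_ge i 154700 with h8 | h8
                · skip
                  exact allRangeF_sound _ _ (checkPointF_eq cert) 154675 25 chkP_154675 i (by omega) (by omega)
                · skip
                  exact allRangeF_sound _ _ (checkPointF_eq cert) 154700 25 chkP_154700 i (by omega) (by omega)
              · skip
                rcases Nat.lt_or_ge i 154750 with h8 | h8
                · skip
                  exact allRangeF_sound _ _ (checkPointF_eq cert) 154725 25 chkP_154725 i (by omega) (by omega)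
                · skip
                  rcases Nat.lt_or_ge i 154775 with h9 | h9
                  · skip
                    exact allRangeF_sound _ _ (checkPointF_eq cert) 154750 25 chkP_154750 i (by omega) (by omega)
                  · skip
                    exact allRangeF_sound _ _ (checkPointF_eq cert) 154775 25 chkP_154775 i (by omega) (by omega)
            · skip
              rcases Nat.lt_or_ge i 154850 with h7 | h7
              · skip
                rcases Nat.lt_or_ge i 154825 with h8 | h8
                · skip
                  exact allRangeF_sound _ _ (checkPointF_eq cert) 154800 25 chkP_154800 i (by omega) (by omega)
                · skip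
                  exact allRangeF_sound _ _ (checkPointF_eq cert) 154825 25 chkP_154825 i (by omega) (by omega)
              · skip
                rcases Nat.lt_or_ge i 154875 with h8 | h8
                · skip
                  exact allRangeF_sound _ _ (checkPointF_eq cert) 154850 25 chkP_154850 i (by omega) (by omega)
                · skip
                  rcases Nat.lt_or_ge i 154900 with h9 | h9
                  · skip
                    exact allRangeF_sound _ _ (checkPointF_eq cert) 154875 25 chkP_154875 i (by omega) (by omega)
                  · skip
                    exact allRangeF_sound _ _ (checkPointF_eq cert) 154900 25 chkP_154900 i (by omega) (by omega)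
        · skip
          rcases Nat.lt_or_ge i 155150 with h5 | h5
          · skip
            rcases Nat.lt_or_ge i 155025 with h6 | h6
            · skip
              rcases Nat.lt_or_ge i 154975 with h7 | h7
              · skip
                rcases Nat.lt_or_ge i 154950 with h8 | h8
                · skip
                  exact allRangeF_sound _ _ (checkPointF_eq cert) 154925 25 chkP_154925 i (by omega) (by omega)
                · skip
                  exact allRangeF_sound _ _ (checkPointF_eq cert) 154950 25 chkP_154950 i (by omega) (by omega)
              · skip
                rcases Nat.lt_or_ge i 155000 with h8 | h8
                · skip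
                  exact allRangeF_sound _ _ (checkPointF_eq cert) 154975 25 chkP_154975 i (by omega) (by omega)
                · skip
                  exact allRangeF_sound _ _ (checkPointF_eq cert) 155000 25 chkP_155000 i (by omega) (by omega)
            · skip
              rcases Nat.lt_or_ge i 155075 with h7 | h7
              · skip
                rcases Nat.lt_or_ge i 155050 with h8 | h8
                · skip
                  exact allRangeF_sound _ _ (checkPointF_eq cert) 155025 25 chkP_155025 i (by omega) (by omega)
                · skip
                  exact allRangeF_sound _ _ (checkPointF_eq cert) 155050 25 chkP_155050 i (by omega) (by omega)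
              · skip
                rcases Nat.lt_or_ge i 155100 with h8 | h8
                · skip
                  exact allRangeF_sound _ _ (checkPointF_eq cert) 155075 25 chkP_155075 i (by omega) (by omega)
                · skip
                  rcases Nat.lt_or_ge i 155125 with h9 | h9
                  · skip
                    exact allRangeF_sound _ _ (checkPointF_eq cert) 155100 25 chkP_155100 i (by omega) (by omega)
                  · skip
                    exact allRangeF_sound _ _ (checkPointF_eq cert) 155125 25 chkP_155125 i (by omega) (by omega)
          · skip
            rcases Nat.lt_or_ge i 155275 with h6 | h6
            · skip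
              rcases Nat.lt_or_ge i 155200 with h7 | h7
              · skip
                rcases Nat.lt_or_ge i 155175 with h8 | h8
                · skip
                  exact allRangeF_sound _ _ (checkPointF_eq cert) 155150 25 chkP_155150 i (by omega) (by omega)
                · skip
                  exact allRangeF_sound _ _ (checkPointF_eq cert) 155175 25 chkP_155175 i (by omega) (by omega)
              · skip
                rcases Nat.lt_or_ge i 155225 with h8 | h8
                · skip
                  exact allRangeF_sound _ _ (checkPointF_eq cert) 155200 25 chkP_155200 i (by omega) (by omega)
                · skip
                  rcases Nat.lt_or_ge i 155250 with h9 | h9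
                  · skip
                    exact allRangeF_sound _ _ (checkPointF_eq cert) 155225 25 chkP_155225 i (by omega) (by omega)
                  · skip
                    exact allRangeF_sound _ _ (checkPointF_eq cert) 155250 25 chkP_155250 i (by omega) (by omega)
            · skip
              rcases Nat.lt_or_ge i 155325 with h7 | h7
              · skip
                rcases Nat.lt_or_ge i 155300 with h8 | h8
                · skip
                  exact allRangeF_sound _ _ (checkPointF_eq cert) 155275 25 chkP_155275 i (by omega) (by omega)
                · skip
                  exact allRangeF_sound _ _ (checkPointF_eq cert) 155300 25 chkP_155300 i (by omega) (by omega)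
              · skip
                rcases Nat.lt_or_ge i 155350 with h8 | h8
                · skip
                  exact allRangeF_sound _ _ (checkPointF_eq cert) 155325 25 chkP_155325 i (by omega) (by omega)
                · skip
                  rcases Nat.lt_or_ge i 155375 with h9 | h9
                  · skip
                    exact allRangeF_sound _ _ (checkPointF_eq cert) 155350 25 chkP_155350 i (by omega) (by omega)
                  · skip
                    exact allRangeF_sound _ _ (checkPointF_eq cert) 155375 25 chkP_155375 i (by omega) (by omega)
    · skip
      rcases Nat.lt_or_ge i 156350 with h3 | h3
      · skip
        rcases Nat.lt_or_ge i 155875 with h4 | h4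
        · skip
          rcases Nat.lt_or_ge i 155625 with h5 | h5
          · skip
            rcases Nat.lt_or_ge i 155500 with h6 | h6
            · skip
              rcases Nat.lt_or_ge i 155450 with h7 | h7
              · skip
                rcases Nat.lt_or_ge i 155425 with h8 | h8
                · skip
                  exact allRangeF_sound _ _ (checkPointF_eq cert) 155400 25 chkP_155400 i (by omega) (by omega)
                · skip
                  exact allRangeF_sound _ _ (checkPointF_eq cert) 155425 25 chkP_155425 i (by omega) (by omega)
              · skip
                rcases Nat.lt_or_ge i 155475 with h8 | h8
                · skip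
                  exact allRangeF_sound _ _ (checkPointF_eq cert) 155450 25 chkP_155450 i (by omega) (by omega)
                · skip
                  exact allRangeF_sound _ _ (checkPointF_eq cert) 155475 25 chkP_155475 i (by omega) (by omega)
            · skip
              rcases Nat.lt_or_ge i 155550 with h7 | h7
              · skip
                rcases Nat.lt_or_ge i 155525 with h8 | h8
                · skip
                  exact allRangeF_sound _ _ (checkPointF_eq cert) 155500 25 chkP_155500 i (by omega) (by omega)
                · skip
                  exact allRangeF_sound _ _ (checkPointF_eq cert) 155525 25 chkP_155525 i (by omega) (by omega)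
              · skip
                rcases Nat.lt_or_ge i 155575 with h8 | h8
                · skip
                  exact allRangeF_sound _ _ (checkPointF_eq cert) 155550 25 chkP_155550 i (by omega) (by omega)
                · skip
                  rcases Nat.lt_or_ge i 155600 with h9 | h9
                  · skip
                    exact allRangeF_sound _ _ (checkPointF_eq cert) 155575 25 chkP_155575 i (by omega) (by omega)
                  · skip
                    exact allRangeF_sound _ _ (checkPointF_eq cert) 155600 25 chkP_155600 i (by omega) (by omega)
          · skip
            rcases Nat.lt_or_ge i 155750 with h6 | h6
            · skip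
              rcases Nat.lt_or_ge i 155675 with h7 | h7
              · skip
                rcases Nat.lt_or_ge i 155650 with h8 | h8
                · skip
                  exact allRangeF_sound _ _ (checkPointF_eq cert) 155625 25 chkP_155625 i (by omega) (by omega)
                · skip
                  exact allRangeF_sound _ _ (checkPointF_eq cert) 155650 25 chkP_155650 i (by omega) (by omega)
              · skip
                rcases Nat.lt_or_ge i 155700 with h8 | h8
                · skip
                  exact allRangeF_sound _ _ (checkPointF_eq cert) 155675 25 chkP_155675 i (by omega) (by omega)
                · skip
                  rcases Nat.lt_or_ge i 155725 with h9 | h9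
                  · skip
                    exact allRangeF_sound _ _ (checkPointF_eq cert) 155700 25 chkP_155700 i (by omega) (by omega)
                  · skip
                    exact allRangeF_sound _ _ (checkPointF_eq cert) 155725 25 chkP_155725 i (by omega) (by omega)
            · skip
              rcases Nat.lt_or_ge i 155800 with h7 | h7
              · skip
                rcases Nat.lt_or_ge i 155775 with h8 | h8
                · skip
                  exact allRangeF_sound _ _ (checkPointF_eq cert) 155750 25 chkP_155750 i (by omega) (by omega)
                · skip
                  exact allRangeF_sound _ _ (checkPointF_eq cert) 155775 25 chkP_155775 i (by omega) (by omega)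
              · skip
                rcases Nat.lt_or_ge i 155825 with h8 | h8
                · skip
                  exact allRangeF_sound _ _ (checkPointF_eq cert) 155800 25 chkP_155800 i (by omega) (by omega)
                · skip
                  rcases Nat.lt_or_ge i 155850 with h9 | h9
                  · skip
                    exact allRangeF_sound _ _ (checkPointF_eq cert) 155825 25 chkP_155825 i (by omega) (by omega)
                  · skip
                    exact allRangeF_sound _ _ (checkPointF_eq cert) 155850 25 chkP_155850 i (by omega) (by omega)
        · skip
          rcases Nat.lt_or_ge i 156100 with h5 | h5
          · skip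
            rcases Nat.lt_or_ge i 155975 with h6 | h6
            · skip
              rcases Nat.lt_or_ge i 155925 with h7 | h7
              · skip
                rcases Nat.lt_or_ge i 155900 with h8 | h8
                · skip
                  exact allRangeF_sound _ _ (checkPointF_eq cert) 155875 25 chkP_155875 i (by omega) (by omega)
                · skip
                  exact allRangeF_sound _ _ (checkPointF_eq cert) 155900 25 chkP_155900 i (by omega) (by omega)
              · skip
                rcases Nat.lt_or_ge i 155950 with h8 | h8
                · skip
                  exact allRangeF_sound _ _ (checkPointF_eq cert) 155925 25 chkP_155925 i (by omega) (by omega)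
                · skip
                  exact allRangeF_sound _ _ (checkPointF_eq cert) 155950 25 chkP_155950 i (by omega) (by omega)
            · skip
              rcases Nat.lt_or_ge i 156025 with h7 | h7
              · skip
                rcases Nat.lt_or_ge i 156000 with h8 | h8
                · skip
                  exact allRangeF_sound _ _ (checkPointF_eq cert) 155975 25 chkP_155975 i (by omega) (by omega)
                · skip
                  exact allRangeF_sound _ _ (checkPointF_eq cert) 156000 25 chkP_156000 i (by omega) (by omega)
              · skip
                rcases Nat.lt_or_ge i 156050 with h8 | h8
                · skip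
                  exact allRangeF_sound _ _ (checkPointF_eq cert) 156025 25 chkP_156025 i (by omega) (by omega)
                · skip
                  rcases Nat.lt_or_ge i 156075 with h9 | h9
                  · skip
                    exact allRangeF_sound _ _ (checkPointF_eq cert) 156050 25 chkP_156050 i (by omega) (by omega)
                  · skip
                    exact allRangeF_sound _ _ (checkPointF_eq cert) 156075 25 chkP_156075 i (by omega) (by omega)
          · skip
            rcases Nat.lt_or_ge i 156225 with h6 | h6
            · skip
              rcases Nat.lt_or_ge i 156150 with h7 | h7
              · skip
                rcases Nat.lt_or_ge i 156125 with h8 | h8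
                · skip
                  exact allRangeF_sound _ _ (checkPointF_eq cert) 156100 25 chkP_156100 i (by omega) (by omega)
                · skip
                  exact allRangeF_sound _ _ (checkPointF_eq cert) 156125 25 chkP_156125 i (by omega) (by omega)
              · skip
                rcases Nat.lt_or_ge i 156175 with h8 | h8
                · skip
                  exact allRangeF_sound _ _ (checkPointF_eq cert) 156150 25 chkP_156150 i (by omega) (by omega)
                · skip
                  rcases Nat.lt_or_ge i 156200 with h9 | h9
                  · skip
                    exact allRangeF_sound _ _ (checkPointF_eq cert) 156175 25 chkP_156175 i (by omega) (by omega)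
                  · skip
                    exact allRangeF_sound _ _ (checkPointF_eq cert) 156200 25 chkP_156200 i (by omega) (by omega)
            · skip
              rcases Nat.lt_or_ge i 156275 with h7 | h7
              · skip
                rcases Nat.lt_or_ge i 156250 with h8 | h8
                · skip
                  exact allRangeF_sound _ _ (checkPointF_eq cert) 156225 25 chkP_156225 i (by omega) (by omega)
                · skip
                  exact allRangeF_sound _ _ (checkPointF_eq cert) 156250 25 chkP_156250 i (by omega) (by omega)
              · skip
                rcases Nat.lt_or_ge i 156300 with h8 | h8
                · skip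
                  exact allRangeF_sound _ _ (checkPointF_eq cert) 156275 25 chkP_156275 i (by omega) (by omega)
                · skip
                  rcases Nat.lt_or_ge i 156325 with h9 | h9
                  · skip
                    exact allRangeF_sound _ _ (checkPointF_eq cert) 156300 25 chkP_156300 i (by omega) (by omega)
                  · skip
                    exact allRangeF_sound _ _ (checkPointF_eq cert) 156325 25 chkP_156325 i (by omega) (by omega)
      · skip
        rcases Nat.lt_or_ge i 156825 with h4 | h4
        · skip
          rcases Nat.lt_or_ge i 156575 with h5 | h5
          · skip
            rcases Nat.lt_or_ge i 156450 with h6 | h6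
            · skip
              rcases Nat.lt_or_ge i 156400 with h7 | h7
              · skip
                rcases Nat.lt_or_ge i 156375 with h8 | h8
                · skip
                  exact allRangeF_sound _ _ (checkPointF_eq cert) 156350 25 chkP_156350 i (by omega) (by omega)
                · skip
                  exact allRangeF_sound _ _ (checkPointF_eq cert) 156375 25 chkP_156375 i (by omega) (by omega)
              · skip
                rcases Nat.lt_or_ge i 156425 with h8 | h8
                · skip
                  exact allRangeF_sound _ _ (checkPointF_eq cert) 156400 25 chkP_156400 i (by omega) (by omega)
                · skip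
                  exact allRangeF_sound _ _ (checkPointF_eq cert) 156425 25 chkP_156425 i (by omega) (by omega)
            · skip
              rcases Nat.lt_or_ge i 156500 with h7 | h7
              · skip
                rcases Nat.lt_or_ge i 156475 with h8 | h8
                · skip
                  exact allRangeF_sound _ _ (checkPointF_eq cert) 156450 25 chkP_156450 i (by omega) (by omega)
                · skip
                  exact allRangeF_sound _ _ (checkPointF_eq cert) 156475 25 chkP_156475 i (by omega) (by omega)
              · skip
                rcases Nat.lt_or_ge i 156525 with h8 | h8
                · skip
                  exact allRangeF_sound _ _ (checkPointF_eq cert) 156500 25 chkP_156500 i (by omega) (by omega)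
                · skip
                  rcases Nat.lt_or_ge i 156550 with h9 | h9
                  · skip
                    exact allRangeF_sound _ _ (checkPointF_eq cert) 156525 25 chkP_156525 i (by omega) (by omega)
                  · skip
                    exact allRangeF_sound _ _ (checkPointF_eq cert) 156550 25 chkP_156550 i (by omega) (by omega)
          · skip
            rcases Nat.lt_or_ge i 156700 with h6 | h6
            · skip
              rcases Nat.lt_or_ge i 156625 with h7 | h7
              · skip
                rcases Nat.lt_or_ge i 156600 with h8 | h8
                · skip
                  exact allRangeF_sound _ _ (checkPointF_eq cert) 156575 25 chkP_156575 i (by omega) (by omega)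
                · skip
                  exact allRangeF_sound _ _ (checkPointF_eq cert) 156600 25 chkP_156600 i (by omega) (by omega)
              · skip
                rcases Nat.lt_or_ge i 156650 with h8 | h8
                · skip
                  exact allRangeF_sound _ _ (checkPointF_eq cert) 156625 25 chkP_156625 i (by omega) (by omega)
                · skip
                  rcases Nat.lt_or_ge i 156675 with h9 | h9
                  · skip
                    exact allRangeF_sound _ _ (checkPointF_eq cert) 156650 25 chkP_156650 i (by omega) (by omega)
                  · skip
                    exact allRangeF_sound _ _ (checkPointF_eq cert) 156675 25 chkP_156675 i (by omega) (by omega)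
            · skip
              rcases Nat.lt_or_ge i 156750 with h7 | h7
              · skip
                rcases Nat.lt_or_ge i 156725 with h8 | h8
                · skip
                  exact allRangeF_sound _ _ (checkPointF_eq cert) 156700 25 chkP_156700 i (by omega) (by omega)
                · skip
                  exact allRangeF_sound _ _ (checkPointF_eq cert) 156725 25 chkP_156725 i (by omega) (by omega)
              · skip
                rcases Nat.lt_or_ge i 156775 with h8 | h8
                · skip
                  exact allRangeF_sound _ _ (checkPointF_eq cert) 156750 25 chkP_156750 i (by omega) (by omega)
                · skip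
                  rcases Nat.lt_or_ge i 156800 with h9 | h9
                  · skip
                    exact allRangeF_sound _ _ (checkPointF_eq cert) 156775 25 chkP_156775 i (by omega) (by omega)
                  · skip
                    exact allRangeF_sound _ _ (checkPointF_eq cert) 156800 25 chkP_156800 i (by omega) (by omega)
        · skip
          rcases Nat.lt_or_ge i 157075 with h5 | h5
          · skip
            rcases Nat.lt_or_ge i 156950 with h6 | h6
            · skip
              rcases Nat.lt_or_ge i 156875 with h7 | h7
              · skip
                rcases Nat.lt_or_ge i 156850 with h8 | h8
                · skip
                  exact allRangeF_sound _ _ (checkPointF_eq cert) 156825 25 chkP_156825 i (by omega) (by omega)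
                · skip
                  exact allRangeF_sound _ _ (checkPointF_eq cert) 156850 25 chkP_156850 i (by omega) (by omega)
              · skip
                rcases Nat.lt_or_ge i 156900 with h8 | h8
                · skip
                  exact allRangeF_sound _ _ (checkPointF_eq cert) 156875 25 chkP_156875 i (by omega) (by omega)
                · skip
                  rcases Nat.lt_or_ge i 156925 with h9 | h9
                  · skip
                    exact allRangeF_sound _ _ (checkPointF_eq cert) 156900 25 chkP_156900 i (by omega) (by omega)
                  · skip
                    exact allRangeF_sound _ _ (checkPointF_eq cert) 156925 25 chkP_156925 i (by omega) (by omega)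
            · skip
              rcases Nat.lt_or_ge i 157000 with h7 | h7
              · skip
                rcases Nat.lt_or_ge i 156975 with h8 | h8
                · skip
                  exact allRangeF_sound _ _ (checkPointF_eq cert) 156950 25 chkP_156950 i (by omega) (by omega)
                · skip
                  exact allRangeF_sound _ _ (checkPointF_eq cert) 156975 25 chkP_156975 i (by omega) (by omega)
              · skip
                rcases Nat.lt_or_ge i 157025 with h8 | h8
                · skip
                  exact allRangeF_sound _ _ (checkPointF_eq cert) 157000 25 chkP_157000 i (by omega) (by omega)
                · skip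
                  rcases Nat.lt_or_ge i 157050 with h9 | h9
                  · skip
                    exact allRangeF_sound _ _ (checkPointF_eq cert) 157025 25 chkP_157025 i (by omega) (by omega)
                  · skip
                    exact allRangeF_sound _ _ (checkPointF_eq cert) 157050 25 chkP_157050 i (by omega) (by omega)
          · skip
            rcases Nat.lt_or_ge i 157200 with h6 | h6
            · skip
              rcases Nat.lt_or_ge i 157125 with h7 | h7
              · skip
                rcases Nat.lt_or_ge i 157100 with h8 | h8
                · skip
                  exact allRangeF_sound _ _ (checkPointF_eq cert) 157075 25 chkP_157075 i (by omega) (by omega)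
                · skip
                  exact allRangeF_sound _ _ (checkPointF_eq cert) 157100 25 chkP_157100 i (by omega) (by omega)
              · skip
                rcases Nat.lt_or_ge i 157150 with h8 | h8
                · skip
                  exact allRangeF_sound _ _ (checkPointF_eq cert) 157125 25 chkP_157125 i (by omega) (by omega)
                · skip
                  rcases Nat.lt_or_ge i 157175 with h9 | h9
                  · skip
                    exact allRangeF_sound _ _ (checkPointF_eq cert) 157150 25 chkP_157150 i (by omega) (by omega)
                  · skip
                    exact allRangeF_sound _ _ (checkPointF_eq cert) 157175 25 chkP_157175 i (by omega) (by omega)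
            · skip
              rcases Nat.lt_or_ge i 157250 with h7 | h7
              · skip
                rcases Nat.lt_or_ge i 157225 with h8 | h8
                · skip
                  exact allRangeF_sound _ _ (checkPointF_eq cert) 157200 25 chkP_157200 i (by omega) (by omega)
                · skip
                  exact allRangeF_sound _ _ (checkPointF_eq cert) 157225 25 chkP_157225 i (by omega) (by omega)
              · skip
                rcases Nat.lt_or_ge i 157275 with h8 | h8
                · skip
                  exact allRangeF_sound _ _ (checkPointF_eq cert) 157250 25 chkP_157250 i (by omega) (by omega)
                · skip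
                  rcases Nat.lt_or_ge i 157300 with h9 | h9
                  · skip
                    exact allRangeF_sound _ _ (checkPointF_eq cert) 157275 25 chkP_157275 i (by omega) (by omega)
                  · skip
                    exact allRangeF_sound _ _ (checkPointF_eq cert) 157300 25 chkP_157300 i (by omega) (by omega)
  · skip
    rcases Nat.lt_or_ge i 159250 with h2 | h2
    · skip
      rcases Nat.lt_or_ge i 158275 with h3 | h3
      · skip
        rcases Nat.lt_or_ge i 157800 with h4 | h4
        · skip
          rcases Nat.lt_or_ge i 157550 with h5 | h5
          · skip
            rcases Nat.lt_or_ge i 157425 with h6 | h6
            · skip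
              rcases Nat.lt_or_ge i 157375 with h7 | h7
              · skip
                rcases Nat.lt_or_ge i 157350 with h8 | h8
                · skip
                  exact allRangeF_sound _ _ (checkPointF_eq cert) 157325 25 chkP_157325 i (by omega) (by omega)
                · skip
                  exact allRangeF_sound _ _ (checkPointF_eq cert) 157350 25 chkP_157350 i (by omega) (by omega)
              · skip
                rcases Nat.lt_or_ge i 157400 with h8 | h8
                · skip
                  exact allRangeF_sound _ _ (checkPointF_eq cert) 157375 25 chkP_157375 i (by omega) (by omega)
                · skip
                  exact allRangeF_sound _ _ (checkPointF_eq cert) 157400 25 chkP_157400 i (by omega) (by omega)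
            · skip
              rcases Nat.lt_or_ge i 157475 with h7 | h7
              · skip
                rcases Nat.lt_or_ge i 157450 with h8 | h8
                · skip
                  exact allRangeF_sound _ _ (checkPointF_eq cert) 157425 25 chkP_157425 i (by omega) (by omega)
                · skip
                  exact allRangeF_sound _ _ (checkPointF_eq cert) 157450 25 chkP_157450 i (by omega) (by omega)
              · skip
                rcases Nat.lt_or_ge i 157500 with h8 | h8
                · skip
                  exact allRangeF_sound _ _ (checkPointF_eq cert) 157475 25 chkP_157475 i (by omega) (by omega)
                · skip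
                  rcases Nat.lt_or_ge i 157525 with h9 | h9
                  · skip
                    exact allRangeF_sound _ _ (checkPointF_eq cert) 157500 25 chkP_157500 i (by omega) (by omega)
                  · skip
                    exact allRangeF_sound _ _ (checkPointF_eq cert) 157525 25 chkP_157525 i (by omega) (by omega)
          · skip
            rcases Nat.lt_or_ge i 157675 with h6 | h6
            · skip
              rcases Nat.lt_or_ge i 157600 with h7 | h7
              · skip
                rcases Nat.lt_or_ge i 157575 with h8 | h8
                · skip
                  exact allRangeF_sound _ _ (checkPointF_eq cert) 157550 25 chkP_157550 i (by omega) (by omega)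
                · skip
                  exact allRangeF_sound _ _ (checkPointF_eq cert) 157575 25 chkP_157575 i (by omega) (by omega)
              · skip
                rcases Nat.lt_or_ge i 157625 with h8 | h8
                · skip
                  exact allRangeF_sound _ _ (checkPointF_eq cert) 157600 25 chkP_157600 i (by omega) (by omega)
                · skip
                  rcases Nat.lt_or_ge i 157650 with h9 | h9
                  · skip
                    exact allRangeF_sound _ _ (checkPointF_eq cert) 157625 25 chkP_157625 i (by omega) (by omega)
                  · skip
                    exact allRangeF_sound _ _ (checkPointF_eq cert) 157650 25 chkP_157650 i (by omega) (by omega)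
            · skip
              rcases Nat.lt_or_ge i 157725 with h7 | h7
              · skip
                rcases Nat.lt_or_ge i 157700 with h8 | h8
                · skip
                  exact allRangeF_sound _ _ (checkPointF_eq cert) 157675 25 chkP_157675 i (by omega) (by omega)
                · skip
                  exact allRangeF_sound _ _ (checkPointF_eq cert) 157700 25 chkP_157700 i (by omega) (by omega)
              · skip
                rcases Nat.lt_or_ge i 157750 with h8 | h8
                · skip
                  exact allRangeF_sound _ _ (checkPointF_eq cert) 157725 25 chkP_157725 i (by omega) (by omega)
                · skip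
                  rcases Nat.lt_or_ge i 157775 with h9 | h9
                  · skip
                    exact allRangeF_sound _ _ (checkPointF_eq cert) 157750 25 chkP_157750 i (by omega) (by omega)
                  · skip
                    exact allRangeF_sound _ _ (checkPointF_eq cert) 157775 25 chkP_157775 i (by omega) (by omega)
        · skip
          rcases Nat.lt_or_ge i 158025 with h5 | h5
          · skip
            rcases Nat.lt_or_ge i 157900 with h6 | h6
            · skip
              rcases Nat.lt_or_ge i 157850 with h7 | h7
              · skip
                rcases Nat.lt_or_ge i 157825 with h8 | h8
                · skip
                  exact allRangeF_sound _ _ (checkPointF_eq cert) 157800 25 chkP_157800 i (by omega) (by omega)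
                · skip
                  exact allRangeF_sound _ _ (checkPointF_eq cert) 157825 25 chkP_157825 i (by omega) (by omega)
              · skip
                rcases Nat.lt_or_ge i 157875 with h8 | h8
                · skip
                  exact allRangeF_sound _ _ (checkPointF_eq cert) 157850 25 chkP_157850 i (by omega) (by omega)
                · skip
                  exact allRangeF_sound _ _ (checkPointF_eq cert) 157875 25 chkP_157875 i (by omega) (by omega)
            · skip
              rcases Nat.lt_or_ge i 157950 with h7 | h7
              · skip
                rcases Nat.lt_or_ge i 157925 with h8 | h8
                · skip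
                  exact allRangeF_sound _ _ (checkPointF_eq cert) 157900 25 chkP_157900 i (by omega) (by omega)
                · skip
                  exact allRangeF_sound _ _ (checkPointF_eq cert) 157925 25 chkP_157925 i (by omega) (by omega)
              · skip
                rcases Nat.lt_or_ge i 157975 with h8 | h8
                · skip
                  exact allRangeF_sound _ _ (checkPointF_eq cert) 157950 25 chkP_157950 i (by omega) (by omega)
                · skip
                  rcases Nat.lt_or_ge i 158000 with h9 | h9
                  · skip
                    exact allRangeF_sound _ _ (checkPointF_eq cert) 157975 25 chkP_157975 i (by omega) (by omega)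
                  · skip
                    exact allRangeF_sound _ _ (checkPointF_eq cert) 158000 25 chkP_158000 i (by omega) (by omega)
          · skip
            rcases Nat.lt_or_ge i 158150 with h6 | h6
            · skip
              rcases Nat.lt_or_ge i 158075 with h7 | h7
              · skip
                rcases Nat.lt_or_ge i 158050 with h8 | h8
                · skip
                  exact allRangeF_sound _ _ (checkPointF_eq cert) 158025 25 chkP_158025 i (by omega) (by omega)
                · skip
                  exact allRangeF_sound _ _ (checkPointF_eq cert) 158050 25 chkP_158050 i (by omega) (by omega)
              · skip
                rcases Nat.lt_or_ge i 158100 with h8 | h8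
                · skip
                  exact allRangeF_sound _ _ (checkPointF_eq cert) 158075 25 chkP_158075 i (by omega) (by omega)
                · skip
                  rcases Nat.lt_or_ge i 158125 with h9 | h9
                  · skip
                    exact allRangeF_sound _ _ (checkPointF_eq cert) 158100 25 chkP_158100 i (by omega) (by omega)
                  · skip
                    exact allRangeF_sound _ _ (checkPointF_eq cert) 158125 25 chkP_158125 i (by omega) (by omega)
            · skip
              rcases Nat.lt_or_ge i 158200 with h7 | h7
              · skip
                rcases Nat.lt_or_ge i 158175 with h8 | h8
                · skip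
                  exact allRangeF_sound _ _ (checkPointF_eq cert) 158150 25 chkP_158150 i (by omega) (by omega)
                · skip
                  exact allRangeF_sound _ _ (checkPointF_eq cert) 158175 25 chkP_158175 i (by omega) (by omega)
              · skip
                rcases Nat.lt_or_ge i 158225 with h8 | h8
                · skip
                  exact allRangeF_sound _ _ (checkPointF_eq cert) 158200 25 chkP_158200 i (by omega) (by omega)
                · skip
                  rcases Nat.lt_or_ge i 158250 with h9 | h9
                  · skip
                    exact allRangeF_sound _ _ (checkPointF_eq cert) 158225 25 chkP_158225 i (by omega) (by omega)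
                  · skip
                    exact allRangeF_sound _ _ (checkPointF_eq cert) 158250 25 chkP_158250 i (by omega) (by omega)
      · skip
        rcases Nat.lt_or_ge i 158750 with h4 | h4
        · skip
          rcases Nat.lt_or_ge i 158500 with h5 | h5
          · skip
            rcases Nat.lt_or_ge i 158375 with h6 | h6
            · skip
              rcases Nat.lt_or_ge i 158325 with h7 | h7
              · skip
                rcases Nat.lt_or_ge i 158300 with h8 | h8
                · skip
                  exact allRangeF_sound _ _ (checkPointF_eq cert) 158275 25 chkP_158275 i (by omega) (by omega)
                · skip
                  exact allRangeF_sound _ _ (checkPointF_eq cert) 158300 25 chkP_158300 i (by omega) (by omega)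
              · skip
                rcases Nat.lt_or_ge i 158350 with h8 | h8
                · skip
                  exact allRangeF_sound _ _ (checkPointF_eq cert) 158325 25 chkP_158325 i (by omega) (by omega)
                · skip
                  exact allRangeF_sound _ _ (checkPointF_eq cert) 158350 25 chkP_158350 i (by omega) (by omega)
            · skip
              rcases Nat.lt_or_ge i 158425 with h7 | h7
              · skip
                rcases Nat.lt_or_ge i 158400 with h8 | h8
                · skip
                  exact allRangeF_sound _ _ (checkPointF_eq cert) 158375 25 chkP_158375 i (by omega) (by omega)
                · skip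
                  exact allRangeF_sound _ _ (checkPointF_eq cert) 158400 25 chkP_158400 i (by omega) (by omega)
              · skip
                rcases Nat.lt_or_ge i 158450 with h8 | h8
                · skip
                  exact allRangeF_sound _ _ (checkPointF_eq cert) 158425 25 chkP_158425 i (by omega) (by omega)
                · skip
                  rcases Nat.lt_or_ge i 158475 with h9 | h9
                  · skip
                    exact allRangeF_sound _ _ (checkPointF_eq cert) 158450 25 chkP_158450 i (by omega) (by omega)
                  · skip
                    exact allRangeF_sound _ _ (checkPointF_eq cert) 158475 25 chkP_158475 i (by omega) (by omega)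
          · skip
            rcases Nat.lt_or_ge i 158625 with h6 | h6
            · skip
              rcases Nat.lt_or_ge i 158550 with h7 | h7
              · skip
                rcases Nat.lt_or_ge i 158525 with h8 | h8
                · skip
                  exact allRangeF_sound _ _ (checkPointF_eq cert) 158500 25 chkP_158500 i (by omega) (by omega)
                · skip
                  exact allRangeF_sound _ _ (checkPointF_eq cert) 158525 25 chkP_158525 i (by omega) (by omega)
              · skip
                rcases Nat.lt_or_ge i 158575 with h8 | h8
                · skip
                  exact allRangeF_sound _ _ (checkPointF_eq cert) 158550 25 chkP_158550 i (by omega) (by omega)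
                · skip
                  rcases Nat.lt_or_ge i 158600 with h9 | h9
                  · skip
                    exact allRangeF_sound _ _ (checkPointF_eq cert) 158575 25 chkP_158575 i (by omega) (by omega)
                  · skip
                    exact allRangeF_sound _ _ (checkPointF_eq cert) 158600 25 chkP_158600 i (by omega) (by omega)
            · skip
              rcases Nat.lt_or_ge i 158675 with h7 | h7
              · skip
                rcases Nat.lt_or_ge i 158650 with h8 | h8
                · skip
                  exact allRangeF_sound _ _ (checkPointF_eq cert) 158625 25 chkP_158625 i (by omega) (by omega)
                · skip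
                  exact allRangeF_sound _ _ (checkPointF_eq cert) 158650 25 chkP_158650 i (by omega) (by omega)
              · skip
                rcases Nat.lt_or_ge i 158700 with h8 | h8
                · skip
                  exact allRangeF_sound _ _ (checkPointF_eq cert) 158675 25 chkP_158675 i (by omega) (by omega)
                · skip
                  rcases Nat.lt_or_ge i 158725 with h9 | h9
                  · skip
                    exact allRangeF_sound _ _ (checkPointF_eq cert) 158700 25 chkP_158700 i (by omega) (by omega)
                  · skip
                    exact allRangeF_sound _ _ (checkPointF_eq cert) 158725 25 chkP_158725 i (by omega) (by omega)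
        · skip
          rcases Nat.lt_or_ge i 159000 with h5 | h5
          · skip
            rcases Nat.lt_or_ge i 158875 with h6 | h6
            · skip
              rcases Nat.lt_or_ge i 158800 with h7 | h7
              · skip
                rcases Nat.lt_or_ge i 158775 with h8 | h8
                · skip
                  exact allRangeF_sound _ _ (checkPointF_eq cert) 158750 25 chkP_158750 i (by omega) (by omega)
                · skip
                  exact allRangeF_sound _ _ (checkPointF_eq cert) 158775 25 chkP_158775 i (by omega) (by omega)
              · skip
                rcases Nat.lt_or_ge i 158825 with h8 | h8
                · skip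
                  exact allRangeF_sound _ _ (checkPointF_eq cert) 158800 25 chkP_158800 i (by omega) (by omega)
                · skip
                  rcases Nat.lt_or_ge i 158850 with h9 | h9
                  · skip
                    exact allRangeF_sound _ _ (checkPointF_eq cert) 158825 25 chkP_158825 i (by omega) (by omega)
                  · skip
                    exact allRangeF_sound _ _ (checkPointF_eq cert) 158850 25 chkP_158850 i (by omega) (by omega)
            · skip
              rcases Nat.lt_or_ge i 158925 with h7 | h7
              · skip
                rcases Nat.lt_or_ge i 158900 with h8 | h8
                · skip
                  exact allRangeF_sound _ _ (checkPointF_eq cert) 158875 25 chkP_158875 i (by omega) (by omega)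
                · skip
                  exact allRangeF_sound _ _ (checkPointF_eq cert) 158900 25 chkP_158900 i (by omega) (by omega)
              · skip
                rcases Nat.lt_or_ge i 158950 with h8 | h8
                · skip
                  exact allRangeF_sound _ _ (checkPointF_eq cert) 158925 25 chkP_158925 i (by omega) (by omega)
                · skip
                  rcases Nat.lt_or_ge i 158975 with h9 | h9
                  · skip
                    exact allRangeF_sound _ _ (checkPointF_eq cert) 158950 25 chkP_158950 i (by omega) (by omega)
                  · skip
                    exact allRangeF_sound _ _ (checkPointF_eq cert) 158975 25 chkP_158975 i (by omega) (by omega)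
          · skip
            rcases Nat.lt_or_ge i 159125 with h6 | h6
            · skip
              rcases Nat.lt_or_ge i 159050 with h7 | h7
              · skip
                rcases Nat.lt_or_ge i 159025 with h8 | h8
                · skip
                  exact allRangeF_sound _ _ (checkPointF_eq cert) 159000 25 chkP_159000 i (by omega) (by omega)
                · skip
                  exact allRangeF_sound _ _ (checkPointF_eq cert) 159025 25 chkP_159025 i (by omega) (by omega)
              · skip
                rcases Nat.lt_or_ge i 159075 with h8 | h8
                · skip
                  exact allRangeF_sound _ _ (checkPointF_eq cert) 159050 25 chkP_159050 i (by omega) (by omega)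
                · skip
                  rcases Nat.lt_or_ge i 159100 with h9 | h9
                  · skip
                    exact allRangeF_sound _ _ (checkPointF_eq cert) 159075 25 chkP_159075 i (by omega) (by omega)
                  · skip
                    exact allRangeF_sound _ _ (checkPointF_eq cert) 159100 25 chkP_159100 i (by omega) (by omega)
            · skip
              rcases Nat.lt_or_ge i 159175 with h7 | h7
              · skip
                rcases Nat.lt_or_ge i 159150 with h8 | h8
                · skip
                  exact allRangeF_sound _ _ (checkPointF_eq cert) 159125 25 chkP_159125 i (by omega) (by omega)
                · skip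
                  exact allRangeF_sound _ _ (checkPointF_eq cert) 159150 25 chkP_159150 i (by omega) (by omega)
              · skip
                rcases Nat.lt_or_ge i 159200 with h8 | h8
                · skip
                  exact allRangeF_sound _ _ (checkPointF_eq cert) 159175 25 chkP_159175 i (by omega) (by omega)
                · skip
                  rcases Nat.lt_or_ge i 159225 with h9 | h9
                  · skip
                    exact allRangeF_sound _ _ (checkPointF_eq cert) 159200 25 chkP_159200 i (by omega) (by omega)
                  · skip
                    exact allRangeF_sound _ _ (checkPointF_eq cert) 159225 25 chkP_159225 i (by omega) (by omega)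
    · skip
      rcases Nat.lt_or_ge i 160200 with h3 | h3
      · skip
        rcases Nat.lt_or_ge i 159725 with h4 | h4
        · skip
          rcases Nat.lt_or_ge i 159475 with h5 | h5
          · skip
            rcases Nat.lt_or_ge i 159350 with h6 | h6
            · skip
              rcases Nat.lt_or_ge i 159300 with h7 | h7
              · skip
                rcases Nat.lt_or_ge i 159275 with h8 | h8
                · skip
                  exact allRangeF_sound _ _ (checkPointF_eq cert) 159250 25 chkP_159250 i (by omega) (by omega)
                · skip
                  exact allRangeF_sound _ _ (checkPointF_eq cert) 159275 25 chkP_159275 i (by omega) (by omega)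
              · skip
                rcases Nat.lt_or_ge i 159325 with h8 | h8
                · skip
                  exact allRangeF_sound _ _ (checkPointF_eq cert) 159300 25 chkP_159300 i (by omega) (by omega)
                · skip
                  exact allRangeF_sound _ _ (checkPointF_eq cert) 159325 25 chkP_159325 i (by omega) (by omega)
            · skip
              rcases Nat.lt_or_ge i 159400 with h7 | h7
              · skip
                rcases Nat.lt_or_ge i 159375 with h8 | h8
                · skip
                  exact allRangeF_sound _ _ (checkPointF_eq cert) 159350 25 chkP_159350 i (by omega) (by omega)
                · skip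
                  exact allRangeF_sound _ _ (checkPointF_eq cert) 159375 25 chkP_159375 i (by omega) (by omega)
              · skip
                rcases Nat.lt_or_ge i 159425 with h8 | h8
                · skip
                  exact allRangeF_sound _ _ (checkPointF_eq cert) 159400 25 chkP_159400 i (by omega) (by omega)
                · skip
                  rcases Nat.lt_or_ge i 159450 with h9 | h9
                  · skip
                    exact allRangeF_sound _ _ (checkPointF_eq cert) 159425 25 chkP_159425 i (by omega) (by omega)
                  · skip
                    exact allRangeF_sound _ _ (checkPointF_eq cert) 159450 25 chkP_159450 i (by omega) (by omega)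
          · skip
            rcases Nat.lt_or_ge i 159600 with h6 | h6
            · skip
              rcases Nat.lt_or_ge i 159525 with h7 | h7
              · skip
                rcases Nat.lt_or_ge i 159500 with h8 | h8
                · skip
                  exact allRangeF_sound _ _ (checkPointF_eq cert) 159475 25 chkP_159475 i (by omega) (by omega)
                · skip
                  exact allRangeF_sound _ _ (checkPointF_eq cert) 159500 25 chkP_159500 i (by omega) (by omega)
              · skip
                rcases Nat.lt_or_ge i 159550 with h8 | h8
                · skip
                  exact allRangeF_sound _ _ (checkPointF_eq cert) 159525 25 chkP_159525 i (by omega) (by omega)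
                · skip
                  rcases Nat.lt_or_ge i 159575 with h9 | h9
                  · skip
                    exact allRangeF_sound _ _ (checkPointF_eq cert) 159550 25 chkP_159550 i (by omega) (by omega)
                  · skip
                    exact allRangeF_sound _ _ (checkPointF_eq cert) 159575 25 chkP_159575 i (by omega) (by omega)
            · skip
              rcases Nat.lt_or_ge i 159650 with h7 | h7
              · skip
                rcases Nat.lt_or_ge i 159625 with h8 | h8
                · skip
                  exact allRangeF_sound _ _ (checkPointF_eq cert) 159600 25 chkP_159600 i (by omega) (by omega)
                · skip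
                  exact allRangeF_sound _ _ (checkPointF_eq cert) 159625 25 chkP_159625 i (by omega) (by omega)
              · skip
                rcases Nat.lt_or_ge i 159675 with h8 | h8
                · skip
                  exact allRangeF_sound _ _ (checkPointF_eq cert) 159650 25 chkP_159650 i (by omega) (by omega)
                · skip
                  rcases Nat.lt_or_ge i 159700 with h9 | h9
                  · skip
                    exact allRangeF_sound _ _ (checkPointF_eq cert) 159675 25 chkP_159675 i (by omega) (by omega)
                  · skip
                    exact allRangeF_sound _ _ (checkPointF_eq cert) 159700 25 chkP_159700 i (by omega) (by omega)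
        · skip
          rcases Nat.lt_or_ge i 159950 with h5 | h5
          · skip
            rcases Nat.lt_or_ge i 159825 with h6 | h6
            · skip
              rcases Nat.lt_or_ge i 159775 with h7 | h7
              · skip
                rcases Nat.lt_or_ge i 159750 with h8 | h8
                · skip
                  exact allRangeF_sound _ _ (checkPointF_eq cert) 159725 25 chkP_159725 i (by omega) (by omega)
                · skip
                  exact allRangeF_sound _ _ (checkPointF_eq cert) 159750 25 chkP_159750 i (by omega) (by omega)
              · skip
                rcases Nat.lt_or_ge i 159800 with h8 | h8
                · skip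
                  exact allRangeF_sound _ _ (checkPointF_eq cert) 159775 25 chkP_159775 i (by omega) (by omega)
                · skip
                  exact allRangeF_sound _ _ (checkPointF_eq cert) 159800 25 chkP_159800 i (by omega) (by omega)
            · skip
              rcases Nat.lt_or_ge i 159875 with h7 | h7
              · skip
                rcases Nat.lt_or_ge i 159850 with h8 | h8
                · skip
                  exact allRangeF_sound _ _ (checkPointF_eq cert) 159825 25 chkP_159825 i (by omega) (by omega)
                · skip
                  exact allRangeF_sound _ _ (checkPointF_eq cert) 159850 25 chkP_159850 i (by omega) (by omega)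
              · skip
                rcases Nat.lt_or_ge i 159900 with h8 | h8
                · skip
                  exact allRangeF_sound _ _ (checkPointF_eq cert) 159875 25 chkP_159875 i (by omega) (by omega)
                · skip
                  rcases Nat.lt_or_ge i 159925 with h9 | h9
                  · skip
                    exact allRangeF_sound _ _ (checkPointF_eq cert) 159900 25 chkP_159900 i (by omega) (by omega)
                  · skip
                    exact allRangeF_sound _ _ (checkPointF_eq cert) 159925 25 chkP_159925 i (by omega) (by omega)
          · skip
            rcases Nat.lt_or_ge i 160075 with h6 | h6
            · skip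
              rcases Nat.lt_or_ge i 160000 with h7 | h7
              · skip
                rcases Nat.lt_or_ge i 159975 with h8 | h8
                · skip
                  exact allRangeF_sound _ _ (checkPointF_eq cert) 159950 25 chkP_159950 i (by omega) (by omega)
                · skip
                  exact allRangeF_sound _ _ (checkPointF_eq cert) 159975 25 chkP_159975 i (by omega) (by omega)
              · skip
                rcases Nat.lt_or_ge i 160025 with h8 | h8
                · skip
                  exact allRangeF_sound _ _ (checkPointF_eq cert) 160000 25 chkP_160000 i (by omega) (by omega)
                · skip
                  rcases Nat.lt_or_ge i 160050 with h9 | h9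
                  · skip
                    exact allRangeF_sound _ _ (checkPointF_eq cert) 160025 25 chkP_160025 i (by omega) (by omega)
                  · skip
                    exact allRangeF_sound _ _ (checkPointF_eq cert) 160050 25 chkP_160050 i (by omega) (by omega)
            · skip
              rcases Nat.lt_or_ge i 160125 with h7 | h7
              · skip
                rcases Nat.lt_or_ge i 160100 with h8 | h8
                · skip
                  exact allRangeF_sound _ _ (checkPointF_eq cert) 160075 25 chkP_160075 i (by omega) (by omega)
                · skip
                  exact allRangeF_sound _ _ (checkPointF_eq cert) 160100 25 chkP_160100 i (by omega) (by omega)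
              · skip
                rcases Nat.lt_or_ge i 160150 with h8 | h8
                · skip
                  exact allRangeF_sound _ _ (checkPointF_eq cert) 160125 25 chkP_160125 i (by omega) (by omega)
                · skip
                  rcases Nat.lt_or_ge i 160175 with h9 | h9
                  · skip
                    exact allRangeF_sound _ _ (checkPointF_eq cert) 160150 25 chkP_160150 i (by omega) (by omega)
                  · skip
                    exact allRangeF_sound _ _ (checkPointF_eq cert) 160175 25 chkP_160175 i (by omega) (by omega)
      · skip
        rcases Nat.lt_or_ge i 160675 with h4 | h4
        · skip
          rcases Nat.lt_or_ge i 160425 with h5 | h5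
          · skip
            rcases Nat.lt_or_ge i 160300 with h6 | h6
            · skip
              rcases Nat.lt_or_ge i 160250 with h7 | h7
              · skip
                rcases Nat.lt_or_ge i 160225 with h8 | h8
                · skip
                  exact allRangeF_sound _ _ (checkPointF_eq cert) 160200 25 chkP_160200 i (by omega) (by omega)
                · skip
                  exact allRangeF_sound _ _ (checkPointF_eq cert) 160225 25 chkP_160225 i (by omega) (by omega)
              · skip
                rcases Nat.lt_or_ge i 160275 with h8 | h8
                · skip
                  exact allRangeF_sound _ _ (checkPointF_eq cert) 160250 25 chkP_160250 i (by omega) (by omega)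
                · skip
                  exact allRangeF_sound _ _ (checkPointF_eq cert) 160275 25 chkP_160275 i (by omega) (by omega)
            · skip
              rcases Nat.lt_or_ge i 160350 with h7 | h7
              · skip
                rcases Nat.lt_or_ge i 160325 with h8 | h8
                · skip
                  exact allRangeF_sound _ _ (checkPointF_eq cert) 160300 25 chkP_160300 i (by omega) (by omega)
                · skip
                  exact allRangeF_sound _ _ (checkPointF_eq cert) 160325 25 chkP_160325 i (by omega) (by omega)
              · skip
                rcases Nat.lt_or_ge i 160375 with h8 | h8
                · skip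
                  exact allRangeF_sound _ _ (checkPointF_eq cert) 160350 25 chkP_160350 i (by omega) (by omega)
                · skip
                  rcases Nat.lt_or_ge i 160400 with h9 | h9
                  · skip
                    exact allRangeF_sound _ _ (checkPointF_eq cert) 160375 25 chkP_160375 i (by omega) (by omega)
                  · skip
                    exact allRangeF_sound _ _ (checkPointF_eq cert) 160400 25 chkP_160400 i (by omega) (by omega)
          · skip
            rcases Nat.lt_or_ge i 160550 with h6 | h6
            · skip
              rcases Nat.lt_or_ge i 160475 with h7 | h7
              · skip
                rcases Nat.lt_or_ge i 160450 with h8 | h8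
                · skip
                  exact allRangeF_sound _ _ (checkPointF_eq cert) 160425 25 chkP_160425 i (by omega) (by omega)
                · skip
                  exact allRangeF_sound _ _ (checkPointF_eq cert) 160450 25 chkP_160450 i (by omega) (by omega)
              · skip
                rcases Nat.lt_or_ge i 160500 with h8 | h8
                · skip
                  exact allRangeF_sound _ _ (checkPointF_eq cert) 160475 25 chkP_160475 i (by omega) (by omega)
                · skip
                  rcases Nat.lt_or_ge i 160525 with h9 | h9
                  · skip
                    exact allRangeF_sound _ _ (checkPointF_eq cert) 160500 25 chkP_160500 i (by omega) (by omega)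
                  · skip
                    exact allRangeF_sound _ _ (checkPointF_eq cert) 160525 25 chkP_160525 i (by omega) (by omega)
            · skip
              rcases Nat.lt_or_ge i 160600 with h7 | h7
              · skip
                rcases Nat.lt_or_ge i 160575 with h8 | h8
                · skip
                  exact allRangeF_sound _ _ (checkPointF_eq cert) 160550 25 chkP_160550 i (by omega) (by omega)
                · skip
                  exact allRangeF_sound _ _ (checkPointF_eq cert) 160575 25 chkP_160575 i (by omega) (by omega)
              · skip
                rcases Nat.lt_or_ge i 160625 with h8 | h8
                · skip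
                  exact allRangeF_sound _ _ (checkPointF_eq cert) 160600 25 chkP_160600 i (by omega) (by omega)
                · skip
                  rcases Nat.lt_or_ge i 160650 with h9 | h9
                  · skip
                    exact allRangeF_sound _ _ (checkPointF_eq cert) 160625 25 chkP_160625 i (by omega) (by omega)
                  · skip
                    exact allRangeF_sound _ _ (checkPointF_eq cert) 160650 25 chkP_160650 i (by omega) (by omega)
        · skip
          rcases Nat.lt_or_ge i 160925 with h5 | h5
          · skip
            rcases Nat.lt_or_ge i 160800 with h6 | h6
            · skip
              rcases Nat.lt_or_ge i 160725 with h7 | h7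
              · skip
                rcases Nat.lt_or_ge i 160700 with h8 | h8
                · skip
                  exact allRangeF_sound _ _ (checkPointF_eq cert) 160675 25 chkP_160675 i (by omega) (by omega)
                · skip
                  exact allRangeF_sound _ _ (checkPointF_eq cert) 160700 25 chkP_160700 i (by omega) (by omega)
              · skip
                rcases Nat.lt_or_ge i 160750 with h8 | h8
                · skip
                  exact allRangeF_sound _ _ (checkPointF_eq cert) 160725 25 chkP_160725 i (by omega) (by omega)
                · skip
                  rcases Nat.lt_or_ge i 160775 with h9 | h9
                  · skip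
                    exact allRangeF_sound _ _ (checkPointF_eq cert) 160750 25 chkP_160750 i (by omega) (by omega)
                  · skip
                    exact allRangeF_sound _ _ (checkPointF_eq cert) 160775 25 chkP_160775 i (by omega) (by omega)
            · skip
              rcases Nat.lt_or_ge i 160850 with h7 | h7
              · skip
                rcases Nat.lt_or_ge i 160825 with h8 | h8
                · skip
                  exact allRangeF_sound _ _ (checkPointF_eq cert) 160800 25 chkP_160800 i (by omega) (by omega)
                · skip
                  exact allRangeF_sound _ _ (checkPointF_eq cert) 160825 25 chkP_160825 i (by omega) (by omega)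
              · skip
                rcases Nat.lt_or_ge i 160875 with h8 | h8
                · skip
                  exact allRangeF_sound _ _ (checkPointF_eq cert) 160850 25 chkP_160850 i (by omega) (by omega)
                · skip
                  rcases Nat.lt_or_ge i 160900 with h9 | h9
                  · skip
                    exact allRangeF_sound _ _ (checkPointF_eq cert) 160875 25 chkP_160875 i (by omega) (by omega)
                  · skip
                    exact allRangeF_sound _ _ (checkPointF_eq cert) 160900 25 chkP_160900 i (by omega) (by omega)
          · skip
            rcases Nat.lt_or_ge i 161050 with h6 | h6
            · skip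
              rcases Nat.lt_or_ge i 160975 with h7 | h7
              · skip
                rcases Nat.lt_or_ge i 160950 with h8 | h8
                · skip
                  exact allRangeF_sound _ _ (checkPointF_eq cert) 160925 25 chkP_160925 i (by omega) (by omega)
                · skip
                  exact allRangeF_sound _ _ (checkPointF_eq cert) 160950 25 chkP_160950 i (by omega) (by omega)
              · skip
                rcases Nat.lt_or_ge i 161000 with h8 | h8
                · skip
                  exact allRangeF_sound _ _ (checkPointF_eq cert) 160975 25 chkP_160975 i (by omega) (by omega)
                · skip
                  rcases Nat.lt_or_ge i 161025 with h9 | h9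
                  · skip
                    exact allRangeF_sound _ _ (checkPointF_eq cert) 161000 25 chkP_161000 i (by omega) (by omega)
                  · skip
                    exact allRangeF_sound _ _ (checkPointF_eq cert) 161025 25 chkP_161025 i (by omega) (by omega)
            · skip
              rcases Nat.lt_or_ge i 161100 with h7 | h7
              · skip
                rcases Nat.lt_or_ge i 161075 with h8 | h8
                · skip
                  exact allRangeF_sound _ _ (checkPointF_eq cert) 161050 25 chkP_161050 i (by omega) (by omega)
                · skip
                  exact allRangeF_sound _ _ (checkPointF_eq cert) 161075 25 chkP_161075 i (by omega) (by omega)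
              · skip
                rcases Nat.lt_or_ge i 161125 with h8 | h8
                · skip
                  exact allRangeF_sound _ _ (checkPointF_eq cert) 161100 25 chkP_161100 i (by omega) (by omega)
                · skip
                  rcases Nat.lt_or_ge i 161150 with h9 | h9
                  · skip
                    exact allRangeF_sound _ _ (checkPointF_eq cert) 161125 25 chkP_161125 i (by omega) (by omega)
                  · skip
                    exact allRangeF_sound _ _ (checkPointF_eq cert) 161150 25 chkP_161150 i (by omega) (by omega)

end Cfsg.Agent.Lib.Helper28.Fi24Data
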