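import Cfsg.Agent.Lib.Helper28.Fi24Data
import Cfsg.Agent.Lib.Helper28.TCFastB

set_option autoImplicit false
set_option maxRecDepth 1000000
set_option linter.all false
set_option Elab.async false

namespace Cfsg.Agent.Lib.Helper28.Fi24Data

open Cfsg.Agent.Lib.Helper28B

theorem chkP_161175 : allRangeF (checkPointF cert) (nat_lit 161175) (nat_lit 25) = true := by decide +kernel
theorem chkP_161200 : allRangeF (checkPointF cert) (nat_lit 161200) (nat_lit 25) = true := by decide +kernel
theorem chkP_161225 : allRangeF (checkPointF cert) (nat_lit 161225) (nat_lit 25) = true := by decide +kernel
theorem chkP_161250 : allRangeF (checkPointF cert) (nat_lit 161250) (nat_lit 25) = true := by decide +kernel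
theorem chkP_161275 : allRangeF (checkPointF cert) (nat_lit 161275) (nat_lit 25) = true := by decide +kernel
theorem chkP_161300 : allRangeF (checkPointF cert) (nat_lit 161300) (nat_lit 25) = true := by decide +kernel
theorem chkP_161325 : allRangeF (checkPointF cert) (nat_lit 161325) (nat_lit 25) = true := by decide +kernel
theorem chkP_161350 : allRangeF (checkPointF cert) (nat_lit 161350) (nat_lit 25) = true := by decide +kernel
theorem chkP_161375 : allRangeF (checkPointF cert) (nat_lit 161375) (nat_lit 25) = true := by decide +kernel
theorem chkP_161400 : allRangeF (checkPointF cert) (nat_lit 161400) (nat_lit 25) = true := by decide +kernel
theorem chkP_161425 : allRangeF (checkPointF cert) (nat_lit 161425) (nat_lit 25) = true := by decide +kernel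
theorem chkP_161450 : allRangeF (checkPointF cert) (nat_lit 161450) (nat_lit 25) = true := by decide +kernel
theorem chkP_161475 : allRangeF (checkPointF cert) (nat_lit 161475) (nat_lit 25) = true := by decide +kernel
theorem chkP_161500 : allRangeF (checkPointF cert) (nat_lit 161500) (nat_lit 25) = true := by decide +kernel
theorem chkP_161525 : allRangeF (checkPointF cert) (nat_lit 161525) (nat_lit 25) = true := by decide +kernel
theorem chkP_161550 : allRangeF (checkPointF cert) (nat_lit 161550) (nat_lit 25) = true := by decide +kernel
theorem chkP_161575 : allRangeF (checkPointF cert) (nat_lit 161575) (nat_lit 25) = true := by decide +kernel
theorem chkP_161600 : allRangeF (checkPointF cert) (nat_lit 161600) (nat_lit 25) = true := by decide +kernel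
theorem chkP_161625 : allRangeF (checkPointF cert) (nat_lit 161625) (nat_lit 25) = true := by decide +kernel
theorem chkP_161650 : allRangeF (checkPointF cert) (nat_lit 161650) (nat_lit 25) = true := by decide +kernel
theorem chkP_161675 : allRangeF (checkPointF cert) (nat_lit 161675) (nat_lit 25) = true := by decide +kernel
theorem chkP_161700 : allRangeF (checkPointF cert) (nat_lit 161700) (nat_lit 25) = true := by decide +kernel
theorem chkP_161725 : allRangeF (checkPointF cert) (nat_lit 161725) (nat_lit 25) = true := by decide +kernel
theorem chkP_161750 : allRangeF (checkPointF cert) (nat_lit 161750) (nat_lit 25) = true := by decide +kernel
theorem chkP_161775 : allRangeF (checkPointF cert) (nat_lit 161775) (nat_lit 25) = true := by decide +kernel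
theorem chkP_161800 : allRangeF (checkPointF cert) (nat_lit 161800) (nat_lit 25) = true := by decide +kernel
theorem chkP_161825 : allRangeF (checkPointF cert) (nat_lit 161825) (nat_lit 25) = true := by decide +kernel
theorem chkP_161850 : allRangeF (checkPointF cert) (nat_lit 161850) (nat_lit 25) = true := by decide +kernel
theorem chkP_161875 : allRangeF (checkPointF cert) (nat_lit 161875) (nat_lit 25) = true := by decide +kernel
theorem chkP_161900 : allRangeF (checkPointF cert) (nat_lit 161900) (nat_lit 25) = true := by decide +kernel
theorem chkP_161925 : allRangeF (checkPointF cert) (nat_lit 161925) (nat_lit 25) = true := by decide +kernel
theorem chkP_161950 : allRangeF (checkPointF cert) (nat_lit 161950) (nat_lit 25) = true := by decide +kernel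
theorem chkP_161975 : allRangeF (checkPointF cert) (nat_lit 161975) (nat_lit 25) = true := by decide +kernel
theorem chkP_162000 : allRangeF (checkPointF cert) (nat_lit 162000) (nat_lit 25) = true := by decide +kernel
theorem chkP_162025 : allRangeF (checkPointF cert) (nat_lit 162025) (nat_lit 25) = true := by decide +kernel
theorem chkP_162050 : allRangeF (checkPointF cert) (nat_lit 162050) (nat_lit 25) = true := by decide +kernel
theorem chkP_162075 : allRangeF (checkPointF cert) (nat_lit 162075) (nat_lit 25) = true := by decide +kernel
theorem chkP_162100 : allRangeF (checkPointF cert) (nat_lit 162100) (nat_lit 25) = true := by decide +kernel
theorem chkP_162125 : allRangeF (checkPointF cert) (nat_lit 162125) (nat_lit 25) = true := by decide +kernel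
theorem chkP_162150 : allRangeF (checkPointF cert) (nat_lit 162150) (nat_lit 25) = true := by decide +kernel
theorem chkP_162175 : allRangeF (checkPointF cert) (nat_lit 162175) (nat_lit 25) = true := by decide +kernel
theorem chkP_162200 : allRangeF (checkPointF cert) (nat_lit 162200) (nat_lit 25) = true := by decide +kernel
theorem chkP_162225 : allRangeF (checkPointF cert) (nat_lit 162225) (nat_lit 25) = true := by decide +kernel
theorem chkP_162250 : allRangeF (checkPointF cert) (nat_lit 162250) (nat_lit 25) = true := by decide +kernel
theorem chkP_162275 : allRangeF (checkPointF cert) (nat_lit 162275) (nat_lit 25) = true := by decide +kernel
theorem chkP_162300 : allRangeF (checkPointF cert) (nat_lit 162300) (nat_lit 25) = true := by decide +kernel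
theorem chkP_162325 : allRangeF (checkPointF cert) (nat_lit 162325) (nat_lit 25) = true := by decide +kernel
theorem chkP_162350 : allRangeF (checkPointF cert) (nat_lit 162350) (nat_lit 25) = true := by decide +kernel
theorem chkP_162375 : allRangeF (checkPointF cert) (nat_lit 162375) (nat_lit 25) = true := by decide +kernel
theorem chkP_162400 : allRangeF (checkPointF cert) (nat_lit 162400) (nat_lit 25) = true := by decide +kernel
theorem chkP_162425 : allRangeF (checkPointF cert) (nat_lit 162425) (nat_lit 25) = true := by decide +kernel
theorem chkP_162450 : allRangeF (checkPointF cert) (nat_lit 162450) (nat_lit 25) = true := by decide +kernel
theorem chkP_162475 : allRangeF (checkPointF cert) (nat_lit 162475) (nat_lit 25) = true := by decide +kernel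
theorem chkP_162500 : allRangeF (checkPointF cert) (nat_lit 162500) (nat_lit 25) = true := by decide +kernel
theorem chkP_162525 : allRangeF (checkPointF cert) (nat_lit 162525) (nat_lit 25) = true := by decide +kernel
theorem chkP_162550 : allRangeF (checkPointF cert) (nat_lit 162550) (nat_lit 25) = true := by decide +kernel
theorem chkP_162575 : allRangeF (checkPointF cert) (nat_lit 162575) (nat_lit 25) = true := by decide +kernel
theorem chkP_162600 : allRangeF (checkPointF cert) (nat_lit 162600) (nat_lit 25) = true := by decide +kernel
theorem chkP_162625 : allRangeF (checkPointF cert) (nat_lit 162625) (nat_lit 25) = true := by decide +kernel
theorem chkP_162650 : allRangeF (checkPointF cert) (nat_lit 162650) (nat_lit 25) = true := by decide +kernel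
theorem chkP_162675 : allRangeF (checkPointF cert) (nat_lit 162675) (nat_lit 25) = true := by decide +kernel
theorem chkP_162700 : allRangeF (checkPointF cert) (nat_lit 162700) (nat_lit 25) = true := by decide +kernel
theorem chkP_162725 : allRangeF (checkPointF cert) (nat_lit 162725) (nat_lit 25) = true := by decide +kernel
theorem chkP_162750 : allRangeF (checkPointF cert) (nat_lit 162750) (nat_lit 25) = true := by decide +kernel
theorem chkP_162775 : allRangeF (checkPointF cert) (nat_lit 162775) (nat_lit 25) = true := by decide +kernel
theorem chkP_162800 : allRangeF (checkPointF cert) (nat_lit 162800) (nat_lit 25) = true := by decide +kernel
theorem chkP_162825 : allRangeF (checkPointF cert) (nat_lit 162825) (nat_lit 25) = true := by decide +kernel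
theorem chkP_162850 : allRangeF (checkPointF cert) (nat_lit 162850) (nat_lit 25) = true := by decide +kernel
theorem chkP_162875 : allRangeF (checkPointF cert) (nat_lit 162875) (nat_lit 25) = true := by decide +kernel
theorem chkP_162900 : allRangeF (checkPointF cert) (nat_lit 162900) (nat_lit 25) = true := by decide +kernel
theorem chkP_162925 : allRangeF (checkPointF cert) (nat_lit 162925) (nat_lit 25) = true := by decide +kernel
theorem chkP_162950 : allRangeF (checkPointF cert) (nat_lit 162950) (nat_lit 25) = true := by decide +kernel
theorem chkP_162975 : allRangeF (checkPointF cert) (nat_lit 162975) (nat_lit 25) = true := by decide +kernel
theorem chkP_163000 : allRangeF (checkPointF cert) (nat_lit 163000) (nat_lit 25) = true := by decide +kernel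
theorem chkP_163025 : allRangeF (checkPointF cert) (nat_lit 163025) (nat_lit 25) = true := by decide +kernel
theorem chkP_163050 : allRangeF (checkPointF cert) (nat_lit 163050) (nat_lit 25) = true := by decide +kernel
theorem chkP_163075 : allRangeF (checkPointF cert) (nat_lit 163075) (nat_lit 25) = true := by decide +kernel
theorem chkP_163100 : allRangeF (checkPointF cert) (nat_lit 163100) (nat_lit 25) = true := by decide +kernel
theorem chkP_163125 : allRangeF (checkPointF cert) (nat_lit 163125) (nat_lit 25) = true := by decide +kernel
theorem chkP_163150 : allRangeF (checkPointF cert) (nat_lit 163150) (nat_lit 25) = true := by decide +kernel
theorem chkP_163175 : allRangeF (checkPointF cert) (nat_lit 163175) (nat_lit 25) = true := by decide +kernel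
theorem chkP_163200 : allRangeF (checkPointF cert) (nat_lit 163200) (nat_lit 25) = true := by decide +kernel
theorem chkP_163225 : allRangeF (checkPointF cert) (nat_lit 163225) (nat_lit 25) = true := by decide +kernel
theorem chkP_163250 : allRangeF (checkPointF cert) (nat_lit 163250) (nat_lit 25) = true := by decide +kernel
theorem chkP_163275 : allRangeF (checkPointF cert) (nat_lit 163275) (nat_lit 25) = true := by decide +kernel
theorem chkP_163300 : allRangeF (checkPointF cert) (nat_lit 163300) (nat_lit 25) = true := by decide +kernel
theorem chkP_163325 : allRangeF (checkPointF cert) (nat_lit 163325) (nat_lit 25) = true := by decide +kernel
theorem chkP_163350 : allRangeF (checkPointF cert) (nat_lit 163350) (nat_lit 25) = true := by decide +kernel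
theorem chkP_163375 : allRangeF (checkPointF cert) (nat_lit 163375) (nat_lit 25) = true := by decide +kernel
theorem chkP_163400 : allRangeF (checkPointF cert) (nat_lit 163400) (nat_lit 25) = true := by decide +kernel
theorem chkP_163425 : allRangeF (checkPointF cert) (nat_lit 163425) (nat_lit 25) = true := by decide +kernel
theorem chkP_163450 : allRangeF (checkPointF cert) (nat_lit 163450) (nat_lit 25) = true := by decide +kernel
theorem chkP_163475 : allRangeF (checkPointF cert) (nat_lit 163475) (nat_lit 25) = true := by decide +kernel
theorem chkP_163500 : allRangeF (checkPointF cert) (nat_lit 163500) (nat_lit 25) = true := by decide +kernel
theorem chkP_163525 : allRangeF (checkPointF cert) (nat_lit 163525) (nat_lit 25) = true := by decide +kernel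
theorem chkP_163550 : allRangeF (checkPointF cert) (nat_lit 163550) (nat_lit 25) = true := by decide +kernel
theorem chkP_163575 : allRangeF (checkPointF cert) (nat_lit 163575) (nat_lit 25) = true := by decide +kernel
theorem chkP_163600 : allRangeF (checkPointF cert) (nat_lit 163600) (nat_lit 25) = true := by decide +kernel
theorem chkP_163625 : allRangeF (checkPointF cert) (nat_lit 163625) (nat_lit 25) = true := by decide +kernel
theorem chkP_163650 : allRangeF (checkPointF cert) (nat_lit 163650) (nat_lit 25) = true := by decide +kernel
theorem chkP_163675 : allRangeF (checkPointF cert) (nat_lit 163675) (nat_lit 25) = true := by decide +kernel
theorem chkP_163700 : allRangeF (checkPointF cert) (nat_lit 163700) (nat_lit 25) = true := by decide +kernel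
theorem chkP_163725 : allRangeF (checkPointF cert) (nat_lit 163725) (nat_lit 25) = true := by decide +kernel
theorem chkP_163750 : allRangeF (checkPointF cert) (nat_lit 163750) (nat_lit 25) = true := by decide +kernel
theorem chkP_163775 : allRangeF (checkPointF cert) (nat_lit 163775) (nat_lit 25) = true := by decide +kernel
theorem chkP_163800 : allRangeF (checkPointF cert) (nat_lit 163800) (nat_lit 25) = true := by decide +kernel
theorem chkP_163825 : allRangeF (checkPointF cert) (nat_lit 163825) (nat_lit 25) = true := by decide +kernel
theorem chkP_163850 : allRangeF (checkPointF cert) (nat_lit 163850) (nat_lit 25) = true := by decide +kernel
theorem chkP_163875 : allRangeF (checkPointF cert) (nat_lit 163875) (nat_lit 25) = true := by decide +kernel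
theorem chkP_163900 : allRangeF (checkPointF cert) (nat_lit 163900) (nat_lit 25) = true := by decide +kernel
theorem chkP_163925 : allRangeF (checkPointF cert) (nat_lit 163925) (nat_lit 25) = true := by decide +kernel
theorem chkP_163950 : allRangeF (checkPointF cert) (nat_lit 163950) (nat_lit 25) = true := by decide +kernel
theorem chkP_163975 : allRangeF (checkPointF cert) (nat_lit 163975) (nat_lit 25) = true := by decide +kernel
theorem chkP_164000 : allRangeF (checkPointF cert) (nat_lit 164000) (nat_lit 25) = true := by decide +kernel
theorem chkP_164025 : allRangeF (checkPointF cert) (nat_lit 164025) (nat_lit 25) = true := by decide +kernel
theorem chkP_164050 : allRangeF (checkPointF cert) (nat_lit 164050) (nat_lit 25) = true := by decide +kernel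
theorem chkP_164075 : allRangeF (checkPointF cert) (nat_lit 164075) (nat_lit 25) = true := by decide +kernel
theorem chkP_164100 : allRangeF (checkPointF cert) (nat_lit 164100) (nat_lit 25) = true := by decide +kernel
theorem chkP_164125 : allRangeF (checkPointF cert) (nat_lit 164125) (nat_lit 25) = true := by decide +kernel
theorem chkP_164150 : allRangeF (checkPointF cert) (nat_lit 164150) (nat_lit 25) = true := by decide +kernel
theorem chkP_164175 : allRangeF (checkPointF cert) (nat_lit 164175) (nat_lit 25) = true := by decide +kernel
theorem chkP_164200 : allRangeF (checkPointF cert) (nat_lit 164200) (nat_lit 25) = true := by decide +kernel
theorem chkP_164225 : allRangeF (checkPointF cert) (nat_lit 164225) (nat_lit 25) = true := by decide +kernel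
theorem chkP_164250 : allRangeF (checkPointF cert) (nat_lit 164250) (nat_lit 25) = true := by decide +kernel
theorem chkP_164275 : allRangeF (checkPointF cert) (nat_lit 164275) (nat_lit 25) = true := by decide +kernel
theorem chkP_164300 : allRangeF (checkPointF cert) (nat_lit 164300) (nat_lit 25) = true := by decide +kernel
theorem chkP_164325 : allRangeF (checkPointF cert) (nat_lit 164325) (nat_lit 25) = true := by decide +kernel
theorem chkP_164350 : allRangeF (checkPointF cert) (nat_lit 164350) (nat_lit 25) = true := by decide +kernel
theorem chkP_164375 : allRangeF (checkPointF cert) (nat_lit 164375) (nat_lit 25) = true := by decide +kernel
theorem chkP_164400 : allRangeF (checkPointF cert) (nat_lit 164400) (nat_lit 25) = true := by decide +kernel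
theorem chkP_164425 : allRangeF (checkPointF cert) (nat_lit 164425) (nat_lit 25) = true := by decide +kernel
theorem chkP_164450 : allRangeF (checkPointF cert) (nat_lit 164450) (nat_lit 25) = true := by decide +kernel
theorem chkP_164475 : allRangeF (checkPointF cert) (nat_lit 164475) (nat_lit 25) = true := by decide +kernel
theorem chkP_164500 : allRangeF (checkPointF cert) (nat_lit 164500) (nat_lit 25) = true := by decide +kernel
theorem chkP_164525 : allRangeF (checkPointF cert) (nat_lit 164525) (nat_lit 25) = true := by decide +kernel
theorem chkP_164550 : allRangeF (checkPointF cert) (nat_lit 164550) (nat_lit 25) = true := by decide +kernel
theorem chkP_164575 : allRangeF (checkPointF cert) (nat_lit 164575) (nat_lit 25) = true := by decide +kernel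
theorem chkP_164600 : allRangeF (checkPointF cert) (nat_lit 164600) (nat_lit 25) = true := by decide +kernel
theorem chkP_164625 : allRangeF (checkPointF cert) (nat_lit 164625) (nat_lit 25) = true := by decide +kernel
theorem chkP_164650 : allRangeF (checkPointF cert) (nat_lit 164650) (nat_lit 25) = true := by decide +kernel
theorem chkP_164675 : allRangeF (checkPointF cert) (nat_lit 164675) (nat_lit 25) = true := by decide +kernel
theorem chkP_164700 : allRangeF (checkPointF cert) (nat_lit 164700) (nat_lit 25) = true := by decide +kernel
theorem chkP_164725 : allRangeF (checkPointF cert) (nat_lit 164725) (nat_lit 25) = true := by decide +kernel
theorem chkP_164750 : allRangeF (checkPointF cert) (nat_lit 164750) (nat_lit 25) = true := by decide +kernel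
theorem chkP_164775 : allRangeF (checkPointF cert) (nat_lit 164775) (nat_lit 25) = true := by decide +kernel
theorem chkP_164800 : allRangeF (checkPointF cert) (nat_lit 164800) (nat_lit 25) = true := by decide +kernel
theorem chkP_164825 : allRangeF (checkPointF cert) (nat_lit 164825) (nat_lit 25) = true := by decide +kernel
theorem chkP_164850 : allRangeF (checkPointF cert) (nat_lit 164850) (nat_lit 25) = true := by decide +kernel
theorem chkP_164875 : allRangeF (checkPointF cert) (nat_lit 164875) (nat_lit 25) = true := by decide +kernel
theorem chkP_164900 : allRangeF (checkPointF cert) (nat_lit 164900) (nat_lit 25) = true := by decide +kernel
theorem chkP_164925 : allRangeF (checkPointF cert) (nat_lit 164925) (nat_lit 25) = true := by decide +kernel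
theorem chkP_164950 : allRangeF (checkPointF cert) (nat_lit 164950) (nat_lit 25) = true := by decide +kernel
theorem chkP_164975 : allRangeF (checkPointF cert) (nat_lit 164975) (nat_lit 25) = true := by decide +kernel
theorem chkP_165000 : allRangeF (checkPointF cert) (nat_lit 165000) (nat_lit 25) = true := by decide +kernel
theorem chkP_165025 : allRangeF (checkPointF cert) (nat_lit 165025) (nat_lit 25) = true := by decide +kernel
theorem chkP_165050 : allRangeF (checkPointF cert) (nat_lit 165050) (nat_lit 25) = true := by decide +kernel
theorem chkP_165075 : allRangeF (checkPointF cert) (nat_lit 165075) (nat_lit 25) = true := by decide +kernel
theorem chkP_165100 : allRangeF (checkPointF cert) (nat_lit 165100) (nat_lit 25) = true := by decide +kernel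
theorem chkP_165125 : allRangeF (checkPointF cert) (nat_lit 165125) (nat_lit 25) = true := by decide +kernel
theorem chkP_165150 : allRangeF (checkPointF cert) (nat_lit 165150) (nat_lit 25) = true := by decide +kernel
theorem chkP_165175 : allRangeF (checkPointF cert) (nat_lit 165175) (nat_lit 25) = true := by decide +kernel
theorem chkP_165200 : allRangeF (checkPointF cert) (nat_lit 165200) (nat_lit 25) = true := by decide +kernel
theorem chkP_165225 : allRangeF (checkPointF cert) (nat_lit 165225) (nat_lit 25) = true := by decide +kernel
theorem chkP_165250 : allRangeF (checkPointF cert) (nat_lit 165250) (nat_lit 25) = true := by decide +kernel
theorem chkP_165275 : allRangeF (checkPointF cert) (nat_lit 165275) (nat_lit 25) = true := by decide +kernel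
theorem chkP_165300 : allRangeF (checkPointF cert) (nat_lit 165300) (nat_lit 25) = true := by decide +kernel
theorem chkP_165325 : allRangeF (checkPointF cert) (nat_lit 165325) (nat_lit 25) = true := by decide +kernel
theorem chkP_165350 : allRangeF (checkPointF cert) (nat_lit 165350) (nat_lit 25) = true := by decide +kernel
theorem chkP_165375 : allRangeF (checkPointF cert) (nat_lit 165375) (nat_lit 25) = true := by decide +kernel
theorem chkP_165400 : allRangeF (checkPointF cert) (nat_lit 165400) (nat_lit 25) = true := by decide +kernel
theorem chkP_165425 : allRangeF (checkPointF cert) (nat_lit 165425) (nat_lit 25) = true := by decide +kernel
theorem chkP_165450 : allRangeF (checkPointF cert) (nat_lit 165450) (nat_lit 25) = true := by decide +kernel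
theorem chkP_165475 : allRangeF (checkPointF cert) (nat_lit 165475) (nat_lit 25) = true := by decide +kernel
theorem chkP_165500 : allRangeF (checkPointF cert) (nat_lit 165500) (nat_lit 25) = true := by decide +kernel
theorem chkP_165525 : allRangeF (checkPointF cert) (nat_lit 165525) (nat_lit 25) = true := by decide +kernel
theorem chkP_165550 : allRangeF (checkPointF cert) (nat_lit 165550) (nat_lit 25) = true := by decide +kernel
theorem chkP_165575 : allRangeF (checkPointF cert) (nat_lit 165575) (nat_lit 25) = true := by decide +kernel
theorem chkP_165600 : allRangeF (checkPointF cert) (nat_lit 165600) (nat_lit 25) = true := by decide +kernel
theorem chkP_165625 : allRangeF (checkPointF cert) (nat_lit 165625) (nat_lit 25) = true := by decide +kernel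
theorem chkP_165650 : allRangeF (checkPointF cert) (nat_lit 165650) (nat_lit 25) = true := by decide +kernel
theorem chkP_165675 : allRangeF (checkPointF cert) (nat_lit 165675) (nat_lit 25) = true := by decide +kernel
theorem chkP_165700 : allRangeF (checkPointF cert) (nat_lit 165700) (nat_lit 25) = true := by decide +kernel
theorem chkP_165725 : allRangeF (checkPointF cert) (nat_lit 165725) (nat_lit 25) = true := by decide +kernel
theorem chkP_165750 : allRangeF (checkPointF cert) (nat_lit 165750) (nat_lit 25) = true := by decide +kernel
theorem chkP_165775 : allRangeF (checkPointF cert) (nat_lit 165775) (nat_lit 25) = true := by decide +kernel
theorem chkP_165800 : allRangeF (checkPointF cert) (nat_lit 165800) (nat_lit 25) = true := by decide +kernel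
theorem chkP_165825 : allRangeF (checkPointF cert) (nat_lit 165825) (nat_lit 25) = true := by decide +kernel
theorem chkP_165850 : allRangeF (checkPointF cert) (nat_lit 165850) (nat_lit 25) = true := by decide +kernel
theorem chkP_165875 : allRangeF (checkPointF cert) (nat_lit 165875) (nat_lit 25) = true := by decide +kernel
theorem chkP_165900 : allRangeF (checkPointF cert) (nat_lit 165900) (nat_lit 25) = true := by decide +kernel
theorem chkP_165925 : allRangeF (checkPointF cert) (nat_lit 165925) (nat_lit 25) = true := by decide +kernel
theorem chkP_165950 : allRangeF (checkPointF cert) (nat_lit 165950) (nat_lit 25) = true := by decide +kernel
theorem chkP_165975 : allRangeF (checkPointF cert) (nat_lit 165975) (nat_lit 25) = true := by decide +kernel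
theorem chkP_166000 : allRangeF (checkPointF cert) (nat_lit 166000) (nat_lit 25) = true := by decide +kernel
theorem chkP_166025 : allRangeF (checkPointF cert) (nat_lit 166025) (nat_lit 25) = true := by decide +kernel
theorem chkP_166050 : allRangeF (checkPointF cert) (nat_lit 166050) (nat_lit 25) = true := by decide +kernel
theorem chkP_166075 : allRangeF (checkPointF cert) (nat_lit 166075) (nat_lit 25) = true := by decide +kernel
theorem chkP_166100 : allRangeF (checkPointF cert) (nat_lit 166100) (nat_lit 25) = true := by decide +kernel
theorem chkP_166125 : allRangeF (checkPointF cert) (nat_lit 166125) (nat_lit 25) = true := by decide +kernel
theorem chkP_166150 : allRangeF (checkPointF cert) (nat_lit 166150) (nat_lit 25) = true := by decide +kernel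
theorem chkP_166175 : allRangeF (checkPointF cert) (nat_lit 166175) (nat_lit 25) = true := by decide +kernel
theorem chkP_166200 : allRangeF (checkPointF cert) (nat_lit 166200) (nat_lit 25) = true := by decide +kernel
theorem chkP_166225 : allRangeF (checkPointF cert) (nat_lit 166225) (nat_lit 25) = true := by decide +kernel
theorem chkP_166250 : allRangeF (checkPointF cert) (nat_lit 166250) (nat_lit 25) = true := by decide +kernel
theorem chkP_166275 : allRangeF (checkPointF cert) (nat_lit 166275) (nat_lit 25) = true := by decide +kernel
theorem chkP_166300 : allRangeF (checkPointF cert) (nat_lit 166300) (nat_lit 25) = true := by decide +kernel
theorem chkP_166325 : allRangeF (checkPointF cert) (nat_lit 166325) (nat_lit 25) = true := by decide +kernel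
theorem chkP_166350 : allRangeF (checkPointF cert) (nat_lit 166350) (nat_lit 25) = true := by decide +kernel
theorem chkP_166375 : allRangeF (checkPointF cert) (nat_lit 166375) (nat_lit 25) = true := by decide +kernel
theorem chkP_166400 : allRangeF (checkPointF cert) (nat_lit 166400) (nat_lit 25) = true := by decide +kernel
theorem chkP_166425 : allRangeF (checkPointF cert) (nat_lit 166425) (nat_lit 25) = true := by decide +kernel
theorem chkP_166450 : allRangeF (checkPointF cert) (nat_lit 166450) (nat_lit 25) = true := by decide +kernel
theorem chkP_166475 : allRangeF (checkPointF cert) (nat_lit 166475) (nat_lit 25) = true := by decide +kernel
theorem chkP_166500 : allRangeF (checkPointF cert) (nat_lit 166500) (nat_lit 25) = true := by decide +kernel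
theorem chkP_166525 : allRangeF (checkPointF cert) (nat_lit 166525) (nat_lit 25) = true := by decide +kernel
theorem chkP_166550 : allRangeF (checkPointF cert) (nat_lit 166550) (nat_lit 25) = true := by decide +kernel
theorem chkP_166575 : allRangeF (checkPointF cert) (nat_lit 166575) (nat_lit 25) = true := by decide +kernel
theorem chkP_166600 : allRangeF (checkPointF cert) (nat_lit 166600) (nat_lit 25) = true := by decide +kernel
theorem chkP_166625 : allRangeF (checkPointF cert) (nat_lit 166625) (nat_lit 25) = true := by decide +kernel
theorem chkP_166650 : allRangeF (checkPointF cert) (nat_lit 166650) (nat_lit 25) = true := by decide +kernel
theorem chkP_166675 : allRangeF (checkPointF cert) (nat_lit 166675) (nat_lit 25) = true := by decide +kernel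
theorem chkP_166700 : allRangeF (checkPointF cert) (nat_lit 166700) (nat_lit 25) = true := by decide +kernel
theorem chkP_166725 : allRangeF (checkPointF cert) (nat_lit 166725) (nat_lit 25) = true := by decide +kernel
theorem chkP_166750 : allRangeF (checkPointF cert) (nat_lit 166750) (nat_lit 25) = true := by decide +kernel
theorem chkP_166775 : allRangeF (checkPointF cert) (nat_lit 166775) (nat_lit 25) = true := by decide +kernel
theorem chkP_166800 : allRangeF (checkPointF cert) (nat_lit 166800) (nat_lit 25) = true := by decide +kernel
theorem chkP_166825 : allRangeF (checkPointF cert) (nat_lit 166825) (nat_lit 25) = true := by decide +kernel
theorem chkP_166850 : allRangeF (checkPointF cert) (nat_lit 166850) (nat_lit 25) = true := by decide +kernel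
theorem chkP_166875 : allRangeF (checkPointF cert) (nat_lit 166875) (nat_lit 25) = true := by decide +kernel
theorem chkP_166900 : allRangeF (checkPointF cert) (nat_lit 166900) (nat_lit 25) = true := by decide +kernel
theorem chkP_166925 : allRangeF (checkPointF cert) (nat_lit 166925) (nat_lit 25) = true := by decide +kernel
theorem chkP_166950 : allRangeF (checkPointF cert) (nat_lit 166950) (nat_lit 25) = true := by decide +kernel
theorem chkP_166975 : allRangeF (checkPointF cert) (nat_lit 166975) (nat_lit 25) = true := by decide +kernel
theorem chkP_167000 : allRangeF (checkPointF cert) (nat_lit 167000) (nat_lit 25) = true := by decide +kernel
theorem chkP_167025 : allRangeF (checkPointF cert) (nat_lit 167025) (nat_lit 25) = true := by decide +kernel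
theorem chkP_167050 : allRangeF (checkPointF cert) (nat_lit 167050) (nat_lit 25) = true := by decide +kernel
theorem chkP_167075 : allRangeF (checkPointF cert) (nat_lit 167075) (nat_lit 25) = true := by decide +kernel
theorem chkP_167100 : allRangeF (checkPointF cert) (nat_lit 167100) (nat_lit 25) = true := by decide +kernel
theorem chkP_167125 : allRangeF (checkPointF cert) (nat_lit 167125) (nat_lit 25) = true := by decide +kernel
theorem chkP_167150 : allRangeF (checkPointF cert) (nat_lit 167150) (nat_lit 25) = true := by decide +kernel
theorem chkP_167175 : allRangeF (checkPointF cert) (nat_lit 167175) (nat_lit 25) = true := by decide +kernel
theorem chkP_167200 : allRangeF (checkPointF cert) (nat_lit 167200) (nat_lit 25) = true := by decide +kernel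
theorem chkP_167225 : allRangeF (checkPointF cert) (nat_lit 167225) (nat_lit 25) = true := by decide +kernel
theorem chkP_167250 : allRangeF (checkPointF cert) (nat_lit 167250) (nat_lit 25) = true := by decide +kernel
theorem chkP_167275 : allRangeF (checkPointF cert) (nat_lit 167275) (nat_lit 25) = true := by decide +kernel
theorem chkP_167300 : allRangeF (checkPointF cert) (nat_lit 167300) (nat_lit 25) = true := by decide +kernel
theorem chkP_167325 : allRangeF (checkPointF cert) (nat_lit 167325) (nat_lit 25) = true := by decide +kernel
theorem chkP_167350 : allRangeF (checkPointF cert) (nat_lit 167350) (nat_lit 25) = true := by decide +kernel
theorem chkP_167375 : allRangeF (checkPointF cert) (nat_lit 167375) (nat_lit 25) = true := by decide +kernel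
theorem chkP_167400 : allRangeF (checkPointF cert) (nat_lit 167400) (nat_lit 25) = true := by decide +kernel
theorem chkP_167425 : allRangeF (checkPointF cert) (nat_lit 167425) (nat_lit 25) = true := by decide +kernel
theorem chkP_167450 : allRangeF (checkPointF cert) (nat_lit 167450) (nat_lit 25) = true := by decide +kernel
theorem chkP_167475 : allRangeF (checkPointF cert) (nat_lit 167475) (nat_lit 25) = true := by decide +kernel
theorem chkP_167500 : allRangeF (checkPointF cert) (nat_lit 167500) (nat_lit 25) = true := by decide +kernel
theorem chkP_167525 : allRangeF (checkPointF cert) (nat_lit 167525) (nat_lit 25) = true := by decide +kernel
theorem chkP_167550 : allRangeF (checkPointF cert) (nat_lit 167550) (nat_lit 25) = true := by decide +kernel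
theorem chkP_167575 : allRangeF (checkPointF cert) (nat_lit 167575) (nat_lit 25) = true := by decide +kernel
theorem chkP_167600 : allRangeF (checkPointF cert) (nat_lit 167600) (nat_lit 25) = true := by decide +kernel
theorem chkP_167625 : allRangeF (checkPointF cert) (nat_lit 167625) (nat_lit 25) = true := by decide +kernel
theorem chkP_167650 : allRangeF (checkPointF cert) (nat_lit 167650) (nat_lit 25) = true := by decide +kernel
theorem chkP_167675 : allRangeF (checkPointF cert) (nat_lit 167675) (nat_lit 25) = true := by decide +kernel
theorem chkP_167700 : allRangeF (checkPointF cert) (nat_lit 167700) (nat_lit 25) = true := by decide +kernel
theorem chkP_167725 : allRangeF (checkPointF cert) (nat_lit 167725) (nat_lit 25) = true := by decide +kernel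
theorem chkP_167750 : allRangeF (checkPointF cert) (nat_lit 167750) (nat_lit 25) = true := by decide +kernel
theorem chkP_167775 : allRangeF (checkPointF cert) (nat_lit 167775) (nat_lit 25) = true := by decide +kernel
theorem chkP_167800 : allRangeF (checkPointF cert) (nat_lit 167800) (nat_lit 25) = true := by decide +kernel
theorem chkP_167825 : allRangeF (checkPointF cert) (nat_lit 167825) (nat_lit 25) = true := by decide +kernel
theorem chkP_167850 : allRangeF (checkPointF cert) (nat_lit 167850) (nat_lit 25) = true := by decide +kernel
theorem chkP_167875 : allRangeF (checkPointF cert) (nat_lit 167875) (nat_lit 25) = true := by decide +kernel
theorem chkP_167900 : allRangeF (checkPointF cert) (nat_lit 167900) (nat_lit 25) = true := by decide +kernel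
theorem chkP_167925 : allRangeF (checkPointF cert) (nat_lit 167925) (nat_lit 25) = true := by decide +kernel
theorem chkP_167950 : allRangeF (checkPointF cert) (nat_lit 167950) (nat_lit 25) = true := by decide +kernel
theorem chkP_167975 : allRangeF (checkPointF cert) (nat_lit 167975) (nat_lit 25) = true := by decide +kernel
theorem chkP_168000 : allRangeF (checkPointF cert) (nat_lit 168000) (nat_lit 25) = true := by decide +kernel
theorem chkP_168025 : allRangeF (checkPointF cert) (nat_lit 168025) (nat_lit 25) = true := by decide +kernel
theorem chkP_168050 : allRangeF (checkPointF cert) (nat_lit 168050) (nat_lit 25) = true := by decide +kernel
theorem chkP_168075 : allRangeF (checkPointF cert) (nat_lit 168075) (nat_lit 25) = true := by decide +kernel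
theorem chkP_168100 : allRangeF (checkPointF cert) (nat_lit 168100) (nat_lit 25) = true := by decide +kernel
theorem chkP_168125 : allRangeF (checkPointF cert) (nat_lit 168125) (nat_lit 25) = true := by decide +kernel
theorem chkP_168150 : allRangeF (checkPointF cert) (nat_lit 168150) (nat_lit 25) = true := by decide +kernel
theorem chkP_168175 : allRangeF (checkPointF cert) (nat_lit 168175) (nat_lit 25) = true := by decide +kernel
theorem chkP_168200 : allRangeF (checkPointF cert) (nat_lit 168200) (nat_lit 25) = true := by decide +kernel
theorem chkP_168225 : allRangeF (checkPointF cert) (nat_lit 168225) (nat_lit 25) = true := by decide +kernel
theorem chkP_168250 : allRangeF (checkPointF cert) (nat_lit 168250) (nat_lit 25) = true := by decide +kernel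
theorem chkP_168275 : allRangeF (checkPointF cert) (nat_lit 168275) (nat_lit 25) = true := by decide +kernel
theorem chkP_168300 : allRangeF (checkPointF cert) (nat_lit 168300) (nat_lit 25) = true := by decide +kernel
theorem chkP_168325 : allRangeF (checkPointF cert) (nat_lit 168325) (nat_lit 25) = true := by decide +kernel
theorem chkP_168350 : allRangeF (checkPointF cert) (nat_lit 168350) (nat_lit 25) = true := by decide +kernel
theorem chkP_168375 : allRangeF (checkPointF cert) (nat_lit 168375) (nat_lit 25) = true := by decide +kernel
theorem chkP_168400 : allRangeF (checkPointF cert) (nat_lit 168400) (nat_lit 25) = true := by decide +kernel
theorem chkP_168425 : allRangeF (checkPointF cert) (nat_lit 168425) (nat_lit 25) = true := by decide +kernel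
theorem chkP_168450 : allRangeF (checkPointF cert) (nat_lit 168450) (nat_lit 25) = true := by decide +kernel
theorem chkP_168475 : allRangeF (checkPointF cert) (nat_lit 168475) (nat_lit 25) = true := by decide +kernel
theorem chkP_168500 : allRangeF (checkPointF cert) (nat_lit 168500) (nat_lit 25) = true := by decide +kernel
theorem chkP_168525 : allRangeF (checkPointF cert) (nat_lit 168525) (nat_lit 25) = true := by decide +kernel
theorem chkP_168550 : allRangeF (checkPointF cert) (nat_lit 168550) (nat_lit 25) = true := by decide +kernel
theorem chkP_168575 : allRangeF (checkPointF cert) (nat_lit 168575) (nat_lit 25) = true := by decide +kernel
theorem chkP_168600 : allRangeF (checkPointF cert) (nat_lit 168600) (nat_lit 25) = true := by decide +kernel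
theorem chkP_168625 : allRangeF (checkPointF cert) (nat_lit 168625) (nat_lit 25) = true := by decide +kernel
theorem chkP_168650 : allRangeF (checkPointF cert) (nat_lit 168650) (nat_lit 25) = true := by decide +kernel
theorem chkP_168675 : allRangeF (checkPointF cert) (nat_lit 168675) (nat_lit 25) = true := by decide +kernel
theorem chkP_168700 : allRangeF (checkPointF cert) (nat_lit 168700) (nat_lit 25) = true := by decide +kernel
theorem chkP_168725 : allRangeF (checkPointF cert) (nat_lit 168725) (nat_lit 25) = true := by decide +kernel
theorem chkP_168750 : allRangeF (checkPointF cert) (nat_lit 168750) (nat_lit 25) = true := by decide +kernel
theorem chkP_168775 : allRangeF (checkPointF cert) (nat_lit 168775) (nat_lit 25) = true := by decide +kernel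
theorem chkP_168800 : allRangeF (checkPointF cert) (nat_lit 168800) (nat_lit 25) = true := by decide +kernel
theorem chkP_168825 : allRangeF (checkPointF cert) (nat_lit 168825) (nat_lit 25) = true := by decide +kernel

theorem ptsRange_21 : ∀ i, 161175 ≤ i → i < 168850 → checkPoint cert i = true := by
  intro i hlo hhi
  rcases Nat.lt_or_ge i 165000 with h1 | h1
  · skip
    rcases Nat.lt_or_ge i 163075 with h2 | h2
    · skip
      rcases Nat.lt_or_ge i 162125 with h3 | h3
      · skip
        rcases Nat.lt_or_ge i 161650 with h4 | h4
        · skip
          rcases Nat.lt_or_ge i 161400 with h5 | h5
          · skip
            rcases Nat.lt_or_ge i 161275 with h6 | h6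
            · skip
              rcases Nat.lt_or_ge i 161225 with h7 | h7
              · skip
                rcases Nat.lt_or_ge i 161200 with h8 | h8
                · skip
                  exact allRangeF_sound _ _ (checkPointF_eq cert) 161175 25 chkP_161175 i (by omega) (by omega)
                · skip
                  exact allRangeF_sound _ _ (checkPointF_eq cert) 161200 25 chkP_161200 i (by omega) (by omega)
              · skip
                rcases Nat.lt_or_ge i 161250 with h8 | h8
                · skip
                  exact allRangeF_sound _ _ (checkPointF_eq cert) 161225 25 chkP_161225 i (by omega) (by omega)
                · skip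
                  exact allRangeF_sound _ _ (checkPointF_eq cert) 161250 25 chkP_161250 i (by omega) (by omega)
            · skip
              rcases Nat.lt_or_ge i 161325 with h7 | h7
              · skip
                rcases Nat.lt_or_ge i 161300 with h8 | h8
                · skip
                  exact allRangeF_sound _ _ (checkPointF_eq cert) 161275 25 chkP_161275 i (by omega) (by omega)
                · skip
                  exact allRangeF_sound _ _ (checkPointF_eq cert) 161300 25 chkP_161300 i (by omega) (by omega)
              · skip
                rcases Nat.lt_or_ge i 161350 with h8 | h8
                · skip
                  exact allRangeF_sound _ _ (checkPointF_eq cert) 161325 25 chkP_161325 i (by omega) (by omega)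
                · skip
                  rcases Nat.lt_or_ge i 161375 with h9 | h9
                  · skip
                    exact allRangeF_sound _ _ (checkPointF_eq cert) 161350 25 chkP_161350 i (by omega) (by omega)
                  · skip
                    exact allRangeF_sound _ _ (checkPointF_eq cert) 161375 25 chkP_161375 i (by omega) (by omega)
          · skip
            rcases Nat.lt_or_ge i 161525 with h6 | h6
            · skip
              rcases Nat.lt_or_ge i 161450 with h7 | h7
              · skip
                rcases Nat.lt_or_ge i 161425 with h8 | h8
                · skip
                  exact allRangeF_sound _ _ (checkPointF_eq cert) 161400 25 chkP_161400 i (by omega) (by omega)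
                · skip
                  exact allRangeF_sound _ _ (checkPointF_eq cert) 161425 25 chkP_161425 i (by omega) (by omega)
              · skip
                rcases Nat.lt_or_ge i 161475 with h8 | h8
                · skip
                  exact allRangeF_sound _ _ (checkPointF_eq cert) 161450 25 chkP_161450 i (by omega) (by omega)
                · skip
                  rcases Nat.lt_or_ge i 161500 with h9 | h9
                  · skip
                    exact allRangeF_sound _ _ (checkPointF_eq cert) 161475 25 chkP_161475 i (by omega) (by omega)
                  · skip
                    exact allRangeF_sound _ _ (checkPointF_eq cert) 161500 25 chkP_161500 i (by omega) (by omega)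
            · skip
              rcases Nat.lt_or_ge i 161575 with h7 | h7
              · skip
                rcases Nat.lt_or_ge i 161550 with h8 | h8
                · skip
                  exact allRangeF_sound _ _ (checkPointF_eq cert) 161525 25 chkP_161525 i (by omega) (by omega)
                · skip
                  exact allRangeF_sound _ _ (checkPointF_eq cert) 161550 25 chkP_161550 i (by omega) (by omega)
              · skip
                rcases Nat.lt_or_ge i 161600 with h8 | h8
                · skip
                  exact allRangeF_sound _ _ (checkPointF_eq cert) 161575 25 chkP_161575 i (by omega) (by omega)
                · skip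
                  rcases Nat.lt_or_ge i 161625 with h9 | h9
                  · skip
                    exact allRangeF_sound _ _ (checkPointF_eq cert) 161600 25 chkP_161600 i (by omega) (by omega)
                  · skip
                    exact allRangeF_sound _ _ (checkPointF_eq cert) 161625 25 chkP_161625 i (by omega) (by omega)
        · skip
          rcases Nat.lt_or_ge i 161875 with h5 | h5
          · skip
            rcases Nat.lt_or_ge i 161750 with h6 | h6
            · skip
              rcases Nat.lt_or_ge i 161700 with h7 | h7
              · skip
                rcases Nat.lt_or_ge i 161675 with h8 | h8
                · skip
                  exact allRangeF_sound _ _ (checkPointF_eq cert) 161650 25 chkP_161650 i (by omega) (by omega)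
                · skip
                  exact allRangeF_sound _ _ (checkPointF_eq cert) 161675 25 chkP_161675 i (by omega) (by omega)
              · skip
                rcases Nat.lt_or_ge i 161725 with h8 | h8
                · skip
                  exact allRangeF_sound _ _ (checkPointF_eq cert) 161700 25 chkP_161700 i (by omega) (by omega)
                · skip
                  exact allRangeF_sound _ _ (checkPointF_eq cert) 161725 25 chkP_161725 i (by omega) (by omega)
            · skip
              rcases Nat.lt_or_ge i 161800 with h7 | h7
              · skip
                rcases Nat.lt_or_ge i 161775 with h8 | h8
                · skip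
                  exact allRangeF_sound _ _ (checkPointF_eq cert) 161750 25 chkP_161750 i (by omega) (by omega)
                · skip
                  exact allRangeF_sound _ _ (checkPointF_eq cert) 161775 25 chkP_161775 i (by omega) (by omega)
              · skip
                rcases Nat.lt_or_ge i 161825 with h8 | h8
                · skip
                  exact allRangeF_sound _ _ (checkPointF_eq cert) 161800 25 chkP_161800 i (by omega) (by omega)
                · skip
                  rcases Nat.lt_or_ge i 161850 with h9 | h9
                  · skip
                    exact allRangeF_sound _ _ (checkPointF_eq cert) 161825 25 chkP_161825 i (by omega) (by omega)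
                  · skip
                    exact allRangeF_sound _ _ (checkPointF_eq cert) 161850 25 chkP_161850 i (by omega) (by omega)
          · skip
            rcases Nat.lt_or_ge i 162000 with h6 | h6
            · skip
              rcases Nat.lt_or_ge i 161925 with h7 | h7
              · skip
                rcases Nat.lt_or_ge i 161900 with h8 | h8
                · skip
                  exact allRangeF_sound _ _ (checkPointF_eq cert) 161875 25 chkP_161875 i (by omega) (by omega)
                · skip
                  exact allRangeF_sound _ _ (checkPointF_eq cert) 161900 25 chkP_161900 i (by omega) (by omega)
              · skip
                rcases Nat.lt_or_ge i 161950 with h8 | h8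
                · skip
                  exact allRangeF_sound _ _ (checkPointF_eq cert) 161925 25 chkP_161925 i (by omega) (by omega)
                · skip
                  rcases Nat.lt_or_ge i 161975 with h9 | h9
                  · skip
                    exact allRangeF_sound _ _ (checkPointF_eq cert) 161950 25 chkP_161950 i (by omega) (by omega)
                  · skip
                    exact allRangeF_sound _ _ (checkPointF_eq cert) 161975 25 chkP_161975 i (by omega) (by omega)
            · skip
              rcases Nat.lt_or_ge i 162050 with h7 | h7
              · skip
                rcases Nat.lt_or_ge i 162025 with h8 | h8
                · skip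
                  exact allRangeF_sound _ _ (checkPointF_eq cert) 162000 25 chkP_162000 i (by omega) (by omega)
                · skip
                  exact allRangeF_sound _ _ (checkPointF_eq cert) 162025 25 chkP_162025 i (by omega) (by omega)
              · skip
                rcases Nat.lt_or_ge i 162075 with h8 | h8
                · skip
                  exact allRangeF_sound _ _ (checkPointF_eq cert) 162050 25 chkP_162050 i (by omega) (by omega)
                · skip
                  rcases Nat.lt_or_ge i 162100 with h9 | h9
                  · skip
                    exact allRangeF_sound _ _ (checkPointF_eq cert) 162075 25 chkP_162075 i (by omega) (by omega)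
                  · skip
                    exact allRangeF_sound _ _ (checkPointF_eq cert) 162100 25 chkP_162100 i (by omega) (by omega)
      · skip
        rcases Nat.lt_or_ge i 162600 with h4 | h4
        · skip
          rcases Nat.lt_or_ge i 162350 with h5 | h5
          · skip
            rcases Nat.lt_or_ge i 162225 with h6 | h6
            · skip
              rcases Nat.lt_or_ge i 162175 with h7 | h7
              · skip
                rcases Nat.lt_or_ge i 162150 with h8 | h8
                · skip
                  exact allRangeF_sound _ _ (checkPointF_eq cert) 162125 25 chkP_162125 i (by omega) (by omega)
                · skip
                  exact allRangeF_sound _ _ (checkPointF_eq cert) 162150 25 chkP_162150 i (by omega) (by omega)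
              · skip
                rcases Nat.lt_or_ge i 162200 with h8 | h8
                · skip
                  exact allRangeF_sound _ _ (checkPointF_eq cert) 162175 25 chkP_162175 i (by omega) (by omega)
                · skip
                  exact allRangeF_sound _ _ (checkPointF_eq cert) 162200 25 chkP_162200 i (by omega) (by omega)
            · skip
              rcases Nat.lt_or_ge i 162275 with h7 | h7
              · skip
                rcases Nat.lt_or_ge i 162250 with h8 | h8
                · skip
                  exact allRangeF_sound _ _ (checkPointF_eq cert) 162225 25 chkP_162225 i (by omega) (by omega)
                · skip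
                  exact allRangeF_sound _ _ (checkPointF_eq cert) 162250 25 chkP_162250 i (by omega) (by omega)
              · skip
                rcases Nat.lt_or_ge i 162300 with h8 | h8
                · skip
                  exact allRangeF_sound _ _ (checkPointF_eq cert) 162275 25 chkP_162275 i (by omega) (by omega)
                · skip
                  rcases Nat.lt_or_ge i 162325 with h9 | h9
                  · skip
                    exact allRangeF_sound _ _ (checkPointF_eq cert) 162300 25 chkP_162300 i (by omega) (by omega)
                  · skip
                    exact allRangeF_sound _ _ (checkPointF_eq cert) 162325 25 chkP_162325 i (by omega) (by omega)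
          · skip
            rcases Nat.lt_or_ge i 162475 with h6 | h6
            · skip
              rcases Nat.lt_or_ge i 162400 with h7 | h7
              · skip
                rcases Nat.lt_or_ge i 162375 with h8 | h8
                · skip
                  exact allRangeF_sound _ _ (checkPointF_eq cert) 162350 25 chkP_162350 i (by omega) (by omega)
                · skip
                  exact allRangeF_sound _ _ (checkPointF_eq cert) 162375 25 chkP_162375 i (by omega) (by omega)
              · skip
                rcases Nat.lt_or_ge i 162425 with h8 | h8
                · skip
                  exact allRangeF_sound _ _ (checkPointF_eq cert) 162400 25 chkP_162400 i (by omega) (by omega)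
                · skip
                  rcases Nat.lt_or_ge i 162450 with h9 | h9
                  · skip
                    exact allRangeF_sound _ _ (checkPointF_eq cert) 162425 25 chkP_162425 i (by omega) (by omega)
                  · skip
                    exact allRangeF_sound _ _ (checkPointF_eq cert) 162450 25 chkP_162450 i (by omega) (by omega)
            · skip
              rcases Nat.lt_or_ge i 162525 with h7 | h7
              · skip
                rcases Nat.lt_or_ge i 162500 with h8 | h8
                · skip
                  exact allRangeF_sound _ _ (checkPointF_eq cert) 162475 25 chkP_162475 i (by omega) (by omega)
                · skip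
                  exact allRangeF_sound _ _ (checkPointF_eq cert) 162500 25 chkP_162500 i (by omega) (by omega)
              · skip
                rcases Nat.lt_or_ge i 162550 with h8 | h8
                · skip
                  exact allRangeF_sound _ _ (checkPointF_eq cert) 162525 25 chkP_162525 i (by omega) (by omega)
                · skip
                  rcases Nat.lt_or_ge i 162575 with h9 | h9
                  · skip
                    exact allRangeF_sound _ _ (checkPointF_eq cert) 162550 25 chkP_162550 i (by omega) (by omega)
                  · skip
                    exact allRangeF_sound _ _ (checkPointF_eq cert) 162575 25 chkP_162575 i (by omega) (by omega)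
        · skip
          rcases Nat.lt_or_ge i 162825 with h5 | h5
          · skip
            rcases Nat.lt_or_ge i 162700 with h6 | h6
            · skip
              rcases Nat.lt_or_ge i 162650 with h7 | h7
              · skip
                rcases Nat.lt_or_ge i 162625 with h8 | h8
                · skip
                  exact allRangeF_sound _ _ (checkPointF_eq cert) 162600 25 chkP_162600 i (by omega) (by omega)
                · skip
                  exact allRangeF_sound _ _ (checkPointF_eq cert) 162625 25 chkP_162625 i (by omega) (by omega)
              · skip
                rcases Nat.lt_or_ge i 162675 with h8 | h8
                · skip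
                  exact allRangeF_sound _ _ (checkPointF_eq cert) 162650 25 chkP_162650 i (by omega) (by omega)
                · skip
                  exact allRangeF_sound _ _ (checkPointF_eq cert) 162675 25 chkP_162675 i (by omega) (by omega)
            · skip
              rcases Nat.lt_or_ge i 162750 with h7 | h7
              · skip
                rcases Nat.lt_or_ge i 162725 with h8 | h8
                · skip
                  exact allRangeF_sound _ _ (checkPointF_eq cert) 162700 25 chkP_162700 i (by omega) (by omega)
                · skip
                  exact allRangeF_sound _ _ (checkPointF_eq cert) 162725 25 chkP_162725 i (by omega) (by omega)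
              · skip
                rcases Nat.lt_or_ge i 162775 with h8 | h8
                · skip
                  exact allRangeF_sound _ _ (checkPointF_eq cert) 162750 25 chkP_162750 i (by omega) (by omega)
                · skip
                  rcases Nat.lt_or_ge i 162800 with h9 | h9
                  · skip
                    exact allRangeF_sound _ _ (checkPointF_eq cert) 162775 25 chkP_162775 i (by omega) (by omega)
                  · skip
                    exact allRangeF_sound _ _ (checkPointF_eq cert) 162800 25 chkP_162800 i (by omega) (by omega)
          · skip
            rcases Nat.lt_or_ge i 162950 with h6 | h6
            · skip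
              rcases Nat.lt_or_ge i 162875 with h7 | h7
              · skip
                rcases Nat.lt_or_ge i 162850 with h8 | h8
                · skip
                  exact allRangeF_sound _ _ (checkPointF_eq cert) 162825 25 chkP_162825 i (by omega) (by omega)
                · skip
                  exact allRangeF_sound _ _ (checkPointF_eq cert) 162850 25 chkP_162850 i (by omega) (by omega)
              · skip
                rcases Nat.lt_or_ge i 162900 with h8 | h8
                · skip
                  exact allRangeF_sound _ _ (checkPointF_eq cert) 162875 25 chkP_162875 i (by omega) (by omega)
                · skip
                  rcases Nat.lt_or_ge i 162925 with h9 | h9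
                  · skip
                    exact allRangeF_sound _ _ (checkPointF_eq cert) 162900 25 chkP_162900 i (by omega) (by omega)
                  · skip
                    exact allRangeF_sound _ _ (checkPointF_eq cert) 162925 25 chkP_162925 i (by omega) (by omega)
            · skip
              rcases Nat.lt_or_ge i 163000 with h7 | h7
              · skip
                rcases Nat.lt_or_ge i 162975 with h8 | h8
                · skip
                  exact allRangeF_sound _ _ (checkPointF_eq cert) 162950 25 chkP_162950 i (by omega) (by omega)
                · skip
                  exact allRangeF_sound _ _ (checkPointF_eq cert) 162975 25 chkP_162975 i (by omega) (by omega)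
              · skip
                rcases Nat.lt_or_ge i 163025 with h8 | h8
                · skip
                  exact allRangeF_sound _ _ (checkPointF_eq cert) 163000 25 chkP_163000 i (by omega) (by omega)
                · skip
                  rcases Nat.lt_or_ge i 163050 with h9 | h9
                  · skip
                    exact allRangeF_sound _ _ (checkPointF_eq cert) 163025 25 chkP_163025 i (by omega) (by omega)
                  · skip
                    exact allRangeF_sound _ _ (checkPointF_eq cert) 163050 25 chkP_163050 i (by omega) (by omega)
    · skip
      rcases Nat.lt_or_ge i 164025 with h3 | h3
      · skip
        rcases Nat.lt_or_ge i 163550 with h4 | h4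
        · skip
          rcases Nat.lt_or_ge i 163300 with h5 | h5
          · skip
            rcases Nat.lt_or_ge i 163175 with h6 | h6
            · skip
              rcases Nat.lt_or_ge i 163125 with h7 | h7
              · skip
                rcases Nat.lt_or_ge i 163100 with h8 | h8
                · skip
                  exact allRangeF_sound _ _ (checkPointF_eq cert) 163075 25 chkP_163075 i (by omega) (by omega)
                · skip
                  exact allRangeF_sound _ _ (checkPointF_eq cert) 163100 25 chkP_163100 i (by omega) (by omega)
              · skip
                rcases Nat.lt_or_ge i 163150 with h8 | h8
                · skip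
                  exact allRangeF_sound _ _ (checkPointF_eq cert) 163125 25 chkP_163125 i (by omega) (by omega)
                · skip
                  exact allRangeF_sound _ _ (checkPointF_eq cert) 163150 25 chkP_163150 i (by omega) (by omega)
            · skip
              rcases Nat.lt_or_ge i 163225 with h7 | h7
              · skip
                rcases Nat.lt_or_ge i 163200 with h8 | h8
                · skip
                  exact allRangeF_sound _ _ (checkPointF_eq cert) 163175 25 chkP_163175 i (by omega) (by omega)
                · skip
                  exact allRangeF_sound _ _ (checkPointF_eq cert) 163200 25 chkP_163200 i (by omega) (by omega)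
              · skip
                rcases Nat.lt_or_ge i 163250 with h8 | h8
                · skip
                  exact allRangeF_sound _ _ (checkPointF_eq cert) 163225 25 chkP_163225 i (by omega) (by omega)
                · skip
                  rcases Nat.lt_or_ge i 163275 with h9 | h9
                  · skip
                    exact allRangeF_sound _ _ (checkPointF_eq cert) 163250 25 chkP_163250 i (by omega) (by omega)
                  · skip
                    exact allRangeF_sound _ _ (checkPointF_eq cert) 163275 25 chkP_163275 i (by omega) (by omega)
          · skip
            rcases Nat.lt_or_ge i 163425 with h6 | h6
            · skip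
              rcases Nat.lt_or_ge i 163350 with h7 | h7
              · skip
                rcases Nat.lt_or_ge i 163325 with h8 | h8
                · skip
                  exact allRangeF_sound _ _ (checkPointF_eq cert) 163300 25 chkP_163300 i (by omega) (by omega)
                · skip
                  exact allRangeF_sound _ _ (checkPointF_eq cert) 163325 25 chkP_163325 i (by omega) (by omega)
              · skip
                rcases Nat.lt_or_ge i 163375 with h8 | h8
                · skip
                  exact allRangeF_sound _ _ (checkPointF_eq cert) 163350 25 chkP_163350 i (by omega) (by omega)
                · skip
                  rcases Nat.lt_or_ge i 163400 with h9 | h9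
                  · skip
                    exact allRangeF_sound _ _ (checkPointF_eq cert) 163375 25 chkP_163375 i (by omega) (by omega)
                  · skip
                    exact allRangeF_sound _ _ (checkPointF_eq cert) 163400 25 chkP_163400 i (by omega) (by omega)
            · skip
              rcases Nat.lt_or_ge i 163475 with h7 | h7
              · skip
                rcases Nat.lt_or_ge i 163450 with h8 | h8
                · skip
                  exact allRangeF_sound _ _ (checkPointF_eq cert) 163425 25 chkP_163425 i (by omega) (by omega)
                · skip
                  exact allRangeF_sound _ _ (checkPointF_eq cert) 163450 25 chkP_163450 i (by omega) (by omega)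
              · skip
                rcases Nat.lt_or_ge i 163500 with h8 | h8
                · skip
                  exact allRangeF_sound _ _ (checkPointF_eq cert) 163475 25 chkP_163475 i (by omega) (by omega)
                · skip
                  rcases Nat.lt_or_ge i 163525 with h9 | h9
                  · skip
                    exact allRangeF_sound _ _ (checkPointF_eq cert) 163500 25 chkP_163500 i (by omega) (by omega)
                  · skip
                    exact allRangeF_sound _ _ (checkPointF_eq cert) 163525 25 chkP_163525 i (by omega) (by omega)
        · skip
          rcases Nat.lt_or_ge i 163775 with h5 | h5
          · skip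
            rcases Nat.lt_or_ge i 163650 with h6 | h6
            · skip
              rcases Nat.lt_or_ge i 163600 with h7 | h7
              · skip
                rcases Nat.lt_or_ge i 163575 with h8 | h8
                · skip
                  exact allRangeF_sound _ _ (checkPointF_eq cert) 163550 25 chkP_163550 i (by omega) (by omega)
                · skip
                  exact allRangeF_sound _ _ (checkPointF_eq cert) 163575 25 chkP_163575 i (by omega) (by omega)
              · skip
                rcases Nat.lt_or_ge i 163625 with h8 | h8
                · skip
                  exact allRangeF_sound _ _ (checkPointF_eq cert) 163600 25 chkP_163600 i (by omega) (by omega)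
                · skip
                  exact allRangeF_sound _ _ (checkPointF_eq cert) 163625 25 chkP_163625 i (by omega) (by omega)
            · skip
              rcases Nat.lt_or_ge i 163700 with h7 | h7
              · skip
                rcases Nat.lt_or_ge i 163675 with h8 | h8
                · skip
                  exact allRangeF_sound _ _ (checkPointF_eq cert) 163650 25 chkP_163650 i (by omega) (by omega)
                · skip
                  exact allRangeF_sound _ _ (checkPointF_eq cert) 163675 25 chkP_163675 i (by omega) (by omega)
              · skip
                rcases Nat.lt_or_ge i 163725 with h8 | h8
                · skip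
                  exact allRangeF_sound _ _ (checkPointF_eq cert) 163700 25 chkP_163700 i (by omega) (by omega)
                · skip
                  rcases Nat.lt_or_ge i 163750 with h9 | h9
                  · skip
                    exact allRangeF_sound _ _ (checkPointF_eq cert) 163725 25 chkP_163725 i (by omega) (by omega)
                  · skip
                    exact allRangeF_sound _ _ (checkPointF_eq cert) 163750 25 chkP_163750 i (by omega) (by omega)
          · skip
            rcases Nat.lt_or_ge i 163900 with h6 | h6
            · skip
              rcases Nat.lt_or_ge i 163825 with h7 | h7
              · skip
                rcases Nat.lt_or_ge i 163800 with h8 | h8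
                · skip
                  exact allRangeF_sound _ _ (checkPointF_eq cert) 163775 25 chkP_163775 i (by omega) (by omega)
                · skip
                  exact allRangeF_sound _ _ (checkPointF_eq cert) 163800 25 chkP_163800 i (by omega) (by omega)
              · skip
                rcases Nat.lt_or_ge i 163850 with h8 | h8
                · skip
                  exact allRangeF_sound _ _ (checkPointF_eq cert) 163825 25 chkP_163825 i (by omega) (by omega)
                · skip
                  rcases Nat.lt_or_ge i 163875 with h9 | h9
                  · skip
                    exact allRangeF_sound _ _ (checkPointF_eq cert) 163850 25 chkP_163850 i (by omega) (by omega)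
                  · skip
                    exact allRangeF_sound _ _ (checkPointF_eq cert) 163875 25 chkP_163875 i (by omega) (by omega)
            · skip
              rcases Nat.lt_or_ge i 163950 with h7 | h7
              · skip
                rcases Nat.lt_or_ge i 163925 with h8 | h8
                · skip
                  exact allRangeF_sound _ _ (checkPointF_eq cert) 163900 25 chkP_163900 i (by omega) (by omega)
                · skip
                  exact allRangeF_sound _ _ (checkPointF_eq cert) 163925 25 chkP_163925 i (by omega) (by omega)
              · skip
                rcases Nat.lt_or_ge i 163975 with h8 | h8
                · skip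
                  exact allRangeF_sound _ _ (checkPointF_eq cert) 163950 25 chkP_163950 i (by omega) (by omega)
                · skip
                  rcases Nat.lt_or_ge i 164000 with h9 | h9
                  · skip
                    exact allRangeF_sound _ _ (checkPointF_eq cert) 163975 25 chkP_163975 i (by omega) (by omega)
                  · skip
                    exact allRangeF_sound _ _ (checkPointF_eq cert) 164000 25 chkP_164000 i (by omega) (by omega)
      · skip
        rcases Nat.lt_or_ge i 164500 with h4 | h4
        · skip
          rcases Nat.lt_or_ge i 164250 with h5 | h5
          · skip
            rcases Nat.lt_or_ge i 164125 with h6 | h6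
            · skip
              rcases Nat.lt_or_ge i 164075 with h7 | h7
              · skip
                rcases Nat.lt_or_ge i 164050 with h8 | h8
                · skip
                  exact allRangeF_sound _ _ (checkPointF_eq cert) 164025 25 chkP_164025 i (by omega) (by omega)
                · skip
                  exact allRangeF_sound _ _ (checkPointF_eq cert) 164050 25 chkP_164050 i (by omega) (by omega)
              · skip
                rcases Nat.lt_or_ge i 164100 with h8 | h8
                · skip
                  exact allRangeF_sound _ _ (checkPointF_eq cert) 164075 25 chkP_164075 i (by omega) (by omega)
                · skip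
                  exact allRangeF_sound _ _ (checkPointF_eq cert) 164100 25 chkP_164100 i (by omega) (by omega)
            · skip
              rcases Nat.lt_or_ge i 164175 with h7 | h7
              · skip
                rcases Nat.lt_or_ge i 164150 with h8 | h8
                · skip
                  exact allRangeF_sound _ _ (checkPointF_eq cert) 164125 25 chkP_164125 i (by omega) (by omega)
                · skip
                  exact allRangeF_sound _ _ (checkPointF_eq cert) 164150 25 chkP_164150 i (by omega) (by omega)
              · skip
                rcases Nat.lt_or_ge i 164200 with h8 | h8
                · skip
                  exact allRangeF_sound _ _ (checkPointF_eq cert) 164175 25 chkP_164175 i (by omega) (by omega)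
                · skip
                  rcases Nat.lt_or_ge i 164225 with h9 | h9
                  · skip
                    exact allRangeF_sound _ _ (checkPointF_eq cert) 164200 25 chkP_164200 i (by omega) (by omega)
                  · skip
                    exact allRangeF_sound _ _ (checkPointF_eq cert) 164225 25 chkP_164225 i (by omega) (by omega)
          · skip
            rcases Nat.lt_or_ge i 164375 with h6 | h6
            · skip
              rcases Nat.lt_or_ge i 164300 with h7 | h7
              · skip
                rcases Nat.lt_or_ge i 164275 with h8 | h8
                · skip
                  exact allRangeF_sound _ _ (checkPointF_eq cert) 164250 25 chkP_164250 i (by omega) (by omega)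
                · skip
                  exact allRangeF_sound _ _ (checkPointF_eq cert) 164275 25 chkP_164275 i (by omega) (by omega)
              · skip
                rcases Nat.lt_or_ge i 164325 with h8 | h8
                · skip
                  exact allRangeF_sound _ _ (checkPointF_eq cert) 164300 25 chkP_164300 i (by omega) (by omega)
                · skip
                  rcases Nat.lt_or_ge i 164350 with h9 | h9
                  · skip
                    exact allRangeF_sound _ _ (checkPointF_eq cert) 164325 25 chkP_164325 i (by omega) (by omega)
                  · skip
                    exact allRangeF_sound _ _ (checkPointF_eq cert) 164350 25 chkP_164350 i (by omega) (by omega)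
            · skip
              rcases Nat.lt_or_ge i 164425 with h7 | h7
              · skip
                rcases Nat.lt_or_ge i 164400 with h8 | h8
                · skip
                  exact allRangeF_sound _ _ (checkPointF_eq cert) 164375 25 chkP_164375 i (by omega) (by omega)
                · skip
                  exact allRangeF_sound _ _ (checkPointF_eq cert) 164400 25 chkP_164400 i (by omega) (by omega)
              · skip
                rcases Nat.lt_or_ge i 164450 with h8 | h8
                · skip
                  exact allRangeF_sound _ _ (checkPointF_eq cert) 164425 25 chkP_164425 i (by omega) (by omega)
                · skip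
                  rcases Nat.lt_or_ge i 164475 with h9 | h9
                  · skip
                    exact allRangeF_sound _ _ (checkPointF_eq cert) 164450 25 chkP_164450 i (by omega) (by omega)
                  · skip
                    exact allRangeF_sound _ _ (checkPointF_eq cert) 164475 25 chkP_164475 i (by omega) (by omega)
        · skip
          rcases Nat.lt_or_ge i 164750 with h5 | h5
          · skip
            rcases Nat.lt_or_ge i 164625 with h6 | h6
            · skip
              rcases Nat.lt_or_ge i 164550 with h7 | h7
              · skip
                rcases Nat.lt_or_ge i 164525 with h8 | h8
                · skip
                  exact allRangeF_sound _ _ (checkPointF_eq cert) 164500 25 chkP_164500 i (by omega) (by omega)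
                · skip
                  exact allRangeF_sound _ _ (checkPointF_eq cert) 164525 25 chkP_164525 i (by omega) (by omega)
              · skip
                rcases Nat.lt_or_ge i 164575 with h8 | h8
                · skip
                  exact allRangeF_sound _ _ (checkPointF_eq cert) 164550 25 chkP_164550 i (by omega) (by omega)
                · skip
                  rcases Nat.lt_or_ge i 164600 with h9 | h9
                  · skip
                    exact allRangeF_sound _ _ (checkPointF_eq cert) 164575 25 chkP_164575 i (by omega) (by omega)
                  · skip
                    exact allRangeF_sound _ _ (checkPointF_eq cert) 164600 25 chkP_164600 i (by omega) (by omega)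
            · skip
              rcases Nat.lt_or_ge i 164675 with h7 | h7
              · skip
                rcases Nat.lt_or_ge i 164650 with h8 | h8
                · skip
                  exact allRangeF_sound _ _ (checkPointF_eq cert) 164625 25 chkP_164625 i (by omega) (by omega)
                · skip
                  exact allRangeF_sound _ _ (checkPointF_eq cert) 164650 25 chkP_164650 i (by omega) (by omega)
              · skip
                rcases Nat.lt_or_ge i 164700 with h8 | h8
                · skip
                  exact allRangeF_sound _ _ (checkPointF_eq cert) 164675 25 chkP_164675 i (by omega) (by omega)
                · skip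
                  rcases Nat.lt_or_ge i 164725 with h9 | h9
                  · skip
                    exact allRangeF_sound _ _ (checkPointF_eq cert) 164700 25 chkP_164700 i (by omega) (by omega)
                  · skip
                    exact allRangeF_sound _ _ (checkPointF_eq cert) 164725 25 chkP_164725 i (by omega) (by omega)
          · skip
            rcases Nat.lt_or_ge i 164875 with h6 | h6
            · skip
              rcases Nat.lt_or_ge i 164800 with h7 | h7
              · skip
                rcases Nat.lt_or_ge i 164775 with h8 | h8
                · skip
                  exact allRangeF_sound _ _ (checkPointF_eq cert) 164750 25 chkP_164750 i (by omega) (by omega)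
                · skip
                  exact allRangeF_sound _ _ (checkPointF_eq cert) 164775 25 chkP_164775 i (by omega) (by omega)
              · skip
                rcases Nat.lt_or_ge i 164825 with h8 | h8
                · skip
                  exact allRangeF_sound _ _ (checkPointF_eq cert) 164800 25 chkP_164800 i (by omega) (by omega)
                · skip
                  rcases Nat.lt_or_ge i 164850 with h9 | h9
                  · skip
                    exact allRangeF_sound _ _ (checkPointF_eq cert) 164825 25 chkP_164825 i (by omega) (by omega)
                  · skip
                    exact allRangeF_sound _ _ (checkPointF_eq cert) 164850 25 chkP_164850 i (by omega) (by omega)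
            · skip
              rcases Nat.lt_or_ge i 164925 with h7 | h7
              · skip
                rcases Nat.lt_or_ge i 164900 with h8 | h8
                · skip
                  exact allRangeF_sound _ _ (checkPointF_eq cert) 164875 25 chkP_164875 i (by omega) (by omega)
                · skip
                  exact allRangeF_sound _ _ (checkPointF_eq cert) 164900 25 chkP_164900 i (by omega) (by omega)
              · skip
                rcases Nat.lt_or_ge i 164950 with h8 | h8
                · skip
                  exact allRangeF_sound _ _ (checkPointF_eq cert) 164925 25 chkP_164925 i (by omega) (by omega)
                · skip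
                  rcases Nat.lt_or_ge i 164975 with h9 | h9
                  · skip
                    exact allRangeF_sound _ _ (checkPointF_eq cert) 164950 25 chkP_164950 i (by omega) (by omega)
                  · skip
                    exact allRangeF_sound _ _ (checkPointF_eq cert) 164975 25 chkP_164975 i (by omega) (by omega)
  · skip
    rcases Nat.lt_or_ge i 166925 with h2 | h2
    · skip
      rcases Nat.lt_or_ge i 165950 with h3 | h3
      · skip
        rcases Nat.lt_or_ge i 165475 with h4 | h4
        · skip
          rcases Nat.lt_or_ge i 165225 with h5 | h5
          · skip
            rcases Nat.lt_or_ge i 165100 with h6 | h6
            · skip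
              rcases Nat.lt_or_ge i 165050 with h7 | h7
              · skip
                rcases Nat.lt_or_ge i 165025 with h8 | h8
                · skip
                  exact allRangeF_sound _ _ (checkPointF_eq cert) 165000 25 chkP_165000 i (by omega) (by omega)
                · skip
                  exact allRangeF_sound _ _ (checkPointF_eq cert) 165025 25 chkP_165025 i (by omega) (by omega)
              · skip
                rcases Nat.lt_or_ge i 165075 with h8 | h8
                · skip
                  exact allRangeF_sound _ _ (checkPointF_eq cert) 165050 25 chkP_165050 i (by omega) (by omega)
                · skip
                  exact allRangeF_sound _ _ (checkPointF_eq cert) 165075 25 chkP_165075 i (by omega) (by omega)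
            · skip
              rcases Nat.lt_or_ge i 165150 with h7 | h7
              · skip
                rcases Nat.lt_or_ge i 165125 with h8 | h8
                · skip
                  exact allRangeF_sound _ _ (checkPointF_eq cert) 165100 25 chkP_165100 i (by omega) (by omega)
                · skip
                  exact allRangeF_sound _ _ (checkPointF_eq cert) 165125 25 chkP_165125 i (by omega) (by omega)
              · skip
                rcases Nat.lt_or_ge i 165175 with h8 | h8
                · skip
                  exact allRangeF_sound _ _ (checkPointF_eq cert) 165150 25 chkP_165150 i (by omega) (by omega)
                · skip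
                  rcases Nat.lt_or_ge i 165200 with h9 | h9
                  · skip
                    exact allRangeF_sound _ _ (checkPointF_eq cert) 165175 25 chkP_165175 i (by omega) (by omega)
                  · skip
                    exact allRangeF_sound _ _ (checkPointF_eq cert) 165200 25 chkP_165200 i (by omega) (by omega)
          · skip
            rcases Nat.lt_or_ge i 165350 with h6 | h6
            · skip
              rcases Nat.lt_or_ge i 165275 with h7 | h7
              · skip
                rcases Nat.lt_or_ge i 165250 with h8 | h8
                · skip
                  exact allRangeF_sound _ _ (checkPointF_eq cert) 165225 25 chkP_165225 i (by omega) (by omega)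
                · skip
                  exact allRangeF_sound _ _ (checkPointF_eq cert) 165250 25 chkP_165250 i (by omega) (by omega)
              · skip
                rcases Nat.lt_or_ge i 165300 with h8 | h8
                · skip
                  exact allRangeF_sound _ _ (checkPointF_eq cert) 165275 25 chkP_165275 i (by omega) (by omega)
                · skip
                  rcases Nat.lt_or_ge i 165325 with h9 | h9
                  · skip
                    exact allRangeF_sound _ _ (checkPointF_eq cert) 165300 25 chkP_165300 i (by omega) (by omega)
                  · skip
                    exact allRangeF_sound _ _ (checkPointF_eq cert) 165325 25 chkP_165325 i (by omega) (by omega)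
            · skip
              rcases Nat.lt_or_ge i 165400 with h7 | h7
              · skip
                rcases Nat.lt_or_ge i 165375 with h8 | h8
                · skip
                  exact allRangeF_sound _ _ (checkPointF_eq cert) 165350 25 chkP_165350 i (by omega) (by omega)
                · skip
                  exact allRangeF_sound _ _ (checkPointF_eq cert) 165375 25 chkP_165375 i (by omega) (by omega)
              · skip
                rcases Nat.lt_or_ge i 165425 with h8 | h8
                · skip
                  exact allRangeF_sound _ _ (checkPointF_eq cert) 165400 25 chkP_165400 i (by omega) (by omega)
                · skip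
                  rcases Nat.lt_or_ge i 165450 with h9 | h9
                  · skip
                    exact allRangeF_sound _ _ (checkPointF_eq cert) 165425 25 chkP_165425 i (by omega) (by omega)
                  · skip
                    exact allRangeF_sound _ _ (checkPointF_eq cert) 165450 25 chkP_165450 i (by omega) (by omega)
        · skip
          rcases Nat.lt_or_ge i 165700 with h5 | h5
          · skip
            rcases Nat.lt_or_ge i 165575 with h6 | h6
            · skip
              rcases Nat.lt_or_ge i 165525 with h7 | h7
              · skip
                rcases Nat.lt_or_ge i 165500 with h8 | h8
                · skip
                  exact allRangeF_sound _ _ (checkPointF_eq cert) 165475 25 chkP_165475 i (by omega) (by omega)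
                · skip
                  exact allRangeF_sound _ _ (checkPointF_eq cert) 165500 25 chkP_165500 i (by omega) (by omega)
              · skip
                rcases Nat.lt_or_ge i 165550 with h8 | h8
                · skip
                  exact allRangeF_sound _ _ (checkPointF_eq cert) 165525 25 chkP_165525 i (by omega) (by omega)
                · skip
                  exact allRangeF_sound _ _ (checkPointF_eq cert) 165550 25 chkP_165550 i (by omega) (by omega)
            · skip
              rcases Nat.lt_or_ge i 165625 with h7 | h7
              · skip
                rcases Nat.lt_or_ge i 165600 with h8 | h8
                · skip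
                  exact allRangeF_sound _ _ (checkPointF_eq cert) 165575 25 chkP_165575 i (by omega) (by omega)
                · skip
                  exact allRangeF_sound _ _ (checkPointF_eq cert) 165600 25 chkP_165600 i (by omega) (by omega)
              · skip
                rcases Nat.lt_or_ge i 165650 with h8 | h8
                · skip
                  exact allRangeF_sound _ _ (checkPointF_eq cert) 165625 25 chkP_165625 i (by omega) (by omega)
                · skip
                  rcases Nat.lt_or_ge i 165675 with h9 | h9
                  · skip
                    exact allRangeF_sound _ _ (checkPointF_eq cert) 165650 25 chkP_165650 i (by omega) (by omega)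
                  · skip
                    exact allRangeF_sound _ _ (checkPointF_eq cert) 165675 25 chkP_165675 i (by omega) (by omega)
          · skip
            rcases Nat.lt_or_ge i 165825 with h6 | h6
            · skip
              rcases Nat.lt_or_ge i 165750 with h7 | h7
              · skip
                rcases Nat.lt_or_ge i 165725 with h8 | h8
                · skip
                  exact allRangeF_sound _ _ (checkPointF_eq cert) 165700 25 chkP_165700 i (by omega) (by omega)
                · skip
                  exact allRangeF_sound _ _ (checkPointF_eq cert) 165725 25 chkP_165725 i (by omega) (by omega)
              · skip
                rcases Nat.lt_or_ge i 165775 with h8 | h8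
                · skip
                  exact allRangeF_sound _ _ (checkPointF_eq cert) 165750 25 chkP_165750 i (by omega) (by omega)
                · skip
                  rcases Nat.lt_or_ge i 165800 with h9 | h9
                  · skip
                    exact allRangeF_sound _ _ (checkPointF_eq cert) 165775 25 chkP_165775 i (by omega) (by omega)
                  · skip
                    exact allRangeF_sound _ _ (checkPointF_eq cert) 165800 25 chkP_165800 i (by omega) (by omega)
            · skip
              rcases Nat.lt_or_ge i 165875 with h7 | h7
              · skip
                rcases Nat.lt_or_ge i 165850 with h8 | h8
                · skip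
                  exact allRangeF_sound _ _ (checkPointF_eq cert) 165825 25 chkP_165825 i (by omega) (by omega)
                · skip
                  exact allRangeF_sound _ _ (checkPointF_eq cert) 165850 25 chkP_165850 i (by omega) (by omega)
              · skip
                rcases Nat.lt_or_ge i 165900 with h8 | h8
                · skip
                  exact allRangeF_sound _ _ (checkPointF_eq cert) 165875 25 chkP_165875 i (by omega) (by omega)
                · skip
                  rcases Nat.lt_or_ge i 165925 with h9 | h9
                  · skip
                    exact allRangeF_sound _ _ (checkPointF_eq cert) 165900 25 chkP_165900 i (by omega) (by omega)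
                  · skip
                    exact allRangeF_sound _ _ (checkPointF_eq cert) 165925 25 chkP_165925 i (by omega) (by omega)
      · skip
        rcases Nat.lt_or_ge i 166425 with h4 | h4
        · skip
          rcases Nat.lt_or_ge i 166175 with h5 | h5
          · skip
            rcases Nat.lt_or_ge i 166050 with h6 | h6
            · skip
              rcases Nat.lt_or_ge i 166000 with h7 | h7
              · skip
                rcases Nat.lt_or_ge i 165975 with h8 | h8
                · skip
                  exact allRangeF_sound _ _ (checkPointF_eq cert) 165950 25 chkP_165950 i (by omega) (by omega)
                · skip
                  exact allRangeF_sound _ _ (checkPointF_eq cert) 165975 25 chkP_165975 i (by omega) (by omega)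
              · skip
                rcases Nat.lt_or_ge i 166025 with h8 | h8
                · skip
                  exact allRangeF_sound _ _ (checkPointF_eq cert) 166000 25 chkP_166000 i (by omega) (by omega)
                · skip
                  exact allRangeF_sound _ _ (checkPointF_eq cert) 166025 25 chkP_166025 i (by omega) (by omega)
            · skip
              rcases Nat.lt_or_ge i 166100 with h7 | h7
              · skip
                rcases Nat.lt_or_ge i 166075 with h8 | h8
                · skip
                  exact allRangeF_sound _ _ (checkPointF_eq cert) 166050 25 chkP_166050 i (by omega) (by omega)
                · skip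
                  exact allRangeF_sound _ _ (checkPointF_eq cert) 166075 25 chkP_166075 i (by omega) (by omega)
              · skip
                rcases Nat.lt_or_ge i 166125 with h8 | h8
                · skip
                  exact allRangeF_sound _ _ (checkPointF_eq cert) 166100 25 chkP_166100 i (by omega) (by omega)
                · skip
                  rcases Nat.lt_or_ge i 166150 with h9 | h9
                  · skip
                    exact allRangeF_sound _ _ (checkPointF_eq cert) 166125 25 chkP_166125 i (by omega) (by omega)
                  · skip
                    exact allRangeF_sound _ _ (checkPointF_eq cert) 166150 25 chkP_166150 i (by omega) (by omega)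
          · skip
            rcases Nat.lt_or_ge i 166300 with h6 | h6
            · skip
              rcases Nat.lt_or_ge i 166225 with h7 | h7
              · skip
                rcases Nat.lt_or_ge i 166200 with h8 | h8
                · skip
                  exact allRangeF_sound _ _ (checkPointF_eq cert) 166175 25 chkP_166175 i (by omega) (by omega)
                · skip
                  exact allRangeF_sound _ _ (checkPointF_eq cert) 166200 25 chkP_166200 i (by omega) (by omega)
              · skip
                rcases Nat.lt_or_ge i 166250 with h8 | h8
                · skip
                  exact allRangeF_sound _ _ (checkPointF_eq cert) 166225 25 chkP_166225 i (by omega) (by omega)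
                · skip
                  rcases Nat.lt_or_ge i 166275 with h9 | h9
                  · skip
                    exact allRangeF_sound _ _ (checkPointF_eq cert) 166250 25 chkP_166250 i (by omega) (by omega)
                  · skip
                    exact allRangeF_sound _ _ (checkPointF_eq cert) 166275 25 chkP_166275 i (by omega) (by omega)
            · skip
              rcases Nat.lt_or_ge i 166350 with h7 | h7
              · skip
                rcases Nat.lt_or_ge i 166325 with h8 | h8
                · skip
                  exact allRangeF_sound _ _ (checkPointF_eq cert) 166300 25 chkP_166300 i (by omega) (by omega)
                · skip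
                  exact allRangeF_sound _ _ (checkPointF_eq cert) 166325 25 chkP_166325 i (by omega) (by omega)
              · skip
                rcases Nat.lt_or_ge i 166375 with h8 | h8
                · skip
                  exact allRangeF_sound _ _ (checkPointF_eq cert) 166350 25 chkP_166350 i (by omega) (by omega)
                · skip
                  rcases Nat.lt_or_ge i 166400 with h9 | h9
                  · skip
                    exact allRangeF_sound _ _ (checkPointF_eq cert) 166375 25 chkP_166375 i (by omega) (by omega)
                  · skip
                    exact allRangeF_sound _ _ (checkPointF_eq cert) 166400 25 chkP_166400 i (by omega) (by omega)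
        · skip
          rcases Nat.lt_or_ge i 166675 with h5 | h5
          · skip
            rcases Nat.lt_or_ge i 166550 with h6 | h6
            · skip
              rcases Nat.lt_or_ge i 166475 with h7 | h7
              · skip
                rcases Nat.lt_or_ge i 166450 with h8 | h8
                · skip
                  exact allRangeF_sound _ _ (checkPointF_eq cert) 166425 25 chkP_166425 i (by omega) (by omega)
                · skip
                  exact allRangeF_sound _ _ (checkPointF_eq cert) 166450 25 chkP_166450 i (by omega) (by omega)
              · skip
                rcases Nat.lt_or_ge i 166500 with h8 | h8
                · skip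
                  exact allRangeF_sound _ _ (checkPointF_eq cert) 166475 25 chkP_166475 i (by omega) (by omega)
                · skip
                  rcases Nat.lt_or_ge i 166525 with h9 | h9
                  · skip
                    exact allRangeF_sound _ _ (checkPointF_eq cert) 166500 25 chkP_166500 i (by omega) (by omega)
                  · skip
                    exact allRangeF_sound _ _ (checkPointF_eq cert) 166525 25 chkP_166525 i (by omega) (by omega)
            · skip
              rcases Nat.lt_or_ge i 166600 with h7 | h7
              · skip
                rcases Nat.lt_or_ge i 166575 with h8 | h8
                · skip
                  exact allRangeF_sound _ _ (checkPointF_eq cert) 166550 25 chkP_166550 i (by omega) (by omega)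
                · skip
                  exact allRangeF_sound _ _ (checkPointF_eq cert) 166575 25 chkP_166575 i (by omega) (by omega)
              · skip
                rcases Nat.lt_or_ge i 166625 with h8 | h8
                · skip
                  exact allRangeF_sound _ _ (checkPointF_eq cert) 166600 25 chkP_166600 i (by omega) (by omega)
                · skip
                  rcases Nat.lt_or_ge i 166650 with h9 | h9
                  · skip
                    exact allRangeF_sound _ _ (checkPointF_eq cert) 166625 25 chkP_166625 i (by omega) (by omega)
                  · skip
                    exact allRangeF_sound _ _ (checkPointF_eq cert) 166650 25 chkP_166650 i (by omega) (by omega)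
          · skip
            rcases Nat.lt_or_ge i 166800 with h6 | h6
            · skip
              rcases Nat.lt_or_ge i 166725 with h7 | h7
              · skip
                rcases Nat.lt_or_ge i 166700 with h8 | h8
                · skip
                  exact allRangeF_sound _ _ (checkPointF_eq cert) 166675 25 chkP_166675 i (by omega) (by omega)
                · skip
                  exact allRangeF_sound _ _ (checkPointF_eq cert) 166700 25 chkP_166700 i (by omega) (by omega)
              · skip
                rcases Nat.lt_or_ge i 166750 with h8 | h8
                · skip
                  exact allRangeF_sound _ _ (checkPointF_eq cert) 166725 25 chkP_166725 i (by omega) (by omega)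
                · skip
                  rcases Nat.lt_or_ge i 166775 with h9 | h9
                  · skip
                    exact allRangeF_sound _ _ (checkPointF_eq cert) 166750 25 chkP_166750 i (by omega) (by omega)
                  · skip
                    exact allRangeF_sound _ _ (checkPointF_eq cert) 166775 25 chkP_166775 i (by omega) (by omega)
            · skip
              rcases Nat.lt_or_ge i 166850 with h7 | h7
              · skip
                rcases Nat.lt_or_ge i 166825 with h8 | h8
                · skip
                  exact allRangeF_sound _ _ (checkPointF_eq cert) 166800 25 chkP_166800 i (by omega) (by omega)
                · skip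
                  exact allRangeF_sound _ _ (checkPointF_eq cert) 166825 25 chkP_166825 i (by omega) (by omega)
              · skip
                rcases Nat.lt_or_ge i 166875 with h8 | h8
                · skip
                  exact allRangeF_sound _ _ (checkPointF_eq cert) 166850 25 chkP_166850 i (by omega) (by omega)
                · skip
                  rcases Nat.lt_or_ge i 166900 with h9 | h9
                  · skip
                    exact allRangeF_sound _ _ (checkPointF_eq cert) 166875 25 chkP_166875 i (by omega) (by omega)
                  · skip
                    exact allRangeF_sound _ _ (checkPointF_eq cert) 166900 25 chkP_166900 i (by omega) (by omega)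
    · skip
      rcases Nat.lt_or_ge i 167875 with h3 | h3
      · skip
        rcases Nat.lt_or_ge i 167400 with h4 | h4
        · skip
          rcases Nat.lt_or_ge i 167150 with h5 | h5
          · skip
            rcases Nat.lt_or_ge i 167025 with h6 | h6
            · skip
              rcases Nat.lt_or_ge i 166975 with h7 | h7
              · skip
                rcases Nat.lt_or_ge i 166950 with h8 | h8
                · skip
                  exact allRangeF_sound _ _ (checkPointF_eq cert) 166925 25 chkP_166925 i (by omega) (by omega)
                · skip
                  exact allRangeF_sound _ _ (checkPointF_eq cert) 166950 25 chkP_166950 i (by omega) (by omega)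
              · skip
                rcases Nat.lt_or_ge i 167000 with h8 | h8
                · skip
                  exact allRangeF_sound _ _ (checkPointF_eq cert) 166975 25 chkP_166975 i (by omega) (by omega)
                · skip
                  exact allRangeF_sound _ _ (checkPointF_eq cert) 167000 25 chkP_167000 i (by omega) (by omega)
            · skip
              rcases Nat.lt_or_ge i 167075 with h7 | h7
              · skip
                rcases Nat.lt_or_ge i 167050 with h8 | h8
                · skip
                  exact allRangeF_sound _ _ (checkPointF_eq cert) 167025 25 chkP_167025 i (by omega) (by omega)
                · skip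
                  exact allRangeF_sound _ _ (checkPointF_eq cert) 167050 25 chkP_167050 i (by omega) (by omega)
              · skip
                rcases Nat.lt_or_ge i 167100 with h8 | h8
                · skip
                  exact allRangeF_sound _ _ (checkPointF_eq cert) 167075 25 chkP_167075 i (by omega) (by omega)
                · skip
                  rcases Nat.lt_or_ge i 167125 with h9 | h9
                  · skip
                    exact allRangeF_sound _ _ (checkPointF_eq cert) 167100 25 chkP_167100 i (by omega) (by omega)
                  · skip
                    exact allRangeF_sound _ _ (checkPointF_eq cert) 167125 25 chkP_167125 i (by omega) (by omega)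
          · skip
            rcases Nat.lt_or_ge i 167275 with h6 | h6
            · skip
              rcases Nat.lt_or_ge i 167200 with h7 | h7
              · skip
                rcases Nat.lt_or_ge i 167175 with h8 | h8
                · skip
                  exact allRangeF_sound _ _ (checkPointF_eq cert) 167150 25 chkP_167150 i (by omega) (by omega)
                · skip
                  exact allRangeF_sound _ _ (checkPointF_eq cert) 167175 25 chkP_167175 i (by omega) (by omega)
              · skip
                rcases Nat.lt_or_ge i 167225 with h8 | h8
                · skip
                  exact allRangeF_sound _ _ (checkPointF_eq cert) 167200 25 chkP_167200 i (by omega) (by omega)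
                · skip
                  rcases Nat.lt_or_ge i 167250 with h9 | h9
                  · skip
                    exact allRangeF_sound _ _ (checkPointF_eq cert) 167225 25 chkP_167225 i (by omega) (by omega)
                  · skip
                    exact allRangeF_sound _ _ (checkPointF_eq cert) 167250 25 chkP_167250 i (by omega) (by omega)
            · skip
              rcases Nat.lt_or_ge i 167325 with h7 | h7
              · skip
                rcases Nat.lt_or_ge i 167300 with h8 | h8
                · skip
                  exact allRangeF_sound _ _ (checkPointF_eq cert) 167275 25 chkP_167275 i (by omega) (by omega)
                · skip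
                  exact allRangeF_sound _ _ (checkPointF_eq cert) 167300 25 chkP_167300 i (by omega) (by omega)
              · skip
                rcases Nat.lt_or_ge i 167350 with h8 | h8
                · skip
                  exact allRangeF_sound _ _ (checkPointF_eq cert) 167325 25 chkP_167325 i (by omega) (by omega)
                · skip
                  rcases Nat.lt_or_ge i 167375 with h9 | h9
                  · skip
                    exact allRangeF_sound _ _ (checkPointF_eq cert) 167350 25 chkP_167350 i (by omega) (by omega)
                  · skip
                    exact allRangeF_sound _ _ (checkPointF_eq cert) 167375 25 chkP_167375 i (by omega) (by omega)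
        · skip
          rcases Nat.lt_or_ge i 167625 with h5 | h5
          · skip
            rcases Nat.lt_or_ge i 167500 with h6 | h6
            · skip
              rcases Nat.lt_or_ge i 167450 with h7 | h7
              · skip
                rcases Nat.lt_or_ge i 167425 with h8 | h8
                · skip
                  exact allRangeF_sound _ _ (checkPointF_eq cert) 167400 25 chkP_167400 i (by omega) (by omega)
                · skip
                  exact allRangeF_sound _ _ (checkPointF_eq cert) 167425 25 chkP_167425 i (by omega) (by omega)
              · skip
                rcases Nat.lt_or_ge i 167475 with h8 | h8
                · skip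
                  exact allRangeF_sound _ _ (checkPointF_eq cert) 167450 25 chkP_167450 i (by omega) (by omega)
                · skip
                  exact allRangeF_sound _ _ (checkPointF_eq cert) 167475 25 chkP_167475 i (by omega) (by omega)
            · skip
              rcases Nat.lt_or_ge i 167550 with h7 | h7
              · skip
                rcases Nat.lt_or_ge i 167525 with h8 | h8
                · skip
                  exact allRangeF_sound _ _ (checkPointF_eq cert) 167500 25 chkP_167500 i (by omega) (by omega)
                · skip
                  exact allRangeF_sound _ _ (checkPointF_eq cert) 167525 25 chkP_167525 i (by omega) (by omega)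
              · skip
                rcases Nat.lt_or_ge i 167575 with h8 | h8
                · skip
                  exact allRangeF_sound _ _ (checkPointF_eq cert) 167550 25 chkP_167550 i (by omega) (by omega)
                · skip
                  rcases Nat.lt_or_ge i 167600 with h9 | h9
                  · skip
                    exact allRangeF_sound _ _ (checkPointF_eq cert) 167575 25 chkP_167575 i (by omega) (by omega)
                  · skip
                    exact allRangeF_sound _ _ (checkPointF_eq cert) 167600 25 chkP_167600 i (by omega) (by omega)
          · skip
            rcases Nat.lt_or_ge i 167750 with h6 | h6
            · skip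
              rcases Nat.lt_or_ge i 167675 with h7 | h7
              · skip
                rcases Nat.lt_or_ge i 167650 with h8 | h8
                · skip
                  exact allRangeF_sound _ _ (checkPointF_eq cert) 167625 25 chkP_167625 i (by omega) (by omega)
                · skip
                  exact allRangeF_sound _ _ (checkPointF_eq cert) 167650 25 chkP_167650 i (by omega) (by omega)
              · skip
                rcases Nat.lt_or_ge i 167700 with h8 | h8
                · skip
                  exact allRangeF_sound _ _ (checkPointF_eq cert) 167675 25 chkP_167675 i (by omega) (by omega)
                · skip
                  rcases Nat.lt_or_ge i 167725 with h9 | h9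
                  · skip
                    exact allRangeF_sound _ _ (checkPointF_eq cert) 167700 25 chkP_167700 i (by omega) (by omega)
                  · skip
                    exact allRangeF_sound _ _ (checkPointF_eq cert) 167725 25 chkP_167725 i (by omega) (by omega)
            · skip
              rcases Nat.lt_or_ge i 167800 with h7 | h7
              · skip
                rcases Nat.lt_or_ge i 167775 with h8 | h8
                · skip
                  exact allRangeF_sound _ _ (checkPointF_eq cert) 167750 25 chkP_167750 i (by omega) (by omega)
                · skip
                  exact allRangeF_sound _ _ (checkPointF_eq cert) 167775 25 chkP_167775 i (by omega) (by omega)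
              · skip
                rcases Nat.lt_or_ge i 167825 with h8 | h8
                · skip
                  exact allRangeF_sound _ _ (checkPointF_eq cert) 167800 25 chkP_167800 i (by omega) (by omega)
                · skip
                  rcases Nat.lt_or_ge i 167850 with h9 | h9
                  · skip
                    exact allRangeF_sound _ _ (checkPointF_eq cert) 167825 25 chkP_167825 i (by omega) (by omega)
                  · skip
                    exact allRangeF_sound _ _ (checkPointF_eq cert) 167850 25 chkP_167850 i (by omega) (by omega)
      · skip
        rcases Nat.lt_or_ge i 168350 with h4 | h4
        · skip
          rcases Nat.lt_or_ge i 168100 with h5 | h5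
          · skip
            rcases Nat.lt_or_ge i 167975 with h6 | h6
            · skip
              rcases Nat.lt_or_ge i 167925 with h7 | h7
              · skip
                rcases Nat.lt_or_ge i 167900 with h8 | h8
                · skip
                  exact allRangeF_sound _ _ (checkPointF_eq cert) 167875 25 chkP_167875 i (by omega) (by omega)
                · skip
                  exact allRangeF_sound _ _ (checkPointF_eq cert) 167900 25 chkP_167900 i (by omega) (by omega)
              · skip
                rcases Nat.lt_or_ge i 167950 with h8 | h8
                · skip
                  exact allRangeF_sound _ _ (checkPointF_eq cert) 167925 25 chkP_167925 i (by omega) (by omega)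
                · skip
                  exact allRangeF_sound _ _ (checkPointF_eq cert) 167950 25 chkP_167950 i (by omega) (by omega)
            · skip
              rcases Nat.lt_or_ge i 168025 with h7 | h7
              · skip
                rcases Nat.lt_or_ge i 168000 with h8 | h8
                · skip
                  exact allRangeF_sound _ _ (checkPointF_eq cert) 167975 25 chkP_167975 i (by omega) (by omega)
                · skip
                  exact allRangeF_sound _ _ (checkPointF_eq cert) 168000 25 chkP_168000 i (by omega) (by omega)
              · skip
                rcases Nat.lt_or_ge i 168050 with h8 | h8
                · skip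
                  exact allRangeF_sound _ _ (checkPointF_eq cert) 168025 25 chkP_168025 i (by omega) (by omega)
                · skip
                  rcases Nat.lt_or_ge i 168075 with h9 | h9
                  · skip
                    exact allRangeF_sound _ _ (checkPointF_eq cert) 168050 25 chkP_168050 i (by omega) (by omega)
                  · skip
                    exact allRangeF_sound _ _ (checkPointF_eq cert) 168075 25 chkP_168075 i (by omega) (by omega)
          · skip
            rcases Nat.lt_or_ge i 168225 with h6 | h6
            · skip
              rcases Nat.lt_or_ge i 168150 with h7 | h7
              · skip
                rcases Nat.lt_or_ge i 168125 with h8 | h8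
                · skip
                  exact allRangeF_sound _ _ (checkPointF_eq cert) 168100 25 chkP_168100 i (by omega) (by omega)
                · skip
                  exact allRangeF_sound _ _ (checkPointF_eq cert) 168125 25 chkP_168125 i (by omega) (by omega)
              · skip
                rcases Nat.lt_or_ge i 168175 with h8 | h8
                · skip
                  exact allRangeF_sound _ _ (checkPointF_eq cert) 168150 25 chkP_168150 i (by omega) (by omega)
                · skip
                  rcases Nat.lt_or_ge i 168200 with h9 | h9
                  · skip
                    exact allRangeF_sound _ _ (checkPointF_eq cert) 168175 25 chkP_168175 i (by omega) (by omega)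
                  · skip
                    exact allRangeF_sound _ _ (checkPointF_eq cert) 168200 25 chkP_168200 i (by omega) (by omega)
            · skip
              rcases Nat.lt_or_ge i 168275 with h7 | h7
              · skip
                rcases Nat.lt_or_ge i 168250 with h8 | h8
                · skip
                  exact allRangeF_sound _ _ (checkPointF_eq cert) 168225 25 chkP_168225 i (by omega) (by omega)
                · skip
                  exact allRangeF_sound _ _ (checkPointF_eq cert) 168250 25 chkP_168250 i (by omega) (by omega)
              · skip
                rcases Nat.lt_or_ge i 168300 with h8 | h8
                · skip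
                  exact allRangeF_sound _ _ (checkPointF_eq cert) 168275 25 chkP_168275 i (by omega) (by omega)
                · skip
                  rcases Nat.lt_or_ge i 168325 with h9 | h9
                  · skip
                    exact allRangeF_sound _ _ (checkPointF_eq cert) 168300 25 chkP_168300 i (by omega) (by omega)
                  · skip
                    exact allRangeF_sound _ _ (checkPointF_eq cert) 168325 25 chkP_168325 i (by omega) (by omega)
        · skip
          rcases Nat.lt_or_ge i 168600 with h5 | h5
          · skip
            rcases Nat.lt_or_ge i 168475 with h6 | h6
            · skip
              rcases Nat.lt_or_ge i 168400 with h7 | h7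
              · skip
                rcases Nat.lt_or_ge i 168375 with h8 | h8
                · skip
                  exact allRangeF_sound _ _ (checkPointF_eq cert) 168350 25 chkP_168350 i (by omega) (by omega)
                · skip
                  exact allRangeF_sound _ _ (checkPointF_eq cert) 168375 25 chkP_168375 i (by omega) (by omega)
              · skip
                rcases Nat.lt_or_ge i 168425 with h8 | h8
                · skip
                  exact allRangeF_sound _ _ (checkPointF_eq cert) 168400 25 chkP_168400 i (by omega) (by omega)
                · skip
                  rcases Nat.lt_or_ge i 168450 with h9 | h9
                  · skip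
                    exact allRangeF_sound _ _ (checkPointF_eq cert) 168425 25 chkP_168425 i (by omega) (by omega)
                  · skip
                    exact allRangeF_sound _ _ (checkPointF_eq cert) 168450 25 chkP_168450 i (by omega) (by omega)
            · skip
              rcases Nat.lt_or_ge i 168525 with h7 | h7
              · skip
                rcases Nat.lt_or_ge i 168500 with h8 | h8
                · skip
                  exact allRangeF_sound _ _ (checkPointF_eq cert) 168475 25 chkP_168475 i (by omega) (by omega)
                · skip
                  exact allRangeF_sound _ _ (checkPointF_eq cert) 168500 25 chkP_168500 i (by omega) (by omega)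
              · skip
                rcases Nat.lt_or_ge i 168550 with h8 | h8
                · skip
                  exact allRangeF_sound _ _ (checkPointF_eq cert) 168525 25 chkP_168525 i (by omega) (by omega)
                · skip
                  rcases Nat.lt_or_ge i 168575 with h9 | h9
                  · skip
                    exact allRangeF_sound _ _ (checkPointF_eq cert) 168550 25 chkP_168550 i (by omega) (by omega)
                  · skip
                    exact allRangeF_sound _ _ (checkPointF_eq cert) 168575 25 chkP_168575 i (by omega) (by omega)
          · skip
            rcases Nat.lt_or_ge i 168725 with h6 | h6
            · skip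
              rcases Nat.lt_or_ge i 168650 with h7 | h7
              · skip
                rcases Nat.lt_or_ge i 168625 with h8 | h8
                · skip
                  exact allRangeF_sound _ _ (checkPointF_eq cert) 168600 25 chkP_168600 i (by omega) (by omega)
                · skip
                  exact allRangeF_sound _ _ (checkPointF_eq cert) 168625 25 chkP_168625 i (by omega) (by omega)
              · skip
                rcases Nat.lt_or_ge i 168675 with h8 | h8
                · skip
                  exact allRangeF_sound _ _ (checkPointF_eq cert) 168650 25 chkP_168650 i (by omega) (by omega)
                · skip
                  rcases Nat.lt_or_ge i 168700 with h9 | h9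
                  · skip
                    exact allRangeF_sound _ _ (checkPointF_eq cert) 168675 25 chkP_168675 i (by omega) (by omega)
                  · skip
                    exact allRangeF_sound _ _ (checkPointF_eq cert) 168700 25 chkP_168700 i (by omega) (by omega)
            · skip
              rcases Nat.lt_or_ge i 168775 with h7 | h7
              · skip
                rcases Nat.lt_or_ge i 168750 with h8 | h8
                · skip
                  exact allRangeF_sound _ _ (checkPointF_eq cert) 168725 25 chkP_168725 i (by omega) (by omega)
                · skip
                  exact allRangeF_sound _ _ (checkPointF_eq cert) 168750 25 chkP_168750 i (by omega) (by omega)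
              · skip
                rcases Nat.lt_or_ge i 168800 with h8 | h8
                · skip
                  exact allRangeF_sound _ _ (checkPointF_eq cert) 168775 25 chkP_168775 i (by omega) (by omega)
                · skip
                  rcases Nat.lt_or_ge i 168825 with h9 | h9
                  · skip
                    exact allRangeF_sound _ _ (checkPointF_eq cert) 168800 25 chkP_168800 i (by omega) (by omega)
                  · skip
                    exact allRangeF_sound _ _ (checkPointF_eq cert) 168825 25 chkP_168825 i (by omega) (by omega)

end Cfsg.Agent.Lib.Helper28.Fi24Data
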