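import Cfsg.Agent.Lib.Helper28.Fi24Data
import Cfsg.Agent.Lib.Helper28.TCFastB

set_option autoImplicit false
set_option maxRecDepth 1000000
set_option linter.all false
set_option Elab.async false

namespace Cfsg.Agent.Lib.Helper28.Fi24Data

open Cfsg.Agent.Lib.Helper28B

theorem chkP_168850 : allRangeF (checkPointF cert) (nat_lit 168850) (nat_lit 25) = true := by decide +kernel
theorem chkP_168875 : allRangeF (checkPointF cert) (nat_lit 168875) (nat_lit 25) = true := by decide +kernel
theorem chkP_168900 : allRangeF (checkPointF cert) (nat_lit 168900) (nat_lit 25) = true := by decide +kernel
theorem chkP_168925 : allRangeF (checkPointF cert) (nat_lit 168925) (nat_lit 25) = true := by decide +kernel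
theorem chkP_168950 : allRangeF (checkPointF cert) (nat_lit 168950) (nat_lit 25) = true := by decide +kernel
theorem chkP_168975 : allRangeF (checkPointF cert) (nat_lit 168975) (nat_lit 25) = true := by decide +kernel
theorem chkP_169000 : allRangeF (checkPointF cert) (nat_lit 169000) (nat_lit 25) = true := by decide +kernel
theorem chkP_169025 : allRangeF (checkPointF cert) (nat_lit 169025) (nat_lit 25) = true := by decide +kernel
theorem chkP_169050 : allRangeF (checkPointF cert) (nat_lit 169050) (nat_lit 25) = true := by decide +kernel
theorem chkP_169075 : allRangeF (checkPointF cert) (nat_lit 169075) (nat_lit 25) = true := by decide +kernel
theorem chkP_169100 : allRangeF (checkPointF cert) (nat_lit 169100) (nat_lit 25) = true := by decide +kernel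
theorem chkP_169125 : allRangeF (checkPointF cert) (nat_lit 169125) (nat_lit 25) = true := by decide +kernel
theorem chkP_169150 : allRangeF (checkPointF cert) (nat_lit 169150) (nat_lit 25) = true := by decide +kernel
theorem chkP_169175 : allRangeF (checkPointF cert) (nat_lit 169175) (nat_lit 25) = true := by decide +kernel
theorem chkP_169200 : allRangeF (checkPointF cert) (nat_lit 169200) (nat_lit 25) = true := by decide +kernel
theorem chkP_169225 : allRangeF (checkPointF cert) (nat_lit 169225) (nat_lit 25) = true := by decide +kernel
theorem chkP_169250 : allRangeF (checkPointF cert) (nat_lit 169250) (nat_lit 25) = true := by decide +kernel
theorem chkP_169275 : allRangeF (checkPointF cert) (nat_lit 169275) (nat_lit 25) = true := by decide +kernel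
theorem chkP_169300 : allRangeF (checkPointF cert) (nat_lit 169300) (nat_lit 25) = true := by decide +kernel
theorem chkP_169325 : allRangeF (checkPointF cert) (nat_lit 169325) (nat_lit 25) = true := by decide +kernel
theorem chkP_169350 : allRangeF (checkPointF cert) (nat_lit 169350) (nat_lit 25) = true := by decide +kernel
theorem chkP_169375 : allRangeF (checkPointF cert) (nat_lit 169375) (nat_lit 25) = true := by decide +kernel
theorem chkP_169400 : allRangeF (checkPointF cert) (nat_lit 169400) (nat_lit 25) = true := by decide +kernel
theorem chkP_169425 : allRangeF (checkPointF cert) (nat_lit 169425) (nat_lit 25) = true := by decide +kernel
theorem chkP_169450 : allRangeF (checkPointF cert) (nat_lit 169450) (nat_lit 25) = true := by decide +kernel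
theorem chkP_169475 : allRangeF (checkPointF cert) (nat_lit 169475) (nat_lit 25) = true := by decide +kernel
theorem chkP_169500 : allRangeF (checkPointF cert) (nat_lit 169500) (nat_lit 25) = true := by decide +kernel
theorem chkP_169525 : allRangeF (checkPointF cert) (nat_lit 169525) (nat_lit 25) = true := by decide +kernel
theorem chkP_169550 : allRangeF (checkPointF cert) (nat_lit 169550) (nat_lit 25) = true := by decide +kernel
theorem chkP_169575 : allRangeF (checkPointF cert) (nat_lit 169575) (nat_lit 25) = true := by decide +kernel
theorem chkP_169600 : allRangeF (checkPointF cert) (nat_lit 169600) (nat_lit 25) = true := by decide +kernel
theorem chkP_169625 : allRangeF (checkPointF cert) (nat_lit 169625) (nat_lit 25) = true := by decide +kernel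
theorem chkP_169650 : allRangeF (checkPointF cert) (nat_lit 169650) (nat_lit 25) = true := by decide +kernel
theorem chkP_169675 : allRangeF (checkPointF cert) (nat_lit 169675) (nat_lit 25) = true := by decide +kernel
theorem chkP_169700 : allRangeF (checkPointF cert) (nat_lit 169700) (nat_lit 25) = true := by decide +kernel
theorem chkP_169725 : allRangeF (checkPointF cert) (nat_lit 169725) (nat_lit 25) = true := by decide +kernel
theorem chkP_169750 : allRangeF (checkPointF cert) (nat_lit 169750) (nat_lit 25) = true := by decide +kernel
theorem chkP_169775 : allRangeF (checkPointF cert) (nat_lit 169775) (nat_lit 25) = true := by decide +kernel
theorem chkP_169800 : allRangeF (checkPointF cert) (nat_lit 169800) (nat_lit 25) = true := by decide +kernel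
theorem chkP_169825 : allRangeF (checkPointF cert) (nat_lit 169825) (nat_lit 25) = true := by decide +kernel
theorem chkP_169850 : allRangeF (checkPointF cert) (nat_lit 169850) (nat_lit 25) = true := by decide +kernel
theorem chkP_169875 : allRangeF (checkPointF cert) (nat_lit 169875) (nat_lit 25) = true := by decide +kernel
theorem chkP_169900 : allRangeF (checkPointF cert) (nat_lit 169900) (nat_lit 25) = true := by decide +kernel
theorem chkP_169925 : allRangeF (checkPointF cert) (nat_lit 169925) (nat_lit 25) = true := by decide +kernel
theorem chkP_169950 : allRangeF (checkPointF cert) (nat_lit 169950) (nat_lit 25) = true := by decide +kernel
theorem chkP_169975 : allRangeF (checkPointF cert) (nat_lit 169975) (nat_lit 25) = true := by decide +kernel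
theorem chkP_170000 : allRangeF (checkPointF cert) (nat_lit 170000) (nat_lit 25) = true := by decide +kernel
theorem chkP_170025 : allRangeF (checkPointF cert) (nat_lit 170025) (nat_lit 25) = true := by decide +kernel
theorem chkP_170050 : allRangeF (checkPointF cert) (nat_lit 170050) (nat_lit 25) = true := by decide +kernel
theorem chkP_170075 : allRangeF (checkPointF cert) (nat_lit 170075) (nat_lit 25) = true := by decide +kernel
theorem chkP_170100 : allRangeF (checkPointF cert) (nat_lit 170100) (nat_lit 25) = true := by decide +kernel
theorem chkP_170125 : allRangeF (checkPointF cert) (nat_lit 170125) (nat_lit 25) = true := by decide +kernel
theorem chkP_170150 : allRangeF (checkPointF cert) (nat_lit 170150) (nat_lit 25) = true := by decide +kernel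
theorem chkP_170175 : allRangeF (checkPointF cert) (nat_lit 170175) (nat_lit 25) = true := by decide +kernel
theorem chkP_170200 : allRangeF (checkPointF cert) (nat_lit 170200) (nat_lit 25) = true := by decide +kernel
theorem chkP_170225 : allRangeF (checkPointF cert) (nat_lit 170225) (nat_lit 25) = true := by decide +kernel
theorem chkP_170250 : allRangeF (checkPointF cert) (nat_lit 170250) (nat_lit 25) = true := by decide +kernel
theorem chkP_170275 : allRangeF (checkPointF cert) (nat_lit 170275) (nat_lit 25) = true := by decide +kernel
theorem chkP_170300 : allRangeF (checkPointF cert) (nat_lit 170300) (nat_lit 25) = true := by decide +kernel
theorem chkP_170325 : allRangeF (checkPointF cert) (nat_lit 170325) (nat_lit 25) = true := by decide +kernel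
theorem chkP_170350 : allRangeF (checkPointF cert) (nat_lit 170350) (nat_lit 25) = true := by decide +kernel
theorem chkP_170375 : allRangeF (checkPointF cert) (nat_lit 170375) (nat_lit 25) = true := by decide +kernel
theorem chkP_170400 : allRangeF (checkPointF cert) (nat_lit 170400) (nat_lit 25) = true := by decide +kernel
theorem chkP_170425 : allRangeF (checkPointF cert) (nat_lit 170425) (nat_lit 25) = true := by decide +kernel
theorem chkP_170450 : allRangeF (checkPointF cert) (nat_lit 170450) (nat_lit 25) = true := by decide +kernel
theorem chkP_170475 : allRangeF (checkPointF cert) (nat_lit 170475) (nat_lit 25) = true := by decide +kernel
theorem chkP_170500 : allRangeF (checkPointF cert) (nat_lit 170500) (nat_lit 25) = true := by decide +kernel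
theorem chkP_170525 : allRangeF (checkPointF cert) (nat_lit 170525) (nat_lit 25) = true := by decide +kernel
theorem chkP_170550 : allRangeF (checkPointF cert) (nat_lit 170550) (nat_lit 25) = true := by decide +kernel
theorem chkP_170575 : allRangeF (checkPointF cert) (nat_lit 170575) (nat_lit 25) = true := by decide +kernel
theorem chkP_170600 : allRangeF (checkPointF cert) (nat_lit 170600) (nat_lit 25) = true := by decide +kernel
theorem chkP_170625 : allRangeF (checkPointF cert) (nat_lit 170625) (nat_lit 25) = true := by decide +kernel
theorem chkP_170650 : allRangeF (checkPointF cert) (nat_lit 170650) (nat_lit 25) = true := by decide +kernel
theorem chkP_170675 : allRangeF (checkPointF cert) (nat_lit 170675) (nat_lit 25) = true := by decide +kernel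
theorem chkP_170700 : allRangeF (checkPointF cert) (nat_lit 170700) (nat_lit 25) = true := by decide +kernel
theorem chkP_170725 : allRangeF (checkPointF cert) (nat_lit 170725) (nat_lit 25) = true := by decide +kernel
theorem chkP_170750 : allRangeF (checkPointF cert) (nat_lit 170750) (nat_lit 25) = true := by decide +kernel
theorem chkP_170775 : allRangeF (checkPointF cert) (nat_lit 170775) (nat_lit 25) = true := by decide +kernel
theorem chkP_170800 : allRangeF (checkPointF cert) (nat_lit 170800) (nat_lit 25) = true := by decide +kernel
theorem chkP_170825 : allRangeF (checkPointF cert) (nat_lit 170825) (nat_lit 25) = true := by decide +kernel
theorem chkP_170850 : allRangeF (checkPointF cert) (nat_lit 170850) (nat_lit 25) = true := by decide +kernel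
theorem chkP_170875 : allRangeF (checkPointF cert) (nat_lit 170875) (nat_lit 25) = true := by decide +kernel
theorem chkP_170900 : allRangeF (checkPointF cert) (nat_lit 170900) (nat_lit 25) = true := by decide +kernel
theorem chkP_170925 : allRangeF (checkPointF cert) (nat_lit 170925) (nat_lit 25) = true := by decide +kernel
theorem chkP_170950 : allRangeF (checkPointF cert) (nat_lit 170950) (nat_lit 25) = true := by decide +kernel
theorem chkP_170975 : allRangeF (checkPointF cert) (nat_lit 170975) (nat_lit 25) = true := by decide +kernel
theorem chkP_171000 : allRangeF (checkPointF cert) (nat_lit 171000) (nat_lit 25) = true := by decide +kernel
theorem chkP_171025 : allRangeF (checkPointF cert) (nat_lit 171025) (nat_lit 25) = true := by decide +kernel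
theorem chkP_171050 : allRangeF (checkPointF cert) (nat_lit 171050) (nat_lit 25) = true := by decide +kernel
theorem chkP_171075 : allRangeF (checkPointF cert) (nat_lit 171075) (nat_lit 25) = true := by decide +kernel
theorem chkP_171100 : allRangeF (checkPointF cert) (nat_lit 171100) (nat_lit 25) = true := by decide +kernel
theorem chkP_171125 : allRangeF (checkPointF cert) (nat_lit 171125) (nat_lit 25) = true := by decide +kernel
theorem chkP_171150 : allRangeF (checkPointF cert) (nat_lit 171150) (nat_lit 25) = true := by decide +kernel
theorem chkP_171175 : allRangeF (checkPointF cert) (nat_lit 171175) (nat_lit 25) = true := by decide +kernel
theorem chkP_171200 : allRangeF (checkPointF cert) (nat_lit 171200) (nat_lit 25) = true := by decide +kernel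
theorem chkP_171225 : allRangeF (checkPointF cert) (nat_lit 171225) (nat_lit 25) = true := by decide +kernel
theorem chkP_171250 : allRangeF (checkPointF cert) (nat_lit 171250) (nat_lit 25) = true := by decide +kernel
theorem chkP_171275 : allRangeF (checkPointF cert) (nat_lit 171275) (nat_lit 25) = true := by decide +kernel
theorem chkP_171300 : allRangeF (checkPointF cert) (nat_lit 171300) (nat_lit 25) = true := by decide +kernel
theorem chkP_171325 : allRangeF (checkPointF cert) (nat_lit 171325) (nat_lit 25) = true := by decide +kernel
theorem chkP_171350 : allRangeF (checkPointF cert) (nat_lit 171350) (nat_lit 25) = true := by decide +kernel
theorem chkP_171375 : allRangeF (checkPointF cert) (nat_lit 171375) (nat_lit 25) = true := by decide +kernel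
theorem chkP_171400 : allRangeF (checkPointF cert) (nat_lit 171400) (nat_lit 25) = true := by decide +kernel
theorem chkP_171425 : allRangeF (checkPointF cert) (nat_lit 171425) (nat_lit 25) = true := by decide +kernel
theorem chkP_171450 : allRangeF (checkPointF cert) (nat_lit 171450) (nat_lit 25) = true := by decide +kernel
theorem chkP_171475 : allRangeF (checkPointF cert) (nat_lit 171475) (nat_lit 25) = true := by decide +kernel
theorem chkP_171500 : allRangeF (checkPointF cert) (nat_lit 171500) (nat_lit 25) = true := by decide +kernel
theorem chkP_171525 : allRangeF (checkPointF cert) (nat_lit 171525) (nat_lit 25) = true := by decide +kernel
theorem chkP_171550 : allRangeF (checkPointF cert) (nat_lit 171550) (nat_lit 25) = true := by decide +kernel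
theorem chkP_171575 : allRangeF (checkPointF cert) (nat_lit 171575) (nat_lit 25) = true := by decide +kernel
theorem chkP_171600 : allRangeF (checkPointF cert) (nat_lit 171600) (nat_lit 25) = true := by decide +kernel
theorem chkP_171625 : allRangeF (checkPointF cert) (nat_lit 171625) (nat_lit 25) = true := by decide +kernel
theorem chkP_171650 : allRangeF (checkPointF cert) (nat_lit 171650) (nat_lit 25) = true := by decide +kernel
theorem chkP_171675 : allRangeF (checkPointF cert) (nat_lit 171675) (nat_lit 25) = true := by decide +kernel
theorem chkP_171700 : allRangeF (checkPointF cert) (nat_lit 171700) (nat_lit 25) = true := by decide +kernel
theorem chkP_171725 : allRangeF (checkPointF cert) (nat_lit 171725) (nat_lit 25) = true := by decide +kernel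
theorem chkP_171750 : allRangeF (checkPointF cert) (nat_lit 171750) (nat_lit 25) = true := by decide +kernel
theorem chkP_171775 : allRangeF (checkPointF cert) (nat_lit 171775) (nat_lit 25) = true := by decide +kernel
theorem chkP_171800 : allRangeF (checkPointF cert) (nat_lit 171800) (nat_lit 25) = true := by decide +kernel
theorem chkP_171825 : allRangeF (checkPointF cert) (nat_lit 171825) (nat_lit 25) = true := by decide +kernel
theorem chkP_171850 : allRangeF (checkPointF cert) (nat_lit 171850) (nat_lit 25) = true := by decide +kernel
theorem chkP_171875 : allRangeF (checkPointF cert) (nat_lit 171875) (nat_lit 25) = true := by decide +kernel
theorem chkP_171900 : allRangeF (checkPointF cert) (nat_lit 171900) (nat_lit 25) = true := by decide +kernel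
theorem chkP_171925 : allRangeF (checkPointF cert) (nat_lit 171925) (nat_lit 25) = true := by decide +kernel
theorem chkP_171950 : allRangeF (checkPointF cert) (nat_lit 171950) (nat_lit 25) = true := by decide +kernel
theorem chkP_171975 : allRangeF (checkPointF cert) (nat_lit 171975) (nat_lit 25) = true := by decide +kernel
theorem chkP_172000 : allRangeF (checkPointF cert) (nat_lit 172000) (nat_lit 25) = true := by decide +kernel
theorem chkP_172025 : allRangeF (checkPointF cert) (nat_lit 172025) (nat_lit 25) = true := by decide +kernel
theorem chkP_172050 : allRangeF (checkPointF cert) (nat_lit 172050) (nat_lit 25) = true := by decide +kernel
theorem chkP_172075 : allRangeF (checkPointF cert) (nat_lit 172075) (nat_lit 25) = true := by decide +kernel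
theorem chkP_172100 : allRangeF (checkPointF cert) (nat_lit 172100) (nat_lit 25) = true := by decide +kernel
theorem chkP_172125 : allRangeF (checkPointF cert) (nat_lit 172125) (nat_lit 25) = true := by decide +kernel
theorem chkP_172150 : allRangeF (checkPointF cert) (nat_lit 172150) (nat_lit 25) = true := by decide +kernel
theorem chkP_172175 : allRangeF (checkPointF cert) (nat_lit 172175) (nat_lit 25) = true := by decide +kernel
theorem chkP_172200 : allRangeF (checkPointF cert) (nat_lit 172200) (nat_lit 25) = true := by decide +kernel
theorem chkP_172225 : allRangeF (checkPointF cert) (nat_lit 172225) (nat_lit 25) = true := by decide +kernel
theorem chkP_172250 : allRangeF (checkPointF cert) (nat_lit 172250) (nat_lit 25) = true := by decide +kernel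
theorem chkP_172275 : allRangeF (checkPointF cert) (nat_lit 172275) (nat_lit 25) = true := by decide +kernel
theorem chkP_172300 : allRangeF (checkPointF cert) (nat_lit 172300) (nat_lit 25) = true := by decide +kernel
theorem chkP_172325 : allRangeF (checkPointF cert) (nat_lit 172325) (nat_lit 25) = true := by decide +kernel
theorem chkP_172350 : allRangeF (checkPointF cert) (nat_lit 172350) (nat_lit 25) = true := by decide +kernel
theorem chkP_172375 : allRangeF (checkPointF cert) (nat_lit 172375) (nat_lit 25) = true := by decide +kernel
theorem chkP_172400 : allRangeF (checkPointF cert) (nat_lit 172400) (nat_lit 25) = true := by decide +kernel
theorem chkP_172425 : allRangeF (checkPointF cert) (nat_lit 172425) (nat_lit 25) = true := by decide +kernel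
theorem chkP_172450 : allRangeF (checkPointF cert) (nat_lit 172450) (nat_lit 25) = true := by decide +kernel
theorem chkP_172475 : allRangeF (checkPointF cert) (nat_lit 172475) (nat_lit 25) = true := by decide +kernel
theorem chkP_172500 : allRangeF (checkPointF cert) (nat_lit 172500) (nat_lit 25) = true := by decide +kernel
theorem chkP_172525 : allRangeF (checkPointF cert) (nat_lit 172525) (nat_lit 25) = true := by decide +kernel
theorem chkP_172550 : allRangeF (checkPointF cert) (nat_lit 172550) (nat_lit 25) = true := by decide +kernel
theorem chkP_172575 : allRangeF (checkPointF cert) (nat_lit 172575) (nat_lit 25) = true := by decide +kernel
theorem chkP_172600 : allRangeF (checkPointF cert) (nat_lit 172600) (nat_lit 25) = true := by decide +kernel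
theorem chkP_172625 : allRangeF (checkPointF cert) (nat_lit 172625) (nat_lit 25) = true := by decide +kernel
theorem chkP_172650 : allRangeF (checkPointF cert) (nat_lit 172650) (nat_lit 25) = true := by decide +kernel
theorem chkP_172675 : allRangeF (checkPointF cert) (nat_lit 172675) (nat_lit 25) = true := by decide +kernel
theorem chkP_172700 : allRangeF (checkPointF cert) (nat_lit 172700) (nat_lit 25) = true := by decide +kernel
theorem chkP_172725 : allRangeF (checkPointF cert) (nat_lit 172725) (nat_lit 25) = true := by decide +kernel
theorem chkP_172750 : allRangeF (checkPointF cert) (nat_lit 172750) (nat_lit 25) = true := by decide +kernel
theorem chkP_172775 : allRangeF (checkPointF cert) (nat_lit 172775) (nat_lit 25) = true := by decide +kernel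
theorem chkP_172800 : allRangeF (checkPointF cert) (nat_lit 172800) (nat_lit 25) = true := by decide +kernel
theorem chkP_172825 : allRangeF (checkPointF cert) (nat_lit 172825) (nat_lit 25) = true := by decide +kernel
theorem chkP_172850 : allRangeF (checkPointF cert) (nat_lit 172850) (nat_lit 25) = true := by decide +kernel
theorem chkP_172875 : allRangeF (checkPointF cert) (nat_lit 172875) (nat_lit 25) = true := by decide +kernel
theorem chkP_172900 : allRangeF (checkPointF cert) (nat_lit 172900) (nat_lit 25) = true := by decide +kernel
theorem chkP_172925 : allRangeF (checkPointF cert) (nat_lit 172925) (nat_lit 25) = true := by decide +kernel
theorem chkP_172950 : allRangeF (checkPointF cert) (nat_lit 172950) (nat_lit 25) = true := by decide +kernel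
theorem chkP_172975 : allRangeF (checkPointF cert) (nat_lit 172975) (nat_lit 25) = true := by decide +kernel
theorem chkP_173000 : allRangeF (checkPointF cert) (nat_lit 173000) (nat_lit 25) = true := by decide +kernel
theorem chkP_173025 : allRangeF (checkPointF cert) (nat_lit 173025) (nat_lit 25) = true := by decide +kernel
theorem chkP_173050 : allRangeF (checkPointF cert) (nat_lit 173050) (nat_lit 25) = true := by decide +kernel
theorem chkP_173075 : allRangeF (checkPointF cert) (nat_lit 173075) (nat_lit 25) = true := by decide +kernel
theorem chkP_173100 : allRangeF (checkPointF cert) (nat_lit 173100) (nat_lit 25) = true := by decide +kernel
theorem chkP_173125 : allRangeF (checkPointF cert) (nat_lit 173125) (nat_lit 25) = true := by decide +kernel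
theorem chkP_173150 : allRangeF (checkPointF cert) (nat_lit 173150) (nat_lit 25) = true := by decide +kernel
theorem chkP_173175 : allRangeF (checkPointF cert) (nat_lit 173175) (nat_lit 25) = true := by decide +kernel
theorem chkP_173200 : allRangeF (checkPointF cert) (nat_lit 173200) (nat_lit 25) = true := by decide +kernel
theorem chkP_173225 : allRangeF (checkPointF cert) (nat_lit 173225) (nat_lit 25) = true := by decide +kernel
theorem chkP_173250 : allRangeF (checkPointF cert) (nat_lit 173250) (nat_lit 25) = true := by decide +kernel
theorem chkP_173275 : allRangeF (checkPointF cert) (nat_lit 173275) (nat_lit 25) = true := by decide +kernel
theorem chkP_173300 : allRangeF (checkPointF cert) (nat_lit 173300) (nat_lit 25) = true := by decide +kernel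
theorem chkP_173325 : allRangeF (checkPointF cert) (nat_lit 173325) (nat_lit 25) = true := by decide +kernel
theorem chkP_173350 : allRangeF (checkPointF cert) (nat_lit 173350) (nat_lit 25) = true := by decide +kernel
theorem chkP_173375 : allRangeF (checkPointF cert) (nat_lit 173375) (nat_lit 25) = true := by decide +kernel
theorem chkP_173400 : allRangeF (checkPointF cert) (nat_lit 173400) (nat_lit 25) = true := by decide +kernel
theorem chkP_173425 : allRangeF (checkPointF cert) (nat_lit 173425) (nat_lit 25) = true := by decide +kernel
theorem chkP_173450 : allRangeF (checkPointF cert) (nat_lit 173450) (nat_lit 25) = true := by decide +kernel
theorem chkP_173475 : allRangeF (checkPointF cert) (nat_lit 173475) (nat_lit 25) = true := by decide +kernel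
theorem chkP_173500 : allRangeF (checkPointF cert) (nat_lit 173500) (nat_lit 25) = true := by decide +kernel
theorem chkP_173525 : allRangeF (checkPointF cert) (nat_lit 173525) (nat_lit 25) = true := by decide +kernel
theorem chkP_173550 : allRangeF (checkPointF cert) (nat_lit 173550) (nat_lit 25) = true := by decide +kernel
theorem chkP_173575 : allRangeF (checkPointF cert) (nat_lit 173575) (nat_lit 25) = true := by decide +kernel
theorem chkP_173600 : allRangeF (checkPointF cert) (nat_lit 173600) (nat_lit 25) = true := by decide +kernel
theorem chkP_173625 : allRangeF (checkPointF cert) (nat_lit 173625) (nat_lit 25) = true := by decide +kernel
theorem chkP_173650 : allRangeF (checkPointF cert) (nat_lit 173650) (nat_lit 25) = true := by decide +kernel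
theorem chkP_173675 : allRangeF (checkPointF cert) (nat_lit 173675) (nat_lit 25) = true := by decide +kernel
theorem chkP_173700 : allRangeF (checkPointF cert) (nat_lit 173700) (nat_lit 25) = true := by decide +kernel
theorem chkP_173725 : allRangeF (checkPointF cert) (nat_lit 173725) (nat_lit 25) = true := by decide +kernel
theorem chkP_173750 : allRangeF (checkPointF cert) (nat_lit 173750) (nat_lit 25) = true := by decide +kernel
theorem chkP_173775 : allRangeF (checkPointF cert) (nat_lit 173775) (nat_lit 25) = true := by decide +kernel
theorem chkP_173800 : allRangeF (checkPointF cert) (nat_lit 173800) (nat_lit 25) = true := by decide +kernel
theorem chkP_173825 : allRangeF (checkPointF cert) (nat_lit 173825) (nat_lit 25) = true := by decide +kernel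
theorem chkP_173850 : allRangeF (checkPointF cert) (nat_lit 173850) (nat_lit 25) = true := by decide +kernel
theorem chkP_173875 : allRangeF (checkPointF cert) (nat_lit 173875) (nat_lit 25) = true := by decide +kernel
theorem chkP_173900 : allRangeF (checkPointF cert) (nat_lit 173900) (nat_lit 25) = true := by decide +kernel
theorem chkP_173925 : allRangeF (checkPointF cert) (nat_lit 173925) (nat_lit 25) = true := by decide +kernel
theorem chkP_173950 : allRangeF (checkPointF cert) (nat_lit 173950) (nat_lit 25) = true := by decide +kernel
theorem chkP_173975 : allRangeF (checkPointF cert) (nat_lit 173975) (nat_lit 25) = true := by decide +kernel
theorem chkP_174000 : allRangeF (checkPointF cert) (nat_lit 174000) (nat_lit 25) = true := by decide +kernel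
theorem chkP_174025 : allRangeF (checkPointF cert) (nat_lit 174025) (nat_lit 25) = true := by decide +kernel
theorem chkP_174050 : allRangeF (checkPointF cert) (nat_lit 174050) (nat_lit 25) = true := by decide +kernel
theorem chkP_174075 : allRangeF (checkPointF cert) (nat_lit 174075) (nat_lit 25) = true := by decide +kernel
theorem chkP_174100 : allRangeF (checkPointF cert) (nat_lit 174100) (nat_lit 25) = true := by decide +kernel
theorem chkP_174125 : allRangeF (checkPointF cert) (nat_lit 174125) (nat_lit 25) = true := by decide +kernel
theorem chkP_174150 : allRangeF (checkPointF cert) (nat_lit 174150) (nat_lit 25) = true := by decide +kernel
theorem chkP_174175 : allRangeF (checkPointF cert) (nat_lit 174175) (nat_lit 25) = true := by decide +kernel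
theorem chkP_174200 : allRangeF (checkPointF cert) (nat_lit 174200) (nat_lit 25) = true := by decide +kernel
theorem chkP_174225 : allRangeF (checkPointF cert) (nat_lit 174225) (nat_lit 25) = true := by decide +kernel
theorem chkP_174250 : allRangeF (checkPointF cert) (nat_lit 174250) (nat_lit 25) = true := by decide +kernel
theorem chkP_174275 : allRangeF (checkPointF cert) (nat_lit 174275) (nat_lit 25) = true := by decide +kernel
theorem chkP_174300 : allRangeF (checkPointF cert) (nat_lit 174300) (nat_lit 25) = true := by decide +kernel
theorem chkP_174325 : allRangeF (checkPointF cert) (nat_lit 174325) (nat_lit 25) = true := by decide +kernel
theorem chkP_174350 : allRangeF (checkPointF cert) (nat_lit 174350) (nat_lit 25) = true := by decide +kernel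
theorem chkP_174375 : allRangeF (checkPointF cert) (nat_lit 174375) (nat_lit 25) = true := by decide +kernel
theorem chkP_174400 : allRangeF (checkPointF cert) (nat_lit 174400) (nat_lit 25) = true := by decide +kernel
theorem chkP_174425 : allRangeF (checkPointF cert) (nat_lit 174425) (nat_lit 25) = true := by decide +kernel
theorem chkP_174450 : allRangeF (checkPointF cert) (nat_lit 174450) (nat_lit 25) = true := by decide +kernel
theorem chkP_174475 : allRangeF (checkPointF cert) (nat_lit 174475) (nat_lit 25) = true := by decide +kernel
theorem chkP_174500 : allRangeF (checkPointF cert) (nat_lit 174500) (nat_lit 25) = true := by decide +kernel
theorem chkP_174525 : allRangeF (checkPointF cert) (nat_lit 174525) (nat_lit 25) = true := by decide +kernel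
theorem chkP_174550 : allRangeF (checkPointF cert) (nat_lit 174550) (nat_lit 25) = true := by decide +kernel
theorem chkP_174575 : allRangeF (checkPointF cert) (nat_lit 174575) (nat_lit 25) = true := by decide +kernel
theorem chkP_174600 : allRangeF (checkPointF cert) (nat_lit 174600) (nat_lit 25) = true := by decide +kernel
theorem chkP_174625 : allRangeF (checkPointF cert) (nat_lit 174625) (nat_lit 25) = true := by decide +kernel
theorem chkP_174650 : allRangeF (checkPointF cert) (nat_lit 174650) (nat_lit 25) = true := by decide +kernel
theorem chkP_174675 : allRangeF (checkPointF cert) (nat_lit 174675) (nat_lit 25) = true := by decide +kernel
theorem chkP_174700 : allRangeF (checkPointF cert) (nat_lit 174700) (nat_lit 25) = true := by decide +kernel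
theorem chkP_174725 : allRangeF (checkPointF cert) (nat_lit 174725) (nat_lit 25) = true := by decide +kernel
theorem chkP_174750 : allRangeF (checkPointF cert) (nat_lit 174750) (nat_lit 25) = true := by decide +kernel
theorem chkP_174775 : allRangeF (checkPointF cert) (nat_lit 174775) (nat_lit 25) = true := by decide +kernel
theorem chkP_174800 : allRangeF (checkPointF cert) (nat_lit 174800) (nat_lit 25) = true := by decide +kernel
theorem chkP_174825 : allRangeF (checkPointF cert) (nat_lit 174825) (nat_lit 25) = true := by decide +kernel
theorem chkP_174850 : allRangeF (checkPointF cert) (nat_lit 174850) (nat_lit 25) = true := by decide +kernel
theorem chkP_174875 : allRangeF (checkPointF cert) (nat_lit 174875) (nat_lit 25) = true := by decide +kernel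
theorem chkP_174900 : allRangeF (checkPointF cert) (nat_lit 174900) (nat_lit 25) = true := by decide +kernel
theorem chkP_174925 : allRangeF (checkPointF cert) (nat_lit 174925) (nat_lit 25) = true := by decide +kernel
theorem chkP_174950 : allRangeF (checkPointF cert) (nat_lit 174950) (nat_lit 25) = true := by decide +kernel
theorem chkP_174975 : allRangeF (checkPointF cert) (nat_lit 174975) (nat_lit 25) = true := by decide +kernel
theorem chkP_175000 : allRangeF (checkPointF cert) (nat_lit 175000) (nat_lit 25) = true := by decide +kernel
theorem chkP_175025 : allRangeF (checkPointF cert) (nat_lit 175025) (nat_lit 25) = true := by decide +kernel
theorem chkP_175050 : allRangeF (checkPointF cert) (nat_lit 175050) (nat_lit 25) = true := by decide +kernel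
theorem chkP_175075 : allRangeF (checkPointF cert) (nat_lit 175075) (nat_lit 25) = true := by decide +kernel
theorem chkP_175100 : allRangeF (checkPointF cert) (nat_lit 175100) (nat_lit 25) = true := by decide +kernel
theorem chkP_175125 : allRangeF (checkPointF cert) (nat_lit 175125) (nat_lit 25) = true := by decide +kernel
theorem chkP_175150 : allRangeF (checkPointF cert) (nat_lit 175150) (nat_lit 25) = true := by decide +kernel
theorem chkP_175175 : allRangeF (checkPointF cert) (nat_lit 175175) (nat_lit 25) = true := by decide +kernel
theorem chkP_175200 : allRangeF (checkPointF cert) (nat_lit 175200) (nat_lit 25) = true := by decide +kernel
theorem chkP_175225 : allRangeF (checkPointF cert) (nat_lit 175225) (nat_lit 25) = true := by decide +kernel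
theorem chkP_175250 : allRangeF (checkPointF cert) (nat_lit 175250) (nat_lit 25) = true := by decide +kernel
theorem chkP_175275 : allRangeF (checkPointF cert) (nat_lit 175275) (nat_lit 25) = true := by decide +kernel
theorem chkP_175300 : allRangeF (checkPointF cert) (nat_lit 175300) (nat_lit 25) = true := by decide +kernel
theorem chkP_175325 : allRangeF (checkPointF cert) (nat_lit 175325) (nat_lit 25) = true := by decide +kernel
theorem chkP_175350 : allRangeF (checkPointF cert) (nat_lit 175350) (nat_lit 25) = true := by decide +kernel
theorem chkP_175375 : allRangeF (checkPointF cert) (nat_lit 175375) (nat_lit 25) = true := by decide +kernel
theorem chkP_175400 : allRangeF (checkPointF cert) (nat_lit 175400) (nat_lit 25) = true := by decide +kernel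
theorem chkP_175425 : allRangeF (checkPointF cert) (nat_lit 175425) (nat_lit 25) = true := by decide +kernel
theorem chkP_175450 : allRangeF (checkPointF cert) (nat_lit 175450) (nat_lit 25) = true := by decide +kernel
theorem chkP_175475 : allRangeF (checkPointF cert) (nat_lit 175475) (nat_lit 25) = true := by decide +kernel
theorem chkP_175500 : allRangeF (checkPointF cert) (nat_lit 175500) (nat_lit 25) = true := by decide +kernel
theorem chkP_175525 : allRangeF (checkPointF cert) (nat_lit 175525) (nat_lit 25) = true := by decide +kernel
theorem chkP_175550 : allRangeF (checkPointF cert) (nat_lit 175550) (nat_lit 25) = true := by decide +kernel
theorem chkP_175575 : allRangeF (checkPointF cert) (nat_lit 175575) (nat_lit 25) = true := by decide +kernel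
theorem chkP_175600 : allRangeF (checkPointF cert) (nat_lit 175600) (nat_lit 25) = true := by decide +kernel
theorem chkP_175625 : allRangeF (checkPointF cert) (nat_lit 175625) (nat_lit 25) = true := by decide +kernel
theorem chkP_175650 : allRangeF (checkPointF cert) (nat_lit 175650) (nat_lit 25) = true := by decide +kernel
theorem chkP_175675 : allRangeF (checkPointF cert) (nat_lit 175675) (nat_lit 25) = true := by decide +kernel
theorem chkP_175700 : allRangeF (checkPointF cert) (nat_lit 175700) (nat_lit 25) = true := by decide +kernel
theorem chkP_175725 : allRangeF (checkPointF cert) (nat_lit 175725) (nat_lit 25) = true := by decide +kernel
theorem chkP_175750 : allRangeF (checkPointF cert) (nat_lit 175750) (nat_lit 25) = true := by decide +kernel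
theorem chkP_175775 : allRangeF (checkPointF cert) (nat_lit 175775) (nat_lit 25) = true := by decide +kernel
theorem chkP_175800 : allRangeF (checkPointF cert) (nat_lit 175800) (nat_lit 25) = true := by decide +kernel
theorem chkP_175825 : allRangeF (checkPointF cert) (nat_lit 175825) (nat_lit 25) = true := by decide +kernel
theorem chkP_175850 : allRangeF (checkPointF cert) (nat_lit 175850) (nat_lit 25) = true := by decide +kernel
theorem chkP_175875 : allRangeF (checkPointF cert) (nat_lit 175875) (nat_lit 25) = true := by decide +kernel
theorem chkP_175900 : allRangeF (checkPointF cert) (nat_lit 175900) (nat_lit 25) = true := by decide +kernel
theorem chkP_175925 : allRangeF (checkPointF cert) (nat_lit 175925) (nat_lit 25) = true := by decide +kernel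
theorem chkP_175950 : allRangeF (checkPointF cert) (nat_lit 175950) (nat_lit 25) = true := by decide +kernel
theorem chkP_175975 : allRangeF (checkPointF cert) (nat_lit 175975) (nat_lit 25) = true := by decide +kernel
theorem chkP_176000 : allRangeF (checkPointF cert) (nat_lit 176000) (nat_lit 25) = true := by decide +kernel
theorem chkP_176025 : allRangeF (checkPointF cert) (nat_lit 176025) (nat_lit 25) = true := by decide +kernel
theorem chkP_176050 : allRangeF (checkPointF cert) (nat_lit 176050) (nat_lit 25) = true := by decide +kernel
theorem chkP_176075 : allRangeF (checkPointF cert) (nat_lit 176075) (nat_lit 25) = true := by decide +kernel
theorem chkP_176100 : allRangeF (checkPointF cert) (nat_lit 176100) (nat_lit 25) = true := by decide +kernel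
theorem chkP_176125 : allRangeF (checkPointF cert) (nat_lit 176125) (nat_lit 25) = true := by decide +kernel
theorem chkP_176150 : allRangeF (checkPointF cert) (nat_lit 176150) (nat_lit 25) = true := by decide +kernel
theorem chkP_176175 : allRangeF (checkPointF cert) (nat_lit 176175) (nat_lit 25) = true := by decide +kernel
theorem chkP_176200 : allRangeF (checkPointF cert) (nat_lit 176200) (nat_lit 25) = true := by decide +kernel
theorem chkP_176225 : allRangeF (checkPointF cert) (nat_lit 176225) (nat_lit 25) = true := by decide +kernel
theorem chkP_176250 : allRangeF (checkPointF cert) (nat_lit 176250) (nat_lit 25) = true := by decide +kernel
theorem chkP_176275 : allRangeF (checkPointF cert) (nat_lit 176275) (nat_lit 25) = true := by decide +kernel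
theorem chkP_176300 : allRangeF (checkPointF cert) (nat_lit 176300) (nat_lit 25) = true := by decide +kernel
theorem chkP_176325 : allRangeF (checkPointF cert) (nat_lit 176325) (nat_lit 25) = true := by decide +kernel
theorem chkP_176350 : allRangeF (checkPointF cert) (nat_lit 176350) (nat_lit 25) = true := by decide +kernel
theorem chkP_176375 : allRangeF (checkPointF cert) (nat_lit 176375) (nat_lit 25) = true := by decide +kernel
theorem chkP_176400 : allRangeF (checkPointF cert) (nat_lit 176400) (nat_lit 25) = true := by decide +kernel
theorem chkP_176425 : allRangeF (checkPointF cert) (nat_lit 176425) (nat_lit 25) = true := by decide +kernel
theorem chkP_176450 : allRangeF (checkPointF cert) (nat_lit 176450) (nat_lit 25) = true := by decide +kernel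
theorem chkP_176475 : allRangeF (checkPointF cert) (nat_lit 176475) (nat_lit 25) = true := by decide +kernel
theorem chkP_176500 : allRangeF (checkPointF cert) (nat_lit 176500) (nat_lit 25) = true := by decide +kernel

theorem ptsRange_22 : ∀ i, 168850 ≤ i → i < 176525 → checkPoint cert i = true := by
  intro i hlo hhi
  rcases Nat.lt_or_ge i 172675 with h1 | h1
  · skip
    rcases Nat.lt_or_ge i 170750 with h2 | h2
    · skip
      rcases Nat.lt_or_ge i 169800 with h3 | h3
      · skip
        rcases Nat.lt_or_ge i 169325 with h4 | h4
        · skip
          rcases Nat.lt_or_ge i 169075 with h5 | h5
          · skip
            rcases Nat.lt_or_ge i 168950 with h6 | h6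
            · skip
              rcases Nat.lt_or_ge i 168900 with h7 | h7
              · skip
                rcases Nat.lt_or_ge i 168875 with h8 | h8
                · skip
                  exact allRangeF_sound _ _ (checkPointF_eq cert) 168850 25 chkP_168850 i (by omega) (by omega)
                · skip
                  exact allRangeF_sound _ _ (checkPointF_eq cert) 168875 25 chkP_168875 i (by omega) (by omega)
              · skip
                rcases Nat.lt_or_ge i 168925 with h8 | h8
                · skip
                  exact allRangeF_sound _ _ (checkPointF_eq cert) 168900 25 chkP_168900 i (by omega) (by omega)
                · skip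
                  exact allRangeF_sound _ _ (checkPointF_eq cert) 168925 25 chkP_168925 i (by omega) (by omega)
            · skip
              rcases Nat.lt_or_ge i 169000 with h7 | h7
              · skip
                rcases Nat.lt_or_ge i 168975 with h8 | h8
                · skip
                  exact allRangeF_sound _ _ (checkPointF_eq cert) 168950 25 chkP_168950 i (by omega) (by omega)
                · skip
                  exact allRangeF_sound _ _ (checkPointF_eq cert) 168975 25 chkP_168975 i (by omega) (by omega)
              · skip
                rcases Nat.lt_or_ge i 169025 with h8 | h8
                · skip
                  exact allRangeF_sound _ _ (checkPointF_eq cert) 169000 25 chkP_169000 i (by omega) (by omega)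
                · skip
                  rcases Nat.lt_or_ge i 169050 with h9 | h9
                  · skip
                    exact allRangeF_sound _ _ (checkPointF_eq cert) 169025 25 chkP_169025 i (by omega) (by omega)
                  · skip
                    exact allRangeF_sound _ _ (checkPointF_eq cert) 169050 25 chkP_169050 i (by omega) (by omega)
          · skip
            rcases Nat.lt_or_ge i 169200 with h6 | h6
            · skip
              rcases Nat.lt_or_ge i 169125 with h7 | h7
              · skip
                rcases Nat.lt_or_ge i 169100 with h8 | h8
                · skip
                  exact allRangeF_sound _ _ (checkPointF_eq cert) 169075 25 chkP_169075 i (by omega) (by omega)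
                · skip
                  exact allRangeF_sound _ _ (checkPointF_eq cert) 169100 25 chkP_169100 i (by omega) (by omega)
              · skip
                rcases Nat.lt_or_ge i 169150 with h8 | h8
                · skip
                  exact allRangeF_sound _ _ (checkPointF_eq cert) 169125 25 chkP_169125 i (by omega) (by omega)
                · skip
                  rcases Nat.lt_or_ge i 169175 with h9 | h9
                  · skip
                    exact allRangeF_sound _ _ (checkPointF_eq cert) 169150 25 chkP_169150 i (by omega) (by omega)
                  · skip
                    exact allRangeF_sound _ _ (checkPointF_eq cert) 169175 25 chkP_169175 i (by omega) (by omega)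
            · skip
              rcases Nat.lt_or_ge i 169250 with h7 | h7
              · skip
                rcases Nat.lt_or_ge i 169225 with h8 | h8
                · skip
                  exact allRangeF_sound _ _ (checkPointF_eq cert) 169200 25 chkP_169200 i (by omega) (by omega)
                · skip
                  exact allRangeF_sound _ _ (checkPointF_eq cert) 169225 25 chkP_169225 i (by omega) (by omega)
              · skip
                rcases Nat.lt_or_ge i 169275 with h8 | h8
                · skip
                  exact allRangeF_sound _ _ (checkPointF_eq cert) 169250 25 chkP_169250 i (by omega) (by omega)
                · skip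
                  rcases Nat.lt_or_ge i 169300 with h9 | h9
                  · skip
                    exact allRangeF_sound _ _ (checkPointF_eq cert) 169275 25 chkP_169275 i (by omega) (by omega)
                  · skip
                    exact allRangeF_sound _ _ (checkPointF_eq cert) 169300 25 chkP_169300 i (by omega) (by omega)
        · skip
          rcases Nat.lt_or_ge i 169550 with h5 | h5
          · skip
            rcases Nat.lt_or_ge i 169425 with h6 | h6
            · skip
              rcases Nat.lt_or_ge i 169375 with h7 | h7
              · skip
                rcases Nat.lt_or_ge i 169350 with h8 | h8
                · skip
                  exact allRangeF_sound _ _ (checkPointF_eq cert) 169325 25 chkP_169325 i (by omega) (by omega)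
                · skip
                  exact allRangeF_sound _ _ (checkPointF_eq cert) 169350 25 chkP_169350 i (by omega) (by omega)
              · skip
                rcases Nat.lt_or_ge i 169400 with h8 | h8
                · skip
                  exact allRangeF_sound _ _ (checkPointF_eq cert) 169375 25 chkP_169375 i (by omega) (by omega)
                · skip
                  exact allRangeF_sound _ _ (checkPointF_eq cert) 169400 25 chkP_169400 i (by omega) (by omega)
            · skip
              rcases Nat.lt_or_ge i 169475 with h7 | h7
              · skip
                rcases Nat.lt_or_ge i 169450 with h8 | h8
                · skip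
                  exact allRangeF_sound _ _ (checkPointF_eq cert) 169425 25 chkP_169425 i (by omega) (by omega)
                · skip
                  exact allRangeF_sound _ _ (checkPointF_eq cert) 169450 25 chkP_169450 i (by omega) (by omega)
              · skip
                rcases Nat.lt_or_ge i 169500 with h8 | h8
                · skip
                  exact allRangeF_sound _ _ (checkPointF_eq cert) 169475 25 chkP_169475 i (by omega) (by omega)
                · skip
                  rcases Nat.lt_or_ge i 169525 with h9 | h9
                  · skip
                    exact allRangeF_sound _ _ (checkPointF_eq cert) 169500 25 chkP_169500 i (by omega) (by omega)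
                  · skip
                    exact allRangeF_sound _ _ (checkPointF_eq cert) 169525 25 chkP_169525 i (by omega) (by omega)
          · skip
            rcases Nat.lt_or_ge i 169675 with h6 | h6
            · skip
              rcases Nat.lt_or_ge i 169600 with h7 | h7
              · skip
                rcases Nat.lt_or_ge i 169575 with h8 | h8
                · skip
                  exact allRangeF_sound _ _ (checkPointF_eq cert) 169550 25 chkP_169550 i (by omega) (by omega)
                · skip
                  exact allRangeF_sound _ _ (checkPointF_eq cert) 169575 25 chkP_169575 i (by omega) (by omega)
              · skip
                rcases Nat.lt_or_ge i 169625 with h8 | h8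
                · skip
                  exact allRangeF_sound _ _ (checkPointF_eq cert) 169600 25 chkP_169600 i (by omega) (by omega)
                · skip
                  rcases Nat.lt_or_ge i 169650 with h9 | h9
                  · skip
                    exact allRangeF_sound _ _ (checkPointF_eq cert) 169625 25 chkP_169625 i (by omega) (by omega)
                  · skip
                    exact allRangeF_sound _ _ (checkPointF_eq cert) 169650 25 chkP_169650 i (by omega) (by omega)
            · skip
              rcases Nat.lt_or_ge i 169725 with h7 | h7
              · skip
                rcases Nat.lt_or_ge i 169700 with h8 | h8
                · skip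
                  exact allRangeF_sound _ _ (checkPointF_eq cert) 169675 25 chkP_169675 i (by omega) (by omega)
                · skip
                  exact allRangeF_sound _ _ (checkPointF_eq cert) 169700 25 chkP_169700 i (by omega) (by omega)
              · skip
                rcases Nat.lt_or_ge i 169750 with h8 | h8
                · skip
                  exact allRangeF_sound _ _ (checkPointF_eq cert) 169725 25 chkP_169725 i (by omega) (by omega)
                · skip
                  rcases Nat.lt_or_ge i 169775 with h9 | h9
                  · skip
                    exact allRangeF_sound _ _ (checkPointF_eq cert) 169750 25 chkP_169750 i (by omega) (by omega)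
                  · skip
                    exact allRangeF_sound _ _ (checkPointF_eq cert) 169775 25 chkP_169775 i (by omega) (by omega)
      · skip
        rcases Nat.lt_or_ge i 170275 with h4 | h4
        · skip
          rcases Nat.lt_or_ge i 170025 with h5 | h5
          · skip
            rcases Nat.lt_or_ge i 169900 with h6 | h6
            · skip
              rcases Nat.lt_or_ge i 169850 with h7 | h7
              · skip
                rcases Nat.lt_or_ge i 169825 with h8 | h8
                · skip
                  exact allRangeF_sound _ _ (checkPointF_eq cert) 169800 25 chkP_169800 i (by omega) (by omega)
                · skip
                  exact allRangeF_sound _ _ (checkPointF_eq cert) 169825 25 chkP_169825 i (by omega) (by omega)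
              · skip
                rcases Nat.lt_or_ge i 169875 with h8 | h8
                · skip
                  exact allRangeF_sound _ _ (checkPointF_eq cert) 169850 25 chkP_169850 i (by omega) (by omega)
                · skip
                  exact allRangeF_sound _ _ (checkPointF_eq cert) 169875 25 chkP_169875 i (by omega) (by omega)
            · skip
              rcases Nat.lt_or_ge i 169950 with h7 | h7
              · skip
                rcases Nat.lt_or_ge i 169925 with h8 | h8
                · skip
                  exact allRangeF_sound _ _ (checkPointF_eq cert) 169900 25 chkP_169900 i (by omega) (by omega)
                · skip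
                  exact allRangeF_sound _ _ (checkPointF_eq cert) 169925 25 chkP_169925 i (by omega) (by omega)
              · skip
                rcases Nat.lt_or_ge i 169975 with h8 | h8
                · skip
                  exact allRangeF_sound _ _ (checkPointF_eq cert) 169950 25 chkP_169950 i (by omega) (by omega)
                · skip
                  rcases Nat.lt_or_ge i 170000 with h9 | h9
                  · skip
                    exact allRangeF_sound _ _ (checkPointF_eq cert) 169975 25 chkP_169975 i (by omega) (by omega)
                  · skip
                    exact allRangeF_sound _ _ (checkPointF_eq cert) 170000 25 chkP_170000 i (by omega) (by omega)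
          · skip
            rcases Nat.lt_or_ge i 170150 with h6 | h6
            · skip
              rcases Nat.lt_or_ge i 170075 with h7 | h7
              · skip
                rcases Nat.lt_or_ge i 170050 with h8 | h8
                · skip
                  exact allRangeF_sound _ _ (checkPointF_eq cert) 170025 25 chkP_170025 i (by omega) (by omega)
                · skip
                  exact allRangeF_sound _ _ (checkPointF_eq cert) 170050 25 chkP_170050 i (by omega) (by omega)
              · skip
                rcases Nat.lt_or_ge i 170100 with h8 | h8
                · skip
                  exact allRangeF_sound _ _ (checkPointF_eq cert) 170075 25 chkP_170075 i (by omega) (by omega)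
                · skip
                  rcases Nat.lt_or_ge i 170125 with h9 | h9
                  · skip
                    exact allRangeF_sound _ _ (checkPointF_eq cert) 170100 25 chkP_170100 i (by omega) (by omega)
                  · skip
                    exact allRangeF_sound _ _ (checkPointF_eq cert) 170125 25 chkP_170125 i (by omega) (by omega)
            · skip
              rcases Nat.lt_or_ge i 170200 with h7 | h7
              · skip
                rcases Nat.lt_or_ge i 170175 with h8 | h8
                · skip
                  exact allRangeF_sound _ _ (checkPointF_eq cert) 170150 25 chkP_170150 i (by omega) (by omega)
                · skip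
                  exact allRangeF_sound _ _ (checkPointF_eq cert) 170175 25 chkP_170175 i (by omega) (by omega)
              · skip
                rcases Nat.lt_or_ge i 170225 with h8 | h8
                · skip
                  exact allRangeF_sound _ _ (checkPointF_eq cert) 170200 25 chkP_170200 i (by omega) (by omega)
                · skip
                  rcases Nat.lt_or_ge i 170250 with h9 | h9
                  · skip
                    exact allRangeF_sound _ _ (checkPointF_eq cert) 170225 25 chkP_170225 i (by omega) (by omega)
                  · skip
                    exact allRangeF_sound _ _ (checkPointF_eq cert) 170250 25 chkP_170250 i (by omega) (by omega)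
        · skip
          rcases Nat.lt_or_ge i 170500 with h5 | h5
          · skip
            rcases Nat.lt_or_ge i 170375 with h6 | h6
            · skip
              rcases Nat.lt_or_ge i 170325 with h7 | h7
              · skip
                rcases Nat.lt_or_ge i 170300 with h8 | h8
                · skip
                  exact allRangeF_sound _ _ (checkPointF_eq cert) 170275 25 chkP_170275 i (by omega) (by omega)
                · skip
                  exact allRangeF_sound _ _ (checkPointF_eq cert) 170300 25 chkP_170300 i (by omega) (by omega)
              · skip
                rcases Nat.lt_or_ge i 170350 with h8 | h8
                · skip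
                  exact allRangeF_sound _ _ (checkPointF_eq cert) 170325 25 chkP_170325 i (by omega) (by omega)
                · skip
                  exact allRangeF_sound _ _ (checkPointF_eq cert) 170350 25 chkP_170350 i (by omega) (by omega)
            · skip
              rcases Nat.lt_or_ge i 170425 with h7 | h7
              · skip
                rcases Nat.lt_or_ge i 170400 with h8 | h8
                · skip
                  exact allRangeF_sound _ _ (checkPointF_eq cert) 170375 25 chkP_170375 i (by omega) (by omega)
                · skip
                  exact allRangeF_sound _ _ (checkPointF_eq cert) 170400 25 chkP_170400 i (by omega) (by omega)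
              · skip
                rcases Nat.lt_or_ge i 170450 with h8 | h8
                · skip
                  exact allRangeF_sound _ _ (checkPointF_eq cert) 170425 25 chkP_170425 i (by omega) (by omega)
                · skip
                  rcases Nat.lt_or_ge i 170475 with h9 | h9
                  · skip
                    exact allRangeF_sound _ _ (checkPointF_eq cert) 170450 25 chkP_170450 i (by omega) (by omega)
                  · skip
                    exact allRangeF_sound _ _ (checkPointF_eq cert) 170475 25 chkP_170475 i (by omega) (by omega)
          · skip
            rcases Nat.lt_or_ge i 170625 with h6 | h6
            · skip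
              rcases Nat.lt_or_ge i 170550 with h7 | h7
              · skip
                rcases Nat.lt_or_ge i 170525 with h8 | h8
                · skip
                  exact allRangeF_sound _ _ (checkPointF_eq cert) 170500 25 chkP_170500 i (by omega) (by omega)
                · skip
                  exact allRangeF_sound _ _ (checkPointF_eq cert) 170525 25 chkP_170525 i (by omega) (by omega)
              · skip
                rcases Nat.lt_or_ge i 170575 with h8 | h8
                · skip
                  exact allRangeF_sound _ _ (checkPointF_eq cert) 170550 25 chkP_170550 i (by omega) (by omega)
                · skip
                  rcases Nat.lt_or_ge i 170600 with h9 | h9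
                  · skip
                    exact allRangeF_sound _ _ (checkPointF_eq cert) 170575 25 chkP_170575 i (by omega) (by omega)
                  · skip
                    exact allRangeF_sound _ _ (checkPointF_eq cert) 170600 25 chkP_170600 i (by omega) (by omega)
            · skip
              rcases Nat.lt_or_ge i 170675 with h7 | h7
              · skip
                rcases Nat.lt_or_ge i 170650 with h8 | h8
                · skip
                  exact allRangeF_sound _ _ (checkPointF_eq cert) 170625 25 chkP_170625 i (by omega) (by omega)
                · skip
                  exact allRangeF_sound _ _ (checkPointF_eq cert) 170650 25 chkP_170650 i (by omega) (by omega)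
              · skip
                rcases Nat.lt_or_ge i 170700 with h8 | h8
                · skip
                  exact allRangeF_sound _ _ (checkPointF_eq cert) 170675 25 chkP_170675 i (by omega) (by omega)
                · skip
                  rcases Nat.lt_or_ge i 170725 with h9 | h9
                  · skip
                    exact allRangeF_sound _ _ (checkPointF_eq cert) 170700 25 chkP_170700 i (by omega) (by omega)
                  · skip
                    exact allRangeF_sound _ _ (checkPointF_eq cert) 170725 25 chkP_170725 i (by omega) (by omega)
    · skip
      rcases Nat.lt_or_ge i 171700 with h3 | h3
      · skip
        rcases Nat.lt_or_ge i 171225 with h4 | h4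
        · skip
          rcases Nat.lt_or_ge i 170975 with h5 | h5
          · skip
            rcases Nat.lt_or_ge i 170850 with h6 | h6
            · skip
              rcases Nat.lt_or_ge i 170800 with h7 | h7
              · skip
                rcases Nat.lt_or_ge i 170775 with h8 | h8
                · skip
                  exact allRangeF_sound _ _ (checkPointF_eq cert) 170750 25 chkP_170750 i (by omega) (by omega)
                · skip
                  exact allRangeF_sound _ _ (checkPointF_eq cert) 170775 25 chkP_170775 i (by omega) (by omega)
              · skip
                rcases Nat.lt_or_ge i 170825 with h8 | h8
                · skip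
                  exact allRangeF_sound _ _ (checkPointF_eq cert) 170800 25 chkP_170800 i (by omega) (by omega)
                · skip
                  exact allRangeF_sound _ _ (checkPointF_eq cert) 170825 25 chkP_170825 i (by omega) (by omega)
            · skip
              rcases Nat.lt_or_ge i 170900 with h7 | h7
              · skip
                rcases Nat.lt_or_ge i 170875 with h8 | h8
                · skip
                  exact allRangeF_sound _ _ (checkPointF_eq cert) 170850 25 chkP_170850 i (by omega) (by omega)
                · skip
                  exact allRangeF_sound _ _ (checkPointF_eq cert) 170875 25 chkP_170875 i (by omega) (by omega)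
              · skip
                rcases Nat.lt_or_ge i 170925 with h8 | h8
                · skip
                  exact allRangeF_sound _ _ (checkPointF_eq cert) 170900 25 chkP_170900 i (by omega) (by omega)
                · skip
                  rcases Nat.lt_or_ge i 170950 with h9 | h9
                  · skip
                    exact allRangeF_sound _ _ (checkPointF_eq cert) 170925 25 chkP_170925 i (by omega) (by omega)
                  · skip
                    exact allRangeF_sound _ _ (checkPointF_eq cert) 170950 25 chkP_170950 i (by omega) (by omega)
          · skip
            rcases Nat.lt_or_ge i 171100 with h6 | h6
            · skip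
              rcases Nat.lt_or_ge i 171025 with h7 | h7
              · skip
                rcases Nat.lt_or_ge i 171000 with h8 | h8
                · skip
                  exact allRangeF_sound _ _ (checkPointF_eq cert) 170975 25 chkP_170975 i (by omega) (by omega)
                · skip
                  exact allRangeF_sound _ _ (checkPointF_eq cert) 171000 25 chkP_171000 i (by omega) (by omega)
              · skip
                rcases Nat.lt_or_ge i 171050 with h8 | h8
                · skip
                  exact allRangeF_sound _ _ (checkPointF_eq cert) 171025 25 chkP_171025 i (by omega) (by omega)
                · skip
                  rcases Nat.lt_or_ge i 171075 with h9 | h9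
                  · skip
                    exact allRangeF_sound _ _ (checkPointF_eq cert) 171050 25 chkP_171050 i (by omega) (by omega)
                  · skip
                    exact allRangeF_sound _ _ (checkPointF_eq cert) 171075 25 chkP_171075 i (by omega) (by omega)
            · skip
              rcases Nat.lt_or_ge i 171150 with h7 | h7
              · skip
                rcases Nat.lt_or_ge i 171125 with h8 | h8
                · skip
                  exact allRangeF_sound _ _ (checkPointF_eq cert) 171100 25 chkP_171100 i (by omega) (by omega)
                · skip
                  exact allRangeF_sound _ _ (checkPointF_eq cert) 171125 25 chkP_171125 i (by omega) (by omega)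
              · skip
                rcases Nat.lt_or_ge i 171175 with h8 | h8
                · skip
                  exact allRangeF_sound _ _ (checkPointF_eq cert) 171150 25 chkP_171150 i (by omega) (by omega)
                · skip
                  rcases Nat.lt_or_ge i 171200 with h9 | h9
                  · skip
                    exact allRangeF_sound _ _ (checkPointF_eq cert) 171175 25 chkP_171175 i (by omega) (by omega)
                  · skip
                    exact allRangeF_sound _ _ (checkPointF_eq cert) 171200 25 chkP_171200 i (by omega) (by omega)
        · skip
          rcases Nat.lt_or_ge i 171450 with h5 | h5
          · skip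
            rcases Nat.lt_or_ge i 171325 with h6 | h6
            · skip
              rcases Nat.lt_or_ge i 171275 with h7 | h7
              · skip
                rcases Nat.lt_or_ge i 171250 with h8 | h8
                · skip
                  exact allRangeF_sound _ _ (checkPointF_eq cert) 171225 25 chkP_171225 i (by omega) (by omega)
                · skip
                  exact allRangeF_sound _ _ (checkPointF_eq cert) 171250 25 chkP_171250 i (by omega) (by omega)
              · skip
                rcases Nat.lt_or_ge i 171300 with h8 | h8
                · skip
                  exact allRangeF_sound _ _ (checkPointF_eq cert) 171275 25 chkP_171275 i (by omega) (by omega)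
                · skip
                  exact allRangeF_sound _ _ (checkPointF_eq cert) 171300 25 chkP_171300 i (by omega) (by omega)
            · skip
              rcases Nat.lt_or_ge i 171375 with h7 | h7
              · skip
                rcases Nat.lt_or_ge i 171350 with h8 | h8
                · skip
                  exact allRangeF_sound _ _ (checkPointF_eq cert) 171325 25 chkP_171325 i (by omega) (by omega)
                · skip
                  exact allRangeF_sound _ _ (checkPointF_eq cert) 171350 25 chkP_171350 i (by omega) (by omega)
              · skip
                rcases Nat.lt_or_ge i 171400 with h8 | h8
                · skip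
                  exact allRangeF_sound _ _ (checkPointF_eq cert) 171375 25 chkP_171375 i (by omega) (by omega)
                · skip
                  rcases Nat.lt_or_ge i 171425 with h9 | h9
                  · skip
                    exact allRangeF_sound _ _ (checkPointF_eq cert) 171400 25 chkP_171400 i (by omega) (by omega)
                  · skip
                    exact allRangeF_sound _ _ (checkPointF_eq cert) 171425 25 chkP_171425 i (by omega) (by omega)
          · skip
            rcases Nat.lt_or_ge i 171575 with h6 | h6
            · skip
              rcases Nat.lt_or_ge i 171500 with h7 | h7
              · skip
                rcases Nat.lt_or_ge i 171475 with h8 | h8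
                · skip
                  exact allRangeF_sound _ _ (checkPointF_eq cert) 171450 25 chkP_171450 i (by omega) (by omega)
                · skip
                  exact allRangeF_sound _ _ (checkPointF_eq cert) 171475 25 chkP_171475 i (by omega) (by omega)
              · skip
                rcases Nat.lt_or_ge i 171525 with h8 | h8
                · skip
                  exact allRangeF_sound _ _ (checkPointF_eq cert) 171500 25 chkP_171500 i (by omega) (by omega)
                · skip
                  rcases Nat.lt_or_ge i 171550 with h9 | h9
                  · skip
                    exact allRangeF_sound _ _ (checkPointF_eq cert) 171525 25 chkP_171525 i (by omega) (by omega)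
                  · skip
                    exact allRangeF_sound _ _ (checkPointF_eq cert) 171550 25 chkP_171550 i (by omega) (by omega)
            · skip
              rcases Nat.lt_or_ge i 171625 with h7 | h7
              · skip
                rcases Nat.lt_or_ge i 171600 with h8 | h8
                · skip
                  exact allRangeF_sound _ _ (checkPointF_eq cert) 171575 25 chkP_171575 i (by omega) (by omega)
                · skip
                  exact allRangeF_sound _ _ (checkPointF_eq cert) 171600 25 chkP_171600 i (by omega) (by omega)
              · skip
                rcases Nat.lt_or_ge i 171650 with h8 | h8
                · skip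
                  exact allRangeF_sound _ _ (checkPointF_eq cert) 171625 25 chkP_171625 i (by omega) (by omega)
                · skip
                  rcases Nat.lt_or_ge i 171675 with h9 | h9
                  · skip
                    exact allRangeF_sound _ _ (checkPointF_eq cert) 171650 25 chkP_171650 i (by omega) (by omega)
                  · skip
                    exact allRangeF_sound _ _ (checkPointF_eq cert) 171675 25 chkP_171675 i (by omega) (by omega)
      · skip
        rcases Nat.lt_or_ge i 172175 with h4 | h4
        · skip
          rcases Nat.lt_or_ge i 171925 with h5 | h5
          · skip
            rcases Nat.lt_or_ge i 171800 with h6 | h6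
            · skip
              rcases Nat.lt_or_ge i 171750 with h7 | h7
              · skip
                rcases Nat.lt_or_ge i 171725 with h8 | h8
                · skip
                  exact allRangeF_sound _ _ (checkPointF_eq cert) 171700 25 chkP_171700 i (by omega) (by omega)
                · skip
                  exact allRangeF_sound _ _ (checkPointF_eq cert) 171725 25 chkP_171725 i (by omega) (by omega)
              · skip
                rcases Nat.lt_or_ge i 171775 with h8 | h8
                · skip
                  exact allRangeF_sound _ _ (checkPointF_eq cert) 171750 25 chkP_171750 i (by omega) (by omega)
                · skip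
                  exact allRangeF_sound _ _ (checkPointF_eq cert) 171775 25 chkP_171775 i (by omega) (by omega)
            · skip
              rcases Nat.lt_or_ge i 171850 with h7 | h7
              · skip
                rcases Nat.lt_or_ge i 171825 with h8 | h8
                · skip
                  exact allRangeF_sound _ _ (checkPointF_eq cert) 171800 25 chkP_171800 i (by omega) (by omega)
                · skip
                  exact allRangeF_sound _ _ (checkPointF_eq cert) 171825 25 chkP_171825 i (by omega) (by omega)
              · skip
                rcases Nat.lt_or_ge i 171875 with h8 | h8
                · skip
                  exact allRangeF_sound _ _ (checkPointF_eq cert) 171850 25 chkP_171850 i (by omega) (by omega)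
                · skip
                  rcases Nat.lt_or_ge i 171900 with h9 | h9
                  · skip
                    exact allRangeF_sound _ _ (checkPointF_eq cert) 171875 25 chkP_171875 i (by omega) (by omega)
                  · skip
                    exact allRangeF_sound _ _ (checkPointF_eq cert) 171900 25 chkP_171900 i (by omega) (by omega)
          · skip
            rcases Nat.lt_or_ge i 172050 with h6 | h6
            · skip
              rcases Nat.lt_or_ge i 171975 with h7 | h7
              · skip
                rcases Nat.lt_or_ge i 171950 with h8 | h8
                · skip
                  exact allRangeF_sound _ _ (checkPointF_eq cert) 171925 25 chkP_171925 i (by omega) (by omega)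
                · skip
                  exact allRangeF_sound _ _ (checkPointF_eq cert) 171950 25 chkP_171950 i (by omega) (by omega)
              · skip
                rcases Nat.lt_or_ge i 172000 with h8 | h8
                · skip
                  exact allRangeF_sound _ _ (checkPointF_eq cert) 171975 25 chkP_171975 i (by omega) (by omega)
                · skip
                  rcases Nat.lt_or_ge i 172025 with h9 | h9
                  · skip
                    exact allRangeF_sound _ _ (checkPointF_eq cert) 172000 25 chkP_172000 i (by omega) (by omega)
                  · skip
                    exact allRangeF_sound _ _ (checkPointF_eq cert) 172025 25 chkP_172025 i (by omega) (by omega)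
            · skip
              rcases Nat.lt_or_ge i 172100 with h7 | h7
              · skip
                rcases Nat.lt_or_ge i 172075 with h8 | h8
                · skip
                  exact allRangeF_sound _ _ (checkPointF_eq cert) 172050 25 chkP_172050 i (by omega) (by omega)
                · skip
                  exact allRangeF_sound _ _ (checkPointF_eq cert) 172075 25 chkP_172075 i (by omega) (by omega)
              · skip
                rcases Nat.lt_or_ge i 172125 with h8 | h8
                · skip
                  exact allRangeF_sound _ _ (checkPointF_eq cert) 172100 25 chkP_172100 i (by omega) (by omega)
                · skip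
                  rcases Nat.lt_or_ge i 172150 with h9 | h9
                  · skip
                    exact allRangeF_sound _ _ (checkPointF_eq cert) 172125 25 chkP_172125 i (by omega) (by omega)
                  · skip
                    exact allRangeF_sound _ _ (checkPointF_eq cert) 172150 25 chkP_172150 i (by omega) (by omega)
        · skip
          rcases Nat.lt_or_ge i 172425 with h5 | h5
          · skip
            rcases Nat.lt_or_ge i 172300 with h6 | h6
            · skip
              rcases Nat.lt_or_ge i 172225 with h7 | h7
              · skip
                rcases Nat.lt_or_ge i 172200 with h8 | h8
                · skip
                  exact allRangeF_sound _ _ (checkPointF_eq cert) 172175 25 chkP_172175 i (by omega) (by omega)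
                · skip
                  exact allRangeF_sound _ _ (checkPointF_eq cert) 172200 25 chkP_172200 i (by omega) (by omega)
              · skip
                rcases Nat.lt_or_ge i 172250 with h8 | h8
                · skip
                  exact allRangeF_sound _ _ (checkPointF_eq cert) 172225 25 chkP_172225 i (by omega) (by omega)
                · skip
                  rcases Nat.lt_or_ge i 172275 with h9 | h9
                  · skip
                    exact allRangeF_sound _ _ (checkPointF_eq cert) 172250 25 chkP_172250 i (by omega) (by omega)
                  · skip
                    exact allRangeF_sound _ _ (checkPointF_eq cert) 172275 25 chkP_172275 i (by omega) (by omega)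
            · skip
              rcases Nat.lt_or_ge i 172350 with h7 | h7
              · skip
                rcases Nat.lt_or_ge i 172325 with h8 | h8
                · skip
                  exact allRangeF_sound _ _ (checkPointF_eq cert) 172300 25 chkP_172300 i (by omega) (by omega)
                · skip
                  exact allRangeF_sound _ _ (checkPointF_eq cert) 172325 25 chkP_172325 i (by omega) (by omega)
              · skip
                rcases Nat.lt_or_ge i 172375 with h8 | h8
                · skip
                  exact allRangeF_sound _ _ (checkPointF_eq cert) 172350 25 chkP_172350 i (by omega) (by omega)
                · skip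
                  rcases Nat.lt_or_ge i 172400 with h9 | h9
                  · skip
                    exact allRangeF_sound _ _ (checkPointF_eq cert) 172375 25 chkP_172375 i (by omega) (by omega)
                  · skip
                    exact allRangeF_sound _ _ (checkPointF_eq cert) 172400 25 chkP_172400 i (by omega) (by omega)
          · skip
            rcases Nat.lt_or_ge i 172550 with h6 | h6
            · skip
              rcases Nat.lt_or_ge i 172475 with h7 | h7
              · skip
                rcases Nat.lt_or_ge i 172450 with h8 | h8
                · skip
                  exact allRangeF_sound _ _ (checkPointF_eq cert) 172425 25 chkP_172425 i (by omega) (by omega)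
                · skip
                  exact allRangeF_sound _ _ (checkPointF_eq cert) 172450 25 chkP_172450 i (by omega) (by omega)
              · skip
                rcases Nat.lt_or_ge i 172500 with h8 | h8
                · skip
                  exact allRangeF_sound _ _ (checkPointF_eq cert) 172475 25 chkP_172475 i (by omega) (by omega)
                · skip
                  rcases Nat.lt_or_ge i 172525 with h9 | h9
                  · skip
                    exact allRangeF_sound _ _ (checkPointF_eq cert) 172500 25 chkP_172500 i (by omega) (by omega)
                  · skip
                    exact allRangeF_sound _ _ (checkPointF_eq cert) 172525 25 chkP_172525 i (by omega) (by omega)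
            · skip
              rcases Nat.lt_or_ge i 172600 with h7 | h7
              · skip
                rcases Nat.lt_or_ge i 172575 with h8 | h8
                · skip
                  exact allRangeF_sound _ _ (checkPointF_eq cert) 172550 25 chkP_172550 i (by omega) (by omega)
                · skip
                  exact allRangeF_sound _ _ (checkPointF_eq cert) 172575 25 chkP_172575 i (by omega) (by omega)
              · skip
                rcases Nat.lt_or_ge i 172625 with h8 | h8
                · skip
                  exact allRangeF_sound _ _ (checkPointF_eq cert) 172600 25 chkP_172600 i (by omega) (by omega)
                · skip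
                  rcases Nat.lt_or_ge i 172650 with h9 | h9
                  · skip
                    exact allRangeF_sound _ _ (checkPointF_eq cert) 172625 25 chkP_172625 i (by omega) (by omega)
                  · skip
                    exact allRangeF_sound _ _ (checkPointF_eq cert) 172650 25 chkP_172650 i (by omega) (by omega)
  · skip
    rcases Nat.lt_or_ge i 174600 with h2 | h2
    · skip
      rcases Nat.lt_or_ge i 173625 with h3 | h3
      · skip
        rcases Nat.lt_or_ge i 173150 with h4 | h4
        · skip
          rcases Nat.lt_or_ge i 172900 with h5 | h5
          · skip
            rcases Nat.lt_or_ge i 172775 with h6 | h6
            · skip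
              rcases Nat.lt_or_ge i 172725 with h7 | h7
              · skip
                rcases Nat.lt_or_ge i 172700 with h8 | h8
                · skip
                  exact allRangeF_sound _ _ (checkPointF_eq cert) 172675 25 chkP_172675 i (by omega) (by omega)
                · skip
                  exact allRangeF_sound _ _ (checkPointF_eq cert) 172700 25 chkP_172700 i (by omega) (by omega)
              · skip
                rcases Nat.lt_or_ge i 172750 with h8 | h8
                · skip
                  exact allRangeF_sound _ _ (checkPointF_eq cert) 172725 25 chkP_172725 i (by omega) (by omega)
                · skip
                  exact allRangeF_sound _ _ (checkPointF_eq cert) 172750 25 chkP_172750 i (by omega) (by omega)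
            · skip
              rcases Nat.lt_or_ge i 172825 with h7 | h7
              · skip
                rcases Nat.lt_or_ge i 172800 with h8 | h8
                · skip
                  exact allRangeF_sound _ _ (checkPointF_eq cert) 172775 25 chkP_172775 i (by omega) (by omega)
                · skip
                  exact allRangeF_sound _ _ (checkPointF_eq cert) 172800 25 chkP_172800 i (by omega) (by omega)
              · skip
                rcases Nat.lt_or_ge i 172850 with h8 | h8
                · skip
                  exact allRangeF_sound _ _ (checkPointF_eq cert) 172825 25 chkP_172825 i (by omega) (by omega)
                · skip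
                  rcases Nat.lt_or_ge i 172875 with h9 | h9
                  · skip
                    exact allRangeF_sound _ _ (checkPointF_eq cert) 172850 25 chkP_172850 i (by omega) (by omega)
                  · skip
                    exact allRangeF_sound _ _ (checkPointF_eq cert) 172875 25 chkP_172875 i (by omega) (by omega)
          · skip
            rcases Nat.lt_or_ge i 173025 with h6 | h6
            · skip
              rcases Nat.lt_or_ge i 172950 with h7 | h7
              · skip
                rcases Nat.lt_or_ge i 172925 with h8 | h8
                · skip
                  exact allRangeF_sound _ _ (checkPointF_eq cert) 172900 25 chkP_172900 i (by omega) (by omega)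
                · skip
                  exact allRangeF_sound _ _ (checkPointF_eq cert) 172925 25 chkP_172925 i (by omega) (by omega)
              · skip
                rcases Nat.lt_or_ge i 172975 with h8 | h8
                · skip
                  exact allRangeF_sound _ _ (checkPointF_eq cert) 172950 25 chkP_172950 i (by omega) (by omega)
                · skip
                  rcases Nat.lt_or_ge i 173000 with h9 | h9
                  · skip
                    exact allRangeF_sound _ _ (checkPointF_eq cert) 172975 25 chkP_172975 i (by omega) (by omega)
                  · skip
                    exact allRangeF_sound _ _ (checkPointF_eq cert) 173000 25 chkP_173000 i (by omega) (by omega)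
            · skip
              rcases Nat.lt_or_ge i 173075 with h7 | h7
              · skip
                rcases Nat.lt_or_ge i 173050 with h8 | h8
                · skip
                  exact allRangeF_sound _ _ (checkPointF_eq cert) 173025 25 chkP_173025 i (by omega) (by omega)
                · skip
                  exact allRangeF_sound _ _ (checkPointF_eq cert) 173050 25 chkP_173050 i (by omega) (by omega)
              · skip
                rcases Nat.lt_or_ge i 173100 with h8 | h8
                · skip
                  exact allRangeF_sound _ _ (checkPointF_eq cert) 173075 25 chkP_173075 i (by omega) (by omega)
                · skip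
                  rcases Nat.lt_or_ge i 173125 with h9 | h9
                  · skip
                    exact allRangeF_sound _ _ (checkPointF_eq cert) 173100 25 chkP_173100 i (by omega) (by omega)
                  · skip
                    exact allRangeF_sound _ _ (checkPointF_eq cert) 173125 25 chkP_173125 i (by omega) (by omega)
        · skip
          rcases Nat.lt_or_ge i 173375 with h5 | h5
          · skip
            rcases Nat.lt_or_ge i 173250 with h6 | h6
            · skip
              rcases Nat.lt_or_ge i 173200 with h7 | h7
              · skip
                rcases Nat.lt_or_ge i 173175 with h8 | h8
                · skip
                  exact allRangeF_sound _ _ (checkPointF_eq cert) 173150 25 chkP_173150 i (by omega) (by omega)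
                · skip
                  exact allRangeF_sound _ _ (checkPointF_eq cert) 173175 25 chkP_173175 i (by omega) (by omega)
              · skip
                rcases Nat.lt_or_ge i 173225 with h8 | h8
                · skip
                  exact allRangeF_sound _ _ (checkPointF_eq cert) 173200 25 chkP_173200 i (by omega) (by omega)
                · skip
                  exact allRangeF_sound _ _ (checkPointF_eq cert) 173225 25 chkP_173225 i (by omega) (by omega)
            · skip
              rcases Nat.lt_or_ge i 173300 with h7 | h7
              · skip
                rcases Nat.lt_or_ge i 173275 with h8 | h8
                · skip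
                  exact allRangeF_sound _ _ (checkPointF_eq cert) 173250 25 chkP_173250 i (by omega) (by omega)
                · skip
                  exact allRangeF_sound _ _ (checkPointF_eq cert) 173275 25 chkP_173275 i (by omega) (by omega)
              · skip
                rcases Nat.lt_or_ge i 173325 with h8 | h8
                · skip
                  exact allRangeF_sound _ _ (checkPointF_eq cert) 173300 25 chkP_173300 i (by omega) (by omega)
                · skip
                  rcases Nat.lt_or_ge i 173350 with h9 | h9
                  · skip
                    exact allRangeF_sound _ _ (checkPointF_eq cert) 173325 25 chkP_173325 i (by omega) (by omega)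
                  · skip
                    exact allRangeF_sound _ _ (checkPointF_eq cert) 173350 25 chkP_173350 i (by omega) (by omega)
          · skip
            rcases Nat.lt_or_ge i 173500 with h6 | h6
            · skip
              rcases Nat.lt_or_ge i 173425 with h7 | h7
              · skip
                rcases Nat.lt_or_ge i 173400 with h8 | h8
                · skip
                  exact allRangeF_sound _ _ (checkPointF_eq cert) 173375 25 chkP_173375 i (by omega) (by omega)
                · skip
                  exact allRangeF_sound _ _ (checkPointF_eq cert) 173400 25 chkP_173400 i (by omega) (by omega)
              · skip
                rcases Nat.lt_or_ge i 173450 with h8 | h8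
                · skip
                  exact allRangeF_sound _ _ (checkPointF_eq cert) 173425 25 chkP_173425 i (by omega) (by omega)
                · skip
                  rcases Nat.lt_or_ge i 173475 with h9 | h9
                  · skip
                    exact allRangeF_sound _ _ (checkPointF_eq cert) 173450 25 chkP_173450 i (by omega) (by omega)
                  · skip
                    exact allRangeF_sound _ _ (checkPointF_eq cert) 173475 25 chkP_173475 i (by omega) (by omega)
            · skip
              rcases Nat.lt_or_ge i 173550 with h7 | h7
              · skip
                rcases Nat.lt_or_ge i 173525 with h8 | h8
                · skip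
                  exact allRangeF_sound _ _ (checkPointF_eq cert) 173500 25 chkP_173500 i (by omega) (by omega)
                · skip
                  exact allRangeF_sound _ _ (checkPointF_eq cert) 173525 25 chkP_173525 i (by omega) (by omega)
              · skip
                rcases Nat.lt_or_ge i 173575 with h8 | h8
                · skip
                  exact allRangeF_sound _ _ (checkPointF_eq cert) 173550 25 chkP_173550 i (by omega) (by omega)
                · skip
                  rcases Nat.lt_or_ge i 173600 with h9 | h9
                  · skip
                    exact allRangeF_sound _ _ (checkPointF_eq cert) 173575 25 chkP_173575 i (by omega) (by omega)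
                  · skip
                    exact allRangeF_sound _ _ (checkPointF_eq cert) 173600 25 chkP_173600 i (by omega) (by omega)
      · skip
        rcases Nat.lt_or_ge i 174100 with h4 | h4
        · skip
          rcases Nat.lt_or_ge i 173850 with h5 | h5
          · skip
            rcases Nat.lt_or_ge i 173725 with h6 | h6
            · skip
              rcases Nat.lt_or_ge i 173675 with h7 | h7
              · skip
                rcases Nat.lt_or_ge i 173650 with h8 | h8
                · skip
                  exact allRangeF_sound _ _ (checkPointF_eq cert) 173625 25 chkP_173625 i (by omega) (by omega)
                · skip
                  exact allRangeF_sound _ _ (checkPointF_eq cert) 173650 25 chkP_173650 i (by omega) (by omega)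
              · skip
                rcases Nat.lt_or_ge i 173700 with h8 | h8
                · skip
                  exact allRangeF_sound _ _ (checkPointF_eq cert) 173675 25 chkP_173675 i (by omega) (by omega)
                · skip
                  exact allRangeF_sound _ _ (checkPointF_eq cert) 173700 25 chkP_173700 i (by omega) (by omega)
            · skip
              rcases Nat.lt_or_ge i 173775 with h7 | h7
              · skip
                rcases Nat.lt_or_ge i 173750 with h8 | h8
                · skip
                  exact allRangeF_sound _ _ (checkPointF_eq cert) 173725 25 chkP_173725 i (by omega) (by omega)
                · skip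
                  exact allRangeF_sound _ _ (checkPointF_eq cert) 173750 25 chkP_173750 i (by omega) (by omega)
              · skip
                rcases Nat.lt_or_ge i 173800 with h8 | h8
                · skip
                  exact allRangeF_sound _ _ (checkPointF_eq cert) 173775 25 chkP_173775 i (by omega) (by omega)
                · skip
                  rcases Nat.lt_or_ge i 173825 with h9 | h9
                  · skip
                    exact allRangeF_sound _ _ (checkPointF_eq cert) 173800 25 chkP_173800 i (by omega) (by omega)
                  · skip
                    exact allRangeF_sound _ _ (checkPointF_eq cert) 173825 25 chkP_173825 i (by omega) (by omega)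
          · skip
            rcases Nat.lt_or_ge i 173975 with h6 | h6
            · skip
              rcases Nat.lt_or_ge i 173900 with h7 | h7
              · skip
                rcases Nat.lt_or_ge i 173875 with h8 | h8
                · skip
                  exact allRangeF_sound _ _ (checkPointF_eq cert) 173850 25 chkP_173850 i (by omega) (by omega)
                · skip
                  exact allRangeF_sound _ _ (checkPointF_eq cert) 173875 25 chkP_173875 i (by omega) (by omega)
              · skip
                rcases Nat.lt_or_ge i 173925 with h8 | h8
                · skip
                  exact allRangeF_sound _ _ (checkPointF_eq cert) 173900 25 chkP_173900 i (by omega) (by omega)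
                · skip
                  rcases Nat.lt_or_ge i 173950 with h9 | h9
                  · skip
                    exact allRangeF_sound _ _ (checkPointF_eq cert) 173925 25 chkP_173925 i (by omega) (by omega)
                  · skip
                    exact allRangeF_sound _ _ (checkPointF_eq cert) 173950 25 chkP_173950 i (by omega) (by omega)
            · skip
              rcases Nat.lt_or_ge i 174025 with h7 | h7
              · skip
                rcases Nat.lt_or_ge i 174000 with h8 | h8
                · skip
                  exact allRangeF_sound _ _ (checkPointF_eq cert) 173975 25 chkP_173975 i (by omega) (by omega)
                · skip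
                  exact allRangeF_sound _ _ (checkPointF_eq cert) 174000 25 chkP_174000 i (by omega) (by omega)
              · skip
                rcases Nat.lt_or_ge i 174050 with h8 | h8
                · skip
                  exact allRangeF_sound _ _ (checkPointF_eq cert) 174025 25 chkP_174025 i (by omega) (by omega)
                · skip
                  rcases Nat.lt_or_ge i 174075 with h9 | h9
                  · skip
                    exact allRangeF_sound _ _ (checkPointF_eq cert) 174050 25 chkP_174050 i (by omega) (by omega)
                  · skip
                    exact allRangeF_sound _ _ (checkPointF_eq cert) 174075 25 chkP_174075 i (by omega) (by omega)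
        · skip
          rcases Nat.lt_or_ge i 174350 with h5 | h5
          · skip
            rcases Nat.lt_or_ge i 174225 with h6 | h6
            · skip
              rcases Nat.lt_or_ge i 174150 with h7 | h7
              · skip
                rcases Nat.lt_or_ge i 174125 with h8 | h8
                · skip
                  exact allRangeF_sound _ _ (checkPointF_eq cert) 174100 25 chkP_174100 i (by omega) (by omega)
                · skip
                  exact allRangeF_sound _ _ (checkPointF_eq cert) 174125 25 chkP_174125 i (by omega) (by omega)
              · skip
                rcases Nat.lt_or_ge i 174175 with h8 | h8
                · skip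
                  exact allRangeF_sound _ _ (checkPointF_eq cert) 174150 25 chkP_174150 i (by omega) (by omega)
                · skip
                  rcases Nat.lt_or_ge i 174200 with h9 | h9
                  · skip
                    exact allRangeF_sound _ _ (checkPointF_eq cert) 174175 25 chkP_174175 i (by omega) (by omega)
                  · skip
                    exact allRangeF_sound _ _ (checkPointF_eq cert) 174200 25 chkP_174200 i (by omega) (by omega)
            · skip
              rcases Nat.lt_or_ge i 174275 with h7 | h7
              · skip
                rcases Nat.lt_or_ge i 174250 with h8 | h8
                · skip
                  exact allRangeF_sound _ _ (checkPointF_eq cert) 174225 25 chkP_174225 i (by omega) (by omega)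
                · skip
                  exact allRangeF_sound _ _ (checkPointF_eq cert) 174250 25 chkP_174250 i (by omega) (by omega)
              · skip
                rcases Nat.lt_or_ge i 174300 with h8 | h8
                · skip
                  exact allRangeF_sound _ _ (checkPointF_eq cert) 174275 25 chkP_174275 i (by omega) (by omega)
                · skip
                  rcases Nat.lt_or_ge i 174325 with h9 | h9
                  · skip
                    exact allRangeF_sound _ _ (checkPointF_eq cert) 174300 25 chkP_174300 i (by omega) (by omega)
                  · skip
                    exact allRangeF_sound _ _ (checkPointF_eq cert) 174325 25 chkP_174325 i (by omega) (by omega)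
          · skip
            rcases Nat.lt_or_ge i 174475 with h6 | h6
            · skip
              rcases Nat.lt_or_ge i 174400 with h7 | h7
              · skip
                rcases Nat.lt_or_ge i 174375 with h8 | h8
                · skip
                  exact allRangeF_sound _ _ (checkPointF_eq cert) 174350 25 chkP_174350 i (by omega) (by omega)
                · skip
                  exact allRangeF_sound _ _ (checkPointF_eq cert) 174375 25 chkP_174375 i (by omega) (by omega)
              · skip
                rcases Nat.lt_or_ge i 174425 with h8 | h8
                · skip
                  exact allRangeF_sound _ _ (checkPointF_eq cert) 174400 25 chkP_174400 i (by omega) (by omega)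
                · skip
                  rcases Nat.lt_or_ge i 174450 with h9 | h9
                  · skip
                    exact allRangeF_sound _ _ (checkPointF_eq cert) 174425 25 chkP_174425 i (by omega) (by omega)
                  · skip
                    exact allRangeF_sound _ _ (checkPointF_eq cert) 174450 25 chkP_174450 i (by omega) (by omega)
            · skip
              rcases Nat.lt_or_ge i 174525 with h7 | h7
              · skip
                rcases Nat.lt_or_ge i 174500 with h8 | h8
                · skip
                  exact allRangeF_sound _ _ (checkPointF_eq cert) 174475 25 chkP_174475 i (by omega) (by omega)
                · skip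
                  exact allRangeF_sound _ _ (checkPointF_eq cert) 174500 25 chkP_174500 i (by omega) (by omega)
              · skip
                rcases Nat.lt_or_ge i 174550 with h8 | h8
                · skip
                  exact allRangeF_sound _ _ (checkPointF_eq cert) 174525 25 chkP_174525 i (by omega) (by omega)
                · skip
                  rcases Nat.lt_or_ge i 174575 with h9 | h9
                  · skip
                    exact allRangeF_sound _ _ (checkPointF_eq cert) 174550 25 chkP_174550 i (by omega) (by omega)
                  · skip
                    exact allRangeF_sound _ _ (checkPointF_eq cert) 174575 25 chkP_174575 i (by omega) (by omega)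
    · skip
      rcases Nat.lt_or_ge i 175550 with h3 | h3
      · skip
        rcases Nat.lt_or_ge i 175075 with h4 | h4
        · skip
          rcases Nat.lt_or_ge i 174825 with h5 | h5
          · skip
            rcases Nat.lt_or_ge i 174700 with h6 | h6
            · skip
              rcases Nat.lt_or_ge i 174650 with h7 | h7
              · skip
                rcases Nat.lt_or_ge i 174625 with h8 | h8
                · skip
                  exact allRangeF_sound _ _ (checkPointF_eq cert) 174600 25 chkP_174600 i (by omega) (by omega)
                · skip
                  exact allRangeF_sound _ _ (checkPointF_eq cert) 174625 25 chkP_174625 i (by omega) (by omega)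
              · skip
                rcases Nat.lt_or_ge i 174675 with h8 | h8
                · skip
                  exact allRangeF_sound _ _ (checkPointF_eq cert) 174650 25 chkP_174650 i (by omega) (by omega)
                · skip
                  exact allRangeF_sound _ _ (checkPointF_eq cert) 174675 25 chkP_174675 i (by omega) (by omega)
            · skip
              rcases Nat.lt_or_ge i 174750 with h7 | h7
              · skip
                rcases Nat.lt_or_ge i 174725 with h8 | h8
                · skip
                  exact allRangeF_sound _ _ (checkPointF_eq cert) 174700 25 chkP_174700 i (by omega) (by omega)
                · skip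
                  exact allRangeF_sound _ _ (checkPointF_eq cert) 174725 25 chkP_174725 i (by omega) (by omega)
              · skip
                rcases Nat.lt_or_ge i 174775 with h8 | h8
                · skip
                  exact allRangeF_sound _ _ (checkPointF_eq cert) 174750 25 chkP_174750 i (by omega) (by omega)
                · skip
                  rcases Nat.lt_or_ge i 174800 with h9 | h9
                  · skip
                    exact allRangeF_sound _ _ (checkPointF_eq cert) 174775 25 chkP_174775 i (by omega) (by omega)
                  · skip
                    exact allRangeF_sound _ _ (checkPointF_eq cert) 174800 25 chkP_174800 i (by omega) (by omega)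
          · skip
            rcases Nat.lt_or_ge i 174950 with h6 | h6
            · skip
              rcases Nat.lt_or_ge i 174875 with h7 | h7
              · skip
                rcases Nat.lt_or_ge i 174850 with h8 | h8
                · skip
                  exact allRangeF_sound _ _ (checkPointF_eq cert) 174825 25 chkP_174825 i (by omega) (by omega)
                · skip
                  exact allRangeF_sound _ _ (checkPointF_eq cert) 174850 25 chkP_174850 i (by omega) (by omega)
              · skip
                rcases Nat.lt_or_ge i 174900 with h8 | h8
                · skip
                  exact allRangeF_sound _ _ (checkPointF_eq cert) 174875 25 chkP_174875 i (by omega) (by omega)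
                · skip
                  rcases Nat.lt_or_ge i 174925 with h9 | h9
                  · skip
                    exact allRangeF_sound _ _ (checkPointF_eq cert) 174900 25 chkP_174900 i (by omega) (by omega)
                  · skip
                    exact allRangeF_sound _ _ (checkPointF_eq cert) 174925 25 chkP_174925 i (by omega) (by omega)
            · skip
              rcases Nat.lt_or_ge i 175000 with h7 | h7
              · skip
                rcases Nat.lt_or_ge i 174975 with h8 | h8
                · skip
                  exact allRangeF_sound _ _ (checkPointF_eq cert) 174950 25 chkP_174950 i (by omega) (by omega)
                · skip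
                  exact allRangeF_sound _ _ (checkPointF_eq cert) 174975 25 chkP_174975 i (by omega) (by omega)
              · skip
                rcases Nat.lt_or_ge i 175025 with h8 | h8
                · skip
                  exact allRangeF_sound _ _ (checkPointF_eq cert) 175000 25 chkP_175000 i (by omega) (by omega)
                · skip
                  rcases Nat.lt_or_ge i 175050 with h9 | h9
                  · skip
                    exact allRangeF_sound _ _ (checkPointF_eq cert) 175025 25 chkP_175025 i (by omega) (by omega)
                  · skip
                    exact allRangeF_sound _ _ (checkPointF_eq cert) 175050 25 chkP_175050 i (by omega) (by omega)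
        · skip
          rcases Nat.lt_or_ge i 175300 with h5 | h5
          · skip
            rcases Nat.lt_or_ge i 175175 with h6 | h6
            · skip
              rcases Nat.lt_or_ge i 175125 with h7 | h7
              · skip
                rcases Nat.lt_or_ge i 175100 with h8 | h8
                · skip
                  exact allRangeF_sound _ _ (checkPointF_eq cert) 175075 25 chkP_175075 i (by omega) (by omega)
                · skip
                  exact allRangeF_sound _ _ (checkPointF_eq cert) 175100 25 chkP_175100 i (by omega) (by omega)
              · skip
                rcases Nat.lt_or_ge i 175150 with h8 | h8
                · skip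
                  exact allRangeF_sound _ _ (checkPointF_eq cert) 175125 25 chkP_175125 i (by omega) (by omega)
                · skip
                  exact allRangeF_sound _ _ (checkPointF_eq cert) 175150 25 chkP_175150 i (by omega) (by omega)
            · skip
              rcases Nat.lt_or_ge i 175225 with h7 | h7
              · skip
                rcases Nat.lt_or_ge i 175200 with h8 | h8
                · skip
                  exact allRangeF_sound _ _ (checkPointF_eq cert) 175175 25 chkP_175175 i (by omega) (by omega)
                · skip
                  exact allRangeF_sound _ _ (checkPointF_eq cert) 175200 25 chkP_175200 i (by omega) (by omega)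
              · skip
                rcases Nat.lt_or_ge i 175250 with h8 | h8
                · skip
                  exact allRangeF_sound _ _ (checkPointF_eq cert) 175225 25 chkP_175225 i (by omega) (by omega)
                · skip
                  rcases Nat.lt_or_ge i 175275 with h9 | h9
                  · skip
                    exact allRangeF_sound _ _ (checkPointF_eq cert) 175250 25 chkP_175250 i (by omega) (by omega)
                  · skip
                    exact allRangeF_sound _ _ (checkPointF_eq cert) 175275 25 chkP_175275 i (by omega) (by omega)
          · skip
            rcases Nat.lt_or_ge i 175425 with h6 | h6
            · skip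
              rcases Nat.lt_or_ge i 175350 with h7 | h7
              · skip
                rcases Nat.lt_or_ge i 175325 with h8 | h8
                · skip
                  exact allRangeF_sound _ _ (checkPointF_eq cert) 175300 25 chkP_175300 i (by omega) (by omega)
                · skip
                  exact allRangeF_sound _ _ (checkPointF_eq cert) 175325 25 chkP_175325 i (by omega) (by omega)
              · skip
                rcases Nat.lt_or_ge i 175375 with h8 | h8
                · skip
                  exact allRangeF_sound _ _ (checkPointF_eq cert) 175350 25 chkP_175350 i (by omega) (by omega)
                · skip
                  rcases Nat.lt_or_ge i 175400 with h9 | h9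
                  · skip
                    exact allRangeF_sound _ _ (checkPointF_eq cert) 175375 25 chkP_175375 i (by omega) (by omega)
                  · skip
                    exact allRangeF_sound _ _ (checkPointF_eq cert) 175400 25 chkP_175400 i (by omega) (by omega)
            · skip
              rcases Nat.lt_or_ge i 175475 with h7 | h7
              · skip
                rcases Nat.lt_or_ge i 175450 with h8 | h8
                · skip
                  exact allRangeF_sound _ _ (checkPointF_eq cert) 175425 25 chkP_175425 i (by omega) (by omega)
                · skip
                  exact allRangeF_sound _ _ (checkPointF_eq cert) 175450 25 chkP_175450 i (by omega) (by omega)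
              · skip
                rcases Nat.lt_or_ge i 175500 with h8 | h8
                · skip
                  exact allRangeF_sound _ _ (checkPointF_eq cert) 175475 25 chkP_175475 i (by omega) (by omega)
                · skip
                  rcases Nat.lt_or_ge i 175525 with h9 | h9
                  · skip
                    exact allRangeF_sound _ _ (checkPointF_eq cert) 175500 25 chkP_175500 i (by omega) (by omega)
                  · skip
                    exact allRangeF_sound _ _ (checkPointF_eq cert) 175525 25 chkP_175525 i (by omega) (by omega)
      · skip
        rcases Nat.lt_or_ge i 176025 with h4 | h4
        · skip
          rcases Nat.lt_or_ge i 175775 with h5 | h5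
          · skip
            rcases Nat.lt_or_ge i 175650 with h6 | h6
            · skip
              rcases Nat.lt_or_ge i 175600 with h7 | h7
              · skip
                rcases Nat.lt_or_ge i 175575 with h8 | h8
                · skip
                  exact allRangeF_sound _ _ (checkPointF_eq cert) 175550 25 chkP_175550 i (by omega) (by omega)
                · skip
                  exact allRangeF_sound _ _ (checkPointF_eq cert) 175575 25 chkP_175575 i (by omega) (by omega)
              · skip
                rcases Nat.lt_or_ge i 175625 with h8 | h8
                · skip
                  exact allRangeF_sound _ _ (checkPointF_eq cert) 175600 25 chkP_175600 i (by omega) (by omega)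
                · skip
                  exact allRangeF_sound _ _ (checkPointF_eq cert) 175625 25 chkP_175625 i (by omega) (by omega)
            · skip
              rcases Nat.lt_or_ge i 175700 with h7 | h7
              · skip
                rcases Nat.lt_or_ge i 175675 with h8 | h8
                · skip
                  exact allRangeF_sound _ _ (checkPointF_eq cert) 175650 25 chkP_175650 i (by omega) (by omega)
                · skip
                  exact allRangeF_sound _ _ (checkPointF_eq cert) 175675 25 chkP_175675 i (by omega) (by omega)
              · skip
                rcases Nat.lt_or_ge i 175725 with h8 | h8
                · skip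
                  exact allRangeF_sound _ _ (checkPointF_eq cert) 175700 25 chkP_175700 i (by omega) (by omega)
                · skip
                  rcases Nat.lt_or_ge i 175750 with h9 | h9
                  · skip
                    exact allRangeF_sound _ _ (checkPointF_eq cert) 175725 25 chkP_175725 i (by omega) (by omega)
                  · skip
                    exact allRangeF_sound _ _ (checkPointF_eq cert) 175750 25 chkP_175750 i (by omega) (by omega)
          · skip
            rcases Nat.lt_or_ge i 175900 with h6 | h6
            · skip
              rcases Nat.lt_or_ge i 175825 with h7 | h7
              · skip
                rcases Nat.lt_or_ge i 175800 with h8 | h8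
                · skip
                  exact allRangeF_sound _ _ (checkPointF_eq cert) 175775 25 chkP_175775 i (by omega) (by omega)
                · skip
                  exact allRangeF_sound _ _ (checkPointF_eq cert) 175800 25 chkP_175800 i (by omega) (by omega)
              · skip
                rcases Nat.lt_or_ge i 175850 with h8 | h8
                · skip
                  exact allRangeF_sound _ _ (checkPointF_eq cert) 175825 25 chkP_175825 i (by omega) (by omega)
                · skip
                  rcases Nat.lt_or_ge i 175875 with h9 | h9
                  · skip
                    exact allRangeF_sound _ _ (checkPointF_eq cert) 175850 25 chkP_175850 i (by omega) (by omega)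
                  · skip
                    exact allRangeF_sound _ _ (checkPointF_eq cert) 175875 25 chkP_175875 i (by omega) (by omega)
            · skip
              rcases Nat.lt_or_ge i 175950 with h7 | h7
              · skip
                rcases Nat.lt_or_ge i 175925 with h8 | h8
                · skip
                  exact allRangeF_sound _ _ (checkPointF_eq cert) 175900 25 chkP_175900 i (by omega) (by omega)
                · skip
                  exact allRangeF_sound _ _ (checkPointF_eq cert) 175925 25 chkP_175925 i (by omega) (by omega)
              · skip
                rcases Nat.lt_or_ge i 175975 with h8 | h8
                · skip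
                  exact allRangeF_sound _ _ (checkPointF_eq cert) 175950 25 chkP_175950 i (by omega) (by omega)
                · skip
                  rcases Nat.lt_or_ge i 176000 with h9 | h9
                  · skip
                    exact allRangeF_sound _ _ (checkPointF_eq cert) 175975 25 chkP_175975 i (by omega) (by omega)
                  · skip
                    exact allRangeF_sound _ _ (checkPointF_eq cert) 176000 25 chkP_176000 i (by omega) (by omega)
        · skip
          rcases Nat.lt_or_ge i 176275 with h5 | h5
          · skip
            rcases Nat.lt_or_ge i 176150 with h6 | h6
            · skip
              rcases Nat.lt_or_ge i 176075 with h7 | h7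
              · skip
                rcases Nat.lt_or_ge i 176050 with h8 | h8
                · skip
                  exact allRangeF_sound _ _ (checkPointF_eq cert) 176025 25 chkP_176025 i (by omega) (by omega)
                · skip
                  exact allRangeF_sound _ _ (checkPointF_eq cert) 176050 25 chkP_176050 i (by omega) (by omega)
              · skip
                rcases Nat.lt_or_ge i 176100 with h8 | h8
                · skip
                  exact allRangeF_sound _ _ (checkPointF_eq cert) 176075 25 chkP_176075 i (by omega) (by omega)
                · skip
                  rcases Nat.lt_or_ge i 176125 with h9 | h9
                  · skip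
                    exact allRangeF_sound _ _ (checkPointF_eq cert) 176100 25 chkP_176100 i (by omega) (by omega)
                  · skip
                    exact allRangeF_sound _ _ (checkPointF_eq cert) 176125 25 chkP_176125 i (by omega) (by omega)
            · skip
              rcases Nat.lt_or_ge i 176200 with h7 | h7
              · skip
                rcases Nat.lt_or_ge i 176175 with h8 | h8
                · skip
                  exact allRangeF_sound _ _ (checkPointF_eq cert) 176150 25 chkP_176150 i (by omega) (by omega)
                · skip
                  exact allRangeF_sound _ _ (checkPointF_eq cert) 176175 25 chkP_176175 i (by omega) (by omega)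
              · skip
                rcases Nat.lt_or_ge i 176225 with h8 | h8
                · skip
                  exact allRangeF_sound _ _ (checkPointF_eq cert) 176200 25 chkP_176200 i (by omega) (by omega)
                · skip
                  rcases Nat.lt_or_ge i 176250 with h9 | h9
                  · skip
                    exact allRangeF_sound _ _ (checkPointF_eq cert) 176225 25 chkP_176225 i (by omega) (by omega)
                  · skip
                    exact allRangeF_sound _ _ (checkPointF_eq cert) 176250 25 chkP_176250 i (by omega) (by omega)
          · skip
            rcases Nat.lt_or_ge i 176400 with h6 | h6
            · skip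
              rcases Nat.lt_or_ge i 176325 with h7 | h7
              · skip
                rcases Nat.lt_or_ge i 176300 with h8 | h8
                · skip
                  exact allRangeF_sound _ _ (checkPointF_eq cert) 176275 25 chkP_176275 i (by omega) (by omega)
                · skip
                  exact allRangeF_sound _ _ (checkPointF_eq cert) 176300 25 chkP_176300 i (by omega) (by omega)
              · skip
                rcases Nat.lt_or_ge i 176350 with h8 | h8
                · skip
                  exact allRangeF_sound _ _ (checkPointF_eq cert) 176325 25 chkP_176325 i (by omega) (by omega)
                · skip
                  rcases Nat.lt_or_ge i 176375 with h9 | h9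
                  · skip
                    exact allRangeF_sound _ _ (checkPointF_eq cert) 176350 25 chkP_176350 i (by omega) (by omega)
                  · skip
                    exact allRangeF_sound _ _ (checkPointF_eq cert) 176375 25 chkP_176375 i (by omega) (by omega)
            · skip
              rcases Nat.lt_or_ge i 176450 with h7 | h7
              · skip
                rcases Nat.lt_or_ge i 176425 with h8 | h8
                · skip
                  exact allRangeF_sound _ _ (checkPointF_eq cert) 176400 25 chkP_176400 i (by omega) (by omega)
                · skip
                  exact allRangeF_sound _ _ (checkPointF_eq cert) 176425 25 chkP_176425 i (by omega) (by omega)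
              · skip
                rcases Nat.lt_or_ge i 176475 with h8 | h8
                · skip
                  exact allRangeF_sound _ _ (checkPointF_eq cert) 176450 25 chkP_176450 i (by omega) (by omega)
                · skip
                  rcases Nat.lt_or_ge i 176500 with h9 | h9
                  · skip
                    exact allRangeF_sound _ _ (checkPointF_eq cert) 176475 25 chkP_176475 i (by omega) (by omega)
                  · skip
                    exact allRangeF_sound _ _ (checkPointF_eq cert) 176500 25 chkP_176500 i (by omega) (by omega)

end Cfsg.Agent.Lib.Helper28.Fi24Data
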