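import Cfsg.Agent.Lib.Helper28.Fi24Data
import Cfsg.Agent.Lib.Helper28.TCFastB

set_option autoImplicit false
set_option maxRecDepth 1000000
set_option linter.all false
set_option Elab.async false

namespace Cfsg.Agent.Lib.Helper28.Fi24Data

open Cfsg.Agent.Lib.Helper28B

theorem chkP_176525 : allRangeF (checkPointF cert) (nat_lit 176525) (nat_lit 25) = true := by decide +kernel
theorem chkP_176550 : allRangeF (checkPointF cert) (nat_lit 176550) (nat_lit 25) = true := by decide +kernel
theorem chkP_176575 : allRangeF (checkPointF cert) (nat_lit 176575) (nat_lit 25) = true := by decide +kernel
theorem chkP_176600 : allRangeF (checkPointF cert) (nat_lit 176600) (nat_lit 25) = true := by decide +kernel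
theorem chkP_176625 : allRangeF (checkPointF cert) (nat_lit 176625) (nat_lit 25) = true := by decide +kernel
theorem chkP_176650 : allRangeF (checkPointF cert) (nat_lit 176650) (nat_lit 25) = true := by decide +kernel
theorem chkP_176675 : allRangeF (checkPointF cert) (nat_lit 176675) (nat_lit 25) = true := by decide +kernel
theorem chkP_176700 : allRangeF (checkPointF cert) (nat_lit 176700) (nat_lit 25) = true := by decide +kernel
theorem chkP_176725 : allRangeF (checkPointF cert) (nat_lit 176725) (nat_lit 25) = true := by decide +kernel
theorem chkP_176750 : allRangeF (checkPointF cert) (nat_lit 176750) (nat_lit 25) = true := by decide +kernel
theorem chkP_176775 : allRangeF (checkPointF cert) (nat_lit 176775) (nat_lit 25) = true := by decide +kernel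
theorem chkP_176800 : allRangeF (checkPointF cert) (nat_lit 176800) (nat_lit 25) = true := by decide +kernel
theorem chkP_176825 : allRangeF (checkPointF cert) (nat_lit 176825) (nat_lit 25) = true := by decide +kernel
theorem chkP_176850 : allRangeF (checkPointF cert) (nat_lit 176850) (nat_lit 25) = true := by decide +kernel
theorem chkP_176875 : allRangeF (checkPointF cert) (nat_lit 176875) (nat_lit 25) = true := by decide +kernel
theorem chkP_176900 : allRangeF (checkPointF cert) (nat_lit 176900) (nat_lit 25) = true := by decide +kernel
theorem chkP_176925 : allRangeF (checkPointF cert) (nat_lit 176925) (nat_lit 25) = true := by decide +kernel
theorem chkP_176950 : allRangeF (checkPointF cert) (nat_lit 176950) (nat_lit 25) = true := by decide +kernel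
theorem chkP_176975 : allRangeF (checkPointF cert) (nat_lit 176975) (nat_lit 25) = true := by decide +kernel
theorem chkP_177000 : allRangeF (checkPointF cert) (nat_lit 177000) (nat_lit 25) = true := by decide +kernel
theorem chkP_177025 : allRangeF (checkPointF cert) (nat_lit 177025) (nat_lit 25) = true := by decide +kernel
theorem chkP_177050 : allRangeF (checkPointF cert) (nat_lit 177050) (nat_lit 25) = true := by decide +kernel
theorem chkP_177075 : allRangeF (checkPointF cert) (nat_lit 177075) (nat_lit 25) = true := by decide +kernel
theorem chkP_177100 : allRangeF (checkPointF cert) (nat_lit 177100) (nat_lit 25) = true := by decide +kernel
theorem chkP_177125 : allRangeF (checkPointF cert) (nat_lit 177125) (nat_lit 25) = true := by decide +kernel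
theorem chkP_177150 : allRangeF (checkPointF cert) (nat_lit 177150) (nat_lit 25) = true := by decide +kernel
theorem chkP_177175 : allRangeF (checkPointF cert) (nat_lit 177175) (nat_lit 25) = true := by decide +kernel
theorem chkP_177200 : allRangeF (checkPointF cert) (nat_lit 177200) (nat_lit 25) = true := by decide +kernel
theorem chkP_177225 : allRangeF (checkPointF cert) (nat_lit 177225) (nat_lit 25) = true := by decide +kernel
theorem chkP_177250 : allRangeF (checkPointF cert) (nat_lit 177250) (nat_lit 25) = true := by decide +kernel
theorem chkP_177275 : allRangeF (checkPointF cert) (nat_lit 177275) (nat_lit 25) = true := by decide +kernel
theorem chkP_177300 : allRangeF (checkPointF cert) (nat_lit 177300) (nat_lit 25) = true := by decide +kernel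
theorem chkP_177325 : allRangeF (checkPointF cert) (nat_lit 177325) (nat_lit 25) = true := by decide +kernel
theorem chkP_177350 : allRangeF (checkPointF cert) (nat_lit 177350) (nat_lit 25) = true := by decide +kernel
theorem chkP_177375 : allRangeF (checkPointF cert) (nat_lit 177375) (nat_lit 25) = true := by decide +kernel
theorem chkP_177400 : allRangeF (checkPointF cert) (nat_lit 177400) (nat_lit 25) = true := by decide +kernel
theorem chkP_177425 : allRangeF (checkPointF cert) (nat_lit 177425) (nat_lit 25) = true := by decide +kernel
theorem chkP_177450 : allRangeF (checkPointF cert) (nat_lit 177450) (nat_lit 25) = true := by decide +kernel
theorem chkP_177475 : allRangeF (checkPointF cert) (nat_lit 177475) (nat_lit 25) = true := by decide +kernel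
theorem chkP_177500 : allRangeF (checkPointF cert) (nat_lit 177500) (nat_lit 25) = true := by decide +kernel
theorem chkP_177525 : allRangeF (checkPointF cert) (nat_lit 177525) (nat_lit 25) = true := by decide +kernel
theorem chkP_177550 : allRangeF (checkPointF cert) (nat_lit 177550) (nat_lit 25) = true := by decide +kernel
theorem chkP_177575 : allRangeF (checkPointF cert) (nat_lit 177575) (nat_lit 25) = true := by decide +kernel
theorem chkP_177600 : allRangeF (checkPointF cert) (nat_lit 177600) (nat_lit 25) = true := by decide +kernel
theorem chkP_177625 : allRangeF (checkPointF cert) (nat_lit 177625) (nat_lit 25) = true := by decide +kernel
theorem chkP_177650 : allRangeF (checkPointF cert) (nat_lit 177650) (nat_lit 25) = true := by decide +kernel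
theorem chkP_177675 : allRangeF (checkPointF cert) (nat_lit 177675) (nat_lit 25) = true := by decide +kernel
theorem chkP_177700 : allRangeF (checkPointF cert) (nat_lit 177700) (nat_lit 25) = true := by decide +kernel
theorem chkP_177725 : allRangeF (checkPointF cert) (nat_lit 177725) (nat_lit 25) = true := by decide +kernel
theorem chkP_177750 : allRangeF (checkPointF cert) (nat_lit 177750) (nat_lit 25) = true := by decide +kernel
theorem chkP_177775 : allRangeF (checkPointF cert) (nat_lit 177775) (nat_lit 25) = true := by decide +kernel
theorem chkP_177800 : allRangeF (checkPointF cert) (nat_lit 177800) (nat_lit 25) = true := by decide +kernel
theorem chkP_177825 : allRangeF (checkPointF cert) (nat_lit 177825) (nat_lit 25) = true := by decide +kernel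
theorem chkP_177850 : allRangeF (checkPointF cert) (nat_lit 177850) (nat_lit 25) = true := by decide +kernel
theorem chkP_177875 : allRangeF (checkPointF cert) (nat_lit 177875) (nat_lit 25) = true := by decide +kernel
theorem chkP_177900 : allRangeF (checkPointF cert) (nat_lit 177900) (nat_lit 25) = true := by decide +kernel
theorem chkP_177925 : allRangeF (checkPointF cert) (nat_lit 177925) (nat_lit 25) = true := by decide +kernel
theorem chkP_177950 : allRangeF (checkPointF cert) (nat_lit 177950) (nat_lit 25) = true := by decide +kernel
theorem chkP_177975 : allRangeF (checkPointF cert) (nat_lit 177975) (nat_lit 25) = true := by decide +kernel
theorem chkP_178000 : allRangeF (checkPointF cert) (nat_lit 178000) (nat_lit 25) = true := by decide +kernel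
theorem chkP_178025 : allRangeF (checkPointF cert) (nat_lit 178025) (nat_lit 25) = true := by decide +kernel
theorem chkP_178050 : allRangeF (checkPointF cert) (nat_lit 178050) (nat_lit 25) = true := by decide +kernel
theorem chkP_178075 : allRangeF (checkPointF cert) (nat_lit 178075) (nat_lit 25) = true := by decide +kernel
theorem chkP_178100 : allRangeF (checkPointF cert) (nat_lit 178100) (nat_lit 25) = true := by decide +kernel
theorem chkP_178125 : allRangeF (checkPointF cert) (nat_lit 178125) (nat_lit 25) = true := by decide +kernel
theorem chkP_178150 : allRangeF (checkPointF cert) (nat_lit 178150) (nat_lit 25) = true := by decide +kernel
theorem chkP_178175 : allRangeF (checkPointF cert) (nat_lit 178175) (nat_lit 25) = true := by decide +kernel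
theorem chkP_178200 : allRangeF (checkPointF cert) (nat_lit 178200) (nat_lit 25) = true := by decide +kernel
theorem chkP_178225 : allRangeF (checkPointF cert) (nat_lit 178225) (nat_lit 25) = true := by decide +kernel
theorem chkP_178250 : allRangeF (checkPointF cert) (nat_lit 178250) (nat_lit 25) = true := by decide +kernel
theorem chkP_178275 : allRangeF (checkPointF cert) (nat_lit 178275) (nat_lit 25) = true := by decide +kernel
theorem chkP_178300 : allRangeF (checkPointF cert) (nat_lit 178300) (nat_lit 25) = true := by decide +kernel
theorem chkP_178325 : allRangeF (checkPointF cert) (nat_lit 178325) (nat_lit 25) = true := by decide +kernel
theorem chkP_178350 : allRangeF (checkPointF cert) (nat_lit 178350) (nat_lit 25) = true := by decide +kernel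
theorem chkP_178375 : allRangeF (checkPointF cert) (nat_lit 178375) (nat_lit 25) = true := by decide +kernel
theorem chkP_178400 : allRangeF (checkPointF cert) (nat_lit 178400) (nat_lit 25) = true := by decide +kernel
theorem chkP_178425 : allRangeF (checkPointF cert) (nat_lit 178425) (nat_lit 25) = true := by decide +kernel
theorem chkP_178450 : allRangeF (checkPointF cert) (nat_lit 178450) (nat_lit 25) = true := by decide +kernel
theorem chkP_178475 : allRangeF (checkPointF cert) (nat_lit 178475) (nat_lit 25) = true := by decide +kernel
theorem chkP_178500 : allRangeF (checkPointF cert) (nat_lit 178500) (nat_lit 25) = true := by decide +kernel
theorem chkP_178525 : allRangeF (checkPointF cert) (nat_lit 178525) (nat_lit 25) = true := by decide +kernel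
theorem chkP_178550 : allRangeF (checkPointF cert) (nat_lit 178550) (nat_lit 25) = true := by decide +kernel
theorem chkP_178575 : allRangeF (checkPointF cert) (nat_lit 178575) (nat_lit 25) = true := by decide +kernel
theorem chkP_178600 : allRangeF (checkPointF cert) (nat_lit 178600) (nat_lit 25) = true := by decide +kernel
theorem chkP_178625 : allRangeF (checkPointF cert) (nat_lit 178625) (nat_lit 25) = true := by decide +kernel
theorem chkP_178650 : allRangeF (checkPointF cert) (nat_lit 178650) (nat_lit 25) = true := by decide +kernel
theorem chkP_178675 : allRangeF (checkPointF cert) (nat_lit 178675) (nat_lit 25) = true := by decide +kernel
theorem chkP_178700 : allRangeF (checkPointF cert) (nat_lit 178700) (nat_lit 25) = true := by decide +kernel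
theorem chkP_178725 : allRangeF (checkPointF cert) (nat_lit 178725) (nat_lit 25) = true := by decide +kernel
theorem chkP_178750 : allRangeF (checkPointF cert) (nat_lit 178750) (nat_lit 25) = true := by decide +kernel
theorem chkP_178775 : allRangeF (checkPointF cert) (nat_lit 178775) (nat_lit 25) = true := by decide +kernel
theorem chkP_178800 : allRangeF (checkPointF cert) (nat_lit 178800) (nat_lit 25) = true := by decide +kernel
theorem chkP_178825 : allRangeF (checkPointF cert) (nat_lit 178825) (nat_lit 25) = true := by decide +kernel
theorem chkP_178850 : allRangeF (checkPointF cert) (nat_lit 178850) (nat_lit 25) = true := by decide +kernel
theorem chkP_178875 : allRangeF (checkPointF cert) (nat_lit 178875) (nat_lit 25) = true := by decide +kernel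
theorem chkP_178900 : allRangeF (checkPointF cert) (nat_lit 178900) (nat_lit 25) = true := by decide +kernel
theorem chkP_178925 : allRangeF (checkPointF cert) (nat_lit 178925) (nat_lit 25) = true := by decide +kernel
theorem chkP_178950 : allRangeF (checkPointF cert) (nat_lit 178950) (nat_lit 25) = true := by decide +kernel
theorem chkP_178975 : allRangeF (checkPointF cert) (nat_lit 178975) (nat_lit 25) = true := by decide +kernel
theorem chkP_179000 : allRangeF (checkPointF cert) (nat_lit 179000) (nat_lit 25) = true := by decide +kernel
theorem chkP_179025 : allRangeF (checkPointF cert) (nat_lit 179025) (nat_lit 25) = true := by decide +kernel
theorem chkP_179050 : allRangeF (checkPointF cert) (nat_lit 179050) (nat_lit 25) = true := by decide +kernel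
theorem chkP_179075 : allRangeF (checkPointF cert) (nat_lit 179075) (nat_lit 25) = true := by decide +kernel
theorem chkP_179100 : allRangeF (checkPointF cert) (nat_lit 179100) (nat_lit 25) = true := by decide +kernel
theorem chkP_179125 : allRangeF (checkPointF cert) (nat_lit 179125) (nat_lit 25) = true := by decide +kernel
theorem chkP_179150 : allRangeF (checkPointF cert) (nat_lit 179150) (nat_lit 25) = true := by decide +kernel
theorem chkP_179175 : allRangeF (checkPointF cert) (nat_lit 179175) (nat_lit 25) = true := by decide +kernel
theorem chkP_179200 : allRangeF (checkPointF cert) (nat_lit 179200) (nat_lit 25) = true := by decide +kernel
theorem chkP_179225 : allRangeF (checkPointF cert) (nat_lit 179225) (nat_lit 25) = true := by decide +kernel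
theorem chkP_179250 : allRangeF (checkPointF cert) (nat_lit 179250) (nat_lit 25) = true := by decide +kernel
theorem chkP_179275 : allRangeF (checkPointF cert) (nat_lit 179275) (nat_lit 25) = true := by decide +kernel
theorem chkP_179300 : allRangeF (checkPointF cert) (nat_lit 179300) (nat_lit 25) = true := by decide +kernel
theorem chkP_179325 : allRangeF (checkPointF cert) (nat_lit 179325) (nat_lit 25) = true := by decide +kernel
theorem chkP_179350 : allRangeF (checkPointF cert) (nat_lit 179350) (nat_lit 25) = true := by decide +kernel
theorem chkP_179375 : allRangeF (checkPointF cert) (nat_lit 179375) (nat_lit 25) = true := by decide +kernel
theorem chkP_179400 : allRangeF (checkPointF cert) (nat_lit 179400) (nat_lit 25) = true := by decide +kernel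
theorem chkP_179425 : allRangeF (checkPointF cert) (nat_lit 179425) (nat_lit 25) = true := by decide +kernel
theorem chkP_179450 : allRangeF (checkPointF cert) (nat_lit 179450) (nat_lit 25) = true := by decide +kernel
theorem chkP_179475 : allRangeF (checkPointF cert) (nat_lit 179475) (nat_lit 25) = true := by decide +kernel
theorem chkP_179500 : allRangeF (checkPointF cert) (nat_lit 179500) (nat_lit 25) = true := by decide +kernel
theorem chkP_179525 : allRangeF (checkPointF cert) (nat_lit 179525) (nat_lit 25) = true := by decide +kernel
theorem chkP_179550 : allRangeF (checkPointF cert) (nat_lit 179550) (nat_lit 25) = true := by decide +kernel
theorem chkP_179575 : allRangeF (checkPointF cert) (nat_lit 179575) (nat_lit 25) = true := by decide +kernel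
theorem chkP_179600 : allRangeF (checkPointF cert) (nat_lit 179600) (nat_lit 25) = true := by decide +kernel
theorem chkP_179625 : allRangeF (checkPointF cert) (nat_lit 179625) (nat_lit 25) = true := by decide +kernel
theorem chkP_179650 : allRangeF (checkPointF cert) (nat_lit 179650) (nat_lit 25) = true := by decide +kernel
theorem chkP_179675 : allRangeF (checkPointF cert) (nat_lit 179675) (nat_lit 25) = true := by decide +kernel
theorem chkP_179700 : allRangeF (checkPointF cert) (nat_lit 179700) (nat_lit 25) = true := by decide +kernel
theorem chkP_179725 : allRangeF (checkPointF cert) (nat_lit 179725) (nat_lit 25) = true := by decide +kernel
theorem chkP_179750 : allRangeF (checkPointF cert) (nat_lit 179750) (nat_lit 25) = true := by decide +kernel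
theorem chkP_179775 : allRangeF (checkPointF cert) (nat_lit 179775) (nat_lit 25) = true := by decide +kernel
theorem chkP_179800 : allRangeF (checkPointF cert) (nat_lit 179800) (nat_lit 25) = true := by decide +kernel
theorem chkP_179825 : allRangeF (checkPointF cert) (nat_lit 179825) (nat_lit 25) = true := by decide +kernel
theorem chkP_179850 : allRangeF (checkPointF cert) (nat_lit 179850) (nat_lit 25) = true := by decide +kernel
theorem chkP_179875 : allRangeF (checkPointF cert) (nat_lit 179875) (nat_lit 25) = true := by decide +kernel
theorem chkP_179900 : allRangeF (checkPointF cert) (nat_lit 179900) (nat_lit 25) = true := by decide +kernel
theorem chkP_179925 : allRangeF (checkPointF cert) (nat_lit 179925) (nat_lit 25) = true := by decide +kernel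
theorem chkP_179950 : allRangeF (checkPointF cert) (nat_lit 179950) (nat_lit 25) = true := by decide +kernel
theorem chkP_179975 : allRangeF (checkPointF cert) (nat_lit 179975) (nat_lit 25) = true := by decide +kernel
theorem chkP_180000 : allRangeF (checkPointF cert) (nat_lit 180000) (nat_lit 25) = true := by decide +kernel
theorem chkP_180025 : allRangeF (checkPointF cert) (nat_lit 180025) (nat_lit 25) = true := by decide +kernel
theorem chkP_180050 : allRangeF (checkPointF cert) (nat_lit 180050) (nat_lit 25) = true := by decide +kernel
theorem chkP_180075 : allRangeF (checkPointF cert) (nat_lit 180075) (nat_lit 25) = true := by decide +kernel
theorem chkP_180100 : allRangeF (checkPointF cert) (nat_lit 180100) (nat_lit 25) = true := by decide +kernel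
theorem chkP_180125 : allRangeF (checkPointF cert) (nat_lit 180125) (nat_lit 25) = true := by decide +kernel
theorem chkP_180150 : allRangeF (checkPointF cert) (nat_lit 180150) (nat_lit 25) = true := by decide +kernel
theorem chkP_180175 : allRangeF (checkPointF cert) (nat_lit 180175) (nat_lit 25) = true := by decide +kernel
theorem chkP_180200 : allRangeF (checkPointF cert) (nat_lit 180200) (nat_lit 25) = true := by decide +kernel
theorem chkP_180225 : allRangeF (checkPointF cert) (nat_lit 180225) (nat_lit 25) = true := by decide +kernel
theorem chkP_180250 : allRangeF (checkPointF cert) (nat_lit 180250) (nat_lit 25) = true := by decide +kernel
theorem chkP_180275 : allRangeF (checkPointF cert) (nat_lit 180275) (nat_lit 25) = true := by decide +kernel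
theorem chkP_180300 : allRangeF (checkPointF cert) (nat_lit 180300) (nat_lit 25) = true := by decide +kernel
theorem chkP_180325 : allRangeF (checkPointF cert) (nat_lit 180325) (nat_lit 25) = true := by decide +kernel
theorem chkP_180350 : allRangeF (checkPointF cert) (nat_lit 180350) (nat_lit 25) = true := by decide +kernel
theorem chkP_180375 : allRangeF (checkPointF cert) (nat_lit 180375) (nat_lit 25) = true := by decide +kernel
theorem chkP_180400 : allRangeF (checkPointF cert) (nat_lit 180400) (nat_lit 25) = true := by decide +kernel
theorem chkP_180425 : allRangeF (checkPointF cert) (nat_lit 180425) (nat_lit 25) = true := by decide +kernel
theorem chkP_180450 : allRangeF (checkPointF cert) (nat_lit 180450) (nat_lit 25) = true := by decide +kernel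
theorem chkP_180475 : allRangeF (checkPointF cert) (nat_lit 180475) (nat_lit 25) = true := by decide +kernel
theorem chkP_180500 : allRangeF (checkPointF cert) (nat_lit 180500) (nat_lit 25) = true := by decide +kernel
theorem chkP_180525 : allRangeF (checkPointF cert) (nat_lit 180525) (nat_lit 25) = true := by decide +kernel
theorem chkP_180550 : allRangeF (checkPointF cert) (nat_lit 180550) (nat_lit 25) = true := by decide +kernel
theorem chkP_180575 : allRangeF (checkPointF cert) (nat_lit 180575) (nat_lit 25) = true := by decide +kernel
theorem chkP_180600 : allRangeF (checkPointF cert) (nat_lit 180600) (nat_lit 25) = true := by decide +kernel
theorem chkP_180625 : allRangeF (checkPointF cert) (nat_lit 180625) (nat_lit 25) = true := by decide +kernel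
theorem chkP_180650 : allRangeF (checkPointF cert) (nat_lit 180650) (nat_lit 25) = true := by decide +kernel
theorem chkP_180675 : allRangeF (checkPointF cert) (nat_lit 180675) (nat_lit 25) = true := by decide +kernel
theorem chkP_180700 : allRangeF (checkPointF cert) (nat_lit 180700) (nat_lit 25) = true := by decide +kernel
theorem chkP_180725 : allRangeF (checkPointF cert) (nat_lit 180725) (nat_lit 25) = true := by decide +kernel
theorem chkP_180750 : allRangeF (checkPointF cert) (nat_lit 180750) (nat_lit 25) = true := by decide +kernel
theorem chkP_180775 : allRangeF (checkPointF cert) (nat_lit 180775) (nat_lit 25) = true := by decide +kernel
theorem chkP_180800 : allRangeF (checkPointF cert) (nat_lit 180800) (nat_lit 25) = true := by decide +kernel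
theorem chkP_180825 : allRangeF (checkPointF cert) (nat_lit 180825) (nat_lit 25) = true := by decide +kernel
theorem chkP_180850 : allRangeF (checkPointF cert) (nat_lit 180850) (nat_lit 25) = true := by decide +kernel
theorem chkP_180875 : allRangeF (checkPointF cert) (nat_lit 180875) (nat_lit 25) = true := by decide +kernel
theorem chkP_180900 : allRangeF (checkPointF cert) (nat_lit 180900) (nat_lit 25) = true := by decide +kernel
theorem chkP_180925 : allRangeF (checkPointF cert) (nat_lit 180925) (nat_lit 25) = true := by decide +kernel
theorem chkP_180950 : allRangeF (checkPointF cert) (nat_lit 180950) (nat_lit 25) = true := by decide +kernel
theorem chkP_180975 : allRangeF (checkPointF cert) (nat_lit 180975) (nat_lit 25) = true := by decide +kernel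
theorem chkP_181000 : allRangeF (checkPointF cert) (nat_lit 181000) (nat_lit 25) = true := by decide +kernel
theorem chkP_181025 : allRangeF (checkPointF cert) (nat_lit 181025) (nat_lit 25) = true := by decide +kernel
theorem chkP_181050 : allRangeF (checkPointF cert) (nat_lit 181050) (nat_lit 25) = true := by decide +kernel
theorem chkP_181075 : allRangeF (checkPointF cert) (nat_lit 181075) (nat_lit 25) = true := by decide +kernel
theorem chkP_181100 : allRangeF (checkPointF cert) (nat_lit 181100) (nat_lit 25) = true := by decide +kernel
theorem chkP_181125 : allRangeF (checkPointF cert) (nat_lit 181125) (nat_lit 25) = true := by decide +kernel
theorem chkP_181150 : allRangeF (checkPointF cert) (nat_lit 181150) (nat_lit 25) = true := by decide +kernel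
theorem chkP_181175 : allRangeF (checkPointF cert) (nat_lit 181175) (nat_lit 25) = true := by decide +kernel
theorem chkP_181200 : allRangeF (checkPointF cert) (nat_lit 181200) (nat_lit 25) = true := by decide +kernel
theorem chkP_181225 : allRangeF (checkPointF cert) (nat_lit 181225) (nat_lit 25) = true := by decide +kernel
theorem chkP_181250 : allRangeF (checkPointF cert) (nat_lit 181250) (nat_lit 25) = true := by decide +kernel
theorem chkP_181275 : allRangeF (checkPointF cert) (nat_lit 181275) (nat_lit 25) = true := by decide +kernel
theorem chkP_181300 : allRangeF (checkPointF cert) (nat_lit 181300) (nat_lit 25) = true := by decide +kernel
theorem chkP_181325 : allRangeF (checkPointF cert) (nat_lit 181325) (nat_lit 25) = true := by decide +kernel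
theorem chkP_181350 : allRangeF (checkPointF cert) (nat_lit 181350) (nat_lit 25) = true := by decide +kernel
theorem chkP_181375 : allRangeF (checkPointF cert) (nat_lit 181375) (nat_lit 25) = true := by decide +kernel
theorem chkP_181400 : allRangeF (checkPointF cert) (nat_lit 181400) (nat_lit 25) = true := by decide +kernel
theorem chkP_181425 : allRangeF (checkPointF cert) (nat_lit 181425) (nat_lit 25) = true := by decide +kernel
theorem chkP_181450 : allRangeF (checkPointF cert) (nat_lit 181450) (nat_lit 25) = true := by decide +kernel
theorem chkP_181475 : allRangeF (checkPointF cert) (nat_lit 181475) (nat_lit 25) = true := by decide +kernel
theorem chkP_181500 : allRangeF (checkPointF cert) (nat_lit 181500) (nat_lit 25) = true := by decide +kernel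
theorem chkP_181525 : allRangeF (checkPointF cert) (nat_lit 181525) (nat_lit 25) = true := by decide +kernel
theorem chkP_181550 : allRangeF (checkPointF cert) (nat_lit 181550) (nat_lit 25) = true := by decide +kernel
theorem chkP_181575 : allRangeF (checkPointF cert) (nat_lit 181575) (nat_lit 25) = true := by decide +kernel
theorem chkP_181600 : allRangeF (checkPointF cert) (nat_lit 181600) (nat_lit 25) = true := by decide +kernel
theorem chkP_181625 : allRangeF (checkPointF cert) (nat_lit 181625) (nat_lit 25) = true := by decide +kernel
theorem chkP_181650 : allRangeF (checkPointF cert) (nat_lit 181650) (nat_lit 25) = true := by decide +kernel
theorem chkP_181675 : allRangeF (checkPointF cert) (nat_lit 181675) (nat_lit 25) = true := by decide +kernel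
theorem chkP_181700 : allRangeF (checkPointF cert) (nat_lit 181700) (nat_lit 25) = true := by decide +kernel
theorem chkP_181725 : allRangeF (checkPointF cert) (nat_lit 181725) (nat_lit 25) = true := by decide +kernel
theorem chkP_181750 : allRangeF (checkPointF cert) (nat_lit 181750) (nat_lit 25) = true := by decide +kernel
theorem chkP_181775 : allRangeF (checkPointF cert) (nat_lit 181775) (nat_lit 25) = true := by decide +kernel
theorem chkP_181800 : allRangeF (checkPointF cert) (nat_lit 181800) (nat_lit 25) = true := by decide +kernel
theorem chkP_181825 : allRangeF (checkPointF cert) (nat_lit 181825) (nat_lit 25) = true := by decide +kernel
theorem chkP_181850 : allRangeF (checkPointF cert) (nat_lit 181850) (nat_lit 25) = true := by decide +kernel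
theorem chkP_181875 : allRangeF (checkPointF cert) (nat_lit 181875) (nat_lit 25) = true := by decide +kernel
theorem chkP_181900 : allRangeF (checkPointF cert) (nat_lit 181900) (nat_lit 25) = true := by decide +kernel
theorem chkP_181925 : allRangeF (checkPointF cert) (nat_lit 181925) (nat_lit 25) = true := by decide +kernel
theorem chkP_181950 : allRangeF (checkPointF cert) (nat_lit 181950) (nat_lit 25) = true := by decide +kernel
theorem chkP_181975 : allRangeF (checkPointF cert) (nat_lit 181975) (nat_lit 25) = true := by decide +kernel
theorem chkP_182000 : allRangeF (checkPointF cert) (nat_lit 182000) (nat_lit 25) = true := by decide +kernel
theorem chkP_182025 : allRangeF (checkPointF cert) (nat_lit 182025) (nat_lit 25) = true := by decide +kernel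
theorem chkP_182050 : allRangeF (checkPointF cert) (nat_lit 182050) (nat_lit 25) = true := by decide +kernel
theorem chkP_182075 : allRangeF (checkPointF cert) (nat_lit 182075) (nat_lit 25) = true := by decide +kernel
theorem chkP_182100 : allRangeF (checkPointF cert) (nat_lit 182100) (nat_lit 25) = true := by decide +kernel
theorem chkP_182125 : allRangeF (checkPointF cert) (nat_lit 182125) (nat_lit 25) = true := by decide +kernel
theorem chkP_182150 : allRangeF (checkPointF cert) (nat_lit 182150) (nat_lit 25) = true := by decide +kernel
theorem chkP_182175 : allRangeF (checkPointF cert) (nat_lit 182175) (nat_lit 25) = true := by decide +kernel
theorem chkP_182200 : allRangeF (checkPointF cert) (nat_lit 182200) (nat_lit 25) = true := by decide +kernel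
theorem chkP_182225 : allRangeF (checkPointF cert) (nat_lit 182225) (nat_lit 25) = true := by decide +kernel
theorem chkP_182250 : allRangeF (checkPointF cert) (nat_lit 182250) (nat_lit 25) = true := by decide +kernel
theorem chkP_182275 : allRangeF (checkPointF cert) (nat_lit 182275) (nat_lit 25) = true := by decide +kernel
theorem chkP_182300 : allRangeF (checkPointF cert) (nat_lit 182300) (nat_lit 25) = true := by decide +kernel
theorem chkP_182325 : allRangeF (checkPointF cert) (nat_lit 182325) (nat_lit 25) = true := by decide +kernel
theorem chkP_182350 : allRangeF (checkPointF cert) (nat_lit 182350) (nat_lit 25) = true := by decide +kernel
theorem chkP_182375 : allRangeF (checkPointF cert) (nat_lit 182375) (nat_lit 25) = true := by decide +kernel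
theorem chkP_182400 : allRangeF (checkPointF cert) (nat_lit 182400) (nat_lit 25) = true := by decide +kernel
theorem chkP_182425 : allRangeF (checkPointF cert) (nat_lit 182425) (nat_lit 25) = true := by decide +kernel
theorem chkP_182450 : allRangeF (checkPointF cert) (nat_lit 182450) (nat_lit 25) = true := by decide +kernel
theorem chkP_182475 : allRangeF (checkPointF cert) (nat_lit 182475) (nat_lit 25) = true := by decide +kernel
theorem chkP_182500 : allRangeF (checkPointF cert) (nat_lit 182500) (nat_lit 25) = true := by decide +kernel
theorem chkP_182525 : allRangeF (checkPointF cert) (nat_lit 182525) (nat_lit 25) = true := by decide +kernel
theorem chkP_182550 : allRangeF (checkPointF cert) (nat_lit 182550) (nat_lit 25) = true := by decide +kernel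
theorem chkP_182575 : allRangeF (checkPointF cert) (nat_lit 182575) (nat_lit 25) = true := by decide +kernel
theorem chkP_182600 : allRangeF (checkPointF cert) (nat_lit 182600) (nat_lit 25) = true := by decide +kernel
theorem chkP_182625 : allRangeF (checkPointF cert) (nat_lit 182625) (nat_lit 25) = true := by decide +kernel
theorem chkP_182650 : allRangeF (checkPointF cert) (nat_lit 182650) (nat_lit 25) = true := by decide +kernel
theorem chkP_182675 : allRangeF (checkPointF cert) (nat_lit 182675) (nat_lit 25) = true := by decide +kernel
theorem chkP_182700 : allRangeF (checkPointF cert) (nat_lit 182700) (nat_lit 25) = true := by decide +kernel
theorem chkP_182725 : allRangeF (checkPointF cert) (nat_lit 182725) (nat_lit 25) = true := by decide +kernel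
theorem chkP_182750 : allRangeF (checkPointF cert) (nat_lit 182750) (nat_lit 25) = true := by decide +kernel
theorem chkP_182775 : allRangeF (checkPointF cert) (nat_lit 182775) (nat_lit 25) = true := by decide +kernel
theorem chkP_182800 : allRangeF (checkPointF cert) (nat_lit 182800) (nat_lit 25) = true := by decide +kernel
theorem chkP_182825 : allRangeF (checkPointF cert) (nat_lit 182825) (nat_lit 25) = true := by decide +kernel
theorem chkP_182850 : allRangeF (checkPointF cert) (nat_lit 182850) (nat_lit 25) = true := by decide +kernel
theorem chkP_182875 : allRangeF (checkPointF cert) (nat_lit 182875) (nat_lit 25) = true := by decide +kernel
theorem chkP_182900 : allRangeF (checkPointF cert) (nat_lit 182900) (nat_lit 25) = true := by decide +kernel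
theorem chkP_182925 : allRangeF (checkPointF cert) (nat_lit 182925) (nat_lit 25) = true := by decide +kernel
theorem chkP_182950 : allRangeF (checkPointF cert) (nat_lit 182950) (nat_lit 25) = true := by decide +kernel
theorem chkP_182975 : allRangeF (checkPointF cert) (nat_lit 182975) (nat_lit 25) = true := by decide +kernel
theorem chkP_183000 : allRangeF (checkPointF cert) (nat_lit 183000) (nat_lit 25) = true := by decide +kernel
theorem chkP_183025 : allRangeF (checkPointF cert) (nat_lit 183025) (nat_lit 25) = true := by decide +kernel
theorem chkP_183050 : allRangeF (checkPointF cert) (nat_lit 183050) (nat_lit 25) = true := by decide +kernel
theorem chkP_183075 : allRangeF (checkPointF cert) (nat_lit 183075) (nat_lit 25) = true := by decide +kernel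
theorem chkP_183100 : allRangeF (checkPointF cert) (nat_lit 183100) (nat_lit 25) = true := by decide +kernel
theorem chkP_183125 : allRangeF (checkPointF cert) (nat_lit 183125) (nat_lit 25) = true := by decide +kernel
theorem chkP_183150 : allRangeF (checkPointF cert) (nat_lit 183150) (nat_lit 25) = true := by decide +kernel
theorem chkP_183175 : allRangeF (checkPointF cert) (nat_lit 183175) (nat_lit 25) = true := by decide +kernel
theorem chkP_183200 : allRangeF (checkPointF cert) (nat_lit 183200) (nat_lit 25) = true := by decide +kernel
theorem chkP_183225 : allRangeF (checkPointF cert) (nat_lit 183225) (nat_lit 25) = true := by decide +kernel
theorem chkP_183250 : allRangeF (checkPointF cert) (nat_lit 183250) (nat_lit 25) = true := by decide +kernel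
theorem chkP_183275 : allRangeF (checkPointF cert) (nat_lit 183275) (nat_lit 25) = true := by decide +kernel
theorem chkP_183300 : allRangeF (checkPointF cert) (nat_lit 183300) (nat_lit 25) = true := by decide +kernel
theorem chkP_183325 : allRangeF (checkPointF cert) (nat_lit 183325) (nat_lit 25) = true := by decide +kernel
theorem chkP_183350 : allRangeF (checkPointF cert) (nat_lit 183350) (nat_lit 25) = true := by decide +kernel
theorem chkP_183375 : allRangeF (checkPointF cert) (nat_lit 183375) (nat_lit 25) = true := by decide +kernel
theorem chkP_183400 : allRangeF (checkPointF cert) (nat_lit 183400) (nat_lit 25) = true := by decide +kernel
theorem chkP_183425 : allRangeF (checkPointF cert) (nat_lit 183425) (nat_lit 25) = true := by decide +kernel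
theorem chkP_183450 : allRangeF (checkPointF cert) (nat_lit 183450) (nat_lit 25) = true := by decide +kernel
theorem chkP_183475 : allRangeF (checkPointF cert) (nat_lit 183475) (nat_lit 25) = true := by decide +kernel
theorem chkP_183500 : allRangeF (checkPointF cert) (nat_lit 183500) (nat_lit 25) = true := by decide +kernel
theorem chkP_183525 : allRangeF (checkPointF cert) (nat_lit 183525) (nat_lit 25) = true := by decide +kernel
theorem chkP_183550 : allRangeF (checkPointF cert) (nat_lit 183550) (nat_lit 25) = true := by decide +kernel
theorem chkP_183575 : allRangeF (checkPointF cert) (nat_lit 183575) (nat_lit 25) = true := by decide +kernel
theorem chkP_183600 : allRangeF (checkPointF cert) (nat_lit 183600) (nat_lit 25) = true := by decide +kernel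
theorem chkP_183625 : allRangeF (checkPointF cert) (nat_lit 183625) (nat_lit 25) = true := by decide +kernel
theorem chkP_183650 : allRangeF (checkPointF cert) (nat_lit 183650) (nat_lit 25) = true := by decide +kernel
theorem chkP_183675 : allRangeF (checkPointF cert) (nat_lit 183675) (nat_lit 25) = true := by decide +kernel
theorem chkP_183700 : allRangeF (checkPointF cert) (nat_lit 183700) (nat_lit 25) = true := by decide +kernel
theorem chkP_183725 : allRangeF (checkPointF cert) (nat_lit 183725) (nat_lit 25) = true := by decide +kernel
theorem chkP_183750 : allRangeF (checkPointF cert) (nat_lit 183750) (nat_lit 25) = true := by decide +kernel
theorem chkP_183775 : allRangeF (checkPointF cert) (nat_lit 183775) (nat_lit 25) = true := by decide +kernel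
theorem chkP_183800 : allRangeF (checkPointF cert) (nat_lit 183800) (nat_lit 25) = true := by decide +kernel
theorem chkP_183825 : allRangeF (checkPointF cert) (nat_lit 183825) (nat_lit 25) = true := by decide +kernel
theorem chkP_183850 : allRangeF (checkPointF cert) (nat_lit 183850) (nat_lit 25) = true := by decide +kernel
theorem chkP_183875 : allRangeF (checkPointF cert) (nat_lit 183875) (nat_lit 25) = true := by decide +kernel
theorem chkP_183900 : allRangeF (checkPointF cert) (nat_lit 183900) (nat_lit 25) = true := by decide +kernel
theorem chkP_183925 : allRangeF (checkPointF cert) (nat_lit 183925) (nat_lit 25) = true := by decide +kernel
theorem chkP_183950 : allRangeF (checkPointF cert) (nat_lit 183950) (nat_lit 25) = true := by decide +kernel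
theorem chkP_183975 : allRangeF (checkPointF cert) (nat_lit 183975) (nat_lit 25) = true := by decide +kernel
theorem chkP_184000 : allRangeF (checkPointF cert) (nat_lit 184000) (nat_lit 25) = true := by decide +kernel
theorem chkP_184025 : allRangeF (checkPointF cert) (nat_lit 184025) (nat_lit 25) = true := by decide +kernel
theorem chkP_184050 : allRangeF (checkPointF cert) (nat_lit 184050) (nat_lit 25) = true := by decide +kernel
theorem chkP_184075 : allRangeF (checkPointF cert) (nat_lit 184075) (nat_lit 25) = true := by decide +kernel
theorem chkP_184100 : allRangeF (checkPointF cert) (nat_lit 184100) (nat_lit 25) = true := by decide +kernel
theorem chkP_184125 : allRangeF (checkPointF cert) (nat_lit 184125) (nat_lit 25) = true := by decide +kernel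
theorem chkP_184150 : allRangeF (checkPointF cert) (nat_lit 184150) (nat_lit 25) = true := by decide +kernel
theorem chkP_184175 : allRangeF (checkPointF cert) (nat_lit 184175) (nat_lit 25) = true := by decide +kernel

theorem ptsRange_23 : ∀ i, 176525 ≤ i → i < 184200 → checkPoint cert i = true := by
  intro i hlo hhi
  rcases Nat.lt_or_ge i 180350 with h1 | h1
  · skip
    rcases Nat.lt_or_ge i 178425 with h2 | h2
    · skip
      rcases Nat.lt_or_ge i 177475 with h3 | h3
      · skip
        rcases Nat.lt_or_ge i 177000 with h4 | h4
        · skip
          rcases Nat.lt_or_ge i 176750 with h5 | h5
          · skip
            rcases Nat.lt_or_ge i 176625 with h6 | h6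
            · skip
              rcases Nat.lt_or_ge i 176575 with h7 | h7
              · skip
                rcases Nat.lt_or_ge i 176550 with h8 | h8
                · skip
                  exact allRangeF_sound _ _ (checkPointF_eq cert) 176525 25 chkP_176525 i (by omega) (by omega)
                · skip
                  exact allRangeF_sound _ _ (checkPointF_eq cert) 176550 25 chkP_176550 i (by omega) (by omega)
              · skip
                rcases Nat.lt_or_ge i 176600 with h8 | h8
                · skip
                  exact allRangeF_sound _ _ (checkPointF_eq cert) 176575 25 chkP_176575 i (by omega) (by omega)
                · skip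
                  exact allRangeF_sound _ _ (checkPointF_eq cert) 176600 25 chkP_176600 i (by omega) (by omega)
            · skip
              rcases Nat.lt_or_ge i 176675 with h7 | h7
              · skip
                rcases Nat.lt_or_ge i 176650 with h8 | h8
                · skip
                  exact allRangeF_sound _ _ (checkPointF_eq cert) 176625 25 chkP_176625 i (by omega) (by omega)
                · skip
                  exact allRangeF_sound _ _ (checkPointF_eq cert) 176650 25 chkP_176650 i (by omega) (by omega)
              · skip
                rcases Nat.lt_or_ge i 176700 with h8 | h8
                · skip
                  exact allRangeF_sound _ _ (checkPointF_eq cert) 176675 25 chkP_176675 i (by omega) (by omega)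
                · skip
                  rcases Nat.lt_or_ge i 176725 with h9 | h9
                  · skip
                    exact allRangeF_sound _ _ (checkPointF_eq cert) 176700 25 chkP_176700 i (by omega) (by omega)
                  · skip
                    exact allRangeF_sound _ _ (checkPointF_eq cert) 176725 25 chkP_176725 i (by omega) (by omega)
          · skip
            rcases Nat.lt_or_ge i 176875 with h6 | h6
            · skip
              rcases Nat.lt_or_ge i 176800 with h7 | h7
              · skip
                rcases Nat.lt_or_ge i 176775 with h8 | h8
                · skip
                  exact allRangeF_sound _ _ (checkPointF_eq cert) 176750 25 chkP_176750 i (by omega) (by omega)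
                · skip
                  exact allRangeF_sound _ _ (checkPointF_eq cert) 176775 25 chkP_176775 i (by omega) (by omega)
              · skip
                rcases Nat.lt_or_ge i 176825 with h8 | h8
                · skip
                  exact allRangeF_sound _ _ (checkPointF_eq cert) 176800 25 chkP_176800 i (by omega) (by omega)
                · skip
                  rcases Nat.lt_or_ge i 176850 with h9 | h9
                  · skip
                    exact allRangeF_sound _ _ (checkPointF_eq cert) 176825 25 chkP_176825 i (by omega) (by omega)
                  · skip
                    exact allRangeF_sound _ _ (checkPointF_eq cert) 176850 25 chkP_176850 i (by omega) (by omega)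
            · skip
              rcases Nat.lt_or_ge i 176925 with h7 | h7
              · skip
                rcases Nat.lt_or_ge i 176900 with h8 | h8
                · skip
                  exact allRangeF_sound _ _ (checkPointF_eq cert) 176875 25 chkP_176875 i (by omega) (by omega)
                · skip
                  exact allRangeF_sound _ _ (checkPointF_eq cert) 176900 25 chkP_176900 i (by omega) (by omega)
              · skip
                rcases Nat.lt_or_ge i 176950 with h8 | h8
                · skip
                  exact allRangeF_sound _ _ (checkPointF_eq cert) 176925 25 chkP_176925 i (by omega) (by omega)
                · skip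
                  rcases Nat.lt_or_ge i 176975 with h9 | h9
                  · skip
                    exact allRangeF_sound _ _ (checkPointF_eq cert) 176950 25 chkP_176950 i (by omega) (by omega)
                  · skip
                    exact allRangeF_sound _ _ (checkPointF_eq cert) 176975 25 chkP_176975 i (by omega) (by omega)
        · skip
          rcases Nat.lt_or_ge i 177225 with h5 | h5
          · skip
            rcases Nat.lt_or_ge i 177100 with h6 | h6
            · skip
              rcases Nat.lt_or_ge i 177050 with h7 | h7
              · skip
                rcases Nat.lt_or_ge i 177025 with h8 | h8
                · skip
                  exact allRangeF_sound _ _ (checkPointF_eq cert) 177000 25 chkP_177000 i (by omega) (by omega)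
                · skip
                  exact allRangeF_sound _ _ (checkPointF_eq cert) 177025 25 chkP_177025 i (by omega) (by omega)
              · skip
                rcases Nat.lt_or_ge i 177075 with h8 | h8
                · skip
                  exact allRangeF_sound _ _ (checkPointF_eq cert) 177050 25 chkP_177050 i (by omega) (by omega)
                · skip
                  exact allRangeF_sound _ _ (checkPointF_eq cert) 177075 25 chkP_177075 i (by omega) (by omega)
            · skip
              rcases Nat.lt_or_ge i 177150 with h7 | h7
              · skip
                rcases Nat.lt_or_ge i 177125 with h8 | h8
                · skip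
                  exact allRangeF_sound _ _ (checkPointF_eq cert) 177100 25 chkP_177100 i (by omega) (by omega)
                · skip
                  exact allRangeF_sound _ _ (checkPointF_eq cert) 177125 25 chkP_177125 i (by omega) (by omega)
              · skip
                rcases Nat.lt_or_ge i 177175 with h8 | h8
                · skip
                  exact allRangeF_sound _ _ (checkPointF_eq cert) 177150 25 chkP_177150 i (by omega) (by omega)
                · skip
                  rcases Nat.lt_or_ge i 177200 with h9 | h9
                  · skip
                    exact allRangeF_sound _ _ (checkPointF_eq cert) 177175 25 chkP_177175 i (by omega) (by omega)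
                  · skip
                    exact allRangeF_sound _ _ (checkPointF_eq cert) 177200 25 chkP_177200 i (by omega) (by omega)
          · skip
            rcases Nat.lt_or_ge i 177350 with h6 | h6
            · skip
              rcases Nat.lt_or_ge i 177275 with h7 | h7
              · skip
                rcases Nat.lt_or_ge i 177250 with h8 | h8
                · skip
                  exact allRangeF_sound _ _ (checkPointF_eq cert) 177225 25 chkP_177225 i (by omega) (by omega)
                · skip
                  exact allRangeF_sound _ _ (checkPointF_eq cert) 177250 25 chkP_177250 i (by omega) (by omega)
              · skip
                rcases Nat.lt_or_ge i 177300 with h8 | h8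
                · skip
                  exact allRangeF_sound _ _ (checkPointF_eq cert) 177275 25 chkP_177275 i (by omega) (by omega)
                · skip
                  rcases Nat.lt_or_ge i 177325 with h9 | h9
                  · skip
                    exact allRangeF_sound _ _ (checkPointF_eq cert) 177300 25 chkP_177300 i (by omega) (by omega)
                  · skip
                    exact allRangeF_sound _ _ (checkPointF_eq cert) 177325 25 chkP_177325 i (by omega) (by omega)
            · skip
              rcases Nat.lt_or_ge i 177400 with h7 | h7
              · skip
                rcases Nat.lt_or_ge i 177375 with h8 | h8
                · skip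
                  exact allRangeF_sound _ _ (checkPointF_eq cert) 177350 25 chkP_177350 i (by omega) (by omega)
                · skip
                  exact allRangeF_sound _ _ (checkPointF_eq cert) 177375 25 chkP_177375 i (by omega) (by omega)
              · skip
                rcases Nat.lt_or_ge i 177425 with h8 | h8
                · skip
                  exact allRangeF_sound _ _ (checkPointF_eq cert) 177400 25 chkP_177400 i (by omega) (by omega)
                · skip
                  rcases Nat.lt_or_ge i 177450 with h9 | h9
                  · skip
                    exact allRangeF_sound _ _ (checkPointF_eq cert) 177425 25 chkP_177425 i (by omega) (by omega)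
                  · skip
                    exact allRangeF_sound _ _ (checkPointF_eq cert) 177450 25 chkP_177450 i (by omega) (by omega)
      · skip
        rcases Nat.lt_or_ge i 177950 with h4 | h4
        · skip
          rcases Nat.lt_or_ge i 177700 with h5 | h5
          · skip
            rcases Nat.lt_or_ge i 177575 with h6 | h6
            · skip
              rcases Nat.lt_or_ge i 177525 with h7 | h7
              · skip
                rcases Nat.lt_or_ge i 177500 with h8 | h8
                · skip
                  exact allRangeF_sound _ _ (checkPointF_eq cert) 177475 25 chkP_177475 i (by omega) (by omega)
                · skip
                  exact allRangeF_sound _ _ (checkPointF_eq cert) 177500 25 chkP_177500 i (by omega) (by omega)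
              · skip
                rcases Nat.lt_or_ge i 177550 with h8 | h8
                · skip
                  exact allRangeF_sound _ _ (checkPointF_eq cert) 177525 25 chkP_177525 i (by omega) (by omega)
                · skip
                  exact allRangeF_sound _ _ (checkPointF_eq cert) 177550 25 chkP_177550 i (by omega) (by omega)
            · skip
              rcases Nat.lt_or_ge i 177625 with h7 | h7
              · skip
                rcases Nat.lt_or_ge i 177600 with h8 | h8
                · skip
                  exact allRangeF_sound _ _ (checkPointF_eq cert) 177575 25 chkP_177575 i (by omega) (by omega)
                · skip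
                  exact allRangeF_sound _ _ (checkPointF_eq cert) 177600 25 chkP_177600 i (by omega) (by omega)
              · skip
                rcases Nat.lt_or_ge i 177650 with h8 | h8
                · skip
                  exact allRangeF_sound _ _ (checkPointF_eq cert) 177625 25 chkP_177625 i (by omega) (by omega)
                · skip
                  rcases Nat.lt_or_ge i 177675 with h9 | h9
                  · skip
                    exact allRangeF_sound _ _ (checkPointF_eq cert) 177650 25 chkP_177650 i (by omega) (by omega)
                  · skip
                    exact allRangeF_sound _ _ (checkPointF_eq cert) 177675 25 chkP_177675 i (by omega) (by omega)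
          · skip
            rcases Nat.lt_or_ge i 177825 with h6 | h6
            · skip
              rcases Nat.lt_or_ge i 177750 with h7 | h7
              · skip
                rcases Nat.lt_or_ge i 177725 with h8 | h8
                · skip
                  exact allRangeF_sound _ _ (checkPointF_eq cert) 177700 25 chkP_177700 i (by omega) (by omega)
                · skip
                  exact allRangeF_sound _ _ (checkPointF_eq cert) 177725 25 chkP_177725 i (by omega) (by omega)
              · skip
                rcases Nat.lt_or_ge i 177775 with h8 | h8
                · skip
                  exact allRangeF_sound _ _ (checkPointF_eq cert) 177750 25 chkP_177750 i (by omega) (by omega)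
                · skip
                  rcases Nat.lt_or_ge i 177800 with h9 | h9
                  · skip
                    exact allRangeF_sound _ _ (checkPointF_eq cert) 177775 25 chkP_177775 i (by omega) (by omega)
                  · skip
                    exact allRangeF_sound _ _ (checkPointF_eq cert) 177800 25 chkP_177800 i (by omega) (by omega)
            · skip
              rcases Nat.lt_or_ge i 177875 with h7 | h7
              · skip
                rcases Nat.lt_or_ge i 177850 with h8 | h8
                · skip
                  exact allRangeF_sound _ _ (checkPointF_eq cert) 177825 25 chkP_177825 i (by omega) (by omega)
                · skip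
                  exact allRangeF_sound _ _ (checkPointF_eq cert) 177850 25 chkP_177850 i (by omega) (by omega)
              · skip
                rcases Nat.lt_or_ge i 177900 with h8 | h8
                · skip
                  exact allRangeF_sound _ _ (checkPointF_eq cert) 177875 25 chkP_177875 i (by omega) (by omega)
                · skip
                  rcases Nat.lt_or_ge i 177925 with h9 | h9
                  · skip
                    exact allRangeF_sound _ _ (checkPointF_eq cert) 177900 25 chkP_177900 i (by omega) (by omega)
                  · skip
                    exact allRangeF_sound _ _ (checkPointF_eq cert) 177925 25 chkP_177925 i (by omega) (by omega)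
        · skip
          rcases Nat.lt_or_ge i 178175 with h5 | h5
          · skip
            rcases Nat.lt_or_ge i 178050 with h6 | h6
            · skip
              rcases Nat.lt_or_ge i 178000 with h7 | h7
              · skip
                rcases Nat.lt_or_ge i 177975 with h8 | h8
                · skip
                  exact allRangeF_sound _ _ (checkPointF_eq cert) 177950 25 chkP_177950 i (by omega) (by omega)
                · skip
                  exact allRangeF_sound _ _ (checkPointF_eq cert) 177975 25 chkP_177975 i (by omega) (by omega)
              · skip
                rcases Nat.lt_or_ge i 178025 with h8 | h8
                · skip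
                  exact allRangeF_sound _ _ (checkPointF_eq cert) 178000 25 chkP_178000 i (by omega) (by omega)
                · skip
                  exact allRangeF_sound _ _ (checkPointF_eq cert) 178025 25 chkP_178025 i (by omega) (by omega)
            · skip
              rcases Nat.lt_or_ge i 178100 with h7 | h7
              · skip
                rcases Nat.lt_or_ge i 178075 with h8 | h8
                · skip
                  exact allRangeF_sound _ _ (checkPointF_eq cert) 178050 25 chkP_178050 i (by omega) (by omega)
                · skip
                  exact allRangeF_sound _ _ (checkPointF_eq cert) 178075 25 chkP_178075 i (by omega) (by omega)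
              · skip
                rcases Nat.lt_or_ge i 178125 with h8 | h8
                · skip
                  exact allRangeF_sound _ _ (checkPointF_eq cert) 178100 25 chkP_178100 i (by omega) (by omega)
                · skip
                  rcases Nat.lt_or_ge i 178150 with h9 | h9
                  · skip
                    exact allRangeF_sound _ _ (checkPointF_eq cert) 178125 25 chkP_178125 i (by omega) (by omega)
                  · skip
                    exact allRangeF_sound _ _ (checkPointF_eq cert) 178150 25 chkP_178150 i (by omega) (by omega)
          · skip
            rcases Nat.lt_or_ge i 178300 with h6 | h6
            · skip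
              rcases Nat.lt_or_ge i 178225 with h7 | h7
              · skip
                rcases Nat.lt_or_ge i 178200 with h8 | h8
                · skip
                  exact allRangeF_sound _ _ (checkPointF_eq cert) 178175 25 chkP_178175 i (by omega) (by omega)
                · skip
                  exact allRangeF_sound _ _ (checkPointF_eq cert) 178200 25 chkP_178200 i (by omega) (by omega)
              · skip
                rcases Nat.lt_or_ge i 178250 with h8 | h8
                · skip
                  exact allRangeF_sound _ _ (checkPointF_eq cert) 178225 25 chkP_178225 i (by omega) (by omega)
                · skip
                  rcases Nat.lt_or_ge i 178275 with h9 | h9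
                  · skip
                    exact allRangeF_sound _ _ (checkPointF_eq cert) 178250 25 chkP_178250 i (by omega) (by omega)
                  · skip
                    exact allRangeF_sound _ _ (checkPointF_eq cert) 178275 25 chkP_178275 i (by omega) (by omega)
            · skip
              rcases Nat.lt_or_ge i 178350 with h7 | h7
              · skip
                rcases Nat.lt_or_ge i 178325 with h8 | h8
                · skip
                  exact allRangeF_sound _ _ (checkPointF_eq cert) 178300 25 chkP_178300 i (by omega) (by omega)
                · skip
                  exact allRangeF_sound _ _ (checkPointF_eq cert) 178325 25 chkP_178325 i (by omega) (by omega)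
              · skip
                rcases Nat.lt_or_ge i 178375 with h8 | h8
                · skip
                  exact allRangeF_sound _ _ (checkPointF_eq cert) 178350 25 chkP_178350 i (by omega) (by omega)
                · skip
                  rcases Nat.lt_or_ge i 178400 with h9 | h9
                  · skip
                    exact allRangeF_sound _ _ (checkPointF_eq cert) 178375 25 chkP_178375 i (by omega) (by omega)
                  · skip
                    exact allRangeF_sound _ _ (checkPointF_eq cert) 178400 25 chkP_178400 i (by omega) (by omega)
    · skip
      rcases Nat.lt_or_ge i 179375 with h3 | h3
      · skip
        rcases Nat.lt_or_ge i 178900 with h4 | h4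
        · skip
          rcases Nat.lt_or_ge i 178650 with h5 | h5
          · skip
            rcases Nat.lt_or_ge i 178525 with h6 | h6
            · skip
              rcases Nat.lt_or_ge i 178475 with h7 | h7
              · skip
                rcases Nat.lt_or_ge i 178450 with h8 | h8
                · skip
                  exact allRangeF_sound _ _ (checkPointF_eq cert) 178425 25 chkP_178425 i (by omega) (by omega)
                · skip
                  exact allRangeF_sound _ _ (checkPointF_eq cert) 178450 25 chkP_178450 i (by omega) (by omega)
              · skip
                rcases Nat.lt_or_ge i 178500 with h8 | h8
                · skip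
                  exact allRangeF_sound _ _ (checkPointF_eq cert) 178475 25 chkP_178475 i (by omega) (by omega)
                · skip
                  exact allRangeF_sound _ _ (checkPointF_eq cert) 178500 25 chkP_178500 i (by omega) (by omega)
            · skip
              rcases Nat.lt_or_ge i 178575 with h7 | h7
              · skip
                rcases Nat.lt_or_ge i 178550 with h8 | h8
                · skip
                  exact allRangeF_sound _ _ (checkPointF_eq cert) 178525 25 chkP_178525 i (by omega) (by omega)
                · skip
                  exact allRangeF_sound _ _ (checkPointF_eq cert) 178550 25 chkP_178550 i (by omega) (by omega)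
              · skip
                rcases Nat.lt_or_ge i 178600 with h8 | h8
                · skip
                  exact allRangeF_sound _ _ (checkPointF_eq cert) 178575 25 chkP_178575 i (by omega) (by omega)
                · skip
                  rcases Nat.lt_or_ge i 178625 with h9 | h9
                  · skip
                    exact allRangeF_sound _ _ (checkPointF_eq cert) 178600 25 chkP_178600 i (by omega) (by omega)
                  · skip
                    exact allRangeF_sound _ _ (checkPointF_eq cert) 178625 25 chkP_178625 i (by omega) (by omega)
          · skip
            rcases Nat.lt_or_ge i 178775 with h6 | h6
            · skip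
              rcases Nat.lt_or_ge i 178700 with h7 | h7
              · skip
                rcases Nat.lt_or_ge i 178675 with h8 | h8
                · skip
                  exact allRangeF_sound _ _ (checkPointF_eq cert) 178650 25 chkP_178650 i (by omega) (by omega)
                · skip
                  exact allRangeF_sound _ _ (checkPointF_eq cert) 178675 25 chkP_178675 i (by omega) (by omega)
              · skip
                rcases Nat.lt_or_ge i 178725 with h8 | h8
                · skip
                  exact allRangeF_sound _ _ (checkPointF_eq cert) 178700 25 chkP_178700 i (by omega) (by omega)
                · skip
                  rcases Nat.lt_or_ge i 178750 with h9 | h9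
                  · skip
                    exact allRangeF_sound _ _ (checkPointF_eq cert) 178725 25 chkP_178725 i (by omega) (by omega)
                  · skip
                    exact allRangeF_sound _ _ (checkPointF_eq cert) 178750 25 chkP_178750 i (by omega) (by omega)
            · skip
              rcases Nat.lt_or_ge i 178825 with h7 | h7
              · skip
                rcases Nat.lt_or_ge i 178800 with h8 | h8
                · skip
                  exact allRangeF_sound _ _ (checkPointF_eq cert) 178775 25 chkP_178775 i (by omega) (by omega)
                · skip
                  exact allRangeF_sound _ _ (checkPointF_eq cert) 178800 25 chkP_178800 i (by omega) (by omega)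
              · skip
                rcases Nat.lt_or_ge i 178850 with h8 | h8
                · skip
                  exact allRangeF_sound _ _ (checkPointF_eq cert) 178825 25 chkP_178825 i (by omega) (by omega)
                · skip
                  rcases Nat.lt_or_ge i 178875 with h9 | h9
                  · skip
                    exact allRangeF_sound _ _ (checkPointF_eq cert) 178850 25 chkP_178850 i (by omega) (by omega)
                  · skip
                    exact allRangeF_sound _ _ (checkPointF_eq cert) 178875 25 chkP_178875 i (by omega) (by omega)
        · skip
          rcases Nat.lt_or_ge i 179125 with h5 | h5
          · skip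
            rcases Nat.lt_or_ge i 179000 with h6 | h6
            · skip
              rcases Nat.lt_or_ge i 178950 with h7 | h7
              · skip
                rcases Nat.lt_or_ge i 178925 with h8 | h8
                · skip
                  exact allRangeF_sound _ _ (checkPointF_eq cert) 178900 25 chkP_178900 i (by omega) (by omega)
                · skip
                  exact allRangeF_sound _ _ (checkPointF_eq cert) 178925 25 chkP_178925 i (by omega) (by omega)
              · skip
                rcases Nat.lt_or_ge i 178975 with h8 | h8
                · skip
                  exact allRangeF_sound _ _ (checkPointF_eq cert) 178950 25 chkP_178950 i (by omega) (by omega)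
                · skip
                  exact allRangeF_sound _ _ (checkPointF_eq cert) 178975 25 chkP_178975 i (by omega) (by omega)
            · skip
              rcases Nat.lt_or_ge i 179050 with h7 | h7
              · skip
                rcases Nat.lt_or_ge i 179025 with h8 | h8
                · skip
                  exact allRangeF_sound _ _ (checkPointF_eq cert) 179000 25 chkP_179000 i (by omega) (by omega)
                · skip
                  exact allRangeF_sound _ _ (checkPointF_eq cert) 179025 25 chkP_179025 i (by omega) (by omega)
              · skip
                rcases Nat.lt_or_ge i 179075 with h8 | h8
                · skip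
                  exact allRangeF_sound _ _ (checkPointF_eq cert) 179050 25 chkP_179050 i (by omega) (by omega)
                · skip
                  rcases Nat.lt_or_ge i 179100 with h9 | h9
                  · skip
                    exact allRangeF_sound _ _ (checkPointF_eq cert) 179075 25 chkP_179075 i (by omega) (by omega)
                  · skip
                    exact allRangeF_sound _ _ (checkPointF_eq cert) 179100 25 chkP_179100 i (by omega) (by omega)
          · skip
            rcases Nat.lt_or_ge i 179250 with h6 | h6
            · skip
              rcases Nat.lt_or_ge i 179175 with h7 | h7
              · skip
                rcases Nat.lt_or_ge i 179150 with h8 | h8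
                · skip
                  exact allRangeF_sound _ _ (checkPointF_eq cert) 179125 25 chkP_179125 i (by omega) (by omega)
                · skip
                  exact allRangeF_sound _ _ (checkPointF_eq cert) 179150 25 chkP_179150 i (by omega) (by omega)
              · skip
                rcases Nat.lt_or_ge i 179200 with h8 | h8
                · skip
                  exact allRangeF_sound _ _ (checkPointF_eq cert) 179175 25 chkP_179175 i (by omega) (by omega)
                · skip
                  rcases Nat.lt_or_ge i 179225 with h9 | h9
                  · skip
                    exact allRangeF_sound _ _ (checkPointF_eq cert) 179200 25 chkP_179200 i (by omega) (by omega)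
                  · skip
                    exact allRangeF_sound _ _ (checkPointF_eq cert) 179225 25 chkP_179225 i (by omega) (by omega)
            · skip
              rcases Nat.lt_or_ge i 179300 with h7 | h7
              · skip
                rcases Nat.lt_or_ge i 179275 with h8 | h8
                · skip
                  exact allRangeF_sound _ _ (checkPointF_eq cert) 179250 25 chkP_179250 i (by omega) (by omega)
                · skip
                  exact allRangeF_sound _ _ (checkPointF_eq cert) 179275 25 chkP_179275 i (by omega) (by omega)
              · skip
                rcases Nat.lt_or_ge i 179325 with h8 | h8
                · skip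
                  exact allRangeF_sound _ _ (checkPointF_eq cert) 179300 25 chkP_179300 i (by omega) (by omega)
                · skip
                  rcases Nat.lt_or_ge i 179350 with h9 | h9
                  · skip
                    exact allRangeF_sound _ _ (checkPointF_eq cert) 179325 25 chkP_179325 i (by omega) (by omega)
                  · skip
                    exact allRangeF_sound _ _ (checkPointF_eq cert) 179350 25 chkP_179350 i (by omega) (by omega)
      · skip
        rcases Nat.lt_or_ge i 179850 with h4 | h4
        · skip
          rcases Nat.lt_or_ge i 179600 with h5 | h5
          · skip
            rcases Nat.lt_or_ge i 179475 with h6 | h6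
            · skip
              rcases Nat.lt_or_ge i 179425 with h7 | h7
              · skip
                rcases Nat.lt_or_ge i 179400 with h8 | h8
                · skip
                  exact allRangeF_sound _ _ (checkPointF_eq cert) 179375 25 chkP_179375 i (by omega) (by omega)
                · skip
                  exact allRangeF_sound _ _ (checkPointF_eq cert) 179400 25 chkP_179400 i (by omega) (by omega)
              · skip
                rcases Nat.lt_or_ge i 179450 with h8 | h8
                · skip
                  exact allRangeF_sound _ _ (checkPointF_eq cert) 179425 25 chkP_179425 i (by omega) (by omega)
                · skip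
                  exact allRangeF_sound _ _ (checkPointF_eq cert) 179450 25 chkP_179450 i (by omega) (by omega)
            · skip
              rcases Nat.lt_or_ge i 179525 with h7 | h7
              · skip
                rcases Nat.lt_or_ge i 179500 with h8 | h8
                · skip
                  exact allRangeF_sound _ _ (checkPointF_eq cert) 179475 25 chkP_179475 i (by omega) (by omega)
                · skip
                  exact allRangeF_sound _ _ (checkPointF_eq cert) 179500 25 chkP_179500 i (by omega) (by omega)
              · skip
                rcases Nat.lt_or_ge i 179550 with h8 | h8
                · skip
                  exact allRangeF_sound _ _ (checkPointF_eq cert) 179525 25 chkP_179525 i (by omega) (by omega)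
                · skip
                  rcases Nat.lt_or_ge i 179575 with h9 | h9
                  · skip
                    exact allRangeF_sound _ _ (checkPointF_eq cert) 179550 25 chkP_179550 i (by omega) (by omega)
                  · skip
                    exact allRangeF_sound _ _ (checkPointF_eq cert) 179575 25 chkP_179575 i (by omega) (by omega)
          · skip
            rcases Nat.lt_or_ge i 179725 with h6 | h6
            · skip
              rcases Nat.lt_or_ge i 179650 with h7 | h7
              · skip
                rcases Nat.lt_or_ge i 179625 with h8 | h8
                · skip
                  exact allRangeF_sound _ _ (checkPointF_eq cert) 179600 25 chkP_179600 i (by omega) (by omega)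
                · skip
                  exact allRangeF_sound _ _ (checkPointF_eq cert) 179625 25 chkP_179625 i (by omega) (by omega)
              · skip
                rcases Nat.lt_or_ge i 179675 with h8 | h8
                · skip
                  exact allRangeF_sound _ _ (checkPointF_eq cert) 179650 25 chkP_179650 i (by omega) (by omega)
                · skip
                  rcases Nat.lt_or_ge i 179700 with h9 | h9
                  · skip
                    exact allRangeF_sound _ _ (checkPointF_eq cert) 179675 25 chkP_179675 i (by omega) (by omega)
                  · skip
                    exact allRangeF_sound _ _ (checkPointF_eq cert) 179700 25 chkP_179700 i (by omega) (by omega)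
            · skip
              rcases Nat.lt_or_ge i 179775 with h7 | h7
              · skip
                rcases Nat.lt_or_ge i 179750 with h8 | h8
                · skip
                  exact allRangeF_sound _ _ (checkPointF_eq cert) 179725 25 chkP_179725 i (by omega) (by omega)
                · skip
                  exact allRangeF_sound _ _ (checkPointF_eq cert) 179750 25 chkP_179750 i (by omega) (by omega)
              · skip
                rcases Nat.lt_or_ge i 179800 with h8 | h8
                · skip
                  exact allRangeF_sound _ _ (checkPointF_eq cert) 179775 25 chkP_179775 i (by omega) (by omega)
                · skip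
                  rcases Nat.lt_or_ge i 179825 with h9 | h9
                  · skip
                    exact allRangeF_sound _ _ (checkPointF_eq cert) 179800 25 chkP_179800 i (by omega) (by omega)
                  · skip
                    exact allRangeF_sound _ _ (checkPointF_eq cert) 179825 25 chkP_179825 i (by omega) (by omega)
        · skip
          rcases Nat.lt_or_ge i 180100 with h5 | h5
          · skip
            rcases Nat.lt_or_ge i 179975 with h6 | h6
            · skip
              rcases Nat.lt_or_ge i 179900 with h7 | h7
              · skip
                rcases Nat.lt_or_ge i 179875 with h8 | h8
                · skip
                  exact allRangeF_sound _ _ (checkPointF_eq cert) 179850 25 chkP_179850 i (by omega) (by omega)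
                · skip
                  exact allRangeF_sound _ _ (checkPointF_eq cert) 179875 25 chkP_179875 i (by omega) (by omega)
              · skip
                rcases Nat.lt_or_ge i 179925 with h8 | h8
                · skip
                  exact allRangeF_sound _ _ (checkPointF_eq cert) 179900 25 chkP_179900 i (by omega) (by omega)
                · skip
                  rcases Nat.lt_or_ge i 179950 with h9 | h9
                  · skip
                    exact allRangeF_sound _ _ (checkPointF_eq cert) 179925 25 chkP_179925 i (by omega) (by omega)
                  · skip
                    exact allRangeF_sound _ _ (checkPointF_eq cert) 179950 25 chkP_179950 i (by omega) (by omega)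
            · skip
              rcases Nat.lt_or_ge i 180025 with h7 | h7
              · skip
                rcases Nat.lt_or_ge i 180000 with h8 | h8
                · skip
                  exact allRangeF_sound _ _ (checkPointF_eq cert) 179975 25 chkP_179975 i (by omega) (by omega)
                · skip
                  exact allRangeF_sound _ _ (checkPointF_eq cert) 180000 25 chkP_180000 i (by omega) (by omega)
              · skip
                rcases Nat.lt_or_ge i 180050 with h8 | h8
                · skip
                  exact allRangeF_sound _ _ (checkPointF_eq cert) 180025 25 chkP_180025 i (by omega) (by omega)
                · skip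
                  rcases Nat.lt_or_ge i 180075 with h9 | h9
                  · skip
                    exact allRangeF_sound _ _ (checkPointF_eq cert) 180050 25 chkP_180050 i (by omega) (by omega)
                  · skip
                    exact allRangeF_sound _ _ (checkPointF_eq cert) 180075 25 chkP_180075 i (by omega) (by omega)
          · skip
            rcases Nat.lt_or_ge i 180225 with h6 | h6
            · skip
              rcases Nat.lt_or_ge i 180150 with h7 | h7
              · skip
                rcases Nat.lt_or_ge i 180125 with h8 | h8
                · skip
                  exact allRangeF_sound _ _ (checkPointF_eq cert) 180100 25 chkP_180100 i (by omega) (by omega)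
                · skip
                  exact allRangeF_sound _ _ (checkPointF_eq cert) 180125 25 chkP_180125 i (by omega) (by omega)
              · skip
                rcases Nat.lt_or_ge i 180175 with h8 | h8
                · skip
                  exact allRangeF_sound _ _ (checkPointF_eq cert) 180150 25 chkP_180150 i (by omega) (by omega)
                · skip
                  rcases Nat.lt_or_ge i 180200 with h9 | h9
                  · skip
                    exact allRangeF_sound _ _ (checkPointF_eq cert) 180175 25 chkP_180175 i (by omega) (by omega)
                  · skip
                    exact allRangeF_sound _ _ (checkPointF_eq cert) 180200 25 chkP_180200 i (by omega) (by omega)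
            · skip
              rcases Nat.lt_or_ge i 180275 with h7 | h7
              · skip
                rcases Nat.lt_or_ge i 180250 with h8 | h8
                · skip
                  exact allRangeF_sound _ _ (checkPointF_eq cert) 180225 25 chkP_180225 i (by omega) (by omega)
                · skip
                  exact allRangeF_sound _ _ (checkPointF_eq cert) 180250 25 chkP_180250 i (by omega) (by omega)
              · skip
                rcases Nat.lt_or_ge i 180300 with h8 | h8
                · skip
                  exact allRangeF_sound _ _ (checkPointF_eq cert) 180275 25 chkP_180275 i (by omega) (by omega)
                · skip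
                  rcases Nat.lt_or_ge i 180325 with h9 | h9
                  · skip
                    exact allRangeF_sound _ _ (checkPointF_eq cert) 180300 25 chkP_180300 i (by omega) (by omega)
                  · skip
                    exact allRangeF_sound _ _ (checkPointF_eq cert) 180325 25 chkP_180325 i (by omega) (by omega)
  · skip
    rcases Nat.lt_or_ge i 182275 with h2 | h2
    · skip
      rcases Nat.lt_or_ge i 181300 with h3 | h3
      · skip
        rcases Nat.lt_or_ge i 180825 with h4 | h4
        · skip
          rcases Nat.lt_or_ge i 180575 with h5 | h5
          · skip
            rcases Nat.lt_or_ge i 180450 with h6 | h6
            · skip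
              rcases Nat.lt_or_ge i 180400 with h7 | h7
              · skip
                rcases Nat.lt_or_ge i 180375 with h8 | h8
                · skip
                  exact allRangeF_sound _ _ (checkPointF_eq cert) 180350 25 chkP_180350 i (by omega) (by omega)
                · skip
                  exact allRangeF_sound _ _ (checkPointF_eq cert) 180375 25 chkP_180375 i (by omega) (by omega)
              · skip
                rcases Nat.lt_or_ge i 180425 with h8 | h8
                · skip
                  exact allRangeF_sound _ _ (checkPointF_eq cert) 180400 25 chkP_180400 i (by omega) (by omega)
                · skip
                  exact allRangeF_sound _ _ (checkPointF_eq cert) 180425 25 chkP_180425 i (by omega) (by omega)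
            · skip
              rcases Nat.lt_or_ge i 180500 with h7 | h7
              · skip
                rcases Nat.lt_or_ge i 180475 with h8 | h8
                · skip
                  exact allRangeF_sound _ _ (checkPointF_eq cert) 180450 25 chkP_180450 i (by omega) (by omega)
                · skip
                  exact allRangeF_sound _ _ (checkPointF_eq cert) 180475 25 chkP_180475 i (by omega) (by omega)
              · skip
                rcases Nat.lt_or_ge i 180525 with h8 | h8
                · skip
                  exact allRangeF_sound _ _ (checkPointF_eq cert) 180500 25 chkP_180500 i (by omega) (by omega)
                · skip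
                  rcases Nat.lt_or_ge i 180550 with h9 | h9
                  · skip
                    exact allRangeF_sound _ _ (checkPointF_eq cert) 180525 25 chkP_180525 i (by omega) (by omega)
                  · skip
                    exact allRangeF_sound _ _ (checkPointF_eq cert) 180550 25 chkP_180550 i (by omega) (by omega)
          · skip
            rcases Nat.lt_or_ge i 180700 with h6 | h6
            · skip
              rcases Nat.lt_or_ge i 180625 with h7 | h7
              · skip
                rcases Nat.lt_or_ge i 180600 with h8 | h8
                · skip
                  exact allRangeF_sound _ _ (checkPointF_eq cert) 180575 25 chkP_180575 i (by omega) (by omega)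
                · skip
                  exact allRangeF_sound _ _ (checkPointF_eq cert) 180600 25 chkP_180600 i (by omega) (by omega)
              · skip
                rcases Nat.lt_or_ge i 180650 with h8 | h8
                · skip
                  exact allRangeF_sound _ _ (checkPointF_eq cert) 180625 25 chkP_180625 i (by omega) (by omega)
                · skip
                  rcases Nat.lt_or_ge i 180675 with h9 | h9
                  · skip
                    exact allRangeF_sound _ _ (checkPointF_eq cert) 180650 25 chkP_180650 i (by omega) (by omega)
                  · skip
                    exact allRangeF_sound _ _ (checkPointF_eq cert) 180675 25 chkP_180675 i (by omega) (by omega)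
            · skip
              rcases Nat.lt_or_ge i 180750 with h7 | h7
              · skip
                rcases Nat.lt_or_ge i 180725 with h8 | h8
                · skip
                  exact allRangeF_sound _ _ (checkPointF_eq cert) 180700 25 chkP_180700 i (by omega) (by omega)
                · skip
                  exact allRangeF_sound _ _ (checkPointF_eq cert) 180725 25 chkP_180725 i (by omega) (by omega)
              · skip
                rcases Nat.lt_or_ge i 180775 with h8 | h8
                · skip
                  exact allRangeF_sound _ _ (checkPointF_eq cert) 180750 25 chkP_180750 i (by omega) (by omega)
                · skip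
                  rcases Nat.lt_or_ge i 180800 with h9 | h9
                  · skip
                    exact allRangeF_sound _ _ (checkPointF_eq cert) 180775 25 chkP_180775 i (by omega) (by omega)
                  · skip
                    exact allRangeF_sound _ _ (checkPointF_eq cert) 180800 25 chkP_180800 i (by omega) (by omega)
        · skip
          rcases Nat.lt_or_ge i 181050 with h5 | h5
          · skip
            rcases Nat.lt_or_ge i 180925 with h6 | h6
            · skip
              rcases Nat.lt_or_ge i 180875 with h7 | h7
              · skip
                rcases Nat.lt_or_ge i 180850 with h8 | h8
                · skip
                  exact allRangeF_sound _ _ (checkPointF_eq cert) 180825 25 chkP_180825 i (by omega) (by omega)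
                · skip
                  exact allRangeF_sound _ _ (checkPointF_eq cert) 180850 25 chkP_180850 i (by omega) (by omega)
              · skip
                rcases Nat.lt_or_ge i 180900 with h8 | h8
                · skip
                  exact allRangeF_sound _ _ (checkPointF_eq cert) 180875 25 chkP_180875 i (by omega) (by omega)
                · skip
                  exact allRangeF_sound _ _ (checkPointF_eq cert) 180900 25 chkP_180900 i (by omega) (by omega)
            · skip
              rcases Nat.lt_or_ge i 180975 with h7 | h7
              · skip
                rcases Nat.lt_or_ge i 180950 with h8 | h8
                · skip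
                  exact allRangeF_sound _ _ (checkPointF_eq cert) 180925 25 chkP_180925 i (by omega) (by omega)
                · skip
                  exact allRangeF_sound _ _ (checkPointF_eq cert) 180950 25 chkP_180950 i (by omega) (by omega)
              · skip
                rcases Nat.lt_or_ge i 181000 with h8 | h8
                · skip
                  exact allRangeF_sound _ _ (checkPointF_eq cert) 180975 25 chkP_180975 i (by omega) (by omega)
                · skip
                  rcases Nat.lt_or_ge i 181025 with h9 | h9
                  · skip
                    exact allRangeF_sound _ _ (checkPointF_eq cert) 181000 25 chkP_181000 i (by omega) (by omega)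
                  · skip
                    exact allRangeF_sound _ _ (checkPointF_eq cert) 181025 25 chkP_181025 i (by omega) (by omega)
          · skip
            rcases Nat.lt_or_ge i 181175 with h6 | h6
            · skip
              rcases Nat.lt_or_ge i 181100 with h7 | h7
              · skip
                rcases Nat.lt_or_ge i 181075 with h8 | h8
                · skip
                  exact allRangeF_sound _ _ (checkPointF_eq cert) 181050 25 chkP_181050 i (by omega) (by omega)
                · skip
                  exact allRangeF_sound _ _ (checkPointF_eq cert) 181075 25 chkP_181075 i (by omega) (by omega)
              · skip
                rcases Nat.lt_or_ge i 181125 with h8 | h8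
                · skip
                  exact allRangeF_sound _ _ (checkPointF_eq cert) 181100 25 chkP_181100 i (by omega) (by omega)
                · skip
                  rcases Nat.lt_or_ge i 181150 with h9 | h9
                  · skip
                    exact allRangeF_sound _ _ (checkPointF_eq cert) 181125 25 chkP_181125 i (by omega) (by omega)
                  · skip
                    exact allRangeF_sound _ _ (checkPointF_eq cert) 181150 25 chkP_181150 i (by omega) (by omega)
            · skip
              rcases Nat.lt_or_ge i 181225 with h7 | h7
              · skip
                rcases Nat.lt_or_ge i 181200 with h8 | h8
                · skip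
                  exact allRangeF_sound _ _ (checkPointF_eq cert) 181175 25 chkP_181175 i (by omega) (by omega)
                · skip
                  exact allRangeF_sound _ _ (checkPointF_eq cert) 181200 25 chkP_181200 i (by omega) (by omega)
              · skip
                rcases Nat.lt_or_ge i 181250 with h8 | h8
                · skip
                  exact allRangeF_sound _ _ (checkPointF_eq cert) 181225 25 chkP_181225 i (by omega) (by omega)
                · skip
                  rcases Nat.lt_or_ge i 181275 with h9 | h9
                  · skip
                    exact allRangeF_sound _ _ (checkPointF_eq cert) 181250 25 chkP_181250 i (by omega) (by omega)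
                  · skip
                    exact allRangeF_sound _ _ (checkPointF_eq cert) 181275 25 chkP_181275 i (by omega) (by omega)
      · skip
        rcases Nat.lt_or_ge i 181775 with h4 | h4
        · skip
          rcases Nat.lt_or_ge i 181525 with h5 | h5
          · skip
            rcases Nat.lt_or_ge i 181400 with h6 | h6
            · skip
              rcases Nat.lt_or_ge i 181350 with h7 | h7
              · skip
                rcases Nat.lt_or_ge i 181325 with h8 | h8
                · skip
                  exact allRangeF_sound _ _ (checkPointF_eq cert) 181300 25 chkP_181300 i (by omega) (by omega)
                · skip
                  exact allRangeF_sound _ _ (checkPointF_eq cert) 181325 25 chkP_181325 i (by omega) (by omega)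
              · skip
                rcases Nat.lt_or_ge i 181375 with h8 | h8
                · skip
                  exact allRangeF_sound _ _ (checkPointF_eq cert) 181350 25 chkP_181350 i (by omega) (by omega)
                · skip
                  exact allRangeF_sound _ _ (checkPointF_eq cert) 181375 25 chkP_181375 i (by omega) (by omega)
            · skip
              rcases Nat.lt_or_ge i 181450 with h7 | h7
              · skip
                rcases Nat.lt_or_ge i 181425 with h8 | h8
                · skip
                  exact allRangeF_sound _ _ (checkPointF_eq cert) 181400 25 chkP_181400 i (by omega) (by omega)
                · skip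
                  exact allRangeF_sound _ _ (checkPointF_eq cert) 181425 25 chkP_181425 i (by omega) (by omega)
              · skip
                rcases Nat.lt_or_ge i 181475 with h8 | h8
                · skip
                  exact allRangeF_sound _ _ (checkPointF_eq cert) 181450 25 chkP_181450 i (by omega) (by omega)
                · skip
                  rcases Nat.lt_or_ge i 181500 with h9 | h9
                  · skip
                    exact allRangeF_sound _ _ (checkPointF_eq cert) 181475 25 chkP_181475 i (by omega) (by omega)
                  · skip
                    exact allRangeF_sound _ _ (checkPointF_eq cert) 181500 25 chkP_181500 i (by omega) (by omega)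
          · skip
            rcases Nat.lt_or_ge i 181650 with h6 | h6
            · skip
              rcases Nat.lt_or_ge i 181575 with h7 | h7
              · skip
                rcases Nat.lt_or_ge i 181550 with h8 | h8
                · skip
                  exact allRangeF_sound _ _ (checkPointF_eq cert) 181525 25 chkP_181525 i (by omega) (by omega)
                · skip
                  exact allRangeF_sound _ _ (checkPointF_eq cert) 181550 25 chkP_181550 i (by omega) (by omega)
              · skip
                rcases Nat.lt_or_ge i 181600 with h8 | h8
                · skip
                  exact allRangeF_sound _ _ (checkPointF_eq cert) 181575 25 chkP_181575 i (by omega) (by omega)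
                · skip
                  rcases Nat.lt_or_ge i 181625 with h9 | h9
                  · skip
                    exact allRangeF_sound _ _ (checkPointF_eq cert) 181600 25 chkP_181600 i (by omega) (by omega)
                  · skip
                    exact allRangeF_sound _ _ (checkPointF_eq cert) 181625 25 chkP_181625 i (by omega) (by omega)
            · skip
              rcases Nat.lt_or_ge i 181700 with h7 | h7
              · skip
                rcases Nat.lt_or_ge i 181675 with h8 | h8
                · skip
                  exact allRangeF_sound _ _ (checkPointF_eq cert) 181650 25 chkP_181650 i (by omega) (by omega)
                · skip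
                  exact allRangeF_sound _ _ (checkPointF_eq cert) 181675 25 chkP_181675 i (by omega) (by omega)
              · skip
                rcases Nat.lt_or_ge i 181725 with h8 | h8
                · skip
                  exact allRangeF_sound _ _ (checkPointF_eq cert) 181700 25 chkP_181700 i (by omega) (by omega)
                · skip
                  rcases Nat.lt_or_ge i 181750 with h9 | h9
                  · skip
                    exact allRangeF_sound _ _ (checkPointF_eq cert) 181725 25 chkP_181725 i (by omega) (by omega)
                  · skip
                    exact allRangeF_sound _ _ (checkPointF_eq cert) 181750 25 chkP_181750 i (by omega) (by omega)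
        · skip
          rcases Nat.lt_or_ge i 182025 with h5 | h5
          · skip
            rcases Nat.lt_or_ge i 181900 with h6 | h6
            · skip
              rcases Nat.lt_or_ge i 181825 with h7 | h7
              · skip
                rcases Nat.lt_or_ge i 181800 with h8 | h8
                · skip
                  exact allRangeF_sound _ _ (checkPointF_eq cert) 181775 25 chkP_181775 i (by omega) (by omega)
                · skip
                  exact allRangeF_sound _ _ (checkPointF_eq cert) 181800 25 chkP_181800 i (by omega) (by omega)
              · skip
                rcases Nat.lt_or_ge i 181850 with h8 | h8
                · skip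
                  exact allRangeF_sound _ _ (checkPointF_eq cert) 181825 25 chkP_181825 i (by omega) (by omega)
                · skip
                  rcases Nat.lt_or_ge i 181875 with h9 | h9
                  · skip
                    exact allRangeF_sound _ _ (checkPointF_eq cert) 181850 25 chkP_181850 i (by omega) (by omega)
                  · skip
                    exact allRangeF_sound _ _ (checkPointF_eq cert) 181875 25 chkP_181875 i (by omega) (by omega)
            · skip
              rcases Nat.lt_or_ge i 181950 with h7 | h7
              · skip
                rcases Nat.lt_or_ge i 181925 with h8 | h8
                · skip
                  exact allRangeF_sound _ _ (checkPointF_eq cert) 181900 25 chkP_181900 i (by omega) (by omega)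
                · skip
                  exact allRangeF_sound _ _ (checkPointF_eq cert) 181925 25 chkP_181925 i (by omega) (by omega)
              · skip
                rcases Nat.lt_or_ge i 181975 with h8 | h8
                · skip
                  exact allRangeF_sound _ _ (checkPointF_eq cert) 181950 25 chkP_181950 i (by omega) (by omega)
                · skip
                  rcases Nat.lt_or_ge i 182000 with h9 | h9
                  · skip
                    exact allRangeF_sound _ _ (checkPointF_eq cert) 181975 25 chkP_181975 i (by omega) (by omega)
                  · skip
                    exact allRangeF_sound _ _ (checkPointF_eq cert) 182000 25 chkP_182000 i (by omega) (by omega)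
          · skip
            rcases Nat.lt_or_ge i 182150 with h6 | h6
            · skip
              rcases Nat.lt_or_ge i 182075 with h7 | h7
              · skip
                rcases Nat.lt_or_ge i 182050 with h8 | h8
                · skip
                  exact allRangeF_sound _ _ (checkPointF_eq cert) 182025 25 chkP_182025 i (by omega) (by omega)
                · skip
                  exact allRangeF_sound _ _ (checkPointF_eq cert) 182050 25 chkP_182050 i (by omega) (by omega)
              · skip
                rcases Nat.lt_or_ge i 182100 with h8 | h8
                · skip
                  exact allRangeF_sound _ _ (checkPointF_eq cert) 182075 25 chkP_182075 i (by omega) (by omega)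
                · skip
                  rcases Nat.lt_or_ge i 182125 with h9 | h9
                  · skip
                    exact allRangeF_sound _ _ (checkPointF_eq cert) 182100 25 chkP_182100 i (by omega) (by omega)
                  · skip
                    exact allRangeF_sound _ _ (checkPointF_eq cert) 182125 25 chkP_182125 i (by omega) (by omega)
            · skip
              rcases Nat.lt_or_ge i 182200 with h7 | h7
              · skip
                rcases Nat.lt_or_ge i 182175 with h8 | h8
                · skip
                  exact allRangeF_sound _ _ (checkPointF_eq cert) 182150 25 chkP_182150 i (by omega) (by omega)
                · skip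
                  exact allRangeF_sound _ _ (checkPointF_eq cert) 182175 25 chkP_182175 i (by omega) (by omega)
              · skip
                rcases Nat.lt_or_ge i 182225 with h8 | h8
                · skip
                  exact allRangeF_sound _ _ (checkPointF_eq cert) 182200 25 chkP_182200 i (by omega) (by omega)
                · skip
                  rcases Nat.lt_or_ge i 182250 with h9 | h9
                  · skip
                    exact allRangeF_sound _ _ (checkPointF_eq cert) 182225 25 chkP_182225 i (by omega) (by omega)
                  · skip
                    exact allRangeF_sound _ _ (checkPointF_eq cert) 182250 25 chkP_182250 i (by omega) (by omega)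
    · skip
      rcases Nat.lt_or_ge i 183225 with h3 | h3
      · skip
        rcases Nat.lt_or_ge i 182750 with h4 | h4
        · skip
          rcases Nat.lt_or_ge i 182500 with h5 | h5
          · skip
            rcases Nat.lt_or_ge i 182375 with h6 | h6
            · skip
              rcases Nat.lt_or_ge i 182325 with h7 | h7
              · skip
                rcases Nat.lt_or_ge i 182300 with h8 | h8
                · skip
                  exact allRangeF_sound _ _ (checkPointF_eq cert) 182275 25 chkP_182275 i (by omega) (by omega)
                · skip
                  exact allRangeF_sound _ _ (checkPointF_eq cert) 182300 25 chkP_182300 i (by omega) (by omega)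
              · skip
                rcases Nat.lt_or_ge i 182350 with h8 | h8
                · skip
                  exact allRangeF_sound _ _ (checkPointF_eq cert) 182325 25 chkP_182325 i (by omega) (by omega)
                · skip
                  exact allRangeF_sound _ _ (checkPointF_eq cert) 182350 25 chkP_182350 i (by omega) (by omega)
            · skip
              rcases Nat.lt_or_ge i 182425 with h7 | h7
              · skip
                rcases Nat.lt_or_ge i 182400 with h8 | h8
                · skip
                  exact allRangeF_sound _ _ (checkPointF_eq cert) 182375 25 chkP_182375 i (by omega) (by omega)
                · skip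
                  exact allRangeF_sound _ _ (checkPointF_eq cert) 182400 25 chkP_182400 i (by omega) (by omega)
              · skip
                rcases Nat.lt_or_ge i 182450 with h8 | h8
                · skip
                  exact allRangeF_sound _ _ (checkPointF_eq cert) 182425 25 chkP_182425 i (by omega) (by omega)
                · skip
                  rcases Nat.lt_or_ge i 182475 with h9 | h9
                  · skip
                    exact allRangeF_sound _ _ (checkPointF_eq cert) 182450 25 chkP_182450 i (by omega) (by omega)
                  · skip
                    exact allRangeF_sound _ _ (checkPointF_eq cert) 182475 25 chkP_182475 i (by omega) (by omega)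
          · skip
            rcases Nat.lt_or_ge i 182625 with h6 | h6
            · skip
              rcases Nat.lt_or_ge i 182550 with h7 | h7
              · skip
                rcases Nat.lt_or_ge i 182525 with h8 | h8
                · skip
                  exact allRangeF_sound _ _ (checkPointF_eq cert) 182500 25 chkP_182500 i (by omega) (by omega)
                · skip
                  exact allRangeF_sound _ _ (checkPointF_eq cert) 182525 25 chkP_182525 i (by omega) (by omega)
              · skip
                rcases Nat.lt_or_ge i 182575 with h8 | h8
                · skip
                  exact allRangeF_sound _ _ (checkPointF_eq cert) 182550 25 chkP_182550 i (by omega) (by omega)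
                · skip
                  rcases Nat.lt_or_ge i 182600 with h9 | h9
                  · skip
                    exact allRangeF_sound _ _ (checkPointF_eq cert) 182575 25 chkP_182575 i (by omega) (by omega)
                  · skip
                    exact allRangeF_sound _ _ (checkPointF_eq cert) 182600 25 chkP_182600 i (by omega) (by omega)
            · skip
              rcases Nat.lt_or_ge i 182675 with h7 | h7
              · skip
                rcases Nat.lt_or_ge i 182650 with h8 | h8
                · skip
                  exact allRangeF_sound _ _ (checkPointF_eq cert) 182625 25 chkP_182625 i (by omega) (by omega)
                · skip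
                  exact allRangeF_sound _ _ (checkPointF_eq cert) 182650 25 chkP_182650 i (by omega) (by omega)
              · skip
                rcases Nat.lt_or_ge i 182700 with h8 | h8
                · skip
                  exact allRangeF_sound _ _ (checkPointF_eq cert) 182675 25 chkP_182675 i (by omega) (by omega)
                · skip
                  rcases Nat.lt_or_ge i 182725 with h9 | h9
                  · skip
                    exact allRangeF_sound _ _ (checkPointF_eq cert) 182700 25 chkP_182700 i (by omega) (by omega)
                  · skip
                    exact allRangeF_sound _ _ (checkPointF_eq cert) 182725 25 chkP_182725 i (by omega) (by omega)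
        · skip
          rcases Nat.lt_or_ge i 182975 with h5 | h5
          · skip
            rcases Nat.lt_or_ge i 182850 with h6 | h6
            · skip
              rcases Nat.lt_or_ge i 182800 with h7 | h7
              · skip
                rcases Nat.lt_or_ge i 182775 with h8 | h8
                · skip
                  exact allRangeF_sound _ _ (checkPointF_eq cert) 182750 25 chkP_182750 i (by omega) (by omega)
                · skip
                  exact allRangeF_sound _ _ (checkPointF_eq cert) 182775 25 chkP_182775 i (by omega) (by omega)
              · skip
                rcases Nat.lt_or_ge i 182825 with h8 | h8
                · skip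
                  exact allRangeF_sound _ _ (checkPointF_eq cert) 182800 25 chkP_182800 i (by omega) (by omega)
                · skip
                  exact allRangeF_sound _ _ (checkPointF_eq cert) 182825 25 chkP_182825 i (by omega) (by omega)
            · skip
              rcases Nat.lt_or_ge i 182900 with h7 | h7
              · skip
                rcases Nat.lt_or_ge i 182875 with h8 | h8
                · skip
                  exact allRangeF_sound _ _ (checkPointF_eq cert) 182850 25 chkP_182850 i (by omega) (by omega)
                · skip
                  exact allRangeF_sound _ _ (checkPointF_eq cert) 182875 25 chkP_182875 i (by omega) (by omega)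
              · skip
                rcases Nat.lt_or_ge i 182925 with h8 | h8
                · skip
                  exact allRangeF_sound _ _ (checkPointF_eq cert) 182900 25 chkP_182900 i (by omega) (by omega)
                · skip
                  rcases Nat.lt_or_ge i 182950 with h9 | h9
                  · skip
                    exact allRangeF_sound _ _ (checkPointF_eq cert) 182925 25 chkP_182925 i (by omega) (by omega)
                  · skip
                    exact allRangeF_sound _ _ (checkPointF_eq cert) 182950 25 chkP_182950 i (by omega) (by omega)
          · skip
            rcases Nat.lt_or_ge i 183100 with h6 | h6
            · skip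
              rcases Nat.lt_or_ge i 183025 with h7 | h7
              · skip
                rcases Nat.lt_or_ge i 183000 with h8 | h8
                · skip
                  exact allRangeF_sound _ _ (checkPointF_eq cert) 182975 25 chkP_182975 i (by omega) (by omega)
                · skip
                  exact allRangeF_sound _ _ (checkPointF_eq cert) 183000 25 chkP_183000 i (by omega) (by omega)
              · skip
                rcases Nat.lt_or_ge i 183050 with h8 | h8
                · skip
                  exact allRangeF_sound _ _ (checkPointF_eq cert) 183025 25 chkP_183025 i (by omega) (by omega)
                · skip
                  rcases Nat.lt_or_ge i 183075 with h9 | h9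
                  · skip
                    exact allRangeF_sound _ _ (checkPointF_eq cert) 183050 25 chkP_183050 i (by omega) (by omega)
                  · skip
                    exact allRangeF_sound _ _ (checkPointF_eq cert) 183075 25 chkP_183075 i (by omega) (by omega)
            · skip
              rcases Nat.lt_or_ge i 183150 with h7 | h7
              · skip
                rcases Nat.lt_or_ge i 183125 with h8 | h8
                · skip
                  exact allRangeF_sound _ _ (checkPointF_eq cert) 183100 25 chkP_183100 i (by omega) (by omega)
                · skip
                  exact allRangeF_sound _ _ (checkPointF_eq cert) 183125 25 chkP_183125 i (by omega) (by omega)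
              · skip
                rcases Nat.lt_or_ge i 183175 with h8 | h8
                · skip
                  exact allRangeF_sound _ _ (checkPointF_eq cert) 183150 25 chkP_183150 i (by omega) (by omega)
                · skip
                  rcases Nat.lt_or_ge i 183200 with h9 | h9
                  · skip
                    exact allRangeF_sound _ _ (checkPointF_eq cert) 183175 25 chkP_183175 i (by omega) (by omega)
                  · skip
                    exact allRangeF_sound _ _ (checkPointF_eq cert) 183200 25 chkP_183200 i (by omega) (by omega)
      · skip
        rcases Nat.lt_or_ge i 183700 with h4 | h4
        · skip
          rcases Nat.lt_or_ge i 183450 with h5 | h5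
          · skip
            rcases Nat.lt_or_ge i 183325 with h6 | h6
            · skip
              rcases Nat.lt_or_ge i 183275 with h7 | h7
              · skip
                rcases Nat.lt_or_ge i 183250 with h8 | h8
                · skip
                  exact allRangeF_sound _ _ (checkPointF_eq cert) 183225 25 chkP_183225 i (by omega) (by omega)
                · skip
                  exact allRangeF_sound _ _ (checkPointF_eq cert) 183250 25 chkP_183250 i (by omega) (by omega)
              · skip
                rcases Nat.lt_or_ge i 183300 with h8 | h8
                · skip
                  exact allRangeF_sound _ _ (checkPointF_eq cert) 183275 25 chkP_183275 i (by omega) (by omega)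
                · skip
                  exact allRangeF_sound _ _ (checkPointF_eq cert) 183300 25 chkP_183300 i (by omega) (by omega)
            · skip
              rcases Nat.lt_or_ge i 183375 with h7 | h7
              · skip
                rcases Nat.lt_or_ge i 183350 with h8 | h8
                · skip
                  exact allRangeF_sound _ _ (checkPointF_eq cert) 183325 25 chkP_183325 i (by omega) (by omega)
                · skip
                  exact allRangeF_sound _ _ (checkPointF_eq cert) 183350 25 chkP_183350 i (by omega) (by omega)
              · skip
                rcases Nat.lt_or_ge i 183400 with h8 | h8
                · skip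
                  exact allRangeF_sound _ _ (checkPointF_eq cert) 183375 25 chkP_183375 i (by omega) (by omega)
                · skip
                  rcases Nat.lt_or_ge i 183425 with h9 | h9
                  · skip
                    exact allRangeF_sound _ _ (checkPointF_eq cert) 183400 25 chkP_183400 i (by omega) (by omega)
                  · skip
                    exact allRangeF_sound _ _ (checkPointF_eq cert) 183425 25 chkP_183425 i (by omega) (by omega)
          · skip
            rcases Nat.lt_or_ge i 183575 with h6 | h6
            · skip
              rcases Nat.lt_or_ge i 183500 with h7 | h7
              · skip
                rcases Nat.lt_or_ge i 183475 with h8 | h8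
                · skip
                  exact allRangeF_sound _ _ (checkPointF_eq cert) 183450 25 chkP_183450 i (by omega) (by omega)
                · skip
                  exact allRangeF_sound _ _ (checkPointF_eq cert) 183475 25 chkP_183475 i (by omega) (by omega)
              · skip
                rcases Nat.lt_or_ge i 183525 with h8 | h8
                · skip
                  exact allRangeF_sound _ _ (checkPointF_eq cert) 183500 25 chkP_183500 i (by omega) (by omega)
                · skip
                  rcases Nat.lt_or_ge i 183550 with h9 | h9
                  · skip
                    exact allRangeF_sound _ _ (checkPointF_eq cert) 183525 25 chkP_183525 i (by omega) (by omega)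
                  · skip
                    exact allRangeF_sound _ _ (checkPointF_eq cert) 183550 25 chkP_183550 i (by omega) (by omega)
            · skip
              rcases Nat.lt_or_ge i 183625 with h7 | h7
              · skip
                rcases Nat.lt_or_ge i 183600 with h8 | h8
                · skip
                  exact allRangeF_sound _ _ (checkPointF_eq cert) 183575 25 chkP_183575 i (by omega) (by omega)
                · skip
                  exact allRangeF_sound _ _ (checkPointF_eq cert) 183600 25 chkP_183600 i (by omega) (by omega)
              · skip
                rcases Nat.lt_or_ge i 183650 with h8 | h8
                · skip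
                  exact allRangeF_sound _ _ (checkPointF_eq cert) 183625 25 chkP_183625 i (by omega) (by omega)
                · skip
                  rcases Nat.lt_or_ge i 183675 with h9 | h9
                  · skip
                    exact allRangeF_sound _ _ (checkPointF_eq cert) 183650 25 chkP_183650 i (by omega) (by omega)
                  · skip
                    exact allRangeF_sound _ _ (checkPointF_eq cert) 183675 25 chkP_183675 i (by omega) (by omega)
        · skip
          rcases Nat.lt_or_ge i 183950 with h5 | h5
          · skip
            rcases Nat.lt_or_ge i 183825 with h6 | h6
            · skip
              rcases Nat.lt_or_ge i 183750 with h7 | h7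
              · skip
                rcases Nat.lt_or_ge i 183725 with h8 | h8
                · skip
                  exact allRangeF_sound _ _ (checkPointF_eq cert) 183700 25 chkP_183700 i (by omega) (by omega)
                · skip
                  exact allRangeF_sound _ _ (checkPointF_eq cert) 183725 25 chkP_183725 i (by omega) (by omega)
              · skip
                rcases Nat.lt_or_ge i 183775 with h8 | h8
                · skip
                  exact allRangeF_sound _ _ (checkPointF_eq cert) 183750 25 chkP_183750 i (by omega) (by omega)
                · skip
                  rcases Nat.lt_or_ge i 183800 with h9 | h9
                  · skip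
                    exact allRangeF_sound _ _ (checkPointF_eq cert) 183775 25 chkP_183775 i (by omega) (by omega)
                  · skip
                    exact allRangeF_sound _ _ (checkPointF_eq cert) 183800 25 chkP_183800 i (by omega) (by omega)
            · skip
              rcases Nat.lt_or_ge i 183875 with h7 | h7
              · skip
                rcases Nat.lt_or_ge i 183850 with h8 | h8
                · skip
                  exact allRangeF_sound _ _ (checkPointF_eq cert) 183825 25 chkP_183825 i (by omega) (by omega)
                · skip
                  exact allRangeF_sound _ _ (checkPointF_eq cert) 183850 25 chkP_183850 i (by omega) (by omega)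
              · skip
                rcases Nat.lt_or_ge i 183900 with h8 | h8
                · skip
                  exact allRangeF_sound _ _ (checkPointF_eq cert) 183875 25 chkP_183875 i (by omega) (by omega)
                · skip
                  rcases Nat.lt_or_ge i 183925 with h9 | h9
                  · skip
                    exact allRangeF_sound _ _ (checkPointF_eq cert) 183900 25 chkP_183900 i (by omega) (by omega)
                  · skip
                    exact allRangeF_sound _ _ (checkPointF_eq cert) 183925 25 chkP_183925 i (by omega) (by omega)
          · skip
            rcases Nat.lt_or_ge i 184075 with h6 | h6
            · skip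
              rcases Nat.lt_or_ge i 184000 with h7 | h7
              · skip
                rcases Nat.lt_or_ge i 183975 with h8 | h8
                · skip
                  exact allRangeF_sound _ _ (checkPointF_eq cert) 183950 25 chkP_183950 i (by omega) (by omega)
                · skip
                  exact allRangeF_sound _ _ (checkPointF_eq cert) 183975 25 chkP_183975 i (by omega) (by omega)
              · skip
                rcases Nat.lt_or_ge i 184025 with h8 | h8
                · skip
                  exact allRangeF_sound _ _ (checkPointF_eq cert) 184000 25 chkP_184000 i (by omega) (by omega)
                · skip
                  rcases Nat.lt_or_ge i 184050 with h9 | h9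
                  · skip
                    exact allRangeF_sound _ _ (checkPointF_eq cert) 184025 25 chkP_184025 i (by omega) (by omega)
                  · skip
                    exact allRangeF_sound _ _ (checkPointF_eq cert) 184050 25 chkP_184050 i (by omega) (by omega)
            · skip
              rcases Nat.lt_or_ge i 184125 with h7 | h7
              · skip
                rcases Nat.lt_or_ge i 184100 with h8 | h8
                · skip
                  exact allRangeF_sound _ _ (checkPointF_eq cert) 184075 25 chkP_184075 i (by omega) (by omega)
                · skip
                  exact allRangeF_sound _ _ (checkPointF_eq cert) 184100 25 chkP_184100 i (by omega) (by omega)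
              · skip
                rcases Nat.lt_or_ge i 184150 with h8 | h8
                · skip
                  exact allRangeF_sound _ _ (checkPointF_eq cert) 184125 25 chkP_184125 i (by omega) (by omega)
                · skip
                  rcases Nat.lt_or_ge i 184175 with h9 | h9
                  · skip
                    exact allRangeF_sound _ _ (checkPointF_eq cert) 184150 25 chkP_184150 i (by omega) (by omega)
                  · skip
                    exact allRangeF_sound _ _ (checkPointF_eq cert) 184175 25 chkP_184175 i (by omega) (by omega)

end Cfsg.Agent.Lib.Helper28.Fi24Data
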