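import Cfsg.Agent.Lib.Helper28.Fi24Data
import Cfsg.Agent.Lib.Helper28.TCFastB

set_option autoImplicit false
set_option maxRecDepth 1000000
set_option linter.all false
set_option Elab.async false

namespace Cfsg.Agent.Lib.Helper28.Fi24Data

open Cfsg.Agent.Lib.Helper28B

theorem chkP_184200 : allRangeF (checkPointF cert) (nat_lit 184200) (nat_lit 25) = true := by decide +kernel
theorem chkP_184225 : allRangeF (checkPointF cert) (nat_lit 184225) (nat_lit 25) = true := by decide +kernel
theorem chkP_184250 : allRangeF (checkPointF cert) (nat_lit 184250) (nat_lit 25) = true := by decide +kernel
theorem chkP_184275 : allRangeF (checkPointF cert) (nat_lit 184275) (nat_lit 25) = true := by decide +kernel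
theorem chkP_184300 : allRangeF (checkPointF cert) (nat_lit 184300) (nat_lit 25) = true := by decide +kernel
theorem chkP_184325 : allRangeF (checkPointF cert) (nat_lit 184325) (nat_lit 25) = true := by decide +kernel
theorem chkP_184350 : allRangeF (checkPointF cert) (nat_lit 184350) (nat_lit 25) = true := by decide +kernel
theorem chkP_184375 : allRangeF (checkPointF cert) (nat_lit 184375) (nat_lit 25) = true := by decide +kernel
theorem chkP_184400 : allRangeF (checkPointF cert) (nat_lit 184400) (nat_lit 25) = true := by decide +kernel
theorem chkP_184425 : allRangeF (checkPointF cert) (nat_lit 184425) (nat_lit 25) = true := by decide +kernel
theorem chkP_184450 : allRangeF (checkPointF cert) (nat_lit 184450) (nat_lit 25) = true := by decide +kernel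
theorem chkP_184475 : allRangeF (checkPointF cert) (nat_lit 184475) (nat_lit 25) = true := by decide +kernel
theorem chkP_184500 : allRangeF (checkPointF cert) (nat_lit 184500) (nat_lit 25) = true := by decide +kernel
theorem chkP_184525 : allRangeF (checkPointF cert) (nat_lit 184525) (nat_lit 25) = true := by decide +kernel
theorem chkP_184550 : allRangeF (checkPointF cert) (nat_lit 184550) (nat_lit 25) = true := by decide +kernel
theorem chkP_184575 : allRangeF (checkPointF cert) (nat_lit 184575) (nat_lit 25) = true := by decide +kernel
theorem chkP_184600 : allRangeF (checkPointF cert) (nat_lit 184600) (nat_lit 25) = true := by decide +kernel
theorem chkP_184625 : allRangeF (checkPointF cert) (nat_lit 184625) (nat_lit 25) = true := by decide +kernel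
theorem chkP_184650 : allRangeF (checkPointF cert) (nat_lit 184650) (nat_lit 25) = true := by decide +kernel
theorem chkP_184675 : allRangeF (checkPointF cert) (nat_lit 184675) (nat_lit 25) = true := by decide +kernel
theorem chkP_184700 : allRangeF (checkPointF cert) (nat_lit 184700) (nat_lit 25) = true := by decide +kernel
theorem chkP_184725 : allRangeF (checkPointF cert) (nat_lit 184725) (nat_lit 25) = true := by decide +kernel
theorem chkP_184750 : allRangeF (checkPointF cert) (nat_lit 184750) (nat_lit 25) = true := by decide +kernel
theorem chkP_184775 : allRangeF (checkPointF cert) (nat_lit 184775) (nat_lit 25) = true := by decide +kernel
theorem chkP_184800 : allRangeF (checkPointF cert) (nat_lit 184800) (nat_lit 25) = true := by decide +kernel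
theorem chkP_184825 : allRangeF (checkPointF cert) (nat_lit 184825) (nat_lit 25) = true := by decide +kernel
theorem chkP_184850 : allRangeF (checkPointF cert) (nat_lit 184850) (nat_lit 25) = true := by decide +kernel
theorem chkP_184875 : allRangeF (checkPointF cert) (nat_lit 184875) (nat_lit 25) = true := by decide +kernel
theorem chkP_184900 : allRangeF (checkPointF cert) (nat_lit 184900) (nat_lit 25) = true := by decide +kernel
theorem chkP_184925 : allRangeF (checkPointF cert) (nat_lit 184925) (nat_lit 25) = true := by decide +kernel
theorem chkP_184950 : allRangeF (checkPointF cert) (nat_lit 184950) (nat_lit 25) = true := by decide +kernel
theorem chkP_184975 : allRangeF (checkPointF cert) (nat_lit 184975) (nat_lit 25) = true := by decide +kernel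
theorem chkP_185000 : allRangeF (checkPointF cert) (nat_lit 185000) (nat_lit 25) = true := by decide +kernel
theorem chkP_185025 : allRangeF (checkPointF cert) (nat_lit 185025) (nat_lit 25) = true := by decide +kernel
theorem chkP_185050 : allRangeF (checkPointF cert) (nat_lit 185050) (nat_lit 25) = true := by decide +kernel
theorem chkP_185075 : allRangeF (checkPointF cert) (nat_lit 185075) (nat_lit 25) = true := by decide +kernel
theorem chkP_185100 : allRangeF (checkPointF cert) (nat_lit 185100) (nat_lit 25) = true := by decide +kernel
theorem chkP_185125 : allRangeF (checkPointF cert) (nat_lit 185125) (nat_lit 25) = true := by decide +kernel
theorem chkP_185150 : allRangeF (checkPointF cert) (nat_lit 185150) (nat_lit 25) = true := by decide +kernel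
theorem chkP_185175 : allRangeF (checkPointF cert) (nat_lit 185175) (nat_lit 25) = true := by decide +kernel
theorem chkP_185200 : allRangeF (checkPointF cert) (nat_lit 185200) (nat_lit 25) = true := by decide +kernel
theorem chkP_185225 : allRangeF (checkPointF cert) (nat_lit 185225) (nat_lit 25) = true := by decide +kernel
theorem chkP_185250 : allRangeF (checkPointF cert) (nat_lit 185250) (nat_lit 25) = true := by decide +kernel
theorem chkP_185275 : allRangeF (checkPointF cert) (nat_lit 185275) (nat_lit 25) = true := by decide +kernel
theorem chkP_185300 : allRangeF (checkPointF cert) (nat_lit 185300) (nat_lit 25) = true := by decide +kernel
theorem chkP_185325 : allRangeF (checkPointF cert) (nat_lit 185325) (nat_lit 25) = true := by decide +kernel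
theorem chkP_185350 : allRangeF (checkPointF cert) (nat_lit 185350) (nat_lit 25) = true := by decide +kernel
theorem chkP_185375 : allRangeF (checkPointF cert) (nat_lit 185375) (nat_lit 25) = true := by decide +kernel
theorem chkP_185400 : allRangeF (checkPointF cert) (nat_lit 185400) (nat_lit 25) = true := by decide +kernel
theorem chkP_185425 : allRangeF (checkPointF cert) (nat_lit 185425) (nat_lit 25) = true := by decide +kernel
theorem chkP_185450 : allRangeF (checkPointF cert) (nat_lit 185450) (nat_lit 25) = true := by decide +kernel
theorem chkP_185475 : allRangeF (checkPointF cert) (nat_lit 185475) (nat_lit 25) = true := by decide +kernel
theorem chkP_185500 : allRangeF (checkPointF cert) (nat_lit 185500) (nat_lit 25) = true := by decide +kernel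
theorem chkP_185525 : allRangeF (checkPointF cert) (nat_lit 185525) (nat_lit 25) = true := by decide +kernel
theorem chkP_185550 : allRangeF (checkPointF cert) (nat_lit 185550) (nat_lit 25) = true := by decide +kernel
theorem chkP_185575 : allRangeF (checkPointF cert) (nat_lit 185575) (nat_lit 25) = true := by decide +kernel
theorem chkP_185600 : allRangeF (checkPointF cert) (nat_lit 185600) (nat_lit 25) = true := by decide +kernel
theorem chkP_185625 : allRangeF (checkPointF cert) (nat_lit 185625) (nat_lit 25) = true := by decide +kernel
theorem chkP_185650 : allRangeF (checkPointF cert) (nat_lit 185650) (nat_lit 25) = true := by decide +kernel
theorem chkP_185675 : allRangeF (checkPointF cert) (nat_lit 185675) (nat_lit 25) = true := by decide +kernel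
theorem chkP_185700 : allRangeF (checkPointF cert) (nat_lit 185700) (nat_lit 25) = true := by decide +kernel
theorem chkP_185725 : allRangeF (checkPointF cert) (nat_lit 185725) (nat_lit 25) = true := by decide +kernel
theorem chkP_185750 : allRangeF (checkPointF cert) (nat_lit 185750) (nat_lit 25) = true := by decide +kernel
theorem chkP_185775 : allRangeF (checkPointF cert) (nat_lit 185775) (nat_lit 25) = true := by decide +kernel
theorem chkP_185800 : allRangeF (checkPointF cert) (nat_lit 185800) (nat_lit 25) = true := by decide +kernel
theorem chkP_185825 : allRangeF (checkPointF cert) (nat_lit 185825) (nat_lit 25) = true := by decide +kernel
theorem chkP_185850 : allRangeF (checkPointF cert) (nat_lit 185850) (nat_lit 25) = true := by decide +kernel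
theorem chkP_185875 : allRangeF (checkPointF cert) (nat_lit 185875) (nat_lit 25) = true := by decide +kernel
theorem chkP_185900 : allRangeF (checkPointF cert) (nat_lit 185900) (nat_lit 25) = true := by decide +kernel
theorem chkP_185925 : allRangeF (checkPointF cert) (nat_lit 185925) (nat_lit 25) = true := by decide +kernel
theorem chkP_185950 : allRangeF (checkPointF cert) (nat_lit 185950) (nat_lit 25) = true := by decide +kernel
theorem chkP_185975 : allRangeF (checkPointF cert) (nat_lit 185975) (nat_lit 25) = true := by decide +kernel
theorem chkP_186000 : allRangeF (checkPointF cert) (nat_lit 186000) (nat_lit 25) = true := by decide +kernel
theorem chkP_186025 : allRangeF (checkPointF cert) (nat_lit 186025) (nat_lit 25) = true := by decide +kernel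
theorem chkP_186050 : allRangeF (checkPointF cert) (nat_lit 186050) (nat_lit 25) = true := by decide +kernel
theorem chkP_186075 : allRangeF (checkPointF cert) (nat_lit 186075) (nat_lit 25) = true := by decide +kernel
theorem chkP_186100 : allRangeF (checkPointF cert) (nat_lit 186100) (nat_lit 25) = true := by decide +kernel
theorem chkP_186125 : allRangeF (checkPointF cert) (nat_lit 186125) (nat_lit 25) = true := by decide +kernel
theorem chkP_186150 : allRangeF (checkPointF cert) (nat_lit 186150) (nat_lit 25) = true := by decide +kernel
theorem chkP_186175 : allRangeF (checkPointF cert) (nat_lit 186175) (nat_lit 25) = true := by decide +kernel
theorem chkP_186200 : allRangeF (checkPointF cert) (nat_lit 186200) (nat_lit 25) = true := by decide +kernel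
theorem chkP_186225 : allRangeF (checkPointF cert) (nat_lit 186225) (nat_lit 25) = true := by decide +kernel
theorem chkP_186250 : allRangeF (checkPointF cert) (nat_lit 186250) (nat_lit 25) = true := by decide +kernel
theorem chkP_186275 : allRangeF (checkPointF cert) (nat_lit 186275) (nat_lit 25) = true := by decide +kernel
theorem chkP_186300 : allRangeF (checkPointF cert) (nat_lit 186300) (nat_lit 25) = true := by decide +kernel
theorem chkP_186325 : allRangeF (checkPointF cert) (nat_lit 186325) (nat_lit 25) = true := by decide +kernel
theorem chkP_186350 : allRangeF (checkPointF cert) (nat_lit 186350) (nat_lit 25) = true := by decide +kernel
theorem chkP_186375 : allRangeF (checkPointF cert) (nat_lit 186375) (nat_lit 25) = true := by decide +kernel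
theorem chkP_186400 : allRangeF (checkPointF cert) (nat_lit 186400) (nat_lit 25) = true := by decide +kernel
theorem chkP_186425 : allRangeF (checkPointF cert) (nat_lit 186425) (nat_lit 25) = true := by decide +kernel
theorem chkP_186450 : allRangeF (checkPointF cert) (nat_lit 186450) (nat_lit 25) = true := by decide +kernel
theorem chkP_186475 : allRangeF (checkPointF cert) (nat_lit 186475) (nat_lit 25) = true := by decide +kernel
theorem chkP_186500 : allRangeF (checkPointF cert) (nat_lit 186500) (nat_lit 25) = true := by decide +kernel
theorem chkP_186525 : allRangeF (checkPointF cert) (nat_lit 186525) (nat_lit 25) = true := by decide +kernel
theorem chkP_186550 : allRangeF (checkPointF cert) (nat_lit 186550) (nat_lit 25) = true := by decide +kernel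
theorem chkP_186575 : allRangeF (checkPointF cert) (nat_lit 186575) (nat_lit 25) = true := by decide +kernel
theorem chkP_186600 : allRangeF (checkPointF cert) (nat_lit 186600) (nat_lit 25) = true := by decide +kernel
theorem chkP_186625 : allRangeF (checkPointF cert) (nat_lit 186625) (nat_lit 25) = true := by decide +kernel
theorem chkP_186650 : allRangeF (checkPointF cert) (nat_lit 186650) (nat_lit 25) = true := by decide +kernel
theorem chkP_186675 : allRangeF (checkPointF cert) (nat_lit 186675) (nat_lit 25) = true := by decide +kernel
theorem chkP_186700 : allRangeF (checkPointF cert) (nat_lit 186700) (nat_lit 25) = true := by decide +kernel
theorem chkP_186725 : allRangeF (checkPointF cert) (nat_lit 186725) (nat_lit 25) = true := by decide +kernel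
theorem chkP_186750 : allRangeF (checkPointF cert) (nat_lit 186750) (nat_lit 25) = true := by decide +kernel
theorem chkP_186775 : allRangeF (checkPointF cert) (nat_lit 186775) (nat_lit 25) = true := by decide +kernel
theorem chkP_186800 : allRangeF (checkPointF cert) (nat_lit 186800) (nat_lit 25) = true := by decide +kernel
theorem chkP_186825 : allRangeF (checkPointF cert) (nat_lit 186825) (nat_lit 25) = true := by decide +kernel
theorem chkP_186850 : allRangeF (checkPointF cert) (nat_lit 186850) (nat_lit 25) = true := by decide +kernel
theorem chkP_186875 : allRangeF (checkPointF cert) (nat_lit 186875) (nat_lit 25) = true := by decide +kernel
theorem chkP_186900 : allRangeF (checkPointF cert) (nat_lit 186900) (nat_lit 25) = true := by decide +kernel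
theorem chkP_186925 : allRangeF (checkPointF cert) (nat_lit 186925) (nat_lit 25) = true := by decide +kernel
theorem chkP_186950 : allRangeF (checkPointF cert) (nat_lit 186950) (nat_lit 25) = true := by decide +kernel
theorem chkP_186975 : allRangeF (checkPointF cert) (nat_lit 186975) (nat_lit 25) = true := by decide +kernel
theorem chkP_187000 : allRangeF (checkPointF cert) (nat_lit 187000) (nat_lit 25) = true := by decide +kernel
theorem chkP_187025 : allRangeF (checkPointF cert) (nat_lit 187025) (nat_lit 25) = true := by decide +kernel
theorem chkP_187050 : allRangeF (checkPointF cert) (nat_lit 187050) (nat_lit 25) = true := by decide +kernel
theorem chkP_187075 : allRangeF (checkPointF cert) (nat_lit 187075) (nat_lit 25) = true := by decide +kernel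
theorem chkP_187100 : allRangeF (checkPointF cert) (nat_lit 187100) (nat_lit 25) = true := by decide +kernel
theorem chkP_187125 : allRangeF (checkPointF cert) (nat_lit 187125) (nat_lit 25) = true := by decide +kernel
theorem chkP_187150 : allRangeF (checkPointF cert) (nat_lit 187150) (nat_lit 25) = true := by decide +kernel
theorem chkP_187175 : allRangeF (checkPointF cert) (nat_lit 187175) (nat_lit 25) = true := by decide +kernel
theorem chkP_187200 : allRangeF (checkPointF cert) (nat_lit 187200) (nat_lit 25) = true := by decide +kernel
theorem chkP_187225 : allRangeF (checkPointF cert) (nat_lit 187225) (nat_lit 25) = true := by decide +kernel
theorem chkP_187250 : allRangeF (checkPointF cert) (nat_lit 187250) (nat_lit 25) = true := by decide +kernel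
theorem chkP_187275 : allRangeF (checkPointF cert) (nat_lit 187275) (nat_lit 25) = true := by decide +kernel
theorem chkP_187300 : allRangeF (checkPointF cert) (nat_lit 187300) (nat_lit 25) = true := by decide +kernel
theorem chkP_187325 : allRangeF (checkPointF cert) (nat_lit 187325) (nat_lit 25) = true := by decide +kernel
theorem chkP_187350 : allRangeF (checkPointF cert) (nat_lit 187350) (nat_lit 25) = true := by decide +kernel
theorem chkP_187375 : allRangeF (checkPointF cert) (nat_lit 187375) (nat_lit 25) = true := by decide +kernel
theorem chkP_187400 : allRangeF (checkPointF cert) (nat_lit 187400) (nat_lit 25) = true := by decide +kernel
theorem chkP_187425 : allRangeF (checkPointF cert) (nat_lit 187425) (nat_lit 25) = true := by decide +kernel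
theorem chkP_187450 : allRangeF (checkPointF cert) (nat_lit 187450) (nat_lit 25) = true := by decide +kernel
theorem chkP_187475 : allRangeF (checkPointF cert) (nat_lit 187475) (nat_lit 25) = true := by decide +kernel
theorem chkP_187500 : allRangeF (checkPointF cert) (nat_lit 187500) (nat_lit 25) = true := by decide +kernel
theorem chkP_187525 : allRangeF (checkPointF cert) (nat_lit 187525) (nat_lit 25) = true := by decide +kernel
theorem chkP_187550 : allRangeF (checkPointF cert) (nat_lit 187550) (nat_lit 25) = true := by decide +kernel
theorem chkP_187575 : allRangeF (checkPointF cert) (nat_lit 187575) (nat_lit 25) = true := by decide +kernel
theorem chkP_187600 : allRangeF (checkPointF cert) (nat_lit 187600) (nat_lit 25) = true := by decide +kernel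
theorem chkP_187625 : allRangeF (checkPointF cert) (nat_lit 187625) (nat_lit 25) = true := by decide +kernel
theorem chkP_187650 : allRangeF (checkPointF cert) (nat_lit 187650) (nat_lit 25) = true := by decide +kernel
theorem chkP_187675 : allRangeF (checkPointF cert) (nat_lit 187675) (nat_lit 25) = true := by decide +kernel
theorem chkP_187700 : allRangeF (checkPointF cert) (nat_lit 187700) (nat_lit 25) = true := by decide +kernel
theorem chkP_187725 : allRangeF (checkPointF cert) (nat_lit 187725) (nat_lit 25) = true := by decide +kernel
theorem chkP_187750 : allRangeF (checkPointF cert) (nat_lit 187750) (nat_lit 25) = true := by decide +kernel
theorem chkP_187775 : allRangeF (checkPointF cert) (nat_lit 187775) (nat_lit 25) = true := by decide +kernel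
theorem chkP_187800 : allRangeF (checkPointF cert) (nat_lit 187800) (nat_lit 25) = true := by decide +kernel
theorem chkP_187825 : allRangeF (checkPointF cert) (nat_lit 187825) (nat_lit 25) = true := by decide +kernel
theorem chkP_187850 : allRangeF (checkPointF cert) (nat_lit 187850) (nat_lit 25) = true := by decide +kernel
theorem chkP_187875 : allRangeF (checkPointF cert) (nat_lit 187875) (nat_lit 25) = true := by decide +kernel
theorem chkP_187900 : allRangeF (checkPointF cert) (nat_lit 187900) (nat_lit 25) = true := by decide +kernel
theorem chkP_187925 : allRangeF (checkPointF cert) (nat_lit 187925) (nat_lit 25) = true := by decide +kernel
theorem chkP_187950 : allRangeF (checkPointF cert) (nat_lit 187950) (nat_lit 25) = true := by decide +kernel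
theorem chkP_187975 : allRangeF (checkPointF cert) (nat_lit 187975) (nat_lit 25) = true := by decide +kernel
theorem chkP_188000 : allRangeF (checkPointF cert) (nat_lit 188000) (nat_lit 25) = true := by decide +kernel
theorem chkP_188025 : allRangeF (checkPointF cert) (nat_lit 188025) (nat_lit 25) = true := by decide +kernel
theorem chkP_188050 : allRangeF (checkPointF cert) (nat_lit 188050) (nat_lit 25) = true := by decide +kernel
theorem chkP_188075 : allRangeF (checkPointF cert) (nat_lit 188075) (nat_lit 25) = true := by decide +kernel
theorem chkP_188100 : allRangeF (checkPointF cert) (nat_lit 188100) (nat_lit 25) = true := by decide +kernel
theorem chkP_188125 : allRangeF (checkPointF cert) (nat_lit 188125) (nat_lit 25) = true := by decide +kernel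
theorem chkP_188150 : allRangeF (checkPointF cert) (nat_lit 188150) (nat_lit 25) = true := by decide +kernel
theorem chkP_188175 : allRangeF (checkPointF cert) (nat_lit 188175) (nat_lit 25) = true := by decide +kernel
theorem chkP_188200 : allRangeF (checkPointF cert) (nat_lit 188200) (nat_lit 25) = true := by decide +kernel
theorem chkP_188225 : allRangeF (checkPointF cert) (nat_lit 188225) (nat_lit 25) = true := by decide +kernel
theorem chkP_188250 : allRangeF (checkPointF cert) (nat_lit 188250) (nat_lit 25) = true := by decide +kernel
theorem chkP_188275 : allRangeF (checkPointF cert) (nat_lit 188275) (nat_lit 25) = true := by decide +kernel
theorem chkP_188300 : allRangeF (checkPointF cert) (nat_lit 188300) (nat_lit 25) = true := by decide +kernel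
theorem chkP_188325 : allRangeF (checkPointF cert) (nat_lit 188325) (nat_lit 25) = true := by decide +kernel
theorem chkP_188350 : allRangeF (checkPointF cert) (nat_lit 188350) (nat_lit 25) = true := by decide +kernel
theorem chkP_188375 : allRangeF (checkPointF cert) (nat_lit 188375) (nat_lit 25) = true := by decide +kernel
theorem chkP_188400 : allRangeF (checkPointF cert) (nat_lit 188400) (nat_lit 25) = true := by decide +kernel
theorem chkP_188425 : allRangeF (checkPointF cert) (nat_lit 188425) (nat_lit 25) = true := by decide +kernel
theorem chkP_188450 : allRangeF (checkPointF cert) (nat_lit 188450) (nat_lit 25) = true := by decide +kernel
theorem chkP_188475 : allRangeF (checkPointF cert) (nat_lit 188475) (nat_lit 25) = true := by decide +kernel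
theorem chkP_188500 : allRangeF (checkPointF cert) (nat_lit 188500) (nat_lit 25) = true := by decide +kernel
theorem chkP_188525 : allRangeF (checkPointF cert) (nat_lit 188525) (nat_lit 25) = true := by decide +kernel
theorem chkP_188550 : allRangeF (checkPointF cert) (nat_lit 188550) (nat_lit 25) = true := by decide +kernel
theorem chkP_188575 : allRangeF (checkPointF cert) (nat_lit 188575) (nat_lit 25) = true := by decide +kernel
theorem chkP_188600 : allRangeF (checkPointF cert) (nat_lit 188600) (nat_lit 25) = true := by decide +kernel
theorem chkP_188625 : allRangeF (checkPointF cert) (nat_lit 188625) (nat_lit 25) = true := by decide +kernel
theorem chkP_188650 : allRangeF (checkPointF cert) (nat_lit 188650) (nat_lit 25) = true := by decide +kernel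
theorem chkP_188675 : allRangeF (checkPointF cert) (nat_lit 188675) (nat_lit 25) = true := by decide +kernel
theorem chkP_188700 : allRangeF (checkPointF cert) (nat_lit 188700) (nat_lit 25) = true := by decide +kernel
theorem chkP_188725 : allRangeF (checkPointF cert) (nat_lit 188725) (nat_lit 25) = true := by decide +kernel
theorem chkP_188750 : allRangeF (checkPointF cert) (nat_lit 188750) (nat_lit 25) = true := by decide +kernel
theorem chkP_188775 : allRangeF (checkPointF cert) (nat_lit 188775) (nat_lit 25) = true := by decide +kernel
theorem chkP_188800 : allRangeF (checkPointF cert) (nat_lit 188800) (nat_lit 25) = true := by decide +kernel
theorem chkP_188825 : allRangeF (checkPointF cert) (nat_lit 188825) (nat_lit 25) = true := by decide +kernel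
theorem chkP_188850 : allRangeF (checkPointF cert) (nat_lit 188850) (nat_lit 25) = true := by decide +kernel
theorem chkP_188875 : allRangeF (checkPointF cert) (nat_lit 188875) (nat_lit 25) = true := by decide +kernel
theorem chkP_188900 : allRangeF (checkPointF cert) (nat_lit 188900) (nat_lit 25) = true := by decide +kernel
theorem chkP_188925 : allRangeF (checkPointF cert) (nat_lit 188925) (nat_lit 25) = true := by decide +kernel
theorem chkP_188950 : allRangeF (checkPointF cert) (nat_lit 188950) (nat_lit 25) = true := by decide +kernel
theorem chkP_188975 : allRangeF (checkPointF cert) (nat_lit 188975) (nat_lit 25) = true := by decide +kernel
theorem chkP_189000 : allRangeF (checkPointF cert) (nat_lit 189000) (nat_lit 25) = true := by decide +kernel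
theorem chkP_189025 : allRangeF (checkPointF cert) (nat_lit 189025) (nat_lit 25) = true := by decide +kernel
theorem chkP_189050 : allRangeF (checkPointF cert) (nat_lit 189050) (nat_lit 25) = true := by decide +kernel
theorem chkP_189075 : allRangeF (checkPointF cert) (nat_lit 189075) (nat_lit 25) = true := by decide +kernel
theorem chkP_189100 : allRangeF (checkPointF cert) (nat_lit 189100) (nat_lit 25) = true := by decide +kernel
theorem chkP_189125 : allRangeF (checkPointF cert) (nat_lit 189125) (nat_lit 25) = true := by decide +kernel
theorem chkP_189150 : allRangeF (checkPointF cert) (nat_lit 189150) (nat_lit 25) = true := by decide +kernel
theorem chkP_189175 : allRangeF (checkPointF cert) (nat_lit 189175) (nat_lit 25) = true := by decide +kernel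
theorem chkP_189200 : allRangeF (checkPointF cert) (nat_lit 189200) (nat_lit 25) = true := by decide +kernel
theorem chkP_189225 : allRangeF (checkPointF cert) (nat_lit 189225) (nat_lit 25) = true := by decide +kernel
theorem chkP_189250 : allRangeF (checkPointF cert) (nat_lit 189250) (nat_lit 25) = true := by decide +kernel
theorem chkP_189275 : allRangeF (checkPointF cert) (nat_lit 189275) (nat_lit 25) = true := by decide +kernel
theorem chkP_189300 : allRangeF (checkPointF cert) (nat_lit 189300) (nat_lit 25) = true := by decide +kernel
theorem chkP_189325 : allRangeF (checkPointF cert) (nat_lit 189325) (nat_lit 25) = true := by decide +kernel
theorem chkP_189350 : allRangeF (checkPointF cert) (nat_lit 189350) (nat_lit 25) = true := by decide +kernel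
theorem chkP_189375 : allRangeF (checkPointF cert) (nat_lit 189375) (nat_lit 25) = true := by decide +kernel
theorem chkP_189400 : allRangeF (checkPointF cert) (nat_lit 189400) (nat_lit 25) = true := by decide +kernel
theorem chkP_189425 : allRangeF (checkPointF cert) (nat_lit 189425) (nat_lit 25) = true := by decide +kernel
theorem chkP_189450 : allRangeF (checkPointF cert) (nat_lit 189450) (nat_lit 25) = true := by decide +kernel
theorem chkP_189475 : allRangeF (checkPointF cert) (nat_lit 189475) (nat_lit 25) = true := by decide +kernel
theorem chkP_189500 : allRangeF (checkPointF cert) (nat_lit 189500) (nat_lit 25) = true := by decide +kernel
theorem chkP_189525 : allRangeF (checkPointF cert) (nat_lit 189525) (nat_lit 25) = true := by decide +kernel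
theorem chkP_189550 : allRangeF (checkPointF cert) (nat_lit 189550) (nat_lit 25) = true := by decide +kernel
theorem chkP_189575 : allRangeF (checkPointF cert) (nat_lit 189575) (nat_lit 25) = true := by decide +kernel
theorem chkP_189600 : allRangeF (checkPointF cert) (nat_lit 189600) (nat_lit 25) = true := by decide +kernel
theorem chkP_189625 : allRangeF (checkPointF cert) (nat_lit 189625) (nat_lit 25) = true := by decide +kernel
theorem chkP_189650 : allRangeF (checkPointF cert) (nat_lit 189650) (nat_lit 25) = true := by decide +kernel
theorem chkP_189675 : allRangeF (checkPointF cert) (nat_lit 189675) (nat_lit 25) = true := by decide +kernel
theorem chkP_189700 : allRangeF (checkPointF cert) (nat_lit 189700) (nat_lit 25) = true := by decide +kernel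
theorem chkP_189725 : allRangeF (checkPointF cert) (nat_lit 189725) (nat_lit 25) = true := by decide +kernel
theorem chkP_189750 : allRangeF (checkPointF cert) (nat_lit 189750) (nat_lit 25) = true := by decide +kernel
theorem chkP_189775 : allRangeF (checkPointF cert) (nat_lit 189775) (nat_lit 25) = true := by decide +kernel
theorem chkP_189800 : allRangeF (checkPointF cert) (nat_lit 189800) (nat_lit 25) = true := by decide +kernel
theorem chkP_189825 : allRangeF (checkPointF cert) (nat_lit 189825) (nat_lit 25) = true := by decide +kernel
theorem chkP_189850 : allRangeF (checkPointF cert) (nat_lit 189850) (nat_lit 25) = true := by decide +kernel
theorem chkP_189875 : allRangeF (checkPointF cert) (nat_lit 189875) (nat_lit 25) = true := by decide +kernel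
theorem chkP_189900 : allRangeF (checkPointF cert) (nat_lit 189900) (nat_lit 25) = true := by decide +kernel
theorem chkP_189925 : allRangeF (checkPointF cert) (nat_lit 189925) (nat_lit 25) = true := by decide +kernel
theorem chkP_189950 : allRangeF (checkPointF cert) (nat_lit 189950) (nat_lit 25) = true := by decide +kernel
theorem chkP_189975 : allRangeF (checkPointF cert) (nat_lit 189975) (nat_lit 25) = true := by decide +kernel
theorem chkP_190000 : allRangeF (checkPointF cert) (nat_lit 190000) (nat_lit 25) = true := by decide +kernel
theorem chkP_190025 : allRangeF (checkPointF cert) (nat_lit 190025) (nat_lit 25) = true := by decide +kernel
theorem chkP_190050 : allRangeF (checkPointF cert) (nat_lit 190050) (nat_lit 25) = true := by decide +kernel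
theorem chkP_190075 : allRangeF (checkPointF cert) (nat_lit 190075) (nat_lit 25) = true := by decide +kernel
theorem chkP_190100 : allRangeF (checkPointF cert) (nat_lit 190100) (nat_lit 25) = true := by decide +kernel
theorem chkP_190125 : allRangeF (checkPointF cert) (nat_lit 190125) (nat_lit 25) = true := by decide +kernel
theorem chkP_190150 : allRangeF (checkPointF cert) (nat_lit 190150) (nat_lit 25) = true := by decide +kernel
theorem chkP_190175 : allRangeF (checkPointF cert) (nat_lit 190175) (nat_lit 25) = true := by decide +kernel
theorem chkP_190200 : allRangeF (checkPointF cert) (nat_lit 190200) (nat_lit 25) = true := by decide +kernel
theorem chkP_190225 : allRangeF (checkPointF cert) (nat_lit 190225) (nat_lit 25) = true := by decide +kernel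
theorem chkP_190250 : allRangeF (checkPointF cert) (nat_lit 190250) (nat_lit 25) = true := by decide +kernel
theorem chkP_190275 : allRangeF (checkPointF cert) (nat_lit 190275) (nat_lit 25) = true := by decide +kernel
theorem chkP_190300 : allRangeF (checkPointF cert) (nat_lit 190300) (nat_lit 25) = true := by decide +kernel
theorem chkP_190325 : allRangeF (checkPointF cert) (nat_lit 190325) (nat_lit 25) = true := by decide +kernel
theorem chkP_190350 : allRangeF (checkPointF cert) (nat_lit 190350) (nat_lit 25) = true := by decide +kernel
theorem chkP_190375 : allRangeF (checkPointF cert) (nat_lit 190375) (nat_lit 25) = true := by decide +kernel
theorem chkP_190400 : allRangeF (checkPointF cert) (nat_lit 190400) (nat_lit 25) = true := by decide +kernel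
theorem chkP_190425 : allRangeF (checkPointF cert) (nat_lit 190425) (nat_lit 25) = true := by decide +kernel
theorem chkP_190450 : allRangeF (checkPointF cert) (nat_lit 190450) (nat_lit 25) = true := by decide +kernel
theorem chkP_190475 : allRangeF (checkPointF cert) (nat_lit 190475) (nat_lit 25) = true := by decide +kernel
theorem chkP_190500 : allRangeF (checkPointF cert) (nat_lit 190500) (nat_lit 25) = true := by decide +kernel
theorem chkP_190525 : allRangeF (checkPointF cert) (nat_lit 190525) (nat_lit 25) = true := by decide +kernel
theorem chkP_190550 : allRangeF (checkPointF cert) (nat_lit 190550) (nat_lit 25) = true := by decide +kernel
theorem chkP_190575 : allRangeF (checkPointF cert) (nat_lit 190575) (nat_lit 25) = true := by decide +kernel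
theorem chkP_190600 : allRangeF (checkPointF cert) (nat_lit 190600) (nat_lit 25) = true := by decide +kernel
theorem chkP_190625 : allRangeF (checkPointF cert) (nat_lit 190625) (nat_lit 25) = true := by decide +kernel
theorem chkP_190650 : allRangeF (checkPointF cert) (nat_lit 190650) (nat_lit 25) = true := by decide +kernel
theorem chkP_190675 : allRangeF (checkPointF cert) (nat_lit 190675) (nat_lit 25) = true := by decide +kernel
theorem chkP_190700 : allRangeF (checkPointF cert) (nat_lit 190700) (nat_lit 25) = true := by decide +kernel
theorem chkP_190725 : allRangeF (checkPointF cert) (nat_lit 190725) (nat_lit 25) = true := by decide +kernel
theorem chkP_190750 : allRangeF (checkPointF cert) (nat_lit 190750) (nat_lit 25) = true := by decide +kernel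
theorem chkP_190775 : allRangeF (checkPointF cert) (nat_lit 190775) (nat_lit 25) = true := by decide +kernel
theorem chkP_190800 : allRangeF (checkPointF cert) (nat_lit 190800) (nat_lit 25) = true := by decide +kernel
theorem chkP_190825 : allRangeF (checkPointF cert) (nat_lit 190825) (nat_lit 25) = true := by decide +kernel
theorem chkP_190850 : allRangeF (checkPointF cert) (nat_lit 190850) (nat_lit 25) = true := by decide +kernel
theorem chkP_190875 : allRangeF (checkPointF cert) (nat_lit 190875) (nat_lit 25) = true := by decide +kernel
theorem chkP_190900 : allRangeF (checkPointF cert) (nat_lit 190900) (nat_lit 25) = true := by decide +kernel
theorem chkP_190925 : allRangeF (checkPointF cert) (nat_lit 190925) (nat_lit 25) = true := by decide +kernel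
theorem chkP_190950 : allRangeF (checkPointF cert) (nat_lit 190950) (nat_lit 25) = true := by decide +kernel
theorem chkP_190975 : allRangeF (checkPointF cert) (nat_lit 190975) (nat_lit 25) = true := by decide +kernel
theorem chkP_191000 : allRangeF (checkPointF cert) (nat_lit 191000) (nat_lit 25) = true := by decide +kernel
theorem chkP_191025 : allRangeF (checkPointF cert) (nat_lit 191025) (nat_lit 25) = true := by decide +kernel
theorem chkP_191050 : allRangeF (checkPointF cert) (nat_lit 191050) (nat_lit 25) = true := by decide +kernel
theorem chkP_191075 : allRangeF (checkPointF cert) (nat_lit 191075) (nat_lit 25) = true := by decide +kernel
theorem chkP_191100 : allRangeF (checkPointF cert) (nat_lit 191100) (nat_lit 25) = true := by decide +kernel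
theorem chkP_191125 : allRangeF (checkPointF cert) (nat_lit 191125) (nat_lit 25) = true := by decide +kernel
theorem chkP_191150 : allRangeF (checkPointF cert) (nat_lit 191150) (nat_lit 25) = true := by decide +kernel
theorem chkP_191175 : allRangeF (checkPointF cert) (nat_lit 191175) (nat_lit 25) = true := by decide +kernel
theorem chkP_191200 : allRangeF (checkPointF cert) (nat_lit 191200) (nat_lit 25) = true := by decide +kernel
theorem chkP_191225 : allRangeF (checkPointF cert) (nat_lit 191225) (nat_lit 25) = true := by decide +kernel
theorem chkP_191250 : allRangeF (checkPointF cert) (nat_lit 191250) (nat_lit 25) = true := by decide +kernel
theorem chkP_191275 : allRangeF (checkPointF cert) (nat_lit 191275) (nat_lit 25) = true := by decide +kernel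
theorem chkP_191300 : allRangeF (checkPointF cert) (nat_lit 191300) (nat_lit 25) = true := by decide +kernel
theorem chkP_191325 : allRangeF (checkPointF cert) (nat_lit 191325) (nat_lit 25) = true := by decide +kernel
theorem chkP_191350 : allRangeF (checkPointF cert) (nat_lit 191350) (nat_lit 25) = true := by decide +kernel
theorem chkP_191375 : allRangeF (checkPointF cert) (nat_lit 191375) (nat_lit 25) = true := by decide +kernel
theorem chkP_191400 : allRangeF (checkPointF cert) (nat_lit 191400) (nat_lit 25) = true := by decide +kernel
theorem chkP_191425 : allRangeF (checkPointF cert) (nat_lit 191425) (nat_lit 25) = true := by decide +kernel
theorem chkP_191450 : allRangeF (checkPointF cert) (nat_lit 191450) (nat_lit 25) = true := by decide +kernel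
theorem chkP_191475 : allRangeF (checkPointF cert) (nat_lit 191475) (nat_lit 25) = true := by decide +kernel
theorem chkP_191500 : allRangeF (checkPointF cert) (nat_lit 191500) (nat_lit 25) = true := by decide +kernel
theorem chkP_191525 : allRangeF (checkPointF cert) (nat_lit 191525) (nat_lit 25) = true := by decide +kernel
theorem chkP_191550 : allRangeF (checkPointF cert) (nat_lit 191550) (nat_lit 25) = true := by decide +kernel
theorem chkP_191575 : allRangeF (checkPointF cert) (nat_lit 191575) (nat_lit 25) = true := by decide +kernel
theorem chkP_191600 : allRangeF (checkPointF cert) (nat_lit 191600) (nat_lit 25) = true := by decide +kernel
theorem chkP_191625 : allRangeF (checkPointF cert) (nat_lit 191625) (nat_lit 25) = true := by decide +kernel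
theorem chkP_191650 : allRangeF (checkPointF cert) (nat_lit 191650) (nat_lit 25) = true := by decide +kernel
theorem chkP_191675 : allRangeF (checkPointF cert) (nat_lit 191675) (nat_lit 25) = true := by decide +kernel
theorem chkP_191700 : allRangeF (checkPointF cert) (nat_lit 191700) (nat_lit 25) = true := by decide +kernel
theorem chkP_191725 : allRangeF (checkPointF cert) (nat_lit 191725) (nat_lit 25) = true := by decide +kernel
theorem chkP_191750 : allRangeF (checkPointF cert) (nat_lit 191750) (nat_lit 25) = true := by decide +kernel
theorem chkP_191775 : allRangeF (checkPointF cert) (nat_lit 191775) (nat_lit 25) = true := by decide +kernel
theorem chkP_191800 : allRangeF (checkPointF cert) (nat_lit 191800) (nat_lit 25) = true := by decide +kernel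
theorem chkP_191825 : allRangeF (checkPointF cert) (nat_lit 191825) (nat_lit 25) = true := by decide +kernel
theorem chkP_191850 : allRangeF (checkPointF cert) (nat_lit 191850) (nat_lit 25) = true := by decide +kernel

theorem ptsRange_24 : ∀ i, 184200 ≤ i → i < 191875 → checkPoint cert i = true := by
  intro i hlo hhi
  rcases Nat.lt_or_ge i 188025 with h1 | h1
  · skip
    rcases Nat.lt_or_ge i 186100 with h2 | h2
    · skip
      rcases Nat.lt_or_ge i 185150 with h3 | h3
      · skip
        rcases Nat.lt_or_ge i 184675 with h4 | h4
        · skip
          rcases Nat.lt_or_ge i 184425 with h5 | h5
          · skip
            rcases Nat.lt_or_ge i 184300 with h6 | h6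
            · skip
              rcases Nat.lt_or_ge i 184250 with h7 | h7
              · skip
                rcases Nat.lt_or_ge i 184225 with h8 | h8
                · skip
                  exact allRangeF_sound _ _ (checkPointF_eq cert) 184200 25 chkP_184200 i (by omega) (by omega)
                · skip
                  exact allRangeF_sound _ _ (checkPointF_eq cert) 184225 25 chkP_184225 i (by omega) (by omega)
              · skip
                rcases Nat.lt_or_ge i 184275 with h8 | h8
                · skip
                  exact allRangeF_sound _ _ (checkPointF_eq cert) 184250 25 chkP_184250 i (by omega) (by omega)
                · skip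
                  exact allRangeF_sound _ _ (checkPointF_eq cert) 184275 25 chkP_184275 i (by omega) (by omega)
            · skip
              rcases Nat.lt_or_ge i 184350 with h7 | h7
              · skip
                rcases Nat.lt_or_ge i 184325 with h8 | h8
                · skip
                  exact allRangeF_sound _ _ (checkPointF_eq cert) 184300 25 chkP_184300 i (by omega) (by omega)
                · skip
                  exact allRangeF_sound _ _ (checkPointF_eq cert) 184325 25 chkP_184325 i (by omega) (by omega)
              · skip
                rcases Nat.lt_or_ge i 184375 with h8 | h8
                · skip
                  exact allRangeF_sound _ _ (checkPointF_eq cert) 184350 25 chkP_184350 i (by omega) (by omega)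
                · skip
                  rcases Nat.lt_or_ge i 184400 with h9 | h9
                  · skip
                    exact allRangeF_sound _ _ (checkPointF_eq cert) 184375 25 chkP_184375 i (by omega) (by omega)
                  · skip
                    exact allRangeF_sound _ _ (checkPointF_eq cert) 184400 25 chkP_184400 i (by omega) (by omega)
          · skip
            rcases Nat.lt_or_ge i 184550 with h6 | h6
            · skip
              rcases Nat.lt_or_ge i 184475 with h7 | h7
              · skip
                rcases Nat.lt_or_ge i 184450 with h8 | h8
                · skip
                  exact allRangeF_sound _ _ (checkPointF_eq cert) 184425 25 chkP_184425 i (by omega) (by omega)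
                · skip
                  exact allRangeF_sound _ _ (checkPointF_eq cert) 184450 25 chkP_184450 i (by omega) (by omega)
              · skip
                rcases Nat.lt_or_ge i 184500 with h8 | h8
                · skip
                  exact allRangeF_sound _ _ (checkPointF_eq cert) 184475 25 chkP_184475 i (by omega) (by omega)
                · skip
                  rcases Nat.lt_or_ge i 184525 with h9 | h9
                  · skip
                    exact allRangeF_sound _ _ (checkPointF_eq cert) 184500 25 chkP_184500 i (by omega) (by omega)
                  · skip
                    exact allRangeF_sound _ _ (checkPointF_eq cert) 184525 25 chkP_184525 i (by omega) (by omega)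
            · skip
              rcases Nat.lt_or_ge i 184600 with h7 | h7
              · skip
                rcases Nat.lt_or_ge i 184575 with h8 | h8
                · skip
                  exact allRangeF_sound _ _ (checkPointF_eq cert) 184550 25 chkP_184550 i (by omega) (by omega)
                · skip
                  exact allRangeF_sound _ _ (checkPointF_eq cert) 184575 25 chkP_184575 i (by omega) (by omega)
              · skip
                rcases Nat.lt_or_ge i 184625 with h8 | h8
                · skip
                  exact allRangeF_sound _ _ (checkPointF_eq cert) 184600 25 chkP_184600 i (by omega) (by omega)
                · skip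
                  rcases Nat.lt_or_ge i 184650 with h9 | h9
                  · skip
                    exact allRangeF_sound _ _ (checkPointF_eq cert) 184625 25 chkP_184625 i (by omega) (by omega)
                  · skip
                    exact allRangeF_sound _ _ (checkPointF_eq cert) 184650 25 chkP_184650 i (by omega) (by omega)
        · skip
          rcases Nat.lt_or_ge i 184900 with h5 | h5
          · skip
            rcases Nat.lt_or_ge i 184775 with h6 | h6
            · skip
              rcases Nat.lt_or_ge i 184725 with h7 | h7
              · skip
                rcases Nat.lt_or_ge i 184700 with h8 | h8
                · skip
                  exact allRangeF_sound _ _ (checkPointF_eq cert) 184675 25 chkP_184675 i (by omega) (by omega)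
                · skip
                  exact allRangeF_sound _ _ (checkPointF_eq cert) 184700 25 chkP_184700 i (by omega) (by omega)
              · skip
                rcases Nat.lt_or_ge i 184750 with h8 | h8
                · skip
                  exact allRangeF_sound _ _ (checkPointF_eq cert) 184725 25 chkP_184725 i (by omega) (by omega)
                · skip
                  exact allRangeF_sound _ _ (checkPointF_eq cert) 184750 25 chkP_184750 i (by omega) (by omega)
            · skip
              rcases Nat.lt_or_ge i 184825 with h7 | h7
              · skip
                rcases Nat.lt_or_ge i 184800 with h8 | h8
                · skip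
                  exact allRangeF_sound _ _ (checkPointF_eq cert) 184775 25 chkP_184775 i (by omega) (by omega)
                · skip
                  exact allRangeF_sound _ _ (checkPointF_eq cert) 184800 25 chkP_184800 i (by omega) (by omega)
              · skip
                rcases Nat.lt_or_ge i 184850 with h8 | h8
                · skip
                  exact allRangeF_sound _ _ (checkPointF_eq cert) 184825 25 chkP_184825 i (by omega) (by omega)
                · skip
                  rcases Nat.lt_or_ge i 184875 with h9 | h9
                  · skip
                    exact allRangeF_sound _ _ (checkPointF_eq cert) 184850 25 chkP_184850 i (by omega) (by omega)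
                  · skip
                    exact allRangeF_sound _ _ (checkPointF_eq cert) 184875 25 chkP_184875 i (by omega) (by omega)
          · skip
            rcases Nat.lt_or_ge i 185025 with h6 | h6
            · skip
              rcases Nat.lt_or_ge i 184950 with h7 | h7
              · skip
                rcases Nat.lt_or_ge i 184925 with h8 | h8
                · skip
                  exact allRangeF_sound _ _ (checkPointF_eq cert) 184900 25 chkP_184900 i (by omega) (by omega)
                · skip
                  exact allRangeF_sound _ _ (checkPointF_eq cert) 184925 25 chkP_184925 i (by omega) (by omega)
              · skip
                rcases Nat.lt_or_ge i 184975 with h8 | h8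
                · skip
                  exact allRangeF_sound _ _ (checkPointF_eq cert) 184950 25 chkP_184950 i (by omega) (by omega)
                · skip
                  rcases Nat.lt_or_ge i 185000 with h9 | h9
                  · skip
                    exact allRangeF_sound _ _ (checkPointF_eq cert) 184975 25 chkP_184975 i (by omega) (by omega)
                  · skip
                    exact allRangeF_sound _ _ (checkPointF_eq cert) 185000 25 chkP_185000 i (by omega) (by omega)
            · skip
              rcases Nat.lt_or_ge i 185075 with h7 | h7
              · skip
                rcases Nat.lt_or_ge i 185050 with h8 | h8
                · skip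
                  exact allRangeF_sound _ _ (checkPointF_eq cert) 185025 25 chkP_185025 i (by omega) (by omega)
                · skip
                  exact allRangeF_sound _ _ (checkPointF_eq cert) 185050 25 chkP_185050 i (by omega) (by omega)
              · skip
                rcases Nat.lt_or_ge i 185100 with h8 | h8
                · skip
                  exact allRangeF_sound _ _ (checkPointF_eq cert) 185075 25 chkP_185075 i (by omega) (by omega)
                · skip
                  rcases Nat.lt_or_ge i 185125 with h9 | h9
                  · skip
                    exact allRangeF_sound _ _ (checkPointF_eq cert) 185100 25 chkP_185100 i (by omega) (by omega)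
                  · skip
                    exact allRangeF_sound _ _ (checkPointF_eq cert) 185125 25 chkP_185125 i (by omega) (by omega)
      · skip
        rcases Nat.lt_or_ge i 185625 with h4 | h4
        · skip
          rcases Nat.lt_or_ge i 185375 with h5 | h5
          · skip
            rcases Nat.lt_or_ge i 185250 with h6 | h6
            · skip
              rcases Nat.lt_or_ge i 185200 with h7 | h7
              · skip
                rcases Nat.lt_or_ge i 185175 with h8 | h8
                · skip
                  exact allRangeF_sound _ _ (checkPointF_eq cert) 185150 25 chkP_185150 i (by omega) (by omega)
                · skip
                  exact allRangeF_sound _ _ (checkPointF_eq cert) 185175 25 chkP_185175 i (by omega) (by omega)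
              · skip
                rcases Nat.lt_or_ge i 185225 with h8 | h8
                · skip
                  exact allRangeF_sound _ _ (checkPointF_eq cert) 185200 25 chkP_185200 i (by omega) (by omega)
                · skip
                  exact allRangeF_sound _ _ (checkPointF_eq cert) 185225 25 chkP_185225 i (by omega) (by omega)
            · skip
              rcases Nat.lt_or_ge i 185300 with h7 | h7
              · skip
                rcases Nat.lt_or_ge i 185275 with h8 | h8
                · skip
                  exact allRangeF_sound _ _ (checkPointF_eq cert) 185250 25 chkP_185250 i (by omega) (by omega)
                · skip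
                  exact allRangeF_sound _ _ (checkPointF_eq cert) 185275 25 chkP_185275 i (by omega) (by omega)
              · skip
                rcases Nat.lt_or_ge i 185325 with h8 | h8
                · skip
                  exact allRangeF_sound _ _ (checkPointF_eq cert) 185300 25 chkP_185300 i (by omega) (by omega)
                · skip
                  rcases Nat.lt_or_ge i 185350 with h9 | h9
                  · skip
                    exact allRangeF_sound _ _ (checkPointF_eq cert) 185325 25 chkP_185325 i (by omega) (by omega)
                  · skip
                    exact allRangeF_sound _ _ (checkPointF_eq cert) 185350 25 chkP_185350 i (by omega) (by omega)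
          · skip
            rcases Nat.lt_or_ge i 185500 with h6 | h6
            · skip
              rcases Nat.lt_or_ge i 185425 with h7 | h7
              · skip
                rcases Nat.lt_or_ge i 185400 with h8 | h8
                · skip
                  exact allRangeF_sound _ _ (checkPointF_eq cert) 185375 25 chkP_185375 i (by omega) (by omega)
                · skip
                  exact allRangeF_sound _ _ (checkPointF_eq cert) 185400 25 chkP_185400 i (by omega) (by omega)
              · skip
                rcases Nat.lt_or_ge i 185450 with h8 | h8
                · skip
                  exact allRangeF_sound _ _ (checkPointF_eq cert) 185425 25 chkP_185425 i (by omega) (by omega)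
                · skip
                  rcases Nat.lt_or_ge i 185475 with h9 | h9
                  · skip
                    exact allRangeF_sound _ _ (checkPointF_eq cert) 185450 25 chkP_185450 i (by omega) (by omega)
                  · skip
                    exact allRangeF_sound _ _ (checkPointF_eq cert) 185475 25 chkP_185475 i (by omega) (by omega)
            · skip
              rcases Nat.lt_or_ge i 185550 with h7 | h7
              · skip
                rcases Nat.lt_or_ge i 185525 with h8 | h8
                · skip
                  exact allRangeF_sound _ _ (checkPointF_eq cert) 185500 25 chkP_185500 i (by omega) (by omega)
                · skip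
                  exact allRangeF_sound _ _ (checkPointF_eq cert) 185525 25 chkP_185525 i (by omega) (by omega)
              · skip
                rcases Nat.lt_or_ge i 185575 with h8 | h8
                · skip
                  exact allRangeF_sound _ _ (checkPointF_eq cert) 185550 25 chkP_185550 i (by omega) (by omega)
                · skip
                  rcases Nat.lt_or_ge i 185600 with h9 | h9
                  · skip
                    exact allRangeF_sound _ _ (checkPointF_eq cert) 185575 25 chkP_185575 i (by omega) (by omega)
                  · skip
                    exact allRangeF_sound _ _ (checkPointF_eq cert) 185600 25 chkP_185600 i (by omega) (by omega)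
        · skip
          rcases Nat.lt_or_ge i 185850 with h5 | h5
          · skip
            rcases Nat.lt_or_ge i 185725 with h6 | h6
            · skip
              rcases Nat.lt_or_ge i 185675 with h7 | h7
              · skip
                rcases Nat.lt_or_ge i 185650 with h8 | h8
                · skip
                  exact allRangeF_sound _ _ (checkPointF_eq cert) 185625 25 chkP_185625 i (by omega) (by omega)
                · skip
                  exact allRangeF_sound _ _ (checkPointF_eq cert) 185650 25 chkP_185650 i (by omega) (by omega)
              · skip
                rcases Nat.lt_or_ge i 185700 with h8 | h8
                · skip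
                  exact allRangeF_sound _ _ (checkPointF_eq cert) 185675 25 chkP_185675 i (by omega) (by omega)
                · skip
                  exact allRangeF_sound _ _ (checkPointF_eq cert) 185700 25 chkP_185700 i (by omega) (by omega)
            · skip
              rcases Nat.lt_or_ge i 185775 with h7 | h7
              · skip
                rcases Nat.lt_or_ge i 185750 with h8 | h8
                · skip
                  exact allRangeF_sound _ _ (checkPointF_eq cert) 185725 25 chkP_185725 i (by omega) (by omega)
                · skip
                  exact allRangeF_sound _ _ (checkPointF_eq cert) 185750 25 chkP_185750 i (by omega) (by omega)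
              · skip
                rcases Nat.lt_or_ge i 185800 with h8 | h8
                · skip
                  exact allRangeF_sound _ _ (checkPointF_eq cert) 185775 25 chkP_185775 i (by omega) (by omega)
                · skip
                  rcases Nat.lt_or_ge i 185825 with h9 | h9
                  · skip
                    exact allRangeF_sound _ _ (checkPointF_eq cert) 185800 25 chkP_185800 i (by omega) (by omega)
                  · skip
                    exact allRangeF_sound _ _ (checkPointF_eq cert) 185825 25 chkP_185825 i (by omega) (by omega)
          · skip
            rcases Nat.lt_or_ge i 185975 with h6 | h6
            · skip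
              rcases Nat.lt_or_ge i 185900 with h7 | h7
              · skip
                rcases Nat.lt_or_ge i 185875 with h8 | h8
                · skip
                  exact allRangeF_sound _ _ (checkPointF_eq cert) 185850 25 chkP_185850 i (by omega) (by omega)
                · skip
                  exact allRangeF_sound _ _ (checkPointF_eq cert) 185875 25 chkP_185875 i (by omega) (by omega)
              · skip
                rcases Nat.lt_or_ge i 185925 with h8 | h8
                · skip
                  exact allRangeF_sound _ _ (checkPointF_eq cert) 185900 25 chkP_185900 i (by omega) (by omega)
                · skip
                  rcases Nat.lt_or_ge i 185950 with h9 | h9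
                  · skip
                    exact allRangeF_sound _ _ (checkPointF_eq cert) 185925 25 chkP_185925 i (by omega) (by omega)
                  · skip
                    exact allRangeF_sound _ _ (checkPointF_eq cert) 185950 25 chkP_185950 i (by omega) (by omega)
            · skip
              rcases Nat.lt_or_ge i 186025 with h7 | h7
              · skip
                rcases Nat.lt_or_ge i 186000 with h8 | h8
                · skip
                  exact allRangeF_sound _ _ (checkPointF_eq cert) 185975 25 chkP_185975 i (by omega) (by omega)
                · skip
                  exact allRangeF_sound _ _ (checkPointF_eq cert) 186000 25 chkP_186000 i (by omega) (by omega)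
              · skip
                rcases Nat.lt_or_ge i 186050 with h8 | h8
                · skip
                  exact allRangeF_sound _ _ (checkPointF_eq cert) 186025 25 chkP_186025 i (by omega) (by omega)
                · skip
                  rcases Nat.lt_or_ge i 186075 with h9 | h9
                  · skip
                    exact allRangeF_sound _ _ (checkPointF_eq cert) 186050 25 chkP_186050 i (by omega) (by omega)
                  · skip
                    exact allRangeF_sound _ _ (checkPointF_eq cert) 186075 25 chkP_186075 i (by omega) (by omega)
    · skip
      rcases Nat.lt_or_ge i 187050 with h3 | h3
      · skip
        rcases Nat.lt_or_ge i 186575 with h4 | h4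
        · skip
          rcases Nat.lt_or_ge i 186325 with h5 | h5
          · skip
            rcases Nat.lt_or_ge i 186200 with h6 | h6
            · skip
              rcases Nat.lt_or_ge i 186150 with h7 | h7
              · skip
                rcases Nat.lt_or_ge i 186125 with h8 | h8
                · skip
                  exact allRangeF_sound _ _ (checkPointF_eq cert) 186100 25 chkP_186100 i (by omega) (by omega)
                · skip
                  exact allRangeF_sound _ _ (checkPointF_eq cert) 186125 25 chkP_186125 i (by omega) (by omega)
              · skip
                rcases Nat.lt_or_ge i 186175 with h8 | h8
                · skip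
                  exact allRangeF_sound _ _ (checkPointF_eq cert) 186150 25 chkP_186150 i (by omega) (by omega)
                · skip
                  exact allRangeF_sound _ _ (checkPointF_eq cert) 186175 25 chkP_186175 i (by omega) (by omega)
            · skip
              rcases Nat.lt_or_ge i 186250 with h7 | h7
              · skip
                rcases Nat.lt_or_ge i 186225 with h8 | h8
                · skip
                  exact allRangeF_sound _ _ (checkPointF_eq cert) 186200 25 chkP_186200 i (by omega) (by omega)
                · skip
                  exact allRangeF_sound _ _ (checkPointF_eq cert) 186225 25 chkP_186225 i (by omega) (by omega)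
              · skip
                rcases Nat.lt_or_ge i 186275 with h8 | h8
                · skip
                  exact allRangeF_sound _ _ (checkPointF_eq cert) 186250 25 chkP_186250 i (by omega) (by omega)
                · skip
                  rcases Nat.lt_or_ge i 186300 with h9 | h9
                  · skip
                    exact allRangeF_sound _ _ (checkPointF_eq cert) 186275 25 chkP_186275 i (by omega) (by omega)
                  · skip
                    exact allRangeF_sound _ _ (checkPointF_eq cert) 186300 25 chkP_186300 i (by omega) (by omega)
          · skip
            rcases Nat.lt_or_ge i 186450 with h6 | h6
            · skip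
              rcases Nat.lt_or_ge i 186375 with h7 | h7
              · skip
                rcases Nat.lt_or_ge i 186350 with h8 | h8
                · skip
                  exact allRangeF_sound _ _ (checkPointF_eq cert) 186325 25 chkP_186325 i (by omega) (by omega)
                · skip
                  exact allRangeF_sound _ _ (checkPointF_eq cert) 186350 25 chkP_186350 i (by omega) (by omega)
              · skip
                rcases Nat.lt_or_ge i 186400 with h8 | h8
                · skip
                  exact allRangeF_sound _ _ (checkPointF_eq cert) 186375 25 chkP_186375 i (by omega) (by omega)
                · skip
                  rcases Nat.lt_or_ge i 186425 with h9 | h9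
                  · skip
                    exact allRangeF_sound _ _ (checkPointF_eq cert) 186400 25 chkP_186400 i (by omega) (by omega)
                  · skip
                    exact allRangeF_sound _ _ (checkPointF_eq cert) 186425 25 chkP_186425 i (by omega) (by omega)
            · skip
              rcases Nat.lt_or_ge i 186500 with h7 | h7
              · skip
                rcases Nat.lt_or_ge i 186475 with h8 | h8
                · skip
                  exact allRangeF_sound _ _ (checkPointF_eq cert) 186450 25 chkP_186450 i (by omega) (by omega)
                · skip
                  exact allRangeF_sound _ _ (checkPointF_eq cert) 186475 25 chkP_186475 i (by omega) (by omega)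
              · skip
                rcases Nat.lt_or_ge i 186525 with h8 | h8
                · skip
                  exact allRangeF_sound _ _ (checkPointF_eq cert) 186500 25 chkP_186500 i (by omega) (by omega)
                · skip
                  rcases Nat.lt_or_ge i 186550 with h9 | h9
                  · skip
                    exact allRangeF_sound _ _ (checkPointF_eq cert) 186525 25 chkP_186525 i (by omega) (by omega)
                  · skip
                    exact allRangeF_sound _ _ (checkPointF_eq cert) 186550 25 chkP_186550 i (by omega) (by omega)
        · skip
          rcases Nat.lt_or_ge i 186800 with h5 | h5
          · skip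
            rcases Nat.lt_or_ge i 186675 with h6 | h6
            · skip
              rcases Nat.lt_or_ge i 186625 with h7 | h7
              · skip
                rcases Nat.lt_or_ge i 186600 with h8 | h8
                · skip
                  exact allRangeF_sound _ _ (checkPointF_eq cert) 186575 25 chkP_186575 i (by omega) (by omega)
                · skip
                  exact allRangeF_sound _ _ (checkPointF_eq cert) 186600 25 chkP_186600 i (by omega) (by omega)
              · skip
                rcases Nat.lt_or_ge i 186650 with h8 | h8
                · skip
                  exact allRangeF_sound _ _ (checkPointF_eq cert) 186625 25 chkP_186625 i (by omega) (by omega)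
                · skip
                  exact allRangeF_sound _ _ (checkPointF_eq cert) 186650 25 chkP_186650 i (by omega) (by omega)
            · skip
              rcases Nat.lt_or_ge i 186725 with h7 | h7
              · skip
                rcases Nat.lt_or_ge i 186700 with h8 | h8
                · skip
                  exact allRangeF_sound _ _ (checkPointF_eq cert) 186675 25 chkP_186675 i (by omega) (by omega)
                · skip
                  exact allRangeF_sound _ _ (checkPointF_eq cert) 186700 25 chkP_186700 i (by omega) (by omega)
              · skip
                rcases Nat.lt_or_ge i 186750 with h8 | h8
                · skip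
                  exact allRangeF_sound _ _ (checkPointF_eq cert) 186725 25 chkP_186725 i (by omega) (by omega)
                · skip
                  rcases Nat.lt_or_ge i 186775 with h9 | h9
                  · skip
                    exact allRangeF_sound _ _ (checkPointF_eq cert) 186750 25 chkP_186750 i (by omega) (by omega)
                  · skip
                    exact allRangeF_sound _ _ (checkPointF_eq cert) 186775 25 chkP_186775 i (by omega) (by omega)
          · skip
            rcases Nat.lt_or_ge i 186925 with h6 | h6
            · skip
              rcases Nat.lt_or_ge i 186850 with h7 | h7
              · skip
                rcases Nat.lt_or_ge i 186825 with h8 | h8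
                · skip
                  exact allRangeF_sound _ _ (checkPointF_eq cert) 186800 25 chkP_186800 i (by omega) (by omega)
                · skip
                  exact allRangeF_sound _ _ (checkPointF_eq cert) 186825 25 chkP_186825 i (by omega) (by omega)
              · skip
                rcases Nat.lt_or_ge i 186875 with h8 | h8
                · skip
                  exact allRangeF_sound _ _ (checkPointF_eq cert) 186850 25 chkP_186850 i (by omega) (by omega)
                · skip
                  rcases Nat.lt_or_ge i 186900 with h9 | h9
                  · skip
                    exact allRangeF_sound _ _ (checkPointF_eq cert) 186875 25 chkP_186875 i (by omega) (by omega)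
                  · skip
                    exact allRangeF_sound _ _ (checkPointF_eq cert) 186900 25 chkP_186900 i (by omega) (by omega)
            · skip
              rcases Nat.lt_or_ge i 186975 with h7 | h7
              · skip
                rcases Nat.lt_or_ge i 186950 with h8 | h8
                · skip
                  exact allRangeF_sound _ _ (checkPointF_eq cert) 186925 25 chkP_186925 i (by omega) (by omega)
                · skip
                  exact allRangeF_sound _ _ (checkPointF_eq cert) 186950 25 chkP_186950 i (by omega) (by omega)
              · skip
                rcases Nat.lt_or_ge i 187000 with h8 | h8
                · skip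
                  exact allRangeF_sound _ _ (checkPointF_eq cert) 186975 25 chkP_186975 i (by omega) (by omega)
                · skip
                  rcases Nat.lt_or_ge i 187025 with h9 | h9
                  · skip
                    exact allRangeF_sound _ _ (checkPointF_eq cert) 187000 25 chkP_187000 i (by omega) (by omega)
                  · skip
                    exact allRangeF_sound _ _ (checkPointF_eq cert) 187025 25 chkP_187025 i (by omega) (by omega)
      · skip
        rcases Nat.lt_or_ge i 187525 with h4 | h4
        · skip
          rcases Nat.lt_or_ge i 187275 with h5 | h5
          · skip
            rcases Nat.lt_or_ge i 187150 with h6 | h6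
            · skip
              rcases Nat.lt_or_ge i 187100 with h7 | h7
              · skip
                rcases Nat.lt_or_ge i 187075 with h8 | h8
                · skip
                  exact allRangeF_sound _ _ (checkPointF_eq cert) 187050 25 chkP_187050 i (by omega) (by omega)
                · skip
                  exact allRangeF_sound _ _ (checkPointF_eq cert) 187075 25 chkP_187075 i (by omega) (by omega)
              · skip
                rcases Nat.lt_or_ge i 187125 with h8 | h8
                · skip
                  exact allRangeF_sound _ _ (checkPointF_eq cert) 187100 25 chkP_187100 i (by omega) (by omega)
                · skip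
                  exact allRangeF_sound _ _ (checkPointF_eq cert) 187125 25 chkP_187125 i (by omega) (by omega)
            · skip
              rcases Nat.lt_or_ge i 187200 with h7 | h7
              · skip
                rcases Nat.lt_or_ge i 187175 with h8 | h8
                · skip
                  exact allRangeF_sound _ _ (checkPointF_eq cert) 187150 25 chkP_187150 i (by omega) (by omega)
                · skip
                  exact allRangeF_sound _ _ (checkPointF_eq cert) 187175 25 chkP_187175 i (by omega) (by omega)
              · skip
                rcases Nat.lt_or_ge i 187225 with h8 | h8
                · skip
                  exact allRangeF_sound _ _ (checkPointF_eq cert) 187200 25 chkP_187200 i (by omega) (by omega)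
                · skip
                  rcases Nat.lt_or_ge i 187250 with h9 | h9
                  · skip
                    exact allRangeF_sound _ _ (checkPointF_eq cert) 187225 25 chkP_187225 i (by omega) (by omega)
                  · skip
                    exact allRangeF_sound _ _ (checkPointF_eq cert) 187250 25 chkP_187250 i (by omega) (by omega)
          · skip
            rcases Nat.lt_or_ge i 187400 with h6 | h6
            · skip
              rcases Nat.lt_or_ge i 187325 with h7 | h7
              · skip
                rcases Nat.lt_or_ge i 187300 with h8 | h8
                · skip
                  exact allRangeF_sound _ _ (checkPointF_eq cert) 187275 25 chkP_187275 i (by omega) (by omega)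
                · skip
                  exact allRangeF_sound _ _ (checkPointF_eq cert) 187300 25 chkP_187300 i (by omega) (by omega)
              · skip
                rcases Nat.lt_or_ge i 187350 with h8 | h8
                · skip
                  exact allRangeF_sound _ _ (checkPointF_eq cert) 187325 25 chkP_187325 i (by omega) (by omega)
                · skip
                  rcases Nat.lt_or_ge i 187375 with h9 | h9
                  · skip
                    exact allRangeF_sound _ _ (checkPointF_eq cert) 187350 25 chkP_187350 i (by omega) (by omega)
                  · skip
                    exact allRangeF_sound _ _ (checkPointF_eq cert) 187375 25 chkP_187375 i (by omega) (by omega)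
            · skip
              rcases Nat.lt_or_ge i 187450 with h7 | h7
              · skip
                rcases Nat.lt_or_ge i 187425 with h8 | h8
                · skip
                  exact allRangeF_sound _ _ (checkPointF_eq cert) 187400 25 chkP_187400 i (by omega) (by omega)
                · skip
                  exact allRangeF_sound _ _ (checkPointF_eq cert) 187425 25 chkP_187425 i (by omega) (by omega)
              · skip
                rcases Nat.lt_or_ge i 187475 with h8 | h8
                · skip
                  exact allRangeF_sound _ _ (checkPointF_eq cert) 187450 25 chkP_187450 i (by omega) (by omega)
                · skip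
                  rcases Nat.lt_or_ge i 187500 with h9 | h9
                  · skip
                    exact allRangeF_sound _ _ (checkPointF_eq cert) 187475 25 chkP_187475 i (by omega) (by omega)
                  · skip
                    exact allRangeF_sound _ _ (checkPointF_eq cert) 187500 25 chkP_187500 i (by omega) (by omega)
        · skip
          rcases Nat.lt_or_ge i 187775 with h5 | h5
          · skip
            rcases Nat.lt_or_ge i 187650 with h6 | h6
            · skip
              rcases Nat.lt_or_ge i 187575 with h7 | h7
              · skip
                rcases Nat.lt_or_ge i 187550 with h8 | h8
                · skip
                  exact allRangeF_sound _ _ (checkPointF_eq cert) 187525 25 chkP_187525 i (by omega) (by omega)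
                · skip
                  exact allRangeF_sound _ _ (checkPointF_eq cert) 187550 25 chkP_187550 i (by omega) (by omega)
              · skip
                rcases Nat.lt_or_ge i 187600 with h8 | h8
                · skip
                  exact allRangeF_sound _ _ (checkPointF_eq cert) 187575 25 chkP_187575 i (by omega) (by omega)
                · skip
                  rcases Nat.lt_or_ge i 187625 with h9 | h9
                  · skip
                    exact allRangeF_sound _ _ (checkPointF_eq cert) 187600 25 chkP_187600 i (by omega) (by omega)
                  · skip
                    exact allRangeF_sound _ _ (checkPointF_eq cert) 187625 25 chkP_187625 i (by omega) (by omega)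
            · skip
              rcases Nat.lt_or_ge i 187700 with h7 | h7
              · skip
                rcases Nat.lt_or_ge i 187675 with h8 | h8
                · skip
                  exact allRangeF_sound _ _ (checkPointF_eq cert) 187650 25 chkP_187650 i (by omega) (by omega)
                · skip
                  exact allRangeF_sound _ _ (checkPointF_eq cert) 187675 25 chkP_187675 i (by omega) (by omega)
              · skip
                rcases Nat.lt_or_ge i 187725 with h8 | h8
                · skip
                  exact allRangeF_sound _ _ (checkPointF_eq cert) 187700 25 chkP_187700 i (by omega) (by omega)
                · skip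
                  rcases Nat.lt_or_ge i 187750 with h9 | h9
                  · skip
                    exact allRangeF_sound _ _ (checkPointF_eq cert) 187725 25 chkP_187725 i (by omega) (by omega)
                  · skip
                    exact allRangeF_sound _ _ (checkPointF_eq cert) 187750 25 chkP_187750 i (by omega) (by omega)
          · skip
            rcases Nat.lt_or_ge i 187900 with h6 | h6
            · skip
              rcases Nat.lt_or_ge i 187825 with h7 | h7
              · skip
                rcases Nat.lt_or_ge i 187800 with h8 | h8
                · skip
                  exact allRangeF_sound _ _ (checkPointF_eq cert) 187775 25 chkP_187775 i (by omega) (by omega)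
                · skip
                  exact allRangeF_sound _ _ (checkPointF_eq cert) 187800 25 chkP_187800 i (by omega) (by omega)
              · skip
                rcases Nat.lt_or_ge i 187850 with h8 | h8
                · skip
                  exact allRangeF_sound _ _ (checkPointF_eq cert) 187825 25 chkP_187825 i (by omega) (by omega)
                · skip
                  rcases Nat.lt_or_ge i 187875 with h9 | h9
                  · skip
                    exact allRangeF_sound _ _ (checkPointF_eq cert) 187850 25 chkP_187850 i (by omega) (by omega)
                  · skip
                    exact allRangeF_sound _ _ (checkPointF_eq cert) 187875 25 chkP_187875 i (by omega) (by omega)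
            · skip
              rcases Nat.lt_or_ge i 187950 with h7 | h7
              · skip
                rcases Nat.lt_or_ge i 187925 with h8 | h8
                · skip
                  exact allRangeF_sound _ _ (checkPointF_eq cert) 187900 25 chkP_187900 i (by omega) (by omega)
                · skip
                  exact allRangeF_sound _ _ (checkPointF_eq cert) 187925 25 chkP_187925 i (by omega) (by omega)
              · skip
                rcases Nat.lt_or_ge i 187975 with h8 | h8
                · skip
                  exact allRangeF_sound _ _ (checkPointF_eq cert) 187950 25 chkP_187950 i (by omega) (by omega)
                · skip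
                  rcases Nat.lt_or_ge i 188000 with h9 | h9
                  · skip
                    exact allRangeF_sound _ _ (checkPointF_eq cert) 187975 25 chkP_187975 i (by omega) (by omega)
                  · skip
                    exact allRangeF_sound _ _ (checkPointF_eq cert) 188000 25 chkP_188000 i (by omega) (by omega)
  · skip
    rcases Nat.lt_or_ge i 189950 with h2 | h2
    · skip
      rcases Nat.lt_or_ge i 188975 with h3 | h3
      · skip
        rcases Nat.lt_or_ge i 188500 with h4 | h4
        · skip
          rcases Nat.lt_or_ge i 188250 with h5 | h5
          · skip
            rcases Nat.lt_or_ge i 188125 with h6 | h6
            · skip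
              rcases Nat.lt_or_ge i 188075 with h7 | h7
              · skip
                rcases Nat.lt_or_ge i 188050 with h8 | h8
                · skip
                  exact allRangeF_sound _ _ (checkPointF_eq cert) 188025 25 chkP_188025 i (by omega) (by omega)
                · skip
                  exact allRangeF_sound _ _ (checkPointF_eq cert) 188050 25 chkP_188050 i (by omega) (by omega)
              · skip
                rcases Nat.lt_or_ge i 188100 with h8 | h8
                · skip
                  exact allRangeF_sound _ _ (checkPointF_eq cert) 188075 25 chkP_188075 i (by omega) (by omega)
                · skip
                  exact allRangeF_sound _ _ (checkPointF_eq cert) 188100 25 chkP_188100 i (by omega) (by omega)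
            · skip
              rcases Nat.lt_or_ge i 188175 with h7 | h7
              · skip
                rcases Nat.lt_or_ge i 188150 with h8 | h8
                · skip
                  exact allRangeF_sound _ _ (checkPointF_eq cert) 188125 25 chkP_188125 i (by omega) (by omega)
                · skip
                  exact allRangeF_sound _ _ (checkPointF_eq cert) 188150 25 chkP_188150 i (by omega) (by omega)
              · skip
                rcases Nat.lt_or_ge i 188200 with h8 | h8
                · skip
                  exact allRangeF_sound _ _ (checkPointF_eq cert) 188175 25 chkP_188175 i (by omega) (by omega)
                · skip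
                  rcases Nat.lt_or_ge i 188225 with h9 | h9
                  · skip
                    exact allRangeF_sound _ _ (checkPointF_eq cert) 188200 25 chkP_188200 i (by omega) (by omega)
                  · skip
                    exact allRangeF_sound _ _ (checkPointF_eq cert) 188225 25 chkP_188225 i (by omega) (by omega)
          · skip
            rcases Nat.lt_or_ge i 188375 with h6 | h6
            · skip
              rcases Nat.lt_or_ge i 188300 with h7 | h7
              · skip
                rcases Nat.lt_or_ge i 188275 with h8 | h8
                · skip
                  exact allRangeF_sound _ _ (checkPointF_eq cert) 188250 25 chkP_188250 i (by omega) (by omega)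
                · skip
                  exact allRangeF_sound _ _ (checkPointF_eq cert) 188275 25 chkP_188275 i (by omega) (by omega)
              · skip
                rcases Nat.lt_or_ge i 188325 with h8 | h8
                · skip
                  exact allRangeF_sound _ _ (checkPointF_eq cert) 188300 25 chkP_188300 i (by omega) (by omega)
                · skip
                  rcases Nat.lt_or_ge i 188350 with h9 | h9
                  · skip
                    exact allRangeF_sound _ _ (checkPointF_eq cert) 188325 25 chkP_188325 i (by omega) (by omega)
                  · skip
                    exact allRangeF_sound _ _ (checkPointF_eq cert) 188350 25 chkP_188350 i (by omega) (by omega)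
            · skip
              rcases Nat.lt_or_ge i 188425 with h7 | h7
              · skip
                rcases Nat.lt_or_ge i 188400 with h8 | h8
                · skip
                  exact allRangeF_sound _ _ (checkPointF_eq cert) 188375 25 chkP_188375 i (by omega) (by omega)
                · skip
                  exact allRangeF_sound _ _ (checkPointF_eq cert) 188400 25 chkP_188400 i (by omega) (by omega)
              · skip
                rcases Nat.lt_or_ge i 188450 with h8 | h8
                · skip
                  exact allRangeF_sound _ _ (checkPointF_eq cert) 188425 25 chkP_188425 i (by omega) (by omega)
                · skip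
                  rcases Nat.lt_or_ge i 188475 with h9 | h9
                  · skip
                    exact allRangeF_sound _ _ (checkPointF_eq cert) 188450 25 chkP_188450 i (by omega) (by omega)
                  · skip
                    exact allRangeF_sound _ _ (checkPointF_eq cert) 188475 25 chkP_188475 i (by omega) (by omega)
        · skip
          rcases Nat.lt_or_ge i 188725 with h5 | h5
          · skip
            rcases Nat.lt_or_ge i 188600 with h6 | h6
            · skip
              rcases Nat.lt_or_ge i 188550 with h7 | h7
              · skip
                rcases Nat.lt_or_ge i 188525 with h8 | h8
                · skip
                  exact allRangeF_sound _ _ (checkPointF_eq cert) 188500 25 chkP_188500 i (by omega) (by omega)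
                · skip
                  exact allRangeF_sound _ _ (checkPointF_eq cert) 188525 25 chkP_188525 i (by omega) (by omega)
              · skip
                rcases Nat.lt_or_ge i 188575 with h8 | h8
                · skip
                  exact allRangeF_sound _ _ (checkPointF_eq cert) 188550 25 chkP_188550 i (by omega) (by omega)
                · skip
                  exact allRangeF_sound _ _ (checkPointF_eq cert) 188575 25 chkP_188575 i (by omega) (by omega)
            · skip
              rcases Nat.lt_or_ge i 188650 with h7 | h7
              · skip
                rcases Nat.lt_or_ge i 188625 with h8 | h8
                · skip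
                  exact allRangeF_sound _ _ (checkPointF_eq cert) 188600 25 chkP_188600 i (by omega) (by omega)
                · skip
                  exact allRangeF_sound _ _ (checkPointF_eq cert) 188625 25 chkP_188625 i (by omega) (by omega)
              · skip
                rcases Nat.lt_or_ge i 188675 with h8 | h8
                · skip
                  exact allRangeF_sound _ _ (checkPointF_eq cert) 188650 25 chkP_188650 i (by omega) (by omega)
                · skip
                  rcases Nat.lt_or_ge i 188700 with h9 | h9
                  · skip
                    exact allRangeF_sound _ _ (checkPointF_eq cert) 188675 25 chkP_188675 i (by omega) (by omega)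
                  · skip
                    exact allRangeF_sound _ _ (checkPointF_eq cert) 188700 25 chkP_188700 i (by omega) (by omega)
          · skip
            rcases Nat.lt_or_ge i 188850 with h6 | h6
            · skip
              rcases Nat.lt_or_ge i 188775 with h7 | h7
              · skip
                rcases Nat.lt_or_ge i 188750 with h8 | h8
                · skip
                  exact allRangeF_sound _ _ (checkPointF_eq cert) 188725 25 chkP_188725 i (by omega) (by omega)
                · skip
                  exact allRangeF_sound _ _ (checkPointF_eq cert) 188750 25 chkP_188750 i (by omega) (by omega)
              · skip
                rcases Nat.lt_or_ge i 188800 with h8 | h8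
                · skip
                  exact allRangeF_sound _ _ (checkPointF_eq cert) 188775 25 chkP_188775 i (by omega) (by omega)
                · skip
                  rcases Nat.lt_or_ge i 188825 with h9 | h9
                  · skip
                    exact allRangeF_sound _ _ (checkPointF_eq cert) 188800 25 chkP_188800 i (by omega) (by omega)
                  · skip
                    exact allRangeF_sound _ _ (checkPointF_eq cert) 188825 25 chkP_188825 i (by omega) (by omega)
            · skip
              rcases Nat.lt_or_ge i 188900 with h7 | h7
              · skip
                rcases Nat.lt_or_ge i 188875 with h8 | h8
                · skip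
                  exact allRangeF_sound _ _ (checkPointF_eq cert) 188850 25 chkP_188850 i (by omega) (by omega)
                · skip
                  exact allRangeF_sound _ _ (checkPointF_eq cert) 188875 25 chkP_188875 i (by omega) (by omega)
              · skip
                rcases Nat.lt_or_ge i 188925 with h8 | h8
                · skip
                  exact allRangeF_sound _ _ (checkPointF_eq cert) 188900 25 chkP_188900 i (by omega) (by omega)
                · skip
                  rcases Nat.lt_or_ge i 188950 with h9 | h9
                  · skip
                    exact allRangeF_sound _ _ (checkPointF_eq cert) 188925 25 chkP_188925 i (by omega) (by omega)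
                  · skip
                    exact allRangeF_sound _ _ (checkPointF_eq cert) 188950 25 chkP_188950 i (by omega) (by omega)
      · skip
        rcases Nat.lt_or_ge i 189450 with h4 | h4
        · skip
          rcases Nat.lt_or_ge i 189200 with h5 | h5
          · skip
            rcases Nat.lt_or_ge i 189075 with h6 | h6
            · skip
              rcases Nat.lt_or_ge i 189025 with h7 | h7
              · skip
                rcases Nat.lt_or_ge i 189000 with h8 | h8
                · skip
                  exact allRangeF_sound _ _ (checkPointF_eq cert) 188975 25 chkP_188975 i (by omega) (by omega)
                · skip
                  exact allRangeF_sound _ _ (checkPointF_eq cert) 189000 25 chkP_189000 i (by omega) (by omega)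
              · skip
                rcases Nat.lt_or_ge i 189050 with h8 | h8
                · skip
                  exact allRangeF_sound _ _ (checkPointF_eq cert) 189025 25 chkP_189025 i (by omega) (by omega)
                · skip
                  exact allRangeF_sound _ _ (checkPointF_eq cert) 189050 25 chkP_189050 i (by omega) (by omega)
            · skip
              rcases Nat.lt_or_ge i 189125 with h7 | h7
              · skip
                rcases Nat.lt_or_ge i 189100 with h8 | h8
                · skip
                  exact allRangeF_sound _ _ (checkPointF_eq cert) 189075 25 chkP_189075 i (by omega) (by omega)
                · skip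
                  exact allRangeF_sound _ _ (checkPointF_eq cert) 189100 25 chkP_189100 i (by omega) (by omega)
              · skip
                rcases Nat.lt_or_ge i 189150 with h8 | h8
                · skip
                  exact allRangeF_sound _ _ (checkPointF_eq cert) 189125 25 chkP_189125 i (by omega) (by omega)
                · skip
                  rcases Nat.lt_or_ge i 189175 with h9 | h9
                  · skip
                    exact allRangeF_sound _ _ (checkPointF_eq cert) 189150 25 chkP_189150 i (by omega) (by omega)
                  · skip
                    exact allRangeF_sound _ _ (checkPointF_eq cert) 189175 25 chkP_189175 i (by omega) (by omega)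
          · skip
            rcases Nat.lt_or_ge i 189325 with h6 | h6
            · skip
              rcases Nat.lt_or_ge i 189250 with h7 | h7
              · skip
                rcases Nat.lt_or_ge i 189225 with h8 | h8
                · skip
                  exact allRangeF_sound _ _ (checkPointF_eq cert) 189200 25 chkP_189200 i (by omega) (by omega)
                · skip
                  exact allRangeF_sound _ _ (checkPointF_eq cert) 189225 25 chkP_189225 i (by omega) (by omega)
              · skip
                rcases Nat.lt_or_ge i 189275 with h8 | h8
                · skip
                  exact allRangeF_sound _ _ (checkPointF_eq cert) 189250 25 chkP_189250 i (by omega) (by omega)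
                · skip
                  rcases Nat.lt_or_ge i 189300 with h9 | h9
                  · skip
                    exact allRangeF_sound _ _ (checkPointF_eq cert) 189275 25 chkP_189275 i (by omega) (by omega)
                  · skip
                    exact allRangeF_sound _ _ (checkPointF_eq cert) 189300 25 chkP_189300 i (by omega) (by omega)
            · skip
              rcases Nat.lt_or_ge i 189375 with h7 | h7
              · skip
                rcases Nat.lt_or_ge i 189350 with h8 | h8
                · skip
                  exact allRangeF_sound _ _ (checkPointF_eq cert) 189325 25 chkP_189325 i (by omega) (by omega)
                · skip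
                  exact allRangeF_sound _ _ (checkPointF_eq cert) 189350 25 chkP_189350 i (by omega) (by omega)
              · skip
                rcases Nat.lt_or_ge i 189400 with h8 | h8
                · skip
                  exact allRangeF_sound _ _ (checkPointF_eq cert) 189375 25 chkP_189375 i (by omega) (by omega)
                · skip
                  rcases Nat.lt_or_ge i 189425 with h9 | h9
                  · skip
                    exact allRangeF_sound _ _ (checkPointF_eq cert) 189400 25 chkP_189400 i (by omega) (by omega)
                  · skip
                    exact allRangeF_sound _ _ (checkPointF_eq cert) 189425 25 chkP_189425 i (by omega) (by omega)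
        · skip
          rcases Nat.lt_or_ge i 189700 with h5 | h5
          · skip
            rcases Nat.lt_or_ge i 189575 with h6 | h6
            · skip
              rcases Nat.lt_or_ge i 189500 with h7 | h7
              · skip
                rcases Nat.lt_or_ge i 189475 with h8 | h8
                · skip
                  exact allRangeF_sound _ _ (checkPointF_eq cert) 189450 25 chkP_189450 i (by omega) (by omega)
                · skip
                  exact allRangeF_sound _ _ (checkPointF_eq cert) 189475 25 chkP_189475 i (by omega) (by omega)
              · skip
                rcases Nat.lt_or_ge i 189525 with h8 | h8
                · skip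
                  exact allRangeF_sound _ _ (checkPointF_eq cert) 189500 25 chkP_189500 i (by omega) (by omega)
                · skip
                  rcases Nat.lt_or_ge i 189550 with h9 | h9
                  · skip
                    exact allRangeF_sound _ _ (checkPointF_eq cert) 189525 25 chkP_189525 i (by omega) (by omega)
                  · skip
                    exact allRangeF_sound _ _ (checkPointF_eq cert) 189550 25 chkP_189550 i (by omega) (by omega)
            · skip
              rcases Nat.lt_or_ge i 189625 with h7 | h7
              · skip
                rcases Nat.lt_or_ge i 189600 with h8 | h8
                · skip
                  exact allRangeF_sound _ _ (checkPointF_eq cert) 189575 25 chkP_189575 i (by omega) (by omega)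
                · skip
                  exact allRangeF_sound _ _ (checkPointF_eq cert) 189600 25 chkP_189600 i (by omega) (by omega)
              · skip
                rcases Nat.lt_or_ge i 189650 with h8 | h8
                · skip
                  exact allRangeF_sound _ _ (checkPointF_eq cert) 189625 25 chkP_189625 i (by omega) (by omega)
                · skip
                  rcases Nat.lt_or_ge i 189675 with h9 | h9
                  · skip
                    exact allRangeF_sound _ _ (checkPointF_eq cert) 189650 25 chkP_189650 i (by omega) (by omega)
                  · skip
                    exact allRangeF_sound _ _ (checkPointF_eq cert) 189675 25 chkP_189675 i (by omega) (by omega)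
          · skip
            rcases Nat.lt_or_ge i 189825 with h6 | h6
            · skip
              rcases Nat.lt_or_ge i 189750 with h7 | h7
              · skip
                rcases Nat.lt_or_ge i 189725 with h8 | h8
                · skip
                  exact allRangeF_sound _ _ (checkPointF_eq cert) 189700 25 chkP_189700 i (by omega) (by omega)
                · skip
                  exact allRangeF_sound _ _ (checkPointF_eq cert) 189725 25 chkP_189725 i (by omega) (by omega)
              · skip
                rcases Nat.lt_or_ge i 189775 with h8 | h8
                · skip
                  exact allRangeF_sound _ _ (checkPointF_eq cert) 189750 25 chkP_189750 i (by omega) (by omega)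
                · skip
                  rcases Nat.lt_or_ge i 189800 with h9 | h9
                  · skip
                    exact allRangeF_sound _ _ (checkPointF_eq cert) 189775 25 chkP_189775 i (by omega) (by omega)
                  · skip
                    exact allRangeF_sound _ _ (checkPointF_eq cert) 189800 25 chkP_189800 i (by omega) (by omega)
            · skip
              rcases Nat.lt_or_ge i 189875 with h7 | h7
              · skip
                rcases Nat.lt_or_ge i 189850 with h8 | h8
                · skip
                  exact allRangeF_sound _ _ (checkPointF_eq cert) 189825 25 chkP_189825 i (by omega) (by omega)
                · skip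
                  exact allRangeF_sound _ _ (checkPointF_eq cert) 189850 25 chkP_189850 i (by omega) (by omega)
              · skip
                rcases Nat.lt_or_ge i 189900 with h8 | h8
                · skip
                  exact allRangeF_sound _ _ (checkPointF_eq cert) 189875 25 chkP_189875 i (by omega) (by omega)
                · skip
                  rcases Nat.lt_or_ge i 189925 with h9 | h9
                  · skip
                    exact allRangeF_sound _ _ (checkPointF_eq cert) 189900 25 chkP_189900 i (by omega) (by omega)
                  · skip
                    exact allRangeF_sound _ _ (checkPointF_eq cert) 189925 25 chkP_189925 i (by omega) (by omega)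
    · skip
      rcases Nat.lt_or_ge i 190900 with h3 | h3
      · skip
        rcases Nat.lt_or_ge i 190425 with h4 | h4
        · skip
          rcases Nat.lt_or_ge i 190175 with h5 | h5
          · skip
            rcases Nat.lt_or_ge i 190050 with h6 | h6
            · skip
              rcases Nat.lt_or_ge i 190000 with h7 | h7
              · skip
                rcases Nat.lt_or_ge i 189975 with h8 | h8
                · skip
                  exact allRangeF_sound _ _ (checkPointF_eq cert) 189950 25 chkP_189950 i (by omega) (by omega)
                · skip
                  exact allRangeF_sound _ _ (checkPointF_eq cert) 189975 25 chkP_189975 i (by omega) (by omega)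
              · skip
                rcases Nat.lt_or_ge i 190025 with h8 | h8
                · skip
                  exact allRangeF_sound _ _ (checkPointF_eq cert) 190000 25 chkP_190000 i (by omega) (by omega)
                · skip
                  exact allRangeF_sound _ _ (checkPointF_eq cert) 190025 25 chkP_190025 i (by omega) (by omega)
            · skip
              rcases Nat.lt_or_ge i 190100 with h7 | h7
              · skip
                rcases Nat.lt_or_ge i 190075 with h8 | h8
                · skip
                  exact allRangeF_sound _ _ (checkPointF_eq cert) 190050 25 chkP_190050 i (by omega) (by omega)
                · skip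
                  exact allRangeF_sound _ _ (checkPointF_eq cert) 190075 25 chkP_190075 i (by omega) (by omega)
              · skip
                rcases Nat.lt_or_ge i 190125 with h8 | h8
                · skip
                  exact allRangeF_sound _ _ (checkPointF_eq cert) 190100 25 chkP_190100 i (by omega) (by omega)
                · skip
                  rcases Nat.lt_or_ge i 190150 with h9 | h9
                  · skip
                    exact allRangeF_sound _ _ (checkPointF_eq cert) 190125 25 chkP_190125 i (by omega) (by omega)
                  · skip
                    exact allRangeF_sound _ _ (checkPointF_eq cert) 190150 25 chkP_190150 i (by omega) (by omega)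
          · skip
            rcases Nat.lt_or_ge i 190300 with h6 | h6
            · skip
              rcases Nat.lt_or_ge i 190225 with h7 | h7
              · skip
                rcases Nat.lt_or_ge i 190200 with h8 | h8
                · skip
                  exact allRangeF_sound _ _ (checkPointF_eq cert) 190175 25 chkP_190175 i (by omega) (by omega)
                · skip
                  exact allRangeF_sound _ _ (checkPointF_eq cert) 190200 25 chkP_190200 i (by omega) (by omega)
              · skip
                rcases Nat.lt_or_ge i 190250 with h8 | h8
                · skip
                  exact allRangeF_sound _ _ (checkPointF_eq cert) 190225 25 chkP_190225 i (by omega) (by omega)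
                · skip
                  rcases Nat.lt_or_ge i 190275 with h9 | h9
                  · skip
                    exact allRangeF_sound _ _ (checkPointF_eq cert) 190250 25 chkP_190250 i (by omega) (by omega)
                  · skip
                    exact allRangeF_sound _ _ (checkPointF_eq cert) 190275 25 chkP_190275 i (by omega) (by omega)
            · skip
              rcases Nat.lt_or_ge i 190350 with h7 | h7
              · skip
                rcases Nat.lt_or_ge i 190325 with h8 | h8
                · skip
                  exact allRangeF_sound _ _ (checkPointF_eq cert) 190300 25 chkP_190300 i (by omega) (by omega)
                · skip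
                  exact allRangeF_sound _ _ (checkPointF_eq cert) 190325 25 chkP_190325 i (by omega) (by omega)
              · skip
                rcases Nat.lt_or_ge i 190375 with h8 | h8
                · skip
                  exact allRangeF_sound _ _ (checkPointF_eq cert) 190350 25 chkP_190350 i (by omega) (by omega)
                · skip
                  rcases Nat.lt_or_ge i 190400 with h9 | h9
                  · skip
                    exact allRangeF_sound _ _ (checkPointF_eq cert) 190375 25 chkP_190375 i (by omega) (by omega)
                  · skip
                    exact allRangeF_sound _ _ (checkPointF_eq cert) 190400 25 chkP_190400 i (by omega) (by omega)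
        · skip
          rcases Nat.lt_or_ge i 190650 with h5 | h5
          · skip
            rcases Nat.lt_or_ge i 190525 with h6 | h6
            · skip
              rcases Nat.lt_or_ge i 190475 with h7 | h7
              · skip
                rcases Nat.lt_or_ge i 190450 with h8 | h8
                · skip
                  exact allRangeF_sound _ _ (checkPointF_eq cert) 190425 25 chkP_190425 i (by omega) (by omega)
                · skip
                  exact allRangeF_sound _ _ (checkPointF_eq cert) 190450 25 chkP_190450 i (by omega) (by omega)
              · skip
                rcases Nat.lt_or_ge i 190500 with h8 | h8
                · skip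
                  exact allRangeF_sound _ _ (checkPointF_eq cert) 190475 25 chkP_190475 i (by omega) (by omega)
                · skip
                  exact allRangeF_sound _ _ (checkPointF_eq cert) 190500 25 chkP_190500 i (by omega) (by omega)
            · skip
              rcases Nat.lt_or_ge i 190575 with h7 | h7
              · skip
                rcases Nat.lt_or_ge i 190550 with h8 | h8
                · skip
                  exact allRangeF_sound _ _ (checkPointF_eq cert) 190525 25 chkP_190525 i (by omega) (by omega)
                · skip
                  exact allRangeF_sound _ _ (checkPointF_eq cert) 190550 25 chkP_190550 i (by omega) (by omega)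
              · skip
                rcases Nat.lt_or_ge i 190600 with h8 | h8
                · skip
                  exact allRangeF_sound _ _ (checkPointF_eq cert) 190575 25 chkP_190575 i (by omega) (by omega)
                · skip
                  rcases Nat.lt_or_ge i 190625 with h9 | h9
                  · skip
                    exact allRangeF_sound _ _ (checkPointF_eq cert) 190600 25 chkP_190600 i (by omega) (by omega)
                  · skip
                    exact allRangeF_sound _ _ (checkPointF_eq cert) 190625 25 chkP_190625 i (by omega) (by omega)
          · skip
            rcases Nat.lt_or_ge i 190775 with h6 | h6
            · skip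
              rcases Nat.lt_or_ge i 190700 with h7 | h7
              · skip
                rcases Nat.lt_or_ge i 190675 with h8 | h8
                · skip
                  exact allRangeF_sound _ _ (checkPointF_eq cert) 190650 25 chkP_190650 i (by omega) (by omega)
                · skip
                  exact allRangeF_sound _ _ (checkPointF_eq cert) 190675 25 chkP_190675 i (by omega) (by omega)
              · skip
                rcases Nat.lt_or_ge i 190725 with h8 | h8
                · skip
                  exact allRangeF_sound _ _ (checkPointF_eq cert) 190700 25 chkP_190700 i (by omega) (by omega)
                · skip
                  rcases Nat.lt_or_ge i 190750 with h9 | h9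
                  · skip
                    exact allRangeF_sound _ _ (checkPointF_eq cert) 190725 25 chkP_190725 i (by omega) (by omega)
                  · skip
                    exact allRangeF_sound _ _ (checkPointF_eq cert) 190750 25 chkP_190750 i (by omega) (by omega)
            · skip
              rcases Nat.lt_or_ge i 190825 with h7 | h7
              · skip
                rcases Nat.lt_or_ge i 190800 with h8 | h8
                · skip
                  exact allRangeF_sound _ _ (checkPointF_eq cert) 190775 25 chkP_190775 i (by omega) (by omega)
                · skip
                  exact allRangeF_sound _ _ (checkPointF_eq cert) 190800 25 chkP_190800 i (by omega) (by omega)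
              · skip
                rcases Nat.lt_or_ge i 190850 with h8 | h8
                · skip
                  exact allRangeF_sound _ _ (checkPointF_eq cert) 190825 25 chkP_190825 i (by omega) (by omega)
                · skip
                  rcases Nat.lt_or_ge i 190875 with h9 | h9
                  · skip
                    exact allRangeF_sound _ _ (checkPointF_eq cert) 190850 25 chkP_190850 i (by omega) (by omega)
                  · skip
                    exact allRangeF_sound _ _ (checkPointF_eq cert) 190875 25 chkP_190875 i (by omega) (by omega)
      · skip
        rcases Nat.lt_or_ge i 191375 with h4 | h4
        · skip
          rcases Nat.lt_or_ge i 191125 with h5 | h5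
          · skip
            rcases Nat.lt_or_ge i 191000 with h6 | h6
            · skip
              rcases Nat.lt_or_ge i 190950 with h7 | h7
              · skip
                rcases Nat.lt_or_ge i 190925 with h8 | h8
                · skip
                  exact allRangeF_sound _ _ (checkPointF_eq cert) 190900 25 chkP_190900 i (by omega) (by omega)
                · skip
                  exact allRangeF_sound _ _ (checkPointF_eq cert) 190925 25 chkP_190925 i (by omega) (by omega)
              · skip
                rcases Nat.lt_or_ge i 190975 with h8 | h8
                · skip
                  exact allRangeF_sound _ _ (checkPointF_eq cert) 190950 25 chkP_190950 i (by omega) (by omega)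
                · skip
                  exact allRangeF_sound _ _ (checkPointF_eq cert) 190975 25 chkP_190975 i (by omega) (by omega)
            · skip
              rcases Nat.lt_or_ge i 191050 with h7 | h7
              · skip
                rcases Nat.lt_or_ge i 191025 with h8 | h8
                · skip
                  exact allRangeF_sound _ _ (checkPointF_eq cert) 191000 25 chkP_191000 i (by omega) (by omega)
                · skip
                  exact allRangeF_sound _ _ (checkPointF_eq cert) 191025 25 chkP_191025 i (by omega) (by omega)
              · skip
                rcases Nat.lt_or_ge i 191075 with h8 | h8
                · skip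
                  exact allRangeF_sound _ _ (checkPointF_eq cert) 191050 25 chkP_191050 i (by omega) (by omega)
                · skip
                  rcases Nat.lt_or_ge i 191100 with h9 | h9
                  · skip
                    exact allRangeF_sound _ _ (checkPointF_eq cert) 191075 25 chkP_191075 i (by omega) (by omega)
                  · skip
                    exact allRangeF_sound _ _ (checkPointF_eq cert) 191100 25 chkP_191100 i (by omega) (by omega)
          · skip
            rcases Nat.lt_or_ge i 191250 with h6 | h6
            · skip
              rcases Nat.lt_or_ge i 191175 with h7 | h7
              · skip
                rcases Nat.lt_or_ge i 191150 with h8 | h8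
                · skip
                  exact allRangeF_sound _ _ (checkPointF_eq cert) 191125 25 chkP_191125 i (by omega) (by omega)
                · skip
                  exact allRangeF_sound _ _ (checkPointF_eq cert) 191150 25 chkP_191150 i (by omega) (by omega)
              · skip
                rcases Nat.lt_or_ge i 191200 with h8 | h8
                · skip
                  exact allRangeF_sound _ _ (checkPointF_eq cert) 191175 25 chkP_191175 i (by omega) (by omega)
                · skip
                  rcases Nat.lt_or_ge i 191225 with h9 | h9
                  · skip
                    exact allRangeF_sound _ _ (checkPointF_eq cert) 191200 25 chkP_191200 i (by omega) (by omega)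
                  · skip
                    exact allRangeF_sound _ _ (checkPointF_eq cert) 191225 25 chkP_191225 i (by omega) (by omega)
            · skip
              rcases Nat.lt_or_ge i 191300 with h7 | h7
              · skip
                rcases Nat.lt_or_ge i 191275 with h8 | h8
                · skip
                  exact allRangeF_sound _ _ (checkPointF_eq cert) 191250 25 chkP_191250 i (by omega) (by omega)
                · skip
                  exact allRangeF_sound _ _ (checkPointF_eq cert) 191275 25 chkP_191275 i (by omega) (by omega)
              · skip
                rcases Nat.lt_or_ge i 191325 with h8 | h8
                · skip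
                  exact allRangeF_sound _ _ (checkPointF_eq cert) 191300 25 chkP_191300 i (by omega) (by omega)
                · skip
                  rcases Nat.lt_or_ge i 191350 with h9 | h9
                  · skip
                    exact allRangeF_sound _ _ (checkPointF_eq cert) 191325 25 chkP_191325 i (by omega) (by omega)
                  · skip
                    exact allRangeF_sound _ _ (checkPointF_eq cert) 191350 25 chkP_191350 i (by omega) (by omega)
        · skip
          rcases Nat.lt_or_ge i 191625 with h5 | h5
          · skip
            rcases Nat.lt_or_ge i 191500 with h6 | h6
            · skip
              rcases Nat.lt_or_ge i 191425 with h7 | h7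
              · skip
                rcases Nat.lt_or_ge i 191400 with h8 | h8
                · skip
                  exact allRangeF_sound _ _ (checkPointF_eq cert) 191375 25 chkP_191375 i (by omega) (by omega)
                · skip
                  exact allRangeF_sound _ _ (checkPointF_eq cert) 191400 25 chkP_191400 i (by omega) (by omega)
              · skip
                rcases Nat.lt_or_ge i 191450 with h8 | h8
                · skip
                  exact allRangeF_sound _ _ (checkPointF_eq cert) 191425 25 chkP_191425 i (by omega) (by omega)
                · skip
                  rcases Nat.lt_or_ge i 191475 with h9 | h9
                  · skip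
                    exact allRangeF_sound _ _ (checkPointF_eq cert) 191450 25 chkP_191450 i (by omega) (by omega)
                  · skip
                    exact allRangeF_sound _ _ (checkPointF_eq cert) 191475 25 chkP_191475 i (by omega) (by omega)
            · skip
              rcases Nat.lt_or_ge i 191550 with h7 | h7
              · skip
                rcases Nat.lt_or_ge i 191525 with h8 | h8
                · skip
                  exact allRangeF_sound _ _ (checkPointF_eq cert) 191500 25 chkP_191500 i (by omega) (by omega)
                · skip
                  exact allRangeF_sound _ _ (checkPointF_eq cert) 191525 25 chkP_191525 i (by omega) (by omega)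
              · skip
                rcases Nat.lt_or_ge i 191575 with h8 | h8
                · skip
                  exact allRangeF_sound _ _ (checkPointF_eq cert) 191550 25 chkP_191550 i (by omega) (by omega)
                · skip
                  rcases Nat.lt_or_ge i 191600 with h9 | h9
                  · skip
                    exact allRangeF_sound _ _ (checkPointF_eq cert) 191575 25 chkP_191575 i (by omega) (by omega)
                  · skip
                    exact allRangeF_sound _ _ (checkPointF_eq cert) 191600 25 chkP_191600 i (by omega) (by omega)
          · skip
            rcases Nat.lt_or_ge i 191750 with h6 | h6
            · skip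
              rcases Nat.lt_or_ge i 191675 with h7 | h7
              · skip
                rcases Nat.lt_or_ge i 191650 with h8 | h8
                · skip
                  exact allRangeF_sound _ _ (checkPointF_eq cert) 191625 25 chkP_191625 i (by omega) (by omega)
                · skip
                  exact allRangeF_sound _ _ (checkPointF_eq cert) 191650 25 chkP_191650 i (by omega) (by omega)
              · skip
                rcases Nat.lt_or_ge i 191700 with h8 | h8
                · skip
                  exact allRangeF_sound _ _ (checkPointF_eq cert) 191675 25 chkP_191675 i (by omega) (by omega)
                · skip
                  rcases Nat.lt_or_ge i 191725 with h9 | h9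
                  · skip
                    exact allRangeF_sound _ _ (checkPointF_eq cert) 191700 25 chkP_191700 i (by omega) (by omega)
                  · skip
                    exact allRangeF_sound _ _ (checkPointF_eq cert) 191725 25 chkP_191725 i (by omega) (by omega)
            · skip
              rcases Nat.lt_or_ge i 191800 with h7 | h7
              · skip
                rcases Nat.lt_or_ge i 191775 with h8 | h8
                · skip
                  exact allRangeF_sound _ _ (checkPointF_eq cert) 191750 25 chkP_191750 i (by omega) (by omega)
                · skip
                  exact allRangeF_sound _ _ (checkPointF_eq cert) 191775 25 chkP_191775 i (by omega) (by omega)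
              · skip
                rcases Nat.lt_or_ge i 191825 with h8 | h8
                · skip
                  exact allRangeF_sound _ _ (checkPointF_eq cert) 191800 25 chkP_191800 i (by omega) (by omega)
                · skip
                  rcases Nat.lt_or_ge i 191850 with h9 | h9
                  · skip
                    exact allRangeF_sound _ _ (checkPointF_eq cert) 191825 25 chkP_191825 i (by omega) (by omega)
                  · skip
                    exact allRangeF_sound _ _ (checkPointF_eq cert) 191850 25 chkP_191850 i (by omega) (by omega)

end Cfsg.Agent.Lib.Helper28.Fi24Data
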