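import Cfsg.Agent.Lib.Helper28.Fi24Data
import Cfsg.Agent.Lib.Helper28.TCFastB

set_option autoImplicit false
set_option maxRecDepth 1000000
set_option linter.all false
set_option Elab.async false

namespace Cfsg.Agent.Lib.Helper28.Fi24Data

open Cfsg.Agent.Lib.Helper28B

theorem chkP_191875 : allRangeF (checkPointF cert) (nat_lit 191875) (nat_lit 25) = true := by decide +kernel
theorem chkP_191900 : allRangeF (checkPointF cert) (nat_lit 191900) (nat_lit 25) = true := by decide +kernel
theorem chkP_191925 : allRangeF (checkPointF cert) (nat_lit 191925) (nat_lit 25) = true := by decide +kernel
theorem chkP_191950 : allRangeF (checkPointF cert) (nat_lit 191950) (nat_lit 25) = true := by decide +kernel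
theorem chkP_191975 : allRangeF (checkPointF cert) (nat_lit 191975) (nat_lit 25) = true := by decide +kernel
theorem chkP_192000 : allRangeF (checkPointF cert) (nat_lit 192000) (nat_lit 25) = true := by decide +kernel
theorem chkP_192025 : allRangeF (checkPointF cert) (nat_lit 192025) (nat_lit 25) = true := by decide +kernel
theorem chkP_192050 : allRangeF (checkPointF cert) (nat_lit 192050) (nat_lit 25) = true := by decide +kernel
theorem chkP_192075 : allRangeF (checkPointF cert) (nat_lit 192075) (nat_lit 25) = true := by decide +kernel
theorem chkP_192100 : allRangeF (checkPointF cert) (nat_lit 192100) (nat_lit 25) = true := by decide +kernel
theorem chkP_192125 : allRangeF (checkPointF cert) (nat_lit 192125) (nat_lit 25) = true := by decide +kernel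
theorem chkP_192150 : allRangeF (checkPointF cert) (nat_lit 192150) (nat_lit 25) = true := by decide +kernel
theorem chkP_192175 : allRangeF (checkPointF cert) (nat_lit 192175) (nat_lit 25) = true := by decide +kernel
theorem chkP_192200 : allRangeF (checkPointF cert) (nat_lit 192200) (nat_lit 25) = true := by decide +kernel
theorem chkP_192225 : allRangeF (checkPointF cert) (nat_lit 192225) (nat_lit 25) = true := by decide +kernel
theorem chkP_192250 : allRangeF (checkPointF cert) (nat_lit 192250) (nat_lit 25) = true := by decide +kernel
theorem chkP_192275 : allRangeF (checkPointF cert) (nat_lit 192275) (nat_lit 25) = true := by decide +kernel
theorem chkP_192300 : allRangeF (checkPointF cert) (nat_lit 192300) (nat_lit 25) = true := by decide +kernel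
theorem chkP_192325 : allRangeF (checkPointF cert) (nat_lit 192325) (nat_lit 25) = true := by decide +kernel
theorem chkP_192350 : allRangeF (checkPointF cert) (nat_lit 192350) (nat_lit 25) = true := by decide +kernel
theorem chkP_192375 : allRangeF (checkPointF cert) (nat_lit 192375) (nat_lit 25) = true := by decide +kernel
theorem chkP_192400 : allRangeF (checkPointF cert) (nat_lit 192400) (nat_lit 25) = true := by decide +kernel
theorem chkP_192425 : allRangeF (checkPointF cert) (nat_lit 192425) (nat_lit 25) = true := by decide +kernel
theorem chkP_192450 : allRangeF (checkPointF cert) (nat_lit 192450) (nat_lit 25) = true := by decide +kernel
theorem chkP_192475 : allRangeF (checkPointF cert) (nat_lit 192475) (nat_lit 25) = true := by decide +kernel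
theorem chkP_192500 : allRangeF (checkPointF cert) (nat_lit 192500) (nat_lit 25) = true := by decide +kernel
theorem chkP_192525 : allRangeF (checkPointF cert) (nat_lit 192525) (nat_lit 25) = true := by decide +kernel
theorem chkP_192550 : allRangeF (checkPointF cert) (nat_lit 192550) (nat_lit 25) = true := by decide +kernel
theorem chkP_192575 : allRangeF (checkPointF cert) (nat_lit 192575) (nat_lit 25) = true := by decide +kernel
theorem chkP_192600 : allRangeF (checkPointF cert) (nat_lit 192600) (nat_lit 25) = true := by decide +kernel
theorem chkP_192625 : allRangeF (checkPointF cert) (nat_lit 192625) (nat_lit 25) = true := by decide +kernel
theorem chkP_192650 : allRangeF (checkPointF cert) (nat_lit 192650) (nat_lit 25) = true := by decide +kernel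
theorem chkP_192675 : allRangeF (checkPointF cert) (nat_lit 192675) (nat_lit 25) = true := by decide +kernel
theorem chkP_192700 : allRangeF (checkPointF cert) (nat_lit 192700) (nat_lit 25) = true := by decide +kernel
theorem chkP_192725 : allRangeF (checkPointF cert) (nat_lit 192725) (nat_lit 25) = true := by decide +kernel
theorem chkP_192750 : allRangeF (checkPointF cert) (nat_lit 192750) (nat_lit 25) = true := by decide +kernel
theorem chkP_192775 : allRangeF (checkPointF cert) (nat_lit 192775) (nat_lit 25) = true := by decide +kernel
theorem chkP_192800 : allRangeF (checkPointF cert) (nat_lit 192800) (nat_lit 25) = true := by decide +kernel
theorem chkP_192825 : allRangeF (checkPointF cert) (nat_lit 192825) (nat_lit 25) = true := by decide +kernel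
theorem chkP_192850 : allRangeF (checkPointF cert) (nat_lit 192850) (nat_lit 25) = true := by decide +kernel
theorem chkP_192875 : allRangeF (checkPointF cert) (nat_lit 192875) (nat_lit 25) = true := by decide +kernel
theorem chkP_192900 : allRangeF (checkPointF cert) (nat_lit 192900) (nat_lit 25) = true := by decide +kernel
theorem chkP_192925 : allRangeF (checkPointF cert) (nat_lit 192925) (nat_lit 25) = true := by decide +kernel
theorem chkP_192950 : allRangeF (checkPointF cert) (nat_lit 192950) (nat_lit 25) = true := by decide +kernel
theorem chkP_192975 : allRangeF (checkPointF cert) (nat_lit 192975) (nat_lit 25) = true := by decide +kernel
theorem chkP_193000 : allRangeF (checkPointF cert) (nat_lit 193000) (nat_lit 25) = true := by decide +kernel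
theorem chkP_193025 : allRangeF (checkPointF cert) (nat_lit 193025) (nat_lit 25) = true := by decide +kernel
theorem chkP_193050 : allRangeF (checkPointF cert) (nat_lit 193050) (nat_lit 25) = true := by decide +kernel
theorem chkP_193075 : allRangeF (checkPointF cert) (nat_lit 193075) (nat_lit 25) = true := by decide +kernel
theorem chkP_193100 : allRangeF (checkPointF cert) (nat_lit 193100) (nat_lit 25) = true := by decide +kernel
theorem chkP_193125 : allRangeF (checkPointF cert) (nat_lit 193125) (nat_lit 25) = true := by decide +kernel
theorem chkP_193150 : allRangeF (checkPointF cert) (nat_lit 193150) (nat_lit 25) = true := by decide +kernel
theorem chkP_193175 : allRangeF (checkPointF cert) (nat_lit 193175) (nat_lit 25) = true := by decide +kernel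
theorem chkP_193200 : allRangeF (checkPointF cert) (nat_lit 193200) (nat_lit 25) = true := by decide +kernel
theorem chkP_193225 : allRangeF (checkPointF cert) (nat_lit 193225) (nat_lit 25) = true := by decide +kernel
theorem chkP_193250 : allRangeF (checkPointF cert) (nat_lit 193250) (nat_lit 25) = true := by decide +kernel
theorem chkP_193275 : allRangeF (checkPointF cert) (nat_lit 193275) (nat_lit 25) = true := by decide +kernel
theorem chkP_193300 : allRangeF (checkPointF cert) (nat_lit 193300) (nat_lit 25) = true := by decide +kernel
theorem chkP_193325 : allRangeF (checkPointF cert) (nat_lit 193325) (nat_lit 25) = true := by decide +kernel
theorem chkP_193350 : allRangeF (checkPointF cert) (nat_lit 193350) (nat_lit 25) = true := by decide +kernel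
theorem chkP_193375 : allRangeF (checkPointF cert) (nat_lit 193375) (nat_lit 25) = true := by decide +kernel
theorem chkP_193400 : allRangeF (checkPointF cert) (nat_lit 193400) (nat_lit 25) = true := by decide +kernel
theorem chkP_193425 : allRangeF (checkPointF cert) (nat_lit 193425) (nat_lit 25) = true := by decide +kernel
theorem chkP_193450 : allRangeF (checkPointF cert) (nat_lit 193450) (nat_lit 25) = true := by decide +kernel
theorem chkP_193475 : allRangeF (checkPointF cert) (nat_lit 193475) (nat_lit 25) = true := by decide +kernel
theorem chkP_193500 : allRangeF (checkPointF cert) (nat_lit 193500) (nat_lit 25) = true := by decide +kernel
theorem chkP_193525 : allRangeF (checkPointF cert) (nat_lit 193525) (nat_lit 25) = true := by decide +kernel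
theorem chkP_193550 : allRangeF (checkPointF cert) (nat_lit 193550) (nat_lit 25) = true := by decide +kernel
theorem chkP_193575 : allRangeF (checkPointF cert) (nat_lit 193575) (nat_lit 25) = true := by decide +kernel
theorem chkP_193600 : allRangeF (checkPointF cert) (nat_lit 193600) (nat_lit 25) = true := by decide +kernel
theorem chkP_193625 : allRangeF (checkPointF cert) (nat_lit 193625) (nat_lit 25) = true := by decide +kernel
theorem chkP_193650 : allRangeF (checkPointF cert) (nat_lit 193650) (nat_lit 25) = true := by decide +kernel
theorem chkP_193675 : allRangeF (checkPointF cert) (nat_lit 193675) (nat_lit 25) = true := by decide +kernel
theorem chkP_193700 : allRangeF (checkPointF cert) (nat_lit 193700) (nat_lit 25) = true := by decide +kernel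
theorem chkP_193725 : allRangeF (checkPointF cert) (nat_lit 193725) (nat_lit 25) = true := by decide +kernel
theorem chkP_193750 : allRangeF (checkPointF cert) (nat_lit 193750) (nat_lit 25) = true := by decide +kernel
theorem chkP_193775 : allRangeF (checkPointF cert) (nat_lit 193775) (nat_lit 25) = true := by decide +kernel
theorem chkP_193800 : allRangeF (checkPointF cert) (nat_lit 193800) (nat_lit 25) = true := by decide +kernel
theorem chkP_193825 : allRangeF (checkPointF cert) (nat_lit 193825) (nat_lit 25) = true := by decide +kernel
theorem chkP_193850 : allRangeF (checkPointF cert) (nat_lit 193850) (nat_lit 25) = true := by decide +kernel
theorem chkP_193875 : allRangeF (checkPointF cert) (nat_lit 193875) (nat_lit 25) = true := by decide +kernel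
theorem chkP_193900 : allRangeF (checkPointF cert) (nat_lit 193900) (nat_lit 25) = true := by decide +kernel
theorem chkP_193925 : allRangeF (checkPointF cert) (nat_lit 193925) (nat_lit 25) = true := by decide +kernel
theorem chkP_193950 : allRangeF (checkPointF cert) (nat_lit 193950) (nat_lit 25) = true := by decide +kernel
theorem chkP_193975 : allRangeF (checkPointF cert) (nat_lit 193975) (nat_lit 25) = true := by decide +kernel
theorem chkP_194000 : allRangeF (checkPointF cert) (nat_lit 194000) (nat_lit 25) = true := by decide +kernel
theorem chkP_194025 : allRangeF (checkPointF cert) (nat_lit 194025) (nat_lit 25) = true := by decide +kernel
theorem chkP_194050 : allRangeF (checkPointF cert) (nat_lit 194050) (nat_lit 25) = true := by decide +kernel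
theorem chkP_194075 : allRangeF (checkPointF cert) (nat_lit 194075) (nat_lit 25) = true := by decide +kernel
theorem chkP_194100 : allRangeF (checkPointF cert) (nat_lit 194100) (nat_lit 25) = true := by decide +kernel
theorem chkP_194125 : allRangeF (checkPointF cert) (nat_lit 194125) (nat_lit 25) = true := by decide +kernel
theorem chkP_194150 : allRangeF (checkPointF cert) (nat_lit 194150) (nat_lit 25) = true := by decide +kernel
theorem chkP_194175 : allRangeF (checkPointF cert) (nat_lit 194175) (nat_lit 25) = true := by decide +kernel
theorem chkP_194200 : allRangeF (checkPointF cert) (nat_lit 194200) (nat_lit 25) = true := by decide +kernel
theorem chkP_194225 : allRangeF (checkPointF cert) (nat_lit 194225) (nat_lit 25) = true := by decide +kernel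
theorem chkP_194250 : allRangeF (checkPointF cert) (nat_lit 194250) (nat_lit 25) = true := by decide +kernel
theorem chkP_194275 : allRangeF (checkPointF cert) (nat_lit 194275) (nat_lit 25) = true := by decide +kernel
theorem chkP_194300 : allRangeF (checkPointF cert) (nat_lit 194300) (nat_lit 25) = true := by decide +kernel
theorem chkP_194325 : allRangeF (checkPointF cert) (nat_lit 194325) (nat_lit 25) = true := by decide +kernel
theorem chkP_194350 : allRangeF (checkPointF cert) (nat_lit 194350) (nat_lit 25) = true := by decide +kernel
theorem chkP_194375 : allRangeF (checkPointF cert) (nat_lit 194375) (nat_lit 25) = true := by decide +kernel
theorem chkP_194400 : allRangeF (checkPointF cert) (nat_lit 194400) (nat_lit 25) = true := by decide +kernel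
theorem chkP_194425 : allRangeF (checkPointF cert) (nat_lit 194425) (nat_lit 25) = true := by decide +kernel
theorem chkP_194450 : allRangeF (checkPointF cert) (nat_lit 194450) (nat_lit 25) = true := by decide +kernel
theorem chkP_194475 : allRangeF (checkPointF cert) (nat_lit 194475) (nat_lit 25) = true := by decide +kernel
theorem chkP_194500 : allRangeF (checkPointF cert) (nat_lit 194500) (nat_lit 25) = true := by decide +kernel
theorem chkP_194525 : allRangeF (checkPointF cert) (nat_lit 194525) (nat_lit 25) = true := by decide +kernel
theorem chkP_194550 : allRangeF (checkPointF cert) (nat_lit 194550) (nat_lit 25) = true := by decide +kernel
theorem chkP_194575 : allRangeF (checkPointF cert) (nat_lit 194575) (nat_lit 25) = true := by decide +kernel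
theorem chkP_194600 : allRangeF (checkPointF cert) (nat_lit 194600) (nat_lit 25) = true := by decide +kernel
theorem chkP_194625 : allRangeF (checkPointF cert) (nat_lit 194625) (nat_lit 25) = true := by decide +kernel
theorem chkP_194650 : allRangeF (checkPointF cert) (nat_lit 194650) (nat_lit 25) = true := by decide +kernel
theorem chkP_194675 : allRangeF (checkPointF cert) (nat_lit 194675) (nat_lit 25) = true := by decide +kernel
theorem chkP_194700 : allRangeF (checkPointF cert) (nat_lit 194700) (nat_lit 25) = true := by decide +kernel
theorem chkP_194725 : allRangeF (checkPointF cert) (nat_lit 194725) (nat_lit 25) = true := by decide +kernel
theorem chkP_194750 : allRangeF (checkPointF cert) (nat_lit 194750) (nat_lit 25) = true := by decide +kernel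
theorem chkP_194775 : allRangeF (checkPointF cert) (nat_lit 194775) (nat_lit 25) = true := by decide +kernel
theorem chkP_194800 : allRangeF (checkPointF cert) (nat_lit 194800) (nat_lit 25) = true := by decide +kernel
theorem chkP_194825 : allRangeF (checkPointF cert) (nat_lit 194825) (nat_lit 25) = true := by decide +kernel
theorem chkP_194850 : allRangeF (checkPointF cert) (nat_lit 194850) (nat_lit 25) = true := by decide +kernel
theorem chkP_194875 : allRangeF (checkPointF cert) (nat_lit 194875) (nat_lit 25) = true := by decide +kernel
theorem chkP_194900 : allRangeF (checkPointF cert) (nat_lit 194900) (nat_lit 25) = true := by decide +kernel
theorem chkP_194925 : allRangeF (checkPointF cert) (nat_lit 194925) (nat_lit 25) = true := by decide +kernel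
theorem chkP_194950 : allRangeF (checkPointF cert) (nat_lit 194950) (nat_lit 25) = true := by decide +kernel
theorem chkP_194975 : allRangeF (checkPointF cert) (nat_lit 194975) (nat_lit 25) = true := by decide +kernel
theorem chkP_195000 : allRangeF (checkPointF cert) (nat_lit 195000) (nat_lit 25) = true := by decide +kernel
theorem chkP_195025 : allRangeF (checkPointF cert) (nat_lit 195025) (nat_lit 25) = true := by decide +kernel
theorem chkP_195050 : allRangeF (checkPointF cert) (nat_lit 195050) (nat_lit 25) = true := by decide +kernel
theorem chkP_195075 : allRangeF (checkPointF cert) (nat_lit 195075) (nat_lit 25) = true := by decide +kernel
theorem chkP_195100 : allRangeF (checkPointF cert) (nat_lit 195100) (nat_lit 25) = true := by decide +kernel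
theorem chkP_195125 : allRangeF (checkPointF cert) (nat_lit 195125) (nat_lit 25) = true := by decide +kernel
theorem chkP_195150 : allRangeF (checkPointF cert) (nat_lit 195150) (nat_lit 25) = true := by decide +kernel
theorem chkP_195175 : allRangeF (checkPointF cert) (nat_lit 195175) (nat_lit 25) = true := by decide +kernel
theorem chkP_195200 : allRangeF (checkPointF cert) (nat_lit 195200) (nat_lit 25) = true := by decide +kernel
theorem chkP_195225 : allRangeF (checkPointF cert) (nat_lit 195225) (nat_lit 25) = true := by decide +kernel
theorem chkP_195250 : allRangeF (checkPointF cert) (nat_lit 195250) (nat_lit 25) = true := by decide +kernel
theorem chkP_195275 : allRangeF (checkPointF cert) (nat_lit 195275) (nat_lit 25) = true := by decide +kernel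
theorem chkP_195300 : allRangeF (checkPointF cert) (nat_lit 195300) (nat_lit 25) = true := by decide +kernel
theorem chkP_195325 : allRangeF (checkPointF cert) (nat_lit 195325) (nat_lit 25) = true := by decide +kernel
theorem chkP_195350 : allRangeF (checkPointF cert) (nat_lit 195350) (nat_lit 25) = true := by decide +kernel
theorem chkP_195375 : allRangeF (checkPointF cert) (nat_lit 195375) (nat_lit 25) = true := by decide +kernel
theorem chkP_195400 : allRangeF (checkPointF cert) (nat_lit 195400) (nat_lit 25) = true := by decide +kernel
theorem chkP_195425 : allRangeF (checkPointF cert) (nat_lit 195425) (nat_lit 25) = true := by decide +kernel
theorem chkP_195450 : allRangeF (checkPointF cert) (nat_lit 195450) (nat_lit 25) = true := by decide +kernel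
theorem chkP_195475 : allRangeF (checkPointF cert) (nat_lit 195475) (nat_lit 25) = true := by decide +kernel
theorem chkP_195500 : allRangeF (checkPointF cert) (nat_lit 195500) (nat_lit 25) = true := by decide +kernel
theorem chkP_195525 : allRangeF (checkPointF cert) (nat_lit 195525) (nat_lit 25) = true := by decide +kernel
theorem chkP_195550 : allRangeF (checkPointF cert) (nat_lit 195550) (nat_lit 25) = true := by decide +kernel
theorem chkP_195575 : allRangeF (checkPointF cert) (nat_lit 195575) (nat_lit 25) = true := by decide +kernel
theorem chkP_195600 : allRangeF (checkPointF cert) (nat_lit 195600) (nat_lit 25) = true := by decide +kernel
theorem chkP_195625 : allRangeF (checkPointF cert) (nat_lit 195625) (nat_lit 25) = true := by decide +kernel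
theorem chkP_195650 : allRangeF (checkPointF cert) (nat_lit 195650) (nat_lit 25) = true := by decide +kernel
theorem chkP_195675 : allRangeF (checkPointF cert) (nat_lit 195675) (nat_lit 25) = true := by decide +kernel
theorem chkP_195700 : allRangeF (checkPointF cert) (nat_lit 195700) (nat_lit 25) = true := by decide +kernel
theorem chkP_195725 : allRangeF (checkPointF cert) (nat_lit 195725) (nat_lit 25) = true := by decide +kernel
theorem chkP_195750 : allRangeF (checkPointF cert) (nat_lit 195750) (nat_lit 25) = true := by decide +kernel
theorem chkP_195775 : allRangeF (checkPointF cert) (nat_lit 195775) (nat_lit 25) = true := by decide +kernel
theorem chkP_195800 : allRangeF (checkPointF cert) (nat_lit 195800) (nat_lit 25) = true := by decide +kernel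
theorem chkP_195825 : allRangeF (checkPointF cert) (nat_lit 195825) (nat_lit 25) = true := by decide +kernel
theorem chkP_195850 : allRangeF (checkPointF cert) (nat_lit 195850) (nat_lit 25) = true := by decide +kernel
theorem chkP_195875 : allRangeF (checkPointF cert) (nat_lit 195875) (nat_lit 25) = true := by decide +kernel
theorem chkP_195900 : allRangeF (checkPointF cert) (nat_lit 195900) (nat_lit 25) = true := by decide +kernel
theorem chkP_195925 : allRangeF (checkPointF cert) (nat_lit 195925) (nat_lit 25) = true := by decide +kernel
theorem chkP_195950 : allRangeF (checkPointF cert) (nat_lit 195950) (nat_lit 25) = true := by decide +kernel
theorem chkP_195975 : allRangeF (checkPointF cert) (nat_lit 195975) (nat_lit 25) = true := by decide +kernel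
theorem chkP_196000 : allRangeF (checkPointF cert) (nat_lit 196000) (nat_lit 25) = true := by decide +kernel
theorem chkP_196025 : allRangeF (checkPointF cert) (nat_lit 196025) (nat_lit 25) = true := by decide +kernel
theorem chkP_196050 : allRangeF (checkPointF cert) (nat_lit 196050) (nat_lit 25) = true := by decide +kernel
theorem chkP_196075 : allRangeF (checkPointF cert) (nat_lit 196075) (nat_lit 25) = true := by decide +kernel
theorem chkP_196100 : allRangeF (checkPointF cert) (nat_lit 196100) (nat_lit 25) = true := by decide +kernel
theorem chkP_196125 : allRangeF (checkPointF cert) (nat_lit 196125) (nat_lit 25) = true := by decide +kernel
theorem chkP_196150 : allRangeF (checkPointF cert) (nat_lit 196150) (nat_lit 25) = true := by decide +kernel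
theorem chkP_196175 : allRangeF (checkPointF cert) (nat_lit 196175) (nat_lit 25) = true := by decide +kernel
theorem chkP_196200 : allRangeF (checkPointF cert) (nat_lit 196200) (nat_lit 25) = true := by decide +kernel
theorem chkP_196225 : allRangeF (checkPointF cert) (nat_lit 196225) (nat_lit 25) = true := by decide +kernel
theorem chkP_196250 : allRangeF (checkPointF cert) (nat_lit 196250) (nat_lit 25) = true := by decide +kernel
theorem chkP_196275 : allRangeF (checkPointF cert) (nat_lit 196275) (nat_lit 25) = true := by decide +kernel
theorem chkP_196300 : allRangeF (checkPointF cert) (nat_lit 196300) (nat_lit 25) = true := by decide +kernel
theorem chkP_196325 : allRangeF (checkPointF cert) (nat_lit 196325) (nat_lit 25) = true := by decide +kernel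
theorem chkP_196350 : allRangeF (checkPointF cert) (nat_lit 196350) (nat_lit 25) = true := by decide +kernel
theorem chkP_196375 : allRangeF (checkPointF cert) (nat_lit 196375) (nat_lit 25) = true := by decide +kernel
theorem chkP_196400 : allRangeF (checkPointF cert) (nat_lit 196400) (nat_lit 25) = true := by decide +kernel
theorem chkP_196425 : allRangeF (checkPointF cert) (nat_lit 196425) (nat_lit 25) = true := by decide +kernel
theorem chkP_196450 : allRangeF (checkPointF cert) (nat_lit 196450) (nat_lit 25) = true := by decide +kernel
theorem chkP_196475 : allRangeF (checkPointF cert) (nat_lit 196475) (nat_lit 25) = true := by decide +kernel
theorem chkP_196500 : allRangeF (checkPointF cert) (nat_lit 196500) (nat_lit 25) = true := by decide +kernel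
theorem chkP_196525 : allRangeF (checkPointF cert) (nat_lit 196525) (nat_lit 25) = true := by decide +kernel
theorem chkP_196550 : allRangeF (checkPointF cert) (nat_lit 196550) (nat_lit 25) = true := by decide +kernel
theorem chkP_196575 : allRangeF (checkPointF cert) (nat_lit 196575) (nat_lit 25) = true := by decide +kernel
theorem chkP_196600 : allRangeF (checkPointF cert) (nat_lit 196600) (nat_lit 25) = true := by decide +kernel
theorem chkP_196625 : allRangeF (checkPointF cert) (nat_lit 196625) (nat_lit 25) = true := by decide +kernel
theorem chkP_196650 : allRangeF (checkPointF cert) (nat_lit 196650) (nat_lit 25) = true := by decide +kernel
theorem chkP_196675 : allRangeF (checkPointF cert) (nat_lit 196675) (nat_lit 25) = true := by decide +kernel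
theorem chkP_196700 : allRangeF (checkPointF cert) (nat_lit 196700) (nat_lit 25) = true := by decide +kernel
theorem chkP_196725 : allRangeF (checkPointF cert) (nat_lit 196725) (nat_lit 25) = true := by decide +kernel
theorem chkP_196750 : allRangeF (checkPointF cert) (nat_lit 196750) (nat_lit 25) = true := by decide +kernel
theorem chkP_196775 : allRangeF (checkPointF cert) (nat_lit 196775) (nat_lit 25) = true := by decide +kernel
theorem chkP_196800 : allRangeF (checkPointF cert) (nat_lit 196800) (nat_lit 25) = true := by decide +kernel
theorem chkP_196825 : allRangeF (checkPointF cert) (nat_lit 196825) (nat_lit 25) = true := by decide +kernel
theorem chkP_196850 : allRangeF (checkPointF cert) (nat_lit 196850) (nat_lit 25) = true := by decide +kernel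
theorem chkP_196875 : allRangeF (checkPointF cert) (nat_lit 196875) (nat_lit 25) = true := by decide +kernel
theorem chkP_196900 : allRangeF (checkPointF cert) (nat_lit 196900) (nat_lit 25) = true := by decide +kernel
theorem chkP_196925 : allRangeF (checkPointF cert) (nat_lit 196925) (nat_lit 25) = true := by decide +kernel
theorem chkP_196950 : allRangeF (checkPointF cert) (nat_lit 196950) (nat_lit 25) = true := by decide +kernel
theorem chkP_196975 : allRangeF (checkPointF cert) (nat_lit 196975) (nat_lit 25) = true := by decide +kernel
theorem chkP_197000 : allRangeF (checkPointF cert) (nat_lit 197000) (nat_lit 25) = true := by decide +kernel
theorem chkP_197025 : allRangeF (checkPointF cert) (nat_lit 197025) (nat_lit 25) = true := by decide +kernel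
theorem chkP_197050 : allRangeF (checkPointF cert) (nat_lit 197050) (nat_lit 25) = true := by decide +kernel
theorem chkP_197075 : allRangeF (checkPointF cert) (nat_lit 197075) (nat_lit 25) = true := by decide +kernel
theorem chkP_197100 : allRangeF (checkPointF cert) (nat_lit 197100) (nat_lit 25) = true := by decide +kernel
theorem chkP_197125 : allRangeF (checkPointF cert) (nat_lit 197125) (nat_lit 25) = true := by decide +kernel
theorem chkP_197150 : allRangeF (checkPointF cert) (nat_lit 197150) (nat_lit 25) = true := by decide +kernel
theorem chkP_197175 : allRangeF (checkPointF cert) (nat_lit 197175) (nat_lit 25) = true := by decide +kernel
theorem chkP_197200 : allRangeF (checkPointF cert) (nat_lit 197200) (nat_lit 25) = true := by decide +kernel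
theorem chkP_197225 : allRangeF (checkPointF cert) (nat_lit 197225) (nat_lit 25) = true := by decide +kernel
theorem chkP_197250 : allRangeF (checkPointF cert) (nat_lit 197250) (nat_lit 25) = true := by decide +kernel
theorem chkP_197275 : allRangeF (checkPointF cert) (nat_lit 197275) (nat_lit 25) = true := by decide +kernel
theorem chkP_197300 : allRangeF (checkPointF cert) (nat_lit 197300) (nat_lit 25) = true := by decide +kernel
theorem chkP_197325 : allRangeF (checkPointF cert) (nat_lit 197325) (nat_lit 25) = true := by decide +kernel
theorem chkP_197350 : allRangeF (checkPointF cert) (nat_lit 197350) (nat_lit 25) = true := by decide +kernel
theorem chkP_197375 : allRangeF (checkPointF cert) (nat_lit 197375) (nat_lit 25) = true := by decide +kernel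
theorem chkP_197400 : allRangeF (checkPointF cert) (nat_lit 197400) (nat_lit 25) = true := by decide +kernel
theorem chkP_197425 : allRangeF (checkPointF cert) (nat_lit 197425) (nat_lit 25) = true := by decide +kernel
theorem chkP_197450 : allRangeF (checkPointF cert) (nat_lit 197450) (nat_lit 25) = true := by decide +kernel
theorem chkP_197475 : allRangeF (checkPointF cert) (nat_lit 197475) (nat_lit 25) = true := by decide +kernel
theorem chkP_197500 : allRangeF (checkPointF cert) (nat_lit 197500) (nat_lit 25) = true := by decide +kernel
theorem chkP_197525 : allRangeF (checkPointF cert) (nat_lit 197525) (nat_lit 25) = true := by decide +kernel
theorem chkP_197550 : allRangeF (checkPointF cert) (nat_lit 197550) (nat_lit 25) = true := by decide +kernel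
theorem chkP_197575 : allRangeF (checkPointF cert) (nat_lit 197575) (nat_lit 25) = true := by decide +kernel
theorem chkP_197600 : allRangeF (checkPointF cert) (nat_lit 197600) (nat_lit 25) = true := by decide +kernel
theorem chkP_197625 : allRangeF (checkPointF cert) (nat_lit 197625) (nat_lit 25) = true := by decide +kernel
theorem chkP_197650 : allRangeF (checkPointF cert) (nat_lit 197650) (nat_lit 25) = true := by decide +kernel
theorem chkP_197675 : allRangeF (checkPointF cert) (nat_lit 197675) (nat_lit 25) = true := by decide +kernel
theorem chkP_197700 : allRangeF (checkPointF cert) (nat_lit 197700) (nat_lit 25) = true := by decide +kernel
theorem chkP_197725 : allRangeF (checkPointF cert) (nat_lit 197725) (nat_lit 25) = true := by decide +kernel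
theorem chkP_197750 : allRangeF (checkPointF cert) (nat_lit 197750) (nat_lit 25) = true := by decide +kernel
theorem chkP_197775 : allRangeF (checkPointF cert) (nat_lit 197775) (nat_lit 25) = true := by decide +kernel
theorem chkP_197800 : allRangeF (checkPointF cert) (nat_lit 197800) (nat_lit 25) = true := by decide +kernel
theorem chkP_197825 : allRangeF (checkPointF cert) (nat_lit 197825) (nat_lit 25) = true := by decide +kernel
theorem chkP_197850 : allRangeF (checkPointF cert) (nat_lit 197850) (nat_lit 25) = true := by decide +kernel
theorem chkP_197875 : allRangeF (checkPointF cert) (nat_lit 197875) (nat_lit 25) = true := by decide +kernel
theorem chkP_197900 : allRangeF (checkPointF cert) (nat_lit 197900) (nat_lit 25) = true := by decide +kernel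
theorem chkP_197925 : allRangeF (checkPointF cert) (nat_lit 197925) (nat_lit 25) = true := by decide +kernel
theorem chkP_197950 : allRangeF (checkPointF cert) (nat_lit 197950) (nat_lit 25) = true := by decide +kernel
theorem chkP_197975 : allRangeF (checkPointF cert) (nat_lit 197975) (nat_lit 25) = true := by decide +kernel
theorem chkP_198000 : allRangeF (checkPointF cert) (nat_lit 198000) (nat_lit 25) = true := by decide +kernel
theorem chkP_198025 : allRangeF (checkPointF cert) (nat_lit 198025) (nat_lit 25) = true := by decide +kernel
theorem chkP_198050 : allRangeF (checkPointF cert) (nat_lit 198050) (nat_lit 25) = true := by decide +kernel
theorem chkP_198075 : allRangeF (checkPointF cert) (nat_lit 198075) (nat_lit 25) = true := by decide +kernel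
theorem chkP_198100 : allRangeF (checkPointF cert) (nat_lit 198100) (nat_lit 25) = true := by decide +kernel
theorem chkP_198125 : allRangeF (checkPointF cert) (nat_lit 198125) (nat_lit 25) = true := by decide +kernel
theorem chkP_198150 : allRangeF (checkPointF cert) (nat_lit 198150) (nat_lit 25) = true := by decide +kernel
theorem chkP_198175 : allRangeF (checkPointF cert) (nat_lit 198175) (nat_lit 25) = true := by decide +kernel
theorem chkP_198200 : allRangeF (checkPointF cert) (nat_lit 198200) (nat_lit 25) = true := by decide +kernel
theorem chkP_198225 : allRangeF (checkPointF cert) (nat_lit 198225) (nat_lit 25) = true := by decide +kernel
theorem chkP_198250 : allRangeF (checkPointF cert) (nat_lit 198250) (nat_lit 25) = true := by decide +kernel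
theorem chkP_198275 : allRangeF (checkPointF cert) (nat_lit 198275) (nat_lit 25) = true := by decide +kernel
theorem chkP_198300 : allRangeF (checkPointF cert) (nat_lit 198300) (nat_lit 25) = true := by decide +kernel
theorem chkP_198325 : allRangeF (checkPointF cert) (nat_lit 198325) (nat_lit 25) = true := by decide +kernel
theorem chkP_198350 : allRangeF (checkPointF cert) (nat_lit 198350) (nat_lit 25) = true := by decide +kernel
theorem chkP_198375 : allRangeF (checkPointF cert) (nat_lit 198375) (nat_lit 25) = true := by decide +kernel
theorem chkP_198400 : allRangeF (checkPointF cert) (nat_lit 198400) (nat_lit 25) = true := by decide +kernel
theorem chkP_198425 : allRangeF (checkPointF cert) (nat_lit 198425) (nat_lit 25) = true := by decide +kernel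
theorem chkP_198450 : allRangeF (checkPointF cert) (nat_lit 198450) (nat_lit 25) = true := by decide +kernel
theorem chkP_198475 : allRangeF (checkPointF cert) (nat_lit 198475) (nat_lit 25) = true := by decide +kernel
theorem chkP_198500 : allRangeF (checkPointF cert) (nat_lit 198500) (nat_lit 25) = true := by decide +kernel
theorem chkP_198525 : allRangeF (checkPointF cert) (nat_lit 198525) (nat_lit 25) = true := by decide +kernel
theorem chkP_198550 : allRangeF (checkPointF cert) (nat_lit 198550) (nat_lit 25) = true := by decide +kernel
theorem chkP_198575 : allRangeF (checkPointF cert) (nat_lit 198575) (nat_lit 25) = true := by decide +kernel
theorem chkP_198600 : allRangeF (checkPointF cert) (nat_lit 198600) (nat_lit 25) = true := by decide +kernel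
theorem chkP_198625 : allRangeF (checkPointF cert) (nat_lit 198625) (nat_lit 25) = true := by decide +kernel
theorem chkP_198650 : allRangeF (checkPointF cert) (nat_lit 198650) (nat_lit 25) = true := by decide +kernel
theorem chkP_198675 : allRangeF (checkPointF cert) (nat_lit 198675) (nat_lit 25) = true := by decide +kernel
theorem chkP_198700 : allRangeF (checkPointF cert) (nat_lit 198700) (nat_lit 25) = true := by decide +kernel
theorem chkP_198725 : allRangeF (checkPointF cert) (nat_lit 198725) (nat_lit 25) = true := by decide +kernel
theorem chkP_198750 : allRangeF (checkPointF cert) (nat_lit 198750) (nat_lit 25) = true := by decide +kernel
theorem chkP_198775 : allRangeF (checkPointF cert) (nat_lit 198775) (nat_lit 25) = true := by decide +kernel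
theorem chkP_198800 : allRangeF (checkPointF cert) (nat_lit 198800) (nat_lit 25) = true := by decide +kernel
theorem chkP_198825 : allRangeF (checkPointF cert) (nat_lit 198825) (nat_lit 25) = true := by decide +kernel
theorem chkP_198850 : allRangeF (checkPointF cert) (nat_lit 198850) (nat_lit 25) = true := by decide +kernel
theorem chkP_198875 : allRangeF (checkPointF cert) (nat_lit 198875) (nat_lit 25) = true := by decide +kernel
theorem chkP_198900 : allRangeF (checkPointF cert) (nat_lit 198900) (nat_lit 25) = true := by decide +kernel
theorem chkP_198925 : allRangeF (checkPointF cert) (nat_lit 198925) (nat_lit 25) = true := by decide +kernel
theorem chkP_198950 : allRangeF (checkPointF cert) (nat_lit 198950) (nat_lit 25) = true := by decide +kernel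
theorem chkP_198975 : allRangeF (checkPointF cert) (nat_lit 198975) (nat_lit 25) = true := by decide +kernel
theorem chkP_199000 : allRangeF (checkPointF cert) (nat_lit 199000) (nat_lit 25) = true := by decide +kernel
theorem chkP_199025 : allRangeF (checkPointF cert) (nat_lit 199025) (nat_lit 25) = true := by decide +kernel
theorem chkP_199050 : allRangeF (checkPointF cert) (nat_lit 199050) (nat_lit 25) = true := by decide +kernel
theorem chkP_199075 : allRangeF (checkPointF cert) (nat_lit 199075) (nat_lit 25) = true := by decide +kernel
theorem chkP_199100 : allRangeF (checkPointF cert) (nat_lit 199100) (nat_lit 25) = true := by decide +kernel
theorem chkP_199125 : allRangeF (checkPointF cert) (nat_lit 199125) (nat_lit 25) = true := by decide +kernel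
theorem chkP_199150 : allRangeF (checkPointF cert) (nat_lit 199150) (nat_lit 25) = true := by decide +kernel
theorem chkP_199175 : allRangeF (checkPointF cert) (nat_lit 199175) (nat_lit 25) = true := by decide +kernel
theorem chkP_199200 : allRangeF (checkPointF cert) (nat_lit 199200) (nat_lit 25) = true := by decide +kernel
theorem chkP_199225 : allRangeF (checkPointF cert) (nat_lit 199225) (nat_lit 25) = true := by decide +kernel
theorem chkP_199250 : allRangeF (checkPointF cert) (nat_lit 199250) (nat_lit 25) = true := by decide +kernel
theorem chkP_199275 : allRangeF (checkPointF cert) (nat_lit 199275) (nat_lit 25) = true := by decide +kernel
theorem chkP_199300 : allRangeF (checkPointF cert) (nat_lit 199300) (nat_lit 25) = true := by decide +kernel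
theorem chkP_199325 : allRangeF (checkPointF cert) (nat_lit 199325) (nat_lit 25) = true := by decide +kernel
theorem chkP_199350 : allRangeF (checkPointF cert) (nat_lit 199350) (nat_lit 25) = true := by decide +kernel
theorem chkP_199375 : allRangeF (checkPointF cert) (nat_lit 199375) (nat_lit 25) = true := by decide +kernel
theorem chkP_199400 : allRangeF (checkPointF cert) (nat_lit 199400) (nat_lit 25) = true := by decide +kernel
theorem chkP_199425 : allRangeF (checkPointF cert) (nat_lit 199425) (nat_lit 25) = true := by decide +kernel
theorem chkP_199450 : allRangeF (checkPointF cert) (nat_lit 199450) (nat_lit 25) = true := by decide +kernel
theorem chkP_199475 : allRangeF (checkPointF cert) (nat_lit 199475) (nat_lit 25) = true := by decide +kernel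
theorem chkP_199500 : allRangeF (checkPointF cert) (nat_lit 199500) (nat_lit 25) = true := by decide +kernel
theorem chkP_199525 : allRangeF (checkPointF cert) (nat_lit 199525) (nat_lit 25) = true := by decide +kernel

theorem ptsRange_25 : ∀ i, 191875 ≤ i → i < 199550 → checkPoint cert i = true := by
  intro i hlo hhi
  rcases Nat.lt_or_ge i 195700 with h1 | h1
  · skip
    rcases Nat.lt_or_ge i 193775 with h2 | h2
    · skip
      rcases Nat.lt_or_ge i 192825 with h3 | h3
      · skip
        rcases Nat.lt_or_ge i 192350 with h4 | h4
        · skip
          rcases Nat.lt_or_ge i 192100 with h5 | h5
          · skip
            rcases Nat.lt_or_ge i 191975 with h6 | h6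
            · skip
              rcases Nat.lt_or_ge i 191925 with h7 | h7
              · skip
                rcases Nat.lt_or_ge i 191900 with h8 | h8
                · skip
                  exact allRangeF_sound _ _ (checkPointF_eq cert) 191875 25 chkP_191875 i (by omega) (by omega)
                · skip
                  exact allRangeF_sound _ _ (checkPointF_eq cert) 191900 25 chkP_191900 i (by omega) (by omega)
              · skip
                rcases Nat.lt_or_ge i 191950 with h8 | h8
                · skip
                  exact allRangeF_sound _ _ (checkPointF_eq cert) 191925 25 chkP_191925 i (by omega) (by omega)
                · skip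
                  exact allRangeF_sound _ _ (checkPointF_eq cert) 191950 25 chkP_191950 i (by omega) (by omega)
            · skip
              rcases Nat.lt_or_ge i 192025 with h7 | h7
              · skip
                rcases Nat.lt_or_ge i 192000 with h8 | h8
                · skip
                  exact allRangeF_sound _ _ (checkPointF_eq cert) 191975 25 chkP_191975 i (by omega) (by omega)
                · skip
                  exact allRangeF_sound _ _ (checkPointF_eq cert) 192000 25 chkP_192000 i (by omega) (by omega)
              · skip
                rcases Nat.lt_or_ge i 192050 with h8 | h8
                · skip
                  exact allRangeF_sound _ _ (checkPointF_eq cert) 192025 25 chkP_192025 i (by omega) (by omega)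
                · skip
                  rcases Nat.lt_or_ge i 192075 with h9 | h9
                  · skip
                    exact allRangeF_sound _ _ (checkPointF_eq cert) 192050 25 chkP_192050 i (by omega) (by omega)
                  · skip
                    exact allRangeF_sound _ _ (checkPointF_eq cert) 192075 25 chkP_192075 i (by omega) (by omega)
          · skip
            rcases Nat.lt_or_ge i 192225 with h6 | h6
            · skip
              rcases Nat.lt_or_ge i 192150 with h7 | h7
              · skip
                rcases Nat.lt_or_ge i 192125 with h8 | h8
                · skip
                  exact allRangeF_sound _ _ (checkPointF_eq cert) 192100 25 chkP_192100 i (by omega) (by omega)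
                · skip
                  exact allRangeF_sound _ _ (checkPointF_eq cert) 192125 25 chkP_192125 i (by omega) (by omega)
              · skip
                rcases Nat.lt_or_ge i 192175 with h8 | h8
                · skip
                  exact allRangeF_sound _ _ (checkPointF_eq cert) 192150 25 chkP_192150 i (by omega) (by omega)
                · skip
                  rcases Nat.lt_or_ge i 192200 with h9 | h9
                  · skip
                    exact allRangeF_sound _ _ (checkPointF_eq cert) 192175 25 chkP_192175 i (by omega) (by omega)
                  · skip
                    exact allRangeF_sound _ _ (checkPointF_eq cert) 192200 25 chkP_192200 i (by omega) (by omega)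
            · skip
              rcases Nat.lt_or_ge i 192275 with h7 | h7
              · skip
                rcases Nat.lt_or_ge i 192250 with h8 | h8
                · skip
                  exact allRangeF_sound _ _ (checkPointF_eq cert) 192225 25 chkP_192225 i (by omega) (by omega)
                · skip
                  exact allRangeF_sound _ _ (checkPointF_eq cert) 192250 25 chkP_192250 i (by omega) (by omega)
              · skip
                rcases Nat.lt_or_ge i 192300 with h8 | h8
                · skip
                  exact allRangeF_sound _ _ (checkPointF_eq cert) 192275 25 chkP_192275 i (by omega) (by omega)
                · skip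
                  rcases Nat.lt_or_ge i 192325 with h9 | h9
                  · skip
                    exact allRangeF_sound _ _ (checkPointF_eq cert) 192300 25 chkP_192300 i (by omega) (by omega)
                  · skip
                    exact allRangeF_sound _ _ (checkPointF_eq cert) 192325 25 chkP_192325 i (by omega) (by omega)
        · skip
          rcases Nat.lt_or_ge i 192575 with h5 | h5
          · skip
            rcases Nat.lt_or_ge i 192450 with h6 | h6
            · skip
              rcases Nat.lt_or_ge i 192400 with h7 | h7
              · skip
                rcases Nat.lt_or_ge i 192375 with h8 | h8
                · skip
                  exact allRangeF_sound _ _ (checkPointF_eq cert) 192350 25 chkP_192350 i (by omega) (by omega)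
                · skip
                  exact allRangeF_sound _ _ (checkPointF_eq cert) 192375 25 chkP_192375 i (by omega) (by omega)
              · skip
                rcases Nat.lt_or_ge i 192425 with h8 | h8
                · skip
                  exact allRangeF_sound _ _ (checkPointF_eq cert) 192400 25 chkP_192400 i (by omega) (by omega)
                · skip
                  exact allRangeF_sound _ _ (checkPointF_eq cert) 192425 25 chkP_192425 i (by omega) (by omega)
            · skip
              rcases Nat.lt_or_ge i 192500 with h7 | h7
              · skip
                rcases Nat.lt_or_ge i 192475 with h8 | h8
                · skip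
                  exact allRangeF_sound _ _ (checkPointF_eq cert) 192450 25 chkP_192450 i (by omega) (by omega)
                · skip
                  exact allRangeF_sound _ _ (checkPointF_eq cert) 192475 25 chkP_192475 i (by omega) (by omega)
              · skip
                rcases Nat.lt_or_ge i 192525 with h8 | h8
                · skip
                  exact allRangeF_sound _ _ (checkPointF_eq cert) 192500 25 chkP_192500 i (by omega) (by omega)
                · skip
                  rcases Nat.lt_or_ge i 192550 with h9 | h9
                  · skip
                    exact allRangeF_sound _ _ (checkPointF_eq cert) 192525 25 chkP_192525 i (by omega) (by omega)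
                  · skip
                    exact allRangeF_sound _ _ (checkPointF_eq cert) 192550 25 chkP_192550 i (by omega) (by omega)
          · skip
            rcases Nat.lt_or_ge i 192700 with h6 | h6
            · skip
              rcases Nat.lt_or_ge i 192625 with h7 | h7
              · skip
                rcases Nat.lt_or_ge i 192600 with h8 | h8
                · skip
                  exact allRangeF_sound _ _ (checkPointF_eq cert) 192575 25 chkP_192575 i (by omega) (by omega)
                · skip
                  exact allRangeF_sound _ _ (checkPointF_eq cert) 192600 25 chkP_192600 i (by omega) (by omega)
              · skip
                rcases Nat.lt_or_ge i 192650 with h8 | h8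
                · skip
                  exact allRangeF_sound _ _ (checkPointF_eq cert) 192625 25 chkP_192625 i (by omega) (by omega)
                · skip
                  rcases Nat.lt_or_ge i 192675 with h9 | h9
                  · skip
                    exact allRangeF_sound _ _ (checkPointF_eq cert) 192650 25 chkP_192650 i (by omega) (by omega)
                  · skip
                    exact allRangeF_sound _ _ (checkPointF_eq cert) 192675 25 chkP_192675 i (by omega) (by omega)
            · skip
              rcases Nat.lt_or_ge i 192750 with h7 | h7
              · skip
                rcases Nat.lt_or_ge i 192725 with h8 | h8
                · skip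
                  exact allRangeF_sound _ _ (checkPointF_eq cert) 192700 25 chkP_192700 i (by omega) (by omega)
                · skip
                  exact allRangeF_sound _ _ (checkPointF_eq cert) 192725 25 chkP_192725 i (by omega) (by omega)
              · skip
                rcases Nat.lt_or_ge i 192775 with h8 | h8
                · skip
                  exact allRangeF_sound _ _ (checkPointF_eq cert) 192750 25 chkP_192750 i (by omega) (by omega)
                · skip
                  rcases Nat.lt_or_ge i 192800 with h9 | h9
                  · skip
                    exact allRangeF_sound _ _ (checkPointF_eq cert) 192775 25 chkP_192775 i (by omega) (by omega)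
                  · skip
                    exact allRangeF_sound _ _ (checkPointF_eq cert) 192800 25 chkP_192800 i (by omega) (by omega)
      · skip
        rcases Nat.lt_or_ge i 193300 with h4 | h4
        · skip
          rcases Nat.lt_or_ge i 193050 with h5 | h5
          · skip
            rcases Nat.lt_or_ge i 192925 with h6 | h6
            · skip
              rcases Nat.lt_or_ge i 192875 with h7 | h7
              · skip
                rcases Nat.lt_or_ge i 192850 with h8 | h8
                · skip
                  exact allRangeF_sound _ _ (checkPointF_eq cert) 192825 25 chkP_192825 i (by omega) (by omega)
                · skip
                  exact allRangeF_sound _ _ (checkPointF_eq cert) 192850 25 chkP_192850 i (by omega) (by omega)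
              · skip
                rcases Nat.lt_or_ge i 192900 with h8 | h8
                · skip
                  exact allRangeF_sound _ _ (checkPointF_eq cert) 192875 25 chkP_192875 i (by omega) (by omega)
                · skip
                  exact allRangeF_sound _ _ (checkPointF_eq cert) 192900 25 chkP_192900 i (by omega) (by omega)
            · skip
              rcases Nat.lt_or_ge i 192975 with h7 | h7
              · skip
                rcases Nat.lt_or_ge i 192950 with h8 | h8
                · skip
                  exact allRangeF_sound _ _ (checkPointF_eq cert) 192925 25 chkP_192925 i (by omega) (by omega)
                · skip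
                  exact allRangeF_sound _ _ (checkPointF_eq cert) 192950 25 chkP_192950 i (by omega) (by omega)
              · skip
                rcases Nat.lt_or_ge i 193000 with h8 | h8
                · skip
                  exact allRangeF_sound _ _ (checkPointF_eq cert) 192975 25 chkP_192975 i (by omega) (by omega)
                · skip
                  rcases Nat.lt_or_ge i 193025 with h9 | h9
                  · skip
                    exact allRangeF_sound _ _ (checkPointF_eq cert) 193000 25 chkP_193000 i (by omega) (by omega)
                  · skip
                    exact allRangeF_sound _ _ (checkPointF_eq cert) 193025 25 chkP_193025 i (by omega) (by omega)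
          · skip
            rcases Nat.lt_or_ge i 193175 with h6 | h6
            · skip
              rcases Nat.lt_or_ge i 193100 with h7 | h7
              · skip
                rcases Nat.lt_or_ge i 193075 with h8 | h8
                · skip
                  exact allRangeF_sound _ _ (checkPointF_eq cert) 193050 25 chkP_193050 i (by omega) (by omega)
                · skip
                  exact allRangeF_sound _ _ (checkPointF_eq cert) 193075 25 chkP_193075 i (by omega) (by omega)
              · skip
                rcases Nat.lt_or_ge i 193125 with h8 | h8
                · skip
                  exact allRangeF_sound _ _ (checkPointF_eq cert) 193100 25 chkP_193100 i (by omega) (by omega)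
                · skip
                  rcases Nat.lt_or_ge i 193150 with h9 | h9
                  · skip
                    exact allRangeF_sound _ _ (checkPointF_eq cert) 193125 25 chkP_193125 i (by omega) (by omega)
                  · skip
                    exact allRangeF_sound _ _ (checkPointF_eq cert) 193150 25 chkP_193150 i (by omega) (by omega)
            · skip
              rcases Nat.lt_or_ge i 193225 with h7 | h7
              · skip
                rcases Nat.lt_or_ge i 193200 with h8 | h8
                · skip
                  exact allRangeF_sound _ _ (checkPointF_eq cert) 193175 25 chkP_193175 i (by omega) (by omega)
                · skip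
                  exact allRangeF_sound _ _ (checkPointF_eq cert) 193200 25 chkP_193200 i (by omega) (by omega)
              · skip
                rcases Nat.lt_or_ge i 193250 with h8 | h8
                · skip
                  exact allRangeF_sound _ _ (checkPointF_eq cert) 193225 25 chkP_193225 i (by omega) (by omega)
                · skip
                  rcases Nat.lt_or_ge i 193275 with h9 | h9
                  · skip
                    exact allRangeF_sound _ _ (checkPointF_eq cert) 193250 25 chkP_193250 i (by omega) (by omega)
                  · skip
                    exact allRangeF_sound _ _ (checkPointF_eq cert) 193275 25 chkP_193275 i (by omega) (by omega)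
        · skip
          rcases Nat.lt_or_ge i 193525 with h5 | h5
          · skip
            rcases Nat.lt_or_ge i 193400 with h6 | h6
            · skip
              rcases Nat.lt_or_ge i 193350 with h7 | h7
              · skip
                rcases Nat.lt_or_ge i 193325 with h8 | h8
                · skip
                  exact allRangeF_sound _ _ (checkPointF_eq cert) 193300 25 chkP_193300 i (by omega) (by omega)
                · skip
                  exact allRangeF_sound _ _ (checkPointF_eq cert) 193325 25 chkP_193325 i (by omega) (by omega)
              · skip
                rcases Nat.lt_or_ge i 193375 with h8 | h8
                · skip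
                  exact allRangeF_sound _ _ (checkPointF_eq cert) 193350 25 chkP_193350 i (by omega) (by omega)
                · skip
                  exact allRangeF_sound _ _ (checkPointF_eq cert) 193375 25 chkP_193375 i (by omega) (by omega)
            · skip
              rcases Nat.lt_or_ge i 193450 with h7 | h7
              · skip
                rcases Nat.lt_or_ge i 193425 with h8 | h8
                · skip
                  exact allRangeF_sound _ _ (checkPointF_eq cert) 193400 25 chkP_193400 i (by omega) (by omega)
                · skip
                  exact allRangeF_sound _ _ (checkPointF_eq cert) 193425 25 chkP_193425 i (by omega) (by omega)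
              · skip
                rcases Nat.lt_or_ge i 193475 with h8 | h8
                · skip
                  exact allRangeF_sound _ _ (checkPointF_eq cert) 193450 25 chkP_193450 i (by omega) (by omega)
                · skip
                  rcases Nat.lt_or_ge i 193500 with h9 | h9
                  · skip
                    exact allRangeF_sound _ _ (checkPointF_eq cert) 193475 25 chkP_193475 i (by omega) (by omega)
                  · skip
                    exact allRangeF_sound _ _ (checkPointF_eq cert) 193500 25 chkP_193500 i (by omega) (by omega)
          · skip
            rcases Nat.lt_or_ge i 193650 with h6 | h6
            · skip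
              rcases Nat.lt_or_ge i 193575 with h7 | h7
              · skip
                rcases Nat.lt_or_ge i 193550 with h8 | h8
                · skip
                  exact allRangeF_sound _ _ (checkPointF_eq cert) 193525 25 chkP_193525 i (by omega) (by omega)
                · skip
                  exact allRangeF_sound _ _ (checkPointF_eq cert) 193550 25 chkP_193550 i (by omega) (by omega)
              · skip
                rcases Nat.lt_or_ge i 193600 with h8 | h8
                · skip
                  exact allRangeF_sound _ _ (checkPointF_eq cert) 193575 25 chkP_193575 i (by omega) (by omega)
                · skip
                  rcases Nat.lt_or_ge i 193625 with h9 | h9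
                  · skip
                    exact allRangeF_sound _ _ (checkPointF_eq cert) 193600 25 chkP_193600 i (by omega) (by omega)
                  · skip
                    exact allRangeF_sound _ _ (checkPointF_eq cert) 193625 25 chkP_193625 i (by omega) (by omega)
            · skip
              rcases Nat.lt_or_ge i 193700 with h7 | h7
              · skip
                rcases Nat.lt_or_ge i 193675 with h8 | h8
                · skip
                  exact allRangeF_sound _ _ (checkPointF_eq cert) 193650 25 chkP_193650 i (by omega) (by omega)
                · skip
                  exact allRangeF_sound _ _ (checkPointF_eq cert) 193675 25 chkP_193675 i (by omega) (by omega)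
              · skip
                rcases Nat.lt_or_ge i 193725 with h8 | h8
                · skip
                  exact allRangeF_sound _ _ (checkPointF_eq cert) 193700 25 chkP_193700 i (by omega) (by omega)
                · skip
                  rcases Nat.lt_or_ge i 193750 with h9 | h9
                  · skip
                    exact allRangeF_sound _ _ (checkPointF_eq cert) 193725 25 chkP_193725 i (by omega) (by omega)
                  · skip
                    exact allRangeF_sound _ _ (checkPointF_eq cert) 193750 25 chkP_193750 i (by omega) (by omega)
    · skip
      rcases Nat.lt_or_ge i 194725 with h3 | h3
      · skip
        rcases Nat.lt_or_ge i 194250 with h4 | h4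
        · skip
          rcases Nat.lt_or_ge i 194000 with h5 | h5
          · skip
            rcases Nat.lt_or_ge i 193875 with h6 | h6
            · skip
              rcases Nat.lt_or_ge i 193825 with h7 | h7
              · skip
                rcases Nat.lt_or_ge i 193800 with h8 | h8
                · skip
                  exact allRangeF_sound _ _ (checkPointF_eq cert) 193775 25 chkP_193775 i (by omega) (by omega)
                · skip
                  exact allRangeF_sound _ _ (checkPointF_eq cert) 193800 25 chkP_193800 i (by omega) (by omega)
              · skip
                rcases Nat.lt_or_ge i 193850 with h8 | h8
                · skip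
                  exact allRangeF_sound _ _ (checkPointF_eq cert) 193825 25 chkP_193825 i (by omega) (by omega)
                · skip
                  exact allRangeF_sound _ _ (checkPointF_eq cert) 193850 25 chkP_193850 i (by omega) (by omega)
            · skip
              rcases Nat.lt_or_ge i 193925 with h7 | h7
              · skip
                rcases Nat.lt_or_ge i 193900 with h8 | h8
                · skip
                  exact allRangeF_sound _ _ (checkPointF_eq cert) 193875 25 chkP_193875 i (by omega) (by omega)
                · skip
                  exact allRangeF_sound _ _ (checkPointF_eq cert) 193900 25 chkP_193900 i (by omega) (by omega)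
              · skip
                rcases Nat.lt_or_ge i 193950 with h8 | h8
                · skip
                  exact allRangeF_sound _ _ (checkPointF_eq cert) 193925 25 chkP_193925 i (by omega) (by omega)
                · skip
                  rcases Nat.lt_or_ge i 193975 with h9 | h9
                  · skip
                    exact allRangeF_sound _ _ (checkPointF_eq cert) 193950 25 chkP_193950 i (by omega) (by omega)
                  · skip
                    exact allRangeF_sound _ _ (checkPointF_eq cert) 193975 25 chkP_193975 i (by omega) (by omega)
          · skip
            rcases Nat.lt_or_ge i 194125 with h6 | h6
            · skip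
              rcases Nat.lt_or_ge i 194050 with h7 | h7
              · skip
                rcases Nat.lt_or_ge i 194025 with h8 | h8
                · skip
                  exact allRangeF_sound _ _ (checkPointF_eq cert) 194000 25 chkP_194000 i (by omega) (by omega)
                · skip
                  exact allRangeF_sound _ _ (checkPointF_eq cert) 194025 25 chkP_194025 i (by omega) (by omega)
              · skip
                rcases Nat.lt_or_ge i 194075 with h8 | h8
                · skip
                  exact allRangeF_sound _ _ (checkPointF_eq cert) 194050 25 chkP_194050 i (by omega) (by omega)
                · skip
                  rcases Nat.lt_or_ge i 194100 with h9 | h9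
                  · skip
                    exact allRangeF_sound _ _ (checkPointF_eq cert) 194075 25 chkP_194075 i (by omega) (by omega)
                  · skip
                    exact allRangeF_sound _ _ (checkPointF_eq cert) 194100 25 chkP_194100 i (by omega) (by omega)
            · skip
              rcases Nat.lt_or_ge i 194175 with h7 | h7
              · skip
                rcases Nat.lt_or_ge i 194150 with h8 | h8
                · skip
                  exact allRangeF_sound _ _ (checkPointF_eq cert) 194125 25 chkP_194125 i (by omega) (by omega)
                · skip
                  exact allRangeF_sound _ _ (checkPointF_eq cert) 194150 25 chkP_194150 i (by omega) (by omega)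
              · skip
                rcases Nat.lt_or_ge i 194200 with h8 | h8
                · skip
                  exact allRangeF_sound _ _ (checkPointF_eq cert) 194175 25 chkP_194175 i (by omega) (by omega)
                · skip
                  rcases Nat.lt_or_ge i 194225 with h9 | h9
                  · skip
                    exact allRangeF_sound _ _ (checkPointF_eq cert) 194200 25 chkP_194200 i (by omega) (by omega)
                  · skip
                    exact allRangeF_sound _ _ (checkPointF_eq cert) 194225 25 chkP_194225 i (by omega) (by omega)
        · skip
          rcases Nat.lt_or_ge i 194475 with h5 | h5
          · skip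
            rcases Nat.lt_or_ge i 194350 with h6 | h6
            · skip
              rcases Nat.lt_or_ge i 194300 with h7 | h7
              · skip
                rcases Nat.lt_or_ge i 194275 with h8 | h8
                · skip
                  exact allRangeF_sound _ _ (checkPointF_eq cert) 194250 25 chkP_194250 i (by omega) (by omega)
                · skip
                  exact allRangeF_sound _ _ (checkPointF_eq cert) 194275 25 chkP_194275 i (by omega) (by omega)
              · skip
                rcases Nat.lt_or_ge i 194325 with h8 | h8
                · skip
                  exact allRangeF_sound _ _ (checkPointF_eq cert) 194300 25 chkP_194300 i (by omega) (by omega)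
                · skip
                  exact allRangeF_sound _ _ (checkPointF_eq cert) 194325 25 chkP_194325 i (by omega) (by omega)
            · skip
              rcases Nat.lt_or_ge i 194400 with h7 | h7
              · skip
                rcases Nat.lt_or_ge i 194375 with h8 | h8
                · skip
                  exact allRangeF_sound _ _ (checkPointF_eq cert) 194350 25 chkP_194350 i (by omega) (by omega)
                · skip
                  exact allRangeF_sound _ _ (checkPointF_eq cert) 194375 25 chkP_194375 i (by omega) (by omega)
              · skip
                rcases Nat.lt_or_ge i 194425 with h8 | h8
                · skip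
                  exact allRangeF_sound _ _ (checkPointF_eq cert) 194400 25 chkP_194400 i (by omega) (by omega)
                · skip
                  rcases Nat.lt_or_ge i 194450 with h9 | h9
                  · skip
                    exact allRangeF_sound _ _ (checkPointF_eq cert) 194425 25 chkP_194425 i (by omega) (by omega)
                  · skip
                    exact allRangeF_sound _ _ (checkPointF_eq cert) 194450 25 chkP_194450 i (by omega) (by omega)
          · skip
            rcases Nat.lt_or_ge i 194600 with h6 | h6
            · skip
              rcases Nat.lt_or_ge i 194525 with h7 | h7
              · skip
                rcases Nat.lt_or_ge i 194500 with h8 | h8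
                · skip
                  exact allRangeF_sound _ _ (checkPointF_eq cert) 194475 25 chkP_194475 i (by omega) (by omega)
                · skip
                  exact allRangeF_sound _ _ (checkPointF_eq cert) 194500 25 chkP_194500 i (by omega) (by omega)
              · skip
                rcases Nat.lt_or_ge i 194550 with h8 | h8
                · skip
                  exact allRangeF_sound _ _ (checkPointF_eq cert) 194525 25 chkP_194525 i (by omega) (by omega)
                · skip
                  rcases Nat.lt_or_ge i 194575 with h9 | h9
                  · skip
                    exact allRangeF_sound _ _ (checkPointF_eq cert) 194550 25 chkP_194550 i (by omega) (by omega)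
                  · skip
                    exact allRangeF_sound _ _ (checkPointF_eq cert) 194575 25 chkP_194575 i (by omega) (by omega)
            · skip
              rcases Nat.lt_or_ge i 194650 with h7 | h7
              · skip
                rcases Nat.lt_or_ge i 194625 with h8 | h8
                · skip
                  exact allRangeF_sound _ _ (checkPointF_eq cert) 194600 25 chkP_194600 i (by omega) (by omega)
                · skip
                  exact allRangeF_sound _ _ (checkPointF_eq cert) 194625 25 chkP_194625 i (by omega) (by omega)
              · skip
                rcases Nat.lt_or_ge i 194675 with h8 | h8
                · skip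
                  exact allRangeF_sound _ _ (checkPointF_eq cert) 194650 25 chkP_194650 i (by omega) (by omega)
                · skip
                  rcases Nat.lt_or_ge i 194700 with h9 | h9
                  · skip
                    exact allRangeF_sound _ _ (checkPointF_eq cert) 194675 25 chkP_194675 i (by omega) (by omega)
                  · skip
                    exact allRangeF_sound _ _ (checkPointF_eq cert) 194700 25 chkP_194700 i (by omega) (by omega)
      · skip
        rcases Nat.lt_or_ge i 195200 with h4 | h4
        · skip
          rcases Nat.lt_or_ge i 194950 with h5 | h5
          · skip
            rcases Nat.lt_or_ge i 194825 with h6 | h6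
            · skip
              rcases Nat.lt_or_ge i 194775 with h7 | h7
              · skip
                rcases Nat.lt_or_ge i 194750 with h8 | h8
                · skip
                  exact allRangeF_sound _ _ (checkPointF_eq cert) 194725 25 chkP_194725 i (by omega) (by omega)
                · skip
                  exact allRangeF_sound _ _ (checkPointF_eq cert) 194750 25 chkP_194750 i (by omega) (by omega)
              · skip
                rcases Nat.lt_or_ge i 194800 with h8 | h8
                · skip
                  exact allRangeF_sound _ _ (checkPointF_eq cert) 194775 25 chkP_194775 i (by omega) (by omega)
                · skip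
                  exact allRangeF_sound _ _ (checkPointF_eq cert) 194800 25 chkP_194800 i (by omega) (by omega)
            · skip
              rcases Nat.lt_or_ge i 194875 with h7 | h7
              · skip
                rcases Nat.lt_or_ge i 194850 with h8 | h8
                · skip
                  exact allRangeF_sound _ _ (checkPointF_eq cert) 194825 25 chkP_194825 i (by omega) (by omega)
                · skip
                  exact allRangeF_sound _ _ (checkPointF_eq cert) 194850 25 chkP_194850 i (by omega) (by omega)
              · skip
                rcases Nat.lt_or_ge i 194900 with h8 | h8
                · skip
                  exact allRangeF_sound _ _ (checkPointF_eq cert) 194875 25 chkP_194875 i (by omega) (by omega)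
                · skip
                  rcases Nat.lt_or_ge i 194925 with h9 | h9
                  · skip
                    exact allRangeF_sound _ _ (checkPointF_eq cert) 194900 25 chkP_194900 i (by omega) (by omega)
                  · skip
                    exact allRangeF_sound _ _ (checkPointF_eq cert) 194925 25 chkP_194925 i (by omega) (by omega)
          · skip
            rcases Nat.lt_or_ge i 195075 with h6 | h6
            · skip
              rcases Nat.lt_or_ge i 195000 with h7 | h7
              · skip
                rcases Nat.lt_or_ge i 194975 with h8 | h8
                · skip
                  exact allRangeF_sound _ _ (checkPointF_eq cert) 194950 25 chkP_194950 i (by omega) (by omega)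
                · skip
                  exact allRangeF_sound _ _ (checkPointF_eq cert) 194975 25 chkP_194975 i (by omega) (by omega)
              · skip
                rcases Nat.lt_or_ge i 195025 with h8 | h8
                · skip
                  exact allRangeF_sound _ _ (checkPointF_eq cert) 195000 25 chkP_195000 i (by omega) (by omega)
                · skip
                  rcases Nat.lt_or_ge i 195050 with h9 | h9
                  · skip
                    exact allRangeF_sound _ _ (checkPointF_eq cert) 195025 25 chkP_195025 i (by omega) (by omega)
                  · skip
                    exact allRangeF_sound _ _ (checkPointF_eq cert) 195050 25 chkP_195050 i (by omega) (by omega)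
            · skip
              rcases Nat.lt_or_ge i 195125 with h7 | h7
              · skip
                rcases Nat.lt_or_ge i 195100 with h8 | h8
                · skip
                  exact allRangeF_sound _ _ (checkPointF_eq cert) 195075 25 chkP_195075 i (by omega) (by omega)
                · skip
                  exact allRangeF_sound _ _ (checkPointF_eq cert) 195100 25 chkP_195100 i (by omega) (by omega)
              · skip
                rcases Nat.lt_or_ge i 195150 with h8 | h8
                · skip
                  exact allRangeF_sound _ _ (checkPointF_eq cert) 195125 25 chkP_195125 i (by omega) (by omega)
                · skip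
                  rcases Nat.lt_or_ge i 195175 with h9 | h9
                  · skip
                    exact allRangeF_sound _ _ (checkPointF_eq cert) 195150 25 chkP_195150 i (by omega) (by omega)
                  · skip
                    exact allRangeF_sound _ _ (checkPointF_eq cert) 195175 25 chkP_195175 i (by omega) (by omega)
        · skip
          rcases Nat.lt_or_ge i 195450 with h5 | h5
          · skip
            rcases Nat.lt_or_ge i 195325 with h6 | h6
            · skip
              rcases Nat.lt_or_ge i 195250 with h7 | h7
              · skip
                rcases Nat.lt_or_ge i 195225 with h8 | h8
                · skip
                  exact allRangeF_sound _ _ (checkPointF_eq cert) 195200 25 chkP_195200 i (by omega) (by omega)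
                · skip
                  exact allRangeF_sound _ _ (checkPointF_eq cert) 195225 25 chkP_195225 i (by omega) (by omega)
              · skip
                rcases Nat.lt_or_ge i 195275 with h8 | h8
                · skip
                  exact allRangeF_sound _ _ (checkPointF_eq cert) 195250 25 chkP_195250 i (by omega) (by omega)
                · skip
                  rcases Nat.lt_or_ge i 195300 with h9 | h9
                  · skip
                    exact allRangeF_sound _ _ (checkPointF_eq cert) 195275 25 chkP_195275 i (by omega) (by omega)
                  · skip
                    exact allRangeF_sound _ _ (checkPointF_eq cert) 195300 25 chkP_195300 i (by omega) (by omega)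
            · skip
              rcases Nat.lt_or_ge i 195375 with h7 | h7
              · skip
                rcases Nat.lt_or_ge i 195350 with h8 | h8
                · skip
                  exact allRangeF_sound _ _ (checkPointF_eq cert) 195325 25 chkP_195325 i (by omega) (by omega)
                · skip
                  exact allRangeF_sound _ _ (checkPointF_eq cert) 195350 25 chkP_195350 i (by omega) (by omega)
              · skip
                rcases Nat.lt_or_ge i 195400 with h8 | h8
                · skip
                  exact allRangeF_sound _ _ (checkPointF_eq cert) 195375 25 chkP_195375 i (by omega) (by omega)
                · skip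
                  rcases Nat.lt_or_ge i 195425 with h9 | h9
                  · skip
                    exact allRangeF_sound _ _ (checkPointF_eq cert) 195400 25 chkP_195400 i (by omega) (by omega)
                  · skip
                    exact allRangeF_sound _ _ (checkPointF_eq cert) 195425 25 chkP_195425 i (by omega) (by omega)
          · skip
            rcases Nat.lt_or_ge i 195575 with h6 | h6
            · skip
              rcases Nat.lt_or_ge i 195500 with h7 | h7
              · skip
                rcases Nat.lt_or_ge i 195475 with h8 | h8
                · skip
                  exact allRangeF_sound _ _ (checkPointF_eq cert) 195450 25 chkP_195450 i (by omega) (by omega)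
                · skip
                  exact allRangeF_sound _ _ (checkPointF_eq cert) 195475 25 chkP_195475 i (by omega) (by omega)
              · skip
                rcases Nat.lt_or_ge i 195525 with h8 | h8
                · skip
                  exact allRangeF_sound _ _ (checkPointF_eq cert) 195500 25 chkP_195500 i (by omega) (by omega)
                · skip
                  rcases Nat.lt_or_ge i 195550 with h9 | h9
                  · skip
                    exact allRangeF_sound _ _ (checkPointF_eq cert) 195525 25 chkP_195525 i (by omega) (by omega)
                  · skip
                    exact allRangeF_sound _ _ (checkPointF_eq cert) 195550 25 chkP_195550 i (by omega) (by omega)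
            · skip
              rcases Nat.lt_or_ge i 195625 with h7 | h7
              · skip
                rcases Nat.lt_or_ge i 195600 with h8 | h8
                · skip
                  exact allRangeF_sound _ _ (checkPointF_eq cert) 195575 25 chkP_195575 i (by omega) (by omega)
                · skip
                  exact allRangeF_sound _ _ (checkPointF_eq cert) 195600 25 chkP_195600 i (by omega) (by omega)
              · skip
                rcases Nat.lt_or_ge i 195650 with h8 | h8
                · skip
                  exact allRangeF_sound _ _ (checkPointF_eq cert) 195625 25 chkP_195625 i (by omega) (by omega)
                · skip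
                  rcases Nat.lt_or_ge i 195675 with h9 | h9
                  · skip
                    exact allRangeF_sound _ _ (checkPointF_eq cert) 195650 25 chkP_195650 i (by omega) (by omega)
                  · skip
                    exact allRangeF_sound _ _ (checkPointF_eq cert) 195675 25 chkP_195675 i (by omega) (by omega)
  · skip
    rcases Nat.lt_or_ge i 197625 with h2 | h2
    · skip
      rcases Nat.lt_or_ge i 196650 with h3 | h3
      · skip
        rcases Nat.lt_or_ge i 196175 with h4 | h4
        · skip
          rcases Nat.lt_or_ge i 195925 with h5 | h5
          · skip
            rcases Nat.lt_or_ge i 195800 with h6 | h6
            · skip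
              rcases Nat.lt_or_ge i 195750 with h7 | h7
              · skip
                rcases Nat.lt_or_ge i 195725 with h8 | h8
                · skip
                  exact allRangeF_sound _ _ (checkPointF_eq cert) 195700 25 chkP_195700 i (by omega) (by omega)
                · skip
                  exact allRangeF_sound _ _ (checkPointF_eq cert) 195725 25 chkP_195725 i (by omega) (by omega)
              · skip
                rcases Nat.lt_or_ge i 195775 with h8 | h8
                · skip
                  exact allRangeF_sound _ _ (checkPointF_eq cert) 195750 25 chkP_195750 i (by omega) (by omega)
                · skip
                  exact allRangeF_sound _ _ (checkPointF_eq cert) 195775 25 chkP_195775 i (by omega) (by omega)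
            · skip
              rcases Nat.lt_or_ge i 195850 with h7 | h7
              · skip
                rcases Nat.lt_or_ge i 195825 with h8 | h8
                · skip
                  exact allRangeF_sound _ _ (checkPointF_eq cert) 195800 25 chkP_195800 i (by omega) (by omega)
                · skip
                  exact allRangeF_sound _ _ (checkPointF_eq cert) 195825 25 chkP_195825 i (by omega) (by omega)
              · skip
                rcases Nat.lt_or_ge i 195875 with h8 | h8
                · skip
                  exact allRangeF_sound _ _ (checkPointF_eq cert) 195850 25 chkP_195850 i (by omega) (by omega)
                · skip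
                  rcases Nat.lt_or_ge i 195900 with h9 | h9
                  · skip
                    exact allRangeF_sound _ _ (checkPointF_eq cert) 195875 25 chkP_195875 i (by omega) (by omega)
                  · skip
                    exact allRangeF_sound _ _ (checkPointF_eq cert) 195900 25 chkP_195900 i (by omega) (by omega)
          · skip
            rcases Nat.lt_or_ge i 196050 with h6 | h6
            · skip
              rcases Nat.lt_or_ge i 195975 with h7 | h7
              · skip
                rcases Nat.lt_or_ge i 195950 with h8 | h8
                · skip
                  exact allRangeF_sound _ _ (checkPointF_eq cert) 195925 25 chkP_195925 i (by omega) (by omega)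
                · skip
                  exact allRangeF_sound _ _ (checkPointF_eq cert) 195950 25 chkP_195950 i (by omega) (by omega)
              · skip
                rcases Nat.lt_or_ge i 196000 with h8 | h8
                · skip
                  exact allRangeF_sound _ _ (checkPointF_eq cert) 195975 25 chkP_195975 i (by omega) (by omega)
                · skip
                  rcases Nat.lt_or_ge i 196025 with h9 | h9
                  · skip
                    exact allRangeF_sound _ _ (checkPointF_eq cert) 196000 25 chkP_196000 i (by omega) (by omega)
                  · skip
                    exact allRangeF_sound _ _ (checkPointF_eq cert) 196025 25 chkP_196025 i (by omega) (by omega)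
            · skip
              rcases Nat.lt_or_ge i 196100 with h7 | h7
              · skip
                rcases Nat.lt_or_ge i 196075 with h8 | h8
                · skip
                  exact allRangeF_sound _ _ (checkPointF_eq cert) 196050 25 chkP_196050 i (by omega) (by omega)
                · skip
                  exact allRangeF_sound _ _ (checkPointF_eq cert) 196075 25 chkP_196075 i (by omega) (by omega)
              · skip
                rcases Nat.lt_or_ge i 196125 with h8 | h8
                · skip
                  exact allRangeF_sound _ _ (checkPointF_eq cert) 196100 25 chkP_196100 i (by omega) (by omega)
                · skip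
                  rcases Nat.lt_or_ge i 196150 with h9 | h9
                  · skip
                    exact allRangeF_sound _ _ (checkPointF_eq cert) 196125 25 chkP_196125 i (by omega) (by omega)
                  · skip
                    exact allRangeF_sound _ _ (checkPointF_eq cert) 196150 25 chkP_196150 i (by omega) (by omega)
        · skip
          rcases Nat.lt_or_ge i 196400 with h5 | h5
          · skip
            rcases Nat.lt_or_ge i 196275 with h6 | h6
            · skip
              rcases Nat.lt_or_ge i 196225 with h7 | h7
              · skip
                rcases Nat.lt_or_ge i 196200 with h8 | h8
                · skip
                  exact allRangeF_sound _ _ (checkPointF_eq cert) 196175 25 chkP_196175 i (by omega) (by omega)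
                · skip
                  exact allRangeF_sound _ _ (checkPointF_eq cert) 196200 25 chkP_196200 i (by omega) (by omega)
              · skip
                rcases Nat.lt_or_ge i 196250 with h8 | h8
                · skip
                  exact allRangeF_sound _ _ (checkPointF_eq cert) 196225 25 chkP_196225 i (by omega) (by omega)
                · skip
                  exact allRangeF_sound _ _ (checkPointF_eq cert) 196250 25 chkP_196250 i (by omega) (by omega)
            · skip
              rcases Nat.lt_or_ge i 196325 with h7 | h7
              · skip
                rcases Nat.lt_or_ge i 196300 with h8 | h8
                · skip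
                  exact allRangeF_sound _ _ (checkPointF_eq cert) 196275 25 chkP_196275 i (by omega) (by omega)
                · skip
                  exact allRangeF_sound _ _ (checkPointF_eq cert) 196300 25 chkP_196300 i (by omega) (by omega)
              · skip
                rcases Nat.lt_or_ge i 196350 with h8 | h8
                · skip
                  exact allRangeF_sound _ _ (checkPointF_eq cert) 196325 25 chkP_196325 i (by omega) (by omega)
                · skip
                  rcases Nat.lt_or_ge i 196375 with h9 | h9
                  · skip
                    exact allRangeF_sound _ _ (checkPointF_eq cert) 196350 25 chkP_196350 i (by omega) (by omega)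
                  · skip
                    exact allRangeF_sound _ _ (checkPointF_eq cert) 196375 25 chkP_196375 i (by omega) (by omega)
          · skip
            rcases Nat.lt_or_ge i 196525 with h6 | h6
            · skip
              rcases Nat.lt_or_ge i 196450 with h7 | h7
              · skip
                rcases Nat.lt_or_ge i 196425 with h8 | h8
                · skip
                  exact allRangeF_sound _ _ (checkPointF_eq cert) 196400 25 chkP_196400 i (by omega) (by omega)
                · skip
                  exact allRangeF_sound _ _ (checkPointF_eq cert) 196425 25 chkP_196425 i (by omega) (by omega)
              · skip
                rcases Nat.lt_or_ge i 196475 with h8 | h8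
                · skip
                  exact allRangeF_sound _ _ (checkPointF_eq cert) 196450 25 chkP_196450 i (by omega) (by omega)
                · skip
                  rcases Nat.lt_or_ge i 196500 with h9 | h9
                  · skip
                    exact allRangeF_sound _ _ (checkPointF_eq cert) 196475 25 chkP_196475 i (by omega) (by omega)
                  · skip
                    exact allRangeF_sound _ _ (checkPointF_eq cert) 196500 25 chkP_196500 i (by omega) (by omega)
            · skip
              rcases Nat.lt_or_ge i 196575 with h7 | h7
              · skip
                rcases Nat.lt_or_ge i 196550 with h8 | h8
                · skip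
                  exact allRangeF_sound _ _ (checkPointF_eq cert) 196525 25 chkP_196525 i (by omega) (by omega)
                · skip
                  exact allRangeF_sound _ _ (checkPointF_eq cert) 196550 25 chkP_196550 i (by omega) (by omega)
              · skip
                rcases Nat.lt_or_ge i 196600 with h8 | h8
                · skip
                  exact allRangeF_sound _ _ (checkPointF_eq cert) 196575 25 chkP_196575 i (by omega) (by omega)
                · skip
                  rcases Nat.lt_or_ge i 196625 with h9 | h9
                  · skip
                    exact allRangeF_sound _ _ (checkPointF_eq cert) 196600 25 chkP_196600 i (by omega) (by omega)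
                  · skip
                    exact allRangeF_sound _ _ (checkPointF_eq cert) 196625 25 chkP_196625 i (by omega) (by omega)
      · skip
        rcases Nat.lt_or_ge i 197125 with h4 | h4
        · skip
          rcases Nat.lt_or_ge i 196875 with h5 | h5
          · skip
            rcases Nat.lt_or_ge i 196750 with h6 | h6
            · skip
              rcases Nat.lt_or_ge i 196700 with h7 | h7
              · skip
                rcases Nat.lt_or_ge i 196675 with h8 | h8
                · skip
                  exact allRangeF_sound _ _ (checkPointF_eq cert) 196650 25 chkP_196650 i (by omega) (by omega)
                · skip
                  exact allRangeF_sound _ _ (checkPointF_eq cert) 196675 25 chkP_196675 i (by omega) (by omega)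
              · skip
                rcases Nat.lt_or_ge i 196725 with h8 | h8
                · skip
                  exact allRangeF_sound _ _ (checkPointF_eq cert) 196700 25 chkP_196700 i (by omega) (by omega)
                · skip
                  exact allRangeF_sound _ _ (checkPointF_eq cert) 196725 25 chkP_196725 i (by omega) (by omega)
            · skip
              rcases Nat.lt_or_ge i 196800 with h7 | h7
              · skip
                rcases Nat.lt_or_ge i 196775 with h8 | h8
                · skip
                  exact allRangeF_sound _ _ (checkPointF_eq cert) 196750 25 chkP_196750 i (by omega) (by omega)
                · skip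
                  exact allRangeF_sound _ _ (checkPointF_eq cert) 196775 25 chkP_196775 i (by omega) (by omega)
              · skip
                rcases Nat.lt_or_ge i 196825 with h8 | h8
                · skip
                  exact allRangeF_sound _ _ (checkPointF_eq cert) 196800 25 chkP_196800 i (by omega) (by omega)
                · skip
                  rcases Nat.lt_or_ge i 196850 with h9 | h9
                  · skip
                    exact allRangeF_sound _ _ (checkPointF_eq cert) 196825 25 chkP_196825 i (by omega) (by omega)
                  · skip
                    exact allRangeF_sound _ _ (checkPointF_eq cert) 196850 25 chkP_196850 i (by omega) (by omega)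
          · skip
            rcases Nat.lt_or_ge i 197000 with h6 | h6
            · skip
              rcases Nat.lt_or_ge i 196925 with h7 | h7
              · skip
                rcases Nat.lt_or_ge i 196900 with h8 | h8
                · skip
                  exact allRangeF_sound _ _ (checkPointF_eq cert) 196875 25 chkP_196875 i (by omega) (by omega)
                · skip
                  exact allRangeF_sound _ _ (checkPointF_eq cert) 196900 25 chkP_196900 i (by omega) (by omega)
              · skip
                rcases Nat.lt_or_ge i 196950 with h8 | h8
                · skip
                  exact allRangeF_sound _ _ (checkPointF_eq cert) 196925 25 chkP_196925 i (by omega) (by omega)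
                · skip
                  rcases Nat.lt_or_ge i 196975 with h9 | h9
                  · skip
                    exact allRangeF_sound _ _ (checkPointF_eq cert) 196950 25 chkP_196950 i (by omega) (by omega)
                  · skip
                    exact allRangeF_sound _ _ (checkPointF_eq cert) 196975 25 chkP_196975 i (by omega) (by omega)
            · skip
              rcases Nat.lt_or_ge i 197050 with h7 | h7
              · skip
                rcases Nat.lt_or_ge i 197025 with h8 | h8
                · skip
                  exact allRangeF_sound _ _ (checkPointF_eq cert) 197000 25 chkP_197000 i (by omega) (by omega)
                · skip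
                  exact allRangeF_sound _ _ (checkPointF_eq cert) 197025 25 chkP_197025 i (by omega) (by omega)
              · skip
                rcases Nat.lt_or_ge i 197075 with h8 | h8
                · skip
                  exact allRangeF_sound _ _ (checkPointF_eq cert) 197050 25 chkP_197050 i (by omega) (by omega)
                · skip
                  rcases Nat.lt_or_ge i 197100 with h9 | h9
                  · skip
                    exact allRangeF_sound _ _ (checkPointF_eq cert) 197075 25 chkP_197075 i (by omega) (by omega)
                  · skip
                    exact allRangeF_sound _ _ (checkPointF_eq cert) 197100 25 chkP_197100 i (by omega) (by omega)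
        · skip
          rcases Nat.lt_or_ge i 197375 with h5 | h5
          · skip
            rcases Nat.lt_or_ge i 197250 with h6 | h6
            · skip
              rcases Nat.lt_or_ge i 197175 with h7 | h7
              · skip
                rcases Nat.lt_or_ge i 197150 with h8 | h8
                · skip
                  exact allRangeF_sound _ _ (checkPointF_eq cert) 197125 25 chkP_197125 i (by omega) (by omega)
                · skip
                  exact allRangeF_sound _ _ (checkPointF_eq cert) 197150 25 chkP_197150 i (by omega) (by omega)
              · skip
                rcases Nat.lt_or_ge i 197200 with h8 | h8
                · skip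
                  exact allRangeF_sound _ _ (checkPointF_eq cert) 197175 25 chkP_197175 i (by omega) (by omega)
                · skip
                  rcases Nat.lt_or_ge i 197225 with h9 | h9
                  · skip
                    exact allRangeF_sound _ _ (checkPointF_eq cert) 197200 25 chkP_197200 i (by omega) (by omega)
                  · skip
                    exact allRangeF_sound _ _ (checkPointF_eq cert) 197225 25 chkP_197225 i (by omega) (by omega)
            · skip
              rcases Nat.lt_or_ge i 197300 with h7 | h7
              · skip
                rcases Nat.lt_or_ge i 197275 with h8 | h8
                · skip
                  exact allRangeF_sound _ _ (checkPointF_eq cert) 197250 25 chkP_197250 i (by omega) (by omega)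
                · skip
                  exact allRangeF_sound _ _ (checkPointF_eq cert) 197275 25 chkP_197275 i (by omega) (by omega)
              · skip
                rcases Nat.lt_or_ge i 197325 with h8 | h8
                · skip
                  exact allRangeF_sound _ _ (checkPointF_eq cert) 197300 25 chkP_197300 i (by omega) (by omega)
                · skip
                  rcases Nat.lt_or_ge i 197350 with h9 | h9
                  · skip
                    exact allRangeF_sound _ _ (checkPointF_eq cert) 197325 25 chkP_197325 i (by omega) (by omega)
                  · skip
                    exact allRangeF_sound _ _ (checkPointF_eq cert) 197350 25 chkP_197350 i (by omega) (by omega)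
          · skip
            rcases Nat.lt_or_ge i 197500 with h6 | h6
            · skip
              rcases Nat.lt_or_ge i 197425 with h7 | h7
              · skip
                rcases Nat.lt_or_ge i 197400 with h8 | h8
                · skip
                  exact allRangeF_sound _ _ (checkPointF_eq cert) 197375 25 chkP_197375 i (by omega) (by omega)
                · skip
                  exact allRangeF_sound _ _ (checkPointF_eq cert) 197400 25 chkP_197400 i (by omega) (by omega)
              · skip
                rcases Nat.lt_or_ge i 197450 with h8 | h8
                · skip
                  exact allRangeF_sound _ _ (checkPointF_eq cert) 197425 25 chkP_197425 i (by omega) (by omega)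
                · skip
                  rcases Nat.lt_or_ge i 197475 with h9 | h9
                  · skip
                    exact allRangeF_sound _ _ (checkPointF_eq cert) 197450 25 chkP_197450 i (by omega) (by omega)
                  · skip
                    exact allRangeF_sound _ _ (checkPointF_eq cert) 197475 25 chkP_197475 i (by omega) (by omega)
            · skip
              rcases Nat.lt_or_ge i 197550 with h7 | h7
              · skip
                rcases Nat.lt_or_ge i 197525 with h8 | h8
                · skip
                  exact allRangeF_sound _ _ (checkPointF_eq cert) 197500 25 chkP_197500 i (by omega) (by omega)
                · skip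
                  exact allRangeF_sound _ _ (checkPointF_eq cert) 197525 25 chkP_197525 i (by omega) (by omega)
              · skip
                rcases Nat.lt_or_ge i 197575 with h8 | h8
                · skip
                  exact allRangeF_sound _ _ (checkPointF_eq cert) 197550 25 chkP_197550 i (by omega) (by omega)
                · skip
                  rcases Nat.lt_or_ge i 197600 with h9 | h9
                  · skip
                    exact allRangeF_sound _ _ (checkPointF_eq cert) 197575 25 chkP_197575 i (by omega) (by omega)
                  · skip
                    exact allRangeF_sound _ _ (checkPointF_eq cert) 197600 25 chkP_197600 i (by omega) (by omega)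
    · skip
      rcases Nat.lt_or_ge i 198575 with h3 | h3
      · skip
        rcases Nat.lt_or_ge i 198100 with h4 | h4
        · skip
          rcases Nat.lt_or_ge i 197850 with h5 | h5
          · skip
            rcases Nat.lt_or_ge i 197725 with h6 | h6
            · skip
              rcases Nat.lt_or_ge i 197675 with h7 | h7
              · skip
                rcases Nat.lt_or_ge i 197650 with h8 | h8
                · skip
                  exact allRangeF_sound _ _ (checkPointF_eq cert) 197625 25 chkP_197625 i (by omega) (by omega)
                · skip
                  exact allRangeF_sound _ _ (checkPointF_eq cert) 197650 25 chkP_197650 i (by omega) (by omega)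
              · skip
                rcases Nat.lt_or_ge i 197700 with h8 | h8
                · skip
                  exact allRangeF_sound _ _ (checkPointF_eq cert) 197675 25 chkP_197675 i (by omega) (by omega)
                · skip
                  exact allRangeF_sound _ _ (checkPointF_eq cert) 197700 25 chkP_197700 i (by omega) (by omega)
            · skip
              rcases Nat.lt_or_ge i 197775 with h7 | h7
              · skip
                rcases Nat.lt_or_ge i 197750 with h8 | h8
                · skip
                  exact allRangeF_sound _ _ (checkPointF_eq cert) 197725 25 chkP_197725 i (by omega) (by omega)
                · skip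
                  exact allRangeF_sound _ _ (checkPointF_eq cert) 197750 25 chkP_197750 i (by omega) (by omega)
              · skip
                rcases Nat.lt_or_ge i 197800 with h8 | h8
                · skip
                  exact allRangeF_sound _ _ (checkPointF_eq cert) 197775 25 chkP_197775 i (by omega) (by omega)
                · skip
                  rcases Nat.lt_or_ge i 197825 with h9 | h9
                  · skip
                    exact allRangeF_sound _ _ (checkPointF_eq cert) 197800 25 chkP_197800 i (by omega) (by omega)
                  · skip
                    exact allRangeF_sound _ _ (checkPointF_eq cert) 197825 25 chkP_197825 i (by omega) (by omega)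
          · skip
            rcases Nat.lt_or_ge i 197975 with h6 | h6
            · skip
              rcases Nat.lt_or_ge i 197900 with h7 | h7
              · skip
                rcases Nat.lt_or_ge i 197875 with h8 | h8
                · skip
                  exact allRangeF_sound _ _ (checkPointF_eq cert) 197850 25 chkP_197850 i (by omega) (by omega)
                · skip
                  exact allRangeF_sound _ _ (checkPointF_eq cert) 197875 25 chkP_197875 i (by omega) (by omega)
              · skip
                rcases Nat.lt_or_ge i 197925 with h8 | h8
                · skip
                  exact allRangeF_sound _ _ (checkPointF_eq cert) 197900 25 chkP_197900 i (by omega) (by omega)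
                · skip
                  rcases Nat.lt_or_ge i 197950 with h9 | h9
                  · skip
                    exact allRangeF_sound _ _ (checkPointF_eq cert) 197925 25 chkP_197925 i (by omega) (by omega)
                  · skip
                    exact allRangeF_sound _ _ (checkPointF_eq cert) 197950 25 chkP_197950 i (by omega) (by omega)
            · skip
              rcases Nat.lt_or_ge i 198025 with h7 | h7
              · skip
                rcases Nat.lt_or_ge i 198000 with h8 | h8
                · skip
                  exact allRangeF_sound _ _ (checkPointF_eq cert) 197975 25 chkP_197975 i (by omega) (by omega)
                · skip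
                  exact allRangeF_sound _ _ (checkPointF_eq cert) 198000 25 chkP_198000 i (by omega) (by omega)
              · skip
                rcases Nat.lt_or_ge i 198050 with h8 | h8
                · skip
                  exact allRangeF_sound _ _ (checkPointF_eq cert) 198025 25 chkP_198025 i (by omega) (by omega)
                · skip
                  rcases Nat.lt_or_ge i 198075 with h9 | h9
                  · skip
                    exact allRangeF_sound _ _ (checkPointF_eq cert) 198050 25 chkP_198050 i (by omega) (by omega)
                  · skip
                    exact allRangeF_sound _ _ (checkPointF_eq cert) 198075 25 chkP_198075 i (by omega) (by omega)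
        · skip
          rcases Nat.lt_or_ge i 198325 with h5 | h5
          · skip
            rcases Nat.lt_or_ge i 198200 with h6 | h6
            · skip
              rcases Nat.lt_or_ge i 198150 with h7 | h7
              · skip
                rcases Nat.lt_or_ge i 198125 with h8 | h8
                · skip
                  exact allRangeF_sound _ _ (checkPointF_eq cert) 198100 25 chkP_198100 i (by omega) (by omega)
                · skip
                  exact allRangeF_sound _ _ (checkPointF_eq cert) 198125 25 chkP_198125 i (by omega) (by omega)
              · skip
                rcases Nat.lt_or_ge i 198175 with h8 | h8
                · skip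
                  exact allRangeF_sound _ _ (checkPointF_eq cert) 198150 25 chkP_198150 i (by omega) (by omega)
                · skip
                  exact allRangeF_sound _ _ (checkPointF_eq cert) 198175 25 chkP_198175 i (by omega) (by omega)
            · skip
              rcases Nat.lt_or_ge i 198250 with h7 | h7
              · skip
                rcases Nat.lt_or_ge i 198225 with h8 | h8
                · skip
                  exact allRangeF_sound _ _ (checkPointF_eq cert) 198200 25 chkP_198200 i (by omega) (by omega)
                · skip
                  exact allRangeF_sound _ _ (checkPointF_eq cert) 198225 25 chkP_198225 i (by omega) (by omega)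
              · skip
                rcases Nat.lt_or_ge i 198275 with h8 | h8
                · skip
                  exact allRangeF_sound _ _ (checkPointF_eq cert) 198250 25 chkP_198250 i (by omega) (by omega)
                · skip
                  rcases Nat.lt_or_ge i 198300 with h9 | h9
                  · skip
                    exact allRangeF_sound _ _ (checkPointF_eq cert) 198275 25 chkP_198275 i (by omega) (by omega)
                  · skip
                    exact allRangeF_sound _ _ (checkPointF_eq cert) 198300 25 chkP_198300 i (by omega) (by omega)
          · skip
            rcases Nat.lt_or_ge i 198450 with h6 | h6
            · skip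
              rcases Nat.lt_or_ge i 198375 with h7 | h7
              · skip
                rcases Nat.lt_or_ge i 198350 with h8 | h8
                · skip
                  exact allRangeF_sound _ _ (checkPointF_eq cert) 198325 25 chkP_198325 i (by omega) (by omega)
                · skip
                  exact allRangeF_sound _ _ (checkPointF_eq cert) 198350 25 chkP_198350 i (by omega) (by omega)
              · skip
                rcases Nat.lt_or_ge i 198400 with h8 | h8
                · skip
                  exact allRangeF_sound _ _ (checkPointF_eq cert) 198375 25 chkP_198375 i (by omega) (by omega)
                · skip
                  rcases Nat.lt_or_ge i 198425 with h9 | h9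
                  · skip
                    exact allRangeF_sound _ _ (checkPointF_eq cert) 198400 25 chkP_198400 i (by omega) (by omega)
                  · skip
                    exact allRangeF_sound _ _ (checkPointF_eq cert) 198425 25 chkP_198425 i (by omega) (by omega)
            · skip
              rcases Nat.lt_or_ge i 198500 with h7 | h7
              · skip
                rcases Nat.lt_or_ge i 198475 with h8 | h8
                · skip
                  exact allRangeF_sound _ _ (checkPointF_eq cert) 198450 25 chkP_198450 i (by omega) (by omega)
                · skip
                  exact allRangeF_sound _ _ (checkPointF_eq cert) 198475 25 chkP_198475 i (by omega) (by omega)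
              · skip
                rcases Nat.lt_or_ge i 198525 with h8 | h8
                · skip
                  exact allRangeF_sound _ _ (checkPointF_eq cert) 198500 25 chkP_198500 i (by omega) (by omega)
                · skip
                  rcases Nat.lt_or_ge i 198550 with h9 | h9
                  · skip
                    exact allRangeF_sound _ _ (checkPointF_eq cert) 198525 25 chkP_198525 i (by omega) (by omega)
                  · skip
                    exact allRangeF_sound _ _ (checkPointF_eq cert) 198550 25 chkP_198550 i (by omega) (by omega)
      · skip
        rcases Nat.lt_or_ge i 199050 with h4 | h4
        · skip
          rcases Nat.lt_or_ge i 198800 with h5 | h5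
          · skip
            rcases Nat.lt_or_ge i 198675 with h6 | h6
            · skip
              rcases Nat.lt_or_ge i 198625 with h7 | h7
              · skip
                rcases Nat.lt_or_ge i 198600 with h8 | h8
                · skip
                  exact allRangeF_sound _ _ (checkPointF_eq cert) 198575 25 chkP_198575 i (by omega) (by omega)
                · skip
                  exact allRangeF_sound _ _ (checkPointF_eq cert) 198600 25 chkP_198600 i (by omega) (by omega)
              · skip
                rcases Nat.lt_or_ge i 198650 with h8 | h8
                · skip
                  exact allRangeF_sound _ _ (checkPointF_eq cert) 198625 25 chkP_198625 i (by omega) (by omega)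
                · skip
                  exact allRangeF_sound _ _ (checkPointF_eq cert) 198650 25 chkP_198650 i (by omega) (by omega)
            · skip
              rcases Nat.lt_or_ge i 198725 with h7 | h7
              · skip
                rcases Nat.lt_or_ge i 198700 with h8 | h8
                · skip
                  exact allRangeF_sound _ _ (checkPointF_eq cert) 198675 25 chkP_198675 i (by omega) (by omega)
                · skip
                  exact allRangeF_sound _ _ (checkPointF_eq cert) 198700 25 chkP_198700 i (by omega) (by omega)
              · skip
                rcases Nat.lt_or_ge i 198750 with h8 | h8
                · skip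
                  exact allRangeF_sound _ _ (checkPointF_eq cert) 198725 25 chkP_198725 i (by omega) (by omega)
                · skip
                  rcases Nat.lt_or_ge i 198775 with h9 | h9
                  · skip
                    exact allRangeF_sound _ _ (checkPointF_eq cert) 198750 25 chkP_198750 i (by omega) (by omega)
                  · skip
                    exact allRangeF_sound _ _ (checkPointF_eq cert) 198775 25 chkP_198775 i (by omega) (by omega)
          · skip
            rcases Nat.lt_or_ge i 198925 with h6 | h6
            · skip
              rcases Nat.lt_or_ge i 198850 with h7 | h7
              · skip
                rcases Nat.lt_or_ge i 198825 with h8 | h8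
                · skip
                  exact allRangeF_sound _ _ (checkPointF_eq cert) 198800 25 chkP_198800 i (by omega) (by omega)
                · skip
                  exact allRangeF_sound _ _ (checkPointF_eq cert) 198825 25 chkP_198825 i (by omega) (by omega)
              · skip
                rcases Nat.lt_or_ge i 198875 with h8 | h8
                · skip
                  exact allRangeF_sound _ _ (checkPointF_eq cert) 198850 25 chkP_198850 i (by omega) (by omega)
                · skip
                  rcases Nat.lt_or_ge i 198900 with h9 | h9
                  · skip
                    exact allRangeF_sound _ _ (checkPointF_eq cert) 198875 25 chkP_198875 i (by omega) (by omega)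
                  · skip
                    exact allRangeF_sound _ _ (checkPointF_eq cert) 198900 25 chkP_198900 i (by omega) (by omega)
            · skip
              rcases Nat.lt_or_ge i 198975 with h7 | h7
              · skip
                rcases Nat.lt_or_ge i 198950 with h8 | h8
                · skip
                  exact allRangeF_sound _ _ (checkPointF_eq cert) 198925 25 chkP_198925 i (by omega) (by omega)
                · skip
                  exact allRangeF_sound _ _ (checkPointF_eq cert) 198950 25 chkP_198950 i (by omega) (by omega)
              · skip
                rcases Nat.lt_or_ge i 199000 with h8 | h8
                · skip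
                  exact allRangeF_sound _ _ (checkPointF_eq cert) 198975 25 chkP_198975 i (by omega) (by omega)
                · skip
                  rcases Nat.lt_or_ge i 199025 with h9 | h9
                  · skip
                    exact allRangeF_sound _ _ (checkPointF_eq cert) 199000 25 chkP_199000 i (by omega) (by omega)
                  · skip
                    exact allRangeF_sound _ _ (checkPointF_eq cert) 199025 25 chkP_199025 i (by omega) (by omega)
        · skip
          rcases Nat.lt_or_ge i 199300 with h5 | h5
          · skip
            rcases Nat.lt_or_ge i 199175 with h6 | h6
            · skip
              rcases Nat.lt_or_ge i 199100 with h7 | h7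
              · skip
                rcases Nat.lt_or_ge i 199075 with h8 | h8
                · skip
                  exact allRangeF_sound _ _ (checkPointF_eq cert) 199050 25 chkP_199050 i (by omega) (by omega)
                · skip
                  exact allRangeF_sound _ _ (checkPointF_eq cert) 199075 25 chkP_199075 i (by omega) (by omega)
              · skip
                rcases Nat.lt_or_ge i 199125 with h8 | h8
                · skip
                  exact allRangeF_sound _ _ (checkPointF_eq cert) 199100 25 chkP_199100 i (by omega) (by omega)
                · skip
                  rcases Nat.lt_or_ge i 199150 with h9 | h9
                  · skip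
                    exact allRangeF_sound _ _ (checkPointF_eq cert) 199125 25 chkP_199125 i (by omega) (by omega)
                  · skip
                    exact allRangeF_sound _ _ (checkPointF_eq cert) 199150 25 chkP_199150 i (by omega) (by omega)
            · skip
              rcases Nat.lt_or_ge i 199225 with h7 | h7
              · skip
                rcases Nat.lt_or_ge i 199200 with h8 | h8
                · skip
                  exact allRangeF_sound _ _ (checkPointF_eq cert) 199175 25 chkP_199175 i (by omega) (by omega)
                · skip
                  exact allRangeF_sound _ _ (checkPointF_eq cert) 199200 25 chkP_199200 i (by omega) (by omega)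
              · skip
                rcases Nat.lt_or_ge i 199250 with h8 | h8
                · skip
                  exact allRangeF_sound _ _ (checkPointF_eq cert) 199225 25 chkP_199225 i (by omega) (by omega)
                · skip
                  rcases Nat.lt_or_ge i 199275 with h9 | h9
                  · skip
                    exact allRangeF_sound _ _ (checkPointF_eq cert) 199250 25 chkP_199250 i (by omega) (by omega)
                  · skip
                    exact allRangeF_sound _ _ (checkPointF_eq cert) 199275 25 chkP_199275 i (by omega) (by omega)
          · skip
            rcases Nat.lt_or_ge i 199425 with h6 | h6
            · skip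
              rcases Nat.lt_or_ge i 199350 with h7 | h7
              · skip
                rcases Nat.lt_or_ge i 199325 with h8 | h8
                · skip
                  exact allRangeF_sound _ _ (checkPointF_eq cert) 199300 25 chkP_199300 i (by omega) (by omega)
                · skip
                  exact allRangeF_sound _ _ (checkPointF_eq cert) 199325 25 chkP_199325 i (by omega) (by omega)
              · skip
                rcases Nat.lt_or_ge i 199375 with h8 | h8
                · skip
                  exact allRangeF_sound _ _ (checkPointF_eq cert) 199350 25 chkP_199350 i (by omega) (by omega)
                · skip
                  rcases Nat.lt_or_ge i 199400 with h9 | h9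
                  · skip
                    exact allRangeF_sound _ _ (checkPointF_eq cert) 199375 25 chkP_199375 i (by omega) (by omega)
                  · skip
                    exact allRangeF_sound _ _ (checkPointF_eq cert) 199400 25 chkP_199400 i (by omega) (by omega)
            · skip
              rcases Nat.lt_or_ge i 199475 with h7 | h7
              · skip
                rcases Nat.lt_or_ge i 199450 with h8 | h8
                · skip
                  exact allRangeF_sound _ _ (checkPointF_eq cert) 199425 25 chkP_199425 i (by omega) (by omega)
                · skip
                  exact allRangeF_sound _ _ (checkPointF_eq cert) 199450 25 chkP_199450 i (by omega) (by omega)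
              · skip
                rcases Nat.lt_or_ge i 199500 with h8 | h8
                · skip
                  exact allRangeF_sound _ _ (checkPointF_eq cert) 199475 25 chkP_199475 i (by omega) (by omega)
                · skip
                  rcases Nat.lt_or_ge i 199525 with h9 | h9
                  · skip
                    exact allRangeF_sound _ _ (checkPointF_eq cert) 199500 25 chkP_199500 i (by omega) (by omega)
                  · skip
                    exact allRangeF_sound _ _ (checkPointF_eq cert) 199525 25 chkP_199525 i (by omega) (by omega)

end Cfsg.Agent.Lib.Helper28.Fi24Data
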