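import Cfsg.Agent.Lib.Helper28.Fi24Data
import Cfsg.Agent.Lib.Helper28.TCFastB

set_option autoImplicit false
set_option maxRecDepth 1000000
set_option linter.all false
set_option Elab.async false

namespace Cfsg.Agent.Lib.Helper28.Fi24Data

open Cfsg.Agent.Lib.Helper28B

theorem chkP_199550 : allRangeF (checkPointF cert) (nat_lit 199550) (nat_lit 25) = true := by decide +kernel
theorem chkP_199575 : allRangeF (checkPointF cert) (nat_lit 199575) (nat_lit 25) = true := by decide +kernel
theorem chkP_199600 : allRangeF (checkPointF cert) (nat_lit 199600) (nat_lit 25) = true := by decide +kernel
theorem chkP_199625 : allRangeF (checkPointF cert) (nat_lit 199625) (nat_lit 25) = true := by decide +kernel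
theorem chkP_199650 : allRangeF (checkPointF cert) (nat_lit 199650) (nat_lit 25) = true := by decide +kernel
theorem chkP_199675 : allRangeF (checkPointF cert) (nat_lit 199675) (nat_lit 25) = true := by decide +kernel
theorem chkP_199700 : allRangeF (checkPointF cert) (nat_lit 199700) (nat_lit 25) = true := by decide +kernel
theorem chkP_199725 : allRangeF (checkPointF cert) (nat_lit 199725) (nat_lit 25) = true := by decide +kernel
theorem chkP_199750 : allRangeF (checkPointF cert) (nat_lit 199750) (nat_lit 25) = true := by decide +kernel
theorem chkP_199775 : allRangeF (checkPointF cert) (nat_lit 199775) (nat_lit 25) = true := by decide +kernel
theorem chkP_199800 : allRangeF (checkPointF cert) (nat_lit 199800) (nat_lit 25) = true := by decide +kernel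
theorem chkP_199825 : allRangeF (checkPointF cert) (nat_lit 199825) (nat_lit 25) = true := by decide +kernel
theorem chkP_199850 : allRangeF (checkPointF cert) (nat_lit 199850) (nat_lit 25) = true := by decide +kernel
theorem chkP_199875 : allRangeF (checkPointF cert) (nat_lit 199875) (nat_lit 25) = true := by decide +kernel
theorem chkP_199900 : allRangeF (checkPointF cert) (nat_lit 199900) (nat_lit 25) = true := by decide +kernel
theorem chkP_199925 : allRangeF (checkPointF cert) (nat_lit 199925) (nat_lit 25) = true := by decide +kernel
theorem chkP_199950 : allRangeF (checkPointF cert) (nat_lit 199950) (nat_lit 25) = true := by decide +kernel
theorem chkP_199975 : allRangeF (checkPointF cert) (nat_lit 199975) (nat_lit 25) = true := by decide +kernel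
theorem chkP_200000 : allRangeF (checkPointF cert) (nat_lit 200000) (nat_lit 25) = true := by decide +kernel
theorem chkP_200025 : allRangeF (checkPointF cert) (nat_lit 200025) (nat_lit 25) = true := by decide +kernel
theorem chkP_200050 : allRangeF (checkPointF cert) (nat_lit 200050) (nat_lit 25) = true := by decide +kernel
theorem chkP_200075 : allRangeF (checkPointF cert) (nat_lit 200075) (nat_lit 25) = true := by decide +kernel
theorem chkP_200100 : allRangeF (checkPointF cert) (nat_lit 200100) (nat_lit 25) = true := by decide +kernel
theorem chkP_200125 : allRangeF (checkPointF cert) (nat_lit 200125) (nat_lit 25) = true := by decide +kernel
theorem chkP_200150 : allRangeF (checkPointF cert) (nat_lit 200150) (nat_lit 25) = true := by decide +kernel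
theorem chkP_200175 : allRangeF (checkPointF cert) (nat_lit 200175) (nat_lit 25) = true := by decide +kernel
theorem chkP_200200 : allRangeF (checkPointF cert) (nat_lit 200200) (nat_lit 25) = true := by decide +kernel
theorem chkP_200225 : allRangeF (checkPointF cert) (nat_lit 200225) (nat_lit 25) = true := by decide +kernel
theorem chkP_200250 : allRangeF (checkPointF cert) (nat_lit 200250) (nat_lit 25) = true := by decide +kernel
theorem chkP_200275 : allRangeF (checkPointF cert) (nat_lit 200275) (nat_lit 25) = true := by decide +kernel
theorem chkP_200300 : allRangeF (checkPointF cert) (nat_lit 200300) (nat_lit 25) = true := by decide +kernel
theorem chkP_200325 : allRangeF (checkPointF cert) (nat_lit 200325) (nat_lit 25) = true := by decide +kernel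
theorem chkP_200350 : allRangeF (checkPointF cert) (nat_lit 200350) (nat_lit 25) = true := by decide +kernel
theorem chkP_200375 : allRangeF (checkPointF cert) (nat_lit 200375) (nat_lit 25) = true := by decide +kernel
theorem chkP_200400 : allRangeF (checkPointF cert) (nat_lit 200400) (nat_lit 25) = true := by decide +kernel
theorem chkP_200425 : allRangeF (checkPointF cert) (nat_lit 200425) (nat_lit 25) = true := by decide +kernel
theorem chkP_200450 : allRangeF (checkPointF cert) (nat_lit 200450) (nat_lit 25) = true := by decide +kernel
theorem chkP_200475 : allRangeF (checkPointF cert) (nat_lit 200475) (nat_lit 25) = true := by decide +kernel
theorem chkP_200500 : allRangeF (checkPointF cert) (nat_lit 200500) (nat_lit 25) = true := by decide +kernel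
theorem chkP_200525 : allRangeF (checkPointF cert) (nat_lit 200525) (nat_lit 25) = true := by decide +kernel
theorem chkP_200550 : allRangeF (checkPointF cert) (nat_lit 200550) (nat_lit 25) = true := by decide +kernel
theorem chkP_200575 : allRangeF (checkPointF cert) (nat_lit 200575) (nat_lit 25) = true := by decide +kernel
theorem chkP_200600 : allRangeF (checkPointF cert) (nat_lit 200600) (nat_lit 25) = true := by decide +kernel
theorem chkP_200625 : allRangeF (checkPointF cert) (nat_lit 200625) (nat_lit 25) = true := by decide +kernel
theorem chkP_200650 : allRangeF (checkPointF cert) (nat_lit 200650) (nat_lit 25) = true := by decide +kernel
theorem chkP_200675 : allRangeF (checkPointF cert) (nat_lit 200675) (nat_lit 25) = true := by decide +kernel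
theorem chkP_200700 : allRangeF (checkPointF cert) (nat_lit 200700) (nat_lit 25) = true := by decide +kernel
theorem chkP_200725 : allRangeF (checkPointF cert) (nat_lit 200725) (nat_lit 25) = true := by decide +kernel
theorem chkP_200750 : allRangeF (checkPointF cert) (nat_lit 200750) (nat_lit 25) = true := by decide +kernel
theorem chkP_200775 : allRangeF (checkPointF cert) (nat_lit 200775) (nat_lit 25) = true := by decide +kernel
theorem chkP_200800 : allRangeF (checkPointF cert) (nat_lit 200800) (nat_lit 25) = true := by decide +kernel
theorem chkP_200825 : allRangeF (checkPointF cert) (nat_lit 200825) (nat_lit 25) = true := by decide +kernel
theorem chkP_200850 : allRangeF (checkPointF cert) (nat_lit 200850) (nat_lit 25) = true := by decide +kernel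
theorem chkP_200875 : allRangeF (checkPointF cert) (nat_lit 200875) (nat_lit 25) = true := by decide +kernel
theorem chkP_200900 : allRangeF (checkPointF cert) (nat_lit 200900) (nat_lit 25) = true := by decide +kernel
theorem chkP_200925 : allRangeF (checkPointF cert) (nat_lit 200925) (nat_lit 25) = true := by decide +kernel
theorem chkP_200950 : allRangeF (checkPointF cert) (nat_lit 200950) (nat_lit 25) = true := by decide +kernel
theorem chkP_200975 : allRangeF (checkPointF cert) (nat_lit 200975) (nat_lit 25) = true := by decide +kernel
theorem chkP_201000 : allRangeF (checkPointF cert) (nat_lit 201000) (nat_lit 25) = true := by decide +kernel
theorem chkP_201025 : allRangeF (checkPointF cert) (nat_lit 201025) (nat_lit 25) = true := by decide +kernel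
theorem chkP_201050 : allRangeF (checkPointF cert) (nat_lit 201050) (nat_lit 25) = true := by decide +kernel
theorem chkP_201075 : allRangeF (checkPointF cert) (nat_lit 201075) (nat_lit 25) = true := by decide +kernel
theorem chkP_201100 : allRangeF (checkPointF cert) (nat_lit 201100) (nat_lit 25) = true := by decide +kernel
theorem chkP_201125 : allRangeF (checkPointF cert) (nat_lit 201125) (nat_lit 25) = true := by decide +kernel
theorem chkP_201150 : allRangeF (checkPointF cert) (nat_lit 201150) (nat_lit 25) = true := by decide +kernel
theorem chkP_201175 : allRangeF (checkPointF cert) (nat_lit 201175) (nat_lit 25) = true := by decide +kernel
theorem chkP_201200 : allRangeF (checkPointF cert) (nat_lit 201200) (nat_lit 25) = true := by decide +kernel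
theorem chkP_201225 : allRangeF (checkPointF cert) (nat_lit 201225) (nat_lit 25) = true := by decide +kernel
theorem chkP_201250 : allRangeF (checkPointF cert) (nat_lit 201250) (nat_lit 25) = true := by decide +kernel
theorem chkP_201275 : allRangeF (checkPointF cert) (nat_lit 201275) (nat_lit 25) = true := by decide +kernel
theorem chkP_201300 : allRangeF (checkPointF cert) (nat_lit 201300) (nat_lit 25) = true := by decide +kernel
theorem chkP_201325 : allRangeF (checkPointF cert) (nat_lit 201325) (nat_lit 25) = true := by decide +kernel
theorem chkP_201350 : allRangeF (checkPointF cert) (nat_lit 201350) (nat_lit 25) = true := by decide +kernel
theorem chkP_201375 : allRangeF (checkPointF cert) (nat_lit 201375) (nat_lit 25) = true := by decide +kernel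
theorem chkP_201400 : allRangeF (checkPointF cert) (nat_lit 201400) (nat_lit 25) = true := by decide +kernel
theorem chkP_201425 : allRangeF (checkPointF cert) (nat_lit 201425) (nat_lit 25) = true := by decide +kernel
theorem chkP_201450 : allRangeF (checkPointF cert) (nat_lit 201450) (nat_lit 25) = true := by decide +kernel
theorem chkP_201475 : allRangeF (checkPointF cert) (nat_lit 201475) (nat_lit 25) = true := by decide +kernel
theorem chkP_201500 : allRangeF (checkPointF cert) (nat_lit 201500) (nat_lit 25) = true := by decide +kernel
theorem chkP_201525 : allRangeF (checkPointF cert) (nat_lit 201525) (nat_lit 25) = true := by decide +kernel
theorem chkP_201550 : allRangeF (checkPointF cert) (nat_lit 201550) (nat_lit 25) = true := by decide +kernel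
theorem chkP_201575 : allRangeF (checkPointF cert) (nat_lit 201575) (nat_lit 25) = true := by decide +kernel
theorem chkP_201600 : allRangeF (checkPointF cert) (nat_lit 201600) (nat_lit 25) = true := by decide +kernel
theorem chkP_201625 : allRangeF (checkPointF cert) (nat_lit 201625) (nat_lit 25) = true := by decide +kernel
theorem chkP_201650 : allRangeF (checkPointF cert) (nat_lit 201650) (nat_lit 25) = true := by decide +kernel
theorem chkP_201675 : allRangeF (checkPointF cert) (nat_lit 201675) (nat_lit 25) = true := by decide +kernel
theorem chkP_201700 : allRangeF (checkPointF cert) (nat_lit 201700) (nat_lit 25) = true := by decide +kernel
theorem chkP_201725 : allRangeF (checkPointF cert) (nat_lit 201725) (nat_lit 25) = true := by decide +kernel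
theorem chkP_201750 : allRangeF (checkPointF cert) (nat_lit 201750) (nat_lit 25) = true := by decide +kernel
theorem chkP_201775 : allRangeF (checkPointF cert) (nat_lit 201775) (nat_lit 25) = true := by decide +kernel
theorem chkP_201800 : allRangeF (checkPointF cert) (nat_lit 201800) (nat_lit 25) = true := by decide +kernel
theorem chkP_201825 : allRangeF (checkPointF cert) (nat_lit 201825) (nat_lit 25) = true := by decide +kernel
theorem chkP_201850 : allRangeF (checkPointF cert) (nat_lit 201850) (nat_lit 25) = true := by decide +kernel
theorem chkP_201875 : allRangeF (checkPointF cert) (nat_lit 201875) (nat_lit 25) = true := by decide +kernel
theorem chkP_201900 : allRangeF (checkPointF cert) (nat_lit 201900) (nat_lit 25) = true := by decide +kernel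
theorem chkP_201925 : allRangeF (checkPointF cert) (nat_lit 201925) (nat_lit 25) = true := by decide +kernel
theorem chkP_201950 : allRangeF (checkPointF cert) (nat_lit 201950) (nat_lit 25) = true := by decide +kernel
theorem chkP_201975 : allRangeF (checkPointF cert) (nat_lit 201975) (nat_lit 25) = true := by decide +kernel
theorem chkP_202000 : allRangeF (checkPointF cert) (nat_lit 202000) (nat_lit 25) = true := by decide +kernel
theorem chkP_202025 : allRangeF (checkPointF cert) (nat_lit 202025) (nat_lit 25) = true := by decide +kernel
theorem chkP_202050 : allRangeF (checkPointF cert) (nat_lit 202050) (nat_lit 25) = true := by decide +kernel
theorem chkP_202075 : allRangeF (checkPointF cert) (nat_lit 202075) (nat_lit 25) = true := by decide +kernel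
theorem chkP_202100 : allRangeF (checkPointF cert) (nat_lit 202100) (nat_lit 25) = true := by decide +kernel
theorem chkP_202125 : allRangeF (checkPointF cert) (nat_lit 202125) (nat_lit 25) = true := by decide +kernel
theorem chkP_202150 : allRangeF (checkPointF cert) (nat_lit 202150) (nat_lit 25) = true := by decide +kernel
theorem chkP_202175 : allRangeF (checkPointF cert) (nat_lit 202175) (nat_lit 25) = true := by decide +kernel
theorem chkP_202200 : allRangeF (checkPointF cert) (nat_lit 202200) (nat_lit 25) = true := by decide +kernel
theorem chkP_202225 : allRangeF (checkPointF cert) (nat_lit 202225) (nat_lit 25) = true := by decide +kernel
theorem chkP_202250 : allRangeF (checkPointF cert) (nat_lit 202250) (nat_lit 25) = true := by decide +kernel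
theorem chkP_202275 : allRangeF (checkPointF cert) (nat_lit 202275) (nat_lit 25) = true := by decide +kernel
theorem chkP_202300 : allRangeF (checkPointF cert) (nat_lit 202300) (nat_lit 25) = true := by decide +kernel
theorem chkP_202325 : allRangeF (checkPointF cert) (nat_lit 202325) (nat_lit 25) = true := by decide +kernel
theorem chkP_202350 : allRangeF (checkPointF cert) (nat_lit 202350) (nat_lit 25) = true := by decide +kernel
theorem chkP_202375 : allRangeF (checkPointF cert) (nat_lit 202375) (nat_lit 25) = true := by decide +kernel
theorem chkP_202400 : allRangeF (checkPointF cert) (nat_lit 202400) (nat_lit 25) = true := by decide +kernel
theorem chkP_202425 : allRangeF (checkPointF cert) (nat_lit 202425) (nat_lit 25) = true := by decide +kernel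
theorem chkP_202450 : allRangeF (checkPointF cert) (nat_lit 202450) (nat_lit 25) = true := by decide +kernel
theorem chkP_202475 : allRangeF (checkPointF cert) (nat_lit 202475) (nat_lit 25) = true := by decide +kernel
theorem chkP_202500 : allRangeF (checkPointF cert) (nat_lit 202500) (nat_lit 25) = true := by decide +kernel
theorem chkP_202525 : allRangeF (checkPointF cert) (nat_lit 202525) (nat_lit 25) = true := by decide +kernel
theorem chkP_202550 : allRangeF (checkPointF cert) (nat_lit 202550) (nat_lit 25) = true := by decide +kernel
theorem chkP_202575 : allRangeF (checkPointF cert) (nat_lit 202575) (nat_lit 25) = true := by decide +kernel
theorem chkP_202600 : allRangeF (checkPointF cert) (nat_lit 202600) (nat_lit 25) = true := by decide +kernel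
theorem chkP_202625 : allRangeF (checkPointF cert) (nat_lit 202625) (nat_lit 25) = true := by decide +kernel
theorem chkP_202650 : allRangeF (checkPointF cert) (nat_lit 202650) (nat_lit 25) = true := by decide +kernel
theorem chkP_202675 : allRangeF (checkPointF cert) (nat_lit 202675) (nat_lit 25) = true := by decide +kernel
theorem chkP_202700 : allRangeF (checkPointF cert) (nat_lit 202700) (nat_lit 25) = true := by decide +kernel
theorem chkP_202725 : allRangeF (checkPointF cert) (nat_lit 202725) (nat_lit 25) = true := by decide +kernel
theorem chkP_202750 : allRangeF (checkPointF cert) (nat_lit 202750) (nat_lit 25) = true := by decide +kernel
theorem chkP_202775 : allRangeF (checkPointF cert) (nat_lit 202775) (nat_lit 25) = true := by decide +kernel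
theorem chkP_202800 : allRangeF (checkPointF cert) (nat_lit 202800) (nat_lit 25) = true := by decide +kernel
theorem chkP_202825 : allRangeF (checkPointF cert) (nat_lit 202825) (nat_lit 25) = true := by decide +kernel
theorem chkP_202850 : allRangeF (checkPointF cert) (nat_lit 202850) (nat_lit 25) = true := by decide +kernel
theorem chkP_202875 : allRangeF (checkPointF cert) (nat_lit 202875) (nat_lit 25) = true := by decide +kernel
theorem chkP_202900 : allRangeF (checkPointF cert) (nat_lit 202900) (nat_lit 25) = true := by decide +kernel
theorem chkP_202925 : allRangeF (checkPointF cert) (nat_lit 202925) (nat_lit 25) = true := by decide +kernel
theorem chkP_202950 : allRangeF (checkPointF cert) (nat_lit 202950) (nat_lit 25) = true := by decide +kernel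
theorem chkP_202975 : allRangeF (checkPointF cert) (nat_lit 202975) (nat_lit 25) = true := by decide +kernel
theorem chkP_203000 : allRangeF (checkPointF cert) (nat_lit 203000) (nat_lit 25) = true := by decide +kernel
theorem chkP_203025 : allRangeF (checkPointF cert) (nat_lit 203025) (nat_lit 25) = true := by decide +kernel
theorem chkP_203050 : allRangeF (checkPointF cert) (nat_lit 203050) (nat_lit 25) = true := by decide +kernel
theorem chkP_203075 : allRangeF (checkPointF cert) (nat_lit 203075) (nat_lit 25) = true := by decide +kernel
theorem chkP_203100 : allRangeF (checkPointF cert) (nat_lit 203100) (nat_lit 25) = true := by decide +kernel
theorem chkP_203125 : allRangeF (checkPointF cert) (nat_lit 203125) (nat_lit 25) = true := by decide +kernel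
theorem chkP_203150 : allRangeF (checkPointF cert) (nat_lit 203150) (nat_lit 25) = true := by decide +kernel
theorem chkP_203175 : allRangeF (checkPointF cert) (nat_lit 203175) (nat_lit 25) = true := by decide +kernel
theorem chkP_203200 : allRangeF (checkPointF cert) (nat_lit 203200) (nat_lit 25) = true := by decide +kernel
theorem chkP_203225 : allRangeF (checkPointF cert) (nat_lit 203225) (nat_lit 25) = true := by decide +kernel
theorem chkP_203250 : allRangeF (checkPointF cert) (nat_lit 203250) (nat_lit 25) = true := by decide +kernel
theorem chkP_203275 : allRangeF (checkPointF cert) (nat_lit 203275) (nat_lit 25) = true := by decide +kernel
theorem chkP_203300 : allRangeF (checkPointF cert) (nat_lit 203300) (nat_lit 25) = true := by decide +kernel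
theorem chkP_203325 : allRangeF (checkPointF cert) (nat_lit 203325) (nat_lit 25) = true := by decide +kernel
theorem chkP_203350 : allRangeF (checkPointF cert) (nat_lit 203350) (nat_lit 25) = true := by decide +kernel
theorem chkP_203375 : allRangeF (checkPointF cert) (nat_lit 203375) (nat_lit 25) = true := by decide +kernel
theorem chkP_203400 : allRangeF (checkPointF cert) (nat_lit 203400) (nat_lit 25) = true := by decide +kernel
theorem chkP_203425 : allRangeF (checkPointF cert) (nat_lit 203425) (nat_lit 25) = true := by decide +kernel
theorem chkP_203450 : allRangeF (checkPointF cert) (nat_lit 203450) (nat_lit 25) = true := by decide +kernel
theorem chkP_203475 : allRangeF (checkPointF cert) (nat_lit 203475) (nat_lit 25) = true := by decide +kernel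
theorem chkP_203500 : allRangeF (checkPointF cert) (nat_lit 203500) (nat_lit 25) = true := by decide +kernel
theorem chkP_203525 : allRangeF (checkPointF cert) (nat_lit 203525) (nat_lit 25) = true := by decide +kernel
theorem chkP_203550 : allRangeF (checkPointF cert) (nat_lit 203550) (nat_lit 25) = true := by decide +kernel
theorem chkP_203575 : allRangeF (checkPointF cert) (nat_lit 203575) (nat_lit 25) = true := by decide +kernel
theorem chkP_203600 : allRangeF (checkPointF cert) (nat_lit 203600) (nat_lit 25) = true := by decide +kernel
theorem chkP_203625 : allRangeF (checkPointF cert) (nat_lit 203625) (nat_lit 25) = true := by decide +kernel
theorem chkP_203650 : allRangeF (checkPointF cert) (nat_lit 203650) (nat_lit 25) = true := by decide +kernel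
theorem chkP_203675 : allRangeF (checkPointF cert) (nat_lit 203675) (nat_lit 25) = true := by decide +kernel
theorem chkP_203700 : allRangeF (checkPointF cert) (nat_lit 203700) (nat_lit 25) = true := by decide +kernel
theorem chkP_203725 : allRangeF (checkPointF cert) (nat_lit 203725) (nat_lit 25) = true := by decide +kernel
theorem chkP_203750 : allRangeF (checkPointF cert) (nat_lit 203750) (nat_lit 25) = true := by decide +kernel
theorem chkP_203775 : allRangeF (checkPointF cert) (nat_lit 203775) (nat_lit 25) = true := by decide +kernel
theorem chkP_203800 : allRangeF (checkPointF cert) (nat_lit 203800) (nat_lit 25) = true := by decide +kernel
theorem chkP_203825 : allRangeF (checkPointF cert) (nat_lit 203825) (nat_lit 25) = true := by decide +kernel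
theorem chkP_203850 : allRangeF (checkPointF cert) (nat_lit 203850) (nat_lit 25) = true := by decide +kernel
theorem chkP_203875 : allRangeF (checkPointF cert) (nat_lit 203875) (nat_lit 25) = true := by decide +kernel
theorem chkP_203900 : allRangeF (checkPointF cert) (nat_lit 203900) (nat_lit 25) = true := by decide +kernel
theorem chkP_203925 : allRangeF (checkPointF cert) (nat_lit 203925) (nat_lit 25) = true := by decide +kernel
theorem chkP_203950 : allRangeF (checkPointF cert) (nat_lit 203950) (nat_lit 25) = true := by decide +kernel
theorem chkP_203975 : allRangeF (checkPointF cert) (nat_lit 203975) (nat_lit 25) = true := by decide +kernel
theorem chkP_204000 : allRangeF (checkPointF cert) (nat_lit 204000) (nat_lit 25) = true := by decide +kernel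
theorem chkP_204025 : allRangeF (checkPointF cert) (nat_lit 204025) (nat_lit 25) = true := by decide +kernel
theorem chkP_204050 : allRangeF (checkPointF cert) (nat_lit 204050) (nat_lit 25) = true := by decide +kernel
theorem chkP_204075 : allRangeF (checkPointF cert) (nat_lit 204075) (nat_lit 25) = true := by decide +kernel
theorem chkP_204100 : allRangeF (checkPointF cert) (nat_lit 204100) (nat_lit 25) = true := by decide +kernel
theorem chkP_204125 : allRangeF (checkPointF cert) (nat_lit 204125) (nat_lit 25) = true := by decide +kernel
theorem chkP_204150 : allRangeF (checkPointF cert) (nat_lit 204150) (nat_lit 25) = true := by decide +kernel
theorem chkP_204175 : allRangeF (checkPointF cert) (nat_lit 204175) (nat_lit 25) = true := by decide +kernel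
theorem chkP_204200 : allRangeF (checkPointF cert) (nat_lit 204200) (nat_lit 25) = true := by decide +kernel
theorem chkP_204225 : allRangeF (checkPointF cert) (nat_lit 204225) (nat_lit 25) = true := by decide +kernel
theorem chkP_204250 : allRangeF (checkPointF cert) (nat_lit 204250) (nat_lit 25) = true := by decide +kernel
theorem chkP_204275 : allRangeF (checkPointF cert) (nat_lit 204275) (nat_lit 25) = true := by decide +kernel
theorem chkP_204300 : allRangeF (checkPointF cert) (nat_lit 204300) (nat_lit 25) = true := by decide +kernel
theorem chkP_204325 : allRangeF (checkPointF cert) (nat_lit 204325) (nat_lit 25) = true := by decide +kernel
theorem chkP_204350 : allRangeF (checkPointF cert) (nat_lit 204350) (nat_lit 25) = true := by decide +kernel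
theorem chkP_204375 : allRangeF (checkPointF cert) (nat_lit 204375) (nat_lit 25) = true := by decide +kernel
theorem chkP_204400 : allRangeF (checkPointF cert) (nat_lit 204400) (nat_lit 25) = true := by decide +kernel
theorem chkP_204425 : allRangeF (checkPointF cert) (nat_lit 204425) (nat_lit 25) = true := by decide +kernel
theorem chkP_204450 : allRangeF (checkPointF cert) (nat_lit 204450) (nat_lit 25) = true := by decide +kernel
theorem chkP_204475 : allRangeF (checkPointF cert) (nat_lit 204475) (nat_lit 25) = true := by decide +kernel
theorem chkP_204500 : allRangeF (checkPointF cert) (nat_lit 204500) (nat_lit 25) = true := by decide +kernel
theorem chkP_204525 : allRangeF (checkPointF cert) (nat_lit 204525) (nat_lit 25) = true := by decide +kernel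
theorem chkP_204550 : allRangeF (checkPointF cert) (nat_lit 204550) (nat_lit 25) = true := by decide +kernel
theorem chkP_204575 : allRangeF (checkPointF cert) (nat_lit 204575) (nat_lit 25) = true := by decide +kernel
theorem chkP_204600 : allRangeF (checkPointF cert) (nat_lit 204600) (nat_lit 25) = true := by decide +kernel
theorem chkP_204625 : allRangeF (checkPointF cert) (nat_lit 204625) (nat_lit 25) = true := by decide +kernel
theorem chkP_204650 : allRangeF (checkPointF cert) (nat_lit 204650) (nat_lit 25) = true := by decide +kernel
theorem chkP_204675 : allRangeF (checkPointF cert) (nat_lit 204675) (nat_lit 25) = true := by decide +kernel
theorem chkP_204700 : allRangeF (checkPointF cert) (nat_lit 204700) (nat_lit 25) = true := by decide +kernel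
theorem chkP_204725 : allRangeF (checkPointF cert) (nat_lit 204725) (nat_lit 25) = true := by decide +kernel
theorem chkP_204750 : allRangeF (checkPointF cert) (nat_lit 204750) (nat_lit 25) = true := by decide +kernel
theorem chkP_204775 : allRangeF (checkPointF cert) (nat_lit 204775) (nat_lit 25) = true := by decide +kernel
theorem chkP_204800 : allRangeF (checkPointF cert) (nat_lit 204800) (nat_lit 25) = true := by decide +kernel
theorem chkP_204825 : allRangeF (checkPointF cert) (nat_lit 204825) (nat_lit 25) = true := by decide +kernel
theorem chkP_204850 : allRangeF (checkPointF cert) (nat_lit 204850) (nat_lit 25) = true := by decide +kernel
theorem chkP_204875 : allRangeF (checkPointF cert) (nat_lit 204875) (nat_lit 25) = true := by decide +kernel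
theorem chkP_204900 : allRangeF (checkPointF cert) (nat_lit 204900) (nat_lit 25) = true := by decide +kernel
theorem chkP_204925 : allRangeF (checkPointF cert) (nat_lit 204925) (nat_lit 25) = true := by decide +kernel
theorem chkP_204950 : allRangeF (checkPointF cert) (nat_lit 204950) (nat_lit 25) = true := by decide +kernel
theorem chkP_204975 : allRangeF (checkPointF cert) (nat_lit 204975) (nat_lit 25) = true := by decide +kernel
theorem chkP_205000 : allRangeF (checkPointF cert) (nat_lit 205000) (nat_lit 25) = true := by decide +kernel
theorem chkP_205025 : allRangeF (checkPointF cert) (nat_lit 205025) (nat_lit 25) = true := by decide +kernel
theorem chkP_205050 : allRangeF (checkPointF cert) (nat_lit 205050) (nat_lit 25) = true := by decide +kernel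
theorem chkP_205075 : allRangeF (checkPointF cert) (nat_lit 205075) (nat_lit 25) = true := by decide +kernel
theorem chkP_205100 : allRangeF (checkPointF cert) (nat_lit 205100) (nat_lit 25) = true := by decide +kernel
theorem chkP_205125 : allRangeF (checkPointF cert) (nat_lit 205125) (nat_lit 25) = true := by decide +kernel
theorem chkP_205150 : allRangeF (checkPointF cert) (nat_lit 205150) (nat_lit 25) = true := by decide +kernel
theorem chkP_205175 : allRangeF (checkPointF cert) (nat_lit 205175) (nat_lit 25) = true := by decide +kernel
theorem chkP_205200 : allRangeF (checkPointF cert) (nat_lit 205200) (nat_lit 25) = true := by decide +kernel
theorem chkP_205225 : allRangeF (checkPointF cert) (nat_lit 205225) (nat_lit 25) = true := by decide +kernel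
theorem chkP_205250 : allRangeF (checkPointF cert) (nat_lit 205250) (nat_lit 25) = true := by decide +kernel
theorem chkP_205275 : allRangeF (checkPointF cert) (nat_lit 205275) (nat_lit 25) = true := by decide +kernel
theorem chkP_205300 : allRangeF (checkPointF cert) (nat_lit 205300) (nat_lit 25) = true := by decide +kernel
theorem chkP_205325 : allRangeF (checkPointF cert) (nat_lit 205325) (nat_lit 25) = true := by decide +kernel
theorem chkP_205350 : allRangeF (checkPointF cert) (nat_lit 205350) (nat_lit 25) = true := by decide +kernel
theorem chkP_205375 : allRangeF (checkPointF cert) (nat_lit 205375) (nat_lit 25) = true := by decide +kernel
theorem chkP_205400 : allRangeF (checkPointF cert) (nat_lit 205400) (nat_lit 25) = true := by decide +kernel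
theorem chkP_205425 : allRangeF (checkPointF cert) (nat_lit 205425) (nat_lit 25) = true := by decide +kernel
theorem chkP_205450 : allRangeF (checkPointF cert) (nat_lit 205450) (nat_lit 25) = true := by decide +kernel
theorem chkP_205475 : allRangeF (checkPointF cert) (nat_lit 205475) (nat_lit 25) = true := by decide +kernel
theorem chkP_205500 : allRangeF (checkPointF cert) (nat_lit 205500) (nat_lit 25) = true := by decide +kernel
theorem chkP_205525 : allRangeF (checkPointF cert) (nat_lit 205525) (nat_lit 25) = true := by decide +kernel
theorem chkP_205550 : allRangeF (checkPointF cert) (nat_lit 205550) (nat_lit 25) = true := by decide +kernel
theorem chkP_205575 : allRangeF (checkPointF cert) (nat_lit 205575) (nat_lit 25) = true := by decide +kernel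
theorem chkP_205600 : allRangeF (checkPointF cert) (nat_lit 205600) (nat_lit 25) = true := by decide +kernel
theorem chkP_205625 : allRangeF (checkPointF cert) (nat_lit 205625) (nat_lit 25) = true := by decide +kernel
theorem chkP_205650 : allRangeF (checkPointF cert) (nat_lit 205650) (nat_lit 25) = true := by decide +kernel
theorem chkP_205675 : allRangeF (checkPointF cert) (nat_lit 205675) (nat_lit 25) = true := by decide +kernel
theorem chkP_205700 : allRangeF (checkPointF cert) (nat_lit 205700) (nat_lit 25) = true := by decide +kernel
theorem chkP_205725 : allRangeF (checkPointF cert) (nat_lit 205725) (nat_lit 25) = true := by decide +kernel
theorem chkP_205750 : allRangeF (checkPointF cert) (nat_lit 205750) (nat_lit 25) = true := by decide +kernel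
theorem chkP_205775 : allRangeF (checkPointF cert) (nat_lit 205775) (nat_lit 25) = true := by decide +kernel
theorem chkP_205800 : allRangeF (checkPointF cert) (nat_lit 205800) (nat_lit 25) = true := by decide +kernel
theorem chkP_205825 : allRangeF (checkPointF cert) (nat_lit 205825) (nat_lit 25) = true := by decide +kernel
theorem chkP_205850 : allRangeF (checkPointF cert) (nat_lit 205850) (nat_lit 25) = true := by decide +kernel
theorem chkP_205875 : allRangeF (checkPointF cert) (nat_lit 205875) (nat_lit 25) = true := by decide +kernel
theorem chkP_205900 : allRangeF (checkPointF cert) (nat_lit 205900) (nat_lit 25) = true := by decide +kernel
theorem chkP_205925 : allRangeF (checkPointF cert) (nat_lit 205925) (nat_lit 25) = true := by decide +kernel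
theorem chkP_205950 : allRangeF (checkPointF cert) (nat_lit 205950) (nat_lit 25) = true := by decide +kernel
theorem chkP_205975 : allRangeF (checkPointF cert) (nat_lit 205975) (nat_lit 25) = true := by decide +kernel
theorem chkP_206000 : allRangeF (checkPointF cert) (nat_lit 206000) (nat_lit 25) = true := by decide +kernel
theorem chkP_206025 : allRangeF (checkPointF cert) (nat_lit 206025) (nat_lit 25) = true := by decide +kernel
theorem chkP_206050 : allRangeF (checkPointF cert) (nat_lit 206050) (nat_lit 25) = true := by decide +kernel
theorem chkP_206075 : allRangeF (checkPointF cert) (nat_lit 206075) (nat_lit 25) = true := by decide +kernel
theorem chkP_206100 : allRangeF (checkPointF cert) (nat_lit 206100) (nat_lit 25) = true := by decide +kernel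
theorem chkP_206125 : allRangeF (checkPointF cert) (nat_lit 206125) (nat_lit 25) = true := by decide +kernel
theorem chkP_206150 : allRangeF (checkPointF cert) (nat_lit 206150) (nat_lit 25) = true := by decide +kernel
theorem chkP_206175 : allRangeF (checkPointF cert) (nat_lit 206175) (nat_lit 25) = true := by decide +kernel
theorem chkP_206200 : allRangeF (checkPointF cert) (nat_lit 206200) (nat_lit 25) = true := by decide +kernel
theorem chkP_206225 : allRangeF (checkPointF cert) (nat_lit 206225) (nat_lit 25) = true := by decide +kernel
theorem chkP_206250 : allRangeF (checkPointF cert) (nat_lit 206250) (nat_lit 25) = true := by decide +kernel
theorem chkP_206275 : allRangeF (checkPointF cert) (nat_lit 206275) (nat_lit 25) = true := by decide +kernel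
theorem chkP_206300 : allRangeF (checkPointF cert) (nat_lit 206300) (nat_lit 25) = true := by decide +kernel
theorem chkP_206325 : allRangeF (checkPointF cert) (nat_lit 206325) (nat_lit 25) = true := by decide +kernel
theorem chkP_206350 : allRangeF (checkPointF cert) (nat_lit 206350) (nat_lit 25) = true := by decide +kernel
theorem chkP_206375 : allRangeF (checkPointF cert) (nat_lit 206375) (nat_lit 25) = true := by decide +kernel
theorem chkP_206400 : allRangeF (checkPointF cert) (nat_lit 206400) (nat_lit 25) = true := by decide +kernel
theorem chkP_206425 : allRangeF (checkPointF cert) (nat_lit 206425) (nat_lit 25) = true := by decide +kernel
theorem chkP_206450 : allRangeF (checkPointF cert) (nat_lit 206450) (nat_lit 25) = true := by decide +kernel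
theorem chkP_206475 : allRangeF (checkPointF cert) (nat_lit 206475) (nat_lit 25) = true := by decide +kernel
theorem chkP_206500 : allRangeF (checkPointF cert) (nat_lit 206500) (nat_lit 25) = true := by decide +kernel
theorem chkP_206525 : allRangeF (checkPointF cert) (nat_lit 206525) (nat_lit 25) = true := by decide +kernel
theorem chkP_206550 : allRangeF (checkPointF cert) (nat_lit 206550) (nat_lit 25) = true := by decide +kernel
theorem chkP_206575 : allRangeF (checkPointF cert) (nat_lit 206575) (nat_lit 25) = true := by decide +kernel
theorem chkP_206600 : allRangeF (checkPointF cert) (nat_lit 206600) (nat_lit 25) = true := by decide +kernel
theorem chkP_206625 : allRangeF (checkPointF cert) (nat_lit 206625) (nat_lit 25) = true := by decide +kernel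
theorem chkP_206650 : allRangeF (checkPointF cert) (nat_lit 206650) (nat_lit 25) = true := by decide +kernel
theorem chkP_206675 : allRangeF (checkPointF cert) (nat_lit 206675) (nat_lit 25) = true := by decide +kernel
theorem chkP_206700 : allRangeF (checkPointF cert) (nat_lit 206700) (nat_lit 25) = true := by decide +kernel
theorem chkP_206725 : allRangeF (checkPointF cert) (nat_lit 206725) (nat_lit 25) = true := by decide +kernel
theorem chkP_206750 : allRangeF (checkPointF cert) (nat_lit 206750) (nat_lit 25) = true := by decide +kernel
theorem chkP_206775 : allRangeF (checkPointF cert) (nat_lit 206775) (nat_lit 25) = true := by decide +kernel
theorem chkP_206800 : allRangeF (checkPointF cert) (nat_lit 206800) (nat_lit 25) = true := by decide +kernel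
theorem chkP_206825 : allRangeF (checkPointF cert) (nat_lit 206825) (nat_lit 25) = true := by decide +kernel
theorem chkP_206850 : allRangeF (checkPointF cert) (nat_lit 206850) (nat_lit 25) = true := by decide +kernel
theorem chkP_206875 : allRangeF (checkPointF cert) (nat_lit 206875) (nat_lit 25) = true := by decide +kernel
theorem chkP_206900 : allRangeF (checkPointF cert) (nat_lit 206900) (nat_lit 25) = true := by decide +kernel
theorem chkP_206925 : allRangeF (checkPointF cert) (nat_lit 206925) (nat_lit 25) = true := by decide +kernel
theorem chkP_206950 : allRangeF (checkPointF cert) (nat_lit 206950) (nat_lit 25) = true := by decide +kernel
theorem chkP_206975 : allRangeF (checkPointF cert) (nat_lit 206975) (nat_lit 25) = true := by decide +kernel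
theorem chkP_207000 : allRangeF (checkPointF cert) (nat_lit 207000) (nat_lit 25) = true := by decide +kernel
theorem chkP_207025 : allRangeF (checkPointF cert) (nat_lit 207025) (nat_lit 25) = true := by decide +kernel
theorem chkP_207050 : allRangeF (checkPointF cert) (nat_lit 207050) (nat_lit 25) = true := by decide +kernel
theorem chkP_207075 : allRangeF (checkPointF cert) (nat_lit 207075) (nat_lit 25) = true := by decide +kernel
theorem chkP_207100 : allRangeF (checkPointF cert) (nat_lit 207100) (nat_lit 25) = true := by decide +kernel
theorem chkP_207125 : allRangeF (checkPointF cert) (nat_lit 207125) (nat_lit 25) = true := by decide +kernel
theorem chkP_207150 : allRangeF (checkPointF cert) (nat_lit 207150) (nat_lit 25) = true := by decide +kernel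
theorem chkP_207175 : allRangeF (checkPointF cert) (nat_lit 207175) (nat_lit 25) = true := by decide +kernel
theorem chkP_207200 : allRangeF (checkPointF cert) (nat_lit 207200) (nat_lit 25) = true := by decide +kernel

theorem ptsRange_26 : ∀ i, 199550 ≤ i → i < 207225 → checkPoint cert i = true := by
  intro i hlo hhi
  rcases Nat.lt_or_ge i 203375 with h1 | h1
  · skip
    rcases Nat.lt_or_ge i 201450 with h2 | h2
    · skip
      rcases Nat.lt_or_ge i 200500 with h3 | h3
      · skip
        rcases Nat.lt_or_ge i 200025 with h4 | h4
        · skip
          rcases Nat.lt_or_ge i 199775 with h5 | h5
          · skip
            rcases Nat.lt_or_ge i 199650 with h6 | h6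
            · skip
              rcases Nat.lt_or_ge i 199600 with h7 | h7
              · skip
                rcases Nat.lt_or_ge i 199575 with h8 | h8
                · skip
                  exact allRangeF_sound _ _ (checkPointF_eq cert) 199550 25 chkP_199550 i (by omega) (by omega)
                · skip
                  exact allRangeF_sound _ _ (checkPointF_eq cert) 199575 25 chkP_199575 i (by omega) (by omega)
              · skip
                rcases Nat.lt_or_ge i 199625 with h8 | h8
                · skip
                  exact allRangeF_sound _ _ (checkPointF_eq cert) 199600 25 chkP_199600 i (by omega) (by omega)
                · skip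
                  exact allRangeF_sound _ _ (checkPointF_eq cert) 199625 25 chkP_199625 i (by omega) (by omega)
            · skip
              rcases Nat.lt_or_ge i 199700 with h7 | h7
              · skip
                rcases Nat.lt_or_ge i 199675 with h8 | h8
                · skip
                  exact allRangeF_sound _ _ (checkPointF_eq cert) 199650 25 chkP_199650 i (by omega) (by omega)
                · skip
                  exact allRangeF_sound _ _ (checkPointF_eq cert) 199675 25 chkP_199675 i (by omega) (by omega)
              · skip
                rcases Nat.lt_or_ge i 199725 with h8 | h8
                · skip
                  exact allRangeF_sound _ _ (checkPointF_eq cert) 199700 25 chkP_199700 i (by omega) (by omega)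
                · skip
                  rcases Nat.lt_or_ge i 199750 with h9 | h9
                  · skip
                    exact allRangeF_sound _ _ (checkPointF_eq cert) 199725 25 chkP_199725 i (by omega) (by omega)
                  · skip
                    exact allRangeF_sound _ _ (checkPointF_eq cert) 199750 25 chkP_199750 i (by omega) (by omega)
          · skip
            rcases Nat.lt_or_ge i 199900 with h6 | h6
            · skip
              rcases Nat.lt_or_ge i 199825 with h7 | h7
              · skip
                rcases Nat.lt_or_ge i 199800 with h8 | h8
                · skip
                  exact allRangeF_sound _ _ (checkPointF_eq cert) 199775 25 chkP_199775 i (by omega) (by omega)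
                · skip
                  exact allRangeF_sound _ _ (checkPointF_eq cert) 199800 25 chkP_199800 i (by omega) (by omega)
              · skip
                rcases Nat.lt_or_ge i 199850 with h8 | h8
                · skip
                  exact allRangeF_sound _ _ (checkPointF_eq cert) 199825 25 chkP_199825 i (by omega) (by omega)
                · skip
                  rcases Nat.lt_or_ge i 199875 with h9 | h9
                  · skip
                    exact allRangeF_sound _ _ (checkPointF_eq cert) 199850 25 chkP_199850 i (by omega) (by omega)
                  · skip
                    exact allRangeF_sound _ _ (checkPointF_eq cert) 199875 25 chkP_199875 i (by omega) (by omega)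
            · skip
              rcases Nat.lt_or_ge i 199950 with h7 | h7
              · skip
                rcases Nat.lt_or_ge i 199925 with h8 | h8
                · skip
                  exact allRangeF_sound _ _ (checkPointF_eq cert) 199900 25 chkP_199900 i (by omega) (by omega)
                · skip
                  exact allRangeF_sound _ _ (checkPointF_eq cert) 199925 25 chkP_199925 i (by omega) (by omega)
              · skip
                rcases Nat.lt_or_ge i 199975 with h8 | h8
                · skip
                  exact allRangeF_sound _ _ (checkPointF_eq cert) 199950 25 chkP_199950 i (by omega) (by omega)
                · skip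
                  rcases Nat.lt_or_ge i 200000 with h9 | h9
                  · skip
                    exact allRangeF_sound _ _ (checkPointF_eq cert) 199975 25 chkP_199975 i (by omega) (by omega)
                  · skip
                    exact allRangeF_sound _ _ (checkPointF_eq cert) 200000 25 chkP_200000 i (by omega) (by omega)
        · skip
          rcases Nat.lt_or_ge i 200250 with h5 | h5
          · skip
            rcases Nat.lt_or_ge i 200125 with h6 | h6
            · skip
              rcases Nat.lt_or_ge i 200075 with h7 | h7
              · skip
                rcases Nat.lt_or_ge i 200050 with h8 | h8
                · skip
                  exact allRangeF_sound _ _ (checkPointF_eq cert) 200025 25 chkP_200025 i (by omega) (by omega)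
                · skip
                  exact allRangeF_sound _ _ (checkPointF_eq cert) 200050 25 chkP_200050 i (by omega) (by omega)
              · skip
                rcases Nat.lt_or_ge i 200100 with h8 | h8
                · skip
                  exact allRangeF_sound _ _ (checkPointF_eq cert) 200075 25 chkP_200075 i (by omega) (by omega)
                · skip
                  exact allRangeF_sound _ _ (checkPointF_eq cert) 200100 25 chkP_200100 i (by omega) (by omega)
            · skip
              rcases Nat.lt_or_ge i 200175 with h7 | h7
              · skip
                rcases Nat.lt_or_ge i 200150 with h8 | h8
                · skip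
                  exact allRangeF_sound _ _ (checkPointF_eq cert) 200125 25 chkP_200125 i (by omega) (by omega)
                · skip
                  exact allRangeF_sound _ _ (checkPointF_eq cert) 200150 25 chkP_200150 i (by omega) (by omega)
              · skip
                rcases Nat.lt_or_ge i 200200 with h8 | h8
                · skip
                  exact allRangeF_sound _ _ (checkPointF_eq cert) 200175 25 chkP_200175 i (by omega) (by omega)
                · skip
                  rcases Nat.lt_or_ge i 200225 with h9 | h9
                  · skip
                    exact allRangeF_sound _ _ (checkPointF_eq cert) 200200 25 chkP_200200 i (by omega) (by omega)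
                  · skip
                    exact allRangeF_sound _ _ (checkPointF_eq cert) 200225 25 chkP_200225 i (by omega) (by omega)
          · skip
            rcases Nat.lt_or_ge i 200375 with h6 | h6
            · skip
              rcases Nat.lt_or_ge i 200300 with h7 | h7
              · skip
                rcases Nat.lt_or_ge i 200275 with h8 | h8
                · skip
                  exact allRangeF_sound _ _ (checkPointF_eq cert) 200250 25 chkP_200250 i (by omega) (by omega)
                · skip
                  exact allRangeF_sound _ _ (checkPointF_eq cert) 200275 25 chkP_200275 i (by omega) (by omega)
              · skip
                rcases Nat.lt_or_ge i 200325 with h8 | h8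
                · skip
                  exact allRangeF_sound _ _ (checkPointF_eq cert) 200300 25 chkP_200300 i (by omega) (by omega)
                · skip
                  rcases Nat.lt_or_ge i 200350 with h9 | h9
                  · skip
                    exact allRangeF_sound _ _ (checkPointF_eq cert) 200325 25 chkP_200325 i (by omega) (by omega)
                  · skip
                    exact allRangeF_sound _ _ (checkPointF_eq cert) 200350 25 chkP_200350 i (by omega) (by omega)
            · skip
              rcases Nat.lt_or_ge i 200425 with h7 | h7
              · skip
                rcases Nat.lt_or_ge i 200400 with h8 | h8
                · skip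
                  exact allRangeF_sound _ _ (checkPointF_eq cert) 200375 25 chkP_200375 i (by omega) (by omega)
                · skip
                  exact allRangeF_sound _ _ (checkPointF_eq cert) 200400 25 chkP_200400 i (by omega) (by omega)
              · skip
                rcases Nat.lt_or_ge i 200450 with h8 | h8
                · skip
                  exact allRangeF_sound _ _ (checkPointF_eq cert) 200425 25 chkP_200425 i (by omega) (by omega)
                · skip
                  rcases Nat.lt_or_ge i 200475 with h9 | h9
                  · skip
                    exact allRangeF_sound _ _ (checkPointF_eq cert) 200450 25 chkP_200450 i (by omega) (by omega)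
                  · skip
                    exact allRangeF_sound _ _ (checkPointF_eq cert) 200475 25 chkP_200475 i (by omega) (by omega)
      · skip
        rcases Nat.lt_or_ge i 200975 with h4 | h4
        · skip
          rcases Nat.lt_or_ge i 200725 with h5 | h5
          · skip
            rcases Nat.lt_or_ge i 200600 with h6 | h6
            · skip
              rcases Nat.lt_or_ge i 200550 with h7 | h7
              · skip
                rcases Nat.lt_or_ge i 200525 with h8 | h8
                · skip
                  exact allRangeF_sound _ _ (checkPointF_eq cert) 200500 25 chkP_200500 i (by omega) (by omega)
                · skip
                  exact allRangeF_sound _ _ (checkPointF_eq cert) 200525 25 chkP_200525 i (by omega) (by omega)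
              · skip
                rcases Nat.lt_or_ge i 200575 with h8 | h8
                · skip
                  exact allRangeF_sound _ _ (checkPointF_eq cert) 200550 25 chkP_200550 i (by omega) (by omega)
                · skip
                  exact allRangeF_sound _ _ (checkPointF_eq cert) 200575 25 chkP_200575 i (by omega) (by omega)
            · skip
              rcases Nat.lt_or_ge i 200650 with h7 | h7
              · skip
                rcases Nat.lt_or_ge i 200625 with h8 | h8
                · skip
                  exact allRangeF_sound _ _ (checkPointF_eq cert) 200600 25 chkP_200600 i (by omega) (by omega)
                · skip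
                  exact allRangeF_sound _ _ (checkPointF_eq cert) 200625 25 chkP_200625 i (by omega) (by omega)
              · skip
                rcases Nat.lt_or_ge i 200675 with h8 | h8
                · skip
                  exact allRangeF_sound _ _ (checkPointF_eq cert) 200650 25 chkP_200650 i (by omega) (by omega)
                · skip
                  rcases Nat.lt_or_ge i 200700 with h9 | h9
                  · skip
                    exact allRangeF_sound _ _ (checkPointF_eq cert) 200675 25 chkP_200675 i (by omega) (by omega)
                  · skip
                    exact allRangeF_sound _ _ (checkPointF_eq cert) 200700 25 chkP_200700 i (by omega) (by omega)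
          · skip
            rcases Nat.lt_or_ge i 200850 with h6 | h6
            · skip
              rcases Nat.lt_or_ge i 200775 with h7 | h7
              · skip
                rcases Nat.lt_or_ge i 200750 with h8 | h8
                · skip
                  exact allRangeF_sound _ _ (checkPointF_eq cert) 200725 25 chkP_200725 i (by omega) (by omega)
                · skip
                  exact allRangeF_sound _ _ (checkPointF_eq cert) 200750 25 chkP_200750 i (by omega) (by omega)
              · skip
                rcases Nat.lt_or_ge i 200800 with h8 | h8
                · skip
                  exact allRangeF_sound _ _ (checkPointF_eq cert) 200775 25 chkP_200775 i (by omega) (by omega)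
                · skip
                  rcases Nat.lt_or_ge i 200825 with h9 | h9
                  · skip
                    exact allRangeF_sound _ _ (checkPointF_eq cert) 200800 25 chkP_200800 i (by omega) (by omega)
                  · skip
                    exact allRangeF_sound _ _ (checkPointF_eq cert) 200825 25 chkP_200825 i (by omega) (by omega)
            · skip
              rcases Nat.lt_or_ge i 200900 with h7 | h7
              · skip
                rcases Nat.lt_or_ge i 200875 with h8 | h8
                · skip
                  exact allRangeF_sound _ _ (checkPointF_eq cert) 200850 25 chkP_200850 i (by omega) (by omega)
                · skip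
                  exact allRangeF_sound _ _ (checkPointF_eq cert) 200875 25 chkP_200875 i (by omega) (by omega)
              · skip
                rcases Nat.lt_or_ge i 200925 with h8 | h8
                · skip
                  exact allRangeF_sound _ _ (checkPointF_eq cert) 200900 25 chkP_200900 i (by omega) (by omega)
                · skip
                  rcases Nat.lt_or_ge i 200950 with h9 | h9
                  · skip
                    exact allRangeF_sound _ _ (checkPointF_eq cert) 200925 25 chkP_200925 i (by omega) (by omega)
                  · skip
                    exact allRangeF_sound _ _ (checkPointF_eq cert) 200950 25 chkP_200950 i (by omega) (by omega)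
        · skip
          rcases Nat.lt_or_ge i 201200 with h5 | h5
          · skip
            rcases Nat.lt_or_ge i 201075 with h6 | h6
            · skip
              rcases Nat.lt_or_ge i 201025 with h7 | h7
              · skip
                rcases Nat.lt_or_ge i 201000 with h8 | h8
                · skip
                  exact allRangeF_sound _ _ (checkPointF_eq cert) 200975 25 chkP_200975 i (by omega) (by omega)
                · skip
                  exact allRangeF_sound _ _ (checkPointF_eq cert) 201000 25 chkP_201000 i (by omega) (by omega)
              · skip
                rcases Nat.lt_or_ge i 201050 with h8 | h8
                · skip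
                  exact allRangeF_sound _ _ (checkPointF_eq cert) 201025 25 chkP_201025 i (by omega) (by omega)
                · skip
                  exact allRangeF_sound _ _ (checkPointF_eq cert) 201050 25 chkP_201050 i (by omega) (by omega)
            · skip
              rcases Nat.lt_or_ge i 201125 with h7 | h7
              · skip
                rcases Nat.lt_or_ge i 201100 with h8 | h8
                · skip
                  exact allRangeF_sound _ _ (checkPointF_eq cert) 201075 25 chkP_201075 i (by omega) (by omega)
                · skip
                  exact allRangeF_sound _ _ (checkPointF_eq cert) 201100 25 chkP_201100 i (by omega) (by omega)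
              · skip
                rcases Nat.lt_or_ge i 201150 with h8 | h8
                · skip
                  exact allRangeF_sound _ _ (checkPointF_eq cert) 201125 25 chkP_201125 i (by omega) (by omega)
                · skip
                  rcases Nat.lt_or_ge i 201175 with h9 | h9
                  · skip
                    exact allRangeF_sound _ _ (checkPointF_eq cert) 201150 25 chkP_201150 i (by omega) (by omega)
                  · skip
                    exact allRangeF_sound _ _ (checkPointF_eq cert) 201175 25 chkP_201175 i (by omega) (by omega)
          · skip
            rcases Nat.lt_or_ge i 201325 with h6 | h6
            · skip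
              rcases Nat.lt_or_ge i 201250 with h7 | h7
              · skip
                rcases Nat.lt_or_ge i 201225 with h8 | h8
                · skip
                  exact allRangeF_sound _ _ (checkPointF_eq cert) 201200 25 chkP_201200 i (by omega) (by omega)
                · skip
                  exact allRangeF_sound _ _ (checkPointF_eq cert) 201225 25 chkP_201225 i (by omega) (by omega)
              · skip
                rcases Nat.lt_or_ge i 201275 with h8 | h8
                · skip
                  exact allRangeF_sound _ _ (checkPointF_eq cert) 201250 25 chkP_201250 i (by omega) (by omega)
                · skip
                  rcases Nat.lt_or_ge i 201300 with h9 | h9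
                  · skip
                    exact allRangeF_sound _ _ (checkPointF_eq cert) 201275 25 chkP_201275 i (by omega) (by omega)
                  · skip
                    exact allRangeF_sound _ _ (checkPointF_eq cert) 201300 25 chkP_201300 i (by omega) (by omega)
            · skip
              rcases Nat.lt_or_ge i 201375 with h7 | h7
              · skip
                rcases Nat.lt_or_ge i 201350 with h8 | h8
                · skip
                  exact allRangeF_sound _ _ (checkPointF_eq cert) 201325 25 chkP_201325 i (by omega) (by omega)
                · skip
                  exact allRangeF_sound _ _ (checkPointF_eq cert) 201350 25 chkP_201350 i (by omega) (by omega)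
              · skip
                rcases Nat.lt_or_ge i 201400 with h8 | h8
                · skip
                  exact allRangeF_sound _ _ (checkPointF_eq cert) 201375 25 chkP_201375 i (by omega) (by omega)
                · skip
                  rcases Nat.lt_or_ge i 201425 with h9 | h9
                  · skip
                    exact allRangeF_sound _ _ (checkPointF_eq cert) 201400 25 chkP_201400 i (by omega) (by omega)
                  · skip
                    exact allRangeF_sound _ _ (checkPointF_eq cert) 201425 25 chkP_201425 i (by omega) (by omega)
    · skip
      rcases Nat.lt_or_ge i 202400 with h3 | h3
      · skip
        rcases Nat.lt_or_ge i 201925 with h4 | h4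
        · skip
          rcases Nat.lt_or_ge i 201675 with h5 | h5
          · skip
            rcases Nat.lt_or_ge i 201550 with h6 | h6
            · skip
              rcases Nat.lt_or_ge i 201500 with h7 | h7
              · skip
                rcases Nat.lt_or_ge i 201475 with h8 | h8
                · skip
                  exact allRangeF_sound _ _ (checkPointF_eq cert) 201450 25 chkP_201450 i (by omega) (by omega)
                · skip
                  exact allRangeF_sound _ _ (checkPointF_eq cert) 201475 25 chkP_201475 i (by omega) (by omega)
              · skip
                rcases Nat.lt_or_ge i 201525 with h8 | h8
                · skip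
                  exact allRangeF_sound _ _ (checkPointF_eq cert) 201500 25 chkP_201500 i (by omega) (by omega)
                · skip
                  exact allRangeF_sound _ _ (checkPointF_eq cert) 201525 25 chkP_201525 i (by omega) (by omega)
            · skip
              rcases Nat.lt_or_ge i 201600 with h7 | h7
              · skip
                rcases Nat.lt_or_ge i 201575 with h8 | h8
                · skip
                  exact allRangeF_sound _ _ (checkPointF_eq cert) 201550 25 chkP_201550 i (by omega) (by omega)
                · skip
                  exact allRangeF_sound _ _ (checkPointF_eq cert) 201575 25 chkP_201575 i (by omega) (by omega)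
              · skip
                rcases Nat.lt_or_ge i 201625 with h8 | h8
                · skip
                  exact allRangeF_sound _ _ (checkPointF_eq cert) 201600 25 chkP_201600 i (by omega) (by omega)
                · skip
                  rcases Nat.lt_or_ge i 201650 with h9 | h9
                  · skip
                    exact allRangeF_sound _ _ (checkPointF_eq cert) 201625 25 chkP_201625 i (by omega) (by omega)
                  · skip
                    exact allRangeF_sound _ _ (checkPointF_eq cert) 201650 25 chkP_201650 i (by omega) (by omega)
          · skip
            rcases Nat.lt_or_ge i 201800 with h6 | h6
            · skip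
              rcases Nat.lt_or_ge i 201725 with h7 | h7
              · skip
                rcases Nat.lt_or_ge i 201700 with h8 | h8
                · skip
                  exact allRangeF_sound _ _ (checkPointF_eq cert) 201675 25 chkP_201675 i (by omega) (by omega)
                · skip
                  exact allRangeF_sound _ _ (checkPointF_eq cert) 201700 25 chkP_201700 i (by omega) (by omega)
              · skip
                rcases Nat.lt_or_ge i 201750 with h8 | h8
                · skip
                  exact allRangeF_sound _ _ (checkPointF_eq cert) 201725 25 chkP_201725 i (by omega) (by omega)
                · skip
                  rcases Nat.lt_or_ge i 201775 with h9 | h9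
                  · skip
                    exact allRangeF_sound _ _ (checkPointF_eq cert) 201750 25 chkP_201750 i (by omega) (by omega)
                  · skip
                    exact allRangeF_sound _ _ (checkPointF_eq cert) 201775 25 chkP_201775 i (by omega) (by omega)
            · skip
              rcases Nat.lt_or_ge i 201850 with h7 | h7
              · skip
                rcases Nat.lt_or_ge i 201825 with h8 | h8
                · skip
                  exact allRangeF_sound _ _ (checkPointF_eq cert) 201800 25 chkP_201800 i (by omega) (by omega)
                · skip
                  exact allRangeF_sound _ _ (checkPointF_eq cert) 201825 25 chkP_201825 i (by omega) (by omega)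
              · skip
                rcases Nat.lt_or_ge i 201875 with h8 | h8
                · skip
                  exact allRangeF_sound _ _ (checkPointF_eq cert) 201850 25 chkP_201850 i (by omega) (by omega)
                · skip
                  rcases Nat.lt_or_ge i 201900 with h9 | h9
                  · skip
                    exact allRangeF_sound _ _ (checkPointF_eq cert) 201875 25 chkP_201875 i (by omega) (by omega)
                  · skip
                    exact allRangeF_sound _ _ (checkPointF_eq cert) 201900 25 chkP_201900 i (by omega) (by omega)
        · skip
          rcases Nat.lt_or_ge i 202150 with h5 | h5
          · skip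
            rcases Nat.lt_or_ge i 202025 with h6 | h6
            · skip
              rcases Nat.lt_or_ge i 201975 with h7 | h7
              · skip
                rcases Nat.lt_or_ge i 201950 with h8 | h8
                · skip
                  exact allRangeF_sound _ _ (checkPointF_eq cert) 201925 25 chkP_201925 i (by omega) (by omega)
                · skip
                  exact allRangeF_sound _ _ (checkPointF_eq cert) 201950 25 chkP_201950 i (by omega) (by omega)
              · skip
                rcases Nat.lt_or_ge i 202000 with h8 | h8
                · skip
                  exact allRangeF_sound _ _ (checkPointF_eq cert) 201975 25 chkP_201975 i (by omega) (by omega)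
                · skip
                  exact allRangeF_sound _ _ (checkPointF_eq cert) 202000 25 chkP_202000 i (by omega) (by omega)
            · skip
              rcases Nat.lt_or_ge i 202075 with h7 | h7
              · skip
                rcases Nat.lt_or_ge i 202050 with h8 | h8
                · skip
                  exact allRangeF_sound _ _ (checkPointF_eq cert) 202025 25 chkP_202025 i (by omega) (by omega)
                · skip
                  exact allRangeF_sound _ _ (checkPointF_eq cert) 202050 25 chkP_202050 i (by omega) (by omega)
              · skip
                rcases Nat.lt_or_ge i 202100 with h8 | h8
                · skip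
                  exact allRangeF_sound _ _ (checkPointF_eq cert) 202075 25 chkP_202075 i (by omega) (by omega)
                · skip
                  rcases Nat.lt_or_ge i 202125 with h9 | h9
                  · skip
                    exact allRangeF_sound _ _ (checkPointF_eq cert) 202100 25 chkP_202100 i (by omega) (by omega)
                  · skip
                    exact allRangeF_sound _ _ (checkPointF_eq cert) 202125 25 chkP_202125 i (by omega) (by omega)
          · skip
            rcases Nat.lt_or_ge i 202275 with h6 | h6
            · skip
              rcases Nat.lt_or_ge i 202200 with h7 | h7
              · skip
                rcases Nat.lt_or_ge i 202175 with h8 | h8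
                · skip
                  exact allRangeF_sound _ _ (checkPointF_eq cert) 202150 25 chkP_202150 i (by omega) (by omega)
                · skip
                  exact allRangeF_sound _ _ (checkPointF_eq cert) 202175 25 chkP_202175 i (by omega) (by omega)
              · skip
                rcases Nat.lt_or_ge i 202225 with h8 | h8
                · skip
                  exact allRangeF_sound _ _ (checkPointF_eq cert) 202200 25 chkP_202200 i (by omega) (by omega)
                · skip
                  rcases Nat.lt_or_ge i 202250 with h9 | h9
                  · skip
                    exact allRangeF_sound _ _ (checkPointF_eq cert) 202225 25 chkP_202225 i (by omega) (by omega)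
                  · skip
                    exact allRangeF_sound _ _ (checkPointF_eq cert) 202250 25 chkP_202250 i (by omega) (by omega)
            · skip
              rcases Nat.lt_or_ge i 202325 with h7 | h7
              · skip
                rcases Nat.lt_or_ge i 202300 with h8 | h8
                · skip
                  exact allRangeF_sound _ _ (checkPointF_eq cert) 202275 25 chkP_202275 i (by omega) (by omega)
                · skip
                  exact allRangeF_sound _ _ (checkPointF_eq cert) 202300 25 chkP_202300 i (by omega) (by omega)
              · skip
                rcases Nat.lt_or_ge i 202350 with h8 | h8
                · skip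
                  exact allRangeF_sound _ _ (checkPointF_eq cert) 202325 25 chkP_202325 i (by omega) (by omega)
                · skip
                  rcases Nat.lt_or_ge i 202375 with h9 | h9
                  · skip
                    exact allRangeF_sound _ _ (checkPointF_eq cert) 202350 25 chkP_202350 i (by omega) (by omega)
                  · skip
                    exact allRangeF_sound _ _ (checkPointF_eq cert) 202375 25 chkP_202375 i (by omega) (by omega)
      · skip
        rcases Nat.lt_or_ge i 202875 with h4 | h4
        · skip
          rcases Nat.lt_or_ge i 202625 with h5 | h5
          · skip
            rcases Nat.lt_or_ge i 202500 with h6 | h6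
            · skip
              rcases Nat.lt_or_ge i 202450 with h7 | h7
              · skip
                rcases Nat.lt_or_ge i 202425 with h8 | h8
                · skip
                  exact allRangeF_sound _ _ (checkPointF_eq cert) 202400 25 chkP_202400 i (by omega) (by omega)
                · skip
                  exact allRangeF_sound _ _ (checkPointF_eq cert) 202425 25 chkP_202425 i (by omega) (by omega)
              · skip
                rcases Nat.lt_or_ge i 202475 with h8 | h8
                · skip
                  exact allRangeF_sound _ _ (checkPointF_eq cert) 202450 25 chkP_202450 i (by omega) (by omega)
                · skip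
                  exact allRangeF_sound _ _ (checkPointF_eq cert) 202475 25 chkP_202475 i (by omega) (by omega)
            · skip
              rcases Nat.lt_or_ge i 202550 with h7 | h7
              · skip
                rcases Nat.lt_or_ge i 202525 with h8 | h8
                · skip
                  exact allRangeF_sound _ _ (checkPointF_eq cert) 202500 25 chkP_202500 i (by omega) (by omega)
                · skip
                  exact allRangeF_sound _ _ (checkPointF_eq cert) 202525 25 chkP_202525 i (by omega) (by omega)
              · skip
                rcases Nat.lt_or_ge i 202575 with h8 | h8
                · skip
                  exact allRangeF_sound _ _ (checkPointF_eq cert) 202550 25 chkP_202550 i (by omega) (by omega)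
                · skip
                  rcases Nat.lt_or_ge i 202600 with h9 | h9
                  · skip
                    exact allRangeF_sound _ _ (checkPointF_eq cert) 202575 25 chkP_202575 i (by omega) (by omega)
                  · skip
                    exact allRangeF_sound _ _ (checkPointF_eq cert) 202600 25 chkP_202600 i (by omega) (by omega)
          · skip
            rcases Nat.lt_or_ge i 202750 with h6 | h6
            · skip
              rcases Nat.lt_or_ge i 202675 with h7 | h7
              · skip
                rcases Nat.lt_or_ge i 202650 with h8 | h8
                · skip
                  exact allRangeF_sound _ _ (checkPointF_eq cert) 202625 25 chkP_202625 i (by omega) (by omega)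
                · skip
                  exact allRangeF_sound _ _ (checkPointF_eq cert) 202650 25 chkP_202650 i (by omega) (by omega)
              · skip
                rcases Nat.lt_or_ge i 202700 with h8 | h8
                · skip
                  exact allRangeF_sound _ _ (checkPointF_eq cert) 202675 25 chkP_202675 i (by omega) (by omega)
                · skip
                  rcases Nat.lt_or_ge i 202725 with h9 | h9
                  · skip
                    exact allRangeF_sound _ _ (checkPointF_eq cert) 202700 25 chkP_202700 i (by omega) (by omega)
                  · skip
                    exact allRangeF_sound _ _ (checkPointF_eq cert) 202725 25 chkP_202725 i (by omega) (by omega)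
            · skip
              rcases Nat.lt_or_ge i 202800 with h7 | h7
              · skip
                rcases Nat.lt_or_ge i 202775 with h8 | h8
                · skip
                  exact allRangeF_sound _ _ (checkPointF_eq cert) 202750 25 chkP_202750 i (by omega) (by omega)
                · skip
                  exact allRangeF_sound _ _ (checkPointF_eq cert) 202775 25 chkP_202775 i (by omega) (by omega)
              · skip
                rcases Nat.lt_or_ge i 202825 with h8 | h8
                · skip
                  exact allRangeF_sound _ _ (checkPointF_eq cert) 202800 25 chkP_202800 i (by omega) (by omega)
                · skip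
                  rcases Nat.lt_or_ge i 202850 with h9 | h9
                  · skip
                    exact allRangeF_sound _ _ (checkPointF_eq cert) 202825 25 chkP_202825 i (by omega) (by omega)
                  · skip
                    exact allRangeF_sound _ _ (checkPointF_eq cert) 202850 25 chkP_202850 i (by omega) (by omega)
        · skip
          rcases Nat.lt_or_ge i 203125 with h5 | h5
          · skip
            rcases Nat.lt_or_ge i 203000 with h6 | h6
            · skip
              rcases Nat.lt_or_ge i 202925 with h7 | h7
              · skip
                rcases Nat.lt_or_ge i 202900 with h8 | h8
                · skip
                  exact allRangeF_sound _ _ (checkPointF_eq cert) 202875 25 chkP_202875 i (by omega) (by omega)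
                · skip
                  exact allRangeF_sound _ _ (checkPointF_eq cert) 202900 25 chkP_202900 i (by omega) (by omega)
              · skip
                rcases Nat.lt_or_ge i 202950 with h8 | h8
                · skip
                  exact allRangeF_sound _ _ (checkPointF_eq cert) 202925 25 chkP_202925 i (by omega) (by omega)
                · skip
                  rcases Nat.lt_or_ge i 202975 with h9 | h9
                  · skip
                    exact allRangeF_sound _ _ (checkPointF_eq cert) 202950 25 chkP_202950 i (by omega) (by omega)
                  · skip
                    exact allRangeF_sound _ _ (checkPointF_eq cert) 202975 25 chkP_202975 i (by omega) (by omega)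
            · skip
              rcases Nat.lt_or_ge i 203050 with h7 | h7
              · skip
                rcases Nat.lt_or_ge i 203025 with h8 | h8
                · skip
                  exact allRangeF_sound _ _ (checkPointF_eq cert) 203000 25 chkP_203000 i (by omega) (by omega)
                · skip
                  exact allRangeF_sound _ _ (checkPointF_eq cert) 203025 25 chkP_203025 i (by omega) (by omega)
              · skip
                rcases Nat.lt_or_ge i 203075 with h8 | h8
                · skip
                  exact allRangeF_sound _ _ (checkPointF_eq cert) 203050 25 chkP_203050 i (by omega) (by omega)
                · skip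
                  rcases Nat.lt_or_ge i 203100 with h9 | h9
                  · skip
                    exact allRangeF_sound _ _ (checkPointF_eq cert) 203075 25 chkP_203075 i (by omega) (by omega)
                  · skip
                    exact allRangeF_sound _ _ (checkPointF_eq cert) 203100 25 chkP_203100 i (by omega) (by omega)
          · skip
            rcases Nat.lt_or_ge i 203250 with h6 | h6
            · skip
              rcases Nat.lt_or_ge i 203175 with h7 | h7
              · skip
                rcases Nat.lt_or_ge i 203150 with h8 | h8
                · skip
                  exact allRangeF_sound _ _ (checkPointF_eq cert) 203125 25 chkP_203125 i (by omega) (by omega)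
                · skip
                  exact allRangeF_sound _ _ (checkPointF_eq cert) 203150 25 chkP_203150 i (by omega) (by omega)
              · skip
                rcases Nat.lt_or_ge i 203200 with h8 | h8
                · skip
                  exact allRangeF_sound _ _ (checkPointF_eq cert) 203175 25 chkP_203175 i (by omega) (by omega)
                · skip
                  rcases Nat.lt_or_ge i 203225 with h9 | h9
                  · skip
                    exact allRangeF_sound _ _ (checkPointF_eq cert) 203200 25 chkP_203200 i (by omega) (by omega)
                  · skip
                    exact allRangeF_sound _ _ (checkPointF_eq cert) 203225 25 chkP_203225 i (by omega) (by omega)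
            · skip
              rcases Nat.lt_or_ge i 203300 with h7 | h7
              · skip
                rcases Nat.lt_or_ge i 203275 with h8 | h8
                · skip
                  exact allRangeF_sound _ _ (checkPointF_eq cert) 203250 25 chkP_203250 i (by omega) (by omega)
                · skip
                  exact allRangeF_sound _ _ (checkPointF_eq cert) 203275 25 chkP_203275 i (by omega) (by omega)
              · skip
                rcases Nat.lt_or_ge i 203325 with h8 | h8
                · skip
                  exact allRangeF_sound _ _ (checkPointF_eq cert) 203300 25 chkP_203300 i (by omega) (by omega)
                · skip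
                  rcases Nat.lt_or_ge i 203350 with h9 | h9
                  · skip
                    exact allRangeF_sound _ _ (checkPointF_eq cert) 203325 25 chkP_203325 i (by omega) (by omega)
                  · skip
                    exact allRangeF_sound _ _ (checkPointF_eq cert) 203350 25 chkP_203350 i (by omega) (by omega)
  · skip
    rcases Nat.lt_or_ge i 205300 with h2 | h2
    · skip
      rcases Nat.lt_or_ge i 204325 with h3 | h3
      · skip
        rcases Nat.lt_or_ge i 203850 with h4 | h4
        · skip
          rcases Nat.lt_or_ge i 203600 with h5 | h5
          · skip
            rcases Nat.lt_or_ge i 203475 with h6 | h6
            · skip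
              rcases Nat.lt_or_ge i 203425 with h7 | h7
              · skip
                rcases Nat.lt_or_ge i 203400 with h8 | h8
                · skip
                  exact allRangeF_sound _ _ (checkPointF_eq cert) 203375 25 chkP_203375 i (by omega) (by omega)
                · skip
                  exact allRangeF_sound _ _ (checkPointF_eq cert) 203400 25 chkP_203400 i (by omega) (by omega)
              · skip
                rcases Nat.lt_or_ge i 203450 with h8 | h8
                · skip
                  exact allRangeF_sound _ _ (checkPointF_eq cert) 203425 25 chkP_203425 i (by omega) (by omega)
                · skip
                  exact allRangeF_sound _ _ (checkPointF_eq cert) 203450 25 chkP_203450 i (by omega) (by omega)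
            · skip
              rcases Nat.lt_or_ge i 203525 with h7 | h7
              · skip
                rcases Nat.lt_or_ge i 203500 with h8 | h8
                · skip
                  exact allRangeF_sound _ _ (checkPointF_eq cert) 203475 25 chkP_203475 i (by omega) (by omega)
                · skip
                  exact allRangeF_sound _ _ (checkPointF_eq cert) 203500 25 chkP_203500 i (by omega) (by omega)
              · skip
                rcases Nat.lt_or_ge i 203550 with h8 | h8
                · skip
                  exact allRangeF_sound _ _ (checkPointF_eq cert) 203525 25 chkP_203525 i (by omega) (by omega)
                · skip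
                  rcases Nat.lt_or_ge i 203575 with h9 | h9
                  · skip
                    exact allRangeF_sound _ _ (checkPointF_eq cert) 203550 25 chkP_203550 i (by omega) (by omega)
                  · skip
                    exact allRangeF_sound _ _ (checkPointF_eq cert) 203575 25 chkP_203575 i (by omega) (by omega)
          · skip
            rcases Nat.lt_or_ge i 203725 with h6 | h6
            · skip
              rcases Nat.lt_or_ge i 203650 with h7 | h7
              · skip
                rcases Nat.lt_or_ge i 203625 with h8 | h8
                · skip
                  exact allRangeF_sound _ _ (checkPointF_eq cert) 203600 25 chkP_203600 i (by omega) (by omega)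
                · skip
                  exact allRangeF_sound _ _ (checkPointF_eq cert) 203625 25 chkP_203625 i (by omega) (by omega)
              · skip
                rcases Nat.lt_or_ge i 203675 with h8 | h8
                · skip
                  exact allRangeF_sound _ _ (checkPointF_eq cert) 203650 25 chkP_203650 i (by omega) (by omega)
                · skip
                  rcases Nat.lt_or_ge i 203700 with h9 | h9
                  · skip
                    exact allRangeF_sound _ _ (checkPointF_eq cert) 203675 25 chkP_203675 i (by omega) (by omega)
                  · skip
                    exact allRangeF_sound _ _ (checkPointF_eq cert) 203700 25 chkP_203700 i (by omega) (by omega)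
            · skip
              rcases Nat.lt_or_ge i 203775 with h7 | h7
              · skip
                rcases Nat.lt_or_ge i 203750 with h8 | h8
                · skip
                  exact allRangeF_sound _ _ (checkPointF_eq cert) 203725 25 chkP_203725 i (by omega) (by omega)
                · skip
                  exact allRangeF_sound _ _ (checkPointF_eq cert) 203750 25 chkP_203750 i (by omega) (by omega)
              · skip
                rcases Nat.lt_or_ge i 203800 with h8 | h8
                · skip
                  exact allRangeF_sound _ _ (checkPointF_eq cert) 203775 25 chkP_203775 i (by omega) (by omega)
                · skip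
                  rcases Nat.lt_or_ge i 203825 with h9 | h9
                  · skip
                    exact allRangeF_sound _ _ (checkPointF_eq cert) 203800 25 chkP_203800 i (by omega) (by omega)
                  · skip
                    exact allRangeF_sound _ _ (checkPointF_eq cert) 203825 25 chkP_203825 i (by omega) (by omega)
        · skip
          rcases Nat.lt_or_ge i 204075 with h5 | h5
          · skip
            rcases Nat.lt_or_ge i 203950 with h6 | h6
            · skip
              rcases Nat.lt_or_ge i 203900 with h7 | h7
              · skip
                rcases Nat.lt_or_ge i 203875 with h8 | h8
                · skip
                  exact allRangeF_sound _ _ (checkPointF_eq cert) 203850 25 chkP_203850 i (by omega) (by omega)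
                · skip
                  exact allRangeF_sound _ _ (checkPointF_eq cert) 203875 25 chkP_203875 i (by omega) (by omega)
              · skip
                rcases Nat.lt_or_ge i 203925 with h8 | h8
                · skip
                  exact allRangeF_sound _ _ (checkPointF_eq cert) 203900 25 chkP_203900 i (by omega) (by omega)
                · skip
                  exact allRangeF_sound _ _ (checkPointF_eq cert) 203925 25 chkP_203925 i (by omega) (by omega)
            · skip
              rcases Nat.lt_or_ge i 204000 with h7 | h7
              · skip
                rcases Nat.lt_or_ge i 203975 with h8 | h8
                · skip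
                  exact allRangeF_sound _ _ (checkPointF_eq cert) 203950 25 chkP_203950 i (by omega) (by omega)
                · skip
                  exact allRangeF_sound _ _ (checkPointF_eq cert) 203975 25 chkP_203975 i (by omega) (by omega)
              · skip
                rcases Nat.lt_or_ge i 204025 with h8 | h8
                · skip
                  exact allRangeF_sound _ _ (checkPointF_eq cert) 204000 25 chkP_204000 i (by omega) (by omega)
                · skip
                  rcases Nat.lt_or_ge i 204050 with h9 | h9
                  · skip
                    exact allRangeF_sound _ _ (checkPointF_eq cert) 204025 25 chkP_204025 i (by omega) (by omega)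
                  · skip
                    exact allRangeF_sound _ _ (checkPointF_eq cert) 204050 25 chkP_204050 i (by omega) (by omega)
          · skip
            rcases Nat.lt_or_ge i 204200 with h6 | h6
            · skip
              rcases Nat.lt_or_ge i 204125 with h7 | h7
              · skip
                rcases Nat.lt_or_ge i 204100 with h8 | h8
                · skip
                  exact allRangeF_sound _ _ (checkPointF_eq cert) 204075 25 chkP_204075 i (by omega) (by omega)
                · skip
                  exact allRangeF_sound _ _ (checkPointF_eq cert) 204100 25 chkP_204100 i (by omega) (by omega)
              · skip
                rcases Nat.lt_or_ge i 204150 with h8 | h8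
                · skip
                  exact allRangeF_sound _ _ (checkPointF_eq cert) 204125 25 chkP_204125 i (by omega) (by omega)
                · skip
                  rcases Nat.lt_or_ge i 204175 with h9 | h9
                  · skip
                    exact allRangeF_sound _ _ (checkPointF_eq cert) 204150 25 chkP_204150 i (by omega) (by omega)
                  · skip
                    exact allRangeF_sound _ _ (checkPointF_eq cert) 204175 25 chkP_204175 i (by omega) (by omega)
            · skip
              rcases Nat.lt_or_ge i 204250 with h7 | h7
              · skip
                rcases Nat.lt_or_ge i 204225 with h8 | h8
                · skip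
                  exact allRangeF_sound _ _ (checkPointF_eq cert) 204200 25 chkP_204200 i (by omega) (by omega)
                · skip
                  exact allRangeF_sound _ _ (checkPointF_eq cert) 204225 25 chkP_204225 i (by omega) (by omega)
              · skip
                rcases Nat.lt_or_ge i 204275 with h8 | h8
                · skip
                  exact allRangeF_sound _ _ (checkPointF_eq cert) 204250 25 chkP_204250 i (by omega) (by omega)
                · skip
                  rcases Nat.lt_or_ge i 204300 with h9 | h9
                  · skip
                    exact allRangeF_sound _ _ (checkPointF_eq cert) 204275 25 chkP_204275 i (by omega) (by omega)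
                  · skip
                    exact allRangeF_sound _ _ (checkPointF_eq cert) 204300 25 chkP_204300 i (by omega) (by omega)
      · skip
        rcases Nat.lt_or_ge i 204800 with h4 | h4
        · skip
          rcases Nat.lt_or_ge i 204550 with h5 | h5
          · skip
            rcases Nat.lt_or_ge i 204425 with h6 | h6
            · skip
              rcases Nat.lt_or_ge i 204375 with h7 | h7
              · skip
                rcases Nat.lt_or_ge i 204350 with h8 | h8
                · skip
                  exact allRangeF_sound _ _ (checkPointF_eq cert) 204325 25 chkP_204325 i (by omega) (by omega)
                · skip
                  exact allRangeF_sound _ _ (checkPointF_eq cert) 204350 25 chkP_204350 i (by omega) (by omega)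
              · skip
                rcases Nat.lt_or_ge i 204400 with h8 | h8
                · skip
                  exact allRangeF_sound _ _ (checkPointF_eq cert) 204375 25 chkP_204375 i (by omega) (by omega)
                · skip
                  exact allRangeF_sound _ _ (checkPointF_eq cert) 204400 25 chkP_204400 i (by omega) (by omega)
            · skip
              rcases Nat.lt_or_ge i 204475 with h7 | h7
              · skip
                rcases Nat.lt_or_ge i 204450 with h8 | h8
                · skip
                  exact allRangeF_sound _ _ (checkPointF_eq cert) 204425 25 chkP_204425 i (by omega) (by omega)
                · skip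
                  exact allRangeF_sound _ _ (checkPointF_eq cert) 204450 25 chkP_204450 i (by omega) (by omega)
              · skip
                rcases Nat.lt_or_ge i 204500 with h8 | h8
                · skip
                  exact allRangeF_sound _ _ (checkPointF_eq cert) 204475 25 chkP_204475 i (by omega) (by omega)
                · skip
                  rcases Nat.lt_or_ge i 204525 with h9 | h9
                  · skip
                    exact allRangeF_sound _ _ (checkPointF_eq cert) 204500 25 chkP_204500 i (by omega) (by omega)
                  · skip
                    exact allRangeF_sound _ _ (checkPointF_eq cert) 204525 25 chkP_204525 i (by omega) (by omega)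
          · skip
            rcases Nat.lt_or_ge i 204675 with h6 | h6
            · skip
              rcases Nat.lt_or_ge i 204600 with h7 | h7
              · skip
                rcases Nat.lt_or_ge i 204575 with h8 | h8
                · skip
                  exact allRangeF_sound _ _ (checkPointF_eq cert) 204550 25 chkP_204550 i (by omega) (by omega)
                · skip
                  exact allRangeF_sound _ _ (checkPointF_eq cert) 204575 25 chkP_204575 i (by omega) (by omega)
              · skip
                rcases Nat.lt_or_ge i 204625 with h8 | h8
                · skip
                  exact allRangeF_sound _ _ (checkPointF_eq cert) 204600 25 chkP_204600 i (by omega) (by omega)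
                · skip
                  rcases Nat.lt_or_ge i 204650 with h9 | h9
                  · skip
                    exact allRangeF_sound _ _ (checkPointF_eq cert) 204625 25 chkP_204625 i (by omega) (by omega)
                  · skip
                    exact allRangeF_sound _ _ (checkPointF_eq cert) 204650 25 chkP_204650 i (by omega) (by omega)
            · skip
              rcases Nat.lt_or_ge i 204725 with h7 | h7
              · skip
                rcases Nat.lt_or_ge i 204700 with h8 | h8
                · skip
                  exact allRangeF_sound _ _ (checkPointF_eq cert) 204675 25 chkP_204675 i (by omega) (by omega)
                · skip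
                  exact allRangeF_sound _ _ (checkPointF_eq cert) 204700 25 chkP_204700 i (by omega) (by omega)
              · skip
                rcases Nat.lt_or_ge i 204750 with h8 | h8
                · skip
                  exact allRangeF_sound _ _ (checkPointF_eq cert) 204725 25 chkP_204725 i (by omega) (by omega)
                · skip
                  rcases Nat.lt_or_ge i 204775 with h9 | h9
                  · skip
                    exact allRangeF_sound _ _ (checkPointF_eq cert) 204750 25 chkP_204750 i (by omega) (by omega)
                  · skip
                    exact allRangeF_sound _ _ (checkPointF_eq cert) 204775 25 chkP_204775 i (by omega) (by omega)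
        · skip
          rcases Nat.lt_or_ge i 205050 with h5 | h5
          · skip
            rcases Nat.lt_or_ge i 204925 with h6 | h6
            · skip
              rcases Nat.lt_or_ge i 204850 with h7 | h7
              · skip
                rcases Nat.lt_or_ge i 204825 with h8 | h8
                · skip
                  exact allRangeF_sound _ _ (checkPointF_eq cert) 204800 25 chkP_204800 i (by omega) (by omega)
                · skip
                  exact allRangeF_sound _ _ (checkPointF_eq cert) 204825 25 chkP_204825 i (by omega) (by omega)
              · skip
                rcases Nat.lt_or_ge i 204875 with h8 | h8
                · skip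
                  exact allRangeF_sound _ _ (checkPointF_eq cert) 204850 25 chkP_204850 i (by omega) (by omega)
                · skip
                  rcases Nat.lt_or_ge i 204900 with h9 | h9
                  · skip
                    exact allRangeF_sound _ _ (checkPointF_eq cert) 204875 25 chkP_204875 i (by omega) (by omega)
                  · skip
                    exact allRangeF_sound _ _ (checkPointF_eq cert) 204900 25 chkP_204900 i (by omega) (by omega)
            · skip
              rcases Nat.lt_or_ge i 204975 with h7 | h7
              · skip
                rcases Nat.lt_or_ge i 204950 with h8 | h8
                · skip
                  exact allRangeF_sound _ _ (checkPointF_eq cert) 204925 25 chkP_204925 i (by omega) (by omega)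
                · skip
                  exact allRangeF_sound _ _ (checkPointF_eq cert) 204950 25 chkP_204950 i (by omega) (by omega)
              · skip
                rcases Nat.lt_or_ge i 205000 with h8 | h8
                · skip
                  exact allRangeF_sound _ _ (checkPointF_eq cert) 204975 25 chkP_204975 i (by omega) (by omega)
                · skip
                  rcases Nat.lt_or_ge i 205025 with h9 | h9
                  · skip
                    exact allRangeF_sound _ _ (checkPointF_eq cert) 205000 25 chkP_205000 i (by omega) (by omega)
                  · skip
                    exact allRangeF_sound _ _ (checkPointF_eq cert) 205025 25 chkP_205025 i (by omega) (by omega)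
          · skip
            rcases Nat.lt_or_ge i 205175 with h6 | h6
            · skip
              rcases Nat.lt_or_ge i 205100 with h7 | h7
              · skip
                rcases Nat.lt_or_ge i 205075 with h8 | h8
                · skip
                  exact allRangeF_sound _ _ (checkPointF_eq cert) 205050 25 chkP_205050 i (by omega) (by omega)
                · skip
                  exact allRangeF_sound _ _ (checkPointF_eq cert) 205075 25 chkP_205075 i (by omega) (by omega)
              · skip
                rcases Nat.lt_or_ge i 205125 with h8 | h8
                · skip
                  exact allRangeF_sound _ _ (checkPointF_eq cert) 205100 25 chkP_205100 i (by omega) (by omega)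
                · skip
                  rcases Nat.lt_or_ge i 205150 with h9 | h9
                  · skip
                    exact allRangeF_sound _ _ (checkPointF_eq cert) 205125 25 chkP_205125 i (by omega) (by omega)
                  · skip
                    exact allRangeF_sound _ _ (checkPointF_eq cert) 205150 25 chkP_205150 i (by omega) (by omega)
            · skip
              rcases Nat.lt_or_ge i 205225 with h7 | h7
              · skip
                rcases Nat.lt_or_ge i 205200 with h8 | h8
                · skip
                  exact allRangeF_sound _ _ (checkPointF_eq cert) 205175 25 chkP_205175 i (by omega) (by omega)
                · skip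
                  exact allRangeF_sound _ _ (checkPointF_eq cert) 205200 25 chkP_205200 i (by omega) (by omega)
              · skip
                rcases Nat.lt_or_ge i 205250 with h8 | h8
                · skip
                  exact allRangeF_sound _ _ (checkPointF_eq cert) 205225 25 chkP_205225 i (by omega) (by omega)
                · skip
                  rcases Nat.lt_or_ge i 205275 with h9 | h9
                  · skip
                    exact allRangeF_sound _ _ (checkPointF_eq cert) 205250 25 chkP_205250 i (by omega) (by omega)
                  · skip
                    exact allRangeF_sound _ _ (checkPointF_eq cert) 205275 25 chkP_205275 i (by omega) (by omega)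
    · skip
      rcases Nat.lt_or_ge i 206250 with h3 | h3
      · skip
        rcases Nat.lt_or_ge i 205775 with h4 | h4
        · skip
          rcases Nat.lt_or_ge i 205525 with h5 | h5
          · skip
            rcases Nat.lt_or_ge i 205400 with h6 | h6
            · skip
              rcases Nat.lt_or_ge i 205350 with h7 | h7
              · skip
                rcases Nat.lt_or_ge i 205325 with h8 | h8
                · skip
                  exact allRangeF_sound _ _ (checkPointF_eq cert) 205300 25 chkP_205300 i (by omega) (by omega)
                · skip
                  exact allRangeF_sound _ _ (checkPointF_eq cert) 205325 25 chkP_205325 i (by omega) (by omega)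
              · skip
                rcases Nat.lt_or_ge i 205375 with h8 | h8
                · skip
                  exact allRangeF_sound _ _ (checkPointF_eq cert) 205350 25 chkP_205350 i (by omega) (by omega)
                · skip
                  exact allRangeF_sound _ _ (checkPointF_eq cert) 205375 25 chkP_205375 i (by omega) (by omega)
            · skip
              rcases Nat.lt_or_ge i 205450 with h7 | h7
              · skip
                rcases Nat.lt_or_ge i 205425 with h8 | h8
                · skip
                  exact allRangeF_sound _ _ (checkPointF_eq cert) 205400 25 chkP_205400 i (by omega) (by omega)
                · skip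
                  exact allRangeF_sound _ _ (checkPointF_eq cert) 205425 25 chkP_205425 i (by omega) (by omega)
              · skip
                rcases Nat.lt_or_ge i 205475 with h8 | h8
                · skip
                  exact allRangeF_sound _ _ (checkPointF_eq cert) 205450 25 chkP_205450 i (by omega) (by omega)
                · skip
                  rcases Nat.lt_or_ge i 205500 with h9 | h9
                  · skip
                    exact allRangeF_sound _ _ (checkPointF_eq cert) 205475 25 chkP_205475 i (by omega) (by omega)
                  · skip
                    exact allRangeF_sound _ _ (checkPointF_eq cert) 205500 25 chkP_205500 i (by omega) (by omega)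
          · skip
            rcases Nat.lt_or_ge i 205650 with h6 | h6
            · skip
              rcases Nat.lt_or_ge i 205575 with h7 | h7
              · skip
                rcases Nat.lt_or_ge i 205550 with h8 | h8
                · skip
                  exact allRangeF_sound _ _ (checkPointF_eq cert) 205525 25 chkP_205525 i (by omega) (by omega)
                · skip
                  exact allRangeF_sound _ _ (checkPointF_eq cert) 205550 25 chkP_205550 i (by omega) (by omega)
              · skip
                rcases Nat.lt_or_ge i 205600 with h8 | h8
                · skip
                  exact allRangeF_sound _ _ (checkPointF_eq cert) 205575 25 chkP_205575 i (by omega) (by omega)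
                · skip
                  rcases Nat.lt_or_ge i 205625 with h9 | h9
                  · skip
                    exact allRangeF_sound _ _ (checkPointF_eq cert) 205600 25 chkP_205600 i (by omega) (by omega)
                  · skip
                    exact allRangeF_sound _ _ (checkPointF_eq cert) 205625 25 chkP_205625 i (by omega) (by omega)
            · skip
              rcases Nat.lt_or_ge i 205700 with h7 | h7
              · skip
                rcases Nat.lt_or_ge i 205675 with h8 | h8
                · skip
                  exact allRangeF_sound _ _ (checkPointF_eq cert) 205650 25 chkP_205650 i (by omega) (by omega)
                · skip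
                  exact allRangeF_sound _ _ (checkPointF_eq cert) 205675 25 chkP_205675 i (by omega) (by omega)
              · skip
                rcases Nat.lt_or_ge i 205725 with h8 | h8
                · skip
                  exact allRangeF_sound _ _ (checkPointF_eq cert) 205700 25 chkP_205700 i (by omega) (by omega)
                · skip
                  rcases Nat.lt_or_ge i 205750 with h9 | h9
                  · skip
                    exact allRangeF_sound _ _ (checkPointF_eq cert) 205725 25 chkP_205725 i (by omega) (by omega)
                  · skip
                    exact allRangeF_sound _ _ (checkPointF_eq cert) 205750 25 chkP_205750 i (by omega) (by omega)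
        · skip
          rcases Nat.lt_or_ge i 206000 with h5 | h5
          · skip
            rcases Nat.lt_or_ge i 205875 with h6 | h6
            · skip
              rcases Nat.lt_or_ge i 205825 with h7 | h7
              · skip
                rcases Nat.lt_or_ge i 205800 with h8 | h8
                · skip
                  exact allRangeF_sound _ _ (checkPointF_eq cert) 205775 25 chkP_205775 i (by omega) (by omega)
                · skip
                  exact allRangeF_sound _ _ (checkPointF_eq cert) 205800 25 chkP_205800 i (by omega) (by omega)
              · skip
                rcases Nat.lt_or_ge i 205850 with h8 | h8
                · skip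
                  exact allRangeF_sound _ _ (checkPointF_eq cert) 205825 25 chkP_205825 i (by omega) (by omega)
                · skip
                  exact allRangeF_sound _ _ (checkPointF_eq cert) 205850 25 chkP_205850 i (by omega) (by omega)
            · skip
              rcases Nat.lt_or_ge i 205925 with h7 | h7
              · skip
                rcases Nat.lt_or_ge i 205900 with h8 | h8
                · skip
                  exact allRangeF_sound _ _ (checkPointF_eq cert) 205875 25 chkP_205875 i (by omega) (by omega)
                · skip
                  exact allRangeF_sound _ _ (checkPointF_eq cert) 205900 25 chkP_205900 i (by omega) (by omega)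
              · skip
                rcases Nat.lt_or_ge i 205950 with h8 | h8
                · skip
                  exact allRangeF_sound _ _ (checkPointF_eq cert) 205925 25 chkP_205925 i (by omega) (by omega)
                · skip
                  rcases Nat.lt_or_ge i 205975 with h9 | h9
                  · skip
                    exact allRangeF_sound _ _ (checkPointF_eq cert) 205950 25 chkP_205950 i (by omega) (by omega)
                  · skip
                    exact allRangeF_sound _ _ (checkPointF_eq cert) 205975 25 chkP_205975 i (by omega) (by omega)
          · skip
            rcases Nat.lt_or_ge i 206125 with h6 | h6
            · skip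
              rcases Nat.lt_or_ge i 206050 with h7 | h7
              · skip
                rcases Nat.lt_or_ge i 206025 with h8 | h8
                · skip
                  exact allRangeF_sound _ _ (checkPointF_eq cert) 206000 25 chkP_206000 i (by omega) (by omega)
                · skip
                  exact allRangeF_sound _ _ (checkPointF_eq cert) 206025 25 chkP_206025 i (by omega) (by omega)
              · skip
                rcases Nat.lt_or_ge i 206075 with h8 | h8
                · skip
                  exact allRangeF_sound _ _ (checkPointF_eq cert) 206050 25 chkP_206050 i (by omega) (by omega)
                · skip
                  rcases Nat.lt_or_ge i 206100 with h9 | h9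
                  · skip
                    exact allRangeF_sound _ _ (checkPointF_eq cert) 206075 25 chkP_206075 i (by omega) (by omega)
                  · skip
                    exact allRangeF_sound _ _ (checkPointF_eq cert) 206100 25 chkP_206100 i (by omega) (by omega)
            · skip
              rcases Nat.lt_or_ge i 206175 with h7 | h7
              · skip
                rcases Nat.lt_or_ge i 206150 with h8 | h8
                · skip
                  exact allRangeF_sound _ _ (checkPointF_eq cert) 206125 25 chkP_206125 i (by omega) (by omega)
                · skip
                  exact allRangeF_sound _ _ (checkPointF_eq cert) 206150 25 chkP_206150 i (by omega) (by omega)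
              · skip
                rcases Nat.lt_or_ge i 206200 with h8 | h8
                · skip
                  exact allRangeF_sound _ _ (checkPointF_eq cert) 206175 25 chkP_206175 i (by omega) (by omega)
                · skip
                  rcases Nat.lt_or_ge i 206225 with h9 | h9
                  · skip
                    exact allRangeF_sound _ _ (checkPointF_eq cert) 206200 25 chkP_206200 i (by omega) (by omega)
                  · skip
                    exact allRangeF_sound _ _ (checkPointF_eq cert) 206225 25 chkP_206225 i (by omega) (by omega)
      · skip
        rcases Nat.lt_or_ge i 206725 with h4 | h4
        · skip
          rcases Nat.lt_or_ge i 206475 with h5 | h5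
          · skip
            rcases Nat.lt_or_ge i 206350 with h6 | h6
            · skip
              rcases Nat.lt_or_ge i 206300 with h7 | h7
              · skip
                rcases Nat.lt_or_ge i 206275 with h8 | h8
                · skip
                  exact allRangeF_sound _ _ (checkPointF_eq cert) 206250 25 chkP_206250 i (by omega) (by omega)
                · skip
                  exact allRangeF_sound _ _ (checkPointF_eq cert) 206275 25 chkP_206275 i (by omega) (by omega)
              · skip
                rcases Nat.lt_or_ge i 206325 with h8 | h8
                · skip
                  exact allRangeF_sound _ _ (checkPointF_eq cert) 206300 25 chkP_206300 i (by omega) (by omega)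
                · skip
                  exact allRangeF_sound _ _ (checkPointF_eq cert) 206325 25 chkP_206325 i (by omega) (by omega)
            · skip
              rcases Nat.lt_or_ge i 206400 with h7 | h7
              · skip
                rcases Nat.lt_or_ge i 206375 with h8 | h8
                · skip
                  exact allRangeF_sound _ _ (checkPointF_eq cert) 206350 25 chkP_206350 i (by omega) (by omega)
                · skip
                  exact allRangeF_sound _ _ (checkPointF_eq cert) 206375 25 chkP_206375 i (by omega) (by omega)
              · skip
                rcases Nat.lt_or_ge i 206425 with h8 | h8
                · skip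
                  exact allRangeF_sound _ _ (checkPointF_eq cert) 206400 25 chkP_206400 i (by omega) (by omega)
                · skip
                  rcases Nat.lt_or_ge i 206450 with h9 | h9
                  · skip
                    exact allRangeF_sound _ _ (checkPointF_eq cert) 206425 25 chkP_206425 i (by omega) (by omega)
                  · skip
                    exact allRangeF_sound _ _ (checkPointF_eq cert) 206450 25 chkP_206450 i (by omega) (by omega)
          · skip
            rcases Nat.lt_or_ge i 206600 with h6 | h6
            · skip
              rcases Nat.lt_or_ge i 206525 with h7 | h7
              · skip
                rcases Nat.lt_or_ge i 206500 with h8 | h8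
                · skip
                  exact allRangeF_sound _ _ (checkPointF_eq cert) 206475 25 chkP_206475 i (by omega) (by omega)
                · skip
                  exact allRangeF_sound _ _ (checkPointF_eq cert) 206500 25 chkP_206500 i (by omega) (by omega)
              · skip
                rcases Nat.lt_or_ge i 206550 with h8 | h8
                · skip
                  exact allRangeF_sound _ _ (checkPointF_eq cert) 206525 25 chkP_206525 i (by omega) (by omega)
                · skip
                  rcases Nat.lt_or_ge i 206575 with h9 | h9
                  · skip
                    exact allRangeF_sound _ _ (checkPointF_eq cert) 206550 25 chkP_206550 i (by omega) (by omega)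
                  · skip
                    exact allRangeF_sound _ _ (checkPointF_eq cert) 206575 25 chkP_206575 i (by omega) (by omega)
            · skip
              rcases Nat.lt_or_ge i 206650 with h7 | h7
              · skip
                rcases Nat.lt_or_ge i 206625 with h8 | h8
                · skip
                  exact allRangeF_sound _ _ (checkPointF_eq cert) 206600 25 chkP_206600 i (by omega) (by omega)
                · skip
                  exact allRangeF_sound _ _ (checkPointF_eq cert) 206625 25 chkP_206625 i (by omega) (by omega)
              · skip
                rcases Nat.lt_or_ge i 206675 with h8 | h8
                · skip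
                  exact allRangeF_sound _ _ (checkPointF_eq cert) 206650 25 chkP_206650 i (by omega) (by omega)
                · skip
                  rcases Nat.lt_or_ge i 206700 with h9 | h9
                  · skip
                    exact allRangeF_sound _ _ (checkPointF_eq cert) 206675 25 chkP_206675 i (by omega) (by omega)
                  · skip
                    exact allRangeF_sound _ _ (checkPointF_eq cert) 206700 25 chkP_206700 i (by omega) (by omega)
        · skip
          rcases Nat.lt_or_ge i 206975 with h5 | h5
          · skip
            rcases Nat.lt_or_ge i 206850 with h6 | h6
            · skip
              rcases Nat.lt_or_ge i 206775 with h7 | h7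
              · skip
                rcases Nat.lt_or_ge i 206750 with h8 | h8
                · skip
                  exact allRangeF_sound _ _ (checkPointF_eq cert) 206725 25 chkP_206725 i (by omega) (by omega)
                · skip
                  exact allRangeF_sound _ _ (checkPointF_eq cert) 206750 25 chkP_206750 i (by omega) (by omega)
              · skip
                rcases Nat.lt_or_ge i 206800 with h8 | h8
                · skip
                  exact allRangeF_sound _ _ (checkPointF_eq cert) 206775 25 chkP_206775 i (by omega) (by omega)
                · skip
                  rcases Nat.lt_or_ge i 206825 with h9 | h9
                  · skip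
                    exact allRangeF_sound _ _ (checkPointF_eq cert) 206800 25 chkP_206800 i (by omega) (by omega)
                  · skip
                    exact allRangeF_sound _ _ (checkPointF_eq cert) 206825 25 chkP_206825 i (by omega) (by omega)
            · skip
              rcases Nat.lt_or_ge i 206900 with h7 | h7
              · skip
                rcases Nat.lt_or_ge i 206875 with h8 | h8
                · skip
                  exact allRangeF_sound _ _ (checkPointF_eq cert) 206850 25 chkP_206850 i (by omega) (by omega)
                · skip
                  exact allRangeF_sound _ _ (checkPointF_eq cert) 206875 25 chkP_206875 i (by omega) (by omega)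
              · skip
                rcases Nat.lt_or_ge i 206925 with h8 | h8
                · skip
                  exact allRangeF_sound _ _ (checkPointF_eq cert) 206900 25 chkP_206900 i (by omega) (by omega)
                · skip
                  rcases Nat.lt_or_ge i 206950 with h9 | h9
                  · skip
                    exact allRangeF_sound _ _ (checkPointF_eq cert) 206925 25 chkP_206925 i (by omega) (by omega)
                  · skip
                    exact allRangeF_sound _ _ (checkPointF_eq cert) 206950 25 chkP_206950 i (by omega) (by omega)
          · skip
            rcases Nat.lt_or_ge i 207100 with h6 | h6
            · skip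
              rcases Nat.lt_or_ge i 207025 with h7 | h7
              · skip
                rcases Nat.lt_or_ge i 207000 with h8 | h8
                · skip
                  exact allRangeF_sound _ _ (checkPointF_eq cert) 206975 25 chkP_206975 i (by omega) (by omega)
                · skip
                  exact allRangeF_sound _ _ (checkPointF_eq cert) 207000 25 chkP_207000 i (by omega) (by omega)
              · skip
                rcases Nat.lt_or_ge i 207050 with h8 | h8
                · skip
                  exact allRangeF_sound _ _ (checkPointF_eq cert) 207025 25 chkP_207025 i (by omega) (by omega)
                · skip
                  rcases Nat.lt_or_ge i 207075 with h9 | h9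
                  · skip
                    exact allRangeF_sound _ _ (checkPointF_eq cert) 207050 25 chkP_207050 i (by omega) (by omega)
                  · skip
                    exact allRangeF_sound _ _ (checkPointF_eq cert) 207075 25 chkP_207075 i (by omega) (by omega)
            · skip
              rcases Nat.lt_or_ge i 207150 with h7 | h7
              · skip
                rcases Nat.lt_or_ge i 207125 with h8 | h8
                · skip
                  exact allRangeF_sound _ _ (checkPointF_eq cert) 207100 25 chkP_207100 i (by omega) (by omega)
                · skip
                  exact allRangeF_sound _ _ (checkPointF_eq cert) 207125 25 chkP_207125 i (by omega) (by omega)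
              · skip
                rcases Nat.lt_or_ge i 207175 with h8 | h8
                · skip
                  exact allRangeF_sound _ _ (checkPointF_eq cert) 207150 25 chkP_207150 i (by omega) (by omega)
                · skip
                  rcases Nat.lt_or_ge i 207200 with h9 | h9
                  · skip
                    exact allRangeF_sound _ _ (checkPointF_eq cert) 207175 25 chkP_207175 i (by omega) (by omega)
                  · skip
                    exact allRangeF_sound _ _ (checkPointF_eq cert) 207200 25 chkP_207200 i (by omega) (by omega)

end Cfsg.Agent.Lib.Helper28.Fi24Data
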