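import Cfsg.Agent.Lib.Helper28.Fi24Data
import Cfsg.Agent.Lib.Helper28.TCFastB

set_option autoImplicit false
set_option maxRecDepth 1000000
set_option linter.all false
set_option Elab.async false

namespace Cfsg.Agent.Lib.Helper28.Fi24Data

open Cfsg.Agent.Lib.Helper28B

theorem chkP_207225 : allRangeF (checkPointF cert) (nat_lit 207225) (nat_lit 25) = true := by decide +kernel
theorem chkP_207250 : allRangeF (checkPointF cert) (nat_lit 207250) (nat_lit 25) = true := by decide +kernel
theorem chkP_207275 : allRangeF (checkPointF cert) (nat_lit 207275) (nat_lit 25) = true := by decide +kernel
theorem chkP_207300 : allRangeF (checkPointF cert) (nat_lit 207300) (nat_lit 25) = true := by decide +kernel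
theorem chkP_207325 : allRangeF (checkPointF cert) (nat_lit 207325) (nat_lit 25) = true := by decide +kernel
theorem chkP_207350 : allRangeF (checkPointF cert) (nat_lit 207350) (nat_lit 25) = true := by decide +kernel
theorem chkP_207375 : allRangeF (checkPointF cert) (nat_lit 207375) (nat_lit 25) = true := by decide +kernel
theorem chkP_207400 : allRangeF (checkPointF cert) (nat_lit 207400) (nat_lit 25) = true := by decide +kernel
theorem chkP_207425 : allRangeF (checkPointF cert) (nat_lit 207425) (nat_lit 25) = true := by decide +kernel
theorem chkP_207450 : allRangeF (checkPointF cert) (nat_lit 207450) (nat_lit 25) = true := by decide +kernel
theorem chkP_207475 : allRangeF (checkPointF cert) (nat_lit 207475) (nat_lit 25) = true := by decide +kernel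
theorem chkP_207500 : allRangeF (checkPointF cert) (nat_lit 207500) (nat_lit 25) = true := by decide +kernel
theorem chkP_207525 : allRangeF (checkPointF cert) (nat_lit 207525) (nat_lit 25) = true := by decide +kernel
theorem chkP_207550 : allRangeF (checkPointF cert) (nat_lit 207550) (nat_lit 25) = true := by decide +kernel
theorem chkP_207575 : allRangeF (checkPointF cert) (nat_lit 207575) (nat_lit 25) = true := by decide +kernel
theorem chkP_207600 : allRangeF (checkPointF cert) (nat_lit 207600) (nat_lit 25) = true := by decide +kernel
theorem chkP_207625 : allRangeF (checkPointF cert) (nat_lit 207625) (nat_lit 25) = true := by decide +kernel
theorem chkP_207650 : allRangeF (checkPointF cert) (nat_lit 207650) (nat_lit 25) = true := by decide +kernel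
theorem chkP_207675 : allRangeF (checkPointF cert) (nat_lit 207675) (nat_lit 25) = true := by decide +kernel
theorem chkP_207700 : allRangeF (checkPointF cert) (nat_lit 207700) (nat_lit 25) = true := by decide +kernel
theorem chkP_207725 : allRangeF (checkPointF cert) (nat_lit 207725) (nat_lit 25) = true := by decide +kernel
theorem chkP_207750 : allRangeF (checkPointF cert) (nat_lit 207750) (nat_lit 25) = true := by decide +kernel
theorem chkP_207775 : allRangeF (checkPointF cert) (nat_lit 207775) (nat_lit 25) = true := by decide +kernel
theorem chkP_207800 : allRangeF (checkPointF cert) (nat_lit 207800) (nat_lit 25) = true := by decide +kernel
theorem chkP_207825 : allRangeF (checkPointF cert) (nat_lit 207825) (nat_lit 25) = true := by decide +kernel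
theorem chkP_207850 : allRangeF (checkPointF cert) (nat_lit 207850) (nat_lit 25) = true := by decide +kernel
theorem chkP_207875 : allRangeF (checkPointF cert) (nat_lit 207875) (nat_lit 25) = true := by decide +kernel
theorem chkP_207900 : allRangeF (checkPointF cert) (nat_lit 207900) (nat_lit 25) = true := by decide +kernel
theorem chkP_207925 : allRangeF (checkPointF cert) (nat_lit 207925) (nat_lit 25) = true := by decide +kernel
theorem chkP_207950 : allRangeF (checkPointF cert) (nat_lit 207950) (nat_lit 25) = true := by decide +kernel
theorem chkP_207975 : allRangeF (checkPointF cert) (nat_lit 207975) (nat_lit 25) = true := by decide +kernel
theorem chkP_208000 : allRangeF (checkPointF cert) (nat_lit 208000) (nat_lit 25) = true := by decide +kernel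
theorem chkP_208025 : allRangeF (checkPointF cert) (nat_lit 208025) (nat_lit 25) = true := by decide +kernel
theorem chkP_208050 : allRangeF (checkPointF cert) (nat_lit 208050) (nat_lit 25) = true := by decide +kernel
theorem chkP_208075 : allRangeF (checkPointF cert) (nat_lit 208075) (nat_lit 25) = true := by decide +kernel
theorem chkP_208100 : allRangeF (checkPointF cert) (nat_lit 208100) (nat_lit 25) = true := by decide +kernel
theorem chkP_208125 : allRangeF (checkPointF cert) (nat_lit 208125) (nat_lit 25) = true := by decide +kernel
theorem chkP_208150 : allRangeF (checkPointF cert) (nat_lit 208150) (nat_lit 25) = true := by decide +kernel
theorem chkP_208175 : allRangeF (checkPointF cert) (nat_lit 208175) (nat_lit 25) = true := by decide +kernel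
theorem chkP_208200 : allRangeF (checkPointF cert) (nat_lit 208200) (nat_lit 25) = true := by decide +kernel
theorem chkP_208225 : allRangeF (checkPointF cert) (nat_lit 208225) (nat_lit 25) = true := by decide +kernel
theorem chkP_208250 : allRangeF (checkPointF cert) (nat_lit 208250) (nat_lit 25) = true := by decide +kernel
theorem chkP_208275 : allRangeF (checkPointF cert) (nat_lit 208275) (nat_lit 25) = true := by decide +kernel
theorem chkP_208300 : allRangeF (checkPointF cert) (nat_lit 208300) (nat_lit 25) = true := by decide +kernel
theorem chkP_208325 : allRangeF (checkPointF cert) (nat_lit 208325) (nat_lit 25) = true := by decide +kernel
theorem chkP_208350 : allRangeF (checkPointF cert) (nat_lit 208350) (nat_lit 25) = true := by decide +kernel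
theorem chkP_208375 : allRangeF (checkPointF cert) (nat_lit 208375) (nat_lit 25) = true := by decide +kernel
theorem chkP_208400 : allRangeF (checkPointF cert) (nat_lit 208400) (nat_lit 25) = true := by decide +kernel
theorem chkP_208425 : allRangeF (checkPointF cert) (nat_lit 208425) (nat_lit 25) = true := by decide +kernel
theorem chkP_208450 : allRangeF (checkPointF cert) (nat_lit 208450) (nat_lit 25) = true := by decide +kernel
theorem chkP_208475 : allRangeF (checkPointF cert) (nat_lit 208475) (nat_lit 25) = true := by decide +kernel
theorem chkP_208500 : allRangeF (checkPointF cert) (nat_lit 208500) (nat_lit 25) = true := by decide +kernel
theorem chkP_208525 : allRangeF (checkPointF cert) (nat_lit 208525) (nat_lit 25) = true := by decide +kernel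
theorem chkP_208550 : allRangeF (checkPointF cert) (nat_lit 208550) (nat_lit 25) = true := by decide +kernel
theorem chkP_208575 : allRangeF (checkPointF cert) (nat_lit 208575) (nat_lit 25) = true := by decide +kernel
theorem chkP_208600 : allRangeF (checkPointF cert) (nat_lit 208600) (nat_lit 25) = true := by decide +kernel
theorem chkP_208625 : allRangeF (checkPointF cert) (nat_lit 208625) (nat_lit 25) = true := by decide +kernel
theorem chkP_208650 : allRangeF (checkPointF cert) (nat_lit 208650) (nat_lit 25) = true := by decide +kernel
theorem chkP_208675 : allRangeF (checkPointF cert) (nat_lit 208675) (nat_lit 25) = true := by decide +kernel
theorem chkP_208700 : allRangeF (checkPointF cert) (nat_lit 208700) (nat_lit 25) = true := by decide +kernel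
theorem chkP_208725 : allRangeF (checkPointF cert) (nat_lit 208725) (nat_lit 25) = true := by decide +kernel
theorem chkP_208750 : allRangeF (checkPointF cert) (nat_lit 208750) (nat_lit 25) = true := by decide +kernel
theorem chkP_208775 : allRangeF (checkPointF cert) (nat_lit 208775) (nat_lit 25) = true := by decide +kernel
theorem chkP_208800 : allRangeF (checkPointF cert) (nat_lit 208800) (nat_lit 25) = true := by decide +kernel
theorem chkP_208825 : allRangeF (checkPointF cert) (nat_lit 208825) (nat_lit 25) = true := by decide +kernel
theorem chkP_208850 : allRangeF (checkPointF cert) (nat_lit 208850) (nat_lit 25) = true := by decide +kernel
theorem chkP_208875 : allRangeF (checkPointF cert) (nat_lit 208875) (nat_lit 25) = true := by decide +kernel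
theorem chkP_208900 : allRangeF (checkPointF cert) (nat_lit 208900) (nat_lit 25) = true := by decide +kernel
theorem chkP_208925 : allRangeF (checkPointF cert) (nat_lit 208925) (nat_lit 25) = true := by decide +kernel
theorem chkP_208950 : allRangeF (checkPointF cert) (nat_lit 208950) (nat_lit 25) = true := by decide +kernel
theorem chkP_208975 : allRangeF (checkPointF cert) (nat_lit 208975) (nat_lit 25) = true := by decide +kernel
theorem chkP_209000 : allRangeF (checkPointF cert) (nat_lit 209000) (nat_lit 25) = true := by decide +kernel
theorem chkP_209025 : allRangeF (checkPointF cert) (nat_lit 209025) (nat_lit 25) = true := by decide +kernel
theorem chkP_209050 : allRangeF (checkPointF cert) (nat_lit 209050) (nat_lit 25) = true := by decide +kernel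
theorem chkP_209075 : allRangeF (checkPointF cert) (nat_lit 209075) (nat_lit 25) = true := by decide +kernel
theorem chkP_209100 : allRangeF (checkPointF cert) (nat_lit 209100) (nat_lit 25) = true := by decide +kernel
theorem chkP_209125 : allRangeF (checkPointF cert) (nat_lit 209125) (nat_lit 25) = true := by decide +kernel
theorem chkP_209150 : allRangeF (checkPointF cert) (nat_lit 209150) (nat_lit 25) = true := by decide +kernel
theorem chkP_209175 : allRangeF (checkPointF cert) (nat_lit 209175) (nat_lit 25) = true := by decide +kernel
theorem chkP_209200 : allRangeF (checkPointF cert) (nat_lit 209200) (nat_lit 25) = true := by decide +kernel
theorem chkP_209225 : allRangeF (checkPointF cert) (nat_lit 209225) (nat_lit 25) = true := by decide +kernel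
theorem chkP_209250 : allRangeF (checkPointF cert) (nat_lit 209250) (nat_lit 25) = true := by decide +kernel
theorem chkP_209275 : allRangeF (checkPointF cert) (nat_lit 209275) (nat_lit 25) = true := by decide +kernel
theorem chkP_209300 : allRangeF (checkPointF cert) (nat_lit 209300) (nat_lit 25) = true := by decide +kernel
theorem chkP_209325 : allRangeF (checkPointF cert) (nat_lit 209325) (nat_lit 25) = true := by decide +kernel
theorem chkP_209350 : allRangeF (checkPointF cert) (nat_lit 209350) (nat_lit 25) = true := by decide +kernel
theorem chkP_209375 : allRangeF (checkPointF cert) (nat_lit 209375) (nat_lit 25) = true := by decide +kernel
theorem chkP_209400 : allRangeF (checkPointF cert) (nat_lit 209400) (nat_lit 25) = true := by decide +kernel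
theorem chkP_209425 : allRangeF (checkPointF cert) (nat_lit 209425) (nat_lit 25) = true := by decide +kernel
theorem chkP_209450 : allRangeF (checkPointF cert) (nat_lit 209450) (nat_lit 25) = true := by decide +kernel
theorem chkP_209475 : allRangeF (checkPointF cert) (nat_lit 209475) (nat_lit 25) = true := by decide +kernel
theorem chkP_209500 : allRangeF (checkPointF cert) (nat_lit 209500) (nat_lit 25) = true := by decide +kernel
theorem chkP_209525 : allRangeF (checkPointF cert) (nat_lit 209525) (nat_lit 25) = true := by decide +kernel
theorem chkP_209550 : allRangeF (checkPointF cert) (nat_lit 209550) (nat_lit 25) = true := by decide +kernel
theorem chkP_209575 : allRangeF (checkPointF cert) (nat_lit 209575) (nat_lit 25) = true := by decide +kernel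
theorem chkP_209600 : allRangeF (checkPointF cert) (nat_lit 209600) (nat_lit 25) = true := by decide +kernel
theorem chkP_209625 : allRangeF (checkPointF cert) (nat_lit 209625) (nat_lit 25) = true := by decide +kernel
theorem chkP_209650 : allRangeF (checkPointF cert) (nat_lit 209650) (nat_lit 25) = true := by decide +kernel
theorem chkP_209675 : allRangeF (checkPointF cert) (nat_lit 209675) (nat_lit 25) = true := by decide +kernel
theorem chkP_209700 : allRangeF (checkPointF cert) (nat_lit 209700) (nat_lit 25) = true := by decide +kernel
theorem chkP_209725 : allRangeF (checkPointF cert) (nat_lit 209725) (nat_lit 25) = true := by decide +kernel
theorem chkP_209750 : allRangeF (checkPointF cert) (nat_lit 209750) (nat_lit 25) = true := by decide +kernel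
theorem chkP_209775 : allRangeF (checkPointF cert) (nat_lit 209775) (nat_lit 25) = true := by decide +kernel
theorem chkP_209800 : allRangeF (checkPointF cert) (nat_lit 209800) (nat_lit 25) = true := by decide +kernel
theorem chkP_209825 : allRangeF (checkPointF cert) (nat_lit 209825) (nat_lit 25) = true := by decide +kernel
theorem chkP_209850 : allRangeF (checkPointF cert) (nat_lit 209850) (nat_lit 25) = true := by decide +kernel
theorem chkP_209875 : allRangeF (checkPointF cert) (nat_lit 209875) (nat_lit 25) = true := by decide +kernel
theorem chkP_209900 : allRangeF (checkPointF cert) (nat_lit 209900) (nat_lit 25) = true := by decide +kernel
theorem chkP_209925 : allRangeF (checkPointF cert) (nat_lit 209925) (nat_lit 25) = true := by decide +kernel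
theorem chkP_209950 : allRangeF (checkPointF cert) (nat_lit 209950) (nat_lit 25) = true := by decide +kernel
theorem chkP_209975 : allRangeF (checkPointF cert) (nat_lit 209975) (nat_lit 25) = true := by decide +kernel
theorem chkP_210000 : allRangeF (checkPointF cert) (nat_lit 210000) (nat_lit 25) = true := by decide +kernel
theorem chkP_210025 : allRangeF (checkPointF cert) (nat_lit 210025) (nat_lit 25) = true := by decide +kernel
theorem chkP_210050 : allRangeF (checkPointF cert) (nat_lit 210050) (nat_lit 25) = true := by decide +kernel
theorem chkP_210075 : allRangeF (checkPointF cert) (nat_lit 210075) (nat_lit 25) = true := by decide +kernel
theorem chkP_210100 : allRangeF (checkPointF cert) (nat_lit 210100) (nat_lit 25) = true := by decide +kernel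
theorem chkP_210125 : allRangeF (checkPointF cert) (nat_lit 210125) (nat_lit 25) = true := by decide +kernel
theorem chkP_210150 : allRangeF (checkPointF cert) (nat_lit 210150) (nat_lit 25) = true := by decide +kernel
theorem chkP_210175 : allRangeF (checkPointF cert) (nat_lit 210175) (nat_lit 25) = true := by decide +kernel
theorem chkP_210200 : allRangeF (checkPointF cert) (nat_lit 210200) (nat_lit 25) = true := by decide +kernel
theorem chkP_210225 : allRangeF (checkPointF cert) (nat_lit 210225) (nat_lit 25) = true := by decide +kernel
theorem chkP_210250 : allRangeF (checkPointF cert) (nat_lit 210250) (nat_lit 25) = true := by decide +kernel
theorem chkP_210275 : allRangeF (checkPointF cert) (nat_lit 210275) (nat_lit 25) = true := by decide +kernel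
theorem chkP_210300 : allRangeF (checkPointF cert) (nat_lit 210300) (nat_lit 25) = true := by decide +kernel
theorem chkP_210325 : allRangeF (checkPointF cert) (nat_lit 210325) (nat_lit 25) = true := by decide +kernel
theorem chkP_210350 : allRangeF (checkPointF cert) (nat_lit 210350) (nat_lit 25) = true := by decide +kernel
theorem chkP_210375 : allRangeF (checkPointF cert) (nat_lit 210375) (nat_lit 25) = true := by decide +kernel
theorem chkP_210400 : allRangeF (checkPointF cert) (nat_lit 210400) (nat_lit 25) = true := by decide +kernel
theorem chkP_210425 : allRangeF (checkPointF cert) (nat_lit 210425) (nat_lit 25) = true := by decide +kernel
theorem chkP_210450 : allRangeF (checkPointF cert) (nat_lit 210450) (nat_lit 25) = true := by decide +kernel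
theorem chkP_210475 : allRangeF (checkPointF cert) (nat_lit 210475) (nat_lit 25) = true := by decide +kernel
theorem chkP_210500 : allRangeF (checkPointF cert) (nat_lit 210500) (nat_lit 25) = true := by decide +kernel
theorem chkP_210525 : allRangeF (checkPointF cert) (nat_lit 210525) (nat_lit 25) = true := by decide +kernel
theorem chkP_210550 : allRangeF (checkPointF cert) (nat_lit 210550) (nat_lit 25) = true := by decide +kernel
theorem chkP_210575 : allRangeF (checkPointF cert) (nat_lit 210575) (nat_lit 25) = true := by decide +kernel
theorem chkP_210600 : allRangeF (checkPointF cert) (nat_lit 210600) (nat_lit 25) = true := by decide +kernel
theorem chkP_210625 : allRangeF (checkPointF cert) (nat_lit 210625) (nat_lit 25) = true := by decide +kernel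
theorem chkP_210650 : allRangeF (checkPointF cert) (nat_lit 210650) (nat_lit 25) = true := by decide +kernel
theorem chkP_210675 : allRangeF (checkPointF cert) (nat_lit 210675) (nat_lit 25) = true := by decide +kernel
theorem chkP_210700 : allRangeF (checkPointF cert) (nat_lit 210700) (nat_lit 25) = true := by decide +kernel
theorem chkP_210725 : allRangeF (checkPointF cert) (nat_lit 210725) (nat_lit 25) = true := by decide +kernel
theorem chkP_210750 : allRangeF (checkPointF cert) (nat_lit 210750) (nat_lit 25) = true := by decide +kernel
theorem chkP_210775 : allRangeF (checkPointF cert) (nat_lit 210775) (nat_lit 25) = true := by decide +kernel
theorem chkP_210800 : allRangeF (checkPointF cert) (nat_lit 210800) (nat_lit 25) = true := by decide +kernel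
theorem chkP_210825 : allRangeF (checkPointF cert) (nat_lit 210825) (nat_lit 25) = true := by decide +kernel
theorem chkP_210850 : allRangeF (checkPointF cert) (nat_lit 210850) (nat_lit 25) = true := by decide +kernel
theorem chkP_210875 : allRangeF (checkPointF cert) (nat_lit 210875) (nat_lit 25) = true := by decide +kernel
theorem chkP_210900 : allRangeF (checkPointF cert) (nat_lit 210900) (nat_lit 25) = true := by decide +kernel
theorem chkP_210925 : allRangeF (checkPointF cert) (nat_lit 210925) (nat_lit 25) = true := by decide +kernel
theorem chkP_210950 : allRangeF (checkPointF cert) (nat_lit 210950) (nat_lit 25) = true := by decide +kernel
theorem chkP_210975 : allRangeF (checkPointF cert) (nat_lit 210975) (nat_lit 25) = true := by decide +kernel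
theorem chkP_211000 : allRangeF (checkPointF cert) (nat_lit 211000) (nat_lit 25) = true := by decide +kernel
theorem chkP_211025 : allRangeF (checkPointF cert) (nat_lit 211025) (nat_lit 25) = true := by decide +kernel
theorem chkP_211050 : allRangeF (checkPointF cert) (nat_lit 211050) (nat_lit 25) = true := by decide +kernel
theorem chkP_211075 : allRangeF (checkPointF cert) (nat_lit 211075) (nat_lit 25) = true := by decide +kernel
theorem chkP_211100 : allRangeF (checkPointF cert) (nat_lit 211100) (nat_lit 25) = true := by decide +kernel
theorem chkP_211125 : allRangeF (checkPointF cert) (nat_lit 211125) (nat_lit 25) = true := by decide +kernel
theorem chkP_211150 : allRangeF (checkPointF cert) (nat_lit 211150) (nat_lit 25) = true := by decide +kernel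
theorem chkP_211175 : allRangeF (checkPointF cert) (nat_lit 211175) (nat_lit 25) = true := by decide +kernel
theorem chkP_211200 : allRangeF (checkPointF cert) (nat_lit 211200) (nat_lit 25) = true := by decide +kernel
theorem chkP_211225 : allRangeF (checkPointF cert) (nat_lit 211225) (nat_lit 25) = true := by decide +kernel
theorem chkP_211250 : allRangeF (checkPointF cert) (nat_lit 211250) (nat_lit 25) = true := by decide +kernel
theorem chkP_211275 : allRangeF (checkPointF cert) (nat_lit 211275) (nat_lit 25) = true := by decide +kernel
theorem chkP_211300 : allRangeF (checkPointF cert) (nat_lit 211300) (nat_lit 25) = true := by decide +kernel
theorem chkP_211325 : allRangeF (checkPointF cert) (nat_lit 211325) (nat_lit 25) = true := by decide +kernel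
theorem chkP_211350 : allRangeF (checkPointF cert) (nat_lit 211350) (nat_lit 25) = true := by decide +kernel
theorem chkP_211375 : allRangeF (checkPointF cert) (nat_lit 211375) (nat_lit 25) = true := by decide +kernel
theorem chkP_211400 : allRangeF (checkPointF cert) (nat_lit 211400) (nat_lit 25) = true := by decide +kernel
theorem chkP_211425 : allRangeF (checkPointF cert) (nat_lit 211425) (nat_lit 25) = true := by decide +kernel
theorem chkP_211450 : allRangeF (checkPointF cert) (nat_lit 211450) (nat_lit 25) = true := by decide +kernel
theorem chkP_211475 : allRangeF (checkPointF cert) (nat_lit 211475) (nat_lit 25) = true := by decide +kernel
theorem chkP_211500 : allRangeF (checkPointF cert) (nat_lit 211500) (nat_lit 25) = true := by decide +kernel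
theorem chkP_211525 : allRangeF (checkPointF cert) (nat_lit 211525) (nat_lit 25) = true := by decide +kernel
theorem chkP_211550 : allRangeF (checkPointF cert) (nat_lit 211550) (nat_lit 25) = true := by decide +kernel
theorem chkP_211575 : allRangeF (checkPointF cert) (nat_lit 211575) (nat_lit 25) = true := by decide +kernel
theorem chkP_211600 : allRangeF (checkPointF cert) (nat_lit 211600) (nat_lit 25) = true := by decide +kernel
theorem chkP_211625 : allRangeF (checkPointF cert) (nat_lit 211625) (nat_lit 25) = true := by decide +kernel
theorem chkP_211650 : allRangeF (checkPointF cert) (nat_lit 211650) (nat_lit 25) = true := by decide +kernel
theorem chkP_211675 : allRangeF (checkPointF cert) (nat_lit 211675) (nat_lit 25) = true := by decide +kernel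
theorem chkP_211700 : allRangeF (checkPointF cert) (nat_lit 211700) (nat_lit 25) = true := by decide +kernel
theorem chkP_211725 : allRangeF (checkPointF cert) (nat_lit 211725) (nat_lit 25) = true := by decide +kernel
theorem chkP_211750 : allRangeF (checkPointF cert) (nat_lit 211750) (nat_lit 25) = true := by decide +kernel
theorem chkP_211775 : allRangeF (checkPointF cert) (nat_lit 211775) (nat_lit 25) = true := by decide +kernel
theorem chkP_211800 : allRangeF (checkPointF cert) (nat_lit 211800) (nat_lit 25) = true := by decide +kernel
theorem chkP_211825 : allRangeF (checkPointF cert) (nat_lit 211825) (nat_lit 25) = true := by decide +kernel
theorem chkP_211850 : allRangeF (checkPointF cert) (nat_lit 211850) (nat_lit 25) = true := by decide +kernel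
theorem chkP_211875 : allRangeF (checkPointF cert) (nat_lit 211875) (nat_lit 25) = true := by decide +kernel
theorem chkP_211900 : allRangeF (checkPointF cert) (nat_lit 211900) (nat_lit 25) = true := by decide +kernel
theorem chkP_211925 : allRangeF (checkPointF cert) (nat_lit 211925) (nat_lit 25) = true := by decide +kernel
theorem chkP_211950 : allRangeF (checkPointF cert) (nat_lit 211950) (nat_lit 25) = true := by decide +kernel
theorem chkP_211975 : allRangeF (checkPointF cert) (nat_lit 211975) (nat_lit 25) = true := by decide +kernel
theorem chkP_212000 : allRangeF (checkPointF cert) (nat_lit 212000) (nat_lit 25) = true := by decide +kernel
theorem chkP_212025 : allRangeF (checkPointF cert) (nat_lit 212025) (nat_lit 25) = true := by decide +kernel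
theorem chkP_212050 : allRangeF (checkPointF cert) (nat_lit 212050) (nat_lit 25) = true := by decide +kernel
theorem chkP_212075 : allRangeF (checkPointF cert) (nat_lit 212075) (nat_lit 25) = true := by decide +kernel
theorem chkP_212100 : allRangeF (checkPointF cert) (nat_lit 212100) (nat_lit 25) = true := by decide +kernel
theorem chkP_212125 : allRangeF (checkPointF cert) (nat_lit 212125) (nat_lit 25) = true := by decide +kernel
theorem chkP_212150 : allRangeF (checkPointF cert) (nat_lit 212150) (nat_lit 25) = true := by decide +kernel
theorem chkP_212175 : allRangeF (checkPointF cert) (nat_lit 212175) (nat_lit 25) = true := by decide +kernel
theorem chkP_212200 : allRangeF (checkPointF cert) (nat_lit 212200) (nat_lit 25) = true := by decide +kernel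
theorem chkP_212225 : allRangeF (checkPointF cert) (nat_lit 212225) (nat_lit 25) = true := by decide +kernel
theorem chkP_212250 : allRangeF (checkPointF cert) (nat_lit 212250) (nat_lit 25) = true := by decide +kernel
theorem chkP_212275 : allRangeF (checkPointF cert) (nat_lit 212275) (nat_lit 25) = true := by decide +kernel
theorem chkP_212300 : allRangeF (checkPointF cert) (nat_lit 212300) (nat_lit 25) = true := by decide +kernel
theorem chkP_212325 : allRangeF (checkPointF cert) (nat_lit 212325) (nat_lit 25) = true := by decide +kernel
theorem chkP_212350 : allRangeF (checkPointF cert) (nat_lit 212350) (nat_lit 25) = true := by decide +kernel
theorem chkP_212375 : allRangeF (checkPointF cert) (nat_lit 212375) (nat_lit 25) = true := by decide +kernel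
theorem chkP_212400 : allRangeF (checkPointF cert) (nat_lit 212400) (nat_lit 25) = true := by decide +kernel
theorem chkP_212425 : allRangeF (checkPointF cert) (nat_lit 212425) (nat_lit 25) = true := by decide +kernel
theorem chkP_212450 : allRangeF (checkPointF cert) (nat_lit 212450) (nat_lit 25) = true := by decide +kernel
theorem chkP_212475 : allRangeF (checkPointF cert) (nat_lit 212475) (nat_lit 25) = true := by decide +kernel
theorem chkP_212500 : allRangeF (checkPointF cert) (nat_lit 212500) (nat_lit 25) = true := by decide +kernel
theorem chkP_212525 : allRangeF (checkPointF cert) (nat_lit 212525) (nat_lit 25) = true := by decide +kernel
theorem chkP_212550 : allRangeF (checkPointF cert) (nat_lit 212550) (nat_lit 25) = true := by decide +kernel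
theorem chkP_212575 : allRangeF (checkPointF cert) (nat_lit 212575) (nat_lit 25) = true := by decide +kernel
theorem chkP_212600 : allRangeF (checkPointF cert) (nat_lit 212600) (nat_lit 25) = true := by decide +kernel
theorem chkP_212625 : allRangeF (checkPointF cert) (nat_lit 212625) (nat_lit 25) = true := by decide +kernel
theorem chkP_212650 : allRangeF (checkPointF cert) (nat_lit 212650) (nat_lit 25) = true := by decide +kernel
theorem chkP_212675 : allRangeF (checkPointF cert) (nat_lit 212675) (nat_lit 25) = true := by decide +kernel
theorem chkP_212700 : allRangeF (checkPointF cert) (nat_lit 212700) (nat_lit 25) = true := by decide +kernel
theorem chkP_212725 : allRangeF (checkPointF cert) (nat_lit 212725) (nat_lit 25) = true := by decide +kernel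
theorem chkP_212750 : allRangeF (checkPointF cert) (nat_lit 212750) (nat_lit 25) = true := by decide +kernel
theorem chkP_212775 : allRangeF (checkPointF cert) (nat_lit 212775) (nat_lit 25) = true := by decide +kernel
theorem chkP_212800 : allRangeF (checkPointF cert) (nat_lit 212800) (nat_lit 25) = true := by decide +kernel
theorem chkP_212825 : allRangeF (checkPointF cert) (nat_lit 212825) (nat_lit 25) = true := by decide +kernel
theorem chkP_212850 : allRangeF (checkPointF cert) (nat_lit 212850) (nat_lit 25) = true := by decide +kernel
theorem chkP_212875 : allRangeF (checkPointF cert) (nat_lit 212875) (nat_lit 25) = true := by decide +kernel
theorem chkP_212900 : allRangeF (checkPointF cert) (nat_lit 212900) (nat_lit 25) = true := by decide +kernel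
theorem chkP_212925 : allRangeF (checkPointF cert) (nat_lit 212925) (nat_lit 25) = true := by decide +kernel
theorem chkP_212950 : allRangeF (checkPointF cert) (nat_lit 212950) (nat_lit 25) = true := by decide +kernel
theorem chkP_212975 : allRangeF (checkPointF cert) (nat_lit 212975) (nat_lit 25) = true := by decide +kernel
theorem chkP_213000 : allRangeF (checkPointF cert) (nat_lit 213000) (nat_lit 25) = true := by decide +kernel
theorem chkP_213025 : allRangeF (checkPointF cert) (nat_lit 213025) (nat_lit 25) = true := by decide +kernel
theorem chkP_213050 : allRangeF (checkPointF cert) (nat_lit 213050) (nat_lit 25) = true := by decide +kernel
theorem chkP_213075 : allRangeF (checkPointF cert) (nat_lit 213075) (nat_lit 25) = true := by decide +kernel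
theorem chkP_213100 : allRangeF (checkPointF cert) (nat_lit 213100) (nat_lit 25) = true := by decide +kernel
theorem chkP_213125 : allRangeF (checkPointF cert) (nat_lit 213125) (nat_lit 25) = true := by decide +kernel
theorem chkP_213150 : allRangeF (checkPointF cert) (nat_lit 213150) (nat_lit 25) = true := by decide +kernel
theorem chkP_213175 : allRangeF (checkPointF cert) (nat_lit 213175) (nat_lit 25) = true := by decide +kernel
theorem chkP_213200 : allRangeF (checkPointF cert) (nat_lit 213200) (nat_lit 25) = true := by decide +kernel
theorem chkP_213225 : allRangeF (checkPointF cert) (nat_lit 213225) (nat_lit 25) = true := by decide +kernel
theorem chkP_213250 : allRangeF (checkPointF cert) (nat_lit 213250) (nat_lit 25) = true := by decide +kernel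
theorem chkP_213275 : allRangeF (checkPointF cert) (nat_lit 213275) (nat_lit 25) = true := by decide +kernel
theorem chkP_213300 : allRangeF (checkPointF cert) (nat_lit 213300) (nat_lit 25) = true := by decide +kernel
theorem chkP_213325 : allRangeF (checkPointF cert) (nat_lit 213325) (nat_lit 25) = true := by decide +kernel
theorem chkP_213350 : allRangeF (checkPointF cert) (nat_lit 213350) (nat_lit 25) = true := by decide +kernel
theorem chkP_213375 : allRangeF (checkPointF cert) (nat_lit 213375) (nat_lit 25) = true := by decide +kernel
theorem chkP_213400 : allRangeF (checkPointF cert) (nat_lit 213400) (nat_lit 25) = true := by decide +kernel
theorem chkP_213425 : allRangeF (checkPointF cert) (nat_lit 213425) (nat_lit 25) = true := by decide +kernel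
theorem chkP_213450 : allRangeF (checkPointF cert) (nat_lit 213450) (nat_lit 25) = true := by decide +kernel
theorem chkP_213475 : allRangeF (checkPointF cert) (nat_lit 213475) (nat_lit 25) = true := by decide +kernel
theorem chkP_213500 : allRangeF (checkPointF cert) (nat_lit 213500) (nat_lit 25) = true := by decide +kernel
theorem chkP_213525 : allRangeF (checkPointF cert) (nat_lit 213525) (nat_lit 25) = true := by decide +kernel
theorem chkP_213550 : allRangeF (checkPointF cert) (nat_lit 213550) (nat_lit 25) = true := by decide +kernel
theorem chkP_213575 : allRangeF (checkPointF cert) (nat_lit 213575) (nat_lit 25) = true := by decide +kernel
theorem chkP_213600 : allRangeF (checkPointF cert) (nat_lit 213600) (nat_lit 25) = true := by decide +kernel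
theorem chkP_213625 : allRangeF (checkPointF cert) (nat_lit 213625) (nat_lit 25) = true := by decide +kernel
theorem chkP_213650 : allRangeF (checkPointF cert) (nat_lit 213650) (nat_lit 25) = true := by decide +kernel
theorem chkP_213675 : allRangeF (checkPointF cert) (nat_lit 213675) (nat_lit 25) = true := by decide +kernel
theorem chkP_213700 : allRangeF (checkPointF cert) (nat_lit 213700) (nat_lit 25) = true := by decide +kernel
theorem chkP_213725 : allRangeF (checkPointF cert) (nat_lit 213725) (nat_lit 25) = true := by decide +kernel
theorem chkP_213750 : allRangeF (checkPointF cert) (nat_lit 213750) (nat_lit 25) = true := by decide +kernel
theorem chkP_213775 : allRangeF (checkPointF cert) (nat_lit 213775) (nat_lit 25) = true := by decide +kernel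
theorem chkP_213800 : allRangeF (checkPointF cert) (nat_lit 213800) (nat_lit 25) = true := by decide +kernel
theorem chkP_213825 : allRangeF (checkPointF cert) (nat_lit 213825) (nat_lit 25) = true := by decide +kernel
theorem chkP_213850 : allRangeF (checkPointF cert) (nat_lit 213850) (nat_lit 25) = true := by decide +kernel
theorem chkP_213875 : allRangeF (checkPointF cert) (nat_lit 213875) (nat_lit 25) = true := by decide +kernel
theorem chkP_213900 : allRangeF (checkPointF cert) (nat_lit 213900) (nat_lit 25) = true := by decide +kernel
theorem chkP_213925 : allRangeF (checkPointF cert) (nat_lit 213925) (nat_lit 25) = true := by decide +kernel
theorem chkP_213950 : allRangeF (checkPointF cert) (nat_lit 213950) (nat_lit 25) = true := by decide +kernel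
theorem chkP_213975 : allRangeF (checkPointF cert) (nat_lit 213975) (nat_lit 25) = true := by decide +kernel
theorem chkP_214000 : allRangeF (checkPointF cert) (nat_lit 214000) (nat_lit 25) = true := by decide +kernel
theorem chkP_214025 : allRangeF (checkPointF cert) (nat_lit 214025) (nat_lit 25) = true := by decide +kernel
theorem chkP_214050 : allRangeF (checkPointF cert) (nat_lit 214050) (nat_lit 25) = true := by decide +kernel
theorem chkP_214075 : allRangeF (checkPointF cert) (nat_lit 214075) (nat_lit 25) = true := by decide +kernel
theorem chkP_214100 : allRangeF (checkPointF cert) (nat_lit 214100) (nat_lit 25) = true := by decide +kernel
theorem chkP_214125 : allRangeF (checkPointF cert) (nat_lit 214125) (nat_lit 25) = true := by decide +kernel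
theorem chkP_214150 : allRangeF (checkPointF cert) (nat_lit 214150) (nat_lit 25) = true := by decide +kernel
theorem chkP_214175 : allRangeF (checkPointF cert) (nat_lit 214175) (nat_lit 25) = true := by decide +kernel
theorem chkP_214200 : allRangeF (checkPointF cert) (nat_lit 214200) (nat_lit 25) = true := by decide +kernel
theorem chkP_214225 : allRangeF (checkPointF cert) (nat_lit 214225) (nat_lit 25) = true := by decide +kernel
theorem chkP_214250 : allRangeF (checkPointF cert) (nat_lit 214250) (nat_lit 25) = true := by decide +kernel
theorem chkP_214275 : allRangeF (checkPointF cert) (nat_lit 214275) (nat_lit 25) = true := by decide +kernel
theorem chkP_214300 : allRangeF (checkPointF cert) (nat_lit 214300) (nat_lit 25) = true := by decide +kernel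
theorem chkP_214325 : allRangeF (checkPointF cert) (nat_lit 214325) (nat_lit 25) = true := by decide +kernel
theorem chkP_214350 : allRangeF (checkPointF cert) (nat_lit 214350) (nat_lit 25) = true := by decide +kernel
theorem chkP_214375 : allRangeF (checkPointF cert) (nat_lit 214375) (nat_lit 25) = true := by decide +kernel
theorem chkP_214400 : allRangeF (checkPointF cert) (nat_lit 214400) (nat_lit 25) = true := by decide +kernel
theorem chkP_214425 : allRangeF (checkPointF cert) (nat_lit 214425) (nat_lit 25) = true := by decide +kernel
theorem chkP_214450 : allRangeF (checkPointF cert) (nat_lit 214450) (nat_lit 25) = true := by decide +kernel
theorem chkP_214475 : allRangeF (checkPointF cert) (nat_lit 214475) (nat_lit 25) = true := by decide +kernel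
theorem chkP_214500 : allRangeF (checkPointF cert) (nat_lit 214500) (nat_lit 25) = true := by decide +kernel
theorem chkP_214525 : allRangeF (checkPointF cert) (nat_lit 214525) (nat_lit 25) = true := by decide +kernel
theorem chkP_214550 : allRangeF (checkPointF cert) (nat_lit 214550) (nat_lit 25) = true := by decide +kernel
theorem chkP_214575 : allRangeF (checkPointF cert) (nat_lit 214575) (nat_lit 25) = true := by decide +kernel
theorem chkP_214600 : allRangeF (checkPointF cert) (nat_lit 214600) (nat_lit 25) = true := by decide +kernel
theorem chkP_214625 : allRangeF (checkPointF cert) (nat_lit 214625) (nat_lit 25) = true := by decide +kernel
theorem chkP_214650 : allRangeF (checkPointF cert) (nat_lit 214650) (nat_lit 25) = true := by decide +kernel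
theorem chkP_214675 : allRangeF (checkPointF cert) (nat_lit 214675) (nat_lit 25) = true := by decide +kernel
theorem chkP_214700 : allRangeF (checkPointF cert) (nat_lit 214700) (nat_lit 25) = true := by decide +kernel
theorem chkP_214725 : allRangeF (checkPointF cert) (nat_lit 214725) (nat_lit 25) = true := by decide +kernel
theorem chkP_214750 : allRangeF (checkPointF cert) (nat_lit 214750) (nat_lit 25) = true := by decide +kernel
theorem chkP_214775 : allRangeF (checkPointF cert) (nat_lit 214775) (nat_lit 25) = true := by decide +kernel
theorem chkP_214800 : allRangeF (checkPointF cert) (nat_lit 214800) (nat_lit 25) = true := by decide +kernel
theorem chkP_214825 : allRangeF (checkPointF cert) (nat_lit 214825) (nat_lit 25) = true := by decide +kernel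
theorem chkP_214850 : allRangeF (checkPointF cert) (nat_lit 214850) (nat_lit 25) = true := by decide +kernel
theorem chkP_214875 : allRangeF (checkPointF cert) (nat_lit 214875) (nat_lit 25) = true := by decide +kernel

theorem ptsRange_27 : ∀ i, 207225 ≤ i → i < 214900 → checkPoint cert i = true := by
  intro i hlo hhi
  rcases Nat.lt_or_ge i 211050 with h1 | h1
  · skip
    rcases Nat.lt_or_ge i 209125 with h2 | h2
    · skip
      rcases Nat.lt_or_ge i 208175 with h3 | h3
      · skip
        rcases Nat.lt_or_ge i 207700 with h4 | h4
        · skip
          rcases Nat.lt_or_ge i 207450 with h5 | h5
          · skip
            rcases Nat.lt_or_ge i 207325 with h6 | h6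
            · skip
              rcases Nat.lt_or_ge i 207275 with h7 | h7
              · skip
                rcases Nat.lt_or_ge i 207250 with h8 | h8
                · skip
                  exact allRangeF_sound _ _ (checkPointF_eq cert) 207225 25 chkP_207225 i (by omega) (by omega)
                · skip
                  exact allRangeF_sound _ _ (checkPointF_eq cert) 207250 25 chkP_207250 i (by omega) (by omega)
              · skip
                rcases Nat.lt_or_ge i 207300 with h8 | h8
                · skip
                  exact allRangeF_sound _ _ (checkPointF_eq cert) 207275 25 chkP_207275 i (by omega) (by omega)
                · skip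
                  exact allRangeF_sound _ _ (checkPointF_eq cert) 207300 25 chkP_207300 i (by omega) (by omega)
            · skip
              rcases Nat.lt_or_ge i 207375 with h7 | h7
              · skip
                rcases Nat.lt_or_ge i 207350 with h8 | h8
                · skip
                  exact allRangeF_sound _ _ (checkPointF_eq cert) 207325 25 chkP_207325 i (by omega) (by omega)
                · skip
                  exact allRangeF_sound _ _ (checkPointF_eq cert) 207350 25 chkP_207350 i (by omega) (by omega)
              · skip
                rcases Nat.lt_or_ge i 207400 with h8 | h8
                · skip
                  exact allRangeF_sound _ _ (checkPointF_eq cert) 207375 25 chkP_207375 i (by omega) (by omega)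
                · skip
                  rcases Nat.lt_or_ge i 207425 with h9 | h9
                  · skip
                    exact allRangeF_sound _ _ (checkPointF_eq cert) 207400 25 chkP_207400 i (by omega) (by omega)
                  · skip
                    exact allRangeF_sound _ _ (checkPointF_eq cert) 207425 25 chkP_207425 i (by omega) (by omega)
          · skip
            rcases Nat.lt_or_ge i 207575 with h6 | h6
            · skip
              rcases Nat.lt_or_ge i 207500 with h7 | h7
              · skip
                rcases Nat.lt_or_ge i 207475 with h8 | h8
                · skip
                  exact allRangeF_sound _ _ (checkPointF_eq cert) 207450 25 chkP_207450 i (by omega) (by omega)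
                · skip
                  exact allRangeF_sound _ _ (checkPointF_eq cert) 207475 25 chkP_207475 i (by omega) (by omega)
              · skip
                rcases Nat.lt_or_ge i 207525 with h8 | h8
                · skip
                  exact allRangeF_sound _ _ (checkPointF_eq cert) 207500 25 chkP_207500 i (by omega) (by omega)
                · skip
                  rcases Nat.lt_or_ge i 207550 with h9 | h9
                  · skip
                    exact allRangeF_sound _ _ (checkPointF_eq cert) 207525 25 chkP_207525 i (by omega) (by omega)
                  · skip
                    exact allRangeF_sound _ _ (checkPointF_eq cert) 207550 25 chkP_207550 i (by omega) (by omega)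
            · skip
              rcases Nat.lt_or_ge i 207625 with h7 | h7
              · skip
                rcases Nat.lt_or_ge i 207600 with h8 | h8
                · skip
                  exact allRangeF_sound _ _ (checkPointF_eq cert) 207575 25 chkP_207575 i (by omega) (by omega)
                · skip
                  exact allRangeF_sound _ _ (checkPointF_eq cert) 207600 25 chkP_207600 i (by omega) (by omega)
              · skip
                rcases Nat.lt_or_ge i 207650 with h8 | h8
                · skip
                  exact allRangeF_sound _ _ (checkPointF_eq cert) 207625 25 chkP_207625 i (by omega) (by omega)
                · skip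
                  rcases Nat.lt_or_ge i 207675 with h9 | h9
                  · skip
                    exact allRangeF_sound _ _ (checkPointF_eq cert) 207650 25 chkP_207650 i (by omega) (by omega)
                  · skip
                    exact allRangeF_sound _ _ (checkPointF_eq cert) 207675 25 chkP_207675 i (by omega) (by omega)
        · skip
          rcases Nat.lt_or_ge i 207925 with h5 | h5
          · skip
            rcases Nat.lt_or_ge i 207800 with h6 | h6
            · skip
              rcases Nat.lt_or_ge i 207750 with h7 | h7
              · skip
                rcases Nat.lt_or_ge i 207725 with h8 | h8
                · skip
                  exact allRangeF_sound _ _ (checkPointF_eq cert) 207700 25 chkP_207700 i (by omega) (by omega)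
                · skip
                  exact allRangeF_sound _ _ (checkPointF_eq cert) 207725 25 chkP_207725 i (by omega) (by omega)
              · skip
                rcases Nat.lt_or_ge i 207775 with h8 | h8
                · skip
                  exact allRangeF_sound _ _ (checkPointF_eq cert) 207750 25 chkP_207750 i (by omega) (by omega)
                · skip
                  exact allRangeF_sound _ _ (checkPointF_eq cert) 207775 25 chkP_207775 i (by omega) (by omega)
            · skip
              rcases Nat.lt_or_ge i 207850 with h7 | h7
              · skip
                rcases Nat.lt_or_ge i 207825 with h8 | h8
                · skip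
                  exact allRangeF_sound _ _ (checkPointF_eq cert) 207800 25 chkP_207800 i (by omega) (by omega)
                · skip
                  exact allRangeF_sound _ _ (checkPointF_eq cert) 207825 25 chkP_207825 i (by omega) (by omega)
              · skip
                rcases Nat.lt_or_ge i 207875 with h8 | h8
                · skip
                  exact allRangeF_sound _ _ (checkPointF_eq cert) 207850 25 chkP_207850 i (by omega) (by omega)
                · skip
                  rcases Nat.lt_or_ge i 207900 with h9 | h9
                  · skip
                    exact allRangeF_sound _ _ (checkPointF_eq cert) 207875 25 chkP_207875 i (by omega) (by omega)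
                  · skip
                    exact allRangeF_sound _ _ (checkPointF_eq cert) 207900 25 chkP_207900 i (by omega) (by omega)
          · skip
            rcases Nat.lt_or_ge i 208050 with h6 | h6
            · skip
              rcases Nat.lt_or_ge i 207975 with h7 | h7
              · skip
                rcases Nat.lt_or_ge i 207950 with h8 | h8
                · skip
                  exact allRangeF_sound _ _ (checkPointF_eq cert) 207925 25 chkP_207925 i (by omega) (by omega)
                · skip
                  exact allRangeF_sound _ _ (checkPointF_eq cert) 207950 25 chkP_207950 i (by omega) (by omega)
              · skip
                rcases Nat.lt_or_ge i 208000 with h8 | h8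
                · skip
                  exact allRangeF_sound _ _ (checkPointF_eq cert) 207975 25 chkP_207975 i (by omega) (by omega)
                · skip
                  rcases Nat.lt_or_ge i 208025 with h9 | h9
                  · skip
                    exact allRangeF_sound _ _ (checkPointF_eq cert) 208000 25 chkP_208000 i (by omega) (by omega)
                  · skip
                    exact allRangeF_sound _ _ (checkPointF_eq cert) 208025 25 chkP_208025 i (by omega) (by omega)
            · skip
              rcases Nat.lt_or_ge i 208100 with h7 | h7
              · skip
                rcases Nat.lt_or_ge i 208075 with h8 | h8
                · skip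
                  exact allRangeF_sound _ _ (checkPointF_eq cert) 208050 25 chkP_208050 i (by omega) (by omega)
                · skip
                  exact allRangeF_sound _ _ (checkPointF_eq cert) 208075 25 chkP_208075 i (by omega) (by omega)
              · skip
                rcases Nat.lt_or_ge i 208125 with h8 | h8
                · skip
                  exact allRangeF_sound _ _ (checkPointF_eq cert) 208100 25 chkP_208100 i (by omega) (by omega)
                · skip
                  rcases Nat.lt_or_ge i 208150 with h9 | h9
                  · skip
                    exact allRangeF_sound _ _ (checkPointF_eq cert) 208125 25 chkP_208125 i (by omega) (by omega)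
                  · skip
                    exact allRangeF_sound _ _ (checkPointF_eq cert) 208150 25 chkP_208150 i (by omega) (by omega)
      · skip
        rcases Nat.lt_or_ge i 208650 with h4 | h4
        · skip
          rcases Nat.lt_or_ge i 208400 with h5 | h5
          · skip
            rcases Nat.lt_or_ge i 208275 with h6 | h6
            · skip
              rcases Nat.lt_or_ge i 208225 with h7 | h7
              · skip
                rcases Nat.lt_or_ge i 208200 with h8 | h8
                · skip
                  exact allRangeF_sound _ _ (checkPointF_eq cert) 208175 25 chkP_208175 i (by omega) (by omega)
                · skip
                  exact allRangeF_sound _ _ (checkPointF_eq cert) 208200 25 chkP_208200 i (by omega) (by omega)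
              · skip
                rcases Nat.lt_or_ge i 208250 with h8 | h8
                · skip
                  exact allRangeF_sound _ _ (checkPointF_eq cert) 208225 25 chkP_208225 i (by omega) (by omega)
                · skip
                  exact allRangeF_sound _ _ (checkPointF_eq cert) 208250 25 chkP_208250 i (by omega) (by omega)
            · skip
              rcases Nat.lt_or_ge i 208325 with h7 | h7
              · skip
                rcases Nat.lt_or_ge i 208300 with h8 | h8
                · skip
                  exact allRangeF_sound _ _ (checkPointF_eq cert) 208275 25 chkP_208275 i (by omega) (by omega)
                · skip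
                  exact allRangeF_sound _ _ (checkPointF_eq cert) 208300 25 chkP_208300 i (by omega) (by omega)
              · skip
                rcases Nat.lt_or_ge i 208350 with h8 | h8
                · skip
                  exact allRangeF_sound _ _ (checkPointF_eq cert) 208325 25 chkP_208325 i (by omega) (by omega)
                · skip
                  rcases Nat.lt_or_ge i 208375 with h9 | h9
                  · skip
                    exact allRangeF_sound _ _ (checkPointF_eq cert) 208350 25 chkP_208350 i (by omega) (by omega)
                  · skip
                    exact allRangeF_sound _ _ (checkPointF_eq cert) 208375 25 chkP_208375 i (by omega) (by omega)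
          · skip
            rcases Nat.lt_or_ge i 208525 with h6 | h6
            · skip
              rcases Nat.lt_or_ge i 208450 with h7 | h7
              · skip
                rcases Nat.lt_or_ge i 208425 with h8 | h8
                · skip
                  exact allRangeF_sound _ _ (checkPointF_eq cert) 208400 25 chkP_208400 i (by omega) (by omega)
                · skip
                  exact allRangeF_sound _ _ (checkPointF_eq cert) 208425 25 chkP_208425 i (by omega) (by omega)
              · skip
                rcases Nat.lt_or_ge i 208475 with h8 | h8
                · skip
                  exact allRangeF_sound _ _ (checkPointF_eq cert) 208450 25 chkP_208450 i (by omega) (by omega)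
                · skip
                  rcases Nat.lt_or_ge i 208500 with h9 | h9
                  · skip
                    exact allRangeF_sound _ _ (checkPointF_eq cert) 208475 25 chkP_208475 i (by omega) (by omega)
                  · skip
                    exact allRangeF_sound _ _ (checkPointF_eq cert) 208500 25 chkP_208500 i (by omega) (by omega)
            · skip
              rcases Nat.lt_or_ge i 208575 with h7 | h7
              · skip
                rcases Nat.lt_or_ge i 208550 with h8 | h8
                · skip
                  exact allRangeF_sound _ _ (checkPointF_eq cert) 208525 25 chkP_208525 i (by omega) (by omega)
                · skip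
                  exact allRangeF_sound _ _ (checkPointF_eq cert) 208550 25 chkP_208550 i (by omega) (by omega)
              · skip
                rcases Nat.lt_or_ge i 208600 with h8 | h8
                · skip
                  exact allRangeF_sound _ _ (checkPointF_eq cert) 208575 25 chkP_208575 i (by omega) (by omega)
                · skip
                  rcases Nat.lt_or_ge i 208625 with h9 | h9
                  · skip
                    exact allRangeF_sound _ _ (checkPointF_eq cert) 208600 25 chkP_208600 i (by omega) (by omega)
                  · skip
                    exact allRangeF_sound _ _ (checkPointF_eq cert) 208625 25 chkP_208625 i (by omega) (by omega)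
        · skip
          rcases Nat.lt_or_ge i 208875 with h5 | h5
          · skip
            rcases Nat.lt_or_ge i 208750 with h6 | h6
            · skip
              rcases Nat.lt_or_ge i 208700 with h7 | h7
              · skip
                rcases Nat.lt_or_ge i 208675 with h8 | h8
                · skip
                  exact allRangeF_sound _ _ (checkPointF_eq cert) 208650 25 chkP_208650 i (by omega) (by omega)
                · skip
                  exact allRangeF_sound _ _ (checkPointF_eq cert) 208675 25 chkP_208675 i (by omega) (by omega)
              · skip
                rcases Nat.lt_or_ge i 208725 with h8 | h8
                · skip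
                  exact allRangeF_sound _ _ (checkPointF_eq cert) 208700 25 chkP_208700 i (by omega) (by omega)
                · skip
                  exact allRangeF_sound _ _ (checkPointF_eq cert) 208725 25 chkP_208725 i (by omega) (by omega)
            · skip
              rcases Nat.lt_or_ge i 208800 with h7 | h7
              · skip
                rcases Nat.lt_or_ge i 208775 with h8 | h8
                · skip
                  exact allRangeF_sound _ _ (checkPointF_eq cert) 208750 25 chkP_208750 i (by omega) (by omega)
                · skip
                  exact allRangeF_sound _ _ (checkPointF_eq cert) 208775 25 chkP_208775 i (by omega) (by omega)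
              · skip
                rcases Nat.lt_or_ge i 208825 with h8 | h8
                · skip
                  exact allRangeF_sound _ _ (checkPointF_eq cert) 208800 25 chkP_208800 i (by omega) (by omega)
                · skip
                  rcases Nat.lt_or_ge i 208850 with h9 | h9
                  · skip
                    exact allRangeF_sound _ _ (checkPointF_eq cert) 208825 25 chkP_208825 i (by omega) (by omega)
                  · skip
                    exact allRangeF_sound _ _ (checkPointF_eq cert) 208850 25 chkP_208850 i (by omega) (by omega)
          · skip
            rcases Nat.lt_or_ge i 209000 with h6 | h6
            · skip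
              rcases Nat.lt_or_ge i 208925 with h7 | h7
              · skip
                rcases Nat.lt_or_ge i 208900 with h8 | h8
                · skip
                  exact allRangeF_sound _ _ (checkPointF_eq cert) 208875 25 chkP_208875 i (by omega) (by omega)
                · skip
                  exact allRangeF_sound _ _ (checkPointF_eq cert) 208900 25 chkP_208900 i (by omega) (by omega)
              · skip
                rcases Nat.lt_or_ge i 208950 with h8 | h8
                · skip
                  exact allRangeF_sound _ _ (checkPointF_eq cert) 208925 25 chkP_208925 i (by omega) (by omega)
                · skip
                  rcases Nat.lt_or_ge i 208975 with h9 | h9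
                  · skip
                    exact allRangeF_sound _ _ (checkPointF_eq cert) 208950 25 chkP_208950 i (by omega) (by omega)
                  · skip
                    exact allRangeF_sound _ _ (checkPointF_eq cert) 208975 25 chkP_208975 i (by omega) (by omega)
            · skip
              rcases Nat.lt_or_ge i 209050 with h7 | h7
              · skip
                rcases Nat.lt_or_ge i 209025 with h8 | h8
                · skip
                  exact allRangeF_sound _ _ (checkPointF_eq cert) 209000 25 chkP_209000 i (by omega) (by omega)
                · skip
                  exact allRangeF_sound _ _ (checkPointF_eq cert) 209025 25 chkP_209025 i (by omega) (by omega)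
              · skip
                rcases Nat.lt_or_ge i 209075 with h8 | h8
                · skip
                  exact allRangeF_sound _ _ (checkPointF_eq cert) 209050 25 chkP_209050 i (by omega) (by omega)
                · skip
                  rcases Nat.lt_or_ge i 209100 with h9 | h9
                  · skip
                    exact allRangeF_sound _ _ (checkPointF_eq cert) 209075 25 chkP_209075 i (by omega) (by omega)
                  · skip
                    exact allRangeF_sound _ _ (checkPointF_eq cert) 209100 25 chkP_209100 i (by omega) (by omega)
    · skip
      rcases Nat.lt_or_ge i 210075 with h3 | h3
      · skip
        rcases Nat.lt_or_ge i 209600 with h4 | h4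
        · skip
          rcases Nat.lt_or_ge i 209350 with h5 | h5
          · skip
            rcases Nat.lt_or_ge i 209225 with h6 | h6
            · skip
              rcases Nat.lt_or_ge i 209175 with h7 | h7
              · skip
                rcases Nat.lt_or_ge i 209150 with h8 | h8
                · skip
                  exact allRangeF_sound _ _ (checkPointF_eq cert) 209125 25 chkP_209125 i (by omega) (by omega)
                · skip
                  exact allRangeF_sound _ _ (checkPointF_eq cert) 209150 25 chkP_209150 i (by omega) (by omega)
              · skip
                rcases Nat.lt_or_ge i 209200 with h8 | h8
                · skip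
                  exact allRangeF_sound _ _ (checkPointF_eq cert) 209175 25 chkP_209175 i (by omega) (by omega)
                · skip
                  exact allRangeF_sound _ _ (checkPointF_eq cert) 209200 25 chkP_209200 i (by omega) (by omega)
            · skip
              rcases Nat.lt_or_ge i 209275 with h7 | h7
              · skip
                rcases Nat.lt_or_ge i 209250 with h8 | h8
                · skip
                  exact allRangeF_sound _ _ (checkPointF_eq cert) 209225 25 chkP_209225 i (by omega) (by omega)
                · skip
                  exact allRangeF_sound _ _ (checkPointF_eq cert) 209250 25 chkP_209250 i (by omega) (by omega)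
              · skip
                rcases Nat.lt_or_ge i 209300 with h8 | h8
                · skip
                  exact allRangeF_sound _ _ (checkPointF_eq cert) 209275 25 chkP_209275 i (by omega) (by omega)
                · skip
                  rcases Nat.lt_or_ge i 209325 with h9 | h9
                  · skip
                    exact allRangeF_sound _ _ (checkPointF_eq cert) 209300 25 chkP_209300 i (by omega) (by omega)
                  · skip
                    exact allRangeF_sound _ _ (checkPointF_eq cert) 209325 25 chkP_209325 i (by omega) (by omega)
          · skip
            rcases Nat.lt_or_ge i 209475 with h6 | h6
            · skip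
              rcases Nat.lt_or_ge i 209400 with h7 | h7
              · skip
                rcases Nat.lt_or_ge i 209375 with h8 | h8
                · skip
                  exact allRangeF_sound _ _ (checkPointF_eq cert) 209350 25 chkP_209350 i (by omega) (by omega)
                · skip
                  exact allRangeF_sound _ _ (checkPointF_eq cert) 209375 25 chkP_209375 i (by omega) (by omega)
              · skip
                rcases Nat.lt_or_ge i 209425 with h8 | h8
                · skip
                  exact allRangeF_sound _ _ (checkPointF_eq cert) 209400 25 chkP_209400 i (by omega) (by omega)
                · skip
                  rcases Nat.lt_or_ge i 209450 with h9 | h9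
                  · skip
                    exact allRangeF_sound _ _ (checkPointF_eq cert) 209425 25 chkP_209425 i (by omega) (by omega)
                  · skip
                    exact allRangeF_sound _ _ (checkPointF_eq cert) 209450 25 chkP_209450 i (by omega) (by omega)
            · skip
              rcases Nat.lt_or_ge i 209525 with h7 | h7
              · skip
                rcases Nat.lt_or_ge i 209500 with h8 | h8
                · skip
                  exact allRangeF_sound _ _ (checkPointF_eq cert) 209475 25 chkP_209475 i (by omega) (by omega)
                · skip
                  exact allRangeF_sound _ _ (checkPointF_eq cert) 209500 25 chkP_209500 i (by omega) (by omega)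
              · skip
                rcases Nat.lt_or_ge i 209550 with h8 | h8
                · skip
                  exact allRangeF_sound _ _ (checkPointF_eq cert) 209525 25 chkP_209525 i (by omega) (by omega)
                · skip
                  rcases Nat.lt_or_ge i 209575 with h9 | h9
                  · skip
                    exact allRangeF_sound _ _ (checkPointF_eq cert) 209550 25 chkP_209550 i (by omega) (by omega)
                  · skip
                    exact allRangeF_sound _ _ (checkPointF_eq cert) 209575 25 chkP_209575 i (by omega) (by omega)
        · skip
          rcases Nat.lt_or_ge i 209825 with h5 | h5
          · skip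
            rcases Nat.lt_or_ge i 209700 with h6 | h6
            · skip
              rcases Nat.lt_or_ge i 209650 with h7 | h7
              · skip
                rcases Nat.lt_or_ge i 209625 with h8 | h8
                · skip
                  exact allRangeF_sound _ _ (checkPointF_eq cert) 209600 25 chkP_209600 i (by omega) (by omega)
                · skip
                  exact allRangeF_sound _ _ (checkPointF_eq cert) 209625 25 chkP_209625 i (by omega) (by omega)
              · skip
                rcases Nat.lt_or_ge i 209675 with h8 | h8
                · skip
                  exact allRangeF_sound _ _ (checkPointF_eq cert) 209650 25 chkP_209650 i (by omega) (by omega)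
                · skip
                  exact allRangeF_sound _ _ (checkPointF_eq cert) 209675 25 chkP_209675 i (by omega) (by omega)
            · skip
              rcases Nat.lt_or_ge i 209750 with h7 | h7
              · skip
                rcases Nat.lt_or_ge i 209725 with h8 | h8
                · skip
                  exact allRangeF_sound _ _ (checkPointF_eq cert) 209700 25 chkP_209700 i (by omega) (by omega)
                · skip
                  exact allRangeF_sound _ _ (checkPointF_eq cert) 209725 25 chkP_209725 i (by omega) (by omega)
              · skip
                rcases Nat.lt_or_ge i 209775 with h8 | h8
                · skip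
                  exact allRangeF_sound _ _ (checkPointF_eq cert) 209750 25 chkP_209750 i (by omega) (by omega)
                · skip
                  rcases Nat.lt_or_ge i 209800 with h9 | h9
                  · skip
                    exact allRangeF_sound _ _ (checkPointF_eq cert) 209775 25 chkP_209775 i (by omega) (by omega)
                  · skip
                    exact allRangeF_sound _ _ (checkPointF_eq cert) 209800 25 chkP_209800 i (by omega) (by omega)
          · skip
            rcases Nat.lt_or_ge i 209950 with h6 | h6
            · skip
              rcases Nat.lt_or_ge i 209875 with h7 | h7
              · skip
                rcases Nat.lt_or_ge i 209850 with h8 | h8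
                · skip
                  exact allRangeF_sound _ _ (checkPointF_eq cert) 209825 25 chkP_209825 i (by omega) (by omega)
                · skip
                  exact allRangeF_sound _ _ (checkPointF_eq cert) 209850 25 chkP_209850 i (by omega) (by omega)
              · skip
                rcases Nat.lt_or_ge i 209900 with h8 | h8
                · skip
                  exact allRangeF_sound _ _ (checkPointF_eq cert) 209875 25 chkP_209875 i (by omega) (by omega)
                · skip
                  rcases Nat.lt_or_ge i 209925 with h9 | h9
                  · skip
                    exact allRangeF_sound _ _ (checkPointF_eq cert) 209900 25 chkP_209900 i (by omega) (by omega)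
                  · skip
                    exact allRangeF_sound _ _ (checkPointF_eq cert) 209925 25 chkP_209925 i (by omega) (by omega)
            · skip
              rcases Nat.lt_or_ge i 210000 with h7 | h7
              · skip
                rcases Nat.lt_or_ge i 209975 with h8 | h8
                · skip
                  exact allRangeF_sound _ _ (checkPointF_eq cert) 209950 25 chkP_209950 i (by omega) (by omega)
                · skip
                  exact allRangeF_sound _ _ (checkPointF_eq cert) 209975 25 chkP_209975 i (by omega) (by omega)
              · skip
                rcases Nat.lt_or_ge i 210025 with h8 | h8
                · skip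
                  exact allRangeF_sound _ _ (checkPointF_eq cert) 210000 25 chkP_210000 i (by omega) (by omega)
                · skip
                  rcases Nat.lt_or_ge i 210050 with h9 | h9
                  · skip
                    exact allRangeF_sound _ _ (checkPointF_eq cert) 210025 25 chkP_210025 i (by omega) (by omega)
                  · skip
                    exact allRangeF_sound _ _ (checkPointF_eq cert) 210050 25 chkP_210050 i (by omega) (by omega)
      · skip
        rcases Nat.lt_or_ge i 210550 with h4 | h4
        · skip
          rcases Nat.lt_or_ge i 210300 with h5 | h5
          · skip
            rcases Nat.lt_or_ge i 210175 with h6 | h6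
            · skip
              rcases Nat.lt_or_ge i 210125 with h7 | h7
              · skip
                rcases Nat.lt_or_ge i 210100 with h8 | h8
                · skip
                  exact allRangeF_sound _ _ (checkPointF_eq cert) 210075 25 chkP_210075 i (by omega) (by omega)
                · skip
                  exact allRangeF_sound _ _ (checkPointF_eq cert) 210100 25 chkP_210100 i (by omega) (by omega)
              · skip
                rcases Nat.lt_or_ge i 210150 with h8 | h8
                · skip
                  exact allRangeF_sound _ _ (checkPointF_eq cert) 210125 25 chkP_210125 i (by omega) (by omega)
                · skip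
                  exact allRangeF_sound _ _ (checkPointF_eq cert) 210150 25 chkP_210150 i (by omega) (by omega)
            · skip
              rcases Nat.lt_or_ge i 210225 with h7 | h7
              · skip
                rcases Nat.lt_or_ge i 210200 with h8 | h8
                · skip
                  exact allRangeF_sound _ _ (checkPointF_eq cert) 210175 25 chkP_210175 i (by omega) (by omega)
                · skip
                  exact allRangeF_sound _ _ (checkPointF_eq cert) 210200 25 chkP_210200 i (by omega) (by omega)
              · skip
                rcases Nat.lt_or_ge i 210250 with h8 | h8
                · skip
                  exact allRangeF_sound _ _ (checkPointF_eq cert) 210225 25 chkP_210225 i (by omega) (by omega)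
                · skip
                  rcases Nat.lt_or_ge i 210275 with h9 | h9
                  · skip
                    exact allRangeF_sound _ _ (checkPointF_eq cert) 210250 25 chkP_210250 i (by omega) (by omega)
                  · skip
                    exact allRangeF_sound _ _ (checkPointF_eq cert) 210275 25 chkP_210275 i (by omega) (by omega)
          · skip
            rcases Nat.lt_or_ge i 210425 with h6 | h6
            · skip
              rcases Nat.lt_or_ge i 210350 with h7 | h7
              · skip
                rcases Nat.lt_or_ge i 210325 with h8 | h8
                · skip
                  exact allRangeF_sound _ _ (checkPointF_eq cert) 210300 25 chkP_210300 i (by omega) (by omega)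
                · skip
                  exact allRangeF_sound _ _ (checkPointF_eq cert) 210325 25 chkP_210325 i (by omega) (by omega)
              · skip
                rcases Nat.lt_or_ge i 210375 with h8 | h8
                · skip
                  exact allRangeF_sound _ _ (checkPointF_eq cert) 210350 25 chkP_210350 i (by omega) (by omega)
                · skip
                  rcases Nat.lt_or_ge i 210400 with h9 | h9
                  · skip
                    exact allRangeF_sound _ _ (checkPointF_eq cert) 210375 25 chkP_210375 i (by omega) (by omega)
                  · skip
                    exact allRangeF_sound _ _ (checkPointF_eq cert) 210400 25 chkP_210400 i (by omega) (by omega)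
            · skip
              rcases Nat.lt_or_ge i 210475 with h7 | h7
              · skip
                rcases Nat.lt_or_ge i 210450 with h8 | h8
                · skip
                  exact allRangeF_sound _ _ (checkPointF_eq cert) 210425 25 chkP_210425 i (by omega) (by omega)
                · skip
                  exact allRangeF_sound _ _ (checkPointF_eq cert) 210450 25 chkP_210450 i (by omega) (by omega)
              · skip
                rcases Nat.lt_or_ge i 210500 with h8 | h8
                · skip
                  exact allRangeF_sound _ _ (checkPointF_eq cert) 210475 25 chkP_210475 i (by omega) (by omega)
                · skip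
                  rcases Nat.lt_or_ge i 210525 with h9 | h9
                  · skip
                    exact allRangeF_sound _ _ (checkPointF_eq cert) 210500 25 chkP_210500 i (by omega) (by omega)
                  · skip
                    exact allRangeF_sound _ _ (checkPointF_eq cert) 210525 25 chkP_210525 i (by omega) (by omega)
        · skip
          rcases Nat.lt_or_ge i 210800 with h5 | h5
          · skip
            rcases Nat.lt_or_ge i 210675 with h6 | h6
            · skip
              rcases Nat.lt_or_ge i 210600 with h7 | h7
              · skip
                rcases Nat.lt_or_ge i 210575 with h8 | h8
                · skip
                  exact allRangeF_sound _ _ (checkPointF_eq cert) 210550 25 chkP_210550 i (by omega) (by omega)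
                · skip
                  exact allRangeF_sound _ _ (checkPointF_eq cert) 210575 25 chkP_210575 i (by omega) (by omega)
              · skip
                rcases Nat.lt_or_ge i 210625 with h8 | h8
                · skip
                  exact allRangeF_sound _ _ (checkPointF_eq cert) 210600 25 chkP_210600 i (by omega) (by omega)
                · skip
                  rcases Nat.lt_or_ge i 210650 with h9 | h9
                  · skip
                    exact allRangeF_sound _ _ (checkPointF_eq cert) 210625 25 chkP_210625 i (by omega) (by omega)
                  · skip
                    exact allRangeF_sound _ _ (checkPointF_eq cert) 210650 25 chkP_210650 i (by omega) (by omega)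
            · skip
              rcases Nat.lt_or_ge i 210725 with h7 | h7
              · skip
                rcases Nat.lt_or_ge i 210700 with h8 | h8
                · skip
                  exact allRangeF_sound _ _ (checkPointF_eq cert) 210675 25 chkP_210675 i (by omega) (by omega)
                · skip
                  exact allRangeF_sound _ _ (checkPointF_eq cert) 210700 25 chkP_210700 i (by omega) (by omega)
              · skip
                rcases Nat.lt_or_ge i 210750 with h8 | h8
                · skip
                  exact allRangeF_sound _ _ (checkPointF_eq cert) 210725 25 chkP_210725 i (by omega) (by omega)
                · skip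
                  rcases Nat.lt_or_ge i 210775 with h9 | h9
                  · skip
                    exact allRangeF_sound _ _ (checkPointF_eq cert) 210750 25 chkP_210750 i (by omega) (by omega)
                  · skip
                    exact allRangeF_sound _ _ (checkPointF_eq cert) 210775 25 chkP_210775 i (by omega) (by omega)
          · skip
            rcases Nat.lt_or_ge i 210925 with h6 | h6
            · skip
              rcases Nat.lt_or_ge i 210850 with h7 | h7
              · skip
                rcases Nat.lt_or_ge i 210825 with h8 | h8
                · skip
                  exact allRangeF_sound _ _ (checkPointF_eq cert) 210800 25 chkP_210800 i (by omega) (by omega)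
                · skip
                  exact allRangeF_sound _ _ (checkPointF_eq cert) 210825 25 chkP_210825 i (by omega) (by omega)
              · skip
                rcases Nat.lt_or_ge i 210875 with h8 | h8
                · skip
                  exact allRangeF_sound _ _ (checkPointF_eq cert) 210850 25 chkP_210850 i (by omega) (by omega)
                · skip
                  rcases Nat.lt_or_ge i 210900 with h9 | h9
                  · skip
                    exact allRangeF_sound _ _ (checkPointF_eq cert) 210875 25 chkP_210875 i (by omega) (by omega)
                  · skip
                    exact allRangeF_sound _ _ (checkPointF_eq cert) 210900 25 chkP_210900 i (by omega) (by omega)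
            · skip
              rcases Nat.lt_or_ge i 210975 with h7 | h7
              · skip
                rcases Nat.lt_or_ge i 210950 with h8 | h8
                · skip
                  exact allRangeF_sound _ _ (checkPointF_eq cert) 210925 25 chkP_210925 i (by omega) (by omega)
                · skip
                  exact allRangeF_sound _ _ (checkPointF_eq cert) 210950 25 chkP_210950 i (by omega) (by omega)
              · skip
                rcases Nat.lt_or_ge i 211000 with h8 | h8
                · skip
                  exact allRangeF_sound _ _ (checkPointF_eq cert) 210975 25 chkP_210975 i (by omega) (by omega)
                · skip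
                  rcases Nat.lt_or_ge i 211025 with h9 | h9
                  · skip
                    exact allRangeF_sound _ _ (checkPointF_eq cert) 211000 25 chkP_211000 i (by omega) (by omega)
                  · skip
                    exact allRangeF_sound _ _ (checkPointF_eq cert) 211025 25 chkP_211025 i (by omega) (by omega)
  · skip
    rcases Nat.lt_or_ge i 212975 with h2 | h2
    · skip
      rcases Nat.lt_or_ge i 212000 with h3 | h3
      · skip
        rcases Nat.lt_or_ge i 211525 with h4 | h4
        · skip
          rcases Nat.lt_or_ge i 211275 with h5 | h5
          · skip
            rcases Nat.lt_or_ge i 211150 with h6 | h6
            · skip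
              rcases Nat.lt_or_ge i 211100 with h7 | h7
              · skip
                rcases Nat.lt_or_ge i 211075 with h8 | h8
                · skip
                  exact allRangeF_sound _ _ (checkPointF_eq cert) 211050 25 chkP_211050 i (by omega) (by omega)
                · skip
                  exact allRangeF_sound _ _ (checkPointF_eq cert) 211075 25 chkP_211075 i (by omega) (by omega)
              · skip
                rcases Nat.lt_or_ge i 211125 with h8 | h8
                · skip
                  exact allRangeF_sound _ _ (checkPointF_eq cert) 211100 25 chkP_211100 i (by omega) (by omega)
                · skip
                  exact allRangeF_sound _ _ (checkPointF_eq cert) 211125 25 chkP_211125 i (by omega) (by omega)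
            · skip
              rcases Nat.lt_or_ge i 211200 with h7 | h7
              · skip
                rcases Nat.lt_or_ge i 211175 with h8 | h8
                · skip
                  exact allRangeF_sound _ _ (checkPointF_eq cert) 211150 25 chkP_211150 i (by omega) (by omega)
                · skip
                  exact allRangeF_sound _ _ (checkPointF_eq cert) 211175 25 chkP_211175 i (by omega) (by omega)
              · skip
                rcases Nat.lt_or_ge i 211225 with h8 | h8
                · skip
                  exact allRangeF_sound _ _ (checkPointF_eq cert) 211200 25 chkP_211200 i (by omega) (by omega)
                · skip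
                  rcases Nat.lt_or_ge i 211250 with h9 | h9
                  · skip
                    exact allRangeF_sound _ _ (checkPointF_eq cert) 211225 25 chkP_211225 i (by omega) (by omega)
                  · skip
                    exact allRangeF_sound _ _ (checkPointF_eq cert) 211250 25 chkP_211250 i (by omega) (by omega)
          · skip
            rcases Nat.lt_or_ge i 211400 with h6 | h6
            · skip
              rcases Nat.lt_or_ge i 211325 with h7 | h7
              · skip
                rcases Nat.lt_or_ge i 211300 with h8 | h8
                · skip
                  exact allRangeF_sound _ _ (checkPointF_eq cert) 211275 25 chkP_211275 i (by omega) (by omega)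
                · skip
                  exact allRangeF_sound _ _ (checkPointF_eq cert) 211300 25 chkP_211300 i (by omega) (by omega)
              · skip
                rcases Nat.lt_or_ge i 211350 with h8 | h8
                · skip
                  exact allRangeF_sound _ _ (checkPointF_eq cert) 211325 25 chkP_211325 i (by omega) (by omega)
                · skip
                  rcases Nat.lt_or_ge i 211375 with h9 | h9
                  · skip
                    exact allRangeF_sound _ _ (checkPointF_eq cert) 211350 25 chkP_211350 i (by omega) (by omega)
                  · skip
                    exact allRangeF_sound _ _ (checkPointF_eq cert) 211375 25 chkP_211375 i (by omega) (by omega)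
            · skip
              rcases Nat.lt_or_ge i 211450 with h7 | h7
              · skip
                rcases Nat.lt_or_ge i 211425 with h8 | h8
                · skip
                  exact allRangeF_sound _ _ (checkPointF_eq cert) 211400 25 chkP_211400 i (by omega) (by omega)
                · skip
                  exact allRangeF_sound _ _ (checkPointF_eq cert) 211425 25 chkP_211425 i (by omega) (by omega)
              · skip
                rcases Nat.lt_or_ge i 211475 with h8 | h8
                · skip
                  exact allRangeF_sound _ _ (checkPointF_eq cert) 211450 25 chkP_211450 i (by omega) (by omega)
                · skip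
                  rcases Nat.lt_or_ge i 211500 with h9 | h9
                  · skip
                    exact allRangeF_sound _ _ (checkPointF_eq cert) 211475 25 chkP_211475 i (by omega) (by omega)
                  · skip
                    exact allRangeF_sound _ _ (checkPointF_eq cert) 211500 25 chkP_211500 i (by omega) (by omega)
        · skip
          rcases Nat.lt_or_ge i 211750 with h5 | h5
          · skip
            rcases Nat.lt_or_ge i 211625 with h6 | h6
            · skip
              rcases Nat.lt_or_ge i 211575 with h7 | h7
              · skip
                rcases Nat.lt_or_ge i 211550 with h8 | h8
                · skip
                  exact allRangeF_sound _ _ (checkPointF_eq cert) 211525 25 chkP_211525 i (by omega) (by omega)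
                · skip
                  exact allRangeF_sound _ _ (checkPointF_eq cert) 211550 25 chkP_211550 i (by omega) (by omega)
              · skip
                rcases Nat.lt_or_ge i 211600 with h8 | h8
                · skip
                  exact allRangeF_sound _ _ (checkPointF_eq cert) 211575 25 chkP_211575 i (by omega) (by omega)
                · skip
                  exact allRangeF_sound _ _ (checkPointF_eq cert) 211600 25 chkP_211600 i (by omega) (by omega)
            · skip
              rcases Nat.lt_or_ge i 211675 with h7 | h7
              · skip
                rcases Nat.lt_or_ge i 211650 with h8 | h8
                · skip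
                  exact allRangeF_sound _ _ (checkPointF_eq cert) 211625 25 chkP_211625 i (by omega) (by omega)
                · skip
                  exact allRangeF_sound _ _ (checkPointF_eq cert) 211650 25 chkP_211650 i (by omega) (by omega)
              · skip
                rcases Nat.lt_or_ge i 211700 with h8 | h8
                · skip
                  exact allRangeF_sound _ _ (checkPointF_eq cert) 211675 25 chkP_211675 i (by omega) (by omega)
                · skip
                  rcases Nat.lt_or_ge i 211725 with h9 | h9
                  · skip
                    exact allRangeF_sound _ _ (checkPointF_eq cert) 211700 25 chkP_211700 i (by omega) (by omega)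
                  · skip
                    exact allRangeF_sound _ _ (checkPointF_eq cert) 211725 25 chkP_211725 i (by omega) (by omega)
          · skip
            rcases Nat.lt_or_ge i 211875 with h6 | h6
            · skip
              rcases Nat.lt_or_ge i 211800 with h7 | h7
              · skip
                rcases Nat.lt_or_ge i 211775 with h8 | h8
                · skip
                  exact allRangeF_sound _ _ (checkPointF_eq cert) 211750 25 chkP_211750 i (by omega) (by omega)
                · skip
                  exact allRangeF_sound _ _ (checkPointF_eq cert) 211775 25 chkP_211775 i (by omega) (by omega)
              · skip
                rcases Nat.lt_or_ge i 211825 with h8 | h8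
                · skip
                  exact allRangeF_sound _ _ (checkPointF_eq cert) 211800 25 chkP_211800 i (by omega) (by omega)
                · skip
                  rcases Nat.lt_or_ge i 211850 with h9 | h9
                  · skip
                    exact allRangeF_sound _ _ (checkPointF_eq cert) 211825 25 chkP_211825 i (by omega) (by omega)
                  · skip
                    exact allRangeF_sound _ _ (checkPointF_eq cert) 211850 25 chkP_211850 i (by omega) (by omega)
            · skip
              rcases Nat.lt_or_ge i 211925 with h7 | h7
              · skip
                rcases Nat.lt_or_ge i 211900 with h8 | h8
                · skip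
                  exact allRangeF_sound _ _ (checkPointF_eq cert) 211875 25 chkP_211875 i (by omega) (by omega)
                · skip
                  exact allRangeF_sound _ _ (checkPointF_eq cert) 211900 25 chkP_211900 i (by omega) (by omega)
              · skip
                rcases Nat.lt_or_ge i 211950 with h8 | h8
                · skip
                  exact allRangeF_sound _ _ (checkPointF_eq cert) 211925 25 chkP_211925 i (by omega) (by omega)
                · skip
                  rcases Nat.lt_or_ge i 211975 with h9 | h9
                  · skip
                    exact allRangeF_sound _ _ (checkPointF_eq cert) 211950 25 chkP_211950 i (by omega) (by omega)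
                  · skip
                    exact allRangeF_sound _ _ (checkPointF_eq cert) 211975 25 chkP_211975 i (by omega) (by omega)
      · skip
        rcases Nat.lt_or_ge i 212475 with h4 | h4
        · skip
          rcases Nat.lt_or_ge i 212225 with h5 | h5
          · skip
            rcases Nat.lt_or_ge i 212100 with h6 | h6
            · skip
              rcases Nat.lt_or_ge i 212050 with h7 | h7
              · skip
                rcases Nat.lt_or_ge i 212025 with h8 | h8
                · skip
                  exact allRangeF_sound _ _ (checkPointF_eq cert) 212000 25 chkP_212000 i (by omega) (by omega)
                · skip
                  exact allRangeF_sound _ _ (checkPointF_eq cert) 212025 25 chkP_212025 i (by omega) (by omega)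
              · skip
                rcases Nat.lt_or_ge i 212075 with h8 | h8
                · skip
                  exact allRangeF_sound _ _ (checkPointF_eq cert) 212050 25 chkP_212050 i (by omega) (by omega)
                · skip
                  exact allRangeF_sound _ _ (checkPointF_eq cert) 212075 25 chkP_212075 i (by omega) (by omega)
            · skip
              rcases Nat.lt_or_ge i 212150 with h7 | h7
              · skip
                rcases Nat.lt_or_ge i 212125 with h8 | h8
                · skip
                  exact allRangeF_sound _ _ (checkPointF_eq cert) 212100 25 chkP_212100 i (by omega) (by omega)
                · skip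
                  exact allRangeF_sound _ _ (checkPointF_eq cert) 212125 25 chkP_212125 i (by omega) (by omega)
              · skip
                rcases Nat.lt_or_ge i 212175 with h8 | h8
                · skip
                  exact allRangeF_sound _ _ (checkPointF_eq cert) 212150 25 chkP_212150 i (by omega) (by omega)
                · skip
                  rcases Nat.lt_or_ge i 212200 with h9 | h9
                  · skip
                    exact allRangeF_sound _ _ (checkPointF_eq cert) 212175 25 chkP_212175 i (by omega) (by omega)
                  · skip
                    exact allRangeF_sound _ _ (checkPointF_eq cert) 212200 25 chkP_212200 i (by omega) (by omega)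
          · skip
            rcases Nat.lt_or_ge i 212350 with h6 | h6
            · skip
              rcases Nat.lt_or_ge i 212275 with h7 | h7
              · skip
                rcases Nat.lt_or_ge i 212250 with h8 | h8
                · skip
                  exact allRangeF_sound _ _ (checkPointF_eq cert) 212225 25 chkP_212225 i (by omega) (by omega)
                · skip
                  exact allRangeF_sound _ _ (checkPointF_eq cert) 212250 25 chkP_212250 i (by omega) (by omega)
              · skip
                rcases Nat.lt_or_ge i 212300 with h8 | h8
                · skip
                  exact allRangeF_sound _ _ (checkPointF_eq cert) 212275 25 chkP_212275 i (by omega) (by omega)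
                · skip
                  rcases Nat.lt_or_ge i 212325 with h9 | h9
                  · skip
                    exact allRangeF_sound _ _ (checkPointF_eq cert) 212300 25 chkP_212300 i (by omega) (by omega)
                  · skip
                    exact allRangeF_sound _ _ (checkPointF_eq cert) 212325 25 chkP_212325 i (by omega) (by omega)
            · skip
              rcases Nat.lt_or_ge i 212400 with h7 | h7
              · skip
                rcases Nat.lt_or_ge i 212375 with h8 | h8
                · skip
                  exact allRangeF_sound _ _ (checkPointF_eq cert) 212350 25 chkP_212350 i (by omega) (by omega)
                · skip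
                  exact allRangeF_sound _ _ (checkPointF_eq cert) 212375 25 chkP_212375 i (by omega) (by omega)
              · skip
                rcases Nat.lt_or_ge i 212425 with h8 | h8
                · skip
                  exact allRangeF_sound _ _ (checkPointF_eq cert) 212400 25 chkP_212400 i (by omega) (by omega)
                · skip
                  rcases Nat.lt_or_ge i 212450 with h9 | h9
                  · skip
                    exact allRangeF_sound _ _ (checkPointF_eq cert) 212425 25 chkP_212425 i (by omega) (by omega)
                  · skip
                    exact allRangeF_sound _ _ (checkPointF_eq cert) 212450 25 chkP_212450 i (by omega) (by omega)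
        · skip
          rcases Nat.lt_or_ge i 212725 with h5 | h5
          · skip
            rcases Nat.lt_or_ge i 212600 with h6 | h6
            · skip
              rcases Nat.lt_or_ge i 212525 with h7 | h7
              · skip
                rcases Nat.lt_or_ge i 212500 with h8 | h8
                · skip
                  exact allRangeF_sound _ _ (checkPointF_eq cert) 212475 25 chkP_212475 i (by omega) (by omega)
                · skip
                  exact allRangeF_sound _ _ (checkPointF_eq cert) 212500 25 chkP_212500 i (by omega) (by omega)
              · skip
                rcases Nat.lt_or_ge i 212550 with h8 | h8
                · skip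
                  exact allRangeF_sound _ _ (checkPointF_eq cert) 212525 25 chkP_212525 i (by omega) (by omega)
                · skip
                  rcases Nat.lt_or_ge i 212575 with h9 | h9
                  · skip
                    exact allRangeF_sound _ _ (checkPointF_eq cert) 212550 25 chkP_212550 i (by omega) (by omega)
                  · skip
                    exact allRangeF_sound _ _ (checkPointF_eq cert) 212575 25 chkP_212575 i (by omega) (by omega)
            · skip
              rcases Nat.lt_or_ge i 212650 with h7 | h7
              · skip
                rcases Nat.lt_or_ge i 212625 with h8 | h8
                · skip
                  exact allRangeF_sound _ _ (checkPointF_eq cert) 212600 25 chkP_212600 i (by omega) (by omega)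
                · skip
                  exact allRangeF_sound _ _ (checkPointF_eq cert) 212625 25 chkP_212625 i (by omega) (by omega)
              · skip
                rcases Nat.lt_or_ge i 212675 with h8 | h8
                · skip
                  exact allRangeF_sound _ _ (checkPointF_eq cert) 212650 25 chkP_212650 i (by omega) (by omega)
                · skip
                  rcases Nat.lt_or_ge i 212700 with h9 | h9
                  · skip
                    exact allRangeF_sound _ _ (checkPointF_eq cert) 212675 25 chkP_212675 i (by omega) (by omega)
                  · skip
                    exact allRangeF_sound _ _ (checkPointF_eq cert) 212700 25 chkP_212700 i (by omega) (by omega)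
          · skip
            rcases Nat.lt_or_ge i 212850 with h6 | h6
            · skip
              rcases Nat.lt_or_ge i 212775 with h7 | h7
              · skip
                rcases Nat.lt_or_ge i 212750 with h8 | h8
                · skip
                  exact allRangeF_sound _ _ (checkPointF_eq cert) 212725 25 chkP_212725 i (by omega) (by omega)
                · skip
                  exact allRangeF_sound _ _ (checkPointF_eq cert) 212750 25 chkP_212750 i (by omega) (by omega)
              · skip
                rcases Nat.lt_or_ge i 212800 with h8 | h8
                · skip
                  exact allRangeF_sound _ _ (checkPointF_eq cert) 212775 25 chkP_212775 i (by omega) (by omega)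
                · skip
                  rcases Nat.lt_or_ge i 212825 with h9 | h9
                  · skip
                    exact allRangeF_sound _ _ (checkPointF_eq cert) 212800 25 chkP_212800 i (by omega) (by omega)
                  · skip
                    exact allRangeF_sound _ _ (checkPointF_eq cert) 212825 25 chkP_212825 i (by omega) (by omega)
            · skip
              rcases Nat.lt_or_ge i 212900 with h7 | h7
              · skip
                rcases Nat.lt_or_ge i 212875 with h8 | h8
                · skip
                  exact allRangeF_sound _ _ (checkPointF_eq cert) 212850 25 chkP_212850 i (by omega) (by omega)
                · skip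
                  exact allRangeF_sound _ _ (checkPointF_eq cert) 212875 25 chkP_212875 i (by omega) (by omega)
              · skip
                rcases Nat.lt_or_ge i 212925 with h8 | h8
                · skip
                  exact allRangeF_sound _ _ (checkPointF_eq cert) 212900 25 chkP_212900 i (by omega) (by omega)
                · skip
                  rcases Nat.lt_or_ge i 212950 with h9 | h9
                  · skip
                    exact allRangeF_sound _ _ (checkPointF_eq cert) 212925 25 chkP_212925 i (by omega) (by omega)
                  · skip
                    exact allRangeF_sound _ _ (checkPointF_eq cert) 212950 25 chkP_212950 i (by omega) (by omega)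
    · skip
      rcases Nat.lt_or_ge i 213925 with h3 | h3
      · skip
        rcases Nat.lt_or_ge i 213450 with h4 | h4
        · skip
          rcases Nat.lt_or_ge i 213200 with h5 | h5
          · skip
            rcases Nat.lt_or_ge i 213075 with h6 | h6
            · skip
              rcases Nat.lt_or_ge i 213025 with h7 | h7
              · skip
                rcases Nat.lt_or_ge i 213000 with h8 | h8
                · skip
                  exact allRangeF_sound _ _ (checkPointF_eq cert) 212975 25 chkP_212975 i (by omega) (by omega)
                · skip
                  exact allRangeF_sound _ _ (checkPointF_eq cert) 213000 25 chkP_213000 i (by omega) (by omega)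
              · skip
                rcases Nat.lt_or_ge i 213050 with h8 | h8
                · skip
                  exact allRangeF_sound _ _ (checkPointF_eq cert) 213025 25 chkP_213025 i (by omega) (by omega)
                · skip
                  exact allRangeF_sound _ _ (checkPointF_eq cert) 213050 25 chkP_213050 i (by omega) (by omega)
            · skip
              rcases Nat.lt_or_ge i 213125 with h7 | h7
              · skip
                rcases Nat.lt_or_ge i 213100 with h8 | h8
                · skip
                  exact allRangeF_sound _ _ (checkPointF_eq cert) 213075 25 chkP_213075 i (by omega) (by omega)
                · skip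
                  exact allRangeF_sound _ _ (checkPointF_eq cert) 213100 25 chkP_213100 i (by omega) (by omega)
              · skip
                rcases Nat.lt_or_ge i 213150 with h8 | h8
                · skip
                  exact allRangeF_sound _ _ (checkPointF_eq cert) 213125 25 chkP_213125 i (by omega) (by omega)
                · skip
                  rcases Nat.lt_or_ge i 213175 with h9 | h9
                  · skip
                    exact allRangeF_sound _ _ (checkPointF_eq cert) 213150 25 chkP_213150 i (by omega) (by omega)
                  · skip
                    exact allRangeF_sound _ _ (checkPointF_eq cert) 213175 25 chkP_213175 i (by omega) (by omega)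
          · skip
            rcases Nat.lt_or_ge i 213325 with h6 | h6
            · skip
              rcases Nat.lt_or_ge i 213250 with h7 | h7
              · skip
                rcases Nat.lt_or_ge i 213225 with h8 | h8
                · skip
                  exact allRangeF_sound _ _ (checkPointF_eq cert) 213200 25 chkP_213200 i (by omega) (by omega)
                · skip
                  exact allRangeF_sound _ _ (checkPointF_eq cert) 213225 25 chkP_213225 i (by omega) (by omega)
              · skip
                rcases Nat.lt_or_ge i 213275 with h8 | h8
                · skip
                  exact allRangeF_sound _ _ (checkPointF_eq cert) 213250 25 chkP_213250 i (by omega) (by omega)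
                · skip
                  rcases Nat.lt_or_ge i 213300 with h9 | h9
                  · skip
                    exact allRangeF_sound _ _ (checkPointF_eq cert) 213275 25 chkP_213275 i (by omega) (by omega)
                  · skip
                    exact allRangeF_sound _ _ (checkPointF_eq cert) 213300 25 chkP_213300 i (by omega) (by omega)
            · skip
              rcases Nat.lt_or_ge i 213375 with h7 | h7
              · skip
                rcases Nat.lt_or_ge i 213350 with h8 | h8
                · skip
                  exact allRangeF_sound _ _ (checkPointF_eq cert) 213325 25 chkP_213325 i (by omega) (by omega)
                · skip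
                  exact allRangeF_sound _ _ (checkPointF_eq cert) 213350 25 chkP_213350 i (by omega) (by omega)
              · skip
                rcases Nat.lt_or_ge i 213400 with h8 | h8
                · skip
                  exact allRangeF_sound _ _ (checkPointF_eq cert) 213375 25 chkP_213375 i (by omega) (by omega)
                · skip
                  rcases Nat.lt_or_ge i 213425 with h9 | h9
                  · skip
                    exact allRangeF_sound _ _ (checkPointF_eq cert) 213400 25 chkP_213400 i (by omega) (by omega)
                  · skip
                    exact allRangeF_sound _ _ (checkPointF_eq cert) 213425 25 chkP_213425 i (by omega) (by omega)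
        · skip
          rcases Nat.lt_or_ge i 213675 with h5 | h5
          · skip
            rcases Nat.lt_or_ge i 213550 with h6 | h6
            · skip
              rcases Nat.lt_or_ge i 213500 with h7 | h7
              · skip
                rcases Nat.lt_or_ge i 213475 with h8 | h8
                · skip
                  exact allRangeF_sound _ _ (checkPointF_eq cert) 213450 25 chkP_213450 i (by omega) (by omega)
                · skip
                  exact allRangeF_sound _ _ (checkPointF_eq cert) 213475 25 chkP_213475 i (by omega) (by omega)
              · skip
                rcases Nat.lt_or_ge i 213525 with h8 | h8
                · skip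
                  exact allRangeF_sound _ _ (checkPointF_eq cert) 213500 25 chkP_213500 i (by omega) (by omega)
                · skip
                  exact allRangeF_sound _ _ (checkPointF_eq cert) 213525 25 chkP_213525 i (by omega) (by omega)
            · skip
              rcases Nat.lt_or_ge i 213600 with h7 | h7
              · skip
                rcases Nat.lt_or_ge i 213575 with h8 | h8
                · skip
                  exact allRangeF_sound _ _ (checkPointF_eq cert) 213550 25 chkP_213550 i (by omega) (by omega)
                · skip
                  exact allRangeF_sound _ _ (checkPointF_eq cert) 213575 25 chkP_213575 i (by omega) (by omega)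
              · skip
                rcases Nat.lt_or_ge i 213625 with h8 | h8
                · skip
                  exact allRangeF_sound _ _ (checkPointF_eq cert) 213600 25 chkP_213600 i (by omega) (by omega)
                · skip
                  rcases Nat.lt_or_ge i 213650 with h9 | h9
                  · skip
                    exact allRangeF_sound _ _ (checkPointF_eq cert) 213625 25 chkP_213625 i (by omega) (by omega)
                  · skip
                    exact allRangeF_sound _ _ (checkPointF_eq cert) 213650 25 chkP_213650 i (by omega) (by omega)
          · skip
            rcases Nat.lt_or_ge i 213800 with h6 | h6
            · skip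
              rcases Nat.lt_or_ge i 213725 with h7 | h7
              · skip
                rcases Nat.lt_or_ge i 213700 with h8 | h8
                · skip
                  exact allRangeF_sound _ _ (checkPointF_eq cert) 213675 25 chkP_213675 i (by omega) (by omega)
                · skip
                  exact allRangeF_sound _ _ (checkPointF_eq cert) 213700 25 chkP_213700 i (by omega) (by omega)
              · skip
                rcases Nat.lt_or_ge i 213750 with h8 | h8
                · skip
                  exact allRangeF_sound _ _ (checkPointF_eq cert) 213725 25 chkP_213725 i (by omega) (by omega)
                · skip
                  rcases Nat.lt_or_ge i 213775 with h9 | h9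
                  · skip
                    exact allRangeF_sound _ _ (checkPointF_eq cert) 213750 25 chkP_213750 i (by omega) (by omega)
                  · skip
                    exact allRangeF_sound _ _ (checkPointF_eq cert) 213775 25 chkP_213775 i (by omega) (by omega)
            · skip
              rcases Nat.lt_or_ge i 213850 with h7 | h7
              · skip
                rcases Nat.lt_or_ge i 213825 with h8 | h8
                · skip
                  exact allRangeF_sound _ _ (checkPointF_eq cert) 213800 25 chkP_213800 i (by omega) (by omega)
                · skip
                  exact allRangeF_sound _ _ (checkPointF_eq cert) 213825 25 chkP_213825 i (by omega) (by omega)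
              · skip
                rcases Nat.lt_or_ge i 213875 with h8 | h8
                · skip
                  exact allRangeF_sound _ _ (checkPointF_eq cert) 213850 25 chkP_213850 i (by omega) (by omega)
                · skip
                  rcases Nat.lt_or_ge i 213900 with h9 | h9
                  · skip
                    exact allRangeF_sound _ _ (checkPointF_eq cert) 213875 25 chkP_213875 i (by omega) (by omega)
                  · skip
                    exact allRangeF_sound _ _ (checkPointF_eq cert) 213900 25 chkP_213900 i (by omega) (by omega)
      · skip
        rcases Nat.lt_or_ge i 214400 with h4 | h4
        · skip
          rcases Nat.lt_or_ge i 214150 with h5 | h5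
          · skip
            rcases Nat.lt_or_ge i 214025 with h6 | h6
            · skip
              rcases Nat.lt_or_ge i 213975 with h7 | h7
              · skip
                rcases Nat.lt_or_ge i 213950 with h8 | h8
                · skip
                  exact allRangeF_sound _ _ (checkPointF_eq cert) 213925 25 chkP_213925 i (by omega) (by omega)
                · skip
                  exact allRangeF_sound _ _ (checkPointF_eq cert) 213950 25 chkP_213950 i (by omega) (by omega)
              · skip
                rcases Nat.lt_or_ge i 214000 with h8 | h8
                · skip
                  exact allRangeF_sound _ _ (checkPointF_eq cert) 213975 25 chkP_213975 i (by omega) (by omega)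
                · skip
                  exact allRangeF_sound _ _ (checkPointF_eq cert) 214000 25 chkP_214000 i (by omega) (by omega)
            · skip
              rcases Nat.lt_or_ge i 214075 with h7 | h7
              · skip
                rcases Nat.lt_or_ge i 214050 with h8 | h8
                · skip
                  exact allRangeF_sound _ _ (checkPointF_eq cert) 214025 25 chkP_214025 i (by omega) (by omega)
                · skip
                  exact allRangeF_sound _ _ (checkPointF_eq cert) 214050 25 chkP_214050 i (by omega) (by omega)
              · skip
                rcases Nat.lt_or_ge i 214100 with h8 | h8
                · skip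
                  exact allRangeF_sound _ _ (checkPointF_eq cert) 214075 25 chkP_214075 i (by omega) (by omega)
                · skip
                  rcases Nat.lt_or_ge i 214125 with h9 | h9
                  · skip
                    exact allRangeF_sound _ _ (checkPointF_eq cert) 214100 25 chkP_214100 i (by omega) (by omega)
                  · skip
                    exact allRangeF_sound _ _ (checkPointF_eq cert) 214125 25 chkP_214125 i (by omega) (by omega)
          · skip
            rcases Nat.lt_or_ge i 214275 with h6 | h6
            · skip
              rcases Nat.lt_or_ge i 214200 with h7 | h7
              · skip
                rcases Nat.lt_or_ge i 214175 with h8 | h8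
                · skip
                  exact allRangeF_sound _ _ (checkPointF_eq cert) 214150 25 chkP_214150 i (by omega) (by omega)
                · skip
                  exact allRangeF_sound _ _ (checkPointF_eq cert) 214175 25 chkP_214175 i (by omega) (by omega)
              · skip
                rcases Nat.lt_or_ge i 214225 with h8 | h8
                · skip
                  exact allRangeF_sound _ _ (checkPointF_eq cert) 214200 25 chkP_214200 i (by omega) (by omega)
                · skip
                  rcases Nat.lt_or_ge i 214250 with h9 | h9
                  · skip
                    exact allRangeF_sound _ _ (checkPointF_eq cert) 214225 25 chkP_214225 i (by omega) (by omega)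
                  · skip
                    exact allRangeF_sound _ _ (checkPointF_eq cert) 214250 25 chkP_214250 i (by omega) (by omega)
            · skip
              rcases Nat.lt_or_ge i 214325 with h7 | h7
              · skip
                rcases Nat.lt_or_ge i 214300 with h8 | h8
                · skip
                  exact allRangeF_sound _ _ (checkPointF_eq cert) 214275 25 chkP_214275 i (by omega) (by omega)
                · skip
                  exact allRangeF_sound _ _ (checkPointF_eq cert) 214300 25 chkP_214300 i (by omega) (by omega)
              · skip
                rcases Nat.lt_or_ge i 214350 with h8 | h8
                · skip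
                  exact allRangeF_sound _ _ (checkPointF_eq cert) 214325 25 chkP_214325 i (by omega) (by omega)
                · skip
                  rcases Nat.lt_or_ge i 214375 with h9 | h9
                  · skip
                    exact allRangeF_sound _ _ (checkPointF_eq cert) 214350 25 chkP_214350 i (by omega) (by omega)
                  · skip
                    exact allRangeF_sound _ _ (checkPointF_eq cert) 214375 25 chkP_214375 i (by omega) (by omega)
        · skip
          rcases Nat.lt_or_ge i 214650 with h5 | h5
          · skip
            rcases Nat.lt_or_ge i 214525 with h6 | h6
            · skip
              rcases Nat.lt_or_ge i 214450 with h7 | h7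
              · skip
                rcases Nat.lt_or_ge i 214425 with h8 | h8
                · skip
                  exact allRangeF_sound _ _ (checkPointF_eq cert) 214400 25 chkP_214400 i (by omega) (by omega)
                · skip
                  exact allRangeF_sound _ _ (checkPointF_eq cert) 214425 25 chkP_214425 i (by omega) (by omega)
              · skip
                rcases Nat.lt_or_ge i 214475 with h8 | h8
                · skip
                  exact allRangeF_sound _ _ (checkPointF_eq cert) 214450 25 chkP_214450 i (by omega) (by omega)
                · skip
                  rcases Nat.lt_or_ge i 214500 with h9 | h9
                  · skip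
                    exact allRangeF_sound _ _ (checkPointF_eq cert) 214475 25 chkP_214475 i (by omega) (by omega)
                  · skip
                    exact allRangeF_sound _ _ (checkPointF_eq cert) 214500 25 chkP_214500 i (by omega) (by omega)
            · skip
              rcases Nat.lt_or_ge i 214575 with h7 | h7
              · skip
                rcases Nat.lt_or_ge i 214550 with h8 | h8
                · skip
                  exact allRangeF_sound _ _ (checkPointF_eq cert) 214525 25 chkP_214525 i (by omega) (by omega)
                · skip
                  exact allRangeF_sound _ _ (checkPointF_eq cert) 214550 25 chkP_214550 i (by omega) (by omega)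
              · skip
                rcases Nat.lt_or_ge i 214600 with h8 | h8
                · skip
                  exact allRangeF_sound _ _ (checkPointF_eq cert) 214575 25 chkP_214575 i (by omega) (by omega)
                · skip
                  rcases Nat.lt_or_ge i 214625 with h9 | h9
                  · skip
                    exact allRangeF_sound _ _ (checkPointF_eq cert) 214600 25 chkP_214600 i (by omega) (by omega)
                  · skip
                    exact allRangeF_sound _ _ (checkPointF_eq cert) 214625 25 chkP_214625 i (by omega) (by omega)
          · skip
            rcases Nat.lt_or_ge i 214775 with h6 | h6
            · skip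
              rcases Nat.lt_or_ge i 214700 with h7 | h7
              · skip
                rcases Nat.lt_or_ge i 214675 with h8 | h8
                · skip
                  exact allRangeF_sound _ _ (checkPointF_eq cert) 214650 25 chkP_214650 i (by omega) (by omega)
                · skip
                  exact allRangeF_sound _ _ (checkPointF_eq cert) 214675 25 chkP_214675 i (by omega) (by omega)
              · skip
                rcases Nat.lt_or_ge i 214725 with h8 | h8
                · skip
                  exact allRangeF_sound _ _ (checkPointF_eq cert) 214700 25 chkP_214700 i (by omega) (by omega)
                · skip
                  rcases Nat.lt_or_ge i 214750 with h9 | h9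
                  · skip
                    exact allRangeF_sound _ _ (checkPointF_eq cert) 214725 25 chkP_214725 i (by omega) (by omega)
                  · skip
                    exact allRangeF_sound _ _ (checkPointF_eq cert) 214750 25 chkP_214750 i (by omega) (by omega)
            · skip
              rcases Nat.lt_or_ge i 214825 with h7 | h7
              · skip
                rcases Nat.lt_or_ge i 214800 with h8 | h8
                · skip
                  exact allRangeF_sound _ _ (checkPointF_eq cert) 214775 25 chkP_214775 i (by omega) (by omega)
                · skip
                  exact allRangeF_sound _ _ (checkPointF_eq cert) 214800 25 chkP_214800 i (by omega) (by omega)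
              · skip
                rcases Nat.lt_or_ge i 214850 with h8 | h8
                · skip
                  exact allRangeF_sound _ _ (checkPointF_eq cert) 214825 25 chkP_214825 i (by omega) (by omega)
                · skip
                  rcases Nat.lt_or_ge i 214875 with h9 | h9
                  · skip
                    exact allRangeF_sound _ _ (checkPointF_eq cert) 214850 25 chkP_214850 i (by omega) (by omega)
                  · skip
                    exact allRangeF_sound _ _ (checkPointF_eq cert) 214875 25 chkP_214875 i (by omega) (by omega)

end Cfsg.Agent.Lib.Helper28.Fi24Data
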