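import Cfsg.Agent.Lib.Helper28.Fi24Data
import Cfsg.Agent.Lib.Helper28.TCFastB

set_option autoImplicit false
set_option maxRecDepth 1000000
set_option linter.all false
set_option Elab.async false

namespace Cfsg.Agent.Lib.Helper28.Fi24Data

open Cfsg.Agent.Lib.Helper28B

theorem chkP_214900 : allRangeF (checkPointF cert) (nat_lit 214900) (nat_lit 25) = true := by decide +kernel
theorem chkP_214925 : allRangeF (checkPointF cert) (nat_lit 214925) (nat_lit 25) = true := by decide +kernel
theorem chkP_214950 : allRangeF (checkPointF cert) (nat_lit 214950) (nat_lit 25) = true := by decide +kernel
theorem chkP_214975 : allRangeF (checkPointF cert) (nat_lit 214975) (nat_lit 25) = true := by decide +kernel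
theorem chkP_215000 : allRangeF (checkPointF cert) (nat_lit 215000) (nat_lit 25) = true := by decide +kernel
theorem chkP_215025 : allRangeF (checkPointF cert) (nat_lit 215025) (nat_lit 25) = true := by decide +kernel
theorem chkP_215050 : allRangeF (checkPointF cert) (nat_lit 215050) (nat_lit 25) = true := by decide +kernel
theorem chkP_215075 : allRangeF (checkPointF cert) (nat_lit 215075) (nat_lit 25) = true := by decide +kernel
theorem chkP_215100 : allRangeF (checkPointF cert) (nat_lit 215100) (nat_lit 25) = true := by decide +kernel
theorem chkP_215125 : allRangeF (checkPointF cert) (nat_lit 215125) (nat_lit 25) = true := by decide +kernel
theorem chkP_215150 : allRangeF (checkPointF cert) (nat_lit 215150) (nat_lit 25) = true := by decide +kernel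
theorem chkP_215175 : allRangeF (checkPointF cert) (nat_lit 215175) (nat_lit 25) = true := by decide +kernel
theorem chkP_215200 : allRangeF (checkPointF cert) (nat_lit 215200) (nat_lit 25) = true := by decide +kernel
theorem chkP_215225 : allRangeF (checkPointF cert) (nat_lit 215225) (nat_lit 25) = true := by decide +kernel
theorem chkP_215250 : allRangeF (checkPointF cert) (nat_lit 215250) (nat_lit 25) = true := by decide +kernel
theorem chkP_215275 : allRangeF (checkPointF cert) (nat_lit 215275) (nat_lit 25) = true := by decide +kernel
theorem chkP_215300 : allRangeF (checkPointF cert) (nat_lit 215300) (nat_lit 25) = true := by decide +kernel
theorem chkP_215325 : allRangeF (checkPointF cert) (nat_lit 215325) (nat_lit 25) = true := by decide +kernel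
theorem chkP_215350 : allRangeF (checkPointF cert) (nat_lit 215350) (nat_lit 25) = true := by decide +kernel
theorem chkP_215375 : allRangeF (checkPointF cert) (nat_lit 215375) (nat_lit 25) = true := by decide +kernel
theorem chkP_215400 : allRangeF (checkPointF cert) (nat_lit 215400) (nat_lit 25) = true := by decide +kernel
theorem chkP_215425 : allRangeF (checkPointF cert) (nat_lit 215425) (nat_lit 25) = true := by decide +kernel
theorem chkP_215450 : allRangeF (checkPointF cert) (nat_lit 215450) (nat_lit 25) = true := by decide +kernel
theorem chkP_215475 : allRangeF (checkPointF cert) (nat_lit 215475) (nat_lit 25) = true := by decide +kernel
theorem chkP_215500 : allRangeF (checkPointF cert) (nat_lit 215500) (nat_lit 25) = true := by decide +kernel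
theorem chkP_215525 : allRangeF (checkPointF cert) (nat_lit 215525) (nat_lit 25) = true := by decide +kernel
theorem chkP_215550 : allRangeF (checkPointF cert) (nat_lit 215550) (nat_lit 25) = true := by decide +kernel
theorem chkP_215575 : allRangeF (checkPointF cert) (nat_lit 215575) (nat_lit 25) = true := by decide +kernel
theorem chkP_215600 : allRangeF (checkPointF cert) (nat_lit 215600) (nat_lit 25) = true := by decide +kernel
theorem chkP_215625 : allRangeF (checkPointF cert) (nat_lit 215625) (nat_lit 25) = true := by decide +kernel
theorem chkP_215650 : allRangeF (checkPointF cert) (nat_lit 215650) (nat_lit 25) = true := by decide +kernel
theorem chkP_215675 : allRangeF (checkPointF cert) (nat_lit 215675) (nat_lit 25) = true := by decide +kernel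
theorem chkP_215700 : allRangeF (checkPointF cert) (nat_lit 215700) (nat_lit 25) = true := by decide +kernel
theorem chkP_215725 : allRangeF (checkPointF cert) (nat_lit 215725) (nat_lit 25) = true := by decide +kernel
theorem chkP_215750 : allRangeF (checkPointF cert) (nat_lit 215750) (nat_lit 25) = true := by decide +kernel
theorem chkP_215775 : allRangeF (checkPointF cert) (nat_lit 215775) (nat_lit 25) = true := by decide +kernel
theorem chkP_215800 : allRangeF (checkPointF cert) (nat_lit 215800) (nat_lit 25) = true := by decide +kernel
theorem chkP_215825 : allRangeF (checkPointF cert) (nat_lit 215825) (nat_lit 25) = true := by decide +kernel
theorem chkP_215850 : allRangeF (checkPointF cert) (nat_lit 215850) (nat_lit 25) = true := by decide +kernel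
theorem chkP_215875 : allRangeF (checkPointF cert) (nat_lit 215875) (nat_lit 25) = true := by decide +kernel
theorem chkP_215900 : allRangeF (checkPointF cert) (nat_lit 215900) (nat_lit 25) = true := by decide +kernel
theorem chkP_215925 : allRangeF (checkPointF cert) (nat_lit 215925) (nat_lit 25) = true := by decide +kernel
theorem chkP_215950 : allRangeF (checkPointF cert) (nat_lit 215950) (nat_lit 25) = true := by decide +kernel
theorem chkP_215975 : allRangeF (checkPointF cert) (nat_lit 215975) (nat_lit 25) = true := by decide +kernel
theorem chkP_216000 : allRangeF (checkPointF cert) (nat_lit 216000) (nat_lit 25) = true := by decide +kernel
theorem chkP_216025 : allRangeF (checkPointF cert) (nat_lit 216025) (nat_lit 25) = true := by decide +kernel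
theorem chkP_216050 : allRangeF (checkPointF cert) (nat_lit 216050) (nat_lit 25) = true := by decide +kernel
theorem chkP_216075 : allRangeF (checkPointF cert) (nat_lit 216075) (nat_lit 25) = true := by decide +kernel
theorem chkP_216100 : allRangeF (checkPointF cert) (nat_lit 216100) (nat_lit 25) = true := by decide +kernel
theorem chkP_216125 : allRangeF (checkPointF cert) (nat_lit 216125) (nat_lit 25) = true := by decide +kernel
theorem chkP_216150 : allRangeF (checkPointF cert) (nat_lit 216150) (nat_lit 25) = true := by decide +kernel
theorem chkP_216175 : allRangeF (checkPointF cert) (nat_lit 216175) (nat_lit 25) = true := by decide +kernel
theorem chkP_216200 : allRangeF (checkPointF cert) (nat_lit 216200) (nat_lit 25) = true := by decide +kernel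
theorem chkP_216225 : allRangeF (checkPointF cert) (nat_lit 216225) (nat_lit 25) = true := by decide +kernel
theorem chkP_216250 : allRangeF (checkPointF cert) (nat_lit 216250) (nat_lit 25) = true := by decide +kernel
theorem chkP_216275 : allRangeF (checkPointF cert) (nat_lit 216275) (nat_lit 25) = true := by decide +kernel
theorem chkP_216300 : allRangeF (checkPointF cert) (nat_lit 216300) (nat_lit 25) = true := by decide +kernel
theorem chkP_216325 : allRangeF (checkPointF cert) (nat_lit 216325) (nat_lit 25) = true := by decide +kernel
theorem chkP_216350 : allRangeF (checkPointF cert) (nat_lit 216350) (nat_lit 25) = true := by decide +kernel
theorem chkP_216375 : allRangeF (checkPointF cert) (nat_lit 216375) (nat_lit 25) = true := by decide +kernel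
theorem chkP_216400 : allRangeF (checkPointF cert) (nat_lit 216400) (nat_lit 25) = true := by decide +kernel
theorem chkP_216425 : allRangeF (checkPointF cert) (nat_lit 216425) (nat_lit 25) = true := by decide +kernel
theorem chkP_216450 : allRangeF (checkPointF cert) (nat_lit 216450) (nat_lit 25) = true := by decide +kernel
theorem chkP_216475 : allRangeF (checkPointF cert) (nat_lit 216475) (nat_lit 25) = true := by decide +kernel
theorem chkP_216500 : allRangeF (checkPointF cert) (nat_lit 216500) (nat_lit 25) = true := by decide +kernel
theorem chkP_216525 : allRangeF (checkPointF cert) (nat_lit 216525) (nat_lit 25) = true := by decide +kernel
theorem chkP_216550 : allRangeF (checkPointF cert) (nat_lit 216550) (nat_lit 25) = true := by decide +kernel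
theorem chkP_216575 : allRangeF (checkPointF cert) (nat_lit 216575) (nat_lit 25) = true := by decide +kernel
theorem chkP_216600 : allRangeF (checkPointF cert) (nat_lit 216600) (nat_lit 25) = true := by decide +kernel
theorem chkP_216625 : allRangeF (checkPointF cert) (nat_lit 216625) (nat_lit 25) = true := by decide +kernel
theorem chkP_216650 : allRangeF (checkPointF cert) (nat_lit 216650) (nat_lit 25) = true := by decide +kernel
theorem chkP_216675 : allRangeF (checkPointF cert) (nat_lit 216675) (nat_lit 25) = true := by decide +kernel
theorem chkP_216700 : allRangeF (checkPointF cert) (nat_lit 216700) (nat_lit 25) = true := by decide +kernel
theorem chkP_216725 : allRangeF (checkPointF cert) (nat_lit 216725) (nat_lit 25) = true := by decide +kernel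
theorem chkP_216750 : allRangeF (checkPointF cert) (nat_lit 216750) (nat_lit 25) = true := by decide +kernel
theorem chkP_216775 : allRangeF (checkPointF cert) (nat_lit 216775) (nat_lit 25) = true := by decide +kernel
theorem chkP_216800 : allRangeF (checkPointF cert) (nat_lit 216800) (nat_lit 25) = true := by decide +kernel
theorem chkP_216825 : allRangeF (checkPointF cert) (nat_lit 216825) (nat_lit 25) = true := by decide +kernel
theorem chkP_216850 : allRangeF (checkPointF cert) (nat_lit 216850) (nat_lit 25) = true := by decide +kernel
theorem chkP_216875 : allRangeF (checkPointF cert) (nat_lit 216875) (nat_lit 25) = true := by decide +kernel
theorem chkP_216900 : allRangeF (checkPointF cert) (nat_lit 216900) (nat_lit 25) = true := by decide +kernel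
theorem chkP_216925 : allRangeF (checkPointF cert) (nat_lit 216925) (nat_lit 25) = true := by decide +kernel
theorem chkP_216950 : allRangeF (checkPointF cert) (nat_lit 216950) (nat_lit 25) = true := by decide +kernel
theorem chkP_216975 : allRangeF (checkPointF cert) (nat_lit 216975) (nat_lit 25) = true := by decide +kernel
theorem chkP_217000 : allRangeF (checkPointF cert) (nat_lit 217000) (nat_lit 25) = true := by decide +kernel
theorem chkP_217025 : allRangeF (checkPointF cert) (nat_lit 217025) (nat_lit 25) = true := by decide +kernel
theorem chkP_217050 : allRangeF (checkPointF cert) (nat_lit 217050) (nat_lit 25) = true := by decide +kernel
theorem chkP_217075 : allRangeF (checkPointF cert) (nat_lit 217075) (nat_lit 25) = true := by decide +kernel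
theorem chkP_217100 : allRangeF (checkPointF cert) (nat_lit 217100) (nat_lit 25) = true := by decide +kernel
theorem chkP_217125 : allRangeF (checkPointF cert) (nat_lit 217125) (nat_lit 25) = true := by decide +kernel
theorem chkP_217150 : allRangeF (checkPointF cert) (nat_lit 217150) (nat_lit 25) = true := by decide +kernel
theorem chkP_217175 : allRangeF (checkPointF cert) (nat_lit 217175) (nat_lit 25) = true := by decide +kernel
theorem chkP_217200 : allRangeF (checkPointF cert) (nat_lit 217200) (nat_lit 25) = true := by decide +kernel
theorem chkP_217225 : allRangeF (checkPointF cert) (nat_lit 217225) (nat_lit 25) = true := by decide +kernel
theorem chkP_217250 : allRangeF (checkPointF cert) (nat_lit 217250) (nat_lit 25) = true := by decide +kernel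
theorem chkP_217275 : allRangeF (checkPointF cert) (nat_lit 217275) (nat_lit 25) = true := by decide +kernel
theorem chkP_217300 : allRangeF (checkPointF cert) (nat_lit 217300) (nat_lit 25) = true := by decide +kernel
theorem chkP_217325 : allRangeF (checkPointF cert) (nat_lit 217325) (nat_lit 25) = true := by decide +kernel
theorem chkP_217350 : allRangeF (checkPointF cert) (nat_lit 217350) (nat_lit 25) = true := by decide +kernel
theorem chkP_217375 : allRangeF (checkPointF cert) (nat_lit 217375) (nat_lit 25) = true := by decide +kernel
theorem chkP_217400 : allRangeF (checkPointF cert) (nat_lit 217400) (nat_lit 25) = true := by decide +kernel
theorem chkP_217425 : allRangeF (checkPointF cert) (nat_lit 217425) (nat_lit 25) = true := by decide +kernel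
theorem chkP_217450 : allRangeF (checkPointF cert) (nat_lit 217450) (nat_lit 25) = true := by decide +kernel
theorem chkP_217475 : allRangeF (checkPointF cert) (nat_lit 217475) (nat_lit 25) = true := by decide +kernel
theorem chkP_217500 : allRangeF (checkPointF cert) (nat_lit 217500) (nat_lit 25) = true := by decide +kernel
theorem chkP_217525 : allRangeF (checkPointF cert) (nat_lit 217525) (nat_lit 25) = true := by decide +kernel
theorem chkP_217550 : allRangeF (checkPointF cert) (nat_lit 217550) (nat_lit 25) = true := by decide +kernel
theorem chkP_217575 : allRangeF (checkPointF cert) (nat_lit 217575) (nat_lit 25) = true := by decide +kernel
theorem chkP_217600 : allRangeF (checkPointF cert) (nat_lit 217600) (nat_lit 25) = true := by decide +kernel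
theorem chkP_217625 : allRangeF (checkPointF cert) (nat_lit 217625) (nat_lit 25) = true := by decide +kernel
theorem chkP_217650 : allRangeF (checkPointF cert) (nat_lit 217650) (nat_lit 25) = true := by decide +kernel
theorem chkP_217675 : allRangeF (checkPointF cert) (nat_lit 217675) (nat_lit 25) = true := by decide +kernel
theorem chkP_217700 : allRangeF (checkPointF cert) (nat_lit 217700) (nat_lit 25) = true := by decide +kernel
theorem chkP_217725 : allRangeF (checkPointF cert) (nat_lit 217725) (nat_lit 25) = true := by decide +kernel
theorem chkP_217750 : allRangeF (checkPointF cert) (nat_lit 217750) (nat_lit 25) = true := by decide +kernel
theorem chkP_217775 : allRangeF (checkPointF cert) (nat_lit 217775) (nat_lit 25) = true := by decide +kernel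
theorem chkP_217800 : allRangeF (checkPointF cert) (nat_lit 217800) (nat_lit 25) = true := by decide +kernel
theorem chkP_217825 : allRangeF (checkPointF cert) (nat_lit 217825) (nat_lit 25) = true := by decide +kernel
theorem chkP_217850 : allRangeF (checkPointF cert) (nat_lit 217850) (nat_lit 25) = true := by decide +kernel
theorem chkP_217875 : allRangeF (checkPointF cert) (nat_lit 217875) (nat_lit 25) = true := by decide +kernel
theorem chkP_217900 : allRangeF (checkPointF cert) (nat_lit 217900) (nat_lit 25) = true := by decide +kernel
theorem chkP_217925 : allRangeF (checkPointF cert) (nat_lit 217925) (nat_lit 25) = true := by decide +kernel
theorem chkP_217950 : allRangeF (checkPointF cert) (nat_lit 217950) (nat_lit 25) = true := by decide +kernel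
theorem chkP_217975 : allRangeF (checkPointF cert) (nat_lit 217975) (nat_lit 25) = true := by decide +kernel
theorem chkP_218000 : allRangeF (checkPointF cert) (nat_lit 218000) (nat_lit 25) = true := by decide +kernel
theorem chkP_218025 : allRangeF (checkPointF cert) (nat_lit 218025) (nat_lit 25) = true := by decide +kernel
theorem chkP_218050 : allRangeF (checkPointF cert) (nat_lit 218050) (nat_lit 25) = true := by decide +kernel
theorem chkP_218075 : allRangeF (checkPointF cert) (nat_lit 218075) (nat_lit 25) = true := by decide +kernel
theorem chkP_218100 : allRangeF (checkPointF cert) (nat_lit 218100) (nat_lit 25) = true := by decide +kernel
theorem chkP_218125 : allRangeF (checkPointF cert) (nat_lit 218125) (nat_lit 25) = true := by decide +kernel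
theorem chkP_218150 : allRangeF (checkPointF cert) (nat_lit 218150) (nat_lit 25) = true := by decide +kernel
theorem chkP_218175 : allRangeF (checkPointF cert) (nat_lit 218175) (nat_lit 25) = true := by decide +kernel
theorem chkP_218200 : allRangeF (checkPointF cert) (nat_lit 218200) (nat_lit 25) = true := by decide +kernel
theorem chkP_218225 : allRangeF (checkPointF cert) (nat_lit 218225) (nat_lit 25) = true := by decide +kernel
theorem chkP_218250 : allRangeF (checkPointF cert) (nat_lit 218250) (nat_lit 25) = true := by decide +kernel
theorem chkP_218275 : allRangeF (checkPointF cert) (nat_lit 218275) (nat_lit 25) = true := by decide +kernel
theorem chkP_218300 : allRangeF (checkPointF cert) (nat_lit 218300) (nat_lit 25) = true := by decide +kernel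
theorem chkP_218325 : allRangeF (checkPointF cert) (nat_lit 218325) (nat_lit 25) = true := by decide +kernel
theorem chkP_218350 : allRangeF (checkPointF cert) (nat_lit 218350) (nat_lit 25) = true := by decide +kernel
theorem chkP_218375 : allRangeF (checkPointF cert) (nat_lit 218375) (nat_lit 25) = true := by decide +kernel
theorem chkP_218400 : allRangeF (checkPointF cert) (nat_lit 218400) (nat_lit 25) = true := by decide +kernel
theorem chkP_218425 : allRangeF (checkPointF cert) (nat_lit 218425) (nat_lit 25) = true := by decide +kernel
theorem chkP_218450 : allRangeF (checkPointF cert) (nat_lit 218450) (nat_lit 25) = true := by decide +kernel
theorem chkP_218475 : allRangeF (checkPointF cert) (nat_lit 218475) (nat_lit 25) = true := by decide +kernel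
theorem chkP_218500 : allRangeF (checkPointF cert) (nat_lit 218500) (nat_lit 25) = true := by decide +kernel
theorem chkP_218525 : allRangeF (checkPointF cert) (nat_lit 218525) (nat_lit 25) = true := by decide +kernel
theorem chkP_218550 : allRangeF (checkPointF cert) (nat_lit 218550) (nat_lit 25) = true := by decide +kernel
theorem chkP_218575 : allRangeF (checkPointF cert) (nat_lit 218575) (nat_lit 25) = true := by decide +kernel
theorem chkP_218600 : allRangeF (checkPointF cert) (nat_lit 218600) (nat_lit 25) = true := by decide +kernel
theorem chkP_218625 : allRangeF (checkPointF cert) (nat_lit 218625) (nat_lit 25) = true := by decide +kernel
theorem chkP_218650 : allRangeF (checkPointF cert) (nat_lit 218650) (nat_lit 25) = true := by decide +kernel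
theorem chkP_218675 : allRangeF (checkPointF cert) (nat_lit 218675) (nat_lit 25) = true := by decide +kernel
theorem chkP_218700 : allRangeF (checkPointF cert) (nat_lit 218700) (nat_lit 25) = true := by decide +kernel
theorem chkP_218725 : allRangeF (checkPointF cert) (nat_lit 218725) (nat_lit 25) = true := by decide +kernel
theorem chkP_218750 : allRangeF (checkPointF cert) (nat_lit 218750) (nat_lit 25) = true := by decide +kernel
theorem chkP_218775 : allRangeF (checkPointF cert) (nat_lit 218775) (nat_lit 25) = true := by decide +kernel
theorem chkP_218800 : allRangeF (checkPointF cert) (nat_lit 218800) (nat_lit 25) = true := by decide +kernel
theorem chkP_218825 : allRangeF (checkPointF cert) (nat_lit 218825) (nat_lit 25) = true := by decide +kernel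
theorem chkP_218850 : allRangeF (checkPointF cert) (nat_lit 218850) (nat_lit 25) = true := by decide +kernel
theorem chkP_218875 : allRangeF (checkPointF cert) (nat_lit 218875) (nat_lit 25) = true := by decide +kernel
theorem chkP_218900 : allRangeF (checkPointF cert) (nat_lit 218900) (nat_lit 25) = true := by decide +kernel
theorem chkP_218925 : allRangeF (checkPointF cert) (nat_lit 218925) (nat_lit 25) = true := by decide +kernel
theorem chkP_218950 : allRangeF (checkPointF cert) (nat_lit 218950) (nat_lit 25) = true := by decide +kernel
theorem chkP_218975 : allRangeF (checkPointF cert) (nat_lit 218975) (nat_lit 25) = true := by decide +kernel
theorem chkP_219000 : allRangeF (checkPointF cert) (nat_lit 219000) (nat_lit 25) = true := by decide +kernel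
theorem chkP_219025 : allRangeF (checkPointF cert) (nat_lit 219025) (nat_lit 25) = true := by decide +kernel
theorem chkP_219050 : allRangeF (checkPointF cert) (nat_lit 219050) (nat_lit 25) = true := by decide +kernel
theorem chkP_219075 : allRangeF (checkPointF cert) (nat_lit 219075) (nat_lit 25) = true := by decide +kernel
theorem chkP_219100 : allRangeF (checkPointF cert) (nat_lit 219100) (nat_lit 25) = true := by decide +kernel
theorem chkP_219125 : allRangeF (checkPointF cert) (nat_lit 219125) (nat_lit 25) = true := by decide +kernel
theorem chkP_219150 : allRangeF (checkPointF cert) (nat_lit 219150) (nat_lit 25) = true := by decide +kernel
theorem chkP_219175 : allRangeF (checkPointF cert) (nat_lit 219175) (nat_lit 25) = true := by decide +kernel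
theorem chkP_219200 : allRangeF (checkPointF cert) (nat_lit 219200) (nat_lit 25) = true := by decide +kernel
theorem chkP_219225 : allRangeF (checkPointF cert) (nat_lit 219225) (nat_lit 25) = true := by decide +kernel
theorem chkP_219250 : allRangeF (checkPointF cert) (nat_lit 219250) (nat_lit 25) = true := by decide +kernel
theorem chkP_219275 : allRangeF (checkPointF cert) (nat_lit 219275) (nat_lit 25) = true := by decide +kernel
theorem chkP_219300 : allRangeF (checkPointF cert) (nat_lit 219300) (nat_lit 25) = true := by decide +kernel
theorem chkP_219325 : allRangeF (checkPointF cert) (nat_lit 219325) (nat_lit 25) = true := by decide +kernel
theorem chkP_219350 : allRangeF (checkPointF cert) (nat_lit 219350) (nat_lit 25) = true := by decide +kernel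
theorem chkP_219375 : allRangeF (checkPointF cert) (nat_lit 219375) (nat_lit 25) = true := by decide +kernel
theorem chkP_219400 : allRangeF (checkPointF cert) (nat_lit 219400) (nat_lit 25) = true := by decide +kernel
theorem chkP_219425 : allRangeF (checkPointF cert) (nat_lit 219425) (nat_lit 25) = true := by decide +kernel
theorem chkP_219450 : allRangeF (checkPointF cert) (nat_lit 219450) (nat_lit 25) = true := by decide +kernel
theorem chkP_219475 : allRangeF (checkPointF cert) (nat_lit 219475) (nat_lit 25) = true := by decide +kernel
theorem chkP_219500 : allRangeF (checkPointF cert) (nat_lit 219500) (nat_lit 25) = true := by decide +kernel
theorem chkP_219525 : allRangeF (checkPointF cert) (nat_lit 219525) (nat_lit 25) = true := by decide +kernel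
theorem chkP_219550 : allRangeF (checkPointF cert) (nat_lit 219550) (nat_lit 25) = true := by decide +kernel
theorem chkP_219575 : allRangeF (checkPointF cert) (nat_lit 219575) (nat_lit 25) = true := by decide +kernel
theorem chkP_219600 : allRangeF (checkPointF cert) (nat_lit 219600) (nat_lit 25) = true := by decide +kernel
theorem chkP_219625 : allRangeF (checkPointF cert) (nat_lit 219625) (nat_lit 25) = true := by decide +kernel
theorem chkP_219650 : allRangeF (checkPointF cert) (nat_lit 219650) (nat_lit 25) = true := by decide +kernel
theorem chkP_219675 : allRangeF (checkPointF cert) (nat_lit 219675) (nat_lit 25) = true := by decide +kernel
theorem chkP_219700 : allRangeF (checkPointF cert) (nat_lit 219700) (nat_lit 25) = true := by decide +kernel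
theorem chkP_219725 : allRangeF (checkPointF cert) (nat_lit 219725) (nat_lit 25) = true := by decide +kernel
theorem chkP_219750 : allRangeF (checkPointF cert) (nat_lit 219750) (nat_lit 25) = true := by decide +kernel
theorem chkP_219775 : allRangeF (checkPointF cert) (nat_lit 219775) (nat_lit 25) = true := by decide +kernel
theorem chkP_219800 : allRangeF (checkPointF cert) (nat_lit 219800) (nat_lit 25) = true := by decide +kernel
theorem chkP_219825 : allRangeF (checkPointF cert) (nat_lit 219825) (nat_lit 25) = true := by decide +kernel
theorem chkP_219850 : allRangeF (checkPointF cert) (nat_lit 219850) (nat_lit 25) = true := by decide +kernel
theorem chkP_219875 : allRangeF (checkPointF cert) (nat_lit 219875) (nat_lit 25) = true := by decide +kernel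
theorem chkP_219900 : allRangeF (checkPointF cert) (nat_lit 219900) (nat_lit 25) = true := by decide +kernel
theorem chkP_219925 : allRangeF (checkPointF cert) (nat_lit 219925) (nat_lit 25) = true := by decide +kernel
theorem chkP_219950 : allRangeF (checkPointF cert) (nat_lit 219950) (nat_lit 25) = true := by decide +kernel
theorem chkP_219975 : allRangeF (checkPointF cert) (nat_lit 219975) (nat_lit 25) = true := by decide +kernel
theorem chkP_220000 : allRangeF (checkPointF cert) (nat_lit 220000) (nat_lit 25) = true := by decide +kernel
theorem chkP_220025 : allRangeF (checkPointF cert) (nat_lit 220025) (nat_lit 25) = true := by decide +kernel
theorem chkP_220050 : allRangeF (checkPointF cert) (nat_lit 220050) (nat_lit 25) = true := by decide +kernel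
theorem chkP_220075 : allRangeF (checkPointF cert) (nat_lit 220075) (nat_lit 25) = true := by decide +kernel
theorem chkP_220100 : allRangeF (checkPointF cert) (nat_lit 220100) (nat_lit 25) = true := by decide +kernel
theorem chkP_220125 : allRangeF (checkPointF cert) (nat_lit 220125) (nat_lit 25) = true := by decide +kernel
theorem chkP_220150 : allRangeF (checkPointF cert) (nat_lit 220150) (nat_lit 25) = true := by decide +kernel
theorem chkP_220175 : allRangeF (checkPointF cert) (nat_lit 220175) (nat_lit 25) = true := by decide +kernel
theorem chkP_220200 : allRangeF (checkPointF cert) (nat_lit 220200) (nat_lit 25) = true := by decide +kernel
theorem chkP_220225 : allRangeF (checkPointF cert) (nat_lit 220225) (nat_lit 25) = true := by decide +kernel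
theorem chkP_220250 : allRangeF (checkPointF cert) (nat_lit 220250) (nat_lit 25) = true := by decide +kernel
theorem chkP_220275 : allRangeF (checkPointF cert) (nat_lit 220275) (nat_lit 25) = true := by decide +kernel
theorem chkP_220300 : allRangeF (checkPointF cert) (nat_lit 220300) (nat_lit 25) = true := by decide +kernel
theorem chkP_220325 : allRangeF (checkPointF cert) (nat_lit 220325) (nat_lit 25) = true := by decide +kernel
theorem chkP_220350 : allRangeF (checkPointF cert) (nat_lit 220350) (nat_lit 25) = true := by decide +kernel
theorem chkP_220375 : allRangeF (checkPointF cert) (nat_lit 220375) (nat_lit 25) = true := by decide +kernel
theorem chkP_220400 : allRangeF (checkPointF cert) (nat_lit 220400) (nat_lit 25) = true := by decide +kernel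
theorem chkP_220425 : allRangeF (checkPointF cert) (nat_lit 220425) (nat_lit 25) = true := by decide +kernel
theorem chkP_220450 : allRangeF (checkPointF cert) (nat_lit 220450) (nat_lit 25) = true := by decide +kernel
theorem chkP_220475 : allRangeF (checkPointF cert) (nat_lit 220475) (nat_lit 25) = true := by decide +kernel
theorem chkP_220500 : allRangeF (checkPointF cert) (nat_lit 220500) (nat_lit 25) = true := by decide +kernel
theorem chkP_220525 : allRangeF (checkPointF cert) (nat_lit 220525) (nat_lit 25) = true := by decide +kernel
theorem chkP_220550 : allRangeF (checkPointF cert) (nat_lit 220550) (nat_lit 25) = true := by decide +kernel
theorem chkP_220575 : allRangeF (checkPointF cert) (nat_lit 220575) (nat_lit 25) = true := by decide +kernel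
theorem chkP_220600 : allRangeF (checkPointF cert) (nat_lit 220600) (nat_lit 25) = true := by decide +kernel
theorem chkP_220625 : allRangeF (checkPointF cert) (nat_lit 220625) (nat_lit 25) = true := by decide +kernel
theorem chkP_220650 : allRangeF (checkPointF cert) (nat_lit 220650) (nat_lit 25) = true := by decide +kernel
theorem chkP_220675 : allRangeF (checkPointF cert) (nat_lit 220675) (nat_lit 25) = true := by decide +kernel
theorem chkP_220700 : allRangeF (checkPointF cert) (nat_lit 220700) (nat_lit 25) = true := by decide +kernel
theorem chkP_220725 : allRangeF (checkPointF cert) (nat_lit 220725) (nat_lit 25) = true := by decide +kernel
theorem chkP_220750 : allRangeF (checkPointF cert) (nat_lit 220750) (nat_lit 25) = true := by decide +kernel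
theorem chkP_220775 : allRangeF (checkPointF cert) (nat_lit 220775) (nat_lit 25) = true := by decide +kernel
theorem chkP_220800 : allRangeF (checkPointF cert) (nat_lit 220800) (nat_lit 25) = true := by decide +kernel
theorem chkP_220825 : allRangeF (checkPointF cert) (nat_lit 220825) (nat_lit 25) = true := by decide +kernel
theorem chkP_220850 : allRangeF (checkPointF cert) (nat_lit 220850) (nat_lit 25) = true := by decide +kernel
theorem chkP_220875 : allRangeF (checkPointF cert) (nat_lit 220875) (nat_lit 25) = true := by decide +kernel
theorem chkP_220900 : allRangeF (checkPointF cert) (nat_lit 220900) (nat_lit 25) = true := by decide +kernel
theorem chkP_220925 : allRangeF (checkPointF cert) (nat_lit 220925) (nat_lit 25) = true := by decide +kernel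
theorem chkP_220950 : allRangeF (checkPointF cert) (nat_lit 220950) (nat_lit 25) = true := by decide +kernel
theorem chkP_220975 : allRangeF (checkPointF cert) (nat_lit 220975) (nat_lit 25) = true := by decide +kernel
theorem chkP_221000 : allRangeF (checkPointF cert) (nat_lit 221000) (nat_lit 25) = true := by decide +kernel
theorem chkP_221025 : allRangeF (checkPointF cert) (nat_lit 221025) (nat_lit 25) = true := by decide +kernel
theorem chkP_221050 : allRangeF (checkPointF cert) (nat_lit 221050) (nat_lit 25) = true := by decide +kernel
theorem chkP_221075 : allRangeF (checkPointF cert) (nat_lit 221075) (nat_lit 25) = true := by decide +kernel
theorem chkP_221100 : allRangeF (checkPointF cert) (nat_lit 221100) (nat_lit 25) = true := by decide +kernel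
theorem chkP_221125 : allRangeF (checkPointF cert) (nat_lit 221125) (nat_lit 25) = true := by decide +kernel
theorem chkP_221150 : allRangeF (checkPointF cert) (nat_lit 221150) (nat_lit 25) = true := by decide +kernel
theorem chkP_221175 : allRangeF (checkPointF cert) (nat_lit 221175) (nat_lit 25) = true := by decide +kernel
theorem chkP_221200 : allRangeF (checkPointF cert) (nat_lit 221200) (nat_lit 25) = true := by decide +kernel
theorem chkP_221225 : allRangeF (checkPointF cert) (nat_lit 221225) (nat_lit 25) = true := by decide +kernel
theorem chkP_221250 : allRangeF (checkPointF cert) (nat_lit 221250) (nat_lit 25) = true := by decide +kernel
theorem chkP_221275 : allRangeF (checkPointF cert) (nat_lit 221275) (nat_lit 25) = true := by decide +kernel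
theorem chkP_221300 : allRangeF (checkPointF cert) (nat_lit 221300) (nat_lit 25) = true := by decide +kernel
theorem chkP_221325 : allRangeF (checkPointF cert) (nat_lit 221325) (nat_lit 25) = true := by decide +kernel
theorem chkP_221350 : allRangeF (checkPointF cert) (nat_lit 221350) (nat_lit 25) = true := by decide +kernel
theorem chkP_221375 : allRangeF (checkPointF cert) (nat_lit 221375) (nat_lit 25) = true := by decide +kernel
theorem chkP_221400 : allRangeF (checkPointF cert) (nat_lit 221400) (nat_lit 25) = true := by decide +kernel
theorem chkP_221425 : allRangeF (checkPointF cert) (nat_lit 221425) (nat_lit 25) = true := by decide +kernel
theorem chkP_221450 : allRangeF (checkPointF cert) (nat_lit 221450) (nat_lit 25) = true := by decide +kernel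
theorem chkP_221475 : allRangeF (checkPointF cert) (nat_lit 221475) (nat_lit 25) = true := by decide +kernel
theorem chkP_221500 : allRangeF (checkPointF cert) (nat_lit 221500) (nat_lit 25) = true := by decide +kernel
theorem chkP_221525 : allRangeF (checkPointF cert) (nat_lit 221525) (nat_lit 25) = true := by decide +kernel
theorem chkP_221550 : allRangeF (checkPointF cert) (nat_lit 221550) (nat_lit 25) = true := by decide +kernel
theorem chkP_221575 : allRangeF (checkPointF cert) (nat_lit 221575) (nat_lit 25) = true := by decide +kernel
theorem chkP_221600 : allRangeF (checkPointF cert) (nat_lit 221600) (nat_lit 25) = true := by decide +kernel
theorem chkP_221625 : allRangeF (checkPointF cert) (nat_lit 221625) (nat_lit 25) = true := by decide +kernel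
theorem chkP_221650 : allRangeF (checkPointF cert) (nat_lit 221650) (nat_lit 25) = true := by decide +kernel
theorem chkP_221675 : allRangeF (checkPointF cert) (nat_lit 221675) (nat_lit 25) = true := by decide +kernel
theorem chkP_221700 : allRangeF (checkPointF cert) (nat_lit 221700) (nat_lit 25) = true := by decide +kernel
theorem chkP_221725 : allRangeF (checkPointF cert) (nat_lit 221725) (nat_lit 25) = true := by decide +kernel
theorem chkP_221750 : allRangeF (checkPointF cert) (nat_lit 221750) (nat_lit 25) = true := by decide +kernel
theorem chkP_221775 : allRangeF (checkPointF cert) (nat_lit 221775) (nat_lit 25) = true := by decide +kernel
theorem chkP_221800 : allRangeF (checkPointF cert) (nat_lit 221800) (nat_lit 25) = true := by decide +kernel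
theorem chkP_221825 : allRangeF (checkPointF cert) (nat_lit 221825) (nat_lit 25) = true := by decide +kernel
theorem chkP_221850 : allRangeF (checkPointF cert) (nat_lit 221850) (nat_lit 25) = true := by decide +kernel
theorem chkP_221875 : allRangeF (checkPointF cert) (nat_lit 221875) (nat_lit 25) = true := by decide +kernel
theorem chkP_221900 : allRangeF (checkPointF cert) (nat_lit 221900) (nat_lit 25) = true := by decide +kernel
theorem chkP_221925 : allRangeF (checkPointF cert) (nat_lit 221925) (nat_lit 25) = true := by decide +kernel
theorem chkP_221950 : allRangeF (checkPointF cert) (nat_lit 221950) (nat_lit 25) = true := by decide +kernel
theorem chkP_221975 : allRangeF (checkPointF cert) (nat_lit 221975) (nat_lit 25) = true := by decide +kernel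
theorem chkP_222000 : allRangeF (checkPointF cert) (nat_lit 222000) (nat_lit 25) = true := by decide +kernel
theorem chkP_222025 : allRangeF (checkPointF cert) (nat_lit 222025) (nat_lit 25) = true := by decide +kernel
theorem chkP_222050 : allRangeF (checkPointF cert) (nat_lit 222050) (nat_lit 25) = true := by decide +kernel
theorem chkP_222075 : allRangeF (checkPointF cert) (nat_lit 222075) (nat_lit 25) = true := by decide +kernel
theorem chkP_222100 : allRangeF (checkPointF cert) (nat_lit 222100) (nat_lit 25) = true := by decide +kernel
theorem chkP_222125 : allRangeF (checkPointF cert) (nat_lit 222125) (nat_lit 25) = true := by decide +kernel
theorem chkP_222150 : allRangeF (checkPointF cert) (nat_lit 222150) (nat_lit 25) = true := by decide +kernel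
theorem chkP_222175 : allRangeF (checkPointF cert) (nat_lit 222175) (nat_lit 25) = true := by decide +kernel
theorem chkP_222200 : allRangeF (checkPointF cert) (nat_lit 222200) (nat_lit 25) = true := by decide +kernel
theorem chkP_222225 : allRangeF (checkPointF cert) (nat_lit 222225) (nat_lit 25) = true := by decide +kernel
theorem chkP_222250 : allRangeF (checkPointF cert) (nat_lit 222250) (nat_lit 25) = true := by decide +kernel
theorem chkP_222275 : allRangeF (checkPointF cert) (nat_lit 222275) (nat_lit 25) = true := by decide +kernel
theorem chkP_222300 : allRangeF (checkPointF cert) (nat_lit 222300) (nat_lit 25) = true := by decide +kernel
theorem chkP_222325 : allRangeF (checkPointF cert) (nat_lit 222325) (nat_lit 25) = true := by decide +kernel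
theorem chkP_222350 : allRangeF (checkPointF cert) (nat_lit 222350) (nat_lit 25) = true := by decide +kernel
theorem chkP_222375 : allRangeF (checkPointF cert) (nat_lit 222375) (nat_lit 25) = true := by decide +kernel
theorem chkP_222400 : allRangeF (checkPointF cert) (nat_lit 222400) (nat_lit 25) = true := by decide +kernel
theorem chkP_222425 : allRangeF (checkPointF cert) (nat_lit 222425) (nat_lit 25) = true := by decide +kernel
theorem chkP_222450 : allRangeF (checkPointF cert) (nat_lit 222450) (nat_lit 25) = true := by decide +kernel
theorem chkP_222475 : allRangeF (checkPointF cert) (nat_lit 222475) (nat_lit 25) = true := by decide +kernel
theorem chkP_222500 : allRangeF (checkPointF cert) (nat_lit 222500) (nat_lit 25) = true := by decide +kernel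
theorem chkP_222525 : allRangeF (checkPointF cert) (nat_lit 222525) (nat_lit 25) = true := by decide +kernel
theorem chkP_222550 : allRangeF (checkPointF cert) (nat_lit 222550) (nat_lit 25) = true := by decide +kernel

theorem ptsRange_28 : ∀ i, 214900 ≤ i → i < 222575 → checkPoint cert i = true := by
  intro i hlo hhi
  rcases Nat.lt_or_ge i 218725 with h1 | h1
  · skip
    rcases Nat.lt_or_ge i 216800 with h2 | h2
    · skip
      rcases Nat.lt_or_ge i 215850 with h3 | h3
      · skip
        rcases Nat.lt_or_ge i 215375 with h4 | h4
        · skip
          rcases Nat.lt_or_ge i 215125 with h5 | h5
          · skip
            rcases Nat.lt_or_ge i 215000 with h6 | h6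
            · skip
              rcases Nat.lt_or_ge i 214950 with h7 | h7
              · skip
                rcases Nat.lt_or_ge i 214925 with h8 | h8
                · skip
                  exact allRangeF_sound _ _ (checkPointF_eq cert) 214900 25 chkP_214900 i (by omega) (by omega)
                · skip
                  exact allRangeF_sound _ _ (checkPointF_eq cert) 214925 25 chkP_214925 i (by omega) (by omega)
              · skip
                rcases Nat.lt_or_ge i 214975 with h8 | h8
                · skip
                  exact allRangeF_sound _ _ (checkPointF_eq cert) 214950 25 chkP_214950 i (by omega) (by omega)
                · skip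
                  exact allRangeF_sound _ _ (checkPointF_eq cert) 214975 25 chkP_214975 i (by omega) (by omega)
            · skip
              rcases Nat.lt_or_ge i 215050 with h7 | h7
              · skip
                rcases Nat.lt_or_ge i 215025 with h8 | h8
                · skip
                  exact allRangeF_sound _ _ (checkPointF_eq cert) 215000 25 chkP_215000 i (by omega) (by omega)
                · skip
                  exact allRangeF_sound _ _ (checkPointF_eq cert) 215025 25 chkP_215025 i (by omega) (by omega)
              · skip
                rcases Nat.lt_or_ge i 215075 with h8 | h8
                · skip
                  exact allRangeF_sound _ _ (checkPointF_eq cert) 215050 25 chkP_215050 i (by omega) (by omega)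
                · skip
                  rcases Nat.lt_or_ge i 215100 with h9 | h9
                  · skip
                    exact allRangeF_sound _ _ (checkPointF_eq cert) 215075 25 chkP_215075 i (by omega) (by omega)
                  · skip
                    exact allRangeF_sound _ _ (checkPointF_eq cert) 215100 25 chkP_215100 i (by omega) (by omega)
          · skip
            rcases Nat.lt_or_ge i 215250 with h6 | h6
            · skip
              rcases Nat.lt_or_ge i 215175 with h7 | h7
              · skip
                rcases Nat.lt_or_ge i 215150 with h8 | h8
                · skip
                  exact allRangeF_sound _ _ (checkPointF_eq cert) 215125 25 chkP_215125 i (by omega) (by omega)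
                · skip
                  exact allRangeF_sound _ _ (checkPointF_eq cert) 215150 25 chkP_215150 i (by omega) (by omega)
              · skip
                rcases Nat.lt_or_ge i 215200 with h8 | h8
                · skip
                  exact allRangeF_sound _ _ (checkPointF_eq cert) 215175 25 chkP_215175 i (by omega) (by omega)
                · skip
                  rcases Nat.lt_or_ge i 215225 with h9 | h9
                  · skip
                    exact allRangeF_sound _ _ (checkPointF_eq cert) 215200 25 chkP_215200 i (by omega) (by omega)
                  · skip
                    exact allRangeF_sound _ _ (checkPointF_eq cert) 215225 25 chkP_215225 i (by omega) (by omega)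
            · skip
              rcases Nat.lt_or_ge i 215300 with h7 | h7
              · skip
                rcases Nat.lt_or_ge i 215275 with h8 | h8
                · skip
                  exact allRangeF_sound _ _ (checkPointF_eq cert) 215250 25 chkP_215250 i (by omega) (by omega)
                · skip
                  exact allRangeF_sound _ _ (checkPointF_eq cert) 215275 25 chkP_215275 i (by omega) (by omega)
              · skip
                rcases Nat.lt_or_ge i 215325 with h8 | h8
                · skip
                  exact allRangeF_sound _ _ (checkPointF_eq cert) 215300 25 chkP_215300 i (by omega) (by omega)
                · skip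
                  rcases Nat.lt_or_ge i 215350 with h9 | h9
                  · skip
                    exact allRangeF_sound _ _ (checkPointF_eq cert) 215325 25 chkP_215325 i (by omega) (by omega)
                  · skip
                    exact allRangeF_sound _ _ (checkPointF_eq cert) 215350 25 chkP_215350 i (by omega) (by omega)
        · skip
          rcases Nat.lt_or_ge i 215600 with h5 | h5
          · skip
            rcases Nat.lt_or_ge i 215475 with h6 | h6
            · skip
              rcases Nat.lt_or_ge i 215425 with h7 | h7
              · skip
                rcases Nat.lt_or_ge i 215400 with h8 | h8
                · skip
                  exact allRangeF_sound _ _ (checkPointF_eq cert) 215375 25 chkP_215375 i (by omega) (by omega)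
                · skip
                  exact allRangeF_sound _ _ (checkPointF_eq cert) 215400 25 chkP_215400 i (by omega) (by omega)
              · skip
                rcases Nat.lt_or_ge i 215450 with h8 | h8
                · skip
                  exact allRangeF_sound _ _ (checkPointF_eq cert) 215425 25 chkP_215425 i (by omega) (by omega)
                · skip
                  exact allRangeF_sound _ _ (checkPointF_eq cert) 215450 25 chkP_215450 i (by omega) (by omega)
            · skip
              rcases Nat.lt_or_ge i 215525 with h7 | h7
              · skip
                rcases Nat.lt_or_ge i 215500 with h8 | h8
                · skip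
                  exact allRangeF_sound _ _ (checkPointF_eq cert) 215475 25 chkP_215475 i (by omega) (by omega)
                · skip
                  exact allRangeF_sound _ _ (checkPointF_eq cert) 215500 25 chkP_215500 i (by omega) (by omega)
              · skip
                rcases Nat.lt_or_ge i 215550 with h8 | h8
                · skip
                  exact allRangeF_sound _ _ (checkPointF_eq cert) 215525 25 chkP_215525 i (by omega) (by omega)
                · skip
                  rcases Nat.lt_or_ge i 215575 with h9 | h9
                  · skip
                    exact allRangeF_sound _ _ (checkPointF_eq cert) 215550 25 chkP_215550 i (by omega) (by omega)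
                  · skip
                    exact allRangeF_sound _ _ (checkPointF_eq cert) 215575 25 chkP_215575 i (by omega) (by omega)
          · skip
            rcases Nat.lt_or_ge i 215725 with h6 | h6
            · skip
              rcases Nat.lt_or_ge i 215650 with h7 | h7
              · skip
                rcases Nat.lt_or_ge i 215625 with h8 | h8
                · skip
                  exact allRangeF_sound _ _ (checkPointF_eq cert) 215600 25 chkP_215600 i (by omega) (by omega)
                · skip
                  exact allRangeF_sound _ _ (checkPointF_eq cert) 215625 25 chkP_215625 i (by omega) (by omega)
              · skip
                rcases Nat.lt_or_ge i 215675 with h8 | h8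
                · skip
                  exact allRangeF_sound _ _ (checkPointF_eq cert) 215650 25 chkP_215650 i (by omega) (by omega)
                · skip
                  rcases Nat.lt_or_ge i 215700 with h9 | h9
                  · skip
                    exact allRangeF_sound _ _ (checkPointF_eq cert) 215675 25 chkP_215675 i (by omega) (by omega)
                  · skip
                    exact allRangeF_sound _ _ (checkPointF_eq cert) 215700 25 chkP_215700 i (by omega) (by omega)
            · skip
              rcases Nat.lt_or_ge i 215775 with h7 | h7
              · skip
                rcases Nat.lt_or_ge i 215750 with h8 | h8
                · skip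
                  exact allRangeF_sound _ _ (checkPointF_eq cert) 215725 25 chkP_215725 i (by omega) (by omega)
                · skip
                  exact allRangeF_sound _ _ (checkPointF_eq cert) 215750 25 chkP_215750 i (by omega) (by omega)
              · skip
                rcases Nat.lt_or_ge i 215800 with h8 | h8
                · skip
                  exact allRangeF_sound _ _ (checkPointF_eq cert) 215775 25 chkP_215775 i (by omega) (by omega)
                · skip
                  rcases Nat.lt_or_ge i 215825 with h9 | h9
                  · skip
                    exact allRangeF_sound _ _ (checkPointF_eq cert) 215800 25 chkP_215800 i (by omega) (by omega)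
                  · skip
                    exact allRangeF_sound _ _ (checkPointF_eq cert) 215825 25 chkP_215825 i (by omega) (by omega)
      · skip
        rcases Nat.lt_or_ge i 216325 with h4 | h4
        · skip
          rcases Nat.lt_or_ge i 216075 with h5 | h5
          · skip
            rcases Nat.lt_or_ge i 215950 with h6 | h6
            · skip
              rcases Nat.lt_or_ge i 215900 with h7 | h7
              · skip
                rcases Nat.lt_or_ge i 215875 with h8 | h8
                · skip
                  exact allRangeF_sound _ _ (checkPointF_eq cert) 215850 25 chkP_215850 i (by omega) (by omega)
                · skip
                  exact allRangeF_sound _ _ (checkPointF_eq cert) 215875 25 chkP_215875 i (by omega) (by omega)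
              · skip
                rcases Nat.lt_or_ge i 215925 with h8 | h8
                · skip
                  exact allRangeF_sound _ _ (checkPointF_eq cert) 215900 25 chkP_215900 i (by omega) (by omega)
                · skip
                  exact allRangeF_sound _ _ (checkPointF_eq cert) 215925 25 chkP_215925 i (by omega) (by omega)
            · skip
              rcases Nat.lt_or_ge i 216000 with h7 | h7
              · skip
                rcases Nat.lt_or_ge i 215975 with h8 | h8
                · skip
                  exact allRangeF_sound _ _ (checkPointF_eq cert) 215950 25 chkP_215950 i (by omega) (by omega)
                · skip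
                  exact allRangeF_sound _ _ (checkPointF_eq cert) 215975 25 chkP_215975 i (by omega) (by omega)
              · skip
                rcases Nat.lt_or_ge i 216025 with h8 | h8
                · skip
                  exact allRangeF_sound _ _ (checkPointF_eq cert) 216000 25 chkP_216000 i (by omega) (by omega)
                · skip
                  rcases Nat.lt_or_ge i 216050 with h9 | h9
                  · skip
                    exact allRangeF_sound _ _ (checkPointF_eq cert) 216025 25 chkP_216025 i (by omega) (by omega)
                  · skip
                    exact allRangeF_sound _ _ (checkPointF_eq cert) 216050 25 chkP_216050 i (by omega) (by omega)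
          · skip
            rcases Nat.lt_or_ge i 216200 with h6 | h6
            · skip
              rcases Nat.lt_or_ge i 216125 with h7 | h7
              · skip
                rcases Nat.lt_or_ge i 216100 with h8 | h8
                · skip
                  exact allRangeF_sound _ _ (checkPointF_eq cert) 216075 25 chkP_216075 i (by omega) (by omega)
                · skip
                  exact allRangeF_sound _ _ (checkPointF_eq cert) 216100 25 chkP_216100 i (by omega) (by omega)
              · skip
                rcases Nat.lt_or_ge i 216150 with h8 | h8
                · skip
                  exact allRangeF_sound _ _ (checkPointF_eq cert) 216125 25 chkP_216125 i (by omega) (by omega)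
                · skip
                  rcases Nat.lt_or_ge i 216175 with h9 | h9
                  · skip
                    exact allRangeF_sound _ _ (checkPointF_eq cert) 216150 25 chkP_216150 i (by omega) (by omega)
                  · skip
                    exact allRangeF_sound _ _ (checkPointF_eq cert) 216175 25 chkP_216175 i (by omega) (by omega)
            · skip
              rcases Nat.lt_or_ge i 216250 with h7 | h7
              · skip
                rcases Nat.lt_or_ge i 216225 with h8 | h8
                · skip
                  exact allRangeF_sound _ _ (checkPointF_eq cert) 216200 25 chkP_216200 i (by omega) (by omega)
                · skip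
                  exact allRangeF_sound _ _ (checkPointF_eq cert) 216225 25 chkP_216225 i (by omega) (by omega)
              · skip
                rcases Nat.lt_or_ge i 216275 with h8 | h8
                · skip
                  exact allRangeF_sound _ _ (checkPointF_eq cert) 216250 25 chkP_216250 i (by omega) (by omega)
                · skip
                  rcases Nat.lt_or_ge i 216300 with h9 | h9
                  · skip
                    exact allRangeF_sound _ _ (checkPointF_eq cert) 216275 25 chkP_216275 i (by omega) (by omega)
                  · skip
                    exact allRangeF_sound _ _ (checkPointF_eq cert) 216300 25 chkP_216300 i (by omega) (by omega)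
        · skip
          rcases Nat.lt_or_ge i 216550 with h5 | h5
          · skip
            rcases Nat.lt_or_ge i 216425 with h6 | h6
            · skip
              rcases Nat.lt_or_ge i 216375 with h7 | h7
              · skip
                rcases Nat.lt_or_ge i 216350 with h8 | h8
                · skip
                  exact allRangeF_sound _ _ (checkPointF_eq cert) 216325 25 chkP_216325 i (by omega) (by omega)
                · skip
                  exact allRangeF_sound _ _ (checkPointF_eq cert) 216350 25 chkP_216350 i (by omega) (by omega)
              · skip
                rcases Nat.lt_or_ge i 216400 with h8 | h8
                · skip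
                  exact allRangeF_sound _ _ (checkPointF_eq cert) 216375 25 chkP_216375 i (by omega) (by omega)
                · skip
                  exact allRangeF_sound _ _ (checkPointF_eq cert) 216400 25 chkP_216400 i (by omega) (by omega)
            · skip
              rcases Nat.lt_or_ge i 216475 with h7 | h7
              · skip
                rcases Nat.lt_or_ge i 216450 with h8 | h8
                · skip
                  exact allRangeF_sound _ _ (checkPointF_eq cert) 216425 25 chkP_216425 i (by omega) (by omega)
                · skip
                  exact allRangeF_sound _ _ (checkPointF_eq cert) 216450 25 chkP_216450 i (by omega) (by omega)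
              · skip
                rcases Nat.lt_or_ge i 216500 with h8 | h8
                · skip
                  exact allRangeF_sound _ _ (checkPointF_eq cert) 216475 25 chkP_216475 i (by omega) (by omega)
                · skip
                  rcases Nat.lt_or_ge i 216525 with h9 | h9
                  · skip
                    exact allRangeF_sound _ _ (checkPointF_eq cert) 216500 25 chkP_216500 i (by omega) (by omega)
                  · skip
                    exact allRangeF_sound _ _ (checkPointF_eq cert) 216525 25 chkP_216525 i (by omega) (by omega)
          · skip
            rcases Nat.lt_or_ge i 216675 with h6 | h6
            · skip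
              rcases Nat.lt_or_ge i 216600 with h7 | h7
              · skip
                rcases Nat.lt_or_ge i 216575 with h8 | h8
                · skip
                  exact allRangeF_sound _ _ (checkPointF_eq cert) 216550 25 chkP_216550 i (by omega) (by omega)
                · skip
                  exact allRangeF_sound _ _ (checkPointF_eq cert) 216575 25 chkP_216575 i (by omega) (by omega)
              · skip
                rcases Nat.lt_or_ge i 216625 with h8 | h8
                · skip
                  exact allRangeF_sound _ _ (checkPointF_eq cert) 216600 25 chkP_216600 i (by omega) (by omega)
                · skip
                  rcases Nat.lt_or_ge i 216650 with h9 | h9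
                  · skip
                    exact allRangeF_sound _ _ (checkPointF_eq cert) 216625 25 chkP_216625 i (by omega) (by omega)
                  · skip
                    exact allRangeF_sound _ _ (checkPointF_eq cert) 216650 25 chkP_216650 i (by omega) (by omega)
            · skip
              rcases Nat.lt_or_ge i 216725 with h7 | h7
              · skip
                rcases Nat.lt_or_ge i 216700 with h8 | h8
                · skip
                  exact allRangeF_sound _ _ (checkPointF_eq cert) 216675 25 chkP_216675 i (by omega) (by omega)
                · skip
                  exact allRangeF_sound _ _ (checkPointF_eq cert) 216700 25 chkP_216700 i (by omega) (by omega)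
              · skip
                rcases Nat.lt_or_ge i 216750 with h8 | h8
                · skip
                  exact allRangeF_sound _ _ (checkPointF_eq cert) 216725 25 chkP_216725 i (by omega) (by omega)
                · skip
                  rcases Nat.lt_or_ge i 216775 with h9 | h9
                  · skip
                    exact allRangeF_sound _ _ (checkPointF_eq cert) 216750 25 chkP_216750 i (by omega) (by omega)
                  · skip
                    exact allRangeF_sound _ _ (checkPointF_eq cert) 216775 25 chkP_216775 i (by omega) (by omega)
    · skip
      rcases Nat.lt_or_ge i 217750 with h3 | h3
      · skip
        rcases Nat.lt_or_ge i 217275 with h4 | h4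
        · skip
          rcases Nat.lt_or_ge i 217025 with h5 | h5
          · skip
            rcases Nat.lt_or_ge i 216900 with h6 | h6
            · skip
              rcases Nat.lt_or_ge i 216850 with h7 | h7
              · skip
                rcases Nat.lt_or_ge i 216825 with h8 | h8
                · skip
                  exact allRangeF_sound _ _ (checkPointF_eq cert) 216800 25 chkP_216800 i (by omega) (by omega)
                · skip
                  exact allRangeF_sound _ _ (checkPointF_eq cert) 216825 25 chkP_216825 i (by omega) (by omega)
              · skip
                rcases Nat.lt_or_ge i 216875 with h8 | h8
                · skip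
                  exact allRangeF_sound _ _ (checkPointF_eq cert) 216850 25 chkP_216850 i (by omega) (by omega)
                · skip
                  exact allRangeF_sound _ _ (checkPointF_eq cert) 216875 25 chkP_216875 i (by omega) (by omega)
            · skip
              rcases Nat.lt_or_ge i 216950 with h7 | h7
              · skip
                rcases Nat.lt_or_ge i 216925 with h8 | h8
                · skip
                  exact allRangeF_sound _ _ (checkPointF_eq cert) 216900 25 chkP_216900 i (by omega) (by omega)
                · skip
                  exact allRangeF_sound _ _ (checkPointF_eq cert) 216925 25 chkP_216925 i (by omega) (by omega)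
              · skip
                rcases Nat.lt_or_ge i 216975 with h8 | h8
                · skip
                  exact allRangeF_sound _ _ (checkPointF_eq cert) 216950 25 chkP_216950 i (by omega) (by omega)
                · skip
                  rcases Nat.lt_or_ge i 217000 with h9 | h9
                  · skip
                    exact allRangeF_sound _ _ (checkPointF_eq cert) 216975 25 chkP_216975 i (by omega) (by omega)
                  · skip
                    exact allRangeF_sound _ _ (checkPointF_eq cert) 217000 25 chkP_217000 i (by omega) (by omega)
          · skip
            rcases Nat.lt_or_ge i 217150 with h6 | h6
            · skip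
              rcases Nat.lt_or_ge i 217075 with h7 | h7
              · skip
                rcases Nat.lt_or_ge i 217050 with h8 | h8
                · skip
                  exact allRangeF_sound _ _ (checkPointF_eq cert) 217025 25 chkP_217025 i (by omega) (by omega)
                · skip
                  exact allRangeF_sound _ _ (checkPointF_eq cert) 217050 25 chkP_217050 i (by omega) (by omega)
              · skip
                rcases Nat.lt_or_ge i 217100 with h8 | h8
                · skip
                  exact allRangeF_sound _ _ (checkPointF_eq cert) 217075 25 chkP_217075 i (by omega) (by omega)
                · skip
                  rcases Nat.lt_or_ge i 217125 with h9 | h9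
                  · skip
                    exact allRangeF_sound _ _ (checkPointF_eq cert) 217100 25 chkP_217100 i (by omega) (by omega)
                  · skip
                    exact allRangeF_sound _ _ (checkPointF_eq cert) 217125 25 chkP_217125 i (by omega) (by omega)
            · skip
              rcases Nat.lt_or_ge i 217200 with h7 | h7
              · skip
                rcases Nat.lt_or_ge i 217175 with h8 | h8
                · skip
                  exact allRangeF_sound _ _ (checkPointF_eq cert) 217150 25 chkP_217150 i (by omega) (by omega)
                · skip
                  exact allRangeF_sound _ _ (checkPointF_eq cert) 217175 25 chkP_217175 i (by omega) (by omega)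
              · skip
                rcases Nat.lt_or_ge i 217225 with h8 | h8
                · skip
                  exact allRangeF_sound _ _ (checkPointF_eq cert) 217200 25 chkP_217200 i (by omega) (by omega)
                · skip
                  rcases Nat.lt_or_ge i 217250 with h9 | h9
                  · skip
                    exact allRangeF_sound _ _ (checkPointF_eq cert) 217225 25 chkP_217225 i (by omega) (by omega)
                  · skip
                    exact allRangeF_sound _ _ (checkPointF_eq cert) 217250 25 chkP_217250 i (by omega) (by omega)
        · skip
          rcases Nat.lt_or_ge i 217500 with h5 | h5
          · skip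
            rcases Nat.lt_or_ge i 217375 with h6 | h6
            · skip
              rcases Nat.lt_or_ge i 217325 with h7 | h7
              · skip
                rcases Nat.lt_or_ge i 217300 with h8 | h8
                · skip
                  exact allRangeF_sound _ _ (checkPointF_eq cert) 217275 25 chkP_217275 i (by omega) (by omega)
                · skip
                  exact allRangeF_sound _ _ (checkPointF_eq cert) 217300 25 chkP_217300 i (by omega) (by omega)
              · skip
                rcases Nat.lt_or_ge i 217350 with h8 | h8
                · skip
                  exact allRangeF_sound _ _ (checkPointF_eq cert) 217325 25 chkP_217325 i (by omega) (by omega)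
                · skip
                  exact allRangeF_sound _ _ (checkPointF_eq cert) 217350 25 chkP_217350 i (by omega) (by omega)
            · skip
              rcases Nat.lt_or_ge i 217425 with h7 | h7
              · skip
                rcases Nat.lt_or_ge i 217400 with h8 | h8
                · skip
                  exact allRangeF_sound _ _ (checkPointF_eq cert) 217375 25 chkP_217375 i (by omega) (by omega)
                · skip
                  exact allRangeF_sound _ _ (checkPointF_eq cert) 217400 25 chkP_217400 i (by omega) (by omega)
              · skip
                rcases Nat.lt_or_ge i 217450 with h8 | h8
                · skip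
                  exact allRangeF_sound _ _ (checkPointF_eq cert) 217425 25 chkP_217425 i (by omega) (by omega)
                · skip
                  rcases Nat.lt_or_ge i 217475 with h9 | h9
                  · skip
                    exact allRangeF_sound _ _ (checkPointF_eq cert) 217450 25 chkP_217450 i (by omega) (by omega)
                  · skip
                    exact allRangeF_sound _ _ (checkPointF_eq cert) 217475 25 chkP_217475 i (by omega) (by omega)
          · skip
            rcases Nat.lt_or_ge i 217625 with h6 | h6
            · skip
              rcases Nat.lt_or_ge i 217550 with h7 | h7
              · skip
                rcases Nat.lt_or_ge i 217525 with h8 | h8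
                · skip
                  exact allRangeF_sound _ _ (checkPointF_eq cert) 217500 25 chkP_217500 i (by omega) (by omega)
                · skip
                  exact allRangeF_sound _ _ (checkPointF_eq cert) 217525 25 chkP_217525 i (by omega) (by omega)
              · skip
                rcases Nat.lt_or_ge i 217575 with h8 | h8
                · skip
                  exact allRangeF_sound _ _ (checkPointF_eq cert) 217550 25 chkP_217550 i (by omega) (by omega)
                · skip
                  rcases Nat.lt_or_ge i 217600 with h9 | h9
                  · skip
                    exact allRangeF_sound _ _ (checkPointF_eq cert) 217575 25 chkP_217575 i (by omega) (by omega)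
                  · skip
                    exact allRangeF_sound _ _ (checkPointF_eq cert) 217600 25 chkP_217600 i (by omega) (by omega)
            · skip
              rcases Nat.lt_or_ge i 217675 with h7 | h7
              · skip
                rcases Nat.lt_or_ge i 217650 with h8 | h8
                · skip
                  exact allRangeF_sound _ _ (checkPointF_eq cert) 217625 25 chkP_217625 i (by omega) (by omega)
                · skip
                  exact allRangeF_sound _ _ (checkPointF_eq cert) 217650 25 chkP_217650 i (by omega) (by omega)
              · skip
                rcases Nat.lt_or_ge i 217700 with h8 | h8
                · skip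
                  exact allRangeF_sound _ _ (checkPointF_eq cert) 217675 25 chkP_217675 i (by omega) (by omega)
                · skip
                  rcases Nat.lt_or_ge i 217725 with h9 | h9
                  · skip
                    exact allRangeF_sound _ _ (checkPointF_eq cert) 217700 25 chkP_217700 i (by omega) (by omega)
                  · skip
                    exact allRangeF_sound _ _ (checkPointF_eq cert) 217725 25 chkP_217725 i (by omega) (by omega)
      · skip
        rcases Nat.lt_or_ge i 218225 with h4 | h4
        · skip
          rcases Nat.lt_or_ge i 217975 with h5 | h5
          · skip
            rcases Nat.lt_or_ge i 217850 with h6 | h6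
            · skip
              rcases Nat.lt_or_ge i 217800 with h7 | h7
              · skip
                rcases Nat.lt_or_ge i 217775 with h8 | h8
                · skip
                  exact allRangeF_sound _ _ (checkPointF_eq cert) 217750 25 chkP_217750 i (by omega) (by omega)
                · skip
                  exact allRangeF_sound _ _ (checkPointF_eq cert) 217775 25 chkP_217775 i (by omega) (by omega)
              · skip
                rcases Nat.lt_or_ge i 217825 with h8 | h8
                · skip
                  exact allRangeF_sound _ _ (checkPointF_eq cert) 217800 25 chkP_217800 i (by omega) (by omega)
                · skip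
                  exact allRangeF_sound _ _ (checkPointF_eq cert) 217825 25 chkP_217825 i (by omega) (by omega)
            · skip
              rcases Nat.lt_or_ge i 217900 with h7 | h7
              · skip
                rcases Nat.lt_or_ge i 217875 with h8 | h8
                · skip
                  exact allRangeF_sound _ _ (checkPointF_eq cert) 217850 25 chkP_217850 i (by omega) (by omega)
                · skip
                  exact allRangeF_sound _ _ (checkPointF_eq cert) 217875 25 chkP_217875 i (by omega) (by omega)
              · skip
                rcases Nat.lt_or_ge i 217925 with h8 | h8
                · skip
                  exact allRangeF_sound _ _ (checkPointF_eq cert) 217900 25 chkP_217900 i (by omega) (by omega)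
                · skip
                  rcases Nat.lt_or_ge i 217950 with h9 | h9
                  · skip
                    exact allRangeF_sound _ _ (checkPointF_eq cert) 217925 25 chkP_217925 i (by omega) (by omega)
                  · skip
                    exact allRangeF_sound _ _ (checkPointF_eq cert) 217950 25 chkP_217950 i (by omega) (by omega)
          · skip
            rcases Nat.lt_or_ge i 218100 with h6 | h6
            · skip
              rcases Nat.lt_or_ge i 218025 with h7 | h7
              · skip
                rcases Nat.lt_or_ge i 218000 with h8 | h8
                · skip
                  exact allRangeF_sound _ _ (checkPointF_eq cert) 217975 25 chkP_217975 i (by omega) (by omega)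
                · skip
                  exact allRangeF_sound _ _ (checkPointF_eq cert) 218000 25 chkP_218000 i (by omega) (by omega)
              · skip
                rcases Nat.lt_or_ge i 218050 with h8 | h8
                · skip
                  exact allRangeF_sound _ _ (checkPointF_eq cert) 218025 25 chkP_218025 i (by omega) (by omega)
                · skip
                  rcases Nat.lt_or_ge i 218075 with h9 | h9
                  · skip
                    exact allRangeF_sound _ _ (checkPointF_eq cert) 218050 25 chkP_218050 i (by omega) (by omega)
                  · skip
                    exact allRangeF_sound _ _ (checkPointF_eq cert) 218075 25 chkP_218075 i (by omega) (by omega)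
            · skip
              rcases Nat.lt_or_ge i 218150 with h7 | h7
              · skip
                rcases Nat.lt_or_ge i 218125 with h8 | h8
                · skip
                  exact allRangeF_sound _ _ (checkPointF_eq cert) 218100 25 chkP_218100 i (by omega) (by omega)
                · skip
                  exact allRangeF_sound _ _ (checkPointF_eq cert) 218125 25 chkP_218125 i (by omega) (by omega)
              · skip
                rcases Nat.lt_or_ge i 218175 with h8 | h8
                · skip
                  exact allRangeF_sound _ _ (checkPointF_eq cert) 218150 25 chkP_218150 i (by omega) (by omega)
                · skip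
                  rcases Nat.lt_or_ge i 218200 with h9 | h9
                  · skip
                    exact allRangeF_sound _ _ (checkPointF_eq cert) 218175 25 chkP_218175 i (by omega) (by omega)
                  · skip
                    exact allRangeF_sound _ _ (checkPointF_eq cert) 218200 25 chkP_218200 i (by omega) (by omega)
        · skip
          rcases Nat.lt_or_ge i 218475 with h5 | h5
          · skip
            rcases Nat.lt_or_ge i 218350 with h6 | h6
            · skip
              rcases Nat.lt_or_ge i 218275 with h7 | h7
              · skip
                rcases Nat.lt_or_ge i 218250 with h8 | h8
                · skip
                  exact allRangeF_sound _ _ (checkPointF_eq cert) 218225 25 chkP_218225 i (by omega) (by omega)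
                · skip
                  exact allRangeF_sound _ _ (checkPointF_eq cert) 218250 25 chkP_218250 i (by omega) (by omega)
              · skip
                rcases Nat.lt_or_ge i 218300 with h8 | h8
                · skip
                  exact allRangeF_sound _ _ (checkPointF_eq cert) 218275 25 chkP_218275 i (by omega) (by omega)
                · skip
                  rcases Nat.lt_or_ge i 218325 with h9 | h9
                  · skip
                    exact allRangeF_sound _ _ (checkPointF_eq cert) 218300 25 chkP_218300 i (by omega) (by omega)
                  · skip
                    exact allRangeF_sound _ _ (checkPointF_eq cert) 218325 25 chkP_218325 i (by omega) (by omega)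
            · skip
              rcases Nat.lt_or_ge i 218400 with h7 | h7
              · skip
                rcases Nat.lt_or_ge i 218375 with h8 | h8
                · skip
                  exact allRangeF_sound _ _ (checkPointF_eq cert) 218350 25 chkP_218350 i (by omega) (by omega)
                · skip
                  exact allRangeF_sound _ _ (checkPointF_eq cert) 218375 25 chkP_218375 i (by omega) (by omega)
              · skip
                rcases Nat.lt_or_ge i 218425 with h8 | h8
                · skip
                  exact allRangeF_sound _ _ (checkPointF_eq cert) 218400 25 chkP_218400 i (by omega) (by omega)
                · skip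
                  rcases Nat.lt_or_ge i 218450 with h9 | h9
                  · skip
                    exact allRangeF_sound _ _ (checkPointF_eq cert) 218425 25 chkP_218425 i (by omega) (by omega)
                  · skip
                    exact allRangeF_sound _ _ (checkPointF_eq cert) 218450 25 chkP_218450 i (by omega) (by omega)
          · skip
            rcases Nat.lt_or_ge i 218600 with h6 | h6
            · skip
              rcases Nat.lt_or_ge i 218525 with h7 | h7
              · skip
                rcases Nat.lt_or_ge i 218500 with h8 | h8
                · skip
                  exact allRangeF_sound _ _ (checkPointF_eq cert) 218475 25 chkP_218475 i (by omega) (by omega)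
                · skip
                  exact allRangeF_sound _ _ (checkPointF_eq cert) 218500 25 chkP_218500 i (by omega) (by omega)
              · skip
                rcases Nat.lt_or_ge i 218550 with h8 | h8
                · skip
                  exact allRangeF_sound _ _ (checkPointF_eq cert) 218525 25 chkP_218525 i (by omega) (by omega)
                · skip
                  rcases Nat.lt_or_ge i 218575 with h9 | h9
                  · skip
                    exact allRangeF_sound _ _ (checkPointF_eq cert) 218550 25 chkP_218550 i (by omega) (by omega)
                  · skip
                    exact allRangeF_sound _ _ (checkPointF_eq cert) 218575 25 chkP_218575 i (by omega) (by omega)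
            · skip
              rcases Nat.lt_or_ge i 218650 with h7 | h7
              · skip
                rcases Nat.lt_or_ge i 218625 with h8 | h8
                · skip
                  exact allRangeF_sound _ _ (checkPointF_eq cert) 218600 25 chkP_218600 i (by omega) (by omega)
                · skip
                  exact allRangeF_sound _ _ (checkPointF_eq cert) 218625 25 chkP_218625 i (by omega) (by omega)
              · skip
                rcases Nat.lt_or_ge i 218675 with h8 | h8
                · skip
                  exact allRangeF_sound _ _ (checkPointF_eq cert) 218650 25 chkP_218650 i (by omega) (by omega)
                · skip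
                  rcases Nat.lt_or_ge i 218700 with h9 | h9
                  · skip
                    exact allRangeF_sound _ _ (checkPointF_eq cert) 218675 25 chkP_218675 i (by omega) (by omega)
                  · skip
                    exact allRangeF_sound _ _ (checkPointF_eq cert) 218700 25 chkP_218700 i (by omega) (by omega)
  · skip
    rcases Nat.lt_or_ge i 220650 with h2 | h2
    · skip
      rcases Nat.lt_or_ge i 219675 with h3 | h3
      · skip
        rcases Nat.lt_or_ge i 219200 with h4 | h4
        · skip
          rcases Nat.lt_or_ge i 218950 with h5 | h5
          · skip
            rcases Nat.lt_or_ge i 218825 with h6 | h6
            · skip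
              rcases Nat.lt_or_ge i 218775 with h7 | h7
              · skip
                rcases Nat.lt_or_ge i 218750 with h8 | h8
                · skip
                  exact allRangeF_sound _ _ (checkPointF_eq cert) 218725 25 chkP_218725 i (by omega) (by omega)
                · skip
                  exact allRangeF_sound _ _ (checkPointF_eq cert) 218750 25 chkP_218750 i (by omega) (by omega)
              · skip
                rcases Nat.lt_or_ge i 218800 with h8 | h8
                · skip
                  exact allRangeF_sound _ _ (checkPointF_eq cert) 218775 25 chkP_218775 i (by omega) (by omega)
                · skip
                  exact allRangeF_sound _ _ (checkPointF_eq cert) 218800 25 chkP_218800 i (by omega) (by omega)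
            · skip
              rcases Nat.lt_or_ge i 218875 with h7 | h7
              · skip
                rcases Nat.lt_or_ge i 218850 with h8 | h8
                · skip
                  exact allRangeF_sound _ _ (checkPointF_eq cert) 218825 25 chkP_218825 i (by omega) (by omega)
                · skip
                  exact allRangeF_sound _ _ (checkPointF_eq cert) 218850 25 chkP_218850 i (by omega) (by omega)
              · skip
                rcases Nat.lt_or_ge i 218900 with h8 | h8
                · skip
                  exact allRangeF_sound _ _ (checkPointF_eq cert) 218875 25 chkP_218875 i (by omega) (by omega)
                · skip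
                  rcases Nat.lt_or_ge i 218925 with h9 | h9
                  · skip
                    exact allRangeF_sound _ _ (checkPointF_eq cert) 218900 25 chkP_218900 i (by omega) (by omega)
                  · skip
                    exact allRangeF_sound _ _ (checkPointF_eq cert) 218925 25 chkP_218925 i (by omega) (by omega)
          · skip
            rcases Nat.lt_or_ge i 219075 with h6 | h6
            · skip
              rcases Nat.lt_or_ge i 219000 with h7 | h7
              · skip
                rcases Nat.lt_or_ge i 218975 with h8 | h8
                · skip
                  exact allRangeF_sound _ _ (checkPointF_eq cert) 218950 25 chkP_218950 i (by omega) (by omega)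
                · skip
                  exact allRangeF_sound _ _ (checkPointF_eq cert) 218975 25 chkP_218975 i (by omega) (by omega)
              · skip
                rcases Nat.lt_or_ge i 219025 with h8 | h8
                · skip
                  exact allRangeF_sound _ _ (checkPointF_eq cert) 219000 25 chkP_219000 i (by omega) (by omega)
                · skip
                  rcases Nat.lt_or_ge i 219050 with h9 | h9
                  · skip
                    exact allRangeF_sound _ _ (checkPointF_eq cert) 219025 25 chkP_219025 i (by omega) (by omega)
                  · skip
                    exact allRangeF_sound _ _ (checkPointF_eq cert) 219050 25 chkP_219050 i (by omega) (by omega)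
            · skip
              rcases Nat.lt_or_ge i 219125 with h7 | h7
              · skip
                rcases Nat.lt_or_ge i 219100 with h8 | h8
                · skip
                  exact allRangeF_sound _ _ (checkPointF_eq cert) 219075 25 chkP_219075 i (by omega) (by omega)
                · skip
                  exact allRangeF_sound _ _ (checkPointF_eq cert) 219100 25 chkP_219100 i (by omega) (by omega)
              · skip
                rcases Nat.lt_or_ge i 219150 with h8 | h8
                · skip
                  exact allRangeF_sound _ _ (checkPointF_eq cert) 219125 25 chkP_219125 i (by omega) (by omega)
                · skip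
                  rcases Nat.lt_or_ge i 219175 with h9 | h9
                  · skip
                    exact allRangeF_sound _ _ (checkPointF_eq cert) 219150 25 chkP_219150 i (by omega) (by omega)
                  · skip
                    exact allRangeF_sound _ _ (checkPointF_eq cert) 219175 25 chkP_219175 i (by omega) (by omega)
        · skip
          rcases Nat.lt_or_ge i 219425 with h5 | h5
          · skip
            rcases Nat.lt_or_ge i 219300 with h6 | h6
            · skip
              rcases Nat.lt_or_ge i 219250 with h7 | h7
              · skip
                rcases Nat.lt_or_ge i 219225 with h8 | h8
                · skip
                  exact allRangeF_sound _ _ (checkPointF_eq cert) 219200 25 chkP_219200 i (by omega) (by omega)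
                · skip
                  exact allRangeF_sound _ _ (checkPointF_eq cert) 219225 25 chkP_219225 i (by omega) (by omega)
              · skip
                rcases Nat.lt_or_ge i 219275 with h8 | h8
                · skip
                  exact allRangeF_sound _ _ (checkPointF_eq cert) 219250 25 chkP_219250 i (by omega) (by omega)
                · skip
                  exact allRangeF_sound _ _ (checkPointF_eq cert) 219275 25 chkP_219275 i (by omega) (by omega)
            · skip
              rcases Nat.lt_or_ge i 219350 with h7 | h7
              · skip
                rcases Nat.lt_or_ge i 219325 with h8 | h8
                · skip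
                  exact allRangeF_sound _ _ (checkPointF_eq cert) 219300 25 chkP_219300 i (by omega) (by omega)
                · skip
                  exact allRangeF_sound _ _ (checkPointF_eq cert) 219325 25 chkP_219325 i (by omega) (by omega)
              · skip
                rcases Nat.lt_or_ge i 219375 with h8 | h8
                · skip
                  exact allRangeF_sound _ _ (checkPointF_eq cert) 219350 25 chkP_219350 i (by omega) (by omega)
                · skip
                  rcases Nat.lt_or_ge i 219400 with h9 | h9
                  · skip
                    exact allRangeF_sound _ _ (checkPointF_eq cert) 219375 25 chkP_219375 i (by omega) (by omega)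
                  · skip
                    exact allRangeF_sound _ _ (checkPointF_eq cert) 219400 25 chkP_219400 i (by omega) (by omega)
          · skip
            rcases Nat.lt_or_ge i 219550 with h6 | h6
            · skip
              rcases Nat.lt_or_ge i 219475 with h7 | h7
              · skip
                rcases Nat.lt_or_ge i 219450 with h8 | h8
                · skip
                  exact allRangeF_sound _ _ (checkPointF_eq cert) 219425 25 chkP_219425 i (by omega) (by omega)
                · skip
                  exact allRangeF_sound _ _ (checkPointF_eq cert) 219450 25 chkP_219450 i (by omega) (by omega)
              · skip
                rcases Nat.lt_or_ge i 219500 with h8 | h8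
                · skip
                  exact allRangeF_sound _ _ (checkPointF_eq cert) 219475 25 chkP_219475 i (by omega) (by omega)
                · skip
                  rcases Nat.lt_or_ge i 219525 with h9 | h9
                  · skip
                    exact allRangeF_sound _ _ (checkPointF_eq cert) 219500 25 chkP_219500 i (by omega) (by omega)
                  · skip
                    exact allRangeF_sound _ _ (checkPointF_eq cert) 219525 25 chkP_219525 i (by omega) (by omega)
            · skip
              rcases Nat.lt_or_ge i 219600 with h7 | h7
              · skip
                rcases Nat.lt_or_ge i 219575 with h8 | h8
                · skip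
                  exact allRangeF_sound _ _ (checkPointF_eq cert) 219550 25 chkP_219550 i (by omega) (by omega)
                · skip
                  exact allRangeF_sound _ _ (checkPointF_eq cert) 219575 25 chkP_219575 i (by omega) (by omega)
              · skip
                rcases Nat.lt_or_ge i 219625 with h8 | h8
                · skip
                  exact allRangeF_sound _ _ (checkPointF_eq cert) 219600 25 chkP_219600 i (by omega) (by omega)
                · skip
                  rcases Nat.lt_or_ge i 219650 with h9 | h9
                  · skip
                    exact allRangeF_sound _ _ (checkPointF_eq cert) 219625 25 chkP_219625 i (by omega) (by omega)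
                  · skip
                    exact allRangeF_sound _ _ (checkPointF_eq cert) 219650 25 chkP_219650 i (by omega) (by omega)
      · skip
        rcases Nat.lt_or_ge i 220150 with h4 | h4
        · skip
          rcases Nat.lt_or_ge i 219900 with h5 | h5
          · skip
            rcases Nat.lt_or_ge i 219775 with h6 | h6
            · skip
              rcases Nat.lt_or_ge i 219725 with h7 | h7
              · skip
                rcases Nat.lt_or_ge i 219700 with h8 | h8
                · skip
                  exact allRangeF_sound _ _ (checkPointF_eq cert) 219675 25 chkP_219675 i (by omega) (by omega)
                · skip
                  exact allRangeF_sound _ _ (checkPointF_eq cert) 219700 25 chkP_219700 i (by omega) (by omega)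
              · skip
                rcases Nat.lt_or_ge i 219750 with h8 | h8
                · skip
                  exact allRangeF_sound _ _ (checkPointF_eq cert) 219725 25 chkP_219725 i (by omega) (by omega)
                · skip
                  exact allRangeF_sound _ _ (checkPointF_eq cert) 219750 25 chkP_219750 i (by omega) (by omega)
            · skip
              rcases Nat.lt_or_ge i 219825 with h7 | h7
              · skip
                rcases Nat.lt_or_ge i 219800 with h8 | h8
                · skip
                  exact allRangeF_sound _ _ (checkPointF_eq cert) 219775 25 chkP_219775 i (by omega) (by omega)
                · skip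
                  exact allRangeF_sound _ _ (checkPointF_eq cert) 219800 25 chkP_219800 i (by omega) (by omega)
              · skip
                rcases Nat.lt_or_ge i 219850 with h8 | h8
                · skip
                  exact allRangeF_sound _ _ (checkPointF_eq cert) 219825 25 chkP_219825 i (by omega) (by omega)
                · skip
                  rcases Nat.lt_or_ge i 219875 with h9 | h9
                  · skip
                    exact allRangeF_sound _ _ (checkPointF_eq cert) 219850 25 chkP_219850 i (by omega) (by omega)
                  · skip
                    exact allRangeF_sound _ _ (checkPointF_eq cert) 219875 25 chkP_219875 i (by omega) (by omega)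
          · skip
            rcases Nat.lt_or_ge i 220025 with h6 | h6
            · skip
              rcases Nat.lt_or_ge i 219950 with h7 | h7
              · skip
                rcases Nat.lt_or_ge i 219925 with h8 | h8
                · skip
                  exact allRangeF_sound _ _ (checkPointF_eq cert) 219900 25 chkP_219900 i (by omega) (by omega)
                · skip
                  exact allRangeF_sound _ _ (checkPointF_eq cert) 219925 25 chkP_219925 i (by omega) (by omega)
              · skip
                rcases Nat.lt_or_ge i 219975 with h8 | h8
                · skip
                  exact allRangeF_sound _ _ (checkPointF_eq cert) 219950 25 chkP_219950 i (by omega) (by omega)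
                · skip
                  rcases Nat.lt_or_ge i 220000 with h9 | h9
                  · skip
                    exact allRangeF_sound _ _ (checkPointF_eq cert) 219975 25 chkP_219975 i (by omega) (by omega)
                  · skip
                    exact allRangeF_sound _ _ (checkPointF_eq cert) 220000 25 chkP_220000 i (by omega) (by omega)
            · skip
              rcases Nat.lt_or_ge i 220075 with h7 | h7
              · skip
                rcases Nat.lt_or_ge i 220050 with h8 | h8
                · skip
                  exact allRangeF_sound _ _ (checkPointF_eq cert) 220025 25 chkP_220025 i (by omega) (by omega)
                · skip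
                  exact allRangeF_sound _ _ (checkPointF_eq cert) 220050 25 chkP_220050 i (by omega) (by omega)
              · skip
                rcases Nat.lt_or_ge i 220100 with h8 | h8
                · skip
                  exact allRangeF_sound _ _ (checkPointF_eq cert) 220075 25 chkP_220075 i (by omega) (by omega)
                · skip
                  rcases Nat.lt_or_ge i 220125 with h9 | h9
                  · skip
                    exact allRangeF_sound _ _ (checkPointF_eq cert) 220100 25 chkP_220100 i (by omega) (by omega)
                  · skip
                    exact allRangeF_sound _ _ (checkPointF_eq cert) 220125 25 chkP_220125 i (by omega) (by omega)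
        · skip
          rcases Nat.lt_or_ge i 220400 with h5 | h5
          · skip
            rcases Nat.lt_or_ge i 220275 with h6 | h6
            · skip
              rcases Nat.lt_or_ge i 220200 with h7 | h7
              · skip
                rcases Nat.lt_or_ge i 220175 with h8 | h8
                · skip
                  exact allRangeF_sound _ _ (checkPointF_eq cert) 220150 25 chkP_220150 i (by omega) (by omega)
                · skip
                  exact allRangeF_sound _ _ (checkPointF_eq cert) 220175 25 chkP_220175 i (by omega) (by omega)
              · skip
                rcases Nat.lt_or_ge i 220225 with h8 | h8
                · skip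
                  exact allRangeF_sound _ _ (checkPointF_eq cert) 220200 25 chkP_220200 i (by omega) (by omega)
                · skip
                  rcases Nat.lt_or_ge i 220250 with h9 | h9
                  · skip
                    exact allRangeF_sound _ _ (checkPointF_eq cert) 220225 25 chkP_220225 i (by omega) (by omega)
                  · skip
                    exact allRangeF_sound _ _ (checkPointF_eq cert) 220250 25 chkP_220250 i (by omega) (by omega)
            · skip
              rcases Nat.lt_or_ge i 220325 with h7 | h7
              · skip
                rcases Nat.lt_or_ge i 220300 with h8 | h8
                · skip
                  exact allRangeF_sound _ _ (checkPointF_eq cert) 220275 25 chkP_220275 i (by omega) (by omega)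
                · skip
                  exact allRangeF_sound _ _ (checkPointF_eq cert) 220300 25 chkP_220300 i (by omega) (by omega)
              · skip
                rcases Nat.lt_or_ge i 220350 with h8 | h8
                · skip
                  exact allRangeF_sound _ _ (checkPointF_eq cert) 220325 25 chkP_220325 i (by omega) (by omega)
                · skip
                  rcases Nat.lt_or_ge i 220375 with h9 | h9
                  · skip
                    exact allRangeF_sound _ _ (checkPointF_eq cert) 220350 25 chkP_220350 i (by omega) (by omega)
                  · skip
                    exact allRangeF_sound _ _ (checkPointF_eq cert) 220375 25 chkP_220375 i (by omega) (by omega)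
          · skip
            rcases Nat.lt_or_ge i 220525 with h6 | h6
            · skip
              rcases Nat.lt_or_ge i 220450 with h7 | h7
              · skip
                rcases Nat.lt_or_ge i 220425 with h8 | h8
                · skip
                  exact allRangeF_sound _ _ (checkPointF_eq cert) 220400 25 chkP_220400 i (by omega) (by omega)
                · skip
                  exact allRangeF_sound _ _ (checkPointF_eq cert) 220425 25 chkP_220425 i (by omega) (by omega)
              · skip
                rcases Nat.lt_or_ge i 220475 with h8 | h8
                · skip
                  exact allRangeF_sound _ _ (checkPointF_eq cert) 220450 25 chkP_220450 i (by omega) (by omega)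
                · skip
                  rcases Nat.lt_or_ge i 220500 with h9 | h9
                  · skip
                    exact allRangeF_sound _ _ (checkPointF_eq cert) 220475 25 chkP_220475 i (by omega) (by omega)
                  · skip
                    exact allRangeF_sound _ _ (checkPointF_eq cert) 220500 25 chkP_220500 i (by omega) (by omega)
            · skip
              rcases Nat.lt_or_ge i 220575 with h7 | h7
              · skip
                rcases Nat.lt_or_ge i 220550 with h8 | h8
                · skip
                  exact allRangeF_sound _ _ (checkPointF_eq cert) 220525 25 chkP_220525 i (by omega) (by omega)
                · skip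
                  exact allRangeF_sound _ _ (checkPointF_eq cert) 220550 25 chkP_220550 i (by omega) (by omega)
              · skip
                rcases Nat.lt_or_ge i 220600 with h8 | h8
                · skip
                  exact allRangeF_sound _ _ (checkPointF_eq cert) 220575 25 chkP_220575 i (by omega) (by omega)
                · skip
                  rcases Nat.lt_or_ge i 220625 with h9 | h9
                  · skip
                    exact allRangeF_sound _ _ (checkPointF_eq cert) 220600 25 chkP_220600 i (by omega) (by omega)
                  · skip
                    exact allRangeF_sound _ _ (checkPointF_eq cert) 220625 25 chkP_220625 i (by omega) (by omega)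
    · skip
      rcases Nat.lt_or_ge i 221600 with h3 | h3
      · skip
        rcases Nat.lt_or_ge i 221125 with h4 | h4
        · skip
          rcases Nat.lt_or_ge i 220875 with h5 | h5
          · skip
            rcases Nat.lt_or_ge i 220750 with h6 | h6
            · skip
              rcases Nat.lt_or_ge i 220700 with h7 | h7
              · skip
                rcases Nat.lt_or_ge i 220675 with h8 | h8
                · skip
                  exact allRangeF_sound _ _ (checkPointF_eq cert) 220650 25 chkP_220650 i (by omega) (by omega)
                · skip
                  exact allRangeF_sound _ _ (checkPointF_eq cert) 220675 25 chkP_220675 i (by omega) (by omega)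
              · skip
                rcases Nat.lt_or_ge i 220725 with h8 | h8
                · skip
                  exact allRangeF_sound _ _ (checkPointF_eq cert) 220700 25 chkP_220700 i (by omega) (by omega)
                · skip
                  exact allRangeF_sound _ _ (checkPointF_eq cert) 220725 25 chkP_220725 i (by omega) (by omega)
            · skip
              rcases Nat.lt_or_ge i 220800 with h7 | h7
              · skip
                rcases Nat.lt_or_ge i 220775 with h8 | h8
                · skip
                  exact allRangeF_sound _ _ (checkPointF_eq cert) 220750 25 chkP_220750 i (by omega) (by omega)
                · skip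
                  exact allRangeF_sound _ _ (checkPointF_eq cert) 220775 25 chkP_220775 i (by omega) (by omega)
              · skip
                rcases Nat.lt_or_ge i 220825 with h8 | h8
                · skip
                  exact allRangeF_sound _ _ (checkPointF_eq cert) 220800 25 chkP_220800 i (by omega) (by omega)
                · skip
                  rcases Nat.lt_or_ge i 220850 with h9 | h9
                  · skip
                    exact allRangeF_sound _ _ (checkPointF_eq cert) 220825 25 chkP_220825 i (by omega) (by omega)
                  · skip
                    exact allRangeF_sound _ _ (checkPointF_eq cert) 220850 25 chkP_220850 i (by omega) (by omega)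
          · skip
            rcases Nat.lt_or_ge i 221000 with h6 | h6
            · skip
              rcases Nat.lt_or_ge i 220925 with h7 | h7
              · skip
                rcases Nat.lt_or_ge i 220900 with h8 | h8
                · skip
                  exact allRangeF_sound _ _ (checkPointF_eq cert) 220875 25 chkP_220875 i (by omega) (by omega)
                · skip
                  exact allRangeF_sound _ _ (checkPointF_eq cert) 220900 25 chkP_220900 i (by omega) (by omega)
              · skip
                rcases Nat.lt_or_ge i 220950 with h8 | h8
                · skip
                  exact allRangeF_sound _ _ (checkPointF_eq cert) 220925 25 chkP_220925 i (by omega) (by omega)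
                · skip
                  rcases Nat.lt_or_ge i 220975 with h9 | h9
                  · skip
                    exact allRangeF_sound _ _ (checkPointF_eq cert) 220950 25 chkP_220950 i (by omega) (by omega)
                  · skip
                    exact allRangeF_sound _ _ (checkPointF_eq cert) 220975 25 chkP_220975 i (by omega) (by omega)
            · skip
              rcases Nat.lt_or_ge i 221050 with h7 | h7
              · skip
                rcases Nat.lt_or_ge i 221025 with h8 | h8
                · skip
                  exact allRangeF_sound _ _ (checkPointF_eq cert) 221000 25 chkP_221000 i (by omega) (by omega)
                · skip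
                  exact allRangeF_sound _ _ (checkPointF_eq cert) 221025 25 chkP_221025 i (by omega) (by omega)
              · skip
                rcases Nat.lt_or_ge i 221075 with h8 | h8
                · skip
                  exact allRangeF_sound _ _ (checkPointF_eq cert) 221050 25 chkP_221050 i (by omega) (by omega)
                · skip
                  rcases Nat.lt_or_ge i 221100 with h9 | h9
                  · skip
                    exact allRangeF_sound _ _ (checkPointF_eq cert) 221075 25 chkP_221075 i (by omega) (by omega)
                  · skip
                    exact allRangeF_sound _ _ (checkPointF_eq cert) 221100 25 chkP_221100 i (by omega) (by omega)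
        · skip
          rcases Nat.lt_or_ge i 221350 with h5 | h5
          · skip
            rcases Nat.lt_or_ge i 221225 with h6 | h6
            · skip
              rcases Nat.lt_or_ge i 221175 with h7 | h7
              · skip
                rcases Nat.lt_or_ge i 221150 with h8 | h8
                · skip
                  exact allRangeF_sound _ _ (checkPointF_eq cert) 221125 25 chkP_221125 i (by omega) (by omega)
                · skip
                  exact allRangeF_sound _ _ (checkPointF_eq cert) 221150 25 chkP_221150 i (by omega) (by omega)
              · skip
                rcases Nat.lt_or_ge i 221200 with h8 | h8
                · skip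
                  exact allRangeF_sound _ _ (checkPointF_eq cert) 221175 25 chkP_221175 i (by omega) (by omega)
                · skip
                  exact allRangeF_sound _ _ (checkPointF_eq cert) 221200 25 chkP_221200 i (by omega) (by omega)
            · skip
              rcases Nat.lt_or_ge i 221275 with h7 | h7
              · skip
                rcases Nat.lt_or_ge i 221250 with h8 | h8
                · skip
                  exact allRangeF_sound _ _ (checkPointF_eq cert) 221225 25 chkP_221225 i (by omega) (by omega)
                · skip
                  exact allRangeF_sound _ _ (checkPointF_eq cert) 221250 25 chkP_221250 i (by omega) (by omega)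
              · skip
                rcases Nat.lt_or_ge i 221300 with h8 | h8
                · skip
                  exact allRangeF_sound _ _ (checkPointF_eq cert) 221275 25 chkP_221275 i (by omega) (by omega)
                · skip
                  rcases Nat.lt_or_ge i 221325 with h9 | h9
                  · skip
                    exact allRangeF_sound _ _ (checkPointF_eq cert) 221300 25 chkP_221300 i (by omega) (by omega)
                  · skip
                    exact allRangeF_sound _ _ (checkPointF_eq cert) 221325 25 chkP_221325 i (by omega) (by omega)
          · skip
            rcases Nat.lt_or_ge i 221475 with h6 | h6
            · skip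
              rcases Nat.lt_or_ge i 221400 with h7 | h7
              · skip
                rcases Nat.lt_or_ge i 221375 with h8 | h8
                · skip
                  exact allRangeF_sound _ _ (checkPointF_eq cert) 221350 25 chkP_221350 i (by omega) (by omega)
                · skip
                  exact allRangeF_sound _ _ (checkPointF_eq cert) 221375 25 chkP_221375 i (by omega) (by omega)
              · skip
                rcases Nat.lt_or_ge i 221425 with h8 | h8
                · skip
                  exact allRangeF_sound _ _ (checkPointF_eq cert) 221400 25 chkP_221400 i (by omega) (by omega)
                · skip
                  rcases Nat.lt_or_ge i 221450 with h9 | h9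
                  · skip
                    exact allRangeF_sound _ _ (checkPointF_eq cert) 221425 25 chkP_221425 i (by omega) (by omega)
                  · skip
                    exact allRangeF_sound _ _ (checkPointF_eq cert) 221450 25 chkP_221450 i (by omega) (by omega)
            · skip
              rcases Nat.lt_or_ge i 221525 with h7 | h7
              · skip
                rcases Nat.lt_or_ge i 221500 with h8 | h8
                · skip
                  exact allRangeF_sound _ _ (checkPointF_eq cert) 221475 25 chkP_221475 i (by omega) (by omega)
                · skip
                  exact allRangeF_sound _ _ (checkPointF_eq cert) 221500 25 chkP_221500 i (by omega) (by omega)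
              · skip
                rcases Nat.lt_or_ge i 221550 with h8 | h8
                · skip
                  exact allRangeF_sound _ _ (checkPointF_eq cert) 221525 25 chkP_221525 i (by omega) (by omega)
                · skip
                  rcases Nat.lt_or_ge i 221575 with h9 | h9
                  · skip
                    exact allRangeF_sound _ _ (checkPointF_eq cert) 221550 25 chkP_221550 i (by omega) (by omega)
                  · skip
                    exact allRangeF_sound _ _ (checkPointF_eq cert) 221575 25 chkP_221575 i (by omega) (by omega)
      · skip
        rcases Nat.lt_or_ge i 222075 with h4 | h4
        · skip
          rcases Nat.lt_or_ge i 221825 with h5 | h5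
          · skip
            rcases Nat.lt_or_ge i 221700 with h6 | h6
            · skip
              rcases Nat.lt_or_ge i 221650 with h7 | h7
              · skip
                rcases Nat.lt_or_ge i 221625 with h8 | h8
                · skip
                  exact allRangeF_sound _ _ (checkPointF_eq cert) 221600 25 chkP_221600 i (by omega) (by omega)
                · skip
                  exact allRangeF_sound _ _ (checkPointF_eq cert) 221625 25 chkP_221625 i (by omega) (by omega)
              · skip
                rcases Nat.lt_or_ge i 221675 with h8 | h8
                · skip
                  exact allRangeF_sound _ _ (checkPointF_eq cert) 221650 25 chkP_221650 i (by omega) (by omega)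
                · skip
                  exact allRangeF_sound _ _ (checkPointF_eq cert) 221675 25 chkP_221675 i (by omega) (by omega)
            · skip
              rcases Nat.lt_or_ge i 221750 with h7 | h7
              · skip
                rcases Nat.lt_or_ge i 221725 with h8 | h8
                · skip
                  exact allRangeF_sound _ _ (checkPointF_eq cert) 221700 25 chkP_221700 i (by omega) (by omega)
                · skip
                  exact allRangeF_sound _ _ (checkPointF_eq cert) 221725 25 chkP_221725 i (by omega) (by omega)
              · skip
                rcases Nat.lt_or_ge i 221775 with h8 | h8
                · skip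
                  exact allRangeF_sound _ _ (checkPointF_eq cert) 221750 25 chkP_221750 i (by omega) (by omega)
                · skip
                  rcases Nat.lt_or_ge i 221800 with h9 | h9
                  · skip
                    exact allRangeF_sound _ _ (checkPointF_eq cert) 221775 25 chkP_221775 i (by omega) (by omega)
                  · skip
                    exact allRangeF_sound _ _ (checkPointF_eq cert) 221800 25 chkP_221800 i (by omega) (by omega)
          · skip
            rcases Nat.lt_or_ge i 221950 with h6 | h6
            · skip
              rcases Nat.lt_or_ge i 221875 with h7 | h7
              · skip
                rcases Nat.lt_or_ge i 221850 with h8 | h8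
                · skip
                  exact allRangeF_sound _ _ (checkPointF_eq cert) 221825 25 chkP_221825 i (by omega) (by omega)
                · skip
                  exact allRangeF_sound _ _ (checkPointF_eq cert) 221850 25 chkP_221850 i (by omega) (by omega)
              · skip
                rcases Nat.lt_or_ge i 221900 with h8 | h8
                · skip
                  exact allRangeF_sound _ _ (checkPointF_eq cert) 221875 25 chkP_221875 i (by omega) (by omega)
                · skip
                  rcases Nat.lt_or_ge i 221925 with h9 | h9
                  · skip
                    exact allRangeF_sound _ _ (checkPointF_eq cert) 221900 25 chkP_221900 i (by omega) (by omega)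
                  · skip
                    exact allRangeF_sound _ _ (checkPointF_eq cert) 221925 25 chkP_221925 i (by omega) (by omega)
            · skip
              rcases Nat.lt_or_ge i 222000 with h7 | h7
              · skip
                rcases Nat.lt_or_ge i 221975 with h8 | h8
                · skip
                  exact allRangeF_sound _ _ (checkPointF_eq cert) 221950 25 chkP_221950 i (by omega) (by omega)
                · skip
                  exact allRangeF_sound _ _ (checkPointF_eq cert) 221975 25 chkP_221975 i (by omega) (by omega)
              · skip
                rcases Nat.lt_or_ge i 222025 with h8 | h8
                · skip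
                  exact allRangeF_sound _ _ (checkPointF_eq cert) 222000 25 chkP_222000 i (by omega) (by omega)
                · skip
                  rcases Nat.lt_or_ge i 222050 with h9 | h9
                  · skip
                    exact allRangeF_sound _ _ (checkPointF_eq cert) 222025 25 chkP_222025 i (by omega) (by omega)
                  · skip
                    exact allRangeF_sound _ _ (checkPointF_eq cert) 222050 25 chkP_222050 i (by omega) (by omega)
        · skip
          rcases Nat.lt_or_ge i 222325 with h5 | h5
          · skip
            rcases Nat.lt_or_ge i 222200 with h6 | h6
            · skip
              rcases Nat.lt_or_ge i 222125 with h7 | h7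
              · skip
                rcases Nat.lt_or_ge i 222100 with h8 | h8
                · skip
                  exact allRangeF_sound _ _ (checkPointF_eq cert) 222075 25 chkP_222075 i (by omega) (by omega)
                · skip
                  exact allRangeF_sound _ _ (checkPointF_eq cert) 222100 25 chkP_222100 i (by omega) (by omega)
              · skip
                rcases Nat.lt_or_ge i 222150 with h8 | h8
                · skip
                  exact allRangeF_sound _ _ (checkPointF_eq cert) 222125 25 chkP_222125 i (by omega) (by omega)
                · skip
                  rcases Nat.lt_or_ge i 222175 with h9 | h9
                  · skip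
                    exact allRangeF_sound _ _ (checkPointF_eq cert) 222150 25 chkP_222150 i (by omega) (by omega)
                  · skip
                    exact allRangeF_sound _ _ (checkPointF_eq cert) 222175 25 chkP_222175 i (by omega) (by omega)
            · skip
              rcases Nat.lt_or_ge i 222250 with h7 | h7
              · skip
                rcases Nat.lt_or_ge i 222225 with h8 | h8
                · skip
                  exact allRangeF_sound _ _ (checkPointF_eq cert) 222200 25 chkP_222200 i (by omega) (by omega)
                · skip
                  exact allRangeF_sound _ _ (checkPointF_eq cert) 222225 25 chkP_222225 i (by omega) (by omega)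
              · skip
                rcases Nat.lt_or_ge i 222275 with h8 | h8
                · skip
                  exact allRangeF_sound _ _ (checkPointF_eq cert) 222250 25 chkP_222250 i (by omega) (by omega)
                · skip
                  rcases Nat.lt_or_ge i 222300 with h9 | h9
                  · skip
                    exact allRangeF_sound _ _ (checkPointF_eq cert) 222275 25 chkP_222275 i (by omega) (by omega)
                  · skip
                    exact allRangeF_sound _ _ (checkPointF_eq cert) 222300 25 chkP_222300 i (by omega) (by omega)
          · skip
            rcases Nat.lt_or_ge i 222450 with h6 | h6
            · skip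
              rcases Nat.lt_or_ge i 222375 with h7 | h7
              · skip
                rcases Nat.lt_or_ge i 222350 with h8 | h8
                · skip
                  exact allRangeF_sound _ _ (checkPointF_eq cert) 222325 25 chkP_222325 i (by omega) (by omega)
                · skip
                  exact allRangeF_sound _ _ (checkPointF_eq cert) 222350 25 chkP_222350 i (by omega) (by omega)
              · skip
                rcases Nat.lt_or_ge i 222400 with h8 | h8
                · skip
                  exact allRangeF_sound _ _ (checkPointF_eq cert) 222375 25 chkP_222375 i (by omega) (by omega)
                · skip
                  rcases Nat.lt_or_ge i 222425 with h9 | h9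
                  · skip
                    exact allRangeF_sound _ _ (checkPointF_eq cert) 222400 25 chkP_222400 i (by omega) (by omega)
                  · skip
                    exact allRangeF_sound _ _ (checkPointF_eq cert) 222425 25 chkP_222425 i (by omega) (by omega)
            · skip
              rcases Nat.lt_or_ge i 222500 with h7 | h7
              · skip
                rcases Nat.lt_or_ge i 222475 with h8 | h8
                · skip
                  exact allRangeF_sound _ _ (checkPointF_eq cert) 222450 25 chkP_222450 i (by omega) (by omega)
                · skip
                  exact allRangeF_sound _ _ (checkPointF_eq cert) 222475 25 chkP_222475 i (by omega) (by omega)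
              · skip
                rcases Nat.lt_or_ge i 222525 with h8 | h8
                · skip
                  exact allRangeF_sound _ _ (checkPointF_eq cert) 222500 25 chkP_222500 i (by omega) (by omega)
                · skip
                  rcases Nat.lt_or_ge i 222550 with h9 | h9
                  · skip
                    exact allRangeF_sound _ _ (checkPointF_eq cert) 222525 25 chkP_222525 i (by omega) (by omega)
                  · skip
                    exact allRangeF_sound _ _ (checkPointF_eq cert) 222550 25 chkP_222550 i (by omega) (by omega)

end Cfsg.Agent.Lib.Helper28.Fi24Data
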