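import Cfsg.Agent.Lib.Helper28.Fi24Data
import Cfsg.Agent.Lib.Helper28.TCFastB

set_option autoImplicit false
set_option maxRecDepth 1000000
set_option linter.all false
set_option Elab.async false

namespace Cfsg.Agent.Lib.Helper28.Fi24Data

open Cfsg.Agent.Lib.Helper28B

theorem chkP_23025 : allRangeF (checkPointF cert) (nat_lit 23025) (nat_lit 25) = true := by decide +kernel
theorem chkP_23050 : allRangeF (checkPointF cert) (nat_lit 23050) (nat_lit 25) = true := by decide +kernel
theorem chkP_23075 : allRangeF (checkPointF cert) (nat_lit 23075) (nat_lit 25) = true := by decide +kernel
theorem chkP_23100 : allRangeF (checkPointF cert) (nat_lit 23100) (nat_lit 25) = true := by decide +kernel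
theorem chkP_23125 : allRangeF (checkPointF cert) (nat_lit 23125) (nat_lit 25) = true := by decide +kernel
theorem chkP_23150 : allRangeF (checkPointF cert) (nat_lit 23150) (nat_lit 25) = true := by decide +kernel
theorem chkP_23175 : allRangeF (checkPointF cert) (nat_lit 23175) (nat_lit 25) = true := by decide +kernel
theorem chkP_23200 : allRangeF (checkPointF cert) (nat_lit 23200) (nat_lit 25) = true := by decide +kernel
theorem chkP_23225 : allRangeF (checkPointF cert) (nat_lit 23225) (nat_lit 25) = true := by decide +kernel
theorem chkP_23250 : allRangeF (checkPointF cert) (nat_lit 23250) (nat_lit 25) = true := by decide +kernel
theorem chkP_23275 : allRangeF (checkPointF cert) (nat_lit 23275) (nat_lit 25) = true := by decide +kernel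
theorem chkP_23300 : allRangeF (checkPointF cert) (nat_lit 23300) (nat_lit 25) = true := by decide +kernel
theorem chkP_23325 : allRangeF (checkPointF cert) (nat_lit 23325) (nat_lit 25) = true := by decide +kernel
theorem chkP_23350 : allRangeF (checkPointF cert) (nat_lit 23350) (nat_lit 25) = true := by decide +kernel
theorem chkP_23375 : allRangeF (checkPointF cert) (nat_lit 23375) (nat_lit 25) = true := by decide +kernel
theorem chkP_23400 : allRangeF (checkPointF cert) (nat_lit 23400) (nat_lit 25) = true := by decide +kernel
theorem chkP_23425 : allRangeF (checkPointF cert) (nat_lit 23425) (nat_lit 25) = true := by decide +kernel
theorem chkP_23450 : allRangeF (checkPointF cert) (nat_lit 23450) (nat_lit 25) = true := by decide +kernel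
theorem chkP_23475 : allRangeF (checkPointF cert) (nat_lit 23475) (nat_lit 25) = true := by decide +kernel
theorem chkP_23500 : allRangeF (checkPointF cert) (nat_lit 23500) (nat_lit 25) = true := by decide +kernel
theorem chkP_23525 : allRangeF (checkPointF cert) (nat_lit 23525) (nat_lit 25) = true := by decide +kernel
theorem chkP_23550 : allRangeF (checkPointF cert) (nat_lit 23550) (nat_lit 25) = true := by decide +kernel
theorem chkP_23575 : allRangeF (checkPointF cert) (nat_lit 23575) (nat_lit 25) = true := by decide +kernel
theorem chkP_23600 : allRangeF (checkPointF cert) (nat_lit 23600) (nat_lit 25) = true := by decide +kernel
theorem chkP_23625 : allRangeF (checkPointF cert) (nat_lit 23625) (nat_lit 25) = true := by decide +kernel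
theorem chkP_23650 : allRangeF (checkPointF cert) (nat_lit 23650) (nat_lit 25) = true := by decide +kernel
theorem chkP_23675 : allRangeF (checkPointF cert) (nat_lit 23675) (nat_lit 25) = true := by decide +kernel
theorem chkP_23700 : allRangeF (checkPointF cert) (nat_lit 23700) (nat_lit 25) = true := by decide +kernel
theorem chkP_23725 : allRangeF (checkPointF cert) (nat_lit 23725) (nat_lit 25) = true := by decide +kernel
theorem chkP_23750 : allRangeF (checkPointF cert) (nat_lit 23750) (nat_lit 25) = true := by decide +kernel
theorem chkP_23775 : allRangeF (checkPointF cert) (nat_lit 23775) (nat_lit 25) = true := by decide +kernel
theorem chkP_23800 : allRangeF (checkPointF cert) (nat_lit 23800) (nat_lit 25) = true := by decide +kernel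
theorem chkP_23825 : allRangeF (checkPointF cert) (nat_lit 23825) (nat_lit 25) = true := by decide +kernel
theorem chkP_23850 : allRangeF (checkPointF cert) (nat_lit 23850) (nat_lit 25) = true := by decide +kernel
theorem chkP_23875 : allRangeF (checkPointF cert) (nat_lit 23875) (nat_lit 25) = true := by decide +kernel
theorem chkP_23900 : allRangeF (checkPointF cert) (nat_lit 23900) (nat_lit 25) = true := by decide +kernel
theorem chkP_23925 : allRangeF (checkPointF cert) (nat_lit 23925) (nat_lit 25) = true := by decide +kernel
theorem chkP_23950 : allRangeF (checkPointF cert) (nat_lit 23950) (nat_lit 25) = true := by decide +kernel
theorem chkP_23975 : allRangeF (checkPointF cert) (nat_lit 23975) (nat_lit 25) = true := by decide +kernel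
theorem chkP_24000 : allRangeF (checkPointF cert) (nat_lit 24000) (nat_lit 25) = true := by decide +kernel
theorem chkP_24025 : allRangeF (checkPointF cert) (nat_lit 24025) (nat_lit 25) = true := by decide +kernel
theorem chkP_24050 : allRangeF (checkPointF cert) (nat_lit 24050) (nat_lit 25) = true := by decide +kernel
theorem chkP_24075 : allRangeF (checkPointF cert) (nat_lit 24075) (nat_lit 25) = true := by decide +kernel
theorem chkP_24100 : allRangeF (checkPointF cert) (nat_lit 24100) (nat_lit 25) = true := by decide +kernel
theorem chkP_24125 : allRangeF (checkPointF cert) (nat_lit 24125) (nat_lit 25) = true := by decide +kernel
theorem chkP_24150 : allRangeF (checkPointF cert) (nat_lit 24150) (nat_lit 25) = true := by decide +kernel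
theorem chkP_24175 : allRangeF (checkPointF cert) (nat_lit 24175) (nat_lit 25) = true := by decide +kernel
theorem chkP_24200 : allRangeF (checkPointF cert) (nat_lit 24200) (nat_lit 25) = true := by decide +kernel
theorem chkP_24225 : allRangeF (checkPointF cert) (nat_lit 24225) (nat_lit 25) = true := by decide +kernel
theorem chkP_24250 : allRangeF (checkPointF cert) (nat_lit 24250) (nat_lit 25) = true := by decide +kernel
theorem chkP_24275 : allRangeF (checkPointF cert) (nat_lit 24275) (nat_lit 25) = true := by decide +kernel
theorem chkP_24300 : allRangeF (checkPointF cert) (nat_lit 24300) (nat_lit 25) = true := by decide +kernel
theorem chkP_24325 : allRangeF (checkPointF cert) (nat_lit 24325) (nat_lit 25) = true := by decide +kernel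
theorem chkP_24350 : allRangeF (checkPointF cert) (nat_lit 24350) (nat_lit 25) = true := by decide +kernel
theorem chkP_24375 : allRangeF (checkPointF cert) (nat_lit 24375) (nat_lit 25) = true := by decide +kernel
theorem chkP_24400 : allRangeF (checkPointF cert) (nat_lit 24400) (nat_lit 25) = true := by decide +kernel
theorem chkP_24425 : allRangeF (checkPointF cert) (nat_lit 24425) (nat_lit 25) = true := by decide +kernel
theorem chkP_24450 : allRangeF (checkPointF cert) (nat_lit 24450) (nat_lit 25) = true := by decide +kernel
theorem chkP_24475 : allRangeF (checkPointF cert) (nat_lit 24475) (nat_lit 25) = true := by decide +kernel
theorem chkP_24500 : allRangeF (checkPointF cert) (nat_lit 24500) (nat_lit 25) = true := by decide +kernel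
theorem chkP_24525 : allRangeF (checkPointF cert) (nat_lit 24525) (nat_lit 25) = true := by decide +kernel
theorem chkP_24550 : allRangeF (checkPointF cert) (nat_lit 24550) (nat_lit 25) = true := by decide +kernel
theorem chkP_24575 : allRangeF (checkPointF cert) (nat_lit 24575) (nat_lit 25) = true := by decide +kernel
theorem chkP_24600 : allRangeF (checkPointF cert) (nat_lit 24600) (nat_lit 25) = true := by decide +kernel
theorem chkP_24625 : allRangeF (checkPointF cert) (nat_lit 24625) (nat_lit 25) = true := by decide +kernel
theorem chkP_24650 : allRangeF (checkPointF cert) (nat_lit 24650) (nat_lit 25) = true := by decide +kernel
theorem chkP_24675 : allRangeF (checkPointF cert) (nat_lit 24675) (nat_lit 25) = true := by decide +kernel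
theorem chkP_24700 : allRangeF (checkPointF cert) (nat_lit 24700) (nat_lit 25) = true := by decide +kernel
theorem chkP_24725 : allRangeF (checkPointF cert) (nat_lit 24725) (nat_lit 25) = true := by decide +kernel
theorem chkP_24750 : allRangeF (checkPointF cert) (nat_lit 24750) (nat_lit 25) = true := by decide +kernel
theorem chkP_24775 : allRangeF (checkPointF cert) (nat_lit 24775) (nat_lit 25) = true := by decide +kernel
theorem chkP_24800 : allRangeF (checkPointF cert) (nat_lit 24800) (nat_lit 25) = true := by decide +kernel
theorem chkP_24825 : allRangeF (checkPointF cert) (nat_lit 24825) (nat_lit 25) = true := by decide +kernel
theorem chkP_24850 : allRangeF (checkPointF cert) (nat_lit 24850) (nat_lit 25) = true := by decide +kernel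
theorem chkP_24875 : allRangeF (checkPointF cert) (nat_lit 24875) (nat_lit 25) = true := by decide +kernel
theorem chkP_24900 : allRangeF (checkPointF cert) (nat_lit 24900) (nat_lit 25) = true := by decide +kernel
theorem chkP_24925 : allRangeF (checkPointF cert) (nat_lit 24925) (nat_lit 25) = true := by decide +kernel
theorem chkP_24950 : allRangeF (checkPointF cert) (nat_lit 24950) (nat_lit 25) = true := by decide +kernel
theorem chkP_24975 : allRangeF (checkPointF cert) (nat_lit 24975) (nat_lit 25) = true := by decide +kernel
theorem chkP_25000 : allRangeF (checkPointF cert) (nat_lit 25000) (nat_lit 25) = true := by decide +kernel
theorem chkP_25025 : allRangeF (checkPointF cert) (nat_lit 25025) (nat_lit 25) = true := by decide +kernel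
theorem chkP_25050 : allRangeF (checkPointF cert) (nat_lit 25050) (nat_lit 25) = true := by decide +kernel
theorem chkP_25075 : allRangeF (checkPointF cert) (nat_lit 25075) (nat_lit 25) = true := by decide +kernel
theorem chkP_25100 : allRangeF (checkPointF cert) (nat_lit 25100) (nat_lit 25) = true := by decide +kernel
theorem chkP_25125 : allRangeF (checkPointF cert) (nat_lit 25125) (nat_lit 25) = true := by decide +kernel
theorem chkP_25150 : allRangeF (checkPointF cert) (nat_lit 25150) (nat_lit 25) = true := by decide +kernel
theorem chkP_25175 : allRangeF (checkPointF cert) (nat_lit 25175) (nat_lit 25) = true := by decide +kernel
theorem chkP_25200 : allRangeF (checkPointF cert) (nat_lit 25200) (nat_lit 25) = true := by decide +kernel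
theorem chkP_25225 : allRangeF (checkPointF cert) (nat_lit 25225) (nat_lit 25) = true := by decide +kernel
theorem chkP_25250 : allRangeF (checkPointF cert) (nat_lit 25250) (nat_lit 25) = true := by decide +kernel
theorem chkP_25275 : allRangeF (checkPointF cert) (nat_lit 25275) (nat_lit 25) = true := by decide +kernel
theorem chkP_25300 : allRangeF (checkPointF cert) (nat_lit 25300) (nat_lit 25) = true := by decide +kernel
theorem chkP_25325 : allRangeF (checkPointF cert) (nat_lit 25325) (nat_lit 25) = true := by decide +kernel
theorem chkP_25350 : allRangeF (checkPointF cert) (nat_lit 25350) (nat_lit 25) = true := by decide +kernel
theorem chkP_25375 : allRangeF (checkPointF cert) (nat_lit 25375) (nat_lit 25) = true := by decide +kernel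
theorem chkP_25400 : allRangeF (checkPointF cert) (nat_lit 25400) (nat_lit 25) = true := by decide +kernel
theorem chkP_25425 : allRangeF (checkPointF cert) (nat_lit 25425) (nat_lit 25) = true := by decide +kernel
theorem chkP_25450 : allRangeF (checkPointF cert) (nat_lit 25450) (nat_lit 25) = true := by decide +kernel
theorem chkP_25475 : allRangeF (checkPointF cert) (nat_lit 25475) (nat_lit 25) = true := by decide +kernel
theorem chkP_25500 : allRangeF (checkPointF cert) (nat_lit 25500) (nat_lit 25) = true := by decide +kernel
theorem chkP_25525 : allRangeF (checkPointF cert) (nat_lit 25525) (nat_lit 25) = true := by decide +kernel
theorem chkP_25550 : allRangeF (checkPointF cert) (nat_lit 25550) (nat_lit 25) = true := by decide +kernel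
theorem chkP_25575 : allRangeF (checkPointF cert) (nat_lit 25575) (nat_lit 25) = true := by decide +kernel
theorem chkP_25600 : allRangeF (checkPointF cert) (nat_lit 25600) (nat_lit 25) = true := by decide +kernel
theorem chkP_25625 : allRangeF (checkPointF cert) (nat_lit 25625) (nat_lit 25) = true := by decide +kernel
theorem chkP_25650 : allRangeF (checkPointF cert) (nat_lit 25650) (nat_lit 25) = true := by decide +kernel
theorem chkP_25675 : allRangeF (checkPointF cert) (nat_lit 25675) (nat_lit 25) = true := by decide +kernel
theorem chkP_25700 : allRangeF (checkPointF cert) (nat_lit 25700) (nat_lit 25) = true := by decide +kernel
theorem chkP_25725 : allRangeF (checkPointF cert) (nat_lit 25725) (nat_lit 25) = true := by decide +kernel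
theorem chkP_25750 : allRangeF (checkPointF cert) (nat_lit 25750) (nat_lit 25) = true := by decide +kernel
theorem chkP_25775 : allRangeF (checkPointF cert) (nat_lit 25775) (nat_lit 25) = true := by decide +kernel
theorem chkP_25800 : allRangeF (checkPointF cert) (nat_lit 25800) (nat_lit 25) = true := by decide +kernel
theorem chkP_25825 : allRangeF (checkPointF cert) (nat_lit 25825) (nat_lit 25) = true := by decide +kernel
theorem chkP_25850 : allRangeF (checkPointF cert) (nat_lit 25850) (nat_lit 25) = true := by decide +kernel
theorem chkP_25875 : allRangeF (checkPointF cert) (nat_lit 25875) (nat_lit 25) = true := by decide +kernel
theorem chkP_25900 : allRangeF (checkPointF cert) (nat_lit 25900) (nat_lit 25) = true := by decide +kernel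
theorem chkP_25925 : allRangeF (checkPointF cert) (nat_lit 25925) (nat_lit 25) = true := by decide +kernel
theorem chkP_25950 : allRangeF (checkPointF cert) (nat_lit 25950) (nat_lit 25) = true := by decide +kernel
theorem chkP_25975 : allRangeF (checkPointF cert) (nat_lit 25975) (nat_lit 25) = true := by decide +kernel
theorem chkP_26000 : allRangeF (checkPointF cert) (nat_lit 26000) (nat_lit 25) = true := by decide +kernel
theorem chkP_26025 : allRangeF (checkPointF cert) (nat_lit 26025) (nat_lit 25) = true := by decide +kernel
theorem chkP_26050 : allRangeF (checkPointF cert) (nat_lit 26050) (nat_lit 25) = true := by decide +kernel
theorem chkP_26075 : allRangeF (checkPointF cert) (nat_lit 26075) (nat_lit 25) = true := by decide +kernel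
theorem chkP_26100 : allRangeF (checkPointF cert) (nat_lit 26100) (nat_lit 25) = true := by decide +kernel
theorem chkP_26125 : allRangeF (checkPointF cert) (nat_lit 26125) (nat_lit 25) = true := by decide +kernel
theorem chkP_26150 : allRangeF (checkPointF cert) (nat_lit 26150) (nat_lit 25) = true := by decide +kernel
theorem chkP_26175 : allRangeF (checkPointF cert) (nat_lit 26175) (nat_lit 25) = true := by decide +kernel
theorem chkP_26200 : allRangeF (checkPointF cert) (nat_lit 26200) (nat_lit 25) = true := by decide +kernel
theorem chkP_26225 : allRangeF (checkPointF cert) (nat_lit 26225) (nat_lit 25) = true := by decide +kernel
theorem chkP_26250 : allRangeF (checkPointF cert) (nat_lit 26250) (nat_lit 25) = true := by decide +kernel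
theorem chkP_26275 : allRangeF (checkPointF cert) (nat_lit 26275) (nat_lit 25) = true := by decide +kernel
theorem chkP_26300 : allRangeF (checkPointF cert) (nat_lit 26300) (nat_lit 25) = true := by decide +kernel
theorem chkP_26325 : allRangeF (checkPointF cert) (nat_lit 26325) (nat_lit 25) = true := by decide +kernel
theorem chkP_26350 : allRangeF (checkPointF cert) (nat_lit 26350) (nat_lit 25) = true := by decide +kernel
theorem chkP_26375 : allRangeF (checkPointF cert) (nat_lit 26375) (nat_lit 25) = true := by decide +kernel
theorem chkP_26400 : allRangeF (checkPointF cert) (nat_lit 26400) (nat_lit 25) = true := by decide +kernel
theorem chkP_26425 : allRangeF (checkPointF cert) (nat_lit 26425) (nat_lit 25) = true := by decide +kernel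
theorem chkP_26450 : allRangeF (checkPointF cert) (nat_lit 26450) (nat_lit 25) = true := by decide +kernel
theorem chkP_26475 : allRangeF (checkPointF cert) (nat_lit 26475) (nat_lit 25) = true := by decide +kernel
theorem chkP_26500 : allRangeF (checkPointF cert) (nat_lit 26500) (nat_lit 25) = true := by decide +kernel
theorem chkP_26525 : allRangeF (checkPointF cert) (nat_lit 26525) (nat_lit 25) = true := by decide +kernel
theorem chkP_26550 : allRangeF (checkPointF cert) (nat_lit 26550) (nat_lit 25) = true := by decide +kernel
theorem chkP_26575 : allRangeF (checkPointF cert) (nat_lit 26575) (nat_lit 25) = true := by decide +kernel
theorem chkP_26600 : allRangeF (checkPointF cert) (nat_lit 26600) (nat_lit 25) = true := by decide +kernel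
theorem chkP_26625 : allRangeF (checkPointF cert) (nat_lit 26625) (nat_lit 25) = true := by decide +kernel
theorem chkP_26650 : allRangeF (checkPointF cert) (nat_lit 26650) (nat_lit 25) = true := by decide +kernel
theorem chkP_26675 : allRangeF (checkPointF cert) (nat_lit 26675) (nat_lit 25) = true := by decide +kernel
theorem chkP_26700 : allRangeF (checkPointF cert) (nat_lit 26700) (nat_lit 25) = true := by decide +kernel
theorem chkP_26725 : allRangeF (checkPointF cert) (nat_lit 26725) (nat_lit 25) = true := by decide +kernel
theorem chkP_26750 : allRangeF (checkPointF cert) (nat_lit 26750) (nat_lit 25) = true := by decide +kernel
theorem chkP_26775 : allRangeF (checkPointF cert) (nat_lit 26775) (nat_lit 25) = true := by decide +kernel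
theorem chkP_26800 : allRangeF (checkPointF cert) (nat_lit 26800) (nat_lit 25) = true := by decide +kernel
theorem chkP_26825 : allRangeF (checkPointF cert) (nat_lit 26825) (nat_lit 25) = true := by decide +kernel
theorem chkP_26850 : allRangeF (checkPointF cert) (nat_lit 26850) (nat_lit 25) = true := by decide +kernel
theorem chkP_26875 : allRangeF (checkPointF cert) (nat_lit 26875) (nat_lit 25) = true := by decide +kernel
theorem chkP_26900 : allRangeF (checkPointF cert) (nat_lit 26900) (nat_lit 25) = true := by decide +kernel
theorem chkP_26925 : allRangeF (checkPointF cert) (nat_lit 26925) (nat_lit 25) = true := by decide +kernel
theorem chkP_26950 : allRangeF (checkPointF cert) (nat_lit 26950) (nat_lit 25) = true := by decide +kernel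
theorem chkP_26975 : allRangeF (checkPointF cert) (nat_lit 26975) (nat_lit 25) = true := by decide +kernel
theorem chkP_27000 : allRangeF (checkPointF cert) (nat_lit 27000) (nat_lit 25) = true := by decide +kernel
theorem chkP_27025 : allRangeF (checkPointF cert) (nat_lit 27025) (nat_lit 25) = true := by decide +kernel
theorem chkP_27050 : allRangeF (checkPointF cert) (nat_lit 27050) (nat_lit 25) = true := by decide +kernel
theorem chkP_27075 : allRangeF (checkPointF cert) (nat_lit 27075) (nat_lit 25) = true := by decide +kernel
theorem chkP_27100 : allRangeF (checkPointF cert) (nat_lit 27100) (nat_lit 25) = true := by decide +kernel
theorem chkP_27125 : allRangeF (checkPointF cert) (nat_lit 27125) (nat_lit 25) = true := by decide +kernel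
theorem chkP_27150 : allRangeF (checkPointF cert) (nat_lit 27150) (nat_lit 25) = true := by decide +kernel
theorem chkP_27175 : allRangeF (checkPointF cert) (nat_lit 27175) (nat_lit 25) = true := by decide +kernel
theorem chkP_27200 : allRangeF (checkPointF cert) (nat_lit 27200) (nat_lit 25) = true := by decide +kernel
theorem chkP_27225 : allRangeF (checkPointF cert) (nat_lit 27225) (nat_lit 25) = true := by decide +kernel
theorem chkP_27250 : allRangeF (checkPointF cert) (nat_lit 27250) (nat_lit 25) = true := by decide +kernel
theorem chkP_27275 : allRangeF (checkPointF cert) (nat_lit 27275) (nat_lit 25) = true := by decide +kernel
theorem chkP_27300 : allRangeF (checkPointF cert) (nat_lit 27300) (nat_lit 25) = true := by decide +kernel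
theorem chkP_27325 : allRangeF (checkPointF cert) (nat_lit 27325) (nat_lit 25) = true := by decide +kernel
theorem chkP_27350 : allRangeF (checkPointF cert) (nat_lit 27350) (nat_lit 25) = true := by decide +kernel
theorem chkP_27375 : allRangeF (checkPointF cert) (nat_lit 27375) (nat_lit 25) = true := by decide +kernel
theorem chkP_27400 : allRangeF (checkPointF cert) (nat_lit 27400) (nat_lit 25) = true := by decide +kernel
theorem chkP_27425 : allRangeF (checkPointF cert) (nat_lit 27425) (nat_lit 25) = true := by decide +kernel
theorem chkP_27450 : allRangeF (checkPointF cert) (nat_lit 27450) (nat_lit 25) = true := by decide +kernel
theorem chkP_27475 : allRangeF (checkPointF cert) (nat_lit 27475) (nat_lit 25) = true := by decide +kernel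
theorem chkP_27500 : allRangeF (checkPointF cert) (nat_lit 27500) (nat_lit 25) = true := by decide +kernel
theorem chkP_27525 : allRangeF (checkPointF cert) (nat_lit 27525) (nat_lit 25) = true := by decide +kernel
theorem chkP_27550 : allRangeF (checkPointF cert) (nat_lit 27550) (nat_lit 25) = true := by decide +kernel
theorem chkP_27575 : allRangeF (checkPointF cert) (nat_lit 27575) (nat_lit 25) = true := by decide +kernel
theorem chkP_27600 : allRangeF (checkPointF cert) (nat_lit 27600) (nat_lit 25) = true := by decide +kernel
theorem chkP_27625 : allRangeF (checkPointF cert) (nat_lit 27625) (nat_lit 25) = true := by decide +kernel
theorem chkP_27650 : allRangeF (checkPointF cert) (nat_lit 27650) (nat_lit 25) = true := by decide +kernel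
theorem chkP_27675 : allRangeF (checkPointF cert) (nat_lit 27675) (nat_lit 25) = true := by decide +kernel
theorem chkP_27700 : allRangeF (checkPointF cert) (nat_lit 27700) (nat_lit 25) = true := by decide +kernel
theorem chkP_27725 : allRangeF (checkPointF cert) (nat_lit 27725) (nat_lit 25) = true := by decide +kernel
theorem chkP_27750 : allRangeF (checkPointF cert) (nat_lit 27750) (nat_lit 25) = true := by decide +kernel
theorem chkP_27775 : allRangeF (checkPointF cert) (nat_lit 27775) (nat_lit 25) = true := by decide +kernel
theorem chkP_27800 : allRangeF (checkPointF cert) (nat_lit 27800) (nat_lit 25) = true := by decide +kernel
theorem chkP_27825 : allRangeF (checkPointF cert) (nat_lit 27825) (nat_lit 25) = true := by decide +kernel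
theorem chkP_27850 : allRangeF (checkPointF cert) (nat_lit 27850) (nat_lit 25) = true := by decide +kernel
theorem chkP_27875 : allRangeF (checkPointF cert) (nat_lit 27875) (nat_lit 25) = true := by decide +kernel
theorem chkP_27900 : allRangeF (checkPointF cert) (nat_lit 27900) (nat_lit 25) = true := by decide +kernel
theorem chkP_27925 : allRangeF (checkPointF cert) (nat_lit 27925) (nat_lit 25) = true := by decide +kernel
theorem chkP_27950 : allRangeF (checkPointF cert) (nat_lit 27950) (nat_lit 25) = true := by decide +kernel
theorem chkP_27975 : allRangeF (checkPointF cert) (nat_lit 27975) (nat_lit 25) = true := by decide +kernel
theorem chkP_28000 : allRangeF (checkPointF cert) (nat_lit 28000) (nat_lit 25) = true := by decide +kernel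
theorem chkP_28025 : allRangeF (checkPointF cert) (nat_lit 28025) (nat_lit 25) = true := by decide +kernel
theorem chkP_28050 : allRangeF (checkPointF cert) (nat_lit 28050) (nat_lit 25) = true := by decide +kernel
theorem chkP_28075 : allRangeF (checkPointF cert) (nat_lit 28075) (nat_lit 25) = true := by decide +kernel
theorem chkP_28100 : allRangeF (checkPointF cert) (nat_lit 28100) (nat_lit 25) = true := by decide +kernel
theorem chkP_28125 : allRangeF (checkPointF cert) (nat_lit 28125) (nat_lit 25) = true := by decide +kernel
theorem chkP_28150 : allRangeF (checkPointF cert) (nat_lit 28150) (nat_lit 25) = true := by decide +kernel
theorem chkP_28175 : allRangeF (checkPointF cert) (nat_lit 28175) (nat_lit 25) = true := by decide +kernel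
theorem chkP_28200 : allRangeF (checkPointF cert) (nat_lit 28200) (nat_lit 25) = true := by decide +kernel
theorem chkP_28225 : allRangeF (checkPointF cert) (nat_lit 28225) (nat_lit 25) = true := by decide +kernel
theorem chkP_28250 : allRangeF (checkPointF cert) (nat_lit 28250) (nat_lit 25) = true := by decide +kernel
theorem chkP_28275 : allRangeF (checkPointF cert) (nat_lit 28275) (nat_lit 25) = true := by decide +kernel
theorem chkP_28300 : allRangeF (checkPointF cert) (nat_lit 28300) (nat_lit 25) = true := by decide +kernel
theorem chkP_28325 : allRangeF (checkPointF cert) (nat_lit 28325) (nat_lit 25) = true := by decide +kernel
theorem chkP_28350 : allRangeF (checkPointF cert) (nat_lit 28350) (nat_lit 25) = true := by decide +kernel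
theorem chkP_28375 : allRangeF (checkPointF cert) (nat_lit 28375) (nat_lit 25) = true := by decide +kernel
theorem chkP_28400 : allRangeF (checkPointF cert) (nat_lit 28400) (nat_lit 25) = true := by decide +kernel
theorem chkP_28425 : allRangeF (checkPointF cert) (nat_lit 28425) (nat_lit 25) = true := by decide +kernel
theorem chkP_28450 : allRangeF (checkPointF cert) (nat_lit 28450) (nat_lit 25) = true := by decide +kernel
theorem chkP_28475 : allRangeF (checkPointF cert) (nat_lit 28475) (nat_lit 25) = true := by decide +kernel
theorem chkP_28500 : allRangeF (checkPointF cert) (nat_lit 28500) (nat_lit 25) = true := by decide +kernel
theorem chkP_28525 : allRangeF (checkPointF cert) (nat_lit 28525) (nat_lit 25) = true := by decide +kernel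
theorem chkP_28550 : allRangeF (checkPointF cert) (nat_lit 28550) (nat_lit 25) = true := by decide +kernel
theorem chkP_28575 : allRangeF (checkPointF cert) (nat_lit 28575) (nat_lit 25) = true := by decide +kernel
theorem chkP_28600 : allRangeF (checkPointF cert) (nat_lit 28600) (nat_lit 25) = true := by decide +kernel
theorem chkP_28625 : allRangeF (checkPointF cert) (nat_lit 28625) (nat_lit 25) = true := by decide +kernel
theorem chkP_28650 : allRangeF (checkPointF cert) (nat_lit 28650) (nat_lit 25) = true := by decide +kernel
theorem chkP_28675 : allRangeF (checkPointF cert) (nat_lit 28675) (nat_lit 25) = true := by decide +kernel
theorem chkP_28700 : allRangeF (checkPointF cert) (nat_lit 28700) (nat_lit 25) = true := by decide +kernel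
theorem chkP_28725 : allRangeF (checkPointF cert) (nat_lit 28725) (nat_lit 25) = true := by decide +kernel
theorem chkP_28750 : allRangeF (checkPointF cert) (nat_lit 28750) (nat_lit 25) = true := by decide +kernel
theorem chkP_28775 : allRangeF (checkPointF cert) (nat_lit 28775) (nat_lit 25) = true := by decide +kernel
theorem chkP_28800 : allRangeF (checkPointF cert) (nat_lit 28800) (nat_lit 25) = true := by decide +kernel
theorem chkP_28825 : allRangeF (checkPointF cert) (nat_lit 28825) (nat_lit 25) = true := by decide +kernel
theorem chkP_28850 : allRangeF (checkPointF cert) (nat_lit 28850) (nat_lit 25) = true := by decide +kernel
theorem chkP_28875 : allRangeF (checkPointF cert) (nat_lit 28875) (nat_lit 25) = true := by decide +kernel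
theorem chkP_28900 : allRangeF (checkPointF cert) (nat_lit 28900) (nat_lit 25) = true := by decide +kernel
theorem chkP_28925 : allRangeF (checkPointF cert) (nat_lit 28925) (nat_lit 25) = true := by decide +kernel
theorem chkP_28950 : allRangeF (checkPointF cert) (nat_lit 28950) (nat_lit 25) = true := by decide +kernel
theorem chkP_28975 : allRangeF (checkPointF cert) (nat_lit 28975) (nat_lit 25) = true := by decide +kernel
theorem chkP_29000 : allRangeF (checkPointF cert) (nat_lit 29000) (nat_lit 25) = true := by decide +kernel
theorem chkP_29025 : allRangeF (checkPointF cert) (nat_lit 29025) (nat_lit 25) = true := by decide +kernel
theorem chkP_29050 : allRangeF (checkPointF cert) (nat_lit 29050) (nat_lit 25) = true := by decide +kernel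
theorem chkP_29075 : allRangeF (checkPointF cert) (nat_lit 29075) (nat_lit 25) = true := by decide +kernel
theorem chkP_29100 : allRangeF (checkPointF cert) (nat_lit 29100) (nat_lit 25) = true := by decide +kernel
theorem chkP_29125 : allRangeF (checkPointF cert) (nat_lit 29125) (nat_lit 25) = true := by decide +kernel
theorem chkP_29150 : allRangeF (checkPointF cert) (nat_lit 29150) (nat_lit 25) = true := by decide +kernel
theorem chkP_29175 : allRangeF (checkPointF cert) (nat_lit 29175) (nat_lit 25) = true := by decide +kernel
theorem chkP_29200 : allRangeF (checkPointF cert) (nat_lit 29200) (nat_lit 25) = true := by decide +kernel
theorem chkP_29225 : allRangeF (checkPointF cert) (nat_lit 29225) (nat_lit 25) = true := by decide +kernel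
theorem chkP_29250 : allRangeF (checkPointF cert) (nat_lit 29250) (nat_lit 25) = true := by decide +kernel
theorem chkP_29275 : allRangeF (checkPointF cert) (nat_lit 29275) (nat_lit 25) = true := by decide +kernel
theorem chkP_29300 : allRangeF (checkPointF cert) (nat_lit 29300) (nat_lit 25) = true := by decide +kernel
theorem chkP_29325 : allRangeF (checkPointF cert) (nat_lit 29325) (nat_lit 25) = true := by decide +kernel
theorem chkP_29350 : allRangeF (checkPointF cert) (nat_lit 29350) (nat_lit 25) = true := by decide +kernel
theorem chkP_29375 : allRangeF (checkPointF cert) (nat_lit 29375) (nat_lit 25) = true := by decide +kernel
theorem chkP_29400 : allRangeF (checkPointF cert) (nat_lit 29400) (nat_lit 25) = true := by decide +kernel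
theorem chkP_29425 : allRangeF (checkPointF cert) (nat_lit 29425) (nat_lit 25) = true := by decide +kernel
theorem chkP_29450 : allRangeF (checkPointF cert) (nat_lit 29450) (nat_lit 25) = true := by decide +kernel
theorem chkP_29475 : allRangeF (checkPointF cert) (nat_lit 29475) (nat_lit 25) = true := by decide +kernel
theorem chkP_29500 : allRangeF (checkPointF cert) (nat_lit 29500) (nat_lit 25) = true := by decide +kernel
theorem chkP_29525 : allRangeF (checkPointF cert) (nat_lit 29525) (nat_lit 25) = true := by decide +kernel
theorem chkP_29550 : allRangeF (checkPointF cert) (nat_lit 29550) (nat_lit 25) = true := by decide +kernel
theorem chkP_29575 : allRangeF (checkPointF cert) (nat_lit 29575) (nat_lit 25) = true := by decide +kernel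
theorem chkP_29600 : allRangeF (checkPointF cert) (nat_lit 29600) (nat_lit 25) = true := by decide +kernel
theorem chkP_29625 : allRangeF (checkPointF cert) (nat_lit 29625) (nat_lit 25) = true := by decide +kernel
theorem chkP_29650 : allRangeF (checkPointF cert) (nat_lit 29650) (nat_lit 25) = true := by decide +kernel
theorem chkP_29675 : allRangeF (checkPointF cert) (nat_lit 29675) (nat_lit 25) = true := by decide +kernel
theorem chkP_29700 : allRangeF (checkPointF cert) (nat_lit 29700) (nat_lit 25) = true := by decide +kernel
theorem chkP_29725 : allRangeF (checkPointF cert) (nat_lit 29725) (nat_lit 25) = true := by decide +kernel
theorem chkP_29750 : allRangeF (checkPointF cert) (nat_lit 29750) (nat_lit 25) = true := by decide +kernel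
theorem chkP_29775 : allRangeF (checkPointF cert) (nat_lit 29775) (nat_lit 25) = true := by decide +kernel
theorem chkP_29800 : allRangeF (checkPointF cert) (nat_lit 29800) (nat_lit 25) = true := by decide +kernel
theorem chkP_29825 : allRangeF (checkPointF cert) (nat_lit 29825) (nat_lit 25) = true := by decide +kernel
theorem chkP_29850 : allRangeF (checkPointF cert) (nat_lit 29850) (nat_lit 25) = true := by decide +kernel
theorem chkP_29875 : allRangeF (checkPointF cert) (nat_lit 29875) (nat_lit 25) = true := by decide +kernel
theorem chkP_29900 : allRangeF (checkPointF cert) (nat_lit 29900) (nat_lit 25) = true := by decide +kernel
theorem chkP_29925 : allRangeF (checkPointF cert) (nat_lit 29925) (nat_lit 25) = true := by decide +kernel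
theorem chkP_29950 : allRangeF (checkPointF cert) (nat_lit 29950) (nat_lit 25) = true := by decide +kernel
theorem chkP_29975 : allRangeF (checkPointF cert) (nat_lit 29975) (nat_lit 25) = true := by decide +kernel
theorem chkP_30000 : allRangeF (checkPointF cert) (nat_lit 30000) (nat_lit 25) = true := by decide +kernel
theorem chkP_30025 : allRangeF (checkPointF cert) (nat_lit 30025) (nat_lit 25) = true := by decide +kernel
theorem chkP_30050 : allRangeF (checkPointF cert) (nat_lit 30050) (nat_lit 25) = true := by decide +kernel
theorem chkP_30075 : allRangeF (checkPointF cert) (nat_lit 30075) (nat_lit 25) = true := by decide +kernel
theorem chkP_30100 : allRangeF (checkPointF cert) (nat_lit 30100) (nat_lit 25) = true := by decide +kernel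
theorem chkP_30125 : allRangeF (checkPointF cert) (nat_lit 30125) (nat_lit 25) = true := by decide +kernel
theorem chkP_30150 : allRangeF (checkPointF cert) (nat_lit 30150) (nat_lit 25) = true := by decide +kernel
theorem chkP_30175 : allRangeF (checkPointF cert) (nat_lit 30175) (nat_lit 25) = true := by decide +kernel
theorem chkP_30200 : allRangeF (checkPointF cert) (nat_lit 30200) (nat_lit 25) = true := by decide +kernel
theorem chkP_30225 : allRangeF (checkPointF cert) (nat_lit 30225) (nat_lit 25) = true := by decide +kernel
theorem chkP_30250 : allRangeF (checkPointF cert) (nat_lit 30250) (nat_lit 25) = true := by decide +kernel
theorem chkP_30275 : allRangeF (checkPointF cert) (nat_lit 30275) (nat_lit 25) = true := by decide +kernel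
theorem chkP_30300 : allRangeF (checkPointF cert) (nat_lit 30300) (nat_lit 25) = true := by decide +kernel
theorem chkP_30325 : allRangeF (checkPointF cert) (nat_lit 30325) (nat_lit 25) = true := by decide +kernel
theorem chkP_30350 : allRangeF (checkPointF cert) (nat_lit 30350) (nat_lit 25) = true := by decide +kernel
theorem chkP_30375 : allRangeF (checkPointF cert) (nat_lit 30375) (nat_lit 25) = true := by decide +kernel
theorem chkP_30400 : allRangeF (checkPointF cert) (nat_lit 30400) (nat_lit 25) = true := by decide +kernel
theorem chkP_30425 : allRangeF (checkPointF cert) (nat_lit 30425) (nat_lit 25) = true := by decide +kernel
theorem chkP_30450 : allRangeF (checkPointF cert) (nat_lit 30450) (nat_lit 25) = true := by decide +kernel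
theorem chkP_30475 : allRangeF (checkPointF cert) (nat_lit 30475) (nat_lit 25) = true := by decide +kernel
theorem chkP_30500 : allRangeF (checkPointF cert) (nat_lit 30500) (nat_lit 25) = true := by decide +kernel
theorem chkP_30525 : allRangeF (checkPointF cert) (nat_lit 30525) (nat_lit 25) = true := by decide +kernel
theorem chkP_30550 : allRangeF (checkPointF cert) (nat_lit 30550) (nat_lit 25) = true := by decide +kernel
theorem chkP_30575 : allRangeF (checkPointF cert) (nat_lit 30575) (nat_lit 25) = true := by decide +kernel
theorem chkP_30600 : allRangeF (checkPointF cert) (nat_lit 30600) (nat_lit 25) = true := by decide +kernel
theorem chkP_30625 : allRangeF (checkPointF cert) (nat_lit 30625) (nat_lit 25) = true := by decide +kernel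
theorem chkP_30650 : allRangeF (checkPointF cert) (nat_lit 30650) (nat_lit 25) = true := by decide +kernel
theorem chkP_30675 : allRangeF (checkPointF cert) (nat_lit 30675) (nat_lit 25) = true := by decide +kernel

theorem ptsRange_3 : ∀ i, 23025 ≤ i → i < 30700 → checkPoint cert i = true := by
  intro i hlo hhi
  rcases Nat.lt_or_ge i 26850 with h1 | h1
  · skip
    rcases Nat.lt_or_ge i 24925 with h2 | h2
    · skip
      rcases Nat.lt_or_ge i 23975 with h3 | h3
      · skip
        rcases Nat.lt_or_ge i 23500 with h4 | h4
        · skip
          rcases Nat.lt_or_ge i 23250 with h5 | h5
          · skip
            rcases Nat.lt_or_ge i 23125 with h6 | h6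
            · skip
              rcases Nat.lt_or_ge i 23075 with h7 | h7
              · skip
                rcases Nat.lt_or_ge i 23050 with h8 | h8
                · skip
                  exact allRangeF_sound _ _ (checkPointF_eq cert) 23025 25 chkP_23025 i (by omega) (by omega)
                · skip
                  exact allRangeF_sound _ _ (checkPointF_eq cert) 23050 25 chkP_23050 i (by omega) (by omega)
              · skip
                rcases Nat.lt_or_ge i 23100 with h8 | h8
                · skip
                  exact allRangeF_sound _ _ (checkPointF_eq cert) 23075 25 chkP_23075 i (by omega) (by omega)
                · skip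
                  exact allRangeF_sound _ _ (checkPointF_eq cert) 23100 25 chkP_23100 i (by omega) (by omega)
            · skip
              rcases Nat.lt_or_ge i 23175 with h7 | h7
              · skip
                rcases Nat.lt_or_ge i 23150 with h8 | h8
                · skip
                  exact allRangeF_sound _ _ (checkPointF_eq cert) 23125 25 chkP_23125 i (by omega) (by omega)
                · skip
                  exact allRangeF_sound _ _ (checkPointF_eq cert) 23150 25 chkP_23150 i (by omega) (by omega)
              · skip
                rcases Nat.lt_or_ge i 23200 with h8 | h8
                · skip
                  exact allRangeF_sound _ _ (checkPointF_eq cert) 23175 25 chkP_23175 i (by omega) (by omega)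
                · skip
                  rcases Nat.lt_or_ge i 23225 with h9 | h9
                  · skip
                    exact allRangeF_sound _ _ (checkPointF_eq cert) 23200 25 chkP_23200 i (by omega) (by omega)
                  · skip
                    exact allRangeF_sound _ _ (checkPointF_eq cert) 23225 25 chkP_23225 i (by omega) (by omega)
          · skip
            rcases Nat.lt_or_ge i 23375 with h6 | h6
            · skip
              rcases Nat.lt_or_ge i 23300 with h7 | h7
              · skip
                rcases Nat.lt_or_ge i 23275 with h8 | h8
                · skip
                  exact allRangeF_sound _ _ (checkPointF_eq cert) 23250 25 chkP_23250 i (by omega) (by omega)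
                · skip
                  exact allRangeF_sound _ _ (checkPointF_eq cert) 23275 25 chkP_23275 i (by omega) (by omega)
              · skip
                rcases Nat.lt_or_ge i 23325 with h8 | h8
                · skip
                  exact allRangeF_sound _ _ (checkPointF_eq cert) 23300 25 chkP_23300 i (by omega) (by omega)
                · skip
                  rcases Nat.lt_or_ge i 23350 with h9 | h9
                  · skip
                    exact allRangeF_sound _ _ (checkPointF_eq cert) 23325 25 chkP_23325 i (by omega) (by omega)
                  · skip
                    exact allRangeF_sound _ _ (checkPointF_eq cert) 23350 25 chkP_23350 i (by omega) (by omega)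
            · skip
              rcases Nat.lt_or_ge i 23425 with h7 | h7
              · skip
                rcases Nat.lt_or_ge i 23400 with h8 | h8
                · skip
                  exact allRangeF_sound _ _ (checkPointF_eq cert) 23375 25 chkP_23375 i (by omega) (by omega)
                · skip
                  exact allRangeF_sound _ _ (checkPointF_eq cert) 23400 25 chkP_23400 i (by omega) (by omega)
              · skip
                rcases Nat.lt_or_ge i 23450 with h8 | h8
                · skip
                  exact allRangeF_sound _ _ (checkPointF_eq cert) 23425 25 chkP_23425 i (by omega) (by omega)
                · skip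
                  rcases Nat.lt_or_ge i 23475 with h9 | h9
                  · skip
                    exact allRangeF_sound _ _ (checkPointF_eq cert) 23450 25 chkP_23450 i (by omega) (by omega)
                  · skip
                    exact allRangeF_sound _ _ (checkPointF_eq cert) 23475 25 chkP_23475 i (by omega) (by omega)
        · skip
          rcases Nat.lt_or_ge i 23725 with h5 | h5
          · skip
            rcases Nat.lt_or_ge i 23600 with h6 | h6
            · skip
              rcases Nat.lt_or_ge i 23550 with h7 | h7
              · skip
                rcases Nat.lt_or_ge i 23525 with h8 | h8
                · skip
                  exact allRangeF_sound _ _ (checkPointF_eq cert) 23500 25 chkP_23500 i (by omega) (by omega)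
                · skip
                  exact allRangeF_sound _ _ (checkPointF_eq cert) 23525 25 chkP_23525 i (by omega) (by omega)
              · skip
                rcases Nat.lt_or_ge i 23575 with h8 | h8
                · skip
                  exact allRangeF_sound _ _ (checkPointF_eq cert) 23550 25 chkP_23550 i (by omega) (by omega)
                · skip
                  exact allRangeF_sound _ _ (checkPointF_eq cert) 23575 25 chkP_23575 i (by omega) (by omega)
            · skip
              rcases Nat.lt_or_ge i 23650 with h7 | h7
              · skip
                rcases Nat.lt_or_ge i 23625 with h8 | h8
                · skip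
                  exact allRangeF_sound _ _ (checkPointF_eq cert) 23600 25 chkP_23600 i (by omega) (by omega)
                · skip
                  exact allRangeF_sound _ _ (checkPointF_eq cert) 23625 25 chkP_23625 i (by omega) (by omega)
              · skip
                rcases Nat.lt_or_ge i 23675 with h8 | h8
                · skip
                  exact allRangeF_sound _ _ (checkPointF_eq cert) 23650 25 chkP_23650 i (by omega) (by omega)
                · skip
                  rcases Nat.lt_or_ge i 23700 with h9 | h9
                  · skip
                    exact allRangeF_sound _ _ (checkPointF_eq cert) 23675 25 chkP_23675 i (by omega) (by omega)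
                  · skip
                    exact allRangeF_sound _ _ (checkPointF_eq cert) 23700 25 chkP_23700 i (by omega) (by omega)
          · skip
            rcases Nat.lt_or_ge i 23850 with h6 | h6
            · skip
              rcases Nat.lt_or_ge i 23775 with h7 | h7
              · skip
                rcases Nat.lt_or_ge i 23750 with h8 | h8
                · skip
                  exact allRangeF_sound _ _ (checkPointF_eq cert) 23725 25 chkP_23725 i (by omega) (by omega)
                · skip
                  exact allRangeF_sound _ _ (checkPointF_eq cert) 23750 25 chkP_23750 i (by omega) (by omega)
              · skip
                rcases Nat.lt_or_ge i 23800 with h8 | h8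
                · skip
                  exact allRangeF_sound _ _ (checkPointF_eq cert) 23775 25 chkP_23775 i (by omega) (by omega)
                · skip
                  rcases Nat.lt_or_ge i 23825 with h9 | h9
                  · skip
                    exact allRangeF_sound _ _ (checkPointF_eq cert) 23800 25 chkP_23800 i (by omega) (by omega)
                  · skip
                    exact allRangeF_sound _ _ (checkPointF_eq cert) 23825 25 chkP_23825 i (by omega) (by omega)
            · skip
              rcases Nat.lt_or_ge i 23900 with h7 | h7
              · skip
                rcases Nat.lt_or_ge i 23875 with h8 | h8
                · skip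
                  exact allRangeF_sound _ _ (checkPointF_eq cert) 23850 25 chkP_23850 i (by omega) (by omega)
                · skip
                  exact allRangeF_sound _ _ (checkPointF_eq cert) 23875 25 chkP_23875 i (by omega) (by omega)
              · skip
                rcases Nat.lt_or_ge i 23925 with h8 | h8
                · skip
                  exact allRangeF_sound _ _ (checkPointF_eq cert) 23900 25 chkP_23900 i (by omega) (by omega)
                · skip
                  rcases Nat.lt_or_ge i 23950 with h9 | h9
                  · skip
                    exact allRangeF_sound _ _ (checkPointF_eq cert) 23925 25 chkP_23925 i (by omega) (by omega)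
                  · skip
                    exact allRangeF_sound _ _ (checkPointF_eq cert) 23950 25 chkP_23950 i (by omega) (by omega)
      · skip
        rcases Nat.lt_or_ge i 24450 with h4 | h4
        · skip
          rcases Nat.lt_or_ge i 24200 with h5 | h5
          · skip
            rcases Nat.lt_or_ge i 24075 with h6 | h6
            · skip
              rcases Nat.lt_or_ge i 24025 with h7 | h7
              · skip
                rcases Nat.lt_or_ge i 24000 with h8 | h8
                · skip
                  exact allRangeF_sound _ _ (checkPointF_eq cert) 23975 25 chkP_23975 i (by omega) (by omega)
                · skip
                  exact allRangeF_sound _ _ (checkPointF_eq cert) 24000 25 chkP_24000 i (by omega) (by omega)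
              · skip
                rcases Nat.lt_or_ge i 24050 with h8 | h8
                · skip
                  exact allRangeF_sound _ _ (checkPointF_eq cert) 24025 25 chkP_24025 i (by omega) (by omega)
                · skip
                  exact allRangeF_sound _ _ (checkPointF_eq cert) 24050 25 chkP_24050 i (by omega) (by omega)
            · skip
              rcases Nat.lt_or_ge i 24125 with h7 | h7
              · skip
                rcases Nat.lt_or_ge i 24100 with h8 | h8
                · skip
                  exact allRangeF_sound _ _ (checkPointF_eq cert) 24075 25 chkP_24075 i (by omega) (by omega)
                · skip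
                  exact allRangeF_sound _ _ (checkPointF_eq cert) 24100 25 chkP_24100 i (by omega) (by omega)
              · skip
                rcases Nat.lt_or_ge i 24150 with h8 | h8
                · skip
                  exact allRangeF_sound _ _ (checkPointF_eq cert) 24125 25 chkP_24125 i (by omega) (by omega)
                · skip
                  rcases Nat.lt_or_ge i 24175 with h9 | h9
                  · skip
                    exact allRangeF_sound _ _ (checkPointF_eq cert) 24150 25 chkP_24150 i (by omega) (by omega)
                  · skip
                    exact allRangeF_sound _ _ (checkPointF_eq cert) 24175 25 chkP_24175 i (by omega) (by omega)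
          · skip
            rcases Nat.lt_or_ge i 24325 with h6 | h6
            · skip
              rcases Nat.lt_or_ge i 24250 with h7 | h7
              · skip
                rcases Nat.lt_or_ge i 24225 with h8 | h8
                · skip
                  exact allRangeF_sound _ _ (checkPointF_eq cert) 24200 25 chkP_24200 i (by omega) (by omega)
                · skip
                  exact allRangeF_sound _ _ (checkPointF_eq cert) 24225 25 chkP_24225 i (by omega) (by omega)
              · skip
                rcases Nat.lt_or_ge i 24275 with h8 | h8
                · skip
                  exact allRangeF_sound _ _ (checkPointF_eq cert) 24250 25 chkP_24250 i (by omega) (by omega)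
                · skip
                  rcases Nat.lt_or_ge i 24300 with h9 | h9
                  · skip
                    exact allRangeF_sound _ _ (checkPointF_eq cert) 24275 25 chkP_24275 i (by omega) (by omega)
                  · skip
                    exact allRangeF_sound _ _ (checkPointF_eq cert) 24300 25 chkP_24300 i (by omega) (by omega)
            · skip
              rcases Nat.lt_or_ge i 24375 with h7 | h7
              · skip
                rcases Nat.lt_or_ge i 24350 with h8 | h8
                · skip
                  exact allRangeF_sound _ _ (checkPointF_eq cert) 24325 25 chkP_24325 i (by omega) (by omega)
                · skip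
                  exact allRangeF_sound _ _ (checkPointF_eq cert) 24350 25 chkP_24350 i (by omega) (by omega)
              · skip
                rcases Nat.lt_or_ge i 24400 with h8 | h8
                · skip
                  exact allRangeF_sound _ _ (checkPointF_eq cert) 24375 25 chkP_24375 i (by omega) (by omega)
                · skip
                  rcases Nat.lt_or_ge i 24425 with h9 | h9
                  · skip
                    exact allRangeF_sound _ _ (checkPointF_eq cert) 24400 25 chkP_24400 i (by omega) (by omega)
                  · skip
                    exact allRangeF_sound _ _ (checkPointF_eq cert) 24425 25 chkP_24425 i (by omega) (by omega)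
        · skip
          rcases Nat.lt_or_ge i 24675 with h5 | h5
          · skip
            rcases Nat.lt_or_ge i 24550 with h6 | h6
            · skip
              rcases Nat.lt_or_ge i 24500 with h7 | h7
              · skip
                rcases Nat.lt_or_ge i 24475 with h8 | h8
                · skip
                  exact allRangeF_sound _ _ (checkPointF_eq cert) 24450 25 chkP_24450 i (by omega) (by omega)
                · skip
                  exact allRangeF_sound _ _ (checkPointF_eq cert) 24475 25 chkP_24475 i (by omega) (by omega)
              · skip
                rcases Nat.lt_or_ge i 24525 with h8 | h8
                · skip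
                  exact allRangeF_sound _ _ (checkPointF_eq cert) 24500 25 chkP_24500 i (by omega) (by omega)
                · skip
                  exact allRangeF_sound _ _ (checkPointF_eq cert) 24525 25 chkP_24525 i (by omega) (by omega)
            · skip
              rcases Nat.lt_or_ge i 24600 with h7 | h7
              · skip
                rcases Nat.lt_or_ge i 24575 with h8 | h8
                · skip
                  exact allRangeF_sound _ _ (checkPointF_eq cert) 24550 25 chkP_24550 i (by omega) (by omega)
                · skip
                  exact allRangeF_sound _ _ (checkPointF_eq cert) 24575 25 chkP_24575 i (by omega) (by omega)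
              · skip
                rcases Nat.lt_or_ge i 24625 with h8 | h8
                · skip
                  exact allRangeF_sound _ _ (checkPointF_eq cert) 24600 25 chkP_24600 i (by omega) (by omega)
                · skip
                  rcases Nat.lt_or_ge i 24650 with h9 | h9
                  · skip
                    exact allRangeF_sound _ _ (checkPointF_eq cert) 24625 25 chkP_24625 i (by omega) (by omega)
                  · skip
                    exact allRangeF_sound _ _ (checkPointF_eq cert) 24650 25 chkP_24650 i (by omega) (by omega)
          · skip
            rcases Nat.lt_or_ge i 24800 with h6 | h6
            · skip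
              rcases Nat.lt_or_ge i 24725 with h7 | h7
              · skip
                rcases Nat.lt_or_ge i 24700 with h8 | h8
                · skip
                  exact allRangeF_sound _ _ (checkPointF_eq cert) 24675 25 chkP_24675 i (by omega) (by omega)
                · skip
                  exact allRangeF_sound _ _ (checkPointF_eq cert) 24700 25 chkP_24700 i (by omega) (by omega)
              · skip
                rcases Nat.lt_or_ge i 24750 with h8 | h8
                · skip
                  exact allRangeF_sound _ _ (checkPointF_eq cert) 24725 25 chkP_24725 i (by omega) (by omega)
                · skip
                  rcases Nat.lt_or_ge i 24775 with h9 | h9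
                  · skip
                    exact allRangeF_sound _ _ (checkPointF_eq cert) 24750 25 chkP_24750 i (by omega) (by omega)
                  · skip
                    exact allRangeF_sound _ _ (checkPointF_eq cert) 24775 25 chkP_24775 i (by omega) (by omega)
            · skip
              rcases Nat.lt_or_ge i 24850 with h7 | h7
              · skip
                rcases Nat.lt_or_ge i 24825 with h8 | h8
                · skip
                  exact allRangeF_sound _ _ (checkPointF_eq cert) 24800 25 chkP_24800 i (by omega) (by omega)
                · skip
                  exact allRangeF_sound _ _ (checkPointF_eq cert) 24825 25 chkP_24825 i (by omega) (by omega)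
              · skip
                rcases Nat.lt_or_ge i 24875 with h8 | h8
                · skip
                  exact allRangeF_sound _ _ (checkPointF_eq cert) 24850 25 chkP_24850 i (by omega) (by omega)
                · skip
                  rcases Nat.lt_or_ge i 24900 with h9 | h9
                  · skip
                    exact allRangeF_sound _ _ (checkPointF_eq cert) 24875 25 chkP_24875 i (by omega) (by omega)
                  · skip
                    exact allRangeF_sound _ _ (checkPointF_eq cert) 24900 25 chkP_24900 i (by omega) (by omega)
    · skip
      rcases Nat.lt_or_ge i 25875 with h3 | h3
      · skip
        rcases Nat.lt_or_ge i 25400 with h4 | h4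
        · skip
          rcases Nat.lt_or_ge i 25150 with h5 | h5
          · skip
            rcases Nat.lt_or_ge i 25025 with h6 | h6
            · skip
              rcases Nat.lt_or_ge i 24975 with h7 | h7
              · skip
                rcases Nat.lt_or_ge i 24950 with h8 | h8
                · skip
                  exact allRangeF_sound _ _ (checkPointF_eq cert) 24925 25 chkP_24925 i (by omega) (by omega)
                · skip
                  exact allRangeF_sound _ _ (checkPointF_eq cert) 24950 25 chkP_24950 i (by omega) (by omega)
              · skip
                rcases Nat.lt_or_ge i 25000 with h8 | h8
                · skip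
                  exact allRangeF_sound _ _ (checkPointF_eq cert) 24975 25 chkP_24975 i (by omega) (by omega)
                · skip
                  exact allRangeF_sound _ _ (checkPointF_eq cert) 25000 25 chkP_25000 i (by omega) (by omega)
            · skip
              rcases Nat.lt_or_ge i 25075 with h7 | h7
              · skip
                rcases Nat.lt_or_ge i 25050 with h8 | h8
                · skip
                  exact allRangeF_sound _ _ (checkPointF_eq cert) 25025 25 chkP_25025 i (by omega) (by omega)
                · skip
                  exact allRangeF_sound _ _ (checkPointF_eq cert) 25050 25 chkP_25050 i (by omega) (by omega)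
              · skip
                rcases Nat.lt_or_ge i 25100 with h8 | h8
                · skip
                  exact allRangeF_sound _ _ (checkPointF_eq cert) 25075 25 chkP_25075 i (by omega) (by omega)
                · skip
                  rcases Nat.lt_or_ge i 25125 with h9 | h9
                  · skip
                    exact allRangeF_sound _ _ (checkPointF_eq cert) 25100 25 chkP_25100 i (by omega) (by omega)
                  · skip
                    exact allRangeF_sound _ _ (checkPointF_eq cert) 25125 25 chkP_25125 i (by omega) (by omega)
          · skip
            rcases Nat.lt_or_ge i 25275 with h6 | h6
            · skip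
              rcases Nat.lt_or_ge i 25200 with h7 | h7
              · skip
                rcases Nat.lt_or_ge i 25175 with h8 | h8
                · skip
                  exact allRangeF_sound _ _ (checkPointF_eq cert) 25150 25 chkP_25150 i (by omega) (by omega)
                · skip
                  exact allRangeF_sound _ _ (checkPointF_eq cert) 25175 25 chkP_25175 i (by omega) (by omega)
              · skip
                rcases Nat.lt_or_ge i 25225 with h8 | h8
                · skip
                  exact allRangeF_sound _ _ (checkPointF_eq cert) 25200 25 chkP_25200 i (by omega) (by omega)
                · skip
                  rcases Nat.lt_or_ge i 25250 with h9 | h9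
                  · skip
                    exact allRangeF_sound _ _ (checkPointF_eq cert) 25225 25 chkP_25225 i (by omega) (by omega)
                  · skip
                    exact allRangeF_sound _ _ (checkPointF_eq cert) 25250 25 chkP_25250 i (by omega) (by omega)
            · skip
              rcases Nat.lt_or_ge i 25325 with h7 | h7
              · skip
                rcases Nat.lt_or_ge i 25300 with h8 | h8
                · skip
                  exact allRangeF_sound _ _ (checkPointF_eq cert) 25275 25 chkP_25275 i (by omega) (by omega)
                · skip
                  exact allRangeF_sound _ _ (checkPointF_eq cert) 25300 25 chkP_25300 i (by omega) (by omega)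
              · skip
                rcases Nat.lt_or_ge i 25350 with h8 | h8
                · skip
                  exact allRangeF_sound _ _ (checkPointF_eq cert) 25325 25 chkP_25325 i (by omega) (by omega)
                · skip
                  rcases Nat.lt_or_ge i 25375 with h9 | h9
                  · skip
                    exact allRangeF_sound _ _ (checkPointF_eq cert) 25350 25 chkP_25350 i (by omega) (by omega)
                  · skip
                    exact allRangeF_sound _ _ (checkPointF_eq cert) 25375 25 chkP_25375 i (by omega) (by omega)
        · skip
          rcases Nat.lt_or_ge i 25625 with h5 | h5
          · skip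
            rcases Nat.lt_or_ge i 25500 with h6 | h6
            · skip
              rcases Nat.lt_or_ge i 25450 with h7 | h7
              · skip
                rcases Nat.lt_or_ge i 25425 with h8 | h8
                · skip
                  exact allRangeF_sound _ _ (checkPointF_eq cert) 25400 25 chkP_25400 i (by omega) (by omega)
                · skip
                  exact allRangeF_sound _ _ (checkPointF_eq cert) 25425 25 chkP_25425 i (by omega) (by omega)
              · skip
                rcases Nat.lt_or_ge i 25475 with h8 | h8
                · skip
                  exact allRangeF_sound _ _ (checkPointF_eq cert) 25450 25 chkP_25450 i (by omega) (by omega)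
                · skip
                  exact allRangeF_sound _ _ (checkPointF_eq cert) 25475 25 chkP_25475 i (by omega) (by omega)
            · skip
              rcases Nat.lt_or_ge i 25550 with h7 | h7
              · skip
                rcases Nat.lt_or_ge i 25525 with h8 | h8
                · skip
                  exact allRangeF_sound _ _ (checkPointF_eq cert) 25500 25 chkP_25500 i (by omega) (by omega)
                · skip
                  exact allRangeF_sound _ _ (checkPointF_eq cert) 25525 25 chkP_25525 i (by omega) (by omega)
              · skip
                rcases Nat.lt_or_ge i 25575 with h8 | h8
                · skip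
                  exact allRangeF_sound _ _ (checkPointF_eq cert) 25550 25 chkP_25550 i (by omega) (by omega)
                · skip
                  rcases Nat.lt_or_ge i 25600 with h9 | h9
                  · skip
                    exact allRangeF_sound _ _ (checkPointF_eq cert) 25575 25 chkP_25575 i (by omega) (by omega)
                  · skip
                    exact allRangeF_sound _ _ (checkPointF_eq cert) 25600 25 chkP_25600 i (by omega) (by omega)
          · skip
            rcases Nat.lt_or_ge i 25750 with h6 | h6
            · skip
              rcases Nat.lt_or_ge i 25675 with h7 | h7
              · skip
                rcases Nat.lt_or_ge i 25650 with h8 | h8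
                · skip
                  exact allRangeF_sound _ _ (checkPointF_eq cert) 25625 25 chkP_25625 i (by omega) (by omega)
                · skip
                  exact allRangeF_sound _ _ (checkPointF_eq cert) 25650 25 chkP_25650 i (by omega) (by omega)
              · skip
                rcases Nat.lt_or_ge i 25700 with h8 | h8
                · skip
                  exact allRangeF_sound _ _ (checkPointF_eq cert) 25675 25 chkP_25675 i (by omega) (by omega)
                · skip
                  rcases Nat.lt_or_ge i 25725 with h9 | h9
                  · skip
                    exact allRangeF_sound _ _ (checkPointF_eq cert) 25700 25 chkP_25700 i (by omega) (by omega)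
                  · skip
                    exact allRangeF_sound _ _ (checkPointF_eq cert) 25725 25 chkP_25725 i (by omega) (by omega)
            · skip
              rcases Nat.lt_or_ge i 25800 with h7 | h7
              · skip
                rcases Nat.lt_or_ge i 25775 with h8 | h8
                · skip
                  exact allRangeF_sound _ _ (checkPointF_eq cert) 25750 25 chkP_25750 i (by omega) (by omega)
                · skip
                  exact allRangeF_sound _ _ (checkPointF_eq cert) 25775 25 chkP_25775 i (by omega) (by omega)
              · skip
                rcases Nat.lt_or_ge i 25825 with h8 | h8
                · skip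
                  exact allRangeF_sound _ _ (checkPointF_eq cert) 25800 25 chkP_25800 i (by omega) (by omega)
                · skip
                  rcases Nat.lt_or_ge i 25850 with h9 | h9
                  · skip
                    exact allRangeF_sound _ _ (checkPointF_eq cert) 25825 25 chkP_25825 i (by omega) (by omega)
                  · skip
                    exact allRangeF_sound _ _ (checkPointF_eq cert) 25850 25 chkP_25850 i (by omega) (by omega)
      · skip
        rcases Nat.lt_or_ge i 26350 with h4 | h4
        · skip
          rcases Nat.lt_or_ge i 26100 with h5 | h5
          · skip
            rcases Nat.lt_or_ge i 25975 with h6 | h6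
            · skip
              rcases Nat.lt_or_ge i 25925 with h7 | h7
              · skip
                rcases Nat.lt_or_ge i 25900 with h8 | h8
                · skip
                  exact allRangeF_sound _ _ (checkPointF_eq cert) 25875 25 chkP_25875 i (by omega) (by omega)
                · skip
                  exact allRangeF_sound _ _ (checkPointF_eq cert) 25900 25 chkP_25900 i (by omega) (by omega)
              · skip
                rcases Nat.lt_or_ge i 25950 with h8 | h8
                · skip
                  exact allRangeF_sound _ _ (checkPointF_eq cert) 25925 25 chkP_25925 i (by omega) (by omega)
                · skip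
                  exact allRangeF_sound _ _ (checkPointF_eq cert) 25950 25 chkP_25950 i (by omega) (by omega)
            · skip
              rcases Nat.lt_or_ge i 26025 with h7 | h7
              · skip
                rcases Nat.lt_or_ge i 26000 with h8 | h8
                · skip
                  exact allRangeF_sound _ _ (checkPointF_eq cert) 25975 25 chkP_25975 i (by omega) (by omega)
                · skip
                  exact allRangeF_sound _ _ (checkPointF_eq cert) 26000 25 chkP_26000 i (by omega) (by omega)
              · skip
                rcases Nat.lt_or_ge i 26050 with h8 | h8
                · skip
                  exact allRangeF_sound _ _ (checkPointF_eq cert) 26025 25 chkP_26025 i (by omega) (by omega)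
                · skip
                  rcases Nat.lt_or_ge i 26075 with h9 | h9
                  · skip
                    exact allRangeF_sound _ _ (checkPointF_eq cert) 26050 25 chkP_26050 i (by omega) (by omega)
                  · skip
                    exact allRangeF_sound _ _ (checkPointF_eq cert) 26075 25 chkP_26075 i (by omega) (by omega)
          · skip
            rcases Nat.lt_or_ge i 26225 with h6 | h6
            · skip
              rcases Nat.lt_or_ge i 26150 with h7 | h7
              · skip
                rcases Nat.lt_or_ge i 26125 with h8 | h8
                · skip
                  exact allRangeF_sound _ _ (checkPointF_eq cert) 26100 25 chkP_26100 i (by omega) (by omega)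
                · skip
                  exact allRangeF_sound _ _ (checkPointF_eq cert) 26125 25 chkP_26125 i (by omega) (by omega)
              · skip
                rcases Nat.lt_or_ge i 26175 with h8 | h8
                · skip
                  exact allRangeF_sound _ _ (checkPointF_eq cert) 26150 25 chkP_26150 i (by omega) (by omega)
                · skip
                  rcases Nat.lt_or_ge i 26200 with h9 | h9
                  · skip
                    exact allRangeF_sound _ _ (checkPointF_eq cert) 26175 25 chkP_26175 i (by omega) (by omega)
                  · skip
                    exact allRangeF_sound _ _ (checkPointF_eq cert) 26200 25 chkP_26200 i (by omega) (by omega)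
            · skip
              rcases Nat.lt_or_ge i 26275 with h7 | h7
              · skip
                rcases Nat.lt_or_ge i 26250 with h8 | h8
                · skip
                  exact allRangeF_sound _ _ (checkPointF_eq cert) 26225 25 chkP_26225 i (by omega) (by omega)
                · skip
                  exact allRangeF_sound _ _ (checkPointF_eq cert) 26250 25 chkP_26250 i (by omega) (by omega)
              · skip
                rcases Nat.lt_or_ge i 26300 with h8 | h8
                · skip
                  exact allRangeF_sound _ _ (checkPointF_eq cert) 26275 25 chkP_26275 i (by omega) (by omega)
                · skip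
                  rcases Nat.lt_or_ge i 26325 with h9 | h9
                  · skip
                    exact allRangeF_sound _ _ (checkPointF_eq cert) 26300 25 chkP_26300 i (by omega) (by omega)
                  · skip
                    exact allRangeF_sound _ _ (checkPointF_eq cert) 26325 25 chkP_26325 i (by omega) (by omega)
        · skip
          rcases Nat.lt_or_ge i 26600 with h5 | h5
          · skip
            rcases Nat.lt_or_ge i 26475 with h6 | h6
            · skip
              rcases Nat.lt_or_ge i 26400 with h7 | h7
              · skip
                rcases Nat.lt_or_ge i 26375 with h8 | h8
                · skip
                  exact allRangeF_sound _ _ (checkPointF_eq cert) 26350 25 chkP_26350 i (by omega) (by omega)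
                · skip
                  exact allRangeF_sound _ _ (checkPointF_eq cert) 26375 25 chkP_26375 i (by omega) (by omega)
              · skip
                rcases Nat.lt_or_ge i 26425 with h8 | h8
                · skip
                  exact allRangeF_sound _ _ (checkPointF_eq cert) 26400 25 chkP_26400 i (by omega) (by omega)
                · skip
                  rcases Nat.lt_or_ge i 26450 with h9 | h9
                  · skip
                    exact allRangeF_sound _ _ (checkPointF_eq cert) 26425 25 chkP_26425 i (by omega) (by omega)
                  · skip
                    exact allRangeF_sound _ _ (checkPointF_eq cert) 26450 25 chkP_26450 i (by omega) (by omega)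
            · skip
              rcases Nat.lt_or_ge i 26525 with h7 | h7
              · skip
                rcases Nat.lt_or_ge i 26500 with h8 | h8
                · skip
                  exact allRangeF_sound _ _ (checkPointF_eq cert) 26475 25 chkP_26475 i (by omega) (by omega)
                · skip
                  exact allRangeF_sound _ _ (checkPointF_eq cert) 26500 25 chkP_26500 i (by omega) (by omega)
              · skip
                rcases Nat.lt_or_ge i 26550 with h8 | h8
                · skip
                  exact allRangeF_sound _ _ (checkPointF_eq cert) 26525 25 chkP_26525 i (by omega) (by omega)
                · skip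
                  rcases Nat.lt_or_ge i 26575 with h9 | h9
                  · skip
                    exact allRangeF_sound _ _ (checkPointF_eq cert) 26550 25 chkP_26550 i (by omega) (by omega)
                  · skip
                    exact allRangeF_sound _ _ (checkPointF_eq cert) 26575 25 chkP_26575 i (by omega) (by omega)
          · skip
            rcases Nat.lt_or_ge i 26725 with h6 | h6
            · skip
              rcases Nat.lt_or_ge i 26650 with h7 | h7
              · skip
                rcases Nat.lt_or_ge i 26625 with h8 | h8
                · skip
                  exact allRangeF_sound _ _ (checkPointF_eq cert) 26600 25 chkP_26600 i (by omega) (by omega)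
                · skip
                  exact allRangeF_sound _ _ (checkPointF_eq cert) 26625 25 chkP_26625 i (by omega) (by omega)
              · skip
                rcases Nat.lt_or_ge i 26675 with h8 | h8
                · skip
                  exact allRangeF_sound _ _ (checkPointF_eq cert) 26650 25 chkP_26650 i (by omega) (by omega)
                · skip
                  rcases Nat.lt_or_ge i 26700 with h9 | h9
                  · skip
                    exact allRangeF_sound _ _ (checkPointF_eq cert) 26675 25 chkP_26675 i (by omega) (by omega)
                  · skip
                    exact allRangeF_sound _ _ (checkPointF_eq cert) 26700 25 chkP_26700 i (by omega) (by omega)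
            · skip
              rcases Nat.lt_or_ge i 26775 with h7 | h7
              · skip
                rcases Nat.lt_or_ge i 26750 with h8 | h8
                · skip
                  exact allRangeF_sound _ _ (checkPointF_eq cert) 26725 25 chkP_26725 i (by omega) (by omega)
                · skip
                  exact allRangeF_sound _ _ (checkPointF_eq cert) 26750 25 chkP_26750 i (by omega) (by omega)
              · skip
                rcases Nat.lt_or_ge i 26800 with h8 | h8
                · skip
                  exact allRangeF_sound _ _ (checkPointF_eq cert) 26775 25 chkP_26775 i (by omega) (by omega)
                · skip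
                  rcases Nat.lt_or_ge i 26825 with h9 | h9
                  · skip
                    exact allRangeF_sound _ _ (checkPointF_eq cert) 26800 25 chkP_26800 i (by omega) (by omega)
                  · skip
                    exact allRangeF_sound _ _ (checkPointF_eq cert) 26825 25 chkP_26825 i (by omega) (by omega)
  · skip
    rcases Nat.lt_or_ge i 28775 with h2 | h2
    · skip
      rcases Nat.lt_or_ge i 27800 with h3 | h3
      · skip
        rcases Nat.lt_or_ge i 27325 with h4 | h4
        · skip
          rcases Nat.lt_or_ge i 27075 with h5 | h5
          · skip
            rcases Nat.lt_or_ge i 26950 with h6 | h6
            · skip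
              rcases Nat.lt_or_ge i 26900 with h7 | h7
              · skip
                rcases Nat.lt_or_ge i 26875 with h8 | h8
                · skip
                  exact allRangeF_sound _ _ (checkPointF_eq cert) 26850 25 chkP_26850 i (by omega) (by omega)
                · skip
                  exact allRangeF_sound _ _ (checkPointF_eq cert) 26875 25 chkP_26875 i (by omega) (by omega)
              · skip
                rcases Nat.lt_or_ge i 26925 with h8 | h8
                · skip
                  exact allRangeF_sound _ _ (checkPointF_eq cert) 26900 25 chkP_26900 i (by omega) (by omega)
                · skip
                  exact allRangeF_sound _ _ (checkPointF_eq cert) 26925 25 chkP_26925 i (by omega) (by omega)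
            · skip
              rcases Nat.lt_or_ge i 27000 with h7 | h7
              · skip
                rcases Nat.lt_or_ge i 26975 with h8 | h8
                · skip
                  exact allRangeF_sound _ _ (checkPointF_eq cert) 26950 25 chkP_26950 i (by omega) (by omega)
                · skip
                  exact allRangeF_sound _ _ (checkPointF_eq cert) 26975 25 chkP_26975 i (by omega) (by omega)
              · skip
                rcases Nat.lt_or_ge i 27025 with h8 | h8
                · skip
                  exact allRangeF_sound _ _ (checkPointF_eq cert) 27000 25 chkP_27000 i (by omega) (by omega)
                · skip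
                  rcases Nat.lt_or_ge i 27050 with h9 | h9
                  · skip
                    exact allRangeF_sound _ _ (checkPointF_eq cert) 27025 25 chkP_27025 i (by omega) (by omega)
                  · skip
                    exact allRangeF_sound _ _ (checkPointF_eq cert) 27050 25 chkP_27050 i (by omega) (by omega)
          · skip
            rcases Nat.lt_or_ge i 27200 with h6 | h6
            · skip
              rcases Nat.lt_or_ge i 27125 with h7 | h7
              · skip
                rcases Nat.lt_or_ge i 27100 with h8 | h8
                · skip
                  exact allRangeF_sound _ _ (checkPointF_eq cert) 27075 25 chkP_27075 i (by omega) (by omega)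
                · skip
                  exact allRangeF_sound _ _ (checkPointF_eq cert) 27100 25 chkP_27100 i (by omega) (by omega)
              · skip
                rcases Nat.lt_or_ge i 27150 with h8 | h8
                · skip
                  exact allRangeF_sound _ _ (checkPointF_eq cert) 27125 25 chkP_27125 i (by omega) (by omega)
                · skip
                  rcases Nat.lt_or_ge i 27175 with h9 | h9
                  · skip
                    exact allRangeF_sound _ _ (checkPointF_eq cert) 27150 25 chkP_27150 i (by omega) (by omega)
                  · skip
                    exact allRangeF_sound _ _ (checkPointF_eq cert) 27175 25 chkP_27175 i (by omega) (by omega)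
            · skip
              rcases Nat.lt_or_ge i 27250 with h7 | h7
              · skip
                rcases Nat.lt_or_ge i 27225 with h8 | h8
                · skip
                  exact allRangeF_sound _ _ (checkPointF_eq cert) 27200 25 chkP_27200 i (by omega) (by omega)
                · skip
                  exact allRangeF_sound _ _ (checkPointF_eq cert) 27225 25 chkP_27225 i (by omega) (by omega)
              · skip
                rcases Nat.lt_or_ge i 27275 with h8 | h8
                · skip
                  exact allRangeF_sound _ _ (checkPointF_eq cert) 27250 25 chkP_27250 i (by omega) (by omega)
                · skip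
                  rcases Nat.lt_or_ge i 27300 with h9 | h9
                  · skip
                    exact allRangeF_sound _ _ (checkPointF_eq cert) 27275 25 chkP_27275 i (by omega) (by omega)
                  · skip
                    exact allRangeF_sound _ _ (checkPointF_eq cert) 27300 25 chkP_27300 i (by omega) (by omega)
        · skip
          rcases Nat.lt_or_ge i 27550 with h5 | h5
          · skip
            rcases Nat.lt_or_ge i 27425 with h6 | h6
            · skip
              rcases Nat.lt_or_ge i 27375 with h7 | h7
              · skip
                rcases Nat.lt_or_ge i 27350 with h8 | h8
                · skip
                  exact allRangeF_sound _ _ (checkPointF_eq cert) 27325 25 chkP_27325 i (by omega) (by omega)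
                · skip
                  exact allRangeF_sound _ _ (checkPointF_eq cert) 27350 25 chkP_27350 i (by omega) (by omega)
              · skip
                rcases Nat.lt_or_ge i 27400 with h8 | h8
                · skip
                  exact allRangeF_sound _ _ (checkPointF_eq cert) 27375 25 chkP_27375 i (by omega) (by omega)
                · skip
                  exact allRangeF_sound _ _ (checkPointF_eq cert) 27400 25 chkP_27400 i (by omega) (by omega)
            · skip
              rcases Nat.lt_or_ge i 27475 with h7 | h7
              · skip
                rcases Nat.lt_or_ge i 27450 with h8 | h8
                · skip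
                  exact allRangeF_sound _ _ (checkPointF_eq cert) 27425 25 chkP_27425 i (by omega) (by omega)
                · skip
                  exact allRangeF_sound _ _ (checkPointF_eq cert) 27450 25 chkP_27450 i (by omega) (by omega)
              · skip
                rcases Nat.lt_or_ge i 27500 with h8 | h8
                · skip
                  exact allRangeF_sound _ _ (checkPointF_eq cert) 27475 25 chkP_27475 i (by omega) (by omega)
                · skip
                  rcases Nat.lt_or_ge i 27525 with h9 | h9
                  · skip
                    exact allRangeF_sound _ _ (checkPointF_eq cert) 27500 25 chkP_27500 i (by omega) (by omega)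
                  · skip
                    exact allRangeF_sound _ _ (checkPointF_eq cert) 27525 25 chkP_27525 i (by omega) (by omega)
          · skip
            rcases Nat.lt_or_ge i 27675 with h6 | h6
            · skip
              rcases Nat.lt_or_ge i 27600 with h7 | h7
              · skip
                rcases Nat.lt_or_ge i 27575 with h8 | h8
                · skip
                  exact allRangeF_sound _ _ (checkPointF_eq cert) 27550 25 chkP_27550 i (by omega) (by omega)
                · skip
                  exact allRangeF_sound _ _ (checkPointF_eq cert) 27575 25 chkP_27575 i (by omega) (by omega)
              · skip
                rcases Nat.lt_or_ge i 27625 with h8 | h8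
                · skip
                  exact allRangeF_sound _ _ (checkPointF_eq cert) 27600 25 chkP_27600 i (by omega) (by omega)
                · skip
                  rcases Nat.lt_or_ge i 27650 with h9 | h9
                  · skip
                    exact allRangeF_sound _ _ (checkPointF_eq cert) 27625 25 chkP_27625 i (by omega) (by omega)
                  · skip
                    exact allRangeF_sound _ _ (checkPointF_eq cert) 27650 25 chkP_27650 i (by omega) (by omega)
            · skip
              rcases Nat.lt_or_ge i 27725 with h7 | h7
              · skip
                rcases Nat.lt_or_ge i 27700 with h8 | h8
                · skip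
                  exact allRangeF_sound _ _ (checkPointF_eq cert) 27675 25 chkP_27675 i (by omega) (by omega)
                · skip
                  exact allRangeF_sound _ _ (checkPointF_eq cert) 27700 25 chkP_27700 i (by omega) (by omega)
              · skip
                rcases Nat.lt_or_ge i 27750 with h8 | h8
                · skip
                  exact allRangeF_sound _ _ (checkPointF_eq cert) 27725 25 chkP_27725 i (by omega) (by omega)
                · skip
                  rcases Nat.lt_or_ge i 27775 with h9 | h9
                  · skip
                    exact allRangeF_sound _ _ (checkPointF_eq cert) 27750 25 chkP_27750 i (by omega) (by omega)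
                  · skip
                    exact allRangeF_sound _ _ (checkPointF_eq cert) 27775 25 chkP_27775 i (by omega) (by omega)
      · skip
        rcases Nat.lt_or_ge i 28275 with h4 | h4
        · skip
          rcases Nat.lt_or_ge i 28025 with h5 | h5
          · skip
            rcases Nat.lt_or_ge i 27900 with h6 | h6
            · skip
              rcases Nat.lt_or_ge i 27850 with h7 | h7
              · skip
                rcases Nat.lt_or_ge i 27825 with h8 | h8
                · skip
                  exact allRangeF_sound _ _ (checkPointF_eq cert) 27800 25 chkP_27800 i (by omega) (by omega)
                · skip
                  exact allRangeF_sound _ _ (checkPointF_eq cert) 27825 25 chkP_27825 i (by omega) (by omega)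
              · skip
                rcases Nat.lt_or_ge i 27875 with h8 | h8
                · skip
                  exact allRangeF_sound _ _ (checkPointF_eq cert) 27850 25 chkP_27850 i (by omega) (by omega)
                · skip
                  exact allRangeF_sound _ _ (checkPointF_eq cert) 27875 25 chkP_27875 i (by omega) (by omega)
            · skip
              rcases Nat.lt_or_ge i 27950 with h7 | h7
              · skip
                rcases Nat.lt_or_ge i 27925 with h8 | h8
                · skip
                  exact allRangeF_sound _ _ (checkPointF_eq cert) 27900 25 chkP_27900 i (by omega) (by omega)
                · skip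
                  exact allRangeF_sound _ _ (checkPointF_eq cert) 27925 25 chkP_27925 i (by omega) (by omega)
              · skip
                rcases Nat.lt_or_ge i 27975 with h8 | h8
                · skip
                  exact allRangeF_sound _ _ (checkPointF_eq cert) 27950 25 chkP_27950 i (by omega) (by omega)
                · skip
                  rcases Nat.lt_or_ge i 28000 with h9 | h9
                  · skip
                    exact allRangeF_sound _ _ (checkPointF_eq cert) 27975 25 chkP_27975 i (by omega) (by omega)
                  · skip
                    exact allRangeF_sound _ _ (checkPointF_eq cert) 28000 25 chkP_28000 i (by omega) (by omega)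
          · skip
            rcases Nat.lt_or_ge i 28150 with h6 | h6
            · skip
              rcases Nat.lt_or_ge i 28075 with h7 | h7
              · skip
                rcases Nat.lt_or_ge i 28050 with h8 | h8
                · skip
                  exact allRangeF_sound _ _ (checkPointF_eq cert) 28025 25 chkP_28025 i (by omega) (by omega)
                · skip
                  exact allRangeF_sound _ _ (checkPointF_eq cert) 28050 25 chkP_28050 i (by omega) (by omega)
              · skip
                rcases Nat.lt_or_ge i 28100 with h8 | h8
                · skip
                  exact allRangeF_sound _ _ (checkPointF_eq cert) 28075 25 chkP_28075 i (by omega) (by omega)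
                · skip
                  rcases Nat.lt_or_ge i 28125 with h9 | h9
                  · skip
                    exact allRangeF_sound _ _ (checkPointF_eq cert) 28100 25 chkP_28100 i (by omega) (by omega)
                  · skip
                    exact allRangeF_sound _ _ (checkPointF_eq cert) 28125 25 chkP_28125 i (by omega) (by omega)
            · skip
              rcases Nat.lt_or_ge i 28200 with h7 | h7
              · skip
                rcases Nat.lt_or_ge i 28175 with h8 | h8
                · skip
                  exact allRangeF_sound _ _ (checkPointF_eq cert) 28150 25 chkP_28150 i (by omega) (by omega)
                · skip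
                  exact allRangeF_sound _ _ (checkPointF_eq cert) 28175 25 chkP_28175 i (by omega) (by omega)
              · skip
                rcases Nat.lt_or_ge i 28225 with h8 | h8
                · skip
                  exact allRangeF_sound _ _ (checkPointF_eq cert) 28200 25 chkP_28200 i (by omega) (by omega)
                · skip
                  rcases Nat.lt_or_ge i 28250 with h9 | h9
                  · skip
                    exact allRangeF_sound _ _ (checkPointF_eq cert) 28225 25 chkP_28225 i (by omega) (by omega)
                  · skip
                    exact allRangeF_sound _ _ (checkPointF_eq cert) 28250 25 chkP_28250 i (by omega) (by omega)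
        · skip
          rcases Nat.lt_or_ge i 28525 with h5 | h5
          · skip
            rcases Nat.lt_or_ge i 28400 with h6 | h6
            · skip
              rcases Nat.lt_or_ge i 28325 with h7 | h7
              · skip
                rcases Nat.lt_or_ge i 28300 with h8 | h8
                · skip
                  exact allRangeF_sound _ _ (checkPointF_eq cert) 28275 25 chkP_28275 i (by omega) (by omega)
                · skip
                  exact allRangeF_sound _ _ (checkPointF_eq cert) 28300 25 chkP_28300 i (by omega) (by omega)
              · skip
                rcases Nat.lt_or_ge i 28350 with h8 | h8
                · skip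
                  exact allRangeF_sound _ _ (checkPointF_eq cert) 28325 25 chkP_28325 i (by omega) (by omega)
                · skip
                  rcases Nat.lt_or_ge i 28375 with h9 | h9
                  · skip
                    exact allRangeF_sound _ _ (checkPointF_eq cert) 28350 25 chkP_28350 i (by omega) (by omega)
                  · skip
                    exact allRangeF_sound _ _ (checkPointF_eq cert) 28375 25 chkP_28375 i (by omega) (by omega)
            · skip
              rcases Nat.lt_or_ge i 28450 with h7 | h7
              · skip
                rcases Nat.lt_or_ge i 28425 with h8 | h8
                · skip
                  exact allRangeF_sound _ _ (checkPointF_eq cert) 28400 25 chkP_28400 i (by omega) (by omega)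
                · skip
                  exact allRangeF_sound _ _ (checkPointF_eq cert) 28425 25 chkP_28425 i (by omega) (by omega)
              · skip
                rcases Nat.lt_or_ge i 28475 with h8 | h8
                · skip
                  exact allRangeF_sound _ _ (checkPointF_eq cert) 28450 25 chkP_28450 i (by omega) (by omega)
                · skip
                  rcases Nat.lt_or_ge i 28500 with h9 | h9
                  · skip
                    exact allRangeF_sound _ _ (checkPointF_eq cert) 28475 25 chkP_28475 i (by omega) (by omega)
                  · skip
                    exact allRangeF_sound _ _ (checkPointF_eq cert) 28500 25 chkP_28500 i (by omega) (by omega)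
          · skip
            rcases Nat.lt_or_ge i 28650 with h6 | h6
            · skip
              rcases Nat.lt_or_ge i 28575 with h7 | h7
              · skip
                rcases Nat.lt_or_ge i 28550 with h8 | h8
                · skip
                  exact allRangeF_sound _ _ (checkPointF_eq cert) 28525 25 chkP_28525 i (by omega) (by omega)
                · skip
                  exact allRangeF_sound _ _ (checkPointF_eq cert) 28550 25 chkP_28550 i (by omega) (by omega)
              · skip
                rcases Nat.lt_or_ge i 28600 with h8 | h8
                · skip
                  exact allRangeF_sound _ _ (checkPointF_eq cert) 28575 25 chkP_28575 i (by omega) (by omega)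
                · skip
                  rcases Nat.lt_or_ge i 28625 with h9 | h9
                  · skip
                    exact allRangeF_sound _ _ (checkPointF_eq cert) 28600 25 chkP_28600 i (by omega) (by omega)
                  · skip
                    exact allRangeF_sound _ _ (checkPointF_eq cert) 28625 25 chkP_28625 i (by omega) (by omega)
            · skip
              rcases Nat.lt_or_ge i 28700 with h7 | h7
              · skip
                rcases Nat.lt_or_ge i 28675 with h8 | h8
                · skip
                  exact allRangeF_sound _ _ (checkPointF_eq cert) 28650 25 chkP_28650 i (by omega) (by omega)
                · skip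
                  exact allRangeF_sound _ _ (checkPointF_eq cert) 28675 25 chkP_28675 i (by omega) (by omega)
              · skip
                rcases Nat.lt_or_ge i 28725 with h8 | h8
                · skip
                  exact allRangeF_sound _ _ (checkPointF_eq cert) 28700 25 chkP_28700 i (by omega) (by omega)
                · skip
                  rcases Nat.lt_or_ge i 28750 with h9 | h9
                  · skip
                    exact allRangeF_sound _ _ (checkPointF_eq cert) 28725 25 chkP_28725 i (by omega) (by omega)
                  · skip
                    exact allRangeF_sound _ _ (checkPointF_eq cert) 28750 25 chkP_28750 i (by omega) (by omega)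
    · skip
      rcases Nat.lt_or_ge i 29725 with h3 | h3
      · skip
        rcases Nat.lt_or_ge i 29250 with h4 | h4
        · skip
          rcases Nat.lt_or_ge i 29000 with h5 | h5
          · skip
            rcases Nat.lt_or_ge i 28875 with h6 | h6
            · skip
              rcases Nat.lt_or_ge i 28825 with h7 | h7
              · skip
                rcases Nat.lt_or_ge i 28800 with h8 | h8
                · skip
                  exact allRangeF_sound _ _ (checkPointF_eq cert) 28775 25 chkP_28775 i (by omega) (by omega)
                · skip
                  exact allRangeF_sound _ _ (checkPointF_eq cert) 28800 25 chkP_28800 i (by omega) (by omega)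
              · skip
                rcases Nat.lt_or_ge i 28850 with h8 | h8
                · skip
                  exact allRangeF_sound _ _ (checkPointF_eq cert) 28825 25 chkP_28825 i (by omega) (by omega)
                · skip
                  exact allRangeF_sound _ _ (checkPointF_eq cert) 28850 25 chkP_28850 i (by omega) (by omega)
            · skip
              rcases Nat.lt_or_ge i 28925 with h7 | h7
              · skip
                rcases Nat.lt_or_ge i 28900 with h8 | h8
                · skip
                  exact allRangeF_sound _ _ (checkPointF_eq cert) 28875 25 chkP_28875 i (by omega) (by omega)
                · skip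
                  exact allRangeF_sound _ _ (checkPointF_eq cert) 28900 25 chkP_28900 i (by omega) (by omega)
              · skip
                rcases Nat.lt_or_ge i 28950 with h8 | h8
                · skip
                  exact allRangeF_sound _ _ (checkPointF_eq cert) 28925 25 chkP_28925 i (by omega) (by omega)
                · skip
                  rcases Nat.lt_or_ge i 28975 with h9 | h9
                  · skip
                    exact allRangeF_sound _ _ (checkPointF_eq cert) 28950 25 chkP_28950 i (by omega) (by omega)
                  · skip
                    exact allRangeF_sound _ _ (checkPointF_eq cert) 28975 25 chkP_28975 i (by omega) (by omega)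
          · skip
            rcases Nat.lt_or_ge i 29125 with h6 | h6
            · skip
              rcases Nat.lt_or_ge i 29050 with h7 | h7
              · skip
                rcases Nat.lt_or_ge i 29025 with h8 | h8
                · skip
                  exact allRangeF_sound _ _ (checkPointF_eq cert) 29000 25 chkP_29000 i (by omega) (by omega)
                · skip
                  exact allRangeF_sound _ _ (checkPointF_eq cert) 29025 25 chkP_29025 i (by omega) (by omega)
              · skip
                rcases Nat.lt_or_ge i 29075 with h8 | h8
                · skip
                  exact allRangeF_sound _ _ (checkPointF_eq cert) 29050 25 chkP_29050 i (by omega) (by omega)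
                · skip
                  rcases Nat.lt_or_ge i 29100 with h9 | h9
                  · skip
                    exact allRangeF_sound _ _ (checkPointF_eq cert) 29075 25 chkP_29075 i (by omega) (by omega)
                  · skip
                    exact allRangeF_sound _ _ (checkPointF_eq cert) 29100 25 chkP_29100 i (by omega) (by omega)
            · skip
              rcases Nat.lt_or_ge i 29175 with h7 | h7
              · skip
                rcases Nat.lt_or_ge i 29150 with h8 | h8
                · skip
                  exact allRangeF_sound _ _ (checkPointF_eq cert) 29125 25 chkP_29125 i (by omega) (by omega)
                · skip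
                  exact allRangeF_sound _ _ (checkPointF_eq cert) 29150 25 chkP_29150 i (by omega) (by omega)
              · skip
                rcases Nat.lt_or_ge i 29200 with h8 | h8
                · skip
                  exact allRangeF_sound _ _ (checkPointF_eq cert) 29175 25 chkP_29175 i (by omega) (by omega)
                · skip
                  rcases Nat.lt_or_ge i 29225 with h9 | h9
                  · skip
                    exact allRangeF_sound _ _ (checkPointF_eq cert) 29200 25 chkP_29200 i (by omega) (by omega)
                  · skip
                    exact allRangeF_sound _ _ (checkPointF_eq cert) 29225 25 chkP_29225 i (by omega) (by omega)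
        · skip
          rcases Nat.lt_or_ge i 29475 with h5 | h5
          · skip
            rcases Nat.lt_or_ge i 29350 with h6 | h6
            · skip
              rcases Nat.lt_or_ge i 29300 with h7 | h7
              · skip
                rcases Nat.lt_or_ge i 29275 with h8 | h8
                · skip
                  exact allRangeF_sound _ _ (checkPointF_eq cert) 29250 25 chkP_29250 i (by omega) (by omega)
                · skip
                  exact allRangeF_sound _ _ (checkPointF_eq cert) 29275 25 chkP_29275 i (by omega) (by omega)
              · skip
                rcases Nat.lt_or_ge i 29325 with h8 | h8
                · skip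
                  exact allRangeF_sound _ _ (checkPointF_eq cert) 29300 25 chkP_29300 i (by omega) (by omega)
                · skip
                  exact allRangeF_sound _ _ (checkPointF_eq cert) 29325 25 chkP_29325 i (by omega) (by omega)
            · skip
              rcases Nat.lt_or_ge i 29400 with h7 | h7
              · skip
                rcases Nat.lt_or_ge i 29375 with h8 | h8
                · skip
                  exact allRangeF_sound _ _ (checkPointF_eq cert) 29350 25 chkP_29350 i (by omega) (by omega)
                · skip
                  exact allRangeF_sound _ _ (checkPointF_eq cert) 29375 25 chkP_29375 i (by omega) (by omega)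
              · skip
                rcases Nat.lt_or_ge i 29425 with h8 | h8
                · skip
                  exact allRangeF_sound _ _ (checkPointF_eq cert) 29400 25 chkP_29400 i (by omega) (by omega)
                · skip
                  rcases Nat.lt_or_ge i 29450 with h9 | h9
                  · skip
                    exact allRangeF_sound _ _ (checkPointF_eq cert) 29425 25 chkP_29425 i (by omega) (by omega)
                  · skip
                    exact allRangeF_sound _ _ (checkPointF_eq cert) 29450 25 chkP_29450 i (by omega) (by omega)
          · skip
            rcases Nat.lt_or_ge i 29600 with h6 | h6
            · skip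
              rcases Nat.lt_or_ge i 29525 with h7 | h7
              · skip
                rcases Nat.lt_or_ge i 29500 with h8 | h8
                · skip
                  exact allRangeF_sound _ _ (checkPointF_eq cert) 29475 25 chkP_29475 i (by omega) (by omega)
                · skip
                  exact allRangeF_sound _ _ (checkPointF_eq cert) 29500 25 chkP_29500 i (by omega) (by omega)
              · skip
                rcases Nat.lt_or_ge i 29550 with h8 | h8
                · skip
                  exact allRangeF_sound _ _ (checkPointF_eq cert) 29525 25 chkP_29525 i (by omega) (by omega)
                · skip
                  rcases Nat.lt_or_ge i 29575 with h9 | h9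
                  · skip
                    exact allRangeF_sound _ _ (checkPointF_eq cert) 29550 25 chkP_29550 i (by omega) (by omega)
                  · skip
                    exact allRangeF_sound _ _ (checkPointF_eq cert) 29575 25 chkP_29575 i (by omega) (by omega)
            · skip
              rcases Nat.lt_or_ge i 29650 with h7 | h7
              · skip
                rcases Nat.lt_or_ge i 29625 with h8 | h8
                · skip
                  exact allRangeF_sound _ _ (checkPointF_eq cert) 29600 25 chkP_29600 i (by omega) (by omega)
                · skip
                  exact allRangeF_sound _ _ (checkPointF_eq cert) 29625 25 chkP_29625 i (by omega) (by omega)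
              · skip
                rcases Nat.lt_or_ge i 29675 with h8 | h8
                · skip
                  exact allRangeF_sound _ _ (checkPointF_eq cert) 29650 25 chkP_29650 i (by omega) (by omega)
                · skip
                  rcases Nat.lt_or_ge i 29700 with h9 | h9
                  · skip
                    exact allRangeF_sound _ _ (checkPointF_eq cert) 29675 25 chkP_29675 i (by omega) (by omega)
                  · skip
                    exact allRangeF_sound _ _ (checkPointF_eq cert) 29700 25 chkP_29700 i (by omega) (by omega)
      · skip
        rcases Nat.lt_or_ge i 30200 with h4 | h4
        · skip
          rcases Nat.lt_or_ge i 29950 with h5 | h5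
          · skip
            rcases Nat.lt_or_ge i 29825 with h6 | h6
            · skip
              rcases Nat.lt_or_ge i 29775 with h7 | h7
              · skip
                rcases Nat.lt_or_ge i 29750 with h8 | h8
                · skip
                  exact allRangeF_sound _ _ (checkPointF_eq cert) 29725 25 chkP_29725 i (by omega) (by omega)
                · skip
                  exact allRangeF_sound _ _ (checkPointF_eq cert) 29750 25 chkP_29750 i (by omega) (by omega)
              · skip
                rcases Nat.lt_or_ge i 29800 with h8 | h8
                · skip
                  exact allRangeF_sound _ _ (checkPointF_eq cert) 29775 25 chkP_29775 i (by omega) (by omega)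
                · skip
                  exact allRangeF_sound _ _ (checkPointF_eq cert) 29800 25 chkP_29800 i (by omega) (by omega)
            · skip
              rcases Nat.lt_or_ge i 29875 with h7 | h7
              · skip
                rcases Nat.lt_or_ge i 29850 with h8 | h8
                · skip
                  exact allRangeF_sound _ _ (checkPointF_eq cert) 29825 25 chkP_29825 i (by omega) (by omega)
                · skip
                  exact allRangeF_sound _ _ (checkPointF_eq cert) 29850 25 chkP_29850 i (by omega) (by omega)
              · skip
                rcases Nat.lt_or_ge i 29900 with h8 | h8
                · skip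
                  exact allRangeF_sound _ _ (checkPointF_eq cert) 29875 25 chkP_29875 i (by omega) (by omega)
                · skip
                  rcases Nat.lt_or_ge i 29925 with h9 | h9
                  · skip
                    exact allRangeF_sound _ _ (checkPointF_eq cert) 29900 25 chkP_29900 i (by omega) (by omega)
                  · skip
                    exact allRangeF_sound _ _ (checkPointF_eq cert) 29925 25 chkP_29925 i (by omega) (by omega)
          · skip
            rcases Nat.lt_or_ge i 30075 with h6 | h6
            · skip
              rcases Nat.lt_or_ge i 30000 with h7 | h7
              · skip
                rcases Nat.lt_or_ge i 29975 with h8 | h8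
                · skip
                  exact allRangeF_sound _ _ (checkPointF_eq cert) 29950 25 chkP_29950 i (by omega) (by omega)
                · skip
                  exact allRangeF_sound _ _ (checkPointF_eq cert) 29975 25 chkP_29975 i (by omega) (by omega)
              · skip
                rcases Nat.lt_or_ge i 30025 with h8 | h8
                · skip
                  exact allRangeF_sound _ _ (checkPointF_eq cert) 30000 25 chkP_30000 i (by omega) (by omega)
                · skip
                  rcases Nat.lt_or_ge i 30050 with h9 | h9
                  · skip
                    exact allRangeF_sound _ _ (checkPointF_eq cert) 30025 25 chkP_30025 i (by omega) (by omega)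
                  · skip
                    exact allRangeF_sound _ _ (checkPointF_eq cert) 30050 25 chkP_30050 i (by omega) (by omega)
            · skip
              rcases Nat.lt_or_ge i 30125 with h7 | h7
              · skip
                rcases Nat.lt_or_ge i 30100 with h8 | h8
                · skip
                  exact allRangeF_sound _ _ (checkPointF_eq cert) 30075 25 chkP_30075 i (by omega) (by omega)
                · skip
                  exact allRangeF_sound _ _ (checkPointF_eq cert) 30100 25 chkP_30100 i (by omega) (by omega)
              · skip
                rcases Nat.lt_or_ge i 30150 with h8 | h8
                · skip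
                  exact allRangeF_sound _ _ (checkPointF_eq cert) 30125 25 chkP_30125 i (by omega) (by omega)
                · skip
                  rcases Nat.lt_or_ge i 30175 with h9 | h9
                  · skip
                    exact allRangeF_sound _ _ (checkPointF_eq cert) 30150 25 chkP_30150 i (by omega) (by omega)
                  · skip
                    exact allRangeF_sound _ _ (checkPointF_eq cert) 30175 25 chkP_30175 i (by omega) (by omega)
        · skip
          rcases Nat.lt_or_ge i 30450 with h5 | h5
          · skip
            rcases Nat.lt_or_ge i 30325 with h6 | h6
            · skip
              rcases Nat.lt_or_ge i 30250 with h7 | h7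
              · skip
                rcases Nat.lt_or_ge i 30225 with h8 | h8
                · skip
                  exact allRangeF_sound _ _ (checkPointF_eq cert) 30200 25 chkP_30200 i (by omega) (by omega)
                · skip
                  exact allRangeF_sound _ _ (checkPointF_eq cert) 30225 25 chkP_30225 i (by omega) (by omega)
              · skip
                rcases Nat.lt_or_ge i 30275 with h8 | h8
                · skip
                  exact allRangeF_sound _ _ (checkPointF_eq cert) 30250 25 chkP_30250 i (by omega) (by omega)
                · skip
                  rcases Nat.lt_or_ge i 30300 with h9 | h9
                  · skip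
                    exact allRangeF_sound _ _ (checkPointF_eq cert) 30275 25 chkP_30275 i (by omega) (by omega)
                  · skip
                    exact allRangeF_sound _ _ (checkPointF_eq cert) 30300 25 chkP_30300 i (by omega) (by omega)
            · skip
              rcases Nat.lt_or_ge i 30375 with h7 | h7
              · skip
                rcases Nat.lt_or_ge i 30350 with h8 | h8
                · skip
                  exact allRangeF_sound _ _ (checkPointF_eq cert) 30325 25 chkP_30325 i (by omega) (by omega)
                · skip
                  exact allRangeF_sound _ _ (checkPointF_eq cert) 30350 25 chkP_30350 i (by omega) (by omega)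
              · skip
                rcases Nat.lt_or_ge i 30400 with h8 | h8
                · skip
                  exact allRangeF_sound _ _ (checkPointF_eq cert) 30375 25 chkP_30375 i (by omega) (by omega)
                · skip
                  rcases Nat.lt_or_ge i 30425 with h9 | h9
                  · skip
                    exact allRangeF_sound _ _ (checkPointF_eq cert) 30400 25 chkP_30400 i (by omega) (by omega)
                  · skip
                    exact allRangeF_sound _ _ (checkPointF_eq cert) 30425 25 chkP_30425 i (by omega) (by omega)
          · skip
            rcases Nat.lt_or_ge i 30575 with h6 | h6
            · skip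
              rcases Nat.lt_or_ge i 30500 with h7 | h7
              · skip
                rcases Nat.lt_or_ge i 30475 with h8 | h8
                · skip
                  exact allRangeF_sound _ _ (checkPointF_eq cert) 30450 25 chkP_30450 i (by omega) (by omega)
                · skip
                  exact allRangeF_sound _ _ (checkPointF_eq cert) 30475 25 chkP_30475 i (by omega) (by omega)
              · skip
                rcases Nat.lt_or_ge i 30525 with h8 | h8
                · skip
                  exact allRangeF_sound _ _ (checkPointF_eq cert) 30500 25 chkP_30500 i (by omega) (by omega)
                · skip
                  rcases Nat.lt_or_ge i 30550 with h9 | h9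
                  · skip
                    exact allRangeF_sound _ _ (checkPointF_eq cert) 30525 25 chkP_30525 i (by omega) (by omega)
                  · skip
                    exact allRangeF_sound _ _ (checkPointF_eq cert) 30550 25 chkP_30550 i (by omega) (by omega)
            · skip
              rcases Nat.lt_or_ge i 30625 with h7 | h7
              · skip
                rcases Nat.lt_or_ge i 30600 with h8 | h8
                · skip
                  exact allRangeF_sound _ _ (checkPointF_eq cert) 30575 25 chkP_30575 i (by omega) (by omega)
                · skip
                  exact allRangeF_sound _ _ (checkPointF_eq cert) 30600 25 chkP_30600 i (by omega) (by omega)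
              · skip
                rcases Nat.lt_or_ge i 30650 with h8 | h8
                · skip
                  exact allRangeF_sound _ _ (checkPointF_eq cert) 30625 25 chkP_30625 i (by omega) (by omega)
                · skip
                  rcases Nat.lt_or_ge i 30675 with h9 | h9
                  · skip
                    exact allRangeF_sound _ _ (checkPointF_eq cert) 30650 25 chkP_30650 i (by omega) (by omega)
                  · skip
                    exact allRangeF_sound _ _ (checkPointF_eq cert) 30675 25 chkP_30675 i (by omega) (by omega)

end Cfsg.Agent.Lib.Helper28.Fi24Data
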