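import Cfsg.Agent.Lib.Helper28.Fi24Data
import Cfsg.Agent.Lib.Helper28.TCFastB

set_option autoImplicit false
set_option maxRecDepth 1000000
set_option linter.all false
set_option Elab.async false

namespace Cfsg.Agent.Lib.Helper28.Fi24Data

open Cfsg.Agent.Lib.Helper28B

theorem chkP_230250 : allRangeF (checkPointF cert) (nat_lit 230250) (nat_lit 25) = true := by decide +kernel
theorem chkP_230275 : allRangeF (checkPointF cert) (nat_lit 230275) (nat_lit 25) = true := by decide +kernel
theorem chkP_230300 : allRangeF (checkPointF cert) (nat_lit 230300) (nat_lit 25) = true := by decide +kernel
theorem chkP_230325 : allRangeF (checkPointF cert) (nat_lit 230325) (nat_lit 25) = true := by decide +kernel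
theorem chkP_230350 : allRangeF (checkPointF cert) (nat_lit 230350) (nat_lit 25) = true := by decide +kernel
theorem chkP_230375 : allRangeF (checkPointF cert) (nat_lit 230375) (nat_lit 25) = true := by decide +kernel
theorem chkP_230400 : allRangeF (checkPointF cert) (nat_lit 230400) (nat_lit 25) = true := by decide +kernel
theorem chkP_230425 : allRangeF (checkPointF cert) (nat_lit 230425) (nat_lit 25) = true := by decide +kernel
theorem chkP_230450 : allRangeF (checkPointF cert) (nat_lit 230450) (nat_lit 25) = true := by decide +kernel
theorem chkP_230475 : allRangeF (checkPointF cert) (nat_lit 230475) (nat_lit 25) = true := by decide +kernel
theorem chkP_230500 : allRangeF (checkPointF cert) (nat_lit 230500) (nat_lit 25) = true := by decide +kernel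
theorem chkP_230525 : allRangeF (checkPointF cert) (nat_lit 230525) (nat_lit 25) = true := by decide +kernel
theorem chkP_230550 : allRangeF (checkPointF cert) (nat_lit 230550) (nat_lit 25) = true := by decide +kernel
theorem chkP_230575 : allRangeF (checkPointF cert) (nat_lit 230575) (nat_lit 25) = true := by decide +kernel
theorem chkP_230600 : allRangeF (checkPointF cert) (nat_lit 230600) (nat_lit 25) = true := by decide +kernel
theorem chkP_230625 : allRangeF (checkPointF cert) (nat_lit 230625) (nat_lit 25) = true := by decide +kernel
theorem chkP_230650 : allRangeF (checkPointF cert) (nat_lit 230650) (nat_lit 25) = true := by decide +kernel
theorem chkP_230675 : allRangeF (checkPointF cert) (nat_lit 230675) (nat_lit 25) = true := by decide +kernel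
theorem chkP_230700 : allRangeF (checkPointF cert) (nat_lit 230700) (nat_lit 25) = true := by decide +kernel
theorem chkP_230725 : allRangeF (checkPointF cert) (nat_lit 230725) (nat_lit 25) = true := by decide +kernel
theorem chkP_230750 : allRangeF (checkPointF cert) (nat_lit 230750) (nat_lit 25) = true := by decide +kernel
theorem chkP_230775 : allRangeF (checkPointF cert) (nat_lit 230775) (nat_lit 25) = true := by decide +kernel
theorem chkP_230800 : allRangeF (checkPointF cert) (nat_lit 230800) (nat_lit 25) = true := by decide +kernel
theorem chkP_230825 : allRangeF (checkPointF cert) (nat_lit 230825) (nat_lit 25) = true := by decide +kernel
theorem chkP_230850 : allRangeF (checkPointF cert) (nat_lit 230850) (nat_lit 25) = true := by decide +kernel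
theorem chkP_230875 : allRangeF (checkPointF cert) (nat_lit 230875) (nat_lit 25) = true := by decide +kernel
theorem chkP_230900 : allRangeF (checkPointF cert) (nat_lit 230900) (nat_lit 25) = true := by decide +kernel
theorem chkP_230925 : allRangeF (checkPointF cert) (nat_lit 230925) (nat_lit 25) = true := by decide +kernel
theorem chkP_230950 : allRangeF (checkPointF cert) (nat_lit 230950) (nat_lit 25) = true := by decide +kernel
theorem chkP_230975 : allRangeF (checkPointF cert) (nat_lit 230975) (nat_lit 25) = true := by decide +kernel
theorem chkP_231000 : allRangeF (checkPointF cert) (nat_lit 231000) (nat_lit 25) = true := by decide +kernel
theorem chkP_231025 : allRangeF (checkPointF cert) (nat_lit 231025) (nat_lit 25) = true := by decide +kernel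
theorem chkP_231050 : allRangeF (checkPointF cert) (nat_lit 231050) (nat_lit 25) = true := by decide +kernel
theorem chkP_231075 : allRangeF (checkPointF cert) (nat_lit 231075) (nat_lit 25) = true := by decide +kernel
theorem chkP_231100 : allRangeF (checkPointF cert) (nat_lit 231100) (nat_lit 25) = true := by decide +kernel
theorem chkP_231125 : allRangeF (checkPointF cert) (nat_lit 231125) (nat_lit 25) = true := by decide +kernel
theorem chkP_231150 : allRangeF (checkPointF cert) (nat_lit 231150) (nat_lit 25) = true := by decide +kernel
theorem chkP_231175 : allRangeF (checkPointF cert) (nat_lit 231175) (nat_lit 25) = true := by decide +kernel
theorem chkP_231200 : allRangeF (checkPointF cert) (nat_lit 231200) (nat_lit 25) = true := by decide +kernel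
theorem chkP_231225 : allRangeF (checkPointF cert) (nat_lit 231225) (nat_lit 25) = true := by decide +kernel
theorem chkP_231250 : allRangeF (checkPointF cert) (nat_lit 231250) (nat_lit 25) = true := by decide +kernel
theorem chkP_231275 : allRangeF (checkPointF cert) (nat_lit 231275) (nat_lit 25) = true := by decide +kernel
theorem chkP_231300 : allRangeF (checkPointF cert) (nat_lit 231300) (nat_lit 25) = true := by decide +kernel
theorem chkP_231325 : allRangeF (checkPointF cert) (nat_lit 231325) (nat_lit 25) = true := by decide +kernel
theorem chkP_231350 : allRangeF (checkPointF cert) (nat_lit 231350) (nat_lit 25) = true := by decide +kernel
theorem chkP_231375 : allRangeF (checkPointF cert) (nat_lit 231375) (nat_lit 25) = true := by decide +kernel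
theorem chkP_231400 : allRangeF (checkPointF cert) (nat_lit 231400) (nat_lit 25) = true := by decide +kernel
theorem chkP_231425 : allRangeF (checkPointF cert) (nat_lit 231425) (nat_lit 25) = true := by decide +kernel
theorem chkP_231450 : allRangeF (checkPointF cert) (nat_lit 231450) (nat_lit 25) = true := by decide +kernel
theorem chkP_231475 : allRangeF (checkPointF cert) (nat_lit 231475) (nat_lit 25) = true := by decide +kernel
theorem chkP_231500 : allRangeF (checkPointF cert) (nat_lit 231500) (nat_lit 25) = true := by decide +kernel
theorem chkP_231525 : allRangeF (checkPointF cert) (nat_lit 231525) (nat_lit 25) = true := by decide +kernel
theorem chkP_231550 : allRangeF (checkPointF cert) (nat_lit 231550) (nat_lit 25) = true := by decide +kernel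
theorem chkP_231575 : allRangeF (checkPointF cert) (nat_lit 231575) (nat_lit 25) = true := by decide +kernel
theorem chkP_231600 : allRangeF (checkPointF cert) (nat_lit 231600) (nat_lit 25) = true := by decide +kernel
theorem chkP_231625 : allRangeF (checkPointF cert) (nat_lit 231625) (nat_lit 25) = true := by decide +kernel
theorem chkP_231650 : allRangeF (checkPointF cert) (nat_lit 231650) (nat_lit 25) = true := by decide +kernel
theorem chkP_231675 : allRangeF (checkPointF cert) (nat_lit 231675) (nat_lit 25) = true := by decide +kernel
theorem chkP_231700 : allRangeF (checkPointF cert) (nat_lit 231700) (nat_lit 25) = true := by decide +kernel
theorem chkP_231725 : allRangeF (checkPointF cert) (nat_lit 231725) (nat_lit 25) = true := by decide +kernel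
theorem chkP_231750 : allRangeF (checkPointF cert) (nat_lit 231750) (nat_lit 25) = true := by decide +kernel
theorem chkP_231775 : allRangeF (checkPointF cert) (nat_lit 231775) (nat_lit 25) = true := by decide +kernel
theorem chkP_231800 : allRangeF (checkPointF cert) (nat_lit 231800) (nat_lit 25) = true := by decide +kernel
theorem chkP_231825 : allRangeF (checkPointF cert) (nat_lit 231825) (nat_lit 25) = true := by decide +kernel
theorem chkP_231850 : allRangeF (checkPointF cert) (nat_lit 231850) (nat_lit 25) = true := by decide +kernel
theorem chkP_231875 : allRangeF (checkPointF cert) (nat_lit 231875) (nat_lit 25) = true := by decide +kernel
theorem chkP_231900 : allRangeF (checkPointF cert) (nat_lit 231900) (nat_lit 25) = true := by decide +kernel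
theorem chkP_231925 : allRangeF (checkPointF cert) (nat_lit 231925) (nat_lit 25) = true := by decide +kernel
theorem chkP_231950 : allRangeF (checkPointF cert) (nat_lit 231950) (nat_lit 25) = true := by decide +kernel
theorem chkP_231975 : allRangeF (checkPointF cert) (nat_lit 231975) (nat_lit 25) = true := by decide +kernel
theorem chkP_232000 : allRangeF (checkPointF cert) (nat_lit 232000) (nat_lit 25) = true := by decide +kernel
theorem chkP_232025 : allRangeF (checkPointF cert) (nat_lit 232025) (nat_lit 25) = true := by decide +kernel
theorem chkP_232050 : allRangeF (checkPointF cert) (nat_lit 232050) (nat_lit 25) = true := by decide +kernel
theorem chkP_232075 : allRangeF (checkPointF cert) (nat_lit 232075) (nat_lit 25) = true := by decide +kernel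
theorem chkP_232100 : allRangeF (checkPointF cert) (nat_lit 232100) (nat_lit 25) = true := by decide +kernel
theorem chkP_232125 : allRangeF (checkPointF cert) (nat_lit 232125) (nat_lit 25) = true := by decide +kernel
theorem chkP_232150 : allRangeF (checkPointF cert) (nat_lit 232150) (nat_lit 25) = true := by decide +kernel
theorem chkP_232175 : allRangeF (checkPointF cert) (nat_lit 232175) (nat_lit 25) = true := by decide +kernel
theorem chkP_232200 : allRangeF (checkPointF cert) (nat_lit 232200) (nat_lit 25) = true := by decide +kernel
theorem chkP_232225 : allRangeF (checkPointF cert) (nat_lit 232225) (nat_lit 25) = true := by decide +kernel
theorem chkP_232250 : allRangeF (checkPointF cert) (nat_lit 232250) (nat_lit 25) = true := by decide +kernel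
theorem chkP_232275 : allRangeF (checkPointF cert) (nat_lit 232275) (nat_lit 25) = true := by decide +kernel
theorem chkP_232300 : allRangeF (checkPointF cert) (nat_lit 232300) (nat_lit 25) = true := by decide +kernel
theorem chkP_232325 : allRangeF (checkPointF cert) (nat_lit 232325) (nat_lit 25) = true := by decide +kernel
theorem chkP_232350 : allRangeF (checkPointF cert) (nat_lit 232350) (nat_lit 25) = true := by decide +kernel
theorem chkP_232375 : allRangeF (checkPointF cert) (nat_lit 232375) (nat_lit 25) = true := by decide +kernel
theorem chkP_232400 : allRangeF (checkPointF cert) (nat_lit 232400) (nat_lit 25) = true := by decide +kernel
theorem chkP_232425 : allRangeF (checkPointF cert) (nat_lit 232425) (nat_lit 25) = true := by decide +kernel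
theorem chkP_232450 : allRangeF (checkPointF cert) (nat_lit 232450) (nat_lit 25) = true := by decide +kernel
theorem chkP_232475 : allRangeF (checkPointF cert) (nat_lit 232475) (nat_lit 25) = true := by decide +kernel
theorem chkP_232500 : allRangeF (checkPointF cert) (nat_lit 232500) (nat_lit 25) = true := by decide +kernel
theorem chkP_232525 : allRangeF (checkPointF cert) (nat_lit 232525) (nat_lit 25) = true := by decide +kernel
theorem chkP_232550 : allRangeF (checkPointF cert) (nat_lit 232550) (nat_lit 25) = true := by decide +kernel
theorem chkP_232575 : allRangeF (checkPointF cert) (nat_lit 232575) (nat_lit 25) = true := by decide +kernel
theorem chkP_232600 : allRangeF (checkPointF cert) (nat_lit 232600) (nat_lit 25) = true := by decide +kernel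
theorem chkP_232625 : allRangeF (checkPointF cert) (nat_lit 232625) (nat_lit 25) = true := by decide +kernel
theorem chkP_232650 : allRangeF (checkPointF cert) (nat_lit 232650) (nat_lit 25) = true := by decide +kernel
theorem chkP_232675 : allRangeF (checkPointF cert) (nat_lit 232675) (nat_lit 25) = true := by decide +kernel
theorem chkP_232700 : allRangeF (checkPointF cert) (nat_lit 232700) (nat_lit 25) = true := by decide +kernel
theorem chkP_232725 : allRangeF (checkPointF cert) (nat_lit 232725) (nat_lit 25) = true := by decide +kernel
theorem chkP_232750 : allRangeF (checkPointF cert) (nat_lit 232750) (nat_lit 25) = true := by decide +kernel
theorem chkP_232775 : allRangeF (checkPointF cert) (nat_lit 232775) (nat_lit 25) = true := by decide +kernel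
theorem chkP_232800 : allRangeF (checkPointF cert) (nat_lit 232800) (nat_lit 25) = true := by decide +kernel
theorem chkP_232825 : allRangeF (checkPointF cert) (nat_lit 232825) (nat_lit 25) = true := by decide +kernel
theorem chkP_232850 : allRangeF (checkPointF cert) (nat_lit 232850) (nat_lit 25) = true := by decide +kernel
theorem chkP_232875 : allRangeF (checkPointF cert) (nat_lit 232875) (nat_lit 25) = true := by decide +kernel
theorem chkP_232900 : allRangeF (checkPointF cert) (nat_lit 232900) (nat_lit 25) = true := by decide +kernel
theorem chkP_232925 : allRangeF (checkPointF cert) (nat_lit 232925) (nat_lit 25) = true := by decide +kernel
theorem chkP_232950 : allRangeF (checkPointF cert) (nat_lit 232950) (nat_lit 25) = true := by decide +kernel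
theorem chkP_232975 : allRangeF (checkPointF cert) (nat_lit 232975) (nat_lit 25) = true := by decide +kernel
theorem chkP_233000 : allRangeF (checkPointF cert) (nat_lit 233000) (nat_lit 25) = true := by decide +kernel
theorem chkP_233025 : allRangeF (checkPointF cert) (nat_lit 233025) (nat_lit 25) = true := by decide +kernel
theorem chkP_233050 : allRangeF (checkPointF cert) (nat_lit 233050) (nat_lit 25) = true := by decide +kernel
theorem chkP_233075 : allRangeF (checkPointF cert) (nat_lit 233075) (nat_lit 25) = true := by decide +kernel
theorem chkP_233100 : allRangeF (checkPointF cert) (nat_lit 233100) (nat_lit 25) = true := by decide +kernel
theorem chkP_233125 : allRangeF (checkPointF cert) (nat_lit 233125) (nat_lit 25) = true := by decide +kernel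
theorem chkP_233150 : allRangeF (checkPointF cert) (nat_lit 233150) (nat_lit 25) = true := by decide +kernel
theorem chkP_233175 : allRangeF (checkPointF cert) (nat_lit 233175) (nat_lit 25) = true := by decide +kernel
theorem chkP_233200 : allRangeF (checkPointF cert) (nat_lit 233200) (nat_lit 25) = true := by decide +kernel
theorem chkP_233225 : allRangeF (checkPointF cert) (nat_lit 233225) (nat_lit 25) = true := by decide +kernel
theorem chkP_233250 : allRangeF (checkPointF cert) (nat_lit 233250) (nat_lit 25) = true := by decide +kernel
theorem chkP_233275 : allRangeF (checkPointF cert) (nat_lit 233275) (nat_lit 25) = true := by decide +kernel
theorem chkP_233300 : allRangeF (checkPointF cert) (nat_lit 233300) (nat_lit 25) = true := by decide +kernel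
theorem chkP_233325 : allRangeF (checkPointF cert) (nat_lit 233325) (nat_lit 25) = true := by decide +kernel
theorem chkP_233350 : allRangeF (checkPointF cert) (nat_lit 233350) (nat_lit 25) = true := by decide +kernel
theorem chkP_233375 : allRangeF (checkPointF cert) (nat_lit 233375) (nat_lit 25) = true := by decide +kernel
theorem chkP_233400 : allRangeF (checkPointF cert) (nat_lit 233400) (nat_lit 25) = true := by decide +kernel
theorem chkP_233425 : allRangeF (checkPointF cert) (nat_lit 233425) (nat_lit 25) = true := by decide +kernel
theorem chkP_233450 : allRangeF (checkPointF cert) (nat_lit 233450) (nat_lit 25) = true := by decide +kernel
theorem chkP_233475 : allRangeF (checkPointF cert) (nat_lit 233475) (nat_lit 25) = true := by decide +kernel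
theorem chkP_233500 : allRangeF (checkPointF cert) (nat_lit 233500) (nat_lit 25) = true := by decide +kernel
theorem chkP_233525 : allRangeF (checkPointF cert) (nat_lit 233525) (nat_lit 25) = true := by decide +kernel
theorem chkP_233550 : allRangeF (checkPointF cert) (nat_lit 233550) (nat_lit 25) = true := by decide +kernel
theorem chkP_233575 : allRangeF (checkPointF cert) (nat_lit 233575) (nat_lit 25) = true := by decide +kernel
theorem chkP_233600 : allRangeF (checkPointF cert) (nat_lit 233600) (nat_lit 25) = true := by decide +kernel
theorem chkP_233625 : allRangeF (checkPointF cert) (nat_lit 233625) (nat_lit 25) = true := by decide +kernel
theorem chkP_233650 : allRangeF (checkPointF cert) (nat_lit 233650) (nat_lit 25) = true := by decide +kernel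
theorem chkP_233675 : allRangeF (checkPointF cert) (nat_lit 233675) (nat_lit 25) = true := by decide +kernel
theorem chkP_233700 : allRangeF (checkPointF cert) (nat_lit 233700) (nat_lit 25) = true := by decide +kernel
theorem chkP_233725 : allRangeF (checkPointF cert) (nat_lit 233725) (nat_lit 25) = true := by decide +kernel
theorem chkP_233750 : allRangeF (checkPointF cert) (nat_lit 233750) (nat_lit 25) = true := by decide +kernel
theorem chkP_233775 : allRangeF (checkPointF cert) (nat_lit 233775) (nat_lit 25) = true := by decide +kernel
theorem chkP_233800 : allRangeF (checkPointF cert) (nat_lit 233800) (nat_lit 25) = true := by decide +kernel
theorem chkP_233825 : allRangeF (checkPointF cert) (nat_lit 233825) (nat_lit 25) = true := by decide +kernel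
theorem chkP_233850 : allRangeF (checkPointF cert) (nat_lit 233850) (nat_lit 25) = true := by decide +kernel
theorem chkP_233875 : allRangeF (checkPointF cert) (nat_lit 233875) (nat_lit 25) = true := by decide +kernel
theorem chkP_233900 : allRangeF (checkPointF cert) (nat_lit 233900) (nat_lit 25) = true := by decide +kernel
theorem chkP_233925 : allRangeF (checkPointF cert) (nat_lit 233925) (nat_lit 25) = true := by decide +kernel
theorem chkP_233950 : allRangeF (checkPointF cert) (nat_lit 233950) (nat_lit 25) = true := by decide +kernel
theorem chkP_233975 : allRangeF (checkPointF cert) (nat_lit 233975) (nat_lit 25) = true := by decide +kernel
theorem chkP_234000 : allRangeF (checkPointF cert) (nat_lit 234000) (nat_lit 25) = true := by decide +kernel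
theorem chkP_234025 : allRangeF (checkPointF cert) (nat_lit 234025) (nat_lit 25) = true := by decide +kernel
theorem chkP_234050 : allRangeF (checkPointF cert) (nat_lit 234050) (nat_lit 25) = true := by decide +kernel
theorem chkP_234075 : allRangeF (checkPointF cert) (nat_lit 234075) (nat_lit 25) = true := by decide +kernel
theorem chkP_234100 : allRangeF (checkPointF cert) (nat_lit 234100) (nat_lit 25) = true := by decide +kernel
theorem chkP_234125 : allRangeF (checkPointF cert) (nat_lit 234125) (nat_lit 25) = true := by decide +kernel
theorem chkP_234150 : allRangeF (checkPointF cert) (nat_lit 234150) (nat_lit 25) = true := by decide +kernel
theorem chkP_234175 : allRangeF (checkPointF cert) (nat_lit 234175) (nat_lit 25) = true := by decide +kernel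
theorem chkP_234200 : allRangeF (checkPointF cert) (nat_lit 234200) (nat_lit 25) = true := by decide +kernel
theorem chkP_234225 : allRangeF (checkPointF cert) (nat_lit 234225) (nat_lit 25) = true := by decide +kernel
theorem chkP_234250 : allRangeF (checkPointF cert) (nat_lit 234250) (nat_lit 25) = true := by decide +kernel
theorem chkP_234275 : allRangeF (checkPointF cert) (nat_lit 234275) (nat_lit 25) = true := by decide +kernel
theorem chkP_234300 : allRangeF (checkPointF cert) (nat_lit 234300) (nat_lit 25) = true := by decide +kernel
theorem chkP_234325 : allRangeF (checkPointF cert) (nat_lit 234325) (nat_lit 25) = true := by decide +kernel
theorem chkP_234350 : allRangeF (checkPointF cert) (nat_lit 234350) (nat_lit 25) = true := by decide +kernel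
theorem chkP_234375 : allRangeF (checkPointF cert) (nat_lit 234375) (nat_lit 25) = true := by decide +kernel
theorem chkP_234400 : allRangeF (checkPointF cert) (nat_lit 234400) (nat_lit 25) = true := by decide +kernel
theorem chkP_234425 : allRangeF (checkPointF cert) (nat_lit 234425) (nat_lit 25) = true := by decide +kernel
theorem chkP_234450 : allRangeF (checkPointF cert) (nat_lit 234450) (nat_lit 25) = true := by decide +kernel
theorem chkP_234475 : allRangeF (checkPointF cert) (nat_lit 234475) (nat_lit 25) = true := by decide +kernel
theorem chkP_234500 : allRangeF (checkPointF cert) (nat_lit 234500) (nat_lit 25) = true := by decide +kernel
theorem chkP_234525 : allRangeF (checkPointF cert) (nat_lit 234525) (nat_lit 25) = true := by decide +kernel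
theorem chkP_234550 : allRangeF (checkPointF cert) (nat_lit 234550) (nat_lit 25) = true := by decide +kernel
theorem chkP_234575 : allRangeF (checkPointF cert) (nat_lit 234575) (nat_lit 25) = true := by decide +kernel
theorem chkP_234600 : allRangeF (checkPointF cert) (nat_lit 234600) (nat_lit 25) = true := by decide +kernel
theorem chkP_234625 : allRangeF (checkPointF cert) (nat_lit 234625) (nat_lit 25) = true := by decide +kernel
theorem chkP_234650 : allRangeF (checkPointF cert) (nat_lit 234650) (nat_lit 25) = true := by decide +kernel
theorem chkP_234675 : allRangeF (checkPointF cert) (nat_lit 234675) (nat_lit 25) = true := by decide +kernel
theorem chkP_234700 : allRangeF (checkPointF cert) (nat_lit 234700) (nat_lit 25) = true := by decide +kernel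
theorem chkP_234725 : allRangeF (checkPointF cert) (nat_lit 234725) (nat_lit 25) = true := by decide +kernel
theorem chkP_234750 : allRangeF (checkPointF cert) (nat_lit 234750) (nat_lit 25) = true := by decide +kernel
theorem chkP_234775 : allRangeF (checkPointF cert) (nat_lit 234775) (nat_lit 25) = true := by decide +kernel
theorem chkP_234800 : allRangeF (checkPointF cert) (nat_lit 234800) (nat_lit 25) = true := by decide +kernel
theorem chkP_234825 : allRangeF (checkPointF cert) (nat_lit 234825) (nat_lit 25) = true := by decide +kernel
theorem chkP_234850 : allRangeF (checkPointF cert) (nat_lit 234850) (nat_lit 25) = true := by decide +kernel
theorem chkP_234875 : allRangeF (checkPointF cert) (nat_lit 234875) (nat_lit 25) = true := by decide +kernel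
theorem chkP_234900 : allRangeF (checkPointF cert) (nat_lit 234900) (nat_lit 25) = true := by decide +kernel
theorem chkP_234925 : allRangeF (checkPointF cert) (nat_lit 234925) (nat_lit 25) = true := by decide +kernel
theorem chkP_234950 : allRangeF (checkPointF cert) (nat_lit 234950) (nat_lit 25) = true := by decide +kernel
theorem chkP_234975 : allRangeF (checkPointF cert) (nat_lit 234975) (nat_lit 25) = true := by decide +kernel
theorem chkP_235000 : allRangeF (checkPointF cert) (nat_lit 235000) (nat_lit 25) = true := by decide +kernel
theorem chkP_235025 : allRangeF (checkPointF cert) (nat_lit 235025) (nat_lit 25) = true := by decide +kernel
theorem chkP_235050 : allRangeF (checkPointF cert) (nat_lit 235050) (nat_lit 25) = true := by decide +kernel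
theorem chkP_235075 : allRangeF (checkPointF cert) (nat_lit 235075) (nat_lit 25) = true := by decide +kernel
theorem chkP_235100 : allRangeF (checkPointF cert) (nat_lit 235100) (nat_lit 25) = true := by decide +kernel
theorem chkP_235125 : allRangeF (checkPointF cert) (nat_lit 235125) (nat_lit 25) = true := by decide +kernel
theorem chkP_235150 : allRangeF (checkPointF cert) (nat_lit 235150) (nat_lit 25) = true := by decide +kernel
theorem chkP_235175 : allRangeF (checkPointF cert) (nat_lit 235175) (nat_lit 25) = true := by decide +kernel
theorem chkP_235200 : allRangeF (checkPointF cert) (nat_lit 235200) (nat_lit 25) = true := by decide +kernel
theorem chkP_235225 : allRangeF (checkPointF cert) (nat_lit 235225) (nat_lit 25) = true := by decide +kernel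
theorem chkP_235250 : allRangeF (checkPointF cert) (nat_lit 235250) (nat_lit 25) = true := by decide +kernel
theorem chkP_235275 : allRangeF (checkPointF cert) (nat_lit 235275) (nat_lit 25) = true := by decide +kernel
theorem chkP_235300 : allRangeF (checkPointF cert) (nat_lit 235300) (nat_lit 25) = true := by decide +kernel
theorem chkP_235325 : allRangeF (checkPointF cert) (nat_lit 235325) (nat_lit 25) = true := by decide +kernel
theorem chkP_235350 : allRangeF (checkPointF cert) (nat_lit 235350) (nat_lit 25) = true := by decide +kernel
theorem chkP_235375 : allRangeF (checkPointF cert) (nat_lit 235375) (nat_lit 25) = true := by decide +kernel
theorem chkP_235400 : allRangeF (checkPointF cert) (nat_lit 235400) (nat_lit 25) = true := by decide +kernel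
theorem chkP_235425 : allRangeF (checkPointF cert) (nat_lit 235425) (nat_lit 25) = true := by decide +kernel
theorem chkP_235450 : allRangeF (checkPointF cert) (nat_lit 235450) (nat_lit 25) = true := by decide +kernel
theorem chkP_235475 : allRangeF (checkPointF cert) (nat_lit 235475) (nat_lit 25) = true := by decide +kernel
theorem chkP_235500 : allRangeF (checkPointF cert) (nat_lit 235500) (nat_lit 25) = true := by decide +kernel
theorem chkP_235525 : allRangeF (checkPointF cert) (nat_lit 235525) (nat_lit 25) = true := by decide +kernel
theorem chkP_235550 : allRangeF (checkPointF cert) (nat_lit 235550) (nat_lit 25) = true := by decide +kernel
theorem chkP_235575 : allRangeF (checkPointF cert) (nat_lit 235575) (nat_lit 25) = true := by decide +kernel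
theorem chkP_235600 : allRangeF (checkPointF cert) (nat_lit 235600) (nat_lit 25) = true := by decide +kernel
theorem chkP_235625 : allRangeF (checkPointF cert) (nat_lit 235625) (nat_lit 25) = true := by decide +kernel
theorem chkP_235650 : allRangeF (checkPointF cert) (nat_lit 235650) (nat_lit 25) = true := by decide +kernel
theorem chkP_235675 : allRangeF (checkPointF cert) (nat_lit 235675) (nat_lit 25) = true := by decide +kernel
theorem chkP_235700 : allRangeF (checkPointF cert) (nat_lit 235700) (nat_lit 25) = true := by decide +kernel
theorem chkP_235725 : allRangeF (checkPointF cert) (nat_lit 235725) (nat_lit 25) = true := by decide +kernel
theorem chkP_235750 : allRangeF (checkPointF cert) (nat_lit 235750) (nat_lit 25) = true := by decide +kernel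
theorem chkP_235775 : allRangeF (checkPointF cert) (nat_lit 235775) (nat_lit 25) = true := by decide +kernel
theorem chkP_235800 : allRangeF (checkPointF cert) (nat_lit 235800) (nat_lit 25) = true := by decide +kernel
theorem chkP_235825 : allRangeF (checkPointF cert) (nat_lit 235825) (nat_lit 25) = true := by decide +kernel
theorem chkP_235850 : allRangeF (checkPointF cert) (nat_lit 235850) (nat_lit 25) = true := by decide +kernel
theorem chkP_235875 : allRangeF (checkPointF cert) (nat_lit 235875) (nat_lit 25) = true := by decide +kernel
theorem chkP_235900 : allRangeF (checkPointF cert) (nat_lit 235900) (nat_lit 25) = true := by decide +kernel
theorem chkP_235925 : allRangeF (checkPointF cert) (nat_lit 235925) (nat_lit 25) = true := by decide +kernel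
theorem chkP_235950 : allRangeF (checkPointF cert) (nat_lit 235950) (nat_lit 25) = true := by decide +kernel
theorem chkP_235975 : allRangeF (checkPointF cert) (nat_lit 235975) (nat_lit 25) = true := by decide +kernel
theorem chkP_236000 : allRangeF (checkPointF cert) (nat_lit 236000) (nat_lit 25) = true := by decide +kernel
theorem chkP_236025 : allRangeF (checkPointF cert) (nat_lit 236025) (nat_lit 25) = true := by decide +kernel
theorem chkP_236050 : allRangeF (checkPointF cert) (nat_lit 236050) (nat_lit 25) = true := by decide +kernel
theorem chkP_236075 : allRangeF (checkPointF cert) (nat_lit 236075) (nat_lit 25) = true := by decide +kernel
theorem chkP_236100 : allRangeF (checkPointF cert) (nat_lit 236100) (nat_lit 25) = true := by decide +kernel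
theorem chkP_236125 : allRangeF (checkPointF cert) (nat_lit 236125) (nat_lit 25) = true := by decide +kernel
theorem chkP_236150 : allRangeF (checkPointF cert) (nat_lit 236150) (nat_lit 25) = true := by decide +kernel
theorem chkP_236175 : allRangeF (checkPointF cert) (nat_lit 236175) (nat_lit 25) = true := by decide +kernel
theorem chkP_236200 : allRangeF (checkPointF cert) (nat_lit 236200) (nat_lit 25) = true := by decide +kernel
theorem chkP_236225 : allRangeF (checkPointF cert) (nat_lit 236225) (nat_lit 25) = true := by decide +kernel
theorem chkP_236250 : allRangeF (checkPointF cert) (nat_lit 236250) (nat_lit 25) = true := by decide +kernel
theorem chkP_236275 : allRangeF (checkPointF cert) (nat_lit 236275) (nat_lit 25) = true := by decide +kernel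
theorem chkP_236300 : allRangeF (checkPointF cert) (nat_lit 236300) (nat_lit 25) = true := by decide +kernel
theorem chkP_236325 : allRangeF (checkPointF cert) (nat_lit 236325) (nat_lit 25) = true := by decide +kernel
theorem chkP_236350 : allRangeF (checkPointF cert) (nat_lit 236350) (nat_lit 25) = true := by decide +kernel
theorem chkP_236375 : allRangeF (checkPointF cert) (nat_lit 236375) (nat_lit 25) = true := by decide +kernel
theorem chkP_236400 : allRangeF (checkPointF cert) (nat_lit 236400) (nat_lit 25) = true := by decide +kernel
theorem chkP_236425 : allRangeF (checkPointF cert) (nat_lit 236425) (nat_lit 25) = true := by decide +kernel
theorem chkP_236450 : allRangeF (checkPointF cert) (nat_lit 236450) (nat_lit 25) = true := by decide +kernel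
theorem chkP_236475 : allRangeF (checkPointF cert) (nat_lit 236475) (nat_lit 25) = true := by decide +kernel
theorem chkP_236500 : allRangeF (checkPointF cert) (nat_lit 236500) (nat_lit 25) = true := by decide +kernel
theorem chkP_236525 : allRangeF (checkPointF cert) (nat_lit 236525) (nat_lit 25) = true := by decide +kernel
theorem chkP_236550 : allRangeF (checkPointF cert) (nat_lit 236550) (nat_lit 25) = true := by decide +kernel
theorem chkP_236575 : allRangeF (checkPointF cert) (nat_lit 236575) (nat_lit 25) = true := by decide +kernel
theorem chkP_236600 : allRangeF (checkPointF cert) (nat_lit 236600) (nat_lit 25) = true := by decide +kernel
theorem chkP_236625 : allRangeF (checkPointF cert) (nat_lit 236625) (nat_lit 25) = true := by decide +kernel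
theorem chkP_236650 : allRangeF (checkPointF cert) (nat_lit 236650) (nat_lit 25) = true := by decide +kernel
theorem chkP_236675 : allRangeF (checkPointF cert) (nat_lit 236675) (nat_lit 25) = true := by decide +kernel
theorem chkP_236700 : allRangeF (checkPointF cert) (nat_lit 236700) (nat_lit 25) = true := by decide +kernel
theorem chkP_236725 : allRangeF (checkPointF cert) (nat_lit 236725) (nat_lit 25) = true := by decide +kernel
theorem chkP_236750 : allRangeF (checkPointF cert) (nat_lit 236750) (nat_lit 25) = true := by decide +kernel
theorem chkP_236775 : allRangeF (checkPointF cert) (nat_lit 236775) (nat_lit 25) = true := by decide +kernel
theorem chkP_236800 : allRangeF (checkPointF cert) (nat_lit 236800) (nat_lit 25) = true := by decide +kernel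
theorem chkP_236825 : allRangeF (checkPointF cert) (nat_lit 236825) (nat_lit 25) = true := by decide +kernel
theorem chkP_236850 : allRangeF (checkPointF cert) (nat_lit 236850) (nat_lit 25) = true := by decide +kernel
theorem chkP_236875 : allRangeF (checkPointF cert) (nat_lit 236875) (nat_lit 25) = true := by decide +kernel
theorem chkP_236900 : allRangeF (checkPointF cert) (nat_lit 236900) (nat_lit 25) = true := by decide +kernel
theorem chkP_236925 : allRangeF (checkPointF cert) (nat_lit 236925) (nat_lit 25) = true := by decide +kernel
theorem chkP_236950 : allRangeF (checkPointF cert) (nat_lit 236950) (nat_lit 25) = true := by decide +kernel
theorem chkP_236975 : allRangeF (checkPointF cert) (nat_lit 236975) (nat_lit 25) = true := by decide +kernel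
theorem chkP_237000 : allRangeF (checkPointF cert) (nat_lit 237000) (nat_lit 25) = true := by decide +kernel
theorem chkP_237025 : allRangeF (checkPointF cert) (nat_lit 237025) (nat_lit 25) = true := by decide +kernel
theorem chkP_237050 : allRangeF (checkPointF cert) (nat_lit 237050) (nat_lit 25) = true := by decide +kernel
theorem chkP_237075 : allRangeF (checkPointF cert) (nat_lit 237075) (nat_lit 25) = true := by decide +kernel
theorem chkP_237100 : allRangeF (checkPointF cert) (nat_lit 237100) (nat_lit 25) = true := by decide +kernel
theorem chkP_237125 : allRangeF (checkPointF cert) (nat_lit 237125) (nat_lit 25) = true := by decide +kernel
theorem chkP_237150 : allRangeF (checkPointF cert) (nat_lit 237150) (nat_lit 25) = true := by decide +kernel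
theorem chkP_237175 : allRangeF (checkPointF cert) (nat_lit 237175) (nat_lit 25) = true := by decide +kernel
theorem chkP_237200 : allRangeF (checkPointF cert) (nat_lit 237200) (nat_lit 25) = true := by decide +kernel
theorem chkP_237225 : allRangeF (checkPointF cert) (nat_lit 237225) (nat_lit 25) = true := by decide +kernel
theorem chkP_237250 : allRangeF (checkPointF cert) (nat_lit 237250) (nat_lit 25) = true := by decide +kernel
theorem chkP_237275 : allRangeF (checkPointF cert) (nat_lit 237275) (nat_lit 25) = true := by decide +kernel
theorem chkP_237300 : allRangeF (checkPointF cert) (nat_lit 237300) (nat_lit 25) = true := by decide +kernel
theorem chkP_237325 : allRangeF (checkPointF cert) (nat_lit 237325) (nat_lit 25) = true := by decide +kernel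
theorem chkP_237350 : allRangeF (checkPointF cert) (nat_lit 237350) (nat_lit 25) = true := by decide +kernel
theorem chkP_237375 : allRangeF (checkPointF cert) (nat_lit 237375) (nat_lit 25) = true := by decide +kernel
theorem chkP_237400 : allRangeF (checkPointF cert) (nat_lit 237400) (nat_lit 25) = true := by decide +kernel
theorem chkP_237425 : allRangeF (checkPointF cert) (nat_lit 237425) (nat_lit 25) = true := by decide +kernel
theorem chkP_237450 : allRangeF (checkPointF cert) (nat_lit 237450) (nat_lit 25) = true := by decide +kernel
theorem chkP_237475 : allRangeF (checkPointF cert) (nat_lit 237475) (nat_lit 25) = true := by decide +kernel
theorem chkP_237500 : allRangeF (checkPointF cert) (nat_lit 237500) (nat_lit 25) = true := by decide +kernel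
theorem chkP_237525 : allRangeF (checkPointF cert) (nat_lit 237525) (nat_lit 25) = true := by decide +kernel
theorem chkP_237550 : allRangeF (checkPointF cert) (nat_lit 237550) (nat_lit 25) = true := by decide +kernel
theorem chkP_237575 : allRangeF (checkPointF cert) (nat_lit 237575) (nat_lit 25) = true := by decide +kernel
theorem chkP_237600 : allRangeF (checkPointF cert) (nat_lit 237600) (nat_lit 25) = true := by decide +kernel
theorem chkP_237625 : allRangeF (checkPointF cert) (nat_lit 237625) (nat_lit 25) = true := by decide +kernel
theorem chkP_237650 : allRangeF (checkPointF cert) (nat_lit 237650) (nat_lit 25) = true := by decide +kernel
theorem chkP_237675 : allRangeF (checkPointF cert) (nat_lit 237675) (nat_lit 25) = true := by decide +kernel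
theorem chkP_237700 : allRangeF (checkPointF cert) (nat_lit 237700) (nat_lit 25) = true := by decide +kernel
theorem chkP_237725 : allRangeF (checkPointF cert) (nat_lit 237725) (nat_lit 25) = true := by decide +kernel
theorem chkP_237750 : allRangeF (checkPointF cert) (nat_lit 237750) (nat_lit 25) = true := by decide +kernel
theorem chkP_237775 : allRangeF (checkPointF cert) (nat_lit 237775) (nat_lit 25) = true := by decide +kernel
theorem chkP_237800 : allRangeF (checkPointF cert) (nat_lit 237800) (nat_lit 25) = true := by decide +kernel
theorem chkP_237825 : allRangeF (checkPointF cert) (nat_lit 237825) (nat_lit 25) = true := by decide +kernel
theorem chkP_237850 : allRangeF (checkPointF cert) (nat_lit 237850) (nat_lit 25) = true := by decide +kernel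
theorem chkP_237875 : allRangeF (checkPointF cert) (nat_lit 237875) (nat_lit 25) = true := by decide +kernel
theorem chkP_237900 : allRangeF (checkPointF cert) (nat_lit 237900) (nat_lit 25) = true := by decide +kernel

theorem ptsRange_30 : ∀ i, 230250 ≤ i → i < 237925 → checkPoint cert i = true := by
  intro i hlo hhi
  rcases Nat.lt_or_ge i 234075 with h1 | h1
  · skip
    rcases Nat.lt_or_ge i 232150 with h2 | h2
    · skip
      rcases Nat.lt_or_ge i 231200 with h3 | h3
      · skip
        rcases Nat.lt_or_ge i 230725 with h4 | h4
        · skip
          rcases Nat.lt_or_ge i 230475 with h5 | h5
          · skip
            rcases Nat.lt_or_ge i 230350 with h6 | h6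
            · skip
              rcases Nat.lt_or_ge i 230300 with h7 | h7
              · skip
                rcases Nat.lt_or_ge i 230275 with h8 | h8
                · skip
                  exact allRangeF_sound _ _ (checkPointF_eq cert) 230250 25 chkP_230250 i (by omega) (by omega)
                · skip
                  exact allRangeF_sound _ _ (checkPointF_eq cert) 230275 25 chkP_230275 i (by omega) (by omega)
              · skip
                rcases Nat.lt_or_ge i 230325 with h8 | h8
                · skip
                  exact allRangeF_sound _ _ (checkPointF_eq cert) 230300 25 chkP_230300 i (by omega) (by omega)
                · skip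
                  exact allRangeF_sound _ _ (checkPointF_eq cert) 230325 25 chkP_230325 i (by omega) (by omega)
            · skip
              rcases Nat.lt_or_ge i 230400 with h7 | h7
              · skip
                rcases Nat.lt_or_ge i 230375 with h8 | h8
                · skip
                  exact allRangeF_sound _ _ (checkPointF_eq cert) 230350 25 chkP_230350 i (by omega) (by omega)
                · skip
                  exact allRangeF_sound _ _ (checkPointF_eq cert) 230375 25 chkP_230375 i (by omega) (by omega)
              · skip
                rcases Nat.lt_or_ge i 230425 with h8 | h8
                · skip
                  exact allRangeF_sound _ _ (checkPointF_eq cert) 230400 25 chkP_230400 i (by omega) (by omega)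
                · skip
                  rcases Nat.lt_or_ge i 230450 with h9 | h9
                  · skip
                    exact allRangeF_sound _ _ (checkPointF_eq cert) 230425 25 chkP_230425 i (by omega) (by omega)
                  · skip
                    exact allRangeF_sound _ _ (checkPointF_eq cert) 230450 25 chkP_230450 i (by omega) (by omega)
          · skip
            rcases Nat.lt_or_ge i 230600 with h6 | h6
            · skip
              rcases Nat.lt_or_ge i 230525 with h7 | h7
              · skip
                rcases Nat.lt_or_ge i 230500 with h8 | h8
                · skip
                  exact allRangeF_sound _ _ (checkPointF_eq cert) 230475 25 chkP_230475 i (by omega) (by omega)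
                · skip
                  exact allRangeF_sound _ _ (checkPointF_eq cert) 230500 25 chkP_230500 i (by omega) (by omega)
              · skip
                rcases Nat.lt_or_ge i 230550 with h8 | h8
                · skip
                  exact allRangeF_sound _ _ (checkPointF_eq cert) 230525 25 chkP_230525 i (by omega) (by omega)
                · skip
                  rcases Nat.lt_or_ge i 230575 with h9 | h9
                  · skip
                    exact allRangeF_sound _ _ (checkPointF_eq cert) 230550 25 chkP_230550 i (by omega) (by omega)
                  · skip
                    exact allRangeF_sound _ _ (checkPointF_eq cert) 230575 25 chkP_230575 i (by omega) (by omega)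
            · skip
              rcases Nat.lt_or_ge i 230650 with h7 | h7
              · skip
                rcases Nat.lt_or_ge i 230625 with h8 | h8
                · skip
                  exact allRangeF_sound _ _ (checkPointF_eq cert) 230600 25 chkP_230600 i (by omega) (by omega)
                · skip
                  exact allRangeF_sound _ _ (checkPointF_eq cert) 230625 25 chkP_230625 i (by omega) (by omega)
              · skip
                rcases Nat.lt_or_ge i 230675 with h8 | h8
                · skip
                  exact allRangeF_sound _ _ (checkPointF_eq cert) 230650 25 chkP_230650 i (by omega) (by omega)
                · skip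
                  rcases Nat.lt_or_ge i 230700 with h9 | h9
                  · skip
                    exact allRangeF_sound _ _ (checkPointF_eq cert) 230675 25 chkP_230675 i (by omega) (by omega)
                  · skip
                    exact allRangeF_sound _ _ (checkPointF_eq cert) 230700 25 chkP_230700 i (by omega) (by omega)
        · skip
          rcases Nat.lt_or_ge i 230950 with h5 | h5
          · skip
            rcases Nat.lt_or_ge i 230825 with h6 | h6
            · skip
              rcases Nat.lt_or_ge i 230775 with h7 | h7
              · skip
                rcases Nat.lt_or_ge i 230750 with h8 | h8
                · skip
                  exact allRangeF_sound _ _ (checkPointF_eq cert) 230725 25 chkP_230725 i (by omega) (by omega)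
                · skip
                  exact allRangeF_sound _ _ (checkPointF_eq cert) 230750 25 chkP_230750 i (by omega) (by omega)
              · skip
                rcases Nat.lt_or_ge i 230800 with h8 | h8
                · skip
                  exact allRangeF_sound _ _ (checkPointF_eq cert) 230775 25 chkP_230775 i (by omega) (by omega)
                · skip
                  exact allRangeF_sound _ _ (checkPointF_eq cert) 230800 25 chkP_230800 i (by omega) (by omega)
            · skip
              rcases Nat.lt_or_ge i 230875 with h7 | h7
              · skip
                rcases Nat.lt_or_ge i 230850 with h8 | h8
                · skip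
                  exact allRangeF_sound _ _ (checkPointF_eq cert) 230825 25 chkP_230825 i (by omega) (by omega)
                · skip
                  exact allRangeF_sound _ _ (checkPointF_eq cert) 230850 25 chkP_230850 i (by omega) (by omega)
              · skip
                rcases Nat.lt_or_ge i 230900 with h8 | h8
                · skip
                  exact allRangeF_sound _ _ (checkPointF_eq cert) 230875 25 chkP_230875 i (by omega) (by omega)
                · skip
                  rcases Nat.lt_or_ge i 230925 with h9 | h9
                  · skip
                    exact allRangeF_sound _ _ (checkPointF_eq cert) 230900 25 chkP_230900 i (by omega) (by omega)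
                  · skip
                    exact allRangeF_sound _ _ (checkPointF_eq cert) 230925 25 chkP_230925 i (by omega) (by omega)
          · skip
            rcases Nat.lt_or_ge i 231075 with h6 | h6
            · skip
              rcases Nat.lt_or_ge i 231000 with h7 | h7
              · skip
                rcases Nat.lt_or_ge i 230975 with h8 | h8
                · skip
                  exact allRangeF_sound _ _ (checkPointF_eq cert) 230950 25 chkP_230950 i (by omega) (by omega)
                · skip
                  exact allRangeF_sound _ _ (checkPointF_eq cert) 230975 25 chkP_230975 i (by omega) (by omega)
              · skip
                rcases Nat.lt_or_ge i 231025 with h8 | h8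
                · skip
                  exact allRangeF_sound _ _ (checkPointF_eq cert) 231000 25 chkP_231000 i (by omega) (by omega)
                · skip
                  rcases Nat.lt_or_ge i 231050 with h9 | h9
                  · skip
                    exact allRangeF_sound _ _ (checkPointF_eq cert) 231025 25 chkP_231025 i (by omega) (by omega)
                  · skip
                    exact allRangeF_sound _ _ (checkPointF_eq cert) 231050 25 chkP_231050 i (by omega) (by omega)
            · skip
              rcases Nat.lt_or_ge i 231125 with h7 | h7
              · skip
                rcases Nat.lt_or_ge i 231100 with h8 | h8
                · skip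
                  exact allRangeF_sound _ _ (checkPointF_eq cert) 231075 25 chkP_231075 i (by omega) (by omega)
                · skip
                  exact allRangeF_sound _ _ (checkPointF_eq cert) 231100 25 chkP_231100 i (by omega) (by omega)
              · skip
                rcases Nat.lt_or_ge i 231150 with h8 | h8
                · skip
                  exact allRangeF_sound _ _ (checkPointF_eq cert) 231125 25 chkP_231125 i (by omega) (by omega)
                · skip
                  rcases Nat.lt_or_ge i 231175 with h9 | h9
                  · skip
                    exact allRangeF_sound _ _ (checkPointF_eq cert) 231150 25 chkP_231150 i (by omega) (by omega)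
                  · skip
                    exact allRangeF_sound _ _ (checkPointF_eq cert) 231175 25 chkP_231175 i (by omega) (by omega)
      · skip
        rcases Nat.lt_or_ge i 231675 with h4 | h4
        · skip
          rcases Nat.lt_or_ge i 231425 with h5 | h5
          · skip
            rcases Nat.lt_or_ge i 231300 with h6 | h6
            · skip
              rcases Nat.lt_or_ge i 231250 with h7 | h7
              · skip
                rcases Nat.lt_or_ge i 231225 with h8 | h8
                · skip
                  exact allRangeF_sound _ _ (checkPointF_eq cert) 231200 25 chkP_231200 i (by omega) (by omega)
                · skip
                  exact allRangeF_sound _ _ (checkPointF_eq cert) 231225 25 chkP_231225 i (by omega) (by omega)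
              · skip
                rcases Nat.lt_or_ge i 231275 with h8 | h8
                · skip
                  exact allRangeF_sound _ _ (checkPointF_eq cert) 231250 25 chkP_231250 i (by omega) (by omega)
                · skip
                  exact allRangeF_sound _ _ (checkPointF_eq cert) 231275 25 chkP_231275 i (by omega) (by omega)
            · skip
              rcases Nat.lt_or_ge i 231350 with h7 | h7
              · skip
                rcases Nat.lt_or_ge i 231325 with h8 | h8
                · skip
                  exact allRangeF_sound _ _ (checkPointF_eq cert) 231300 25 chkP_231300 i (by omega) (by omega)
                · skip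
                  exact allRangeF_sound _ _ (checkPointF_eq cert) 231325 25 chkP_231325 i (by omega) (by omega)
              · skip
                rcases Nat.lt_or_ge i 231375 with h8 | h8
                · skip
                  exact allRangeF_sound _ _ (checkPointF_eq cert) 231350 25 chkP_231350 i (by omega) (by omega)
                · skip
                  rcases Nat.lt_or_ge i 231400 with h9 | h9
                  · skip
                    exact allRangeF_sound _ _ (checkPointF_eq cert) 231375 25 chkP_231375 i (by omega) (by omega)
                  · skip
                    exact allRangeF_sound _ _ (checkPointF_eq cert) 231400 25 chkP_231400 i (by omega) (by omega)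
          · skip
            rcases Nat.lt_or_ge i 231550 with h6 | h6
            · skip
              rcases Nat.lt_or_ge i 231475 with h7 | h7
              · skip
                rcases Nat.lt_or_ge i 231450 with h8 | h8
                · skip
                  exact allRangeF_sound _ _ (checkPointF_eq cert) 231425 25 chkP_231425 i (by omega) (by omega)
                · skip
                  exact allRangeF_sound _ _ (checkPointF_eq cert) 231450 25 chkP_231450 i (by omega) (by omega)
              · skip
                rcases Nat.lt_or_ge i 231500 with h8 | h8
                · skip
                  exact allRangeF_sound _ _ (checkPointF_eq cert) 231475 25 chkP_231475 i (by omega) (by omega)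
                · skip
                  rcases Nat.lt_or_ge i 231525 with h9 | h9
                  · skip
                    exact allRangeF_sound _ _ (checkPointF_eq cert) 231500 25 chkP_231500 i (by omega) (by omega)
                  · skip
                    exact allRangeF_sound _ _ (checkPointF_eq cert) 231525 25 chkP_231525 i (by omega) (by omega)
            · skip
              rcases Nat.lt_or_ge i 231600 with h7 | h7
              · skip
                rcases Nat.lt_or_ge i 231575 with h8 | h8
                · skip
                  exact allRangeF_sound _ _ (checkPointF_eq cert) 231550 25 chkP_231550 i (by omega) (by omega)
                · skip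
                  exact allRangeF_sound _ _ (checkPointF_eq cert) 231575 25 chkP_231575 i (by omega) (by omega)
              · skip
                rcases Nat.lt_or_ge i 231625 with h8 | h8
                · skip
                  exact allRangeF_sound _ _ (checkPointF_eq cert) 231600 25 chkP_231600 i (by omega) (by omega)
                · skip
                  rcases Nat.lt_or_ge i 231650 with h9 | h9
                  · skip
                    exact allRangeF_sound _ _ (checkPointF_eq cert) 231625 25 chkP_231625 i (by omega) (by omega)
                  · skip
                    exact allRangeF_sound _ _ (checkPointF_eq cert) 231650 25 chkP_231650 i (by omega) (by omega)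
        · skip
          rcases Nat.lt_or_ge i 231900 with h5 | h5
          · skip
            rcases Nat.lt_or_ge i 231775 with h6 | h6
            · skip
              rcases Nat.lt_or_ge i 231725 with h7 | h7
              · skip
                rcases Nat.lt_or_ge i 231700 with h8 | h8
                · skip
                  exact allRangeF_sound _ _ (checkPointF_eq cert) 231675 25 chkP_231675 i (by omega) (by omega)
                · skip
                  exact allRangeF_sound _ _ (checkPointF_eq cert) 231700 25 chkP_231700 i (by omega) (by omega)
              · skip
                rcases Nat.lt_or_ge i 231750 with h8 | h8
                · skip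
                  exact allRangeF_sound _ _ (checkPointF_eq cert) 231725 25 chkP_231725 i (by omega) (by omega)
                · skip
                  exact allRangeF_sound _ _ (checkPointF_eq cert) 231750 25 chkP_231750 i (by omega) (by omega)
            · skip
              rcases Nat.lt_or_ge i 231825 with h7 | h7
              · skip
                rcases Nat.lt_or_ge i 231800 with h8 | h8
                · skip
                  exact allRangeF_sound _ _ (checkPointF_eq cert) 231775 25 chkP_231775 i (by omega) (by omega)
                · skip
                  exact allRangeF_sound _ _ (checkPointF_eq cert) 231800 25 chkP_231800 i (by omega) (by omega)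
              · skip
                rcases Nat.lt_or_ge i 231850 with h8 | h8
                · skip
                  exact allRangeF_sound _ _ (checkPointF_eq cert) 231825 25 chkP_231825 i (by omega) (by omega)
                · skip
                  rcases Nat.lt_or_ge i 231875 with h9 | h9
                  · skip
                    exact allRangeF_sound _ _ (checkPointF_eq cert) 231850 25 chkP_231850 i (by omega) (by omega)
                  · skip
                    exact allRangeF_sound _ _ (checkPointF_eq cert) 231875 25 chkP_231875 i (by omega) (by omega)
          · skip
            rcases Nat.lt_or_ge i 232025 with h6 | h6
            · skip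
              rcases Nat.lt_or_ge i 231950 with h7 | h7
              · skip
                rcases Nat.lt_or_ge i 231925 with h8 | h8
                · skip
                  exact allRangeF_sound _ _ (checkPointF_eq cert) 231900 25 chkP_231900 i (by omega) (by omega)
                · skip
                  exact allRangeF_sound _ _ (checkPointF_eq cert) 231925 25 chkP_231925 i (by omega) (by omega)
              · skip
                rcases Nat.lt_or_ge i 231975 with h8 | h8
                · skip
                  exact allRangeF_sound _ _ (checkPointF_eq cert) 231950 25 chkP_231950 i (by omega) (by omega)
                · skip
                  rcases Nat.lt_or_ge i 232000 with h9 | h9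
                  · skip
                    exact allRangeF_sound _ _ (checkPointF_eq cert) 231975 25 chkP_231975 i (by omega) (by omega)
                  · skip
                    exact allRangeF_sound _ _ (checkPointF_eq cert) 232000 25 chkP_232000 i (by omega) (by omega)
            · skip
              rcases Nat.lt_or_ge i 232075 with h7 | h7
              · skip
                rcases Nat.lt_or_ge i 232050 with h8 | h8
                · skip
                  exact allRangeF_sound _ _ (checkPointF_eq cert) 232025 25 chkP_232025 i (by omega) (by omega)
                · skip
                  exact allRangeF_sound _ _ (checkPointF_eq cert) 232050 25 chkP_232050 i (by omega) (by omega)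
              · skip
                rcases Nat.lt_or_ge i 232100 with h8 | h8
                · skip
                  exact allRangeF_sound _ _ (checkPointF_eq cert) 232075 25 chkP_232075 i (by omega) (by omega)
                · skip
                  rcases Nat.lt_or_ge i 232125 with h9 | h9
                  · skip
                    exact allRangeF_sound _ _ (checkPointF_eq cert) 232100 25 chkP_232100 i (by omega) (by omega)
                  · skip
                    exact allRangeF_sound _ _ (checkPointF_eq cert) 232125 25 chkP_232125 i (by omega) (by omega)
    · skip
      rcases Nat.lt_or_ge i 233100 with h3 | h3
      · skip
        rcases Nat.lt_or_ge i 232625 with h4 | h4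
        · skip
          rcases Nat.lt_or_ge i 232375 with h5 | h5
          · skip
            rcases Nat.lt_or_ge i 232250 with h6 | h6
            · skip
              rcases Nat.lt_or_ge i 232200 with h7 | h7
              · skip
                rcases Nat.lt_or_ge i 232175 with h8 | h8
                · skip
                  exact allRangeF_sound _ _ (checkPointF_eq cert) 232150 25 chkP_232150 i (by omega) (by omega)
                · skip
                  exact allRangeF_sound _ _ (checkPointF_eq cert) 232175 25 chkP_232175 i (by omega) (by omega)
              · skip
                rcases Nat.lt_or_ge i 232225 with h8 | h8
                · skip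
                  exact allRangeF_sound _ _ (checkPointF_eq cert) 232200 25 chkP_232200 i (by omega) (by omega)
                · skip
                  exact allRangeF_sound _ _ (checkPointF_eq cert) 232225 25 chkP_232225 i (by omega) (by omega)
            · skip
              rcases Nat.lt_or_ge i 232300 with h7 | h7
              · skip
                rcases Nat.lt_or_ge i 232275 with h8 | h8
                · skip
                  exact allRangeF_sound _ _ (checkPointF_eq cert) 232250 25 chkP_232250 i (by omega) (by omega)
                · skip
                  exact allRangeF_sound _ _ (checkPointF_eq cert) 232275 25 chkP_232275 i (by omega) (by omega)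
              · skip
                rcases Nat.lt_or_ge i 232325 with h8 | h8
                · skip
                  exact allRangeF_sound _ _ (checkPointF_eq cert) 232300 25 chkP_232300 i (by omega) (by omega)
                · skip
                  rcases Nat.lt_or_ge i 232350 with h9 | h9
                  · skip
                    exact allRangeF_sound _ _ (checkPointF_eq cert) 232325 25 chkP_232325 i (by omega) (by omega)
                  · skip
                    exact allRangeF_sound _ _ (checkPointF_eq cert) 232350 25 chkP_232350 i (by omega) (by omega)
          · skip
            rcases Nat.lt_or_ge i 232500 with h6 | h6
            · skip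
              rcases Nat.lt_or_ge i 232425 with h7 | h7
              · skip
                rcases Nat.lt_or_ge i 232400 with h8 | h8
                · skip
                  exact allRangeF_sound _ _ (checkPointF_eq cert) 232375 25 chkP_232375 i (by omega) (by omega)
                · skip
                  exact allRangeF_sound _ _ (checkPointF_eq cert) 232400 25 chkP_232400 i (by omega) (by omega)
              · skip
                rcases Nat.lt_or_ge i 232450 with h8 | h8
                · skip
                  exact allRangeF_sound _ _ (checkPointF_eq cert) 232425 25 chkP_232425 i (by omega) (by omega)
                · skip
                  rcases Nat.lt_or_ge i 232475 with h9 | h9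
                  · skip
                    exact allRangeF_sound _ _ (checkPointF_eq cert) 232450 25 chkP_232450 i (by omega) (by omega)
                  · skip
                    exact allRangeF_sound _ _ (checkPointF_eq cert) 232475 25 chkP_232475 i (by omega) (by omega)
            · skip
              rcases Nat.lt_or_ge i 232550 with h7 | h7
              · skip
                rcases Nat.lt_or_ge i 232525 with h8 | h8
                · skip
                  exact allRangeF_sound _ _ (checkPointF_eq cert) 232500 25 chkP_232500 i (by omega) (by omega)
                · skip
                  exact allRangeF_sound _ _ (checkPointF_eq cert) 232525 25 chkP_232525 i (by omega) (by omega)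
              · skip
                rcases Nat.lt_or_ge i 232575 with h8 | h8
                · skip
                  exact allRangeF_sound _ _ (checkPointF_eq cert) 232550 25 chkP_232550 i (by omega) (by omega)
                · skip
                  rcases Nat.lt_or_ge i 232600 with h9 | h9
                  · skip
                    exact allRangeF_sound _ _ (checkPointF_eq cert) 232575 25 chkP_232575 i (by omega) (by omega)
                  · skip
                    exact allRangeF_sound _ _ (checkPointF_eq cert) 232600 25 chkP_232600 i (by omega) (by omega)
        · skip
          rcases Nat.lt_or_ge i 232850 with h5 | h5
          · skip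
            rcases Nat.lt_or_ge i 232725 with h6 | h6
            · skip
              rcases Nat.lt_or_ge i 232675 with h7 | h7
              · skip
                rcases Nat.lt_or_ge i 232650 with h8 | h8
                · skip
                  exact allRangeF_sound _ _ (checkPointF_eq cert) 232625 25 chkP_232625 i (by omega) (by omega)
                · skip
                  exact allRangeF_sound _ _ (checkPointF_eq cert) 232650 25 chkP_232650 i (by omega) (by omega)
              · skip
                rcases Nat.lt_or_ge i 232700 with h8 | h8
                · skip
                  exact allRangeF_sound _ _ (checkPointF_eq cert) 232675 25 chkP_232675 i (by omega) (by omega)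
                · skip
                  exact allRangeF_sound _ _ (checkPointF_eq cert) 232700 25 chkP_232700 i (by omega) (by omega)
            · skip
              rcases Nat.lt_or_ge i 232775 with h7 | h7
              · skip
                rcases Nat.lt_or_ge i 232750 with h8 | h8
                · skip
                  exact allRangeF_sound _ _ (checkPointF_eq cert) 232725 25 chkP_232725 i (by omega) (by omega)
                · skip
                  exact allRangeF_sound _ _ (checkPointF_eq cert) 232750 25 chkP_232750 i (by omega) (by omega)
              · skip
                rcases Nat.lt_or_ge i 232800 with h8 | h8
                · skip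
                  exact allRangeF_sound _ _ (checkPointF_eq cert) 232775 25 chkP_232775 i (by omega) (by omega)
                · skip
                  rcases Nat.lt_or_ge i 232825 with h9 | h9
                  · skip
                    exact allRangeF_sound _ _ (checkPointF_eq cert) 232800 25 chkP_232800 i (by omega) (by omega)
                  · skip
                    exact allRangeF_sound _ _ (checkPointF_eq cert) 232825 25 chkP_232825 i (by omega) (by omega)
          · skip
            rcases Nat.lt_or_ge i 232975 with h6 | h6
            · skip
              rcases Nat.lt_or_ge i 232900 with h7 | h7
              · skip
                rcases Nat.lt_or_ge i 232875 with h8 | h8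
                · skip
                  exact allRangeF_sound _ _ (checkPointF_eq cert) 232850 25 chkP_232850 i (by omega) (by omega)
                · skip
                  exact allRangeF_sound _ _ (checkPointF_eq cert) 232875 25 chkP_232875 i (by omega) (by omega)
              · skip
                rcases Nat.lt_or_ge i 232925 with h8 | h8
                · skip
                  exact allRangeF_sound _ _ (checkPointF_eq cert) 232900 25 chkP_232900 i (by omega) (by omega)
                · skip
                  rcases Nat.lt_or_ge i 232950 with h9 | h9
                  · skip
                    exact allRangeF_sound _ _ (checkPointF_eq cert) 232925 25 chkP_232925 i (by omega) (by omega)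
                  · skip
                    exact allRangeF_sound _ _ (checkPointF_eq cert) 232950 25 chkP_232950 i (by omega) (by omega)
            · skip
              rcases Nat.lt_or_ge i 233025 with h7 | h7
              · skip
                rcases Nat.lt_or_ge i 233000 with h8 | h8
                · skip
                  exact allRangeF_sound _ _ (checkPointF_eq cert) 232975 25 chkP_232975 i (by omega) (by omega)
                · skip
                  exact allRangeF_sound _ _ (checkPointF_eq cert) 233000 25 chkP_233000 i (by omega) (by omega)
              · skip
                rcases Nat.lt_or_ge i 233050 with h8 | h8
                · skip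
                  exact allRangeF_sound _ _ (checkPointF_eq cert) 233025 25 chkP_233025 i (by omega) (by omega)
                · skip
                  rcases Nat.lt_or_ge i 233075 with h9 | h9
                  · skip
                    exact allRangeF_sound _ _ (checkPointF_eq cert) 233050 25 chkP_233050 i (by omega) (by omega)
                  · skip
                    exact allRangeF_sound _ _ (checkPointF_eq cert) 233075 25 chkP_233075 i (by omega) (by omega)
      · skip
        rcases Nat.lt_or_ge i 233575 with h4 | h4
        · skip
          rcases Nat.lt_or_ge i 233325 with h5 | h5
          · skip
            rcases Nat.lt_or_ge i 233200 with h6 | h6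
            · skip
              rcases Nat.lt_or_ge i 233150 with h7 | h7
              · skip
                rcases Nat.lt_or_ge i 233125 with h8 | h8
                · skip
                  exact allRangeF_sound _ _ (checkPointF_eq cert) 233100 25 chkP_233100 i (by omega) (by omega)
                · skip
                  exact allRangeF_sound _ _ (checkPointF_eq cert) 233125 25 chkP_233125 i (by omega) (by omega)
              · skip
                rcases Nat.lt_or_ge i 233175 with h8 | h8
                · skip
                  exact allRangeF_sound _ _ (checkPointF_eq cert) 233150 25 chkP_233150 i (by omega) (by omega)
                · skip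
                  exact allRangeF_sound _ _ (checkPointF_eq cert) 233175 25 chkP_233175 i (by omega) (by omega)
            · skip
              rcases Nat.lt_or_ge i 233250 with h7 | h7
              · skip
                rcases Nat.lt_or_ge i 233225 with h8 | h8
                · skip
                  exact allRangeF_sound _ _ (checkPointF_eq cert) 233200 25 chkP_233200 i (by omega) (by omega)
                · skip
                  exact allRangeF_sound _ _ (checkPointF_eq cert) 233225 25 chkP_233225 i (by omega) (by omega)
              · skip
                rcases Nat.lt_or_ge i 233275 with h8 | h8
                · skip
                  exact allRangeF_sound _ _ (checkPointF_eq cert) 233250 25 chkP_233250 i (by omega) (by omega)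
                · skip
                  rcases Nat.lt_or_ge i 233300 with h9 | h9
                  · skip
                    exact allRangeF_sound _ _ (checkPointF_eq cert) 233275 25 chkP_233275 i (by omega) (by omega)
                  · skip
                    exact allRangeF_sound _ _ (checkPointF_eq cert) 233300 25 chkP_233300 i (by omega) (by omega)
          · skip
            rcases Nat.lt_or_ge i 233450 with h6 | h6
            · skip
              rcases Nat.lt_or_ge i 233375 with h7 | h7
              · skip
                rcases Nat.lt_or_ge i 233350 with h8 | h8
                · skip
                  exact allRangeF_sound _ _ (checkPointF_eq cert) 233325 25 chkP_233325 i (by omega) (by omega)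
                · skip
                  exact allRangeF_sound _ _ (checkPointF_eq cert) 233350 25 chkP_233350 i (by omega) (by omega)
              · skip
                rcases Nat.lt_or_ge i 233400 with h8 | h8
                · skip
                  exact allRangeF_sound _ _ (checkPointF_eq cert) 233375 25 chkP_233375 i (by omega) (by omega)
                · skip
                  rcases Nat.lt_or_ge i 233425 with h9 | h9
                  · skip
                    exact allRangeF_sound _ _ (checkPointF_eq cert) 233400 25 chkP_233400 i (by omega) (by omega)
                  · skip
                    exact allRangeF_sound _ _ (checkPointF_eq cert) 233425 25 chkP_233425 i (by omega) (by omega)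
            · skip
              rcases Nat.lt_or_ge i 233500 with h7 | h7
              · skip
                rcases Nat.lt_or_ge i 233475 with h8 | h8
                · skip
                  exact allRangeF_sound _ _ (checkPointF_eq cert) 233450 25 chkP_233450 i (by omega) (by omega)
                · skip
                  exact allRangeF_sound _ _ (checkPointF_eq cert) 233475 25 chkP_233475 i (by omega) (by omega)
              · skip
                rcases Nat.lt_or_ge i 233525 with h8 | h8
                · skip
                  exact allRangeF_sound _ _ (checkPointF_eq cert) 233500 25 chkP_233500 i (by omega) (by omega)
                · skip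
                  rcases Nat.lt_or_ge i 233550 with h9 | h9
                  · skip
                    exact allRangeF_sound _ _ (checkPointF_eq cert) 233525 25 chkP_233525 i (by omega) (by omega)
                  · skip
                    exact allRangeF_sound _ _ (checkPointF_eq cert) 233550 25 chkP_233550 i (by omega) (by omega)
        · skip
          rcases Nat.lt_or_ge i 233825 with h5 | h5
          · skip
            rcases Nat.lt_or_ge i 233700 with h6 | h6
            · skip
              rcases Nat.lt_or_ge i 233625 with h7 | h7
              · skip
                rcases Nat.lt_or_ge i 233600 with h8 | h8
                · skip
                  exact allRangeF_sound _ _ (checkPointF_eq cert) 233575 25 chkP_233575 i (by omega) (by omega)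
                · skip
                  exact allRangeF_sound _ _ (checkPointF_eq cert) 233600 25 chkP_233600 i (by omega) (by omega)
              · skip
                rcases Nat.lt_or_ge i 233650 with h8 | h8
                · skip
                  exact allRangeF_sound _ _ (checkPointF_eq cert) 233625 25 chkP_233625 i (by omega) (by omega)
                · skip
                  rcases Nat.lt_or_ge i 233675 with h9 | h9
                  · skip
                    exact allRangeF_sound _ _ (checkPointF_eq cert) 233650 25 chkP_233650 i (by omega) (by omega)
                  · skip
                    exact allRangeF_sound _ _ (checkPointF_eq cert) 233675 25 chkP_233675 i (by omega) (by omega)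
            · skip
              rcases Nat.lt_or_ge i 233750 with h7 | h7
              · skip
                rcases Nat.lt_or_ge i 233725 with h8 | h8
                · skip
                  exact allRangeF_sound _ _ (checkPointF_eq cert) 233700 25 chkP_233700 i (by omega) (by omega)
                · skip
                  exact allRangeF_sound _ _ (checkPointF_eq cert) 233725 25 chkP_233725 i (by omega) (by omega)
              · skip
                rcases Nat.lt_or_ge i 233775 with h8 | h8
                · skip
                  exact allRangeF_sound _ _ (checkPointF_eq cert) 233750 25 chkP_233750 i (by omega) (by omega)
                · skip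
                  rcases Nat.lt_or_ge i 233800 with h9 | h9
                  · skip
                    exact allRangeF_sound _ _ (checkPointF_eq cert) 233775 25 chkP_233775 i (by omega) (by omega)
                  · skip
                    exact allRangeF_sound _ _ (checkPointF_eq cert) 233800 25 chkP_233800 i (by omega) (by omega)
          · skip
            rcases Nat.lt_or_ge i 233950 with h6 | h6
            · skip
              rcases Nat.lt_or_ge i 233875 with h7 | h7
              · skip
                rcases Nat.lt_or_ge i 233850 with h8 | h8
                · skip
                  exact allRangeF_sound _ _ (checkPointF_eq cert) 233825 25 chkP_233825 i (by omega) (by omega)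
                · skip
                  exact allRangeF_sound _ _ (checkPointF_eq cert) 233850 25 chkP_233850 i (by omega) (by omega)
              · skip
                rcases Nat.lt_or_ge i 233900 with h8 | h8
                · skip
                  exact allRangeF_sound _ _ (checkPointF_eq cert) 233875 25 chkP_233875 i (by omega) (by omega)
                · skip
                  rcases Nat.lt_or_ge i 233925 with h9 | h9
                  · skip
                    exact allRangeF_sound _ _ (checkPointF_eq cert) 233900 25 chkP_233900 i (by omega) (by omega)
                  · skip
                    exact allRangeF_sound _ _ (checkPointF_eq cert) 233925 25 chkP_233925 i (by omega) (by omega)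
            · skip
              rcases Nat.lt_or_ge i 234000 with h7 | h7
              · skip
                rcases Nat.lt_or_ge i 233975 with h8 | h8
                · skip
                  exact allRangeF_sound _ _ (checkPointF_eq cert) 233950 25 chkP_233950 i (by omega) (by omega)
                · skip
                  exact allRangeF_sound _ _ (checkPointF_eq cert) 233975 25 chkP_233975 i (by omega) (by omega)
              · skip
                rcases Nat.lt_or_ge i 234025 with h8 | h8
                · skip
                  exact allRangeF_sound _ _ (checkPointF_eq cert) 234000 25 chkP_234000 i (by omega) (by omega)
                · skip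
                  rcases Nat.lt_or_ge i 234050 with h9 | h9
                  · skip
                    exact allRangeF_sound _ _ (checkPointF_eq cert) 234025 25 chkP_234025 i (by omega) (by omega)
                  · skip
                    exact allRangeF_sound _ _ (checkPointF_eq cert) 234050 25 chkP_234050 i (by omega) (by omega)
  · skip
    rcases Nat.lt_or_ge i 236000 with h2 | h2
    · skip
      rcases Nat.lt_or_ge i 235025 with h3 | h3
      · skip
        rcases Nat.lt_or_ge i 234550 with h4 | h4
        · skip
          rcases Nat.lt_or_ge i 234300 with h5 | h5
          · skip
            rcases Nat.lt_or_ge i 234175 with h6 | h6
            · skip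
              rcases Nat.lt_or_ge i 234125 with h7 | h7
              · skip
                rcases Nat.lt_or_ge i 234100 with h8 | h8
                · skip
                  exact allRangeF_sound _ _ (checkPointF_eq cert) 234075 25 chkP_234075 i (by omega) (by omega)
                · skip
                  exact allRangeF_sound _ _ (checkPointF_eq cert) 234100 25 chkP_234100 i (by omega) (by omega)
              · skip
                rcases Nat.lt_or_ge i 234150 with h8 | h8
                · skip
                  exact allRangeF_sound _ _ (checkPointF_eq cert) 234125 25 chkP_234125 i (by omega) (by omega)
                · skip
                  exact allRangeF_sound _ _ (checkPointF_eq cert) 234150 25 chkP_234150 i (by omega) (by omega)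
            · skip
              rcases Nat.lt_or_ge i 234225 with h7 | h7
              · skip
                rcases Nat.lt_or_ge i 234200 with h8 | h8
                · skip
                  exact allRangeF_sound _ _ (checkPointF_eq cert) 234175 25 chkP_234175 i (by omega) (by omega)
                · skip
                  exact allRangeF_sound _ _ (checkPointF_eq cert) 234200 25 chkP_234200 i (by omega) (by omega)
              · skip
                rcases Nat.lt_or_ge i 234250 with h8 | h8
                · skip
                  exact allRangeF_sound _ _ (checkPointF_eq cert) 234225 25 chkP_234225 i (by omega) (by omega)
                · skip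
                  rcases Nat.lt_or_ge i 234275 with h9 | h9
                  · skip
                    exact allRangeF_sound _ _ (checkPointF_eq cert) 234250 25 chkP_234250 i (by omega) (by omega)
                  · skip
                    exact allRangeF_sound _ _ (checkPointF_eq cert) 234275 25 chkP_234275 i (by omega) (by omega)
          · skip
            rcases Nat.lt_or_ge i 234425 with h6 | h6
            · skip
              rcases Nat.lt_or_ge i 234350 with h7 | h7
              · skip
                rcases Nat.lt_or_ge i 234325 with h8 | h8
                · skip
                  exact allRangeF_sound _ _ (checkPointF_eq cert) 234300 25 chkP_234300 i (by omega) (by omega)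
                · skip
                  exact allRangeF_sound _ _ (checkPointF_eq cert) 234325 25 chkP_234325 i (by omega) (by omega)
              · skip
                rcases Nat.lt_or_ge i 234375 with h8 | h8
                · skip
                  exact allRangeF_sound _ _ (checkPointF_eq cert) 234350 25 chkP_234350 i (by omega) (by omega)
                · skip
                  rcases Nat.lt_or_ge i 234400 with h9 | h9
                  · skip
                    exact allRangeF_sound _ _ (checkPointF_eq cert) 234375 25 chkP_234375 i (by omega) (by omega)
                  · skip
                    exact allRangeF_sound _ _ (checkPointF_eq cert) 234400 25 chkP_234400 i (by omega) (by omega)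
            · skip
              rcases Nat.lt_or_ge i 234475 with h7 | h7
              · skip
                rcases Nat.lt_or_ge i 234450 with h8 | h8
                · skip
                  exact allRangeF_sound _ _ (checkPointF_eq cert) 234425 25 chkP_234425 i (by omega) (by omega)
                · skip
                  exact allRangeF_sound _ _ (checkPointF_eq cert) 234450 25 chkP_234450 i (by omega) (by omega)
              · skip
                rcases Nat.lt_or_ge i 234500 with h8 | h8
                · skip
                  exact allRangeF_sound _ _ (checkPointF_eq cert) 234475 25 chkP_234475 i (by omega) (by omega)
                · skip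
                  rcases Nat.lt_or_ge i 234525 with h9 | h9
                  · skip
                    exact allRangeF_sound _ _ (checkPointF_eq cert) 234500 25 chkP_234500 i (by omega) (by omega)
                  · skip
                    exact allRangeF_sound _ _ (checkPointF_eq cert) 234525 25 chkP_234525 i (by omega) (by omega)
        · skip
          rcases Nat.lt_or_ge i 234775 with h5 | h5
          · skip
            rcases Nat.lt_or_ge i 234650 with h6 | h6
            · skip
              rcases Nat.lt_or_ge i 234600 with h7 | h7
              · skip
                rcases Nat.lt_or_ge i 234575 with h8 | h8
                · skip
                  exact allRangeF_sound _ _ (checkPointF_eq cert) 234550 25 chkP_234550 i (by omega) (by omega)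
                · skip
                  exact allRangeF_sound _ _ (checkPointF_eq cert) 234575 25 chkP_234575 i (by omega) (by omega)
              · skip
                rcases Nat.lt_or_ge i 234625 with h8 | h8
                · skip
                  exact allRangeF_sound _ _ (checkPointF_eq cert) 234600 25 chkP_234600 i (by omega) (by omega)
                · skip
                  exact allRangeF_sound _ _ (checkPointF_eq cert) 234625 25 chkP_234625 i (by omega) (by omega)
            · skip
              rcases Nat.lt_or_ge i 234700 with h7 | h7
              · skip
                rcases Nat.lt_or_ge i 234675 with h8 | h8
                · skip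
                  exact allRangeF_sound _ _ (checkPointF_eq cert) 234650 25 chkP_234650 i (by omega) (by omega)
                · skip
                  exact allRangeF_sound _ _ (checkPointF_eq cert) 234675 25 chkP_234675 i (by omega) (by omega)
              · skip
                rcases Nat.lt_or_ge i 234725 with h8 | h8
                · skip
                  exact allRangeF_sound _ _ (checkPointF_eq cert) 234700 25 chkP_234700 i (by omega) (by omega)
                · skip
                  rcases Nat.lt_or_ge i 234750 with h9 | h9
                  · skip
                    exact allRangeF_sound _ _ (checkPointF_eq cert) 234725 25 chkP_234725 i (by omega) (by omega)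
                  · skip
                    exact allRangeF_sound _ _ (checkPointF_eq cert) 234750 25 chkP_234750 i (by omega) (by omega)
          · skip
            rcases Nat.lt_or_ge i 234900 with h6 | h6
            · skip
              rcases Nat.lt_or_ge i 234825 with h7 | h7
              · skip
                rcases Nat.lt_or_ge i 234800 with h8 | h8
                · skip
                  exact allRangeF_sound _ _ (checkPointF_eq cert) 234775 25 chkP_234775 i (by omega) (by omega)
                · skip
                  exact allRangeF_sound _ _ (checkPointF_eq cert) 234800 25 chkP_234800 i (by omega) (by omega)
              · skip
                rcases Nat.lt_or_ge i 234850 with h8 | h8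
                · skip
                  exact allRangeF_sound _ _ (checkPointF_eq cert) 234825 25 chkP_234825 i (by omega) (by omega)
                · skip
                  rcases Nat.lt_or_ge i 234875 with h9 | h9
                  · skip
                    exact allRangeF_sound _ _ (checkPointF_eq cert) 234850 25 chkP_234850 i (by omega) (by omega)
                  · skip
                    exact allRangeF_sound _ _ (checkPointF_eq cert) 234875 25 chkP_234875 i (by omega) (by omega)
            · skip
              rcases Nat.lt_or_ge i 234950 with h7 | h7
              · skip
                rcases Nat.lt_or_ge i 234925 with h8 | h8
                · skip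
                  exact allRangeF_sound _ _ (checkPointF_eq cert) 234900 25 chkP_234900 i (by omega) (by omega)
                · skip
                  exact allRangeF_sound _ _ (checkPointF_eq cert) 234925 25 chkP_234925 i (by omega) (by omega)
              · skip
                rcases Nat.lt_or_ge i 234975 with h8 | h8
                · skip
                  exact allRangeF_sound _ _ (checkPointF_eq cert) 234950 25 chkP_234950 i (by omega) (by omega)
                · skip
                  rcases Nat.lt_or_ge i 235000 with h9 | h9
                  · skip
                    exact allRangeF_sound _ _ (checkPointF_eq cert) 234975 25 chkP_234975 i (by omega) (by omega)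
                  · skip
                    exact allRangeF_sound _ _ (checkPointF_eq cert) 235000 25 chkP_235000 i (by omega) (by omega)
      · skip
        rcases Nat.lt_or_ge i 235500 with h4 | h4
        · skip
          rcases Nat.lt_or_ge i 235250 with h5 | h5
          · skip
            rcases Nat.lt_or_ge i 235125 with h6 | h6
            · skip
              rcases Nat.lt_or_ge i 235075 with h7 | h7
              · skip
                rcases Nat.lt_or_ge i 235050 with h8 | h8
                · skip
                  exact allRangeF_sound _ _ (checkPointF_eq cert) 235025 25 chkP_235025 i (by omega) (by omega)
                · skip
                  exact allRangeF_sound _ _ (checkPointF_eq cert) 235050 25 chkP_235050 i (by omega) (by omega)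
              · skip
                rcases Nat.lt_or_ge i 235100 with h8 | h8
                · skip
                  exact allRangeF_sound _ _ (checkPointF_eq cert) 235075 25 chkP_235075 i (by omega) (by omega)
                · skip
                  exact allRangeF_sound _ _ (checkPointF_eq cert) 235100 25 chkP_235100 i (by omega) (by omega)
            · skip
              rcases Nat.lt_or_ge i 235175 with h7 | h7
              · skip
                rcases Nat.lt_or_ge i 235150 with h8 | h8
                · skip
                  exact allRangeF_sound _ _ (checkPointF_eq cert) 235125 25 chkP_235125 i (by omega) (by omega)
                · skip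
                  exact allRangeF_sound _ _ (checkPointF_eq cert) 235150 25 chkP_235150 i (by omega) (by omega)
              · skip
                rcases Nat.lt_or_ge i 235200 with h8 | h8
                · skip
                  exact allRangeF_sound _ _ (checkPointF_eq cert) 235175 25 chkP_235175 i (by omega) (by omega)
                · skip
                  rcases Nat.lt_or_ge i 235225 with h9 | h9
                  · skip
                    exact allRangeF_sound _ _ (checkPointF_eq cert) 235200 25 chkP_235200 i (by omega) (by omega)
                  · skip
                    exact allRangeF_sound _ _ (checkPointF_eq cert) 235225 25 chkP_235225 i (by omega) (by omega)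
          · skip
            rcases Nat.lt_or_ge i 235375 with h6 | h6
            · skip
              rcases Nat.lt_or_ge i 235300 with h7 | h7
              · skip
                rcases Nat.lt_or_ge i 235275 with h8 | h8
                · skip
                  exact allRangeF_sound _ _ (checkPointF_eq cert) 235250 25 chkP_235250 i (by omega) (by omega)
                · skip
                  exact allRangeF_sound _ _ (checkPointF_eq cert) 235275 25 chkP_235275 i (by omega) (by omega)
              · skip
                rcases Nat.lt_or_ge i 235325 with h8 | h8
                · skip
                  exact allRangeF_sound _ _ (checkPointF_eq cert) 235300 25 chkP_235300 i (by omega) (by omega)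
                · skip
                  rcases Nat.lt_or_ge i 235350 with h9 | h9
                  · skip
                    exact allRangeF_sound _ _ (checkPointF_eq cert) 235325 25 chkP_235325 i (by omega) (by omega)
                  · skip
                    exact allRangeF_sound _ _ (checkPointF_eq cert) 235350 25 chkP_235350 i (by omega) (by omega)
            · skip
              rcases Nat.lt_or_ge i 235425 with h7 | h7
              · skip
                rcases Nat.lt_or_ge i 235400 with h8 | h8
                · skip
                  exact allRangeF_sound _ _ (checkPointF_eq cert) 235375 25 chkP_235375 i (by omega) (by omega)
                · skip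
                  exact allRangeF_sound _ _ (checkPointF_eq cert) 235400 25 chkP_235400 i (by omega) (by omega)
              · skip
                rcases Nat.lt_or_ge i 235450 with h8 | h8
                · skip
                  exact allRangeF_sound _ _ (checkPointF_eq cert) 235425 25 chkP_235425 i (by omega) (by omega)
                · skip
                  rcases Nat.lt_or_ge i 235475 with h9 | h9
                  · skip
                    exact allRangeF_sound _ _ (checkPointF_eq cert) 235450 25 chkP_235450 i (by omega) (by omega)
                  · skip
                    exact allRangeF_sound _ _ (checkPointF_eq cert) 235475 25 chkP_235475 i (by omega) (by omega)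
        · skip
          rcases Nat.lt_or_ge i 235750 with h5 | h5
          · skip
            rcases Nat.lt_or_ge i 235625 with h6 | h6
            · skip
              rcases Nat.lt_or_ge i 235550 with h7 | h7
              · skip
                rcases Nat.lt_or_ge i 235525 with h8 | h8
                · skip
                  exact allRangeF_sound _ _ (checkPointF_eq cert) 235500 25 chkP_235500 i (by omega) (by omega)
                · skip
                  exact allRangeF_sound _ _ (checkPointF_eq cert) 235525 25 chkP_235525 i (by omega) (by omega)
              · skip
                rcases Nat.lt_or_ge i 235575 with h8 | h8
                · skip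
                  exact allRangeF_sound _ _ (checkPointF_eq cert) 235550 25 chkP_235550 i (by omega) (by omega)
                · skip
                  rcases Nat.lt_or_ge i 235600 with h9 | h9
                  · skip
                    exact allRangeF_sound _ _ (checkPointF_eq cert) 235575 25 chkP_235575 i (by omega) (by omega)
                  · skip
                    exact allRangeF_sound _ _ (checkPointF_eq cert) 235600 25 chkP_235600 i (by omega) (by omega)
            · skip
              rcases Nat.lt_or_ge i 235675 with h7 | h7
              · skip
                rcases Nat.lt_or_ge i 235650 with h8 | h8
                · skip
                  exact allRangeF_sound _ _ (checkPointF_eq cert) 235625 25 chkP_235625 i (by omega) (by omega)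
                · skip
                  exact allRangeF_sound _ _ (checkPointF_eq cert) 235650 25 chkP_235650 i (by omega) (by omega)
              · skip
                rcases Nat.lt_or_ge i 235700 with h8 | h8
                · skip
                  exact allRangeF_sound _ _ (checkPointF_eq cert) 235675 25 chkP_235675 i (by omega) (by omega)
                · skip
                  rcases Nat.lt_or_ge i 235725 with h9 | h9
                  · skip
                    exact allRangeF_sound _ _ (checkPointF_eq cert) 235700 25 chkP_235700 i (by omega) (by omega)
                  · skip
                    exact allRangeF_sound _ _ (checkPointF_eq cert) 235725 25 chkP_235725 i (by omega) (by omega)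
          · skip
            rcases Nat.lt_or_ge i 235875 with h6 | h6
            · skip
              rcases Nat.lt_or_ge i 235800 with h7 | h7
              · skip
                rcases Nat.lt_or_ge i 235775 with h8 | h8
                · skip
                  exact allRangeF_sound _ _ (checkPointF_eq cert) 235750 25 chkP_235750 i (by omega) (by omega)
                · skip
                  exact allRangeF_sound _ _ (checkPointF_eq cert) 235775 25 chkP_235775 i (by omega) (by omega)
              · skip
                rcases Nat.lt_or_ge i 235825 with h8 | h8
                · skip
                  exact allRangeF_sound _ _ (checkPointF_eq cert) 235800 25 chkP_235800 i (by omega) (by omega)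
                · skip
                  rcases Nat.lt_or_ge i 235850 with h9 | h9
                  · skip
                    exact allRangeF_sound _ _ (checkPointF_eq cert) 235825 25 chkP_235825 i (by omega) (by omega)
                  · skip
                    exact allRangeF_sound _ _ (checkPointF_eq cert) 235850 25 chkP_235850 i (by omega) (by omega)
            · skip
              rcases Nat.lt_or_ge i 235925 with h7 | h7
              · skip
                rcases Nat.lt_or_ge i 235900 with h8 | h8
                · skip
                  exact allRangeF_sound _ _ (checkPointF_eq cert) 235875 25 chkP_235875 i (by omega) (by omega)
                · skip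
                  exact allRangeF_sound _ _ (checkPointF_eq cert) 235900 25 chkP_235900 i (by omega) (by omega)
              · skip
                rcases Nat.lt_or_ge i 235950 with h8 | h8
                · skip
                  exact allRangeF_sound _ _ (checkPointF_eq cert) 235925 25 chkP_235925 i (by omega) (by omega)
                · skip
                  rcases Nat.lt_or_ge i 235975 with h9 | h9
                  · skip
                    exact allRangeF_sound _ _ (checkPointF_eq cert) 235950 25 chkP_235950 i (by omega) (by omega)
                  · skip
                    exact allRangeF_sound _ _ (checkPointF_eq cert) 235975 25 chkP_235975 i (by omega) (by omega)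
    · skip
      rcases Nat.lt_or_ge i 236950 with h3 | h3
      · skip
        rcases Nat.lt_or_ge i 236475 with h4 | h4
        · skip
          rcases Nat.lt_or_ge i 236225 with h5 | h5
          · skip
            rcases Nat.lt_or_ge i 236100 with h6 | h6
            · skip
              rcases Nat.lt_or_ge i 236050 with h7 | h7
              · skip
                rcases Nat.lt_or_ge i 236025 with h8 | h8
                · skip
                  exact allRangeF_sound _ _ (checkPointF_eq cert) 236000 25 chkP_236000 i (by omega) (by omega)
                · skip
                  exact allRangeF_sound _ _ (checkPointF_eq cert) 236025 25 chkP_236025 i (by omega) (by omega)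
              · skip
                rcases Nat.lt_or_ge i 236075 with h8 | h8
                · skip
                  exact allRangeF_sound _ _ (checkPointF_eq cert) 236050 25 chkP_236050 i (by omega) (by omega)
                · skip
                  exact allRangeF_sound _ _ (checkPointF_eq cert) 236075 25 chkP_236075 i (by omega) (by omega)
            · skip
              rcases Nat.lt_or_ge i 236150 with h7 | h7
              · skip
                rcases Nat.lt_or_ge i 236125 with h8 | h8
                · skip
                  exact allRangeF_sound _ _ (checkPointF_eq cert) 236100 25 chkP_236100 i (by omega) (by omega)
                · skip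
                  exact allRangeF_sound _ _ (checkPointF_eq cert) 236125 25 chkP_236125 i (by omega) (by omega)
              · skip
                rcases Nat.lt_or_ge i 236175 with h8 | h8
                · skip
                  exact allRangeF_sound _ _ (checkPointF_eq cert) 236150 25 chkP_236150 i (by omega) (by omega)
                · skip
                  rcases Nat.lt_or_ge i 236200 with h9 | h9
                  · skip
                    exact allRangeF_sound _ _ (checkPointF_eq cert) 236175 25 chkP_236175 i (by omega) (by omega)
                  · skip
                    exact allRangeF_sound _ _ (checkPointF_eq cert) 236200 25 chkP_236200 i (by omega) (by omega)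
          · skip
            rcases Nat.lt_or_ge i 236350 with h6 | h6
            · skip
              rcases Nat.lt_or_ge i 236275 with h7 | h7
              · skip
                rcases Nat.lt_or_ge i 236250 with h8 | h8
                · skip
                  exact allRangeF_sound _ _ (checkPointF_eq cert) 236225 25 chkP_236225 i (by omega) (by omega)
                · skip
                  exact allRangeF_sound _ _ (checkPointF_eq cert) 236250 25 chkP_236250 i (by omega) (by omega)
              · skip
                rcases Nat.lt_or_ge i 236300 with h8 | h8
                · skip
                  exact allRangeF_sound _ _ (checkPointF_eq cert) 236275 25 chkP_236275 i (by omega) (by omega)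
                · skip
                  rcases Nat.lt_or_ge i 236325 with h9 | h9
                  · skip
                    exact allRangeF_sound _ _ (checkPointF_eq cert) 236300 25 chkP_236300 i (by omega) (by omega)
                  · skip
                    exact allRangeF_sound _ _ (checkPointF_eq cert) 236325 25 chkP_236325 i (by omega) (by omega)
            · skip
              rcases Nat.lt_or_ge i 236400 with h7 | h7
              · skip
                rcases Nat.lt_or_ge i 236375 with h8 | h8
                · skip
                  exact allRangeF_sound _ _ (checkPointF_eq cert) 236350 25 chkP_236350 i (by omega) (by omega)
                · skip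
                  exact allRangeF_sound _ _ (checkPointF_eq cert) 236375 25 chkP_236375 i (by omega) (by omega)
              · skip
                rcases Nat.lt_or_ge i 236425 with h8 | h8
                · skip
                  exact allRangeF_sound _ _ (checkPointF_eq cert) 236400 25 chkP_236400 i (by omega) (by omega)
                · skip
                  rcases Nat.lt_or_ge i 236450 with h9 | h9
                  · skip
                    exact allRangeF_sound _ _ (checkPointF_eq cert) 236425 25 chkP_236425 i (by omega) (by omega)
                  · skip
                    exact allRangeF_sound _ _ (checkPointF_eq cert) 236450 25 chkP_236450 i (by omega) (by omega)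
        · skip
          rcases Nat.lt_or_ge i 236700 with h5 | h5
          · skip
            rcases Nat.lt_or_ge i 236575 with h6 | h6
            · skip
              rcases Nat.lt_or_ge i 236525 with h7 | h7
              · skip
                rcases Nat.lt_or_ge i 236500 with h8 | h8
                · skip
                  exact allRangeF_sound _ _ (checkPointF_eq cert) 236475 25 chkP_236475 i (by omega) (by omega)
                · skip
                  exact allRangeF_sound _ _ (checkPointF_eq cert) 236500 25 chkP_236500 i (by omega) (by omega)
              · skip
                rcases Nat.lt_or_ge i 236550 with h8 | h8
                · skip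
                  exact allRangeF_sound _ _ (checkPointF_eq cert) 236525 25 chkP_236525 i (by omega) (by omega)
                · skip
                  exact allRangeF_sound _ _ (checkPointF_eq cert) 236550 25 chkP_236550 i (by omega) (by omega)
            · skip
              rcases Nat.lt_or_ge i 236625 with h7 | h7
              · skip
                rcases Nat.lt_or_ge i 236600 with h8 | h8
                · skip
                  exact allRangeF_sound _ _ (checkPointF_eq cert) 236575 25 chkP_236575 i (by omega) (by omega)
                · skip
                  exact allRangeF_sound _ _ (checkPointF_eq cert) 236600 25 chkP_236600 i (by omega) (by omega)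
              · skip
                rcases Nat.lt_or_ge i 236650 with h8 | h8
                · skip
                  exact allRangeF_sound _ _ (checkPointF_eq cert) 236625 25 chkP_236625 i (by omega) (by omega)
                · skip
                  rcases Nat.lt_or_ge i 236675 with h9 | h9
                  · skip
                    exact allRangeF_sound _ _ (checkPointF_eq cert) 236650 25 chkP_236650 i (by omega) (by omega)
                  · skip
                    exact allRangeF_sound _ _ (checkPointF_eq cert) 236675 25 chkP_236675 i (by omega) (by omega)
          · skip
            rcases Nat.lt_or_ge i 236825 with h6 | h6
            · skip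
              rcases Nat.lt_or_ge i 236750 with h7 | h7
              · skip
                rcases Nat.lt_or_ge i 236725 with h8 | h8
                · skip
                  exact allRangeF_sound _ _ (checkPointF_eq cert) 236700 25 chkP_236700 i (by omega) (by omega)
                · skip
                  exact allRangeF_sound _ _ (checkPointF_eq cert) 236725 25 chkP_236725 i (by omega) (by omega)
              · skip
                rcases Nat.lt_or_ge i 236775 with h8 | h8
                · skip
                  exact allRangeF_sound _ _ (checkPointF_eq cert) 236750 25 chkP_236750 i (by omega) (by omega)
                · skip
                  rcases Nat.lt_or_ge i 236800 with h9 | h9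
                  · skip
                    exact allRangeF_sound _ _ (checkPointF_eq cert) 236775 25 chkP_236775 i (by omega) (by omega)
                  · skip
                    exact allRangeF_sound _ _ (checkPointF_eq cert) 236800 25 chkP_236800 i (by omega) (by omega)
            · skip
              rcases Nat.lt_or_ge i 236875 with h7 | h7
              · skip
                rcases Nat.lt_or_ge i 236850 with h8 | h8
                · skip
                  exact allRangeF_sound _ _ (checkPointF_eq cert) 236825 25 chkP_236825 i (by omega) (by omega)
                · skip
                  exact allRangeF_sound _ _ (checkPointF_eq cert) 236850 25 chkP_236850 i (by omega) (by omega)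
              · skip
                rcases Nat.lt_or_ge i 236900 with h8 | h8
                · skip
                  exact allRangeF_sound _ _ (checkPointF_eq cert) 236875 25 chkP_236875 i (by omega) (by omega)
                · skip
                  rcases Nat.lt_or_ge i 236925 with h9 | h9
                  · skip
                    exact allRangeF_sound _ _ (checkPointF_eq cert) 236900 25 chkP_236900 i (by omega) (by omega)
                  · skip
                    exact allRangeF_sound _ _ (checkPointF_eq cert) 236925 25 chkP_236925 i (by omega) (by omega)
      · skip
        rcases Nat.lt_or_ge i 237425 with h4 | h4
        · skip
          rcases Nat.lt_or_ge i 237175 with h5 | h5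
          · skip
            rcases Nat.lt_or_ge i 237050 with h6 | h6
            · skip
              rcases Nat.lt_or_ge i 237000 with h7 | h7
              · skip
                rcases Nat.lt_or_ge i 236975 with h8 | h8
                · skip
                  exact allRangeF_sound _ _ (checkPointF_eq cert) 236950 25 chkP_236950 i (by omega) (by omega)
                · skip
                  exact allRangeF_sound _ _ (checkPointF_eq cert) 236975 25 chkP_236975 i (by omega) (by omega)
              · skip
                rcases Nat.lt_or_ge i 237025 with h8 | h8
                · skip
                  exact allRangeF_sound _ _ (checkPointF_eq cert) 237000 25 chkP_237000 i (by omega) (by omega)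
                · skip
                  exact allRangeF_sound _ _ (checkPointF_eq cert) 237025 25 chkP_237025 i (by omega) (by omega)
            · skip
              rcases Nat.lt_or_ge i 237100 with h7 | h7
              · skip
                rcases Nat.lt_or_ge i 237075 with h8 | h8
                · skip
                  exact allRangeF_sound _ _ (checkPointF_eq cert) 237050 25 chkP_237050 i (by omega) (by omega)
                · skip
                  exact allRangeF_sound _ _ (checkPointF_eq cert) 237075 25 chkP_237075 i (by omega) (by omega)
              · skip
                rcases Nat.lt_or_ge i 237125 with h8 | h8
                · skip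
                  exact allRangeF_sound _ _ (checkPointF_eq cert) 237100 25 chkP_237100 i (by omega) (by omega)
                · skip
                  rcases Nat.lt_or_ge i 237150 with h9 | h9
                  · skip
                    exact allRangeF_sound _ _ (checkPointF_eq cert) 237125 25 chkP_237125 i (by omega) (by omega)
                  · skip
                    exact allRangeF_sound _ _ (checkPointF_eq cert) 237150 25 chkP_237150 i (by omega) (by omega)
          · skip
            rcases Nat.lt_or_ge i 237300 with h6 | h6
            · skip
              rcases Nat.lt_or_ge i 237225 with h7 | h7
              · skip
                rcases Nat.lt_or_ge i 237200 with h8 | h8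
                · skip
                  exact allRangeF_sound _ _ (checkPointF_eq cert) 237175 25 chkP_237175 i (by omega) (by omega)
                · skip
                  exact allRangeF_sound _ _ (checkPointF_eq cert) 237200 25 chkP_237200 i (by omega) (by omega)
              · skip
                rcases Nat.lt_or_ge i 237250 with h8 | h8
                · skip
                  exact allRangeF_sound _ _ (checkPointF_eq cert) 237225 25 chkP_237225 i (by omega) (by omega)
                · skip
                  rcases Nat.lt_or_ge i 237275 with h9 | h9
                  · skip
                    exact allRangeF_sound _ _ (checkPointF_eq cert) 237250 25 chkP_237250 i (by omega) (by omega)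
                  · skip
                    exact allRangeF_sound _ _ (checkPointF_eq cert) 237275 25 chkP_237275 i (by omega) (by omega)
            · skip
              rcases Nat.lt_or_ge i 237350 with h7 | h7
              · skip
                rcases Nat.lt_or_ge i 237325 with h8 | h8
                · skip
                  exact allRangeF_sound _ _ (checkPointF_eq cert) 237300 25 chkP_237300 i (by omega) (by omega)
                · skip
                  exact allRangeF_sound _ _ (checkPointF_eq cert) 237325 25 chkP_237325 i (by omega) (by omega)
              · skip
                rcases Nat.lt_or_ge i 237375 with h8 | h8
                · skip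
                  exact allRangeF_sound _ _ (checkPointF_eq cert) 237350 25 chkP_237350 i (by omega) (by omega)
                · skip
                  rcases Nat.lt_or_ge i 237400 with h9 | h9
                  · skip
                    exact allRangeF_sound _ _ (checkPointF_eq cert) 237375 25 chkP_237375 i (by omega) (by omega)
                  · skip
                    exact allRangeF_sound _ _ (checkPointF_eq cert) 237400 25 chkP_237400 i (by omega) (by omega)
        · skip
          rcases Nat.lt_or_ge i 237675 with h5 | h5
          · skip
            rcases Nat.lt_or_ge i 237550 with h6 | h6
            · skip
              rcases Nat.lt_or_ge i 237475 with h7 | h7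
              · skip
                rcases Nat.lt_or_ge i 237450 with h8 | h8
                · skip
                  exact allRangeF_sound _ _ (checkPointF_eq cert) 237425 25 chkP_237425 i (by omega) (by omega)
                · skip
                  exact allRangeF_sound _ _ (checkPointF_eq cert) 237450 25 chkP_237450 i (by omega) (by omega)
              · skip
                rcases Nat.lt_or_ge i 237500 with h8 | h8
                · skip
                  exact allRangeF_sound _ _ (checkPointF_eq cert) 237475 25 chkP_237475 i (by omega) (by omega)
                · skip
                  rcases Nat.lt_or_ge i 237525 with h9 | h9
                  · skip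
                    exact allRangeF_sound _ _ (checkPointF_eq cert) 237500 25 chkP_237500 i (by omega) (by omega)
                  · skip
                    exact allRangeF_sound _ _ (checkPointF_eq cert) 237525 25 chkP_237525 i (by omega) (by omega)
            · skip
              rcases Nat.lt_or_ge i 237600 with h7 | h7
              · skip
                rcases Nat.lt_or_ge i 237575 with h8 | h8
                · skip
                  exact allRangeF_sound _ _ (checkPointF_eq cert) 237550 25 chkP_237550 i (by omega) (by omega)
                · skip
                  exact allRangeF_sound _ _ (checkPointF_eq cert) 237575 25 chkP_237575 i (by omega) (by omega)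
              · skip
                rcases Nat.lt_or_ge i 237625 with h8 | h8
                · skip
                  exact allRangeF_sound _ _ (checkPointF_eq cert) 237600 25 chkP_237600 i (by omega) (by omega)
                · skip
                  rcases Nat.lt_or_ge i 237650 with h9 | h9
                  · skip
                    exact allRangeF_sound _ _ (checkPointF_eq cert) 237625 25 chkP_237625 i (by omega) (by omega)
                  · skip
                    exact allRangeF_sound _ _ (checkPointF_eq cert) 237650 25 chkP_237650 i (by omega) (by omega)
          · skip
            rcases Nat.lt_or_ge i 237800 with h6 | h6
            · skip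
              rcases Nat.lt_or_ge i 237725 with h7 | h7
              · skip
                rcases Nat.lt_or_ge i 237700 with h8 | h8
                · skip
                  exact allRangeF_sound _ _ (checkPointF_eq cert) 237675 25 chkP_237675 i (by omega) (by omega)
                · skip
                  exact allRangeF_sound _ _ (checkPointF_eq cert) 237700 25 chkP_237700 i (by omega) (by omega)
              · skip
                rcases Nat.lt_or_ge i 237750 with h8 | h8
                · skip
                  exact allRangeF_sound _ _ (checkPointF_eq cert) 237725 25 chkP_237725 i (by omega) (by omega)
                · skip
                  rcases Nat.lt_or_ge i 237775 with h9 | h9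
                  · skip
                    exact allRangeF_sound _ _ (checkPointF_eq cert) 237750 25 chkP_237750 i (by omega) (by omega)
                  · skip
                    exact allRangeF_sound _ _ (checkPointF_eq cert) 237775 25 chkP_237775 i (by omega) (by omega)
            · skip
              rcases Nat.lt_or_ge i 237850 with h7 | h7
              · skip
                rcases Nat.lt_or_ge i 237825 with h8 | h8
                · skip
                  exact allRangeF_sound _ _ (checkPointF_eq cert) 237800 25 chkP_237800 i (by omega) (by omega)
                · skip
                  exact allRangeF_sound _ _ (checkPointF_eq cert) 237825 25 chkP_237825 i (by omega) (by omega)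
              · skip
                rcases Nat.lt_or_ge i 237875 with h8 | h8
                · skip
                  exact allRangeF_sound _ _ (checkPointF_eq cert) 237850 25 chkP_237850 i (by omega) (by omega)
                · skip
                  rcases Nat.lt_or_ge i 237900 with h9 | h9
                  · skip
                    exact allRangeF_sound _ _ (checkPointF_eq cert) 237875 25 chkP_237875 i (by omega) (by omega)
                  · skip
                    exact allRangeF_sound _ _ (checkPointF_eq cert) 237900 25 chkP_237900 i (by omega) (by omega)

end Cfsg.Agent.Lib.Helper28.Fi24Data
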