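import Cfsg.Agent.Lib.Helper28.Fi24Data
import Cfsg.Agent.Lib.Helper28.TCFastB

set_option autoImplicit false
set_option maxRecDepth 1000000
set_option linter.all false
set_option Elab.async false

namespace Cfsg.Agent.Lib.Helper28.Fi24Data

open Cfsg.Agent.Lib.Helper28B

theorem chkP_237925 : allRangeF (checkPointF cert) (nat_lit 237925) (nat_lit 25) = true := by decide +kernel
theorem chkP_237950 : allRangeF (checkPointF cert) (nat_lit 237950) (nat_lit 25) = true := by decide +kernel
theorem chkP_237975 : allRangeF (checkPointF cert) (nat_lit 237975) (nat_lit 25) = true := by decide +kernel
theorem chkP_238000 : allRangeF (checkPointF cert) (nat_lit 238000) (nat_lit 25) = true := by decide +kernel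
theorem chkP_238025 : allRangeF (checkPointF cert) (nat_lit 238025) (nat_lit 25) = true := by decide +kernel
theorem chkP_238050 : allRangeF (checkPointF cert) (nat_lit 238050) (nat_lit 25) = true := by decide +kernel
theorem chkP_238075 : allRangeF (checkPointF cert) (nat_lit 238075) (nat_lit 25) = true := by decide +kernel
theorem chkP_238100 : allRangeF (checkPointF cert) (nat_lit 238100) (nat_lit 25) = true := by decide +kernel
theorem chkP_238125 : allRangeF (checkPointF cert) (nat_lit 238125) (nat_lit 25) = true := by decide +kernel
theorem chkP_238150 : allRangeF (checkPointF cert) (nat_lit 238150) (nat_lit 25) = true := by decide +kernel
theorem chkP_238175 : allRangeF (checkPointF cert) (nat_lit 238175) (nat_lit 25) = true := by decide +kernel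
theorem chkP_238200 : allRangeF (checkPointF cert) (nat_lit 238200) (nat_lit 25) = true := by decide +kernel
theorem chkP_238225 : allRangeF (checkPointF cert) (nat_lit 238225) (nat_lit 25) = true := by decide +kernel
theorem chkP_238250 : allRangeF (checkPointF cert) (nat_lit 238250) (nat_lit 25) = true := by decide +kernel
theorem chkP_238275 : allRangeF (checkPointF cert) (nat_lit 238275) (nat_lit 25) = true := by decide +kernel
theorem chkP_238300 : allRangeF (checkPointF cert) (nat_lit 238300) (nat_lit 25) = true := by decide +kernel
theorem chkP_238325 : allRangeF (checkPointF cert) (nat_lit 238325) (nat_lit 25) = true := by decide +kernel
theorem chkP_238350 : allRangeF (checkPointF cert) (nat_lit 238350) (nat_lit 25) = true := by decide +kernel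
theorem chkP_238375 : allRangeF (checkPointF cert) (nat_lit 238375) (nat_lit 25) = true := by decide +kernel
theorem chkP_238400 : allRangeF (checkPointF cert) (nat_lit 238400) (nat_lit 25) = true := by decide +kernel
theorem chkP_238425 : allRangeF (checkPointF cert) (nat_lit 238425) (nat_lit 25) = true := by decide +kernel
theorem chkP_238450 : allRangeF (checkPointF cert) (nat_lit 238450) (nat_lit 25) = true := by decide +kernel
theorem chkP_238475 : allRangeF (checkPointF cert) (nat_lit 238475) (nat_lit 25) = true := by decide +kernel
theorem chkP_238500 : allRangeF (checkPointF cert) (nat_lit 238500) (nat_lit 25) = true := by decide +kernel
theorem chkP_238525 : allRangeF (checkPointF cert) (nat_lit 238525) (nat_lit 25) = true := by decide +kernel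
theorem chkP_238550 : allRangeF (checkPointF cert) (nat_lit 238550) (nat_lit 25) = true := by decide +kernel
theorem chkP_238575 : allRangeF (checkPointF cert) (nat_lit 238575) (nat_lit 25) = true := by decide +kernel
theorem chkP_238600 : allRangeF (checkPointF cert) (nat_lit 238600) (nat_lit 25) = true := by decide +kernel
theorem chkP_238625 : allRangeF (checkPointF cert) (nat_lit 238625) (nat_lit 25) = true := by decide +kernel
theorem chkP_238650 : allRangeF (checkPointF cert) (nat_lit 238650) (nat_lit 25) = true := by decide +kernel
theorem chkP_238675 : allRangeF (checkPointF cert) (nat_lit 238675) (nat_lit 25) = true := by decide +kernel
theorem chkP_238700 : allRangeF (checkPointF cert) (nat_lit 238700) (nat_lit 25) = true := by decide +kernel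
theorem chkP_238725 : allRangeF (checkPointF cert) (nat_lit 238725) (nat_lit 25) = true := by decide +kernel
theorem chkP_238750 : allRangeF (checkPointF cert) (nat_lit 238750) (nat_lit 25) = true := by decide +kernel
theorem chkP_238775 : allRangeF (checkPointF cert) (nat_lit 238775) (nat_lit 25) = true := by decide +kernel
theorem chkP_238800 : allRangeF (checkPointF cert) (nat_lit 238800) (nat_lit 25) = true := by decide +kernel
theorem chkP_238825 : allRangeF (checkPointF cert) (nat_lit 238825) (nat_lit 25) = true := by decide +kernel
theorem chkP_238850 : allRangeF (checkPointF cert) (nat_lit 238850) (nat_lit 25) = true := by decide +kernel
theorem chkP_238875 : allRangeF (checkPointF cert) (nat_lit 238875) (nat_lit 25) = true := by decide +kernel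
theorem chkP_238900 : allRangeF (checkPointF cert) (nat_lit 238900) (nat_lit 25) = true := by decide +kernel
theorem chkP_238925 : allRangeF (checkPointF cert) (nat_lit 238925) (nat_lit 25) = true := by decide +kernel
theorem chkP_238950 : allRangeF (checkPointF cert) (nat_lit 238950) (nat_lit 25) = true := by decide +kernel
theorem chkP_238975 : allRangeF (checkPointF cert) (nat_lit 238975) (nat_lit 25) = true := by decide +kernel
theorem chkP_239000 : allRangeF (checkPointF cert) (nat_lit 239000) (nat_lit 25) = true := by decide +kernel
theorem chkP_239025 : allRangeF (checkPointF cert) (nat_lit 239025) (nat_lit 25) = true := by decide +kernel
theorem chkP_239050 : allRangeF (checkPointF cert) (nat_lit 239050) (nat_lit 25) = true := by decide +kernel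
theorem chkP_239075 : allRangeF (checkPointF cert) (nat_lit 239075) (nat_lit 25) = true := by decide +kernel
theorem chkP_239100 : allRangeF (checkPointF cert) (nat_lit 239100) (nat_lit 25) = true := by decide +kernel
theorem chkP_239125 : allRangeF (checkPointF cert) (nat_lit 239125) (nat_lit 25) = true := by decide +kernel
theorem chkP_239150 : allRangeF (checkPointF cert) (nat_lit 239150) (nat_lit 25) = true := by decide +kernel
theorem chkP_239175 : allRangeF (checkPointF cert) (nat_lit 239175) (nat_lit 25) = true := by decide +kernel
theorem chkP_239200 : allRangeF (checkPointF cert) (nat_lit 239200) (nat_lit 25) = true := by decide +kernel
theorem chkP_239225 : allRangeF (checkPointF cert) (nat_lit 239225) (nat_lit 25) = true := by decide +kernel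
theorem chkP_239250 : allRangeF (checkPointF cert) (nat_lit 239250) (nat_lit 25) = true := by decide +kernel
theorem chkP_239275 : allRangeF (checkPointF cert) (nat_lit 239275) (nat_lit 25) = true := by decide +kernel
theorem chkP_239300 : allRangeF (checkPointF cert) (nat_lit 239300) (nat_lit 25) = true := by decide +kernel
theorem chkP_239325 : allRangeF (checkPointF cert) (nat_lit 239325) (nat_lit 25) = true := by decide +kernel
theorem chkP_239350 : allRangeF (checkPointF cert) (nat_lit 239350) (nat_lit 25) = true := by decide +kernel
theorem chkP_239375 : allRangeF (checkPointF cert) (nat_lit 239375) (nat_lit 25) = true := by decide +kernel
theorem chkP_239400 : allRangeF (checkPointF cert) (nat_lit 239400) (nat_lit 25) = true := by decide +kernel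
theorem chkP_239425 : allRangeF (checkPointF cert) (nat_lit 239425) (nat_lit 25) = true := by decide +kernel
theorem chkP_239450 : allRangeF (checkPointF cert) (nat_lit 239450) (nat_lit 25) = true := by decide +kernel
theorem chkP_239475 : allRangeF (checkPointF cert) (nat_lit 239475) (nat_lit 25) = true := by decide +kernel
theorem chkP_239500 : allRangeF (checkPointF cert) (nat_lit 239500) (nat_lit 25) = true := by decide +kernel
theorem chkP_239525 : allRangeF (checkPointF cert) (nat_lit 239525) (nat_lit 25) = true := by decide +kernel
theorem chkP_239550 : allRangeF (checkPointF cert) (nat_lit 239550) (nat_lit 25) = true := by decide +kernel
theorem chkP_239575 : allRangeF (checkPointF cert) (nat_lit 239575) (nat_lit 25) = true := by decide +kernel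
theorem chkP_239600 : allRangeF (checkPointF cert) (nat_lit 239600) (nat_lit 25) = true := by decide +kernel
theorem chkP_239625 : allRangeF (checkPointF cert) (nat_lit 239625) (nat_lit 25) = true := by decide +kernel
theorem chkP_239650 : allRangeF (checkPointF cert) (nat_lit 239650) (nat_lit 25) = true := by decide +kernel
theorem chkP_239675 : allRangeF (checkPointF cert) (nat_lit 239675) (nat_lit 25) = true := by decide +kernel
theorem chkP_239700 : allRangeF (checkPointF cert) (nat_lit 239700) (nat_lit 25) = true := by decide +kernel
theorem chkP_239725 : allRangeF (checkPointF cert) (nat_lit 239725) (nat_lit 25) = true := by decide +kernel
theorem chkP_239750 : allRangeF (checkPointF cert) (nat_lit 239750) (nat_lit 25) = true := by decide +kernel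
theorem chkP_239775 : allRangeF (checkPointF cert) (nat_lit 239775) (nat_lit 25) = true := by decide +kernel
theorem chkP_239800 : allRangeF (checkPointF cert) (nat_lit 239800) (nat_lit 25) = true := by decide +kernel
theorem chkP_239825 : allRangeF (checkPointF cert) (nat_lit 239825) (nat_lit 25) = true := by decide +kernel
theorem chkP_239850 : allRangeF (checkPointF cert) (nat_lit 239850) (nat_lit 25) = true := by decide +kernel
theorem chkP_239875 : allRangeF (checkPointF cert) (nat_lit 239875) (nat_lit 25) = true := by decide +kernel
theorem chkP_239900 : allRangeF (checkPointF cert) (nat_lit 239900) (nat_lit 25) = true := by decide +kernel
theorem chkP_239925 : allRangeF (checkPointF cert) (nat_lit 239925) (nat_lit 25) = true := by decide +kernel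
theorem chkP_239950 : allRangeF (checkPointF cert) (nat_lit 239950) (nat_lit 25) = true := by decide +kernel
theorem chkP_239975 : allRangeF (checkPointF cert) (nat_lit 239975) (nat_lit 25) = true := by decide +kernel
theorem chkP_240000 : allRangeF (checkPointF cert) (nat_lit 240000) (nat_lit 25) = true := by decide +kernel
theorem chkP_240025 : allRangeF (checkPointF cert) (nat_lit 240025) (nat_lit 25) = true := by decide +kernel
theorem chkP_240050 : allRangeF (checkPointF cert) (nat_lit 240050) (nat_lit 25) = true := by decide +kernel
theorem chkP_240075 : allRangeF (checkPointF cert) (nat_lit 240075) (nat_lit 25) = true := by decide +kernel
theorem chkP_240100 : allRangeF (checkPointF cert) (nat_lit 240100) (nat_lit 25) = true := by decide +kernel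
theorem chkP_240125 : allRangeF (checkPointF cert) (nat_lit 240125) (nat_lit 25) = true := by decide +kernel
theorem chkP_240150 : allRangeF (checkPointF cert) (nat_lit 240150) (nat_lit 25) = true := by decide +kernel
theorem chkP_240175 : allRangeF (checkPointF cert) (nat_lit 240175) (nat_lit 25) = true := by decide +kernel
theorem chkP_240200 : allRangeF (checkPointF cert) (nat_lit 240200) (nat_lit 25) = true := by decide +kernel
theorem chkP_240225 : allRangeF (checkPointF cert) (nat_lit 240225) (nat_lit 25) = true := by decide +kernel
theorem chkP_240250 : allRangeF (checkPointF cert) (nat_lit 240250) (nat_lit 25) = true := by decide +kernel
theorem chkP_240275 : allRangeF (checkPointF cert) (nat_lit 240275) (nat_lit 25) = true := by decide +kernel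
theorem chkP_240300 : allRangeF (checkPointF cert) (nat_lit 240300) (nat_lit 25) = true := by decide +kernel
theorem chkP_240325 : allRangeF (checkPointF cert) (nat_lit 240325) (nat_lit 25) = true := by decide +kernel
theorem chkP_240350 : allRangeF (checkPointF cert) (nat_lit 240350) (nat_lit 25) = true := by decide +kernel
theorem chkP_240375 : allRangeF (checkPointF cert) (nat_lit 240375) (nat_lit 25) = true := by decide +kernel
theorem chkP_240400 : allRangeF (checkPointF cert) (nat_lit 240400) (nat_lit 25) = true := by decide +kernel
theorem chkP_240425 : allRangeF (checkPointF cert) (nat_lit 240425) (nat_lit 25) = true := by decide +kernel
theorem chkP_240450 : allRangeF (checkPointF cert) (nat_lit 240450) (nat_lit 25) = true := by decide +kernel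
theorem chkP_240475 : allRangeF (checkPointF cert) (nat_lit 240475) (nat_lit 25) = true := by decide +kernel
theorem chkP_240500 : allRangeF (checkPointF cert) (nat_lit 240500) (nat_lit 25) = true := by decide +kernel
theorem chkP_240525 : allRangeF (checkPointF cert) (nat_lit 240525) (nat_lit 25) = true := by decide +kernel
theorem chkP_240550 : allRangeF (checkPointF cert) (nat_lit 240550) (nat_lit 25) = true := by decide +kernel
theorem chkP_240575 : allRangeF (checkPointF cert) (nat_lit 240575) (nat_lit 25) = true := by decide +kernel
theorem chkP_240600 : allRangeF (checkPointF cert) (nat_lit 240600) (nat_lit 25) = true := by decide +kernel
theorem chkP_240625 : allRangeF (checkPointF cert) (nat_lit 240625) (nat_lit 25) = true := by decide +kernel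
theorem chkP_240650 : allRangeF (checkPointF cert) (nat_lit 240650) (nat_lit 25) = true := by decide +kernel
theorem chkP_240675 : allRangeF (checkPointF cert) (nat_lit 240675) (nat_lit 25) = true := by decide +kernel
theorem chkP_240700 : allRangeF (checkPointF cert) (nat_lit 240700) (nat_lit 25) = true := by decide +kernel
theorem chkP_240725 : allRangeF (checkPointF cert) (nat_lit 240725) (nat_lit 25) = true := by decide +kernel
theorem chkP_240750 : allRangeF (checkPointF cert) (nat_lit 240750) (nat_lit 25) = true := by decide +kernel
theorem chkP_240775 : allRangeF (checkPointF cert) (nat_lit 240775) (nat_lit 25) = true := by decide +kernel
theorem chkP_240800 : allRangeF (checkPointF cert) (nat_lit 240800) (nat_lit 25) = true := by decide +kernel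
theorem chkP_240825 : allRangeF (checkPointF cert) (nat_lit 240825) (nat_lit 25) = true := by decide +kernel
theorem chkP_240850 : allRangeF (checkPointF cert) (nat_lit 240850) (nat_lit 25) = true := by decide +kernel
theorem chkP_240875 : allRangeF (checkPointF cert) (nat_lit 240875) (nat_lit 25) = true := by decide +kernel
theorem chkP_240900 : allRangeF (checkPointF cert) (nat_lit 240900) (nat_lit 25) = true := by decide +kernel
theorem chkP_240925 : allRangeF (checkPointF cert) (nat_lit 240925) (nat_lit 25) = true := by decide +kernel
theorem chkP_240950 : allRangeF (checkPointF cert) (nat_lit 240950) (nat_lit 25) = true := by decide +kernel
theorem chkP_240975 : allRangeF (checkPointF cert) (nat_lit 240975) (nat_lit 25) = true := by decide +kernel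
theorem chkP_241000 : allRangeF (checkPointF cert) (nat_lit 241000) (nat_lit 25) = true := by decide +kernel
theorem chkP_241025 : allRangeF (checkPointF cert) (nat_lit 241025) (nat_lit 25) = true := by decide +kernel
theorem chkP_241050 : allRangeF (checkPointF cert) (nat_lit 241050) (nat_lit 25) = true := by decide +kernel
theorem chkP_241075 : allRangeF (checkPointF cert) (nat_lit 241075) (nat_lit 25) = true := by decide +kernel
theorem chkP_241100 : allRangeF (checkPointF cert) (nat_lit 241100) (nat_lit 25) = true := by decide +kernel
theorem chkP_241125 : allRangeF (checkPointF cert) (nat_lit 241125) (nat_lit 25) = true := by decide +kernel
theorem chkP_241150 : allRangeF (checkPointF cert) (nat_lit 241150) (nat_lit 25) = true := by decide +kernel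
theorem chkP_241175 : allRangeF (checkPointF cert) (nat_lit 241175) (nat_lit 25) = true := by decide +kernel
theorem chkP_241200 : allRangeF (checkPointF cert) (nat_lit 241200) (nat_lit 25) = true := by decide +kernel
theorem chkP_241225 : allRangeF (checkPointF cert) (nat_lit 241225) (nat_lit 25) = true := by decide +kernel
theorem chkP_241250 : allRangeF (checkPointF cert) (nat_lit 241250) (nat_lit 25) = true := by decide +kernel
theorem chkP_241275 : allRangeF (checkPointF cert) (nat_lit 241275) (nat_lit 25) = true := by decide +kernel
theorem chkP_241300 : allRangeF (checkPointF cert) (nat_lit 241300) (nat_lit 25) = true := by decide +kernel
theorem chkP_241325 : allRangeF (checkPointF cert) (nat_lit 241325) (nat_lit 25) = true := by decide +kernel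
theorem chkP_241350 : allRangeF (checkPointF cert) (nat_lit 241350) (nat_lit 25) = true := by decide +kernel
theorem chkP_241375 : allRangeF (checkPointF cert) (nat_lit 241375) (nat_lit 25) = true := by decide +kernel
theorem chkP_241400 : allRangeF (checkPointF cert) (nat_lit 241400) (nat_lit 25) = true := by decide +kernel
theorem chkP_241425 : allRangeF (checkPointF cert) (nat_lit 241425) (nat_lit 25) = true := by decide +kernel
theorem chkP_241450 : allRangeF (checkPointF cert) (nat_lit 241450) (nat_lit 25) = true := by decide +kernel
theorem chkP_241475 : allRangeF (checkPointF cert) (nat_lit 241475) (nat_lit 25) = true := by decide +kernel
theorem chkP_241500 : allRangeF (checkPointF cert) (nat_lit 241500) (nat_lit 25) = true := by decide +kernel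
theorem chkP_241525 : allRangeF (checkPointF cert) (nat_lit 241525) (nat_lit 25) = true := by decide +kernel
theorem chkP_241550 : allRangeF (checkPointF cert) (nat_lit 241550) (nat_lit 25) = true := by decide +kernel
theorem chkP_241575 : allRangeF (checkPointF cert) (nat_lit 241575) (nat_lit 25) = true := by decide +kernel
theorem chkP_241600 : allRangeF (checkPointF cert) (nat_lit 241600) (nat_lit 25) = true := by decide +kernel
theorem chkP_241625 : allRangeF (checkPointF cert) (nat_lit 241625) (nat_lit 25) = true := by decide +kernel
theorem chkP_241650 : allRangeF (checkPointF cert) (nat_lit 241650) (nat_lit 25) = true := by decide +kernel
theorem chkP_241675 : allRangeF (checkPointF cert) (nat_lit 241675) (nat_lit 25) = true := by decide +kernel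
theorem chkP_241700 : allRangeF (checkPointF cert) (nat_lit 241700) (nat_lit 25) = true := by decide +kernel
theorem chkP_241725 : allRangeF (checkPointF cert) (nat_lit 241725) (nat_lit 25) = true := by decide +kernel
theorem chkP_241750 : allRangeF (checkPointF cert) (nat_lit 241750) (nat_lit 25) = true := by decide +kernel
theorem chkP_241775 : allRangeF (checkPointF cert) (nat_lit 241775) (nat_lit 25) = true := by decide +kernel
theorem chkP_241800 : allRangeF (checkPointF cert) (nat_lit 241800) (nat_lit 25) = true := by decide +kernel
theorem chkP_241825 : allRangeF (checkPointF cert) (nat_lit 241825) (nat_lit 25) = true := by decide +kernel
theorem chkP_241850 : allRangeF (checkPointF cert) (nat_lit 241850) (nat_lit 25) = true := by decide +kernel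
theorem chkP_241875 : allRangeF (checkPointF cert) (nat_lit 241875) (nat_lit 25) = true := by decide +kernel
theorem chkP_241900 : allRangeF (checkPointF cert) (nat_lit 241900) (nat_lit 25) = true := by decide +kernel
theorem chkP_241925 : allRangeF (checkPointF cert) (nat_lit 241925) (nat_lit 25) = true := by decide +kernel
theorem chkP_241950 : allRangeF (checkPointF cert) (nat_lit 241950) (nat_lit 25) = true := by decide +kernel
theorem chkP_241975 : allRangeF (checkPointF cert) (nat_lit 241975) (nat_lit 25) = true := by decide +kernel
theorem chkP_242000 : allRangeF (checkPointF cert) (nat_lit 242000) (nat_lit 25) = true := by decide +kernel
theorem chkP_242025 : allRangeF (checkPointF cert) (nat_lit 242025) (nat_lit 25) = true := by decide +kernel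
theorem chkP_242050 : allRangeF (checkPointF cert) (nat_lit 242050) (nat_lit 25) = true := by decide +kernel
theorem chkP_242075 : allRangeF (checkPointF cert) (nat_lit 242075) (nat_lit 25) = true := by decide +kernel
theorem chkP_242100 : allRangeF (checkPointF cert) (nat_lit 242100) (nat_lit 25) = true := by decide +kernel
theorem chkP_242125 : allRangeF (checkPointF cert) (nat_lit 242125) (nat_lit 25) = true := by decide +kernel
theorem chkP_242150 : allRangeF (checkPointF cert) (nat_lit 242150) (nat_lit 25) = true := by decide +kernel
theorem chkP_242175 : allRangeF (checkPointF cert) (nat_lit 242175) (nat_lit 25) = true := by decide +kernel
theorem chkP_242200 : allRangeF (checkPointF cert) (nat_lit 242200) (nat_lit 25) = true := by decide +kernel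
theorem chkP_242225 : allRangeF (checkPointF cert) (nat_lit 242225) (nat_lit 25) = true := by decide +kernel
theorem chkP_242250 : allRangeF (checkPointF cert) (nat_lit 242250) (nat_lit 25) = true := by decide +kernel
theorem chkP_242275 : allRangeF (checkPointF cert) (nat_lit 242275) (nat_lit 25) = true := by decide +kernel
theorem chkP_242300 : allRangeF (checkPointF cert) (nat_lit 242300) (nat_lit 25) = true := by decide +kernel
theorem chkP_242325 : allRangeF (checkPointF cert) (nat_lit 242325) (nat_lit 25) = true := by decide +kernel
theorem chkP_242350 : allRangeF (checkPointF cert) (nat_lit 242350) (nat_lit 25) = true := by decide +kernel
theorem chkP_242375 : allRangeF (checkPointF cert) (nat_lit 242375) (nat_lit 25) = true := by decide +kernel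
theorem chkP_242400 : allRangeF (checkPointF cert) (nat_lit 242400) (nat_lit 25) = true := by decide +kernel
theorem chkP_242425 : allRangeF (checkPointF cert) (nat_lit 242425) (nat_lit 25) = true := by decide +kernel
theorem chkP_242450 : allRangeF (checkPointF cert) (nat_lit 242450) (nat_lit 25) = true := by decide +kernel
theorem chkP_242475 : allRangeF (checkPointF cert) (nat_lit 242475) (nat_lit 25) = true := by decide +kernel
theorem chkP_242500 : allRangeF (checkPointF cert) (nat_lit 242500) (nat_lit 25) = true := by decide +kernel
theorem chkP_242525 : allRangeF (checkPointF cert) (nat_lit 242525) (nat_lit 25) = true := by decide +kernel
theorem chkP_242550 : allRangeF (checkPointF cert) (nat_lit 242550) (nat_lit 25) = true := by decide +kernel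
theorem chkP_242575 : allRangeF (checkPointF cert) (nat_lit 242575) (nat_lit 25) = true := by decide +kernel
theorem chkP_242600 : allRangeF (checkPointF cert) (nat_lit 242600) (nat_lit 25) = true := by decide +kernel
theorem chkP_242625 : allRangeF (checkPointF cert) (nat_lit 242625) (nat_lit 25) = true := by decide +kernel
theorem chkP_242650 : allRangeF (checkPointF cert) (nat_lit 242650) (nat_lit 25) = true := by decide +kernel
theorem chkP_242675 : allRangeF (checkPointF cert) (nat_lit 242675) (nat_lit 25) = true := by decide +kernel
theorem chkP_242700 : allRangeF (checkPointF cert) (nat_lit 242700) (nat_lit 25) = true := by decide +kernel
theorem chkP_242725 : allRangeF (checkPointF cert) (nat_lit 242725) (nat_lit 25) = true := by decide +kernel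
theorem chkP_242750 : allRangeF (checkPointF cert) (nat_lit 242750) (nat_lit 25) = true := by decide +kernel
theorem chkP_242775 : allRangeF (checkPointF cert) (nat_lit 242775) (nat_lit 25) = true := by decide +kernel
theorem chkP_242800 : allRangeF (checkPointF cert) (nat_lit 242800) (nat_lit 25) = true := by decide +kernel
theorem chkP_242825 : allRangeF (checkPointF cert) (nat_lit 242825) (nat_lit 25) = true := by decide +kernel
theorem chkP_242850 : allRangeF (checkPointF cert) (nat_lit 242850) (nat_lit 25) = true := by decide +kernel
theorem chkP_242875 : allRangeF (checkPointF cert) (nat_lit 242875) (nat_lit 25) = true := by decide +kernel
theorem chkP_242900 : allRangeF (checkPointF cert) (nat_lit 242900) (nat_lit 25) = true := by decide +kernel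
theorem chkP_242925 : allRangeF (checkPointF cert) (nat_lit 242925) (nat_lit 25) = true := by decide +kernel
theorem chkP_242950 : allRangeF (checkPointF cert) (nat_lit 242950) (nat_lit 25) = true := by decide +kernel
theorem chkP_242975 : allRangeF (checkPointF cert) (nat_lit 242975) (nat_lit 25) = true := by decide +kernel
theorem chkP_243000 : allRangeF (checkPointF cert) (nat_lit 243000) (nat_lit 25) = true := by decide +kernel
theorem chkP_243025 : allRangeF (checkPointF cert) (nat_lit 243025) (nat_lit 25) = true := by decide +kernel
theorem chkP_243050 : allRangeF (checkPointF cert) (nat_lit 243050) (nat_lit 25) = true := by decide +kernel
theorem chkP_243075 : allRangeF (checkPointF cert) (nat_lit 243075) (nat_lit 25) = true := by decide +kernel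
theorem chkP_243100 : allRangeF (checkPointF cert) (nat_lit 243100) (nat_lit 25) = true := by decide +kernel
theorem chkP_243125 : allRangeF (checkPointF cert) (nat_lit 243125) (nat_lit 25) = true := by decide +kernel
theorem chkP_243150 : allRangeF (checkPointF cert) (nat_lit 243150) (nat_lit 25) = true := by decide +kernel
theorem chkP_243175 : allRangeF (checkPointF cert) (nat_lit 243175) (nat_lit 25) = true := by decide +kernel
theorem chkP_243200 : allRangeF (checkPointF cert) (nat_lit 243200) (nat_lit 25) = true := by decide +kernel
theorem chkP_243225 : allRangeF (checkPointF cert) (nat_lit 243225) (nat_lit 25) = true := by decide +kernel
theorem chkP_243250 : allRangeF (checkPointF cert) (nat_lit 243250) (nat_lit 25) = true := by decide +kernel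
theorem chkP_243275 : allRangeF (checkPointF cert) (nat_lit 243275) (nat_lit 25) = true := by decide +kernel
theorem chkP_243300 : allRangeF (checkPointF cert) (nat_lit 243300) (nat_lit 25) = true := by decide +kernel
theorem chkP_243325 : allRangeF (checkPointF cert) (nat_lit 243325) (nat_lit 25) = true := by decide +kernel
theorem chkP_243350 : allRangeF (checkPointF cert) (nat_lit 243350) (nat_lit 25) = true := by decide +kernel
theorem chkP_243375 : allRangeF (checkPointF cert) (nat_lit 243375) (nat_lit 25) = true := by decide +kernel
theorem chkP_243400 : allRangeF (checkPointF cert) (nat_lit 243400) (nat_lit 25) = true := by decide +kernel
theorem chkP_243425 : allRangeF (checkPointF cert) (nat_lit 243425) (nat_lit 25) = true := by decide +kernel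
theorem chkP_243450 : allRangeF (checkPointF cert) (nat_lit 243450) (nat_lit 25) = true := by decide +kernel
theorem chkP_243475 : allRangeF (checkPointF cert) (nat_lit 243475) (nat_lit 25) = true := by decide +kernel
theorem chkP_243500 : allRangeF (checkPointF cert) (nat_lit 243500) (nat_lit 25) = true := by decide +kernel
theorem chkP_243525 : allRangeF (checkPointF cert) (nat_lit 243525) (nat_lit 25) = true := by decide +kernel
theorem chkP_243550 : allRangeF (checkPointF cert) (nat_lit 243550) (nat_lit 25) = true := by decide +kernel
theorem chkP_243575 : allRangeF (checkPointF cert) (nat_lit 243575) (nat_lit 25) = true := by decide +kernel
theorem chkP_243600 : allRangeF (checkPointF cert) (nat_lit 243600) (nat_lit 25) = true := by decide +kernel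
theorem chkP_243625 : allRangeF (checkPointF cert) (nat_lit 243625) (nat_lit 25) = true := by decide +kernel
theorem chkP_243650 : allRangeF (checkPointF cert) (nat_lit 243650) (nat_lit 25) = true := by decide +kernel
theorem chkP_243675 : allRangeF (checkPointF cert) (nat_lit 243675) (nat_lit 25) = true := by decide +kernel
theorem chkP_243700 : allRangeF (checkPointF cert) (nat_lit 243700) (nat_lit 25) = true := by decide +kernel
theorem chkP_243725 : allRangeF (checkPointF cert) (nat_lit 243725) (nat_lit 25) = true := by decide +kernel
theorem chkP_243750 : allRangeF (checkPointF cert) (nat_lit 243750) (nat_lit 25) = true := by decide +kernel
theorem chkP_243775 : allRangeF (checkPointF cert) (nat_lit 243775) (nat_lit 25) = true := by decide +kernel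
theorem chkP_243800 : allRangeF (checkPointF cert) (nat_lit 243800) (nat_lit 25) = true := by decide +kernel
theorem chkP_243825 : allRangeF (checkPointF cert) (nat_lit 243825) (nat_lit 25) = true := by decide +kernel
theorem chkP_243850 : allRangeF (checkPointF cert) (nat_lit 243850) (nat_lit 25) = true := by decide +kernel
theorem chkP_243875 : allRangeF (checkPointF cert) (nat_lit 243875) (nat_lit 25) = true := by decide +kernel
theorem chkP_243900 : allRangeF (checkPointF cert) (nat_lit 243900) (nat_lit 25) = true := by decide +kernel
theorem chkP_243925 : allRangeF (checkPointF cert) (nat_lit 243925) (nat_lit 25) = true := by decide +kernel
theorem chkP_243950 : allRangeF (checkPointF cert) (nat_lit 243950) (nat_lit 25) = true := by decide +kernel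
theorem chkP_243975 : allRangeF (checkPointF cert) (nat_lit 243975) (nat_lit 25) = true := by decide +kernel
theorem chkP_244000 : allRangeF (checkPointF cert) (nat_lit 244000) (nat_lit 25) = true := by decide +kernel
theorem chkP_244025 : allRangeF (checkPointF cert) (nat_lit 244025) (nat_lit 25) = true := by decide +kernel
theorem chkP_244050 : allRangeF (checkPointF cert) (nat_lit 244050) (nat_lit 25) = true := by decide +kernel
theorem chkP_244075 : allRangeF (checkPointF cert) (nat_lit 244075) (nat_lit 25) = true := by decide +kernel
theorem chkP_244100 : allRangeF (checkPointF cert) (nat_lit 244100) (nat_lit 25) = true := by decide +kernel
theorem chkP_244125 : allRangeF (checkPointF cert) (nat_lit 244125) (nat_lit 25) = true := by decide +kernel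
theorem chkP_244150 : allRangeF (checkPointF cert) (nat_lit 244150) (nat_lit 25) = true := by decide +kernel
theorem chkP_244175 : allRangeF (checkPointF cert) (nat_lit 244175) (nat_lit 25) = true := by decide +kernel
theorem chkP_244200 : allRangeF (checkPointF cert) (nat_lit 244200) (nat_lit 25) = true := by decide +kernel
theorem chkP_244225 : allRangeF (checkPointF cert) (nat_lit 244225) (nat_lit 25) = true := by decide +kernel
theorem chkP_244250 : allRangeF (checkPointF cert) (nat_lit 244250) (nat_lit 25) = true := by decide +kernel
theorem chkP_244275 : allRangeF (checkPointF cert) (nat_lit 244275) (nat_lit 25) = true := by decide +kernel
theorem chkP_244300 : allRangeF (checkPointF cert) (nat_lit 244300) (nat_lit 25) = true := by decide +kernel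
theorem chkP_244325 : allRangeF (checkPointF cert) (nat_lit 244325) (nat_lit 25) = true := by decide +kernel
theorem chkP_244350 : allRangeF (checkPointF cert) (nat_lit 244350) (nat_lit 25) = true := by decide +kernel
theorem chkP_244375 : allRangeF (checkPointF cert) (nat_lit 244375) (nat_lit 25) = true := by decide +kernel
theorem chkP_244400 : allRangeF (checkPointF cert) (nat_lit 244400) (nat_lit 25) = true := by decide +kernel
theorem chkP_244425 : allRangeF (checkPointF cert) (nat_lit 244425) (nat_lit 25) = true := by decide +kernel
theorem chkP_244450 : allRangeF (checkPointF cert) (nat_lit 244450) (nat_lit 25) = true := by decide +kernel
theorem chkP_244475 : allRangeF (checkPointF cert) (nat_lit 244475) (nat_lit 25) = true := by decide +kernel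
theorem chkP_244500 : allRangeF (checkPointF cert) (nat_lit 244500) (nat_lit 25) = true := by decide +kernel
theorem chkP_244525 : allRangeF (checkPointF cert) (nat_lit 244525) (nat_lit 25) = true := by decide +kernel
theorem chkP_244550 : allRangeF (checkPointF cert) (nat_lit 244550) (nat_lit 25) = true := by decide +kernel
theorem chkP_244575 : allRangeF (checkPointF cert) (nat_lit 244575) (nat_lit 25) = true := by decide +kernel
theorem chkP_244600 : allRangeF (checkPointF cert) (nat_lit 244600) (nat_lit 25) = true := by decide +kernel
theorem chkP_244625 : allRangeF (checkPointF cert) (nat_lit 244625) (nat_lit 25) = true := by decide +kernel
theorem chkP_244650 : allRangeF (checkPointF cert) (nat_lit 244650) (nat_lit 25) = true := by decide +kernel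
theorem chkP_244675 : allRangeF (checkPointF cert) (nat_lit 244675) (nat_lit 25) = true := by decide +kernel
theorem chkP_244700 : allRangeF (checkPointF cert) (nat_lit 244700) (nat_lit 25) = true := by decide +kernel
theorem chkP_244725 : allRangeF (checkPointF cert) (nat_lit 244725) (nat_lit 25) = true := by decide +kernel
theorem chkP_244750 : allRangeF (checkPointF cert) (nat_lit 244750) (nat_lit 25) = true := by decide +kernel
theorem chkP_244775 : allRangeF (checkPointF cert) (nat_lit 244775) (nat_lit 25) = true := by decide +kernel
theorem chkP_244800 : allRangeF (checkPointF cert) (nat_lit 244800) (nat_lit 25) = true := by decide +kernel
theorem chkP_244825 : allRangeF (checkPointF cert) (nat_lit 244825) (nat_lit 25) = true := by decide +kernel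
theorem chkP_244850 : allRangeF (checkPointF cert) (nat_lit 244850) (nat_lit 25) = true := by decide +kernel
theorem chkP_244875 : allRangeF (checkPointF cert) (nat_lit 244875) (nat_lit 25) = true := by decide +kernel
theorem chkP_244900 : allRangeF (checkPointF cert) (nat_lit 244900) (nat_lit 25) = true := by decide +kernel
theorem chkP_244925 : allRangeF (checkPointF cert) (nat_lit 244925) (nat_lit 25) = true := by decide +kernel
theorem chkP_244950 : allRangeF (checkPointF cert) (nat_lit 244950) (nat_lit 25) = true := by decide +kernel
theorem chkP_244975 : allRangeF (checkPointF cert) (nat_lit 244975) (nat_lit 25) = true := by decide +kernel
theorem chkP_245000 : allRangeF (checkPointF cert) (nat_lit 245000) (nat_lit 25) = true := by decide +kernel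
theorem chkP_245025 : allRangeF (checkPointF cert) (nat_lit 245025) (nat_lit 25) = true := by decide +kernel
theorem chkP_245050 : allRangeF (checkPointF cert) (nat_lit 245050) (nat_lit 25) = true := by decide +kernel
theorem chkP_245075 : allRangeF (checkPointF cert) (nat_lit 245075) (nat_lit 25) = true := by decide +kernel
theorem chkP_245100 : allRangeF (checkPointF cert) (nat_lit 245100) (nat_lit 25) = true := by decide +kernel
theorem chkP_245125 : allRangeF (checkPointF cert) (nat_lit 245125) (nat_lit 25) = true := by decide +kernel
theorem chkP_245150 : allRangeF (checkPointF cert) (nat_lit 245150) (nat_lit 25) = true := by decide +kernel
theorem chkP_245175 : allRangeF (checkPointF cert) (nat_lit 245175) (nat_lit 25) = true := by decide +kernel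
theorem chkP_245200 : allRangeF (checkPointF cert) (nat_lit 245200) (nat_lit 25) = true := by decide +kernel
theorem chkP_245225 : allRangeF (checkPointF cert) (nat_lit 245225) (nat_lit 25) = true := by decide +kernel
theorem chkP_245250 : allRangeF (checkPointF cert) (nat_lit 245250) (nat_lit 25) = true := by decide +kernel
theorem chkP_245275 : allRangeF (checkPointF cert) (nat_lit 245275) (nat_lit 25) = true := by decide +kernel
theorem chkP_245300 : allRangeF (checkPointF cert) (nat_lit 245300) (nat_lit 25) = true := by decide +kernel
theorem chkP_245325 : allRangeF (checkPointF cert) (nat_lit 245325) (nat_lit 25) = true := by decide +kernel
theorem chkP_245350 : allRangeF (checkPointF cert) (nat_lit 245350) (nat_lit 25) = true := by decide +kernel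
theorem chkP_245375 : allRangeF (checkPointF cert) (nat_lit 245375) (nat_lit 25) = true := by decide +kernel
theorem chkP_245400 : allRangeF (checkPointF cert) (nat_lit 245400) (nat_lit 25) = true := by decide +kernel
theorem chkP_245425 : allRangeF (checkPointF cert) (nat_lit 245425) (nat_lit 25) = true := by decide +kernel
theorem chkP_245450 : allRangeF (checkPointF cert) (nat_lit 245450) (nat_lit 25) = true := by decide +kernel
theorem chkP_245475 : allRangeF (checkPointF cert) (nat_lit 245475) (nat_lit 25) = true := by decide +kernel
theorem chkP_245500 : allRangeF (checkPointF cert) (nat_lit 245500) (nat_lit 25) = true := by decide +kernel
theorem chkP_245525 : allRangeF (checkPointF cert) (nat_lit 245525) (nat_lit 25) = true := by decide +kernel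
theorem chkP_245550 : allRangeF (checkPointF cert) (nat_lit 245550) (nat_lit 25) = true := by decide +kernel
theorem chkP_245575 : allRangeF (checkPointF cert) (nat_lit 245575) (nat_lit 25) = true := by decide +kernel

theorem ptsRange_31 : ∀ i, 237925 ≤ i → i < 245600 → checkPoint cert i = true := by
  intro i hlo hhi
  rcases Nat.lt_or_ge i 241750 with h1 | h1
  · skip
    rcases Nat.lt_or_ge i 239825 with h2 | h2
    · skip
      rcases Nat.lt_or_ge i 238875 with h3 | h3
      · skip
        rcases Nat.lt_or_ge i 238400 with h4 | h4
        · skip
          rcases Nat.lt_or_ge i 238150 with h5 | h5
          · skip
            rcases Nat.lt_or_ge i 238025 with h6 | h6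
            · skip
              rcases Nat.lt_or_ge i 237975 with h7 | h7
              · skip
                rcases Nat.lt_or_ge i 237950 with h8 | h8
                · skip
                  exact allRangeF_sound _ _ (checkPointF_eq cert) 237925 25 chkP_237925 i (by omega) (by omega)
                · skip
                  exact allRangeF_sound _ _ (checkPointF_eq cert) 237950 25 chkP_237950 i (by omega) (by omega)
              · skip
                rcases Nat.lt_or_ge i 238000 with h8 | h8
                · skip
                  exact allRangeF_sound _ _ (checkPointF_eq cert) 237975 25 chkP_237975 i (by omega) (by omega)
                · skip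
                  exact allRangeF_sound _ _ (checkPointF_eq cert) 238000 25 chkP_238000 i (by omega) (by omega)
            · skip
              rcases Nat.lt_or_ge i 238075 with h7 | h7
              · skip
                rcases Nat.lt_or_ge i 238050 with h8 | h8
                · skip
                  exact allRangeF_sound _ _ (checkPointF_eq cert) 238025 25 chkP_238025 i (by omega) (by omega)
                · skip
                  exact allRangeF_sound _ _ (checkPointF_eq cert) 238050 25 chkP_238050 i (by omega) (by omega)
              · skip
                rcases Nat.lt_or_ge i 238100 with h8 | h8
                · skip
                  exact allRangeF_sound _ _ (checkPointF_eq cert) 238075 25 chkP_238075 i (by omega) (by omega)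
                · skip
                  rcases Nat.lt_or_ge i 238125 with h9 | h9
                  · skip
                    exact allRangeF_sound _ _ (checkPointF_eq cert) 238100 25 chkP_238100 i (by omega) (by omega)
                  · skip
                    exact allRangeF_sound _ _ (checkPointF_eq cert) 238125 25 chkP_238125 i (by omega) (by omega)
          · skip
            rcases Nat.lt_or_ge i 238275 with h6 | h6
            · skip
              rcases Nat.lt_or_ge i 238200 with h7 | h7
              · skip
                rcases Nat.lt_or_ge i 238175 with h8 | h8
                · skip
                  exact allRangeF_sound _ _ (checkPointF_eq cert) 238150 25 chkP_238150 i (by omega) (by omega)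
                · skip
                  exact allRangeF_sound _ _ (checkPointF_eq cert) 238175 25 chkP_238175 i (by omega) (by omega)
              · skip
                rcases Nat.lt_or_ge i 238225 with h8 | h8
                · skip
                  exact allRangeF_sound _ _ (checkPointF_eq cert) 238200 25 chkP_238200 i (by omega) (by omega)
                · skip
                  rcases Nat.lt_or_ge i 238250 with h9 | h9
                  · skip
                    exact allRangeF_sound _ _ (checkPointF_eq cert) 238225 25 chkP_238225 i (by omega) (by omega)
                  · skip
                    exact allRangeF_sound _ _ (checkPointF_eq cert) 238250 25 chkP_238250 i (by omega) (by omega)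
            · skip
              rcases Nat.lt_or_ge i 238325 with h7 | h7
              · skip
                rcases Nat.lt_or_ge i 238300 with h8 | h8
                · skip
                  exact allRangeF_sound _ _ (checkPointF_eq cert) 238275 25 chkP_238275 i (by omega) (by omega)
                · skip
                  exact allRangeF_sound _ _ (checkPointF_eq cert) 238300 25 chkP_238300 i (by omega) (by omega)
              · skip
                rcases Nat.lt_or_ge i 238350 with h8 | h8
                · skip
                  exact allRangeF_sound _ _ (checkPointF_eq cert) 238325 25 chkP_238325 i (by omega) (by omega)
                · skip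
                  rcases Nat.lt_or_ge i 238375 with h9 | h9
                  · skip
                    exact allRangeF_sound _ _ (checkPointF_eq cert) 238350 25 chkP_238350 i (by omega) (by omega)
                  · skip
                    exact allRangeF_sound _ _ (checkPointF_eq cert) 238375 25 chkP_238375 i (by omega) (by omega)
        · skip
          rcases Nat.lt_or_ge i 238625 with h5 | h5
          · skip
            rcases Nat.lt_or_ge i 238500 with h6 | h6
            · skip
              rcases Nat.lt_or_ge i 238450 with h7 | h7
              · skip
                rcases Nat.lt_or_ge i 238425 with h8 | h8
                · skip
                  exact allRangeF_sound _ _ (checkPointF_eq cert) 238400 25 chkP_238400 i (by omega) (by omega)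
                · skip
                  exact allRangeF_sound _ _ (checkPointF_eq cert) 238425 25 chkP_238425 i (by omega) (by omega)
              · skip
                rcases Nat.lt_or_ge i 238475 with h8 | h8
                · skip
                  exact allRangeF_sound _ _ (checkPointF_eq cert) 238450 25 chkP_238450 i (by omega) (by omega)
                · skip
                  exact allRangeF_sound _ _ (checkPointF_eq cert) 238475 25 chkP_238475 i (by omega) (by omega)
            · skip
              rcases Nat.lt_or_ge i 238550 with h7 | h7
              · skip
                rcases Nat.lt_or_ge i 238525 with h8 | h8
                · skip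
                  exact allRangeF_sound _ _ (checkPointF_eq cert) 238500 25 chkP_238500 i (by omega) (by omega)
                · skip
                  exact allRangeF_sound _ _ (checkPointF_eq cert) 238525 25 chkP_238525 i (by omega) (by omega)
              · skip
                rcases Nat.lt_or_ge i 238575 with h8 | h8
                · skip
                  exact allRangeF_sound _ _ (checkPointF_eq cert) 238550 25 chkP_238550 i (by omega) (by omega)
                · skip
                  rcases Nat.lt_or_ge i 238600 with h9 | h9
                  · skip
                    exact allRangeF_sound _ _ (checkPointF_eq cert) 238575 25 chkP_238575 i (by omega) (by omega)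
                  · skip
                    exact allRangeF_sound _ _ (checkPointF_eq cert) 238600 25 chkP_238600 i (by omega) (by omega)
          · skip
            rcases Nat.lt_or_ge i 238750 with h6 | h6
            · skip
              rcases Nat.lt_or_ge i 238675 with h7 | h7
              · skip
                rcases Nat.lt_or_ge i 238650 with h8 | h8
                · skip
                  exact allRangeF_sound _ _ (checkPointF_eq cert) 238625 25 chkP_238625 i (by omega) (by omega)
                · skip
                  exact allRangeF_sound _ _ (checkPointF_eq cert) 238650 25 chkP_238650 i (by omega) (by omega)
              · skip
                rcases Nat.lt_or_ge i 238700 with h8 | h8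
                · skip
                  exact allRangeF_sound _ _ (checkPointF_eq cert) 238675 25 chkP_238675 i (by omega) (by omega)
                · skip
                  rcases Nat.lt_or_ge i 238725 with h9 | h9
                  · skip
                    exact allRangeF_sound _ _ (checkPointF_eq cert) 238700 25 chkP_238700 i (by omega) (by omega)
                  · skip
                    exact allRangeF_sound _ _ (checkPointF_eq cert) 238725 25 chkP_238725 i (by omega) (by omega)
            · skip
              rcases Nat.lt_or_ge i 238800 with h7 | h7
              · skip
                rcases Nat.lt_or_ge i 238775 with h8 | h8
                · skip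
                  exact allRangeF_sound _ _ (checkPointF_eq cert) 238750 25 chkP_238750 i (by omega) (by omega)
                · skip
                  exact allRangeF_sound _ _ (checkPointF_eq cert) 238775 25 chkP_238775 i (by omega) (by omega)
              · skip
                rcases Nat.lt_or_ge i 238825 with h8 | h8
                · skip
                  exact allRangeF_sound _ _ (checkPointF_eq cert) 238800 25 chkP_238800 i (by omega) (by omega)
                · skip
                  rcases Nat.lt_or_ge i 238850 with h9 | h9
                  · skip
                    exact allRangeF_sound _ _ (checkPointF_eq cert) 238825 25 chkP_238825 i (by omega) (by omega)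
                  · skip
                    exact allRangeF_sound _ _ (checkPointF_eq cert) 238850 25 chkP_238850 i (by omega) (by omega)
      · skip
        rcases Nat.lt_or_ge i 239350 with h4 | h4
        · skip
          rcases Nat.lt_or_ge i 239100 with h5 | h5
          · skip
            rcases Nat.lt_or_ge i 238975 with h6 | h6
            · skip
              rcases Nat.lt_or_ge i 238925 with h7 | h7
              · skip
                rcases Nat.lt_or_ge i 238900 with h8 | h8
                · skip
                  exact allRangeF_sound _ _ (checkPointF_eq cert) 238875 25 chkP_238875 i (by omega) (by omega)
                · skip
                  exact allRangeF_sound _ _ (checkPointF_eq cert) 238900 25 chkP_238900 i (by omega) (by omega)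
              · skip
                rcases Nat.lt_or_ge i 238950 with h8 | h8
                · skip
                  exact allRangeF_sound _ _ (checkPointF_eq cert) 238925 25 chkP_238925 i (by omega) (by omega)
                · skip
                  exact allRangeF_sound _ _ (checkPointF_eq cert) 238950 25 chkP_238950 i (by omega) (by omega)
            · skip
              rcases Nat.lt_or_ge i 239025 with h7 | h7
              · skip
                rcases Nat.lt_or_ge i 239000 with h8 | h8
                · skip
                  exact allRangeF_sound _ _ (checkPointF_eq cert) 238975 25 chkP_238975 i (by omega) (by omega)
                · skip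
                  exact allRangeF_sound _ _ (checkPointF_eq cert) 239000 25 chkP_239000 i (by omega) (by omega)
              · skip
                rcases Nat.lt_or_ge i 239050 with h8 | h8
                · skip
                  exact allRangeF_sound _ _ (checkPointF_eq cert) 239025 25 chkP_239025 i (by omega) (by omega)
                · skip
                  rcases Nat.lt_or_ge i 239075 with h9 | h9
                  · skip
                    exact allRangeF_sound _ _ (checkPointF_eq cert) 239050 25 chkP_239050 i (by omega) (by omega)
                  · skip
                    exact allRangeF_sound _ _ (checkPointF_eq cert) 239075 25 chkP_239075 i (by omega) (by omega)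
          · skip
            rcases Nat.lt_or_ge i 239225 with h6 | h6
            · skip
              rcases Nat.lt_or_ge i 239150 with h7 | h7
              · skip
                rcases Nat.lt_or_ge i 239125 with h8 | h8
                · skip
                  exact allRangeF_sound _ _ (checkPointF_eq cert) 239100 25 chkP_239100 i (by omega) (by omega)
                · skip
                  exact allRangeF_sound _ _ (checkPointF_eq cert) 239125 25 chkP_239125 i (by omega) (by omega)
              · skip
                rcases Nat.lt_or_ge i 239175 with h8 | h8
                · skip
                  exact allRangeF_sound _ _ (checkPointF_eq cert) 239150 25 chkP_239150 i (by omega) (by omega)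
                · skip
                  rcases Nat.lt_or_ge i 239200 with h9 | h9
                  · skip
                    exact allRangeF_sound _ _ (checkPointF_eq cert) 239175 25 chkP_239175 i (by omega) (by omega)
                  · skip
                    exact allRangeF_sound _ _ (checkPointF_eq cert) 239200 25 chkP_239200 i (by omega) (by omega)
            · skip
              rcases Nat.lt_or_ge i 239275 with h7 | h7
              · skip
                rcases Nat.lt_or_ge i 239250 with h8 | h8
                · skip
                  exact allRangeF_sound _ _ (checkPointF_eq cert) 239225 25 chkP_239225 i (by omega) (by omega)
                · skip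
                  exact allRangeF_sound _ _ (checkPointF_eq cert) 239250 25 chkP_239250 i (by omega) (by omega)
              · skip
                rcases Nat.lt_or_ge i 239300 with h8 | h8
                · skip
                  exact allRangeF_sound _ _ (checkPointF_eq cert) 239275 25 chkP_239275 i (by omega) (by omega)
                · skip
                  rcases Nat.lt_or_ge i 239325 with h9 | h9
                  · skip
                    exact allRangeF_sound _ _ (checkPointF_eq cert) 239300 25 chkP_239300 i (by omega) (by omega)
                  · skip
                    exact allRangeF_sound _ _ (checkPointF_eq cert) 239325 25 chkP_239325 i (by omega) (by omega)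
        · skip
          rcases Nat.lt_or_ge i 239575 with h5 | h5
          · skip
            rcases Nat.lt_or_ge i 239450 with h6 | h6
            · skip
              rcases Nat.lt_or_ge i 239400 with h7 | h7
              · skip
                rcases Nat.lt_or_ge i 239375 with h8 | h8
                · skip
                  exact allRangeF_sound _ _ (checkPointF_eq cert) 239350 25 chkP_239350 i (by omega) (by omega)
                · skip
                  exact allRangeF_sound _ _ (checkPointF_eq cert) 239375 25 chkP_239375 i (by omega) (by omega)
              · skip
                rcases Nat.lt_or_ge i 239425 with h8 | h8
                · skip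
                  exact allRangeF_sound _ _ (checkPointF_eq cert) 239400 25 chkP_239400 i (by omega) (by omega)
                · skip
                  exact allRangeF_sound _ _ (checkPointF_eq cert) 239425 25 chkP_239425 i (by omega) (by omega)
            · skip
              rcases Nat.lt_or_ge i 239500 with h7 | h7
              · skip
                rcases Nat.lt_or_ge i 239475 with h8 | h8
                · skip
                  exact allRangeF_sound _ _ (checkPointF_eq cert) 239450 25 chkP_239450 i (by omega) (by omega)
                · skip
                  exact allRangeF_sound _ _ (checkPointF_eq cert) 239475 25 chkP_239475 i (by omega) (by omega)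
              · skip
                rcases Nat.lt_or_ge i 239525 with h8 | h8
                · skip
                  exact allRangeF_sound _ _ (checkPointF_eq cert) 239500 25 chkP_239500 i (by omega) (by omega)
                · skip
                  rcases Nat.lt_or_ge i 239550 with h9 | h9
                  · skip
                    exact allRangeF_sound _ _ (checkPointF_eq cert) 239525 25 chkP_239525 i (by omega) (by omega)
                  · skip
                    exact allRangeF_sound _ _ (checkPointF_eq cert) 239550 25 chkP_239550 i (by omega) (by omega)
          · skip
            rcases Nat.lt_or_ge i 239700 with h6 | h6
            · skip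
              rcases Nat.lt_or_ge i 239625 with h7 | h7
              · skip
                rcases Nat.lt_or_ge i 239600 with h8 | h8
                · skip
                  exact allRangeF_sound _ _ (checkPointF_eq cert) 239575 25 chkP_239575 i (by omega) (by omega)
                · skip
                  exact allRangeF_sound _ _ (checkPointF_eq cert) 239600 25 chkP_239600 i (by omega) (by omega)
              · skip
                rcases Nat.lt_or_ge i 239650 with h8 | h8
                · skip
                  exact allRangeF_sound _ _ (checkPointF_eq cert) 239625 25 chkP_239625 i (by omega) (by omega)
                · skip
                  rcases Nat.lt_or_ge i 239675 with h9 | h9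
                  · skip
                    exact allRangeF_sound _ _ (checkPointF_eq cert) 239650 25 chkP_239650 i (by omega) (by omega)
                  · skip
                    exact allRangeF_sound _ _ (checkPointF_eq cert) 239675 25 chkP_239675 i (by omega) (by omega)
            · skip
              rcases Nat.lt_or_ge i 239750 with h7 | h7
              · skip
                rcases Nat.lt_or_ge i 239725 with h8 | h8
                · skip
                  exact allRangeF_sound _ _ (checkPointF_eq cert) 239700 25 chkP_239700 i (by omega) (by omega)
                · skip
                  exact allRangeF_sound _ _ (checkPointF_eq cert) 239725 25 chkP_239725 i (by omega) (by omega)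
              · skip
                rcases Nat.lt_or_ge i 239775 with h8 | h8
                · skip
                  exact allRangeF_sound _ _ (checkPointF_eq cert) 239750 25 chkP_239750 i (by omega) (by omega)
                · skip
                  rcases Nat.lt_or_ge i 239800 with h9 | h9
                  · skip
                    exact allRangeF_sound _ _ (checkPointF_eq cert) 239775 25 chkP_239775 i (by omega) (by omega)
                  · skip
                    exact allRangeF_sound _ _ (checkPointF_eq cert) 239800 25 chkP_239800 i (by omega) (by omega)
    · skip
      rcases Nat.lt_or_ge i 240775 with h3 | h3
      · skip
        rcases Nat.lt_or_ge i 240300 with h4 | h4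
        · skip
          rcases Nat.lt_or_ge i 240050 with h5 | h5
          · skip
            rcases Nat.lt_or_ge i 239925 with h6 | h6
            · skip
              rcases Nat.lt_or_ge i 239875 with h7 | h7
              · skip
                rcases Nat.lt_or_ge i 239850 with h8 | h8
                · skip
                  exact allRangeF_sound _ _ (checkPointF_eq cert) 239825 25 chkP_239825 i (by omega) (by omega)
                · skip
                  exact allRangeF_sound _ _ (checkPointF_eq cert) 239850 25 chkP_239850 i (by omega) (by omega)
              · skip
                rcases Nat.lt_or_ge i 239900 with h8 | h8
                · skip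
                  exact allRangeF_sound _ _ (checkPointF_eq cert) 239875 25 chkP_239875 i (by omega) (by omega)
                · skip
                  exact allRangeF_sound _ _ (checkPointF_eq cert) 239900 25 chkP_239900 i (by omega) (by omega)
            · skip
              rcases Nat.lt_or_ge i 239975 with h7 | h7
              · skip
                rcases Nat.lt_or_ge i 239950 with h8 | h8
                · skip
                  exact allRangeF_sound _ _ (checkPointF_eq cert) 239925 25 chkP_239925 i (by omega) (by omega)
                · skip
                  exact allRangeF_sound _ _ (checkPointF_eq cert) 239950 25 chkP_239950 i (by omega) (by omega)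
              · skip
                rcases Nat.lt_or_ge i 240000 with h8 | h8
                · skip
                  exact allRangeF_sound _ _ (checkPointF_eq cert) 239975 25 chkP_239975 i (by omega) (by omega)
                · skip
                  rcases Nat.lt_or_ge i 240025 with h9 | h9
                  · skip
                    exact allRangeF_sound _ _ (checkPointF_eq cert) 240000 25 chkP_240000 i (by omega) (by omega)
                  · skip
                    exact allRangeF_sound _ _ (checkPointF_eq cert) 240025 25 chkP_240025 i (by omega) (by omega)
          · skip
            rcases Nat.lt_or_ge i 240175 with h6 | h6
            · skip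
              rcases Nat.lt_or_ge i 240100 with h7 | h7
              · skip
                rcases Nat.lt_or_ge i 240075 with h8 | h8
                · skip
                  exact allRangeF_sound _ _ (checkPointF_eq cert) 240050 25 chkP_240050 i (by omega) (by omega)
                · skip
                  exact allRangeF_sound _ _ (checkPointF_eq cert) 240075 25 chkP_240075 i (by omega) (by omega)
              · skip
                rcases Nat.lt_or_ge i 240125 with h8 | h8
                · skip
                  exact allRangeF_sound _ _ (checkPointF_eq cert) 240100 25 chkP_240100 i (by omega) (by omega)
                · skip
                  rcases Nat.lt_or_ge i 240150 with h9 | h9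
                  · skip
                    exact allRangeF_sound _ _ (checkPointF_eq cert) 240125 25 chkP_240125 i (by omega) (by omega)
                  · skip
                    exact allRangeF_sound _ _ (checkPointF_eq cert) 240150 25 chkP_240150 i (by omega) (by omega)
            · skip
              rcases Nat.lt_or_ge i 240225 with h7 | h7
              · skip
                rcases Nat.lt_or_ge i 240200 with h8 | h8
                · skip
                  exact allRangeF_sound _ _ (checkPointF_eq cert) 240175 25 chkP_240175 i (by omega) (by omega)
                · skip
                  exact allRangeF_sound _ _ (checkPointF_eq cert) 240200 25 chkP_240200 i (by omega) (by omega)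
              · skip
                rcases Nat.lt_or_ge i 240250 with h8 | h8
                · skip
                  exact allRangeF_sound _ _ (checkPointF_eq cert) 240225 25 chkP_240225 i (by omega) (by omega)
                · skip
                  rcases Nat.lt_or_ge i 240275 with h9 | h9
                  · skip
                    exact allRangeF_sound _ _ (checkPointF_eq cert) 240250 25 chkP_240250 i (by omega) (by omega)
                  · skip
                    exact allRangeF_sound _ _ (checkPointF_eq cert) 240275 25 chkP_240275 i (by omega) (by omega)
        · skip
          rcases Nat.lt_or_ge i 240525 with h5 | h5
          · skip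
            rcases Nat.lt_or_ge i 240400 with h6 | h6
            · skip
              rcases Nat.lt_or_ge i 240350 with h7 | h7
              · skip
                rcases Nat.lt_or_ge i 240325 with h8 | h8
                · skip
                  exact allRangeF_sound _ _ (checkPointF_eq cert) 240300 25 chkP_240300 i (by omega) (by omega)
                · skip
                  exact allRangeF_sound _ _ (checkPointF_eq cert) 240325 25 chkP_240325 i (by omega) (by omega)
              · skip
                rcases Nat.lt_or_ge i 240375 with h8 | h8
                · skip
                  exact allRangeF_sound _ _ (checkPointF_eq cert) 240350 25 chkP_240350 i (by omega) (by omega)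
                · skip
                  exact allRangeF_sound _ _ (checkPointF_eq cert) 240375 25 chkP_240375 i (by omega) (by omega)
            · skip
              rcases Nat.lt_or_ge i 240450 with h7 | h7
              · skip
                rcases Nat.lt_or_ge i 240425 with h8 | h8
                · skip
                  exact allRangeF_sound _ _ (checkPointF_eq cert) 240400 25 chkP_240400 i (by omega) (by omega)
                · skip
                  exact allRangeF_sound _ _ (checkPointF_eq cert) 240425 25 chkP_240425 i (by omega) (by omega)
              · skip
                rcases Nat.lt_or_ge i 240475 with h8 | h8
                · skip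
                  exact allRangeF_sound _ _ (checkPointF_eq cert) 240450 25 chkP_240450 i (by omega) (by omega)
                · skip
                  rcases Nat.lt_or_ge i 240500 with h9 | h9
                  · skip
                    exact allRangeF_sound _ _ (checkPointF_eq cert) 240475 25 chkP_240475 i (by omega) (by omega)
                  · skip
                    exact allRangeF_sound _ _ (checkPointF_eq cert) 240500 25 chkP_240500 i (by omega) (by omega)
          · skip
            rcases Nat.lt_or_ge i 240650 with h6 | h6
            · skip
              rcases Nat.lt_or_ge i 240575 with h7 | h7
              · skip
                rcases Nat.lt_or_ge i 240550 with h8 | h8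
                · skip
                  exact allRangeF_sound _ _ (checkPointF_eq cert) 240525 25 chkP_240525 i (by omega) (by omega)
                · skip
                  exact allRangeF_sound _ _ (checkPointF_eq cert) 240550 25 chkP_240550 i (by omega) (by omega)
              · skip
                rcases Nat.lt_or_ge i 240600 with h8 | h8
                · skip
                  exact allRangeF_sound _ _ (checkPointF_eq cert) 240575 25 chkP_240575 i (by omega) (by omega)
                · skip
                  rcases Nat.lt_or_ge i 240625 with h9 | h9
                  · skip
                    exact allRangeF_sound _ _ (checkPointF_eq cert) 240600 25 chkP_240600 i (by omega) (by omega)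
                  · skip
                    exact allRangeF_sound _ _ (checkPointF_eq cert) 240625 25 chkP_240625 i (by omega) (by omega)
            · skip
              rcases Nat.lt_or_ge i 240700 with h7 | h7
              · skip
                rcases Nat.lt_or_ge i 240675 with h8 | h8
                · skip
                  exact allRangeF_sound _ _ (checkPointF_eq cert) 240650 25 chkP_240650 i (by omega) (by omega)
                · skip
                  exact allRangeF_sound _ _ (checkPointF_eq cert) 240675 25 chkP_240675 i (by omega) (by omega)
              · skip
                rcases Nat.lt_or_ge i 240725 with h8 | h8
                · skip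
                  exact allRangeF_sound _ _ (checkPointF_eq cert) 240700 25 chkP_240700 i (by omega) (by omega)
                · skip
                  rcases Nat.lt_or_ge i 240750 with h9 | h9
                  · skip
                    exact allRangeF_sound _ _ (checkPointF_eq cert) 240725 25 chkP_240725 i (by omega) (by omega)
                  · skip
                    exact allRangeF_sound _ _ (checkPointF_eq cert) 240750 25 chkP_240750 i (by omega) (by omega)
      · skip
        rcases Nat.lt_or_ge i 241250 with h4 | h4
        · skip
          rcases Nat.lt_or_ge i 241000 with h5 | h5
          · skip
            rcases Nat.lt_or_ge i 240875 with h6 | h6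
            · skip
              rcases Nat.lt_or_ge i 240825 with h7 | h7
              · skip
                rcases Nat.lt_or_ge i 240800 with h8 | h8
                · skip
                  exact allRangeF_sound _ _ (checkPointF_eq cert) 240775 25 chkP_240775 i (by omega) (by omega)
                · skip
                  exact allRangeF_sound _ _ (checkPointF_eq cert) 240800 25 chkP_240800 i (by omega) (by omega)
              · skip
                rcases Nat.lt_or_ge i 240850 with h8 | h8
                · skip
                  exact allRangeF_sound _ _ (checkPointF_eq cert) 240825 25 chkP_240825 i (by omega) (by omega)
                · skip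
                  exact allRangeF_sound _ _ (checkPointF_eq cert) 240850 25 chkP_240850 i (by omega) (by omega)
            · skip
              rcases Nat.lt_or_ge i 240925 with h7 | h7
              · skip
                rcases Nat.lt_or_ge i 240900 with h8 | h8
                · skip
                  exact allRangeF_sound _ _ (checkPointF_eq cert) 240875 25 chkP_240875 i (by omega) (by omega)
                · skip
                  exact allRangeF_sound _ _ (checkPointF_eq cert) 240900 25 chkP_240900 i (by omega) (by omega)
              · skip
                rcases Nat.lt_or_ge i 240950 with h8 | h8
                · skip
                  exact allRangeF_sound _ _ (checkPointF_eq cert) 240925 25 chkP_240925 i (by omega) (by omega)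
                · skip
                  rcases Nat.lt_or_ge i 240975 with h9 | h9
                  · skip
                    exact allRangeF_sound _ _ (checkPointF_eq cert) 240950 25 chkP_240950 i (by omega) (by omega)
                  · skip
                    exact allRangeF_sound _ _ (checkPointF_eq cert) 240975 25 chkP_240975 i (by omega) (by omega)
          · skip
            rcases Nat.lt_or_ge i 241125 with h6 | h6
            · skip
              rcases Nat.lt_or_ge i 241050 with h7 | h7
              · skip
                rcases Nat.lt_or_ge i 241025 with h8 | h8
                · skip
                  exact allRangeF_sound _ _ (checkPointF_eq cert) 241000 25 chkP_241000 i (by omega) (by omega)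
                · skip
                  exact allRangeF_sound _ _ (checkPointF_eq cert) 241025 25 chkP_241025 i (by omega) (by omega)
              · skip
                rcases Nat.lt_or_ge i 241075 with h8 | h8
                · skip
                  exact allRangeF_sound _ _ (checkPointF_eq cert) 241050 25 chkP_241050 i (by omega) (by omega)
                · skip
                  rcases Nat.lt_or_ge i 241100 with h9 | h9
                  · skip
                    exact allRangeF_sound _ _ (checkPointF_eq cert) 241075 25 chkP_241075 i (by omega) (by omega)
                  · skip
                    exact allRangeF_sound _ _ (checkPointF_eq cert) 241100 25 chkP_241100 i (by omega) (by omega)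
            · skip
              rcases Nat.lt_or_ge i 241175 with h7 | h7
              · skip
                rcases Nat.lt_or_ge i 241150 with h8 | h8
                · skip
                  exact allRangeF_sound _ _ (checkPointF_eq cert) 241125 25 chkP_241125 i (by omega) (by omega)
                · skip
                  exact allRangeF_sound _ _ (checkPointF_eq cert) 241150 25 chkP_241150 i (by omega) (by omega)
              · skip
                rcases Nat.lt_or_ge i 241200 with h8 | h8
                · skip
                  exact allRangeF_sound _ _ (checkPointF_eq cert) 241175 25 chkP_241175 i (by omega) (by omega)
                · skip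
                  rcases Nat.lt_or_ge i 241225 with h9 | h9
                  · skip
                    exact allRangeF_sound _ _ (checkPointF_eq cert) 241200 25 chkP_241200 i (by omega) (by omega)
                  · skip
                    exact allRangeF_sound _ _ (checkPointF_eq cert) 241225 25 chkP_241225 i (by omega) (by omega)
        · skip
          rcases Nat.lt_or_ge i 241500 with h5 | h5
          · skip
            rcases Nat.lt_or_ge i 241375 with h6 | h6
            · skip
              rcases Nat.lt_or_ge i 241300 with h7 | h7
              · skip
                rcases Nat.lt_or_ge i 241275 with h8 | h8
                · skip
                  exact allRangeF_sound _ _ (checkPointF_eq cert) 241250 25 chkP_241250 i (by omega) (by omega)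
                · skip
                  exact allRangeF_sound _ _ (checkPointF_eq cert) 241275 25 chkP_241275 i (by omega) (by omega)
              · skip
                rcases Nat.lt_or_ge i 241325 with h8 | h8
                · skip
                  exact allRangeF_sound _ _ (checkPointF_eq cert) 241300 25 chkP_241300 i (by omega) (by omega)
                · skip
                  rcases Nat.lt_or_ge i 241350 with h9 | h9
                  · skip
                    exact allRangeF_sound _ _ (checkPointF_eq cert) 241325 25 chkP_241325 i (by omega) (by omega)
                  · skip
                    exact allRangeF_sound _ _ (checkPointF_eq cert) 241350 25 chkP_241350 i (by omega) (by omega)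
            · skip
              rcases Nat.lt_or_ge i 241425 with h7 | h7
              · skip
                rcases Nat.lt_or_ge i 241400 with h8 | h8
                · skip
                  exact allRangeF_sound _ _ (checkPointF_eq cert) 241375 25 chkP_241375 i (by omega) (by omega)
                · skip
                  exact allRangeF_sound _ _ (checkPointF_eq cert) 241400 25 chkP_241400 i (by omega) (by omega)
              · skip
                rcases Nat.lt_or_ge i 241450 with h8 | h8
                · skip
                  exact allRangeF_sound _ _ (checkPointF_eq cert) 241425 25 chkP_241425 i (by omega) (by omega)
                · skip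
                  rcases Nat.lt_or_ge i 241475 with h9 | h9
                  · skip
                    exact allRangeF_sound _ _ (checkPointF_eq cert) 241450 25 chkP_241450 i (by omega) (by omega)
                  · skip
                    exact allRangeF_sound _ _ (checkPointF_eq cert) 241475 25 chkP_241475 i (by omega) (by omega)
          · skip
            rcases Nat.lt_or_ge i 241625 with h6 | h6
            · skip
              rcases Nat.lt_or_ge i 241550 with h7 | h7
              · skip
                rcases Nat.lt_or_ge i 241525 with h8 | h8
                · skip
                  exact allRangeF_sound _ _ (checkPointF_eq cert) 241500 25 chkP_241500 i (by omega) (by omega)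
                · skip
                  exact allRangeF_sound _ _ (checkPointF_eq cert) 241525 25 chkP_241525 i (by omega) (by omega)
              · skip
                rcases Nat.lt_or_ge i 241575 with h8 | h8
                · skip
                  exact allRangeF_sound _ _ (checkPointF_eq cert) 241550 25 chkP_241550 i (by omega) (by omega)
                · skip
                  rcases Nat.lt_or_ge i 241600 with h9 | h9
                  · skip
                    exact allRangeF_sound _ _ (checkPointF_eq cert) 241575 25 chkP_241575 i (by omega) (by omega)
                  · skip
                    exact allRangeF_sound _ _ (checkPointF_eq cert) 241600 25 chkP_241600 i (by omega) (by omega)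
            · skip
              rcases Nat.lt_or_ge i 241675 with h7 | h7
              · skip
                rcases Nat.lt_or_ge i 241650 with h8 | h8
                · skip
                  exact allRangeF_sound _ _ (checkPointF_eq cert) 241625 25 chkP_241625 i (by omega) (by omega)
                · skip
                  exact allRangeF_sound _ _ (checkPointF_eq cert) 241650 25 chkP_241650 i (by omega) (by omega)
              · skip
                rcases Nat.lt_or_ge i 241700 with h8 | h8
                · skip
                  exact allRangeF_sound _ _ (checkPointF_eq cert) 241675 25 chkP_241675 i (by omega) (by omega)
                · skip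
                  rcases Nat.lt_or_ge i 241725 with h9 | h9
                  · skip
                    exact allRangeF_sound _ _ (checkPointF_eq cert) 241700 25 chkP_241700 i (by omega) (by omega)
                  · skip
                    exact allRangeF_sound _ _ (checkPointF_eq cert) 241725 25 chkP_241725 i (by omega) (by omega)
  · skip
    rcases Nat.lt_or_ge i 243675 with h2 | h2
    · skip
      rcases Nat.lt_or_ge i 242700 with h3 | h3
      · skip
        rcases Nat.lt_or_ge i 242225 with h4 | h4
        · skip
          rcases Nat.lt_or_ge i 241975 with h5 | h5
          · skip
            rcases Nat.lt_or_ge i 241850 with h6 | h6
            · skip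
              rcases Nat.lt_or_ge i 241800 with h7 | h7
              · skip
                rcases Nat.lt_or_ge i 241775 with h8 | h8
                · skip
                  exact allRangeF_sound _ _ (checkPointF_eq cert) 241750 25 chkP_241750 i (by omega) (by omega)
                · skip
                  exact allRangeF_sound _ _ (checkPointF_eq cert) 241775 25 chkP_241775 i (by omega) (by omega)
              · skip
                rcases Nat.lt_or_ge i 241825 with h8 | h8
                · skip
                  exact allRangeF_sound _ _ (checkPointF_eq cert) 241800 25 chkP_241800 i (by omega) (by omega)
                · skip
                  exact allRangeF_sound _ _ (checkPointF_eq cert) 241825 25 chkP_241825 i (by omega) (by omega)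
            · skip
              rcases Nat.lt_or_ge i 241900 with h7 | h7
              · skip
                rcases Nat.lt_or_ge i 241875 with h8 | h8
                · skip
                  exact allRangeF_sound _ _ (checkPointF_eq cert) 241850 25 chkP_241850 i (by omega) (by omega)
                · skip
                  exact allRangeF_sound _ _ (checkPointF_eq cert) 241875 25 chkP_241875 i (by omega) (by omega)
              · skip
                rcases Nat.lt_or_ge i 241925 with h8 | h8
                · skip
                  exact allRangeF_sound _ _ (checkPointF_eq cert) 241900 25 chkP_241900 i (by omega) (by omega)
                · skip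
                  rcases Nat.lt_or_ge i 241950 with h9 | h9
                  · skip
                    exact allRangeF_sound _ _ (checkPointF_eq cert) 241925 25 chkP_241925 i (by omega) (by omega)
                  · skip
                    exact allRangeF_sound _ _ (checkPointF_eq cert) 241950 25 chkP_241950 i (by omega) (by omega)
          · skip
            rcases Nat.lt_or_ge i 242100 with h6 | h6
            · skip
              rcases Nat.lt_or_ge i 242025 with h7 | h7
              · skip
                rcases Nat.lt_or_ge i 242000 with h8 | h8
                · skip
                  exact allRangeF_sound _ _ (checkPointF_eq cert) 241975 25 chkP_241975 i (by omega) (by omega)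
                · skip
                  exact allRangeF_sound _ _ (checkPointF_eq cert) 242000 25 chkP_242000 i (by omega) (by omega)
              · skip
                rcases Nat.lt_or_ge i 242050 with h8 | h8
                · skip
                  exact allRangeF_sound _ _ (checkPointF_eq cert) 242025 25 chkP_242025 i (by omega) (by omega)
                · skip
                  rcases Nat.lt_or_ge i 242075 with h9 | h9
                  · skip
                    exact allRangeF_sound _ _ (checkPointF_eq cert) 242050 25 chkP_242050 i (by omega) (by omega)
                  · skip
                    exact allRangeF_sound _ _ (checkPointF_eq cert) 242075 25 chkP_242075 i (by omega) (by omega)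
            · skip
              rcases Nat.lt_or_ge i 242150 with h7 | h7
              · skip
                rcases Nat.lt_or_ge i 242125 with h8 | h8
                · skip
                  exact allRangeF_sound _ _ (checkPointF_eq cert) 242100 25 chkP_242100 i (by omega) (by omega)
                · skip
                  exact allRangeF_sound _ _ (checkPointF_eq cert) 242125 25 chkP_242125 i (by omega) (by omega)
              · skip
                rcases Nat.lt_or_ge i 242175 with h8 | h8
                · skip
                  exact allRangeF_sound _ _ (checkPointF_eq cert) 242150 25 chkP_242150 i (by omega) (by omega)
                · skip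
                  rcases Nat.lt_or_ge i 242200 with h9 | h9
                  · skip
                    exact allRangeF_sound _ _ (checkPointF_eq cert) 242175 25 chkP_242175 i (by omega) (by omega)
                  · skip
                    exact allRangeF_sound _ _ (checkPointF_eq cert) 242200 25 chkP_242200 i (by omega) (by omega)
        · skip
          rcases Nat.lt_or_ge i 242450 with h5 | h5
          · skip
            rcases Nat.lt_or_ge i 242325 with h6 | h6
            · skip
              rcases Nat.lt_or_ge i 242275 with h7 | h7
              · skip
                rcases Nat.lt_or_ge i 242250 with h8 | h8
                · skip
                  exact allRangeF_sound _ _ (checkPointF_eq cert) 242225 25 chkP_242225 i (by omega) (by omega)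
                · skip
                  exact allRangeF_sound _ _ (checkPointF_eq cert) 242250 25 chkP_242250 i (by omega) (by omega)
              · skip
                rcases Nat.lt_or_ge i 242300 with h8 | h8
                · skip
                  exact allRangeF_sound _ _ (checkPointF_eq cert) 242275 25 chkP_242275 i (by omega) (by omega)
                · skip
                  exact allRangeF_sound _ _ (checkPointF_eq cert) 242300 25 chkP_242300 i (by omega) (by omega)
            · skip
              rcases Nat.lt_or_ge i 242375 with h7 | h7
              · skip
                rcases Nat.lt_or_ge i 242350 with h8 | h8
                · skip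
                  exact allRangeF_sound _ _ (checkPointF_eq cert) 242325 25 chkP_242325 i (by omega) (by omega)
                · skip
                  exact allRangeF_sound _ _ (checkPointF_eq cert) 242350 25 chkP_242350 i (by omega) (by omega)
              · skip
                rcases Nat.lt_or_ge i 242400 with h8 | h8
                · skip
                  exact allRangeF_sound _ _ (checkPointF_eq cert) 242375 25 chkP_242375 i (by omega) (by omega)
                · skip
                  rcases Nat.lt_or_ge i 242425 with h9 | h9
                  · skip
                    exact allRangeF_sound _ _ (checkPointF_eq cert) 242400 25 chkP_242400 i (by omega) (by omega)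
                  · skip
                    exact allRangeF_sound _ _ (checkPointF_eq cert) 242425 25 chkP_242425 i (by omega) (by omega)
          · skip
            rcases Nat.lt_or_ge i 242575 with h6 | h6
            · skip
              rcases Nat.lt_or_ge i 242500 with h7 | h7
              · skip
                rcases Nat.lt_or_ge i 242475 with h8 | h8
                · skip
                  exact allRangeF_sound _ _ (checkPointF_eq cert) 242450 25 chkP_242450 i (by omega) (by omega)
                · skip
                  exact allRangeF_sound _ _ (checkPointF_eq cert) 242475 25 chkP_242475 i (by omega) (by omega)
              · skip
                rcases Nat.lt_or_ge i 242525 with h8 | h8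
                · skip
                  exact allRangeF_sound _ _ (checkPointF_eq cert) 242500 25 chkP_242500 i (by omega) (by omega)
                · skip
                  rcases Nat.lt_or_ge i 242550 with h9 | h9
                  · skip
                    exact allRangeF_sound _ _ (checkPointF_eq cert) 242525 25 chkP_242525 i (by omega) (by omega)
                  · skip
                    exact allRangeF_sound _ _ (checkPointF_eq cert) 242550 25 chkP_242550 i (by omega) (by omega)
            · skip
              rcases Nat.lt_or_ge i 242625 with h7 | h7
              · skip
                rcases Nat.lt_or_ge i 242600 with h8 | h8
                · skip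
                  exact allRangeF_sound _ _ (checkPointF_eq cert) 242575 25 chkP_242575 i (by omega) (by omega)
                · skip
                  exact allRangeF_sound _ _ (checkPointF_eq cert) 242600 25 chkP_242600 i (by omega) (by omega)
              · skip
                rcases Nat.lt_or_ge i 242650 with h8 | h8
                · skip
                  exact allRangeF_sound _ _ (checkPointF_eq cert) 242625 25 chkP_242625 i (by omega) (by omega)
                · skip
                  rcases Nat.lt_or_ge i 242675 with h9 | h9
                  · skip
                    exact allRangeF_sound _ _ (checkPointF_eq cert) 242650 25 chkP_242650 i (by omega) (by omega)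
                  · skip
                    exact allRangeF_sound _ _ (checkPointF_eq cert) 242675 25 chkP_242675 i (by omega) (by omega)
      · skip
        rcases Nat.lt_or_ge i 243175 with h4 | h4
        · skip
          rcases Nat.lt_or_ge i 242925 with h5 | h5
          · skip
            rcases Nat.lt_or_ge i 242800 with h6 | h6
            · skip
              rcases Nat.lt_or_ge i 242750 with h7 | h7
              · skip
                rcases Nat.lt_or_ge i 242725 with h8 | h8
                · skip
                  exact allRangeF_sound _ _ (checkPointF_eq cert) 242700 25 chkP_242700 i (by omega) (by omega)
                · skip
                  exact allRangeF_sound _ _ (checkPointF_eq cert) 242725 25 chkP_242725 i (by omega) (by omega)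
              · skip
                rcases Nat.lt_or_ge i 242775 with h8 | h8
                · skip
                  exact allRangeF_sound _ _ (checkPointF_eq cert) 242750 25 chkP_242750 i (by omega) (by omega)
                · skip
                  exact allRangeF_sound _ _ (checkPointF_eq cert) 242775 25 chkP_242775 i (by omega) (by omega)
            · skip
              rcases Nat.lt_or_ge i 242850 with h7 | h7
              · skip
                rcases Nat.lt_or_ge i 242825 with h8 | h8
                · skip
                  exact allRangeF_sound _ _ (checkPointF_eq cert) 242800 25 chkP_242800 i (by omega) (by omega)
                · skip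
                  exact allRangeF_sound _ _ (checkPointF_eq cert) 242825 25 chkP_242825 i (by omega) (by omega)
              · skip
                rcases Nat.lt_or_ge i 242875 with h8 | h8
                · skip
                  exact allRangeF_sound _ _ (checkPointF_eq cert) 242850 25 chkP_242850 i (by omega) (by omega)
                · skip
                  rcases Nat.lt_or_ge i 242900 with h9 | h9
                  · skip
                    exact allRangeF_sound _ _ (checkPointF_eq cert) 242875 25 chkP_242875 i (by omega) (by omega)
                  · skip
                    exact allRangeF_sound _ _ (checkPointF_eq cert) 242900 25 chkP_242900 i (by omega) (by omega)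
          · skip
            rcases Nat.lt_or_ge i 243050 with h6 | h6
            · skip
              rcases Nat.lt_or_ge i 242975 with h7 | h7
              · skip
                rcases Nat.lt_or_ge i 242950 with h8 | h8
                · skip
                  exact allRangeF_sound _ _ (checkPointF_eq cert) 242925 25 chkP_242925 i (by omega) (by omega)
                · skip
                  exact allRangeF_sound _ _ (checkPointF_eq cert) 242950 25 chkP_242950 i (by omega) (by omega)
              · skip
                rcases Nat.lt_or_ge i 243000 with h8 | h8
                · skip
                  exact allRangeF_sound _ _ (checkPointF_eq cert) 242975 25 chkP_242975 i (by omega) (by omega)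
                · skip
                  rcases Nat.lt_or_ge i 243025 with h9 | h9
                  · skip
                    exact allRangeF_sound _ _ (checkPointF_eq cert) 243000 25 chkP_243000 i (by omega) (by omega)
                  · skip
                    exact allRangeF_sound _ _ (checkPointF_eq cert) 243025 25 chkP_243025 i (by omega) (by omega)
            · skip
              rcases Nat.lt_or_ge i 243100 with h7 | h7
              · skip
                rcases Nat.lt_or_ge i 243075 with h8 | h8
                · skip
                  exact allRangeF_sound _ _ (checkPointF_eq cert) 243050 25 chkP_243050 i (by omega) (by omega)
                · skip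
                  exact allRangeF_sound _ _ (checkPointF_eq cert) 243075 25 chkP_243075 i (by omega) (by omega)
              · skip
                rcases Nat.lt_or_ge i 243125 with h8 | h8
                · skip
                  exact allRangeF_sound _ _ (checkPointF_eq cert) 243100 25 chkP_243100 i (by omega) (by omega)
                · skip
                  rcases Nat.lt_or_ge i 243150 with h9 | h9
                  · skip
                    exact allRangeF_sound _ _ (checkPointF_eq cert) 243125 25 chkP_243125 i (by omega) (by omega)
                  · skip
                    exact allRangeF_sound _ _ (checkPointF_eq cert) 243150 25 chkP_243150 i (by omega) (by omega)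
        · skip
          rcases Nat.lt_or_ge i 243425 with h5 | h5
          · skip
            rcases Nat.lt_or_ge i 243300 with h6 | h6
            · skip
              rcases Nat.lt_or_ge i 243225 with h7 | h7
              · skip
                rcases Nat.lt_or_ge i 243200 with h8 | h8
                · skip
                  exact allRangeF_sound _ _ (checkPointF_eq cert) 243175 25 chkP_243175 i (by omega) (by omega)
                · skip
                  exact allRangeF_sound _ _ (checkPointF_eq cert) 243200 25 chkP_243200 i (by omega) (by omega)
              · skip
                rcases Nat.lt_or_ge i 243250 with h8 | h8
                · skip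
                  exact allRangeF_sound _ _ (checkPointF_eq cert) 243225 25 chkP_243225 i (by omega) (by omega)
                · skip
                  rcases Nat.lt_or_ge i 243275 with h9 | h9
                  · skip
                    exact allRangeF_sound _ _ (checkPointF_eq cert) 243250 25 chkP_243250 i (by omega) (by omega)
                  · skip
                    exact allRangeF_sound _ _ (checkPointF_eq cert) 243275 25 chkP_243275 i (by omega) (by omega)
            · skip
              rcases Nat.lt_or_ge i 243350 with h7 | h7
              · skip
                rcases Nat.lt_or_ge i 243325 with h8 | h8
                · skip
                  exact allRangeF_sound _ _ (checkPointF_eq cert) 243300 25 chkP_243300 i (by omega) (by omega)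
                · skip
                  exact allRangeF_sound _ _ (checkPointF_eq cert) 243325 25 chkP_243325 i (by omega) (by omega)
              · skip
                rcases Nat.lt_or_ge i 243375 with h8 | h8
                · skip
                  exact allRangeF_sound _ _ (checkPointF_eq cert) 243350 25 chkP_243350 i (by omega) (by omega)
                · skip
                  rcases Nat.lt_or_ge i 243400 with h9 | h9
                  · skip
                    exact allRangeF_sound _ _ (checkPointF_eq cert) 243375 25 chkP_243375 i (by omega) (by omega)
                  · skip
                    exact allRangeF_sound _ _ (checkPointF_eq cert) 243400 25 chkP_243400 i (by omega) (by omega)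
          · skip
            rcases Nat.lt_or_ge i 243550 with h6 | h6
            · skip
              rcases Nat.lt_or_ge i 243475 with h7 | h7
              · skip
                rcases Nat.lt_or_ge i 243450 with h8 | h8
                · skip
                  exact allRangeF_sound _ _ (checkPointF_eq cert) 243425 25 chkP_243425 i (by omega) (by omega)
                · skip
                  exact allRangeF_sound _ _ (checkPointF_eq cert) 243450 25 chkP_243450 i (by omega) (by omega)
              · skip
                rcases Nat.lt_or_ge i 243500 with h8 | h8
                · skip
                  exact allRangeF_sound _ _ (checkPointF_eq cert) 243475 25 chkP_243475 i (by omega) (by omega)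
                · skip
                  rcases Nat.lt_or_ge i 243525 with h9 | h9
                  · skip
                    exact allRangeF_sound _ _ (checkPointF_eq cert) 243500 25 chkP_243500 i (by omega) (by omega)
                  · skip
                    exact allRangeF_sound _ _ (checkPointF_eq cert) 243525 25 chkP_243525 i (by omega) (by omega)
            · skip
              rcases Nat.lt_or_ge i 243600 with h7 | h7
              · skip
                rcases Nat.lt_or_ge i 243575 with h8 | h8
                · skip
                  exact allRangeF_sound _ _ (checkPointF_eq cert) 243550 25 chkP_243550 i (by omega) (by omega)
                · skip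
                  exact allRangeF_sound _ _ (checkPointF_eq cert) 243575 25 chkP_243575 i (by omega) (by omega)
              · skip
                rcases Nat.lt_or_ge i 243625 with h8 | h8
                · skip
                  exact allRangeF_sound _ _ (checkPointF_eq cert) 243600 25 chkP_243600 i (by omega) (by omega)
                · skip
                  rcases Nat.lt_or_ge i 243650 with h9 | h9
                  · skip
                    exact allRangeF_sound _ _ (checkPointF_eq cert) 243625 25 chkP_243625 i (by omega) (by omega)
                  · skip
                    exact allRangeF_sound _ _ (checkPointF_eq cert) 243650 25 chkP_243650 i (by omega) (by omega)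
    · skip
      rcases Nat.lt_or_ge i 244625 with h3 | h3
      · skip
        rcases Nat.lt_or_ge i 244150 with h4 | h4
        · skip
          rcases Nat.lt_or_ge i 243900 with h5 | h5
          · skip
            rcases Nat.lt_or_ge i 243775 with h6 | h6
            · skip
              rcases Nat.lt_or_ge i 243725 with h7 | h7
              · skip
                rcases Nat.lt_or_ge i 243700 with h8 | h8
                · skip
                  exact allRangeF_sound _ _ (checkPointF_eq cert) 243675 25 chkP_243675 i (by omega) (by omega)
                · skip
                  exact allRangeF_sound _ _ (checkPointF_eq cert) 243700 25 chkP_243700 i (by omega) (by omega)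
              · skip
                rcases Nat.lt_or_ge i 243750 with h8 | h8
                · skip
                  exact allRangeF_sound _ _ (checkPointF_eq cert) 243725 25 chkP_243725 i (by omega) (by omega)
                · skip
                  exact allRangeF_sound _ _ (checkPointF_eq cert) 243750 25 chkP_243750 i (by omega) (by omega)
            · skip
              rcases Nat.lt_or_ge i 243825 with h7 | h7
              · skip
                rcases Nat.lt_or_ge i 243800 with h8 | h8
                · skip
                  exact allRangeF_sound _ _ (checkPointF_eq cert) 243775 25 chkP_243775 i (by omega) (by omega)
                · skip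
                  exact allRangeF_sound _ _ (checkPointF_eq cert) 243800 25 chkP_243800 i (by omega) (by omega)
              · skip
                rcases Nat.lt_or_ge i 243850 with h8 | h8
                · skip
                  exact allRangeF_sound _ _ (checkPointF_eq cert) 243825 25 chkP_243825 i (by omega) (by omega)
                · skip
                  rcases Nat.lt_or_ge i 243875 with h9 | h9
                  · skip
                    exact allRangeF_sound _ _ (checkPointF_eq cert) 243850 25 chkP_243850 i (by omega) (by omega)
                  · skip
                    exact allRangeF_sound _ _ (checkPointF_eq cert) 243875 25 chkP_243875 i (by omega) (by omega)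
          · skip
            rcases Nat.lt_or_ge i 244025 with h6 | h6
            · skip
              rcases Nat.lt_or_ge i 243950 with h7 | h7
              · skip
                rcases Nat.lt_or_ge i 243925 with h8 | h8
                · skip
                  exact allRangeF_sound _ _ (checkPointF_eq cert) 243900 25 chkP_243900 i (by omega) (by omega)
                · skip
                  exact allRangeF_sound _ _ (checkPointF_eq cert) 243925 25 chkP_243925 i (by omega) (by omega)
              · skip
                rcases Nat.lt_or_ge i 243975 with h8 | h8
                · skip
                  exact allRangeF_sound _ _ (checkPointF_eq cert) 243950 25 chkP_243950 i (by omega) (by omega)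
                · skip
                  rcases Nat.lt_or_ge i 244000 with h9 | h9
                  · skip
                    exact allRangeF_sound _ _ (checkPointF_eq cert) 243975 25 chkP_243975 i (by omega) (by omega)
                  · skip
                    exact allRangeF_sound _ _ (checkPointF_eq cert) 244000 25 chkP_244000 i (by omega) (by omega)
            · skip
              rcases Nat.lt_or_ge i 244075 with h7 | h7
              · skip
                rcases Nat.lt_or_ge i 244050 with h8 | h8
                · skip
                  exact allRangeF_sound _ _ (checkPointF_eq cert) 244025 25 chkP_244025 i (by omega) (by omega)
                · skip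
                  exact allRangeF_sound _ _ (checkPointF_eq cert) 244050 25 chkP_244050 i (by omega) (by omega)
              · skip
                rcases Nat.lt_or_ge i 244100 with h8 | h8
                · skip
                  exact allRangeF_sound _ _ (checkPointF_eq cert) 244075 25 chkP_244075 i (by omega) (by omega)
                · skip
                  rcases Nat.lt_or_ge i 244125 with h9 | h9
                  · skip
                    exact allRangeF_sound _ _ (checkPointF_eq cert) 244100 25 chkP_244100 i (by omega) (by omega)
                  · skip
                    exact allRangeF_sound _ _ (checkPointF_eq cert) 244125 25 chkP_244125 i (by omega) (by omega)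
        · skip
          rcases Nat.lt_or_ge i 244375 with h5 | h5
          · skip
            rcases Nat.lt_or_ge i 244250 with h6 | h6
            · skip
              rcases Nat.lt_or_ge i 244200 with h7 | h7
              · skip
                rcases Nat.lt_or_ge i 244175 with h8 | h8
                · skip
                  exact allRangeF_sound _ _ (checkPointF_eq cert) 244150 25 chkP_244150 i (by omega) (by omega)
                · skip
                  exact allRangeF_sound _ _ (checkPointF_eq cert) 244175 25 chkP_244175 i (by omega) (by omega)
              · skip
                rcases Nat.lt_or_ge i 244225 with h8 | h8
                · skip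
                  exact allRangeF_sound _ _ (checkPointF_eq cert) 244200 25 chkP_244200 i (by omega) (by omega)
                · skip
                  exact allRangeF_sound _ _ (checkPointF_eq cert) 244225 25 chkP_244225 i (by omega) (by omega)
            · skip
              rcases Nat.lt_or_ge i 244300 with h7 | h7
              · skip
                rcases Nat.lt_or_ge i 244275 with h8 | h8
                · skip
                  exact allRangeF_sound _ _ (checkPointF_eq cert) 244250 25 chkP_244250 i (by omega) (by omega)
                · skip
                  exact allRangeF_sound _ _ (checkPointF_eq cert) 244275 25 chkP_244275 i (by omega) (by omega)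
              · skip
                rcases Nat.lt_or_ge i 244325 with h8 | h8
                · skip
                  exact allRangeF_sound _ _ (checkPointF_eq cert) 244300 25 chkP_244300 i (by omega) (by omega)
                · skip
                  rcases Nat.lt_or_ge i 244350 with h9 | h9
                  · skip
                    exact allRangeF_sound _ _ (checkPointF_eq cert) 244325 25 chkP_244325 i (by omega) (by omega)
                  · skip
                    exact allRangeF_sound _ _ (checkPointF_eq cert) 244350 25 chkP_244350 i (by omega) (by omega)
          · skip
            rcases Nat.lt_or_ge i 244500 with h6 | h6
            · skip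
              rcases Nat.lt_or_ge i 244425 with h7 | h7
              · skip
                rcases Nat.lt_or_ge i 244400 with h8 | h8
                · skip
                  exact allRangeF_sound _ _ (checkPointF_eq cert) 244375 25 chkP_244375 i (by omega) (by omega)
                · skip
                  exact allRangeF_sound _ _ (checkPointF_eq cert) 244400 25 chkP_244400 i (by omega) (by omega)
              · skip
                rcases Nat.lt_or_ge i 244450 with h8 | h8
                · skip
                  exact allRangeF_sound _ _ (checkPointF_eq cert) 244425 25 chkP_244425 i (by omega) (by omega)
                · skip
                  rcases Nat.lt_or_ge i 244475 with h9 | h9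
                  · skip
                    exact allRangeF_sound _ _ (checkPointF_eq cert) 244450 25 chkP_244450 i (by omega) (by omega)
                  · skip
                    exact allRangeF_sound _ _ (checkPointF_eq cert) 244475 25 chkP_244475 i (by omega) (by omega)
            · skip
              rcases Nat.lt_or_ge i 244550 with h7 | h7
              · skip
                rcases Nat.lt_or_ge i 244525 with h8 | h8
                · skip
                  exact allRangeF_sound _ _ (checkPointF_eq cert) 244500 25 chkP_244500 i (by omega) (by omega)
                · skip
                  exact allRangeF_sound _ _ (checkPointF_eq cert) 244525 25 chkP_244525 i (by omega) (by omega)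
              · skip
                rcases Nat.lt_or_ge i 244575 with h8 | h8
                · skip
                  exact allRangeF_sound _ _ (checkPointF_eq cert) 244550 25 chkP_244550 i (by omega) (by omega)
                · skip
                  rcases Nat.lt_or_ge i 244600 with h9 | h9
                  · skip
                    exact allRangeF_sound _ _ (checkPointF_eq cert) 244575 25 chkP_244575 i (by omega) (by omega)
                  · skip
                    exact allRangeF_sound _ _ (checkPointF_eq cert) 244600 25 chkP_244600 i (by omega) (by omega)
      · skip
        rcases Nat.lt_or_ge i 245100 with h4 | h4
        · skip
          rcases Nat.lt_or_ge i 244850 with h5 | h5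
          · skip
            rcases Nat.lt_or_ge i 244725 with h6 | h6
            · skip
              rcases Nat.lt_or_ge i 244675 with h7 | h7
              · skip
                rcases Nat.lt_or_ge i 244650 with h8 | h8
                · skip
                  exact allRangeF_sound _ _ (checkPointF_eq cert) 244625 25 chkP_244625 i (by omega) (by omega)
                · skip
                  exact allRangeF_sound _ _ (checkPointF_eq cert) 244650 25 chkP_244650 i (by omega) (by omega)
              · skip
                rcases Nat.lt_or_ge i 244700 with h8 | h8
                · skip
                  exact allRangeF_sound _ _ (checkPointF_eq cert) 244675 25 chkP_244675 i (by omega) (by omega)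
                · skip
                  exact allRangeF_sound _ _ (checkPointF_eq cert) 244700 25 chkP_244700 i (by omega) (by omega)
            · skip
              rcases Nat.lt_or_ge i 244775 with h7 | h7
              · skip
                rcases Nat.lt_or_ge i 244750 with h8 | h8
                · skip
                  exact allRangeF_sound _ _ (checkPointF_eq cert) 244725 25 chkP_244725 i (by omega) (by omega)
                · skip
                  exact allRangeF_sound _ _ (checkPointF_eq cert) 244750 25 chkP_244750 i (by omega) (by omega)
              · skip
                rcases Nat.lt_or_ge i 244800 with h8 | h8
                · skip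
                  exact allRangeF_sound _ _ (checkPointF_eq cert) 244775 25 chkP_244775 i (by omega) (by omega)
                · skip
                  rcases Nat.lt_or_ge i 244825 with h9 | h9
                  · skip
                    exact allRangeF_sound _ _ (checkPointF_eq cert) 244800 25 chkP_244800 i (by omega) (by omega)
                  · skip
                    exact allRangeF_sound _ _ (checkPointF_eq cert) 244825 25 chkP_244825 i (by omega) (by omega)
          · skip
            rcases Nat.lt_or_ge i 244975 with h6 | h6
            · skip
              rcases Nat.lt_or_ge i 244900 with h7 | h7
              · skip
                rcases Nat.lt_or_ge i 244875 with h8 | h8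
                · skip
                  exact allRangeF_sound _ _ (checkPointF_eq cert) 244850 25 chkP_244850 i (by omega) (by omega)
                · skip
                  exact allRangeF_sound _ _ (checkPointF_eq cert) 244875 25 chkP_244875 i (by omega) (by omega)
              · skip
                rcases Nat.lt_or_ge i 244925 with h8 | h8
                · skip
                  exact allRangeF_sound _ _ (checkPointF_eq cert) 244900 25 chkP_244900 i (by omega) (by omega)
                · skip
                  rcases Nat.lt_or_ge i 244950 with h9 | h9
                  · skip
                    exact allRangeF_sound _ _ (checkPointF_eq cert) 244925 25 chkP_244925 i (by omega) (by omega)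
                  · skip
                    exact allRangeF_sound _ _ (checkPointF_eq cert) 244950 25 chkP_244950 i (by omega) (by omega)
            · skip
              rcases Nat.lt_or_ge i 245025 with h7 | h7
              · skip
                rcases Nat.lt_or_ge i 245000 with h8 | h8
                · skip
                  exact allRangeF_sound _ _ (checkPointF_eq cert) 244975 25 chkP_244975 i (by omega) (by omega)
                · skip
                  exact allRangeF_sound _ _ (checkPointF_eq cert) 245000 25 chkP_245000 i (by omega) (by omega)
              · skip
                rcases Nat.lt_or_ge i 245050 with h8 | h8
                · skip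
                  exact allRangeF_sound _ _ (checkPointF_eq cert) 245025 25 chkP_245025 i (by omega) (by omega)
                · skip
                  rcases Nat.lt_or_ge i 245075 with h9 | h9
                  · skip
                    exact allRangeF_sound _ _ (checkPointF_eq cert) 245050 25 chkP_245050 i (by omega) (by omega)
                  · skip
                    exact allRangeF_sound _ _ (checkPointF_eq cert) 245075 25 chkP_245075 i (by omega) (by omega)
        · skip
          rcases Nat.lt_or_ge i 245350 with h5 | h5
          · skip
            rcases Nat.lt_or_ge i 245225 with h6 | h6
            · skip
              rcases Nat.lt_or_ge i 245150 with h7 | h7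
              · skip
                rcases Nat.lt_or_ge i 245125 with h8 | h8
                · skip
                  exact allRangeF_sound _ _ (checkPointF_eq cert) 245100 25 chkP_245100 i (by omega) (by omega)
                · skip
                  exact allRangeF_sound _ _ (checkPointF_eq cert) 245125 25 chkP_245125 i (by omega) (by omega)
              · skip
                rcases Nat.lt_or_ge i 245175 with h8 | h8
                · skip
                  exact allRangeF_sound _ _ (checkPointF_eq cert) 245150 25 chkP_245150 i (by omega) (by omega)
                · skip
                  rcases Nat.lt_or_ge i 245200 with h9 | h9
                  · skip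
                    exact allRangeF_sound _ _ (checkPointF_eq cert) 245175 25 chkP_245175 i (by omega) (by omega)
                  · skip
                    exact allRangeF_sound _ _ (checkPointF_eq cert) 245200 25 chkP_245200 i (by omega) (by omega)
            · skip
              rcases Nat.lt_or_ge i 245275 with h7 | h7
              · skip
                rcases Nat.lt_or_ge i 245250 with h8 | h8
                · skip
                  exact allRangeF_sound _ _ (checkPointF_eq cert) 245225 25 chkP_245225 i (by omega) (by omega)
                · skip
                  exact allRangeF_sound _ _ (checkPointF_eq cert) 245250 25 chkP_245250 i (by omega) (by omega)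
              · skip
                rcases Nat.lt_or_ge i 245300 with h8 | h8
                · skip
                  exact allRangeF_sound _ _ (checkPointF_eq cert) 245275 25 chkP_245275 i (by omega) (by omega)
                · skip
                  rcases Nat.lt_or_ge i 245325 with h9 | h9
                  · skip
                    exact allRangeF_sound _ _ (checkPointF_eq cert) 245300 25 chkP_245300 i (by omega) (by omega)
                  · skip
                    exact allRangeF_sound _ _ (checkPointF_eq cert) 245325 25 chkP_245325 i (by omega) (by omega)
          · skip
            rcases Nat.lt_or_ge i 245475 with h6 | h6
            · skip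
              rcases Nat.lt_or_ge i 245400 with h7 | h7
              · skip
                rcases Nat.lt_or_ge i 245375 with h8 | h8
                · skip
                  exact allRangeF_sound _ _ (checkPointF_eq cert) 245350 25 chkP_245350 i (by omega) (by omega)
                · skip
                  exact allRangeF_sound _ _ (checkPointF_eq cert) 245375 25 chkP_245375 i (by omega) (by omega)
              · skip
                rcases Nat.lt_or_ge i 245425 with h8 | h8
                · skip
                  exact allRangeF_sound _ _ (checkPointF_eq cert) 245400 25 chkP_245400 i (by omega) (by omega)
                · skip
                  rcases Nat.lt_or_ge i 245450 with h9 | h9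
                  · skip
                    exact allRangeF_sound _ _ (checkPointF_eq cert) 245425 25 chkP_245425 i (by omega) (by omega)
                  · skip
                    exact allRangeF_sound _ _ (checkPointF_eq cert) 245450 25 chkP_245450 i (by omega) (by omega)
            · skip
              rcases Nat.lt_or_ge i 245525 with h7 | h7
              · skip
                rcases Nat.lt_or_ge i 245500 with h8 | h8
                · skip
                  exact allRangeF_sound _ _ (checkPointF_eq cert) 245475 25 chkP_245475 i (by omega) (by omega)
                · skip
                  exact allRangeF_sound _ _ (checkPointF_eq cert) 245500 25 chkP_245500 i (by omega) (by omega)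
              · skip
                rcases Nat.lt_or_ge i 245550 with h8 | h8
                · skip
                  exact allRangeF_sound _ _ (checkPointF_eq cert) 245525 25 chkP_245525 i (by omega) (by omega)
                · skip
                  rcases Nat.lt_or_ge i 245575 with h9 | h9
                  · skip
                    exact allRangeF_sound _ _ (checkPointF_eq cert) 245550 25 chkP_245550 i (by omega) (by omega)
                  · skip
                    exact allRangeF_sound _ _ (checkPointF_eq cert) 245575 25 chkP_245575 i (by omega) (by omega)

end Cfsg.Agent.Lib.Helper28.Fi24Data
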