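import Cfsg.Agent.Lib.Helper28.Fi24Data
import Cfsg.Agent.Lib.Helper28.TCFastB

set_option autoImplicit false
set_option maxRecDepth 1000000
set_option linter.all false
set_option Elab.async false

namespace Cfsg.Agent.Lib.Helper28.Fi24Data

open Cfsg.Agent.Lib.Helper28B

theorem chkP_245600 : allRangeF (checkPointF cert) (nat_lit 245600) (nat_lit 25) = true := by decide +kernel
theorem chkP_245625 : allRangeF (checkPointF cert) (nat_lit 245625) (nat_lit 25) = true := by decide +kernel
theorem chkP_245650 : allRangeF (checkPointF cert) (nat_lit 245650) (nat_lit 25) = true := by decide +kernel
theorem chkP_245675 : allRangeF (checkPointF cert) (nat_lit 245675) (nat_lit 25) = true := by decide +kernel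
theorem chkP_245700 : allRangeF (checkPointF cert) (nat_lit 245700) (nat_lit 25) = true := by decide +kernel
theorem chkP_245725 : allRangeF (checkPointF cert) (nat_lit 245725) (nat_lit 25) = true := by decide +kernel
theorem chkP_245750 : allRangeF (checkPointF cert) (nat_lit 245750) (nat_lit 25) = true := by decide +kernel
theorem chkP_245775 : allRangeF (checkPointF cert) (nat_lit 245775) (nat_lit 25) = true := by decide +kernel
theorem chkP_245800 : allRangeF (checkPointF cert) (nat_lit 245800) (nat_lit 25) = true := by decide +kernel
theorem chkP_245825 : allRangeF (checkPointF cert) (nat_lit 245825) (nat_lit 25) = true := by decide +kernel
theorem chkP_245850 : allRangeF (checkPointF cert) (nat_lit 245850) (nat_lit 25) = true := by decide +kernel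
theorem chkP_245875 : allRangeF (checkPointF cert) (nat_lit 245875) (nat_lit 25) = true := by decide +kernel
theorem chkP_245900 : allRangeF (checkPointF cert) (nat_lit 245900) (nat_lit 25) = true := by decide +kernel
theorem chkP_245925 : allRangeF (checkPointF cert) (nat_lit 245925) (nat_lit 25) = true := by decide +kernel
theorem chkP_245950 : allRangeF (checkPointF cert) (nat_lit 245950) (nat_lit 25) = true := by decide +kernel
theorem chkP_245975 : allRangeF (checkPointF cert) (nat_lit 245975) (nat_lit 25) = true := by decide +kernel
theorem chkP_246000 : allRangeF (checkPointF cert) (nat_lit 246000) (nat_lit 25) = true := by decide +kernel
theorem chkP_246025 : allRangeF (checkPointF cert) (nat_lit 246025) (nat_lit 25) = true := by decide +kernel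
theorem chkP_246050 : allRangeF (checkPointF cert) (nat_lit 246050) (nat_lit 25) = true := by decide +kernel
theorem chkP_246075 : allRangeF (checkPointF cert) (nat_lit 246075) (nat_lit 25) = true := by decide +kernel
theorem chkP_246100 : allRangeF (checkPointF cert) (nat_lit 246100) (nat_lit 25) = true := by decide +kernel
theorem chkP_246125 : allRangeF (checkPointF cert) (nat_lit 246125) (nat_lit 25) = true := by decide +kernel
theorem chkP_246150 : allRangeF (checkPointF cert) (nat_lit 246150) (nat_lit 25) = true := by decide +kernel
theorem chkP_246175 : allRangeF (checkPointF cert) (nat_lit 246175) (nat_lit 25) = true := by decide +kernel
theorem chkP_246200 : allRangeF (checkPointF cert) (nat_lit 246200) (nat_lit 25) = true := by decide +kernel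
theorem chkP_246225 : allRangeF (checkPointF cert) (nat_lit 246225) (nat_lit 25) = true := by decide +kernel
theorem chkP_246250 : allRangeF (checkPointF cert) (nat_lit 246250) (nat_lit 25) = true := by decide +kernel
theorem chkP_246275 : allRangeF (checkPointF cert) (nat_lit 246275) (nat_lit 25) = true := by decide +kernel
theorem chkP_246300 : allRangeF (checkPointF cert) (nat_lit 246300) (nat_lit 25) = true := by decide +kernel
theorem chkP_246325 : allRangeF (checkPointF cert) (nat_lit 246325) (nat_lit 25) = true := by decide +kernel
theorem chkP_246350 : allRangeF (checkPointF cert) (nat_lit 246350) (nat_lit 25) = true := by decide +kernel
theorem chkP_246375 : allRangeF (checkPointF cert) (nat_lit 246375) (nat_lit 25) = true := by decide +kernel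
theorem chkP_246400 : allRangeF (checkPointF cert) (nat_lit 246400) (nat_lit 25) = true := by decide +kernel
theorem chkP_246425 : allRangeF (checkPointF cert) (nat_lit 246425) (nat_lit 25) = true := by decide +kernel
theorem chkP_246450 : allRangeF (checkPointF cert) (nat_lit 246450) (nat_lit 25) = true := by decide +kernel
theorem chkP_246475 : allRangeF (checkPointF cert) (nat_lit 246475) (nat_lit 25) = true := by decide +kernel
theorem chkP_246500 : allRangeF (checkPointF cert) (nat_lit 246500) (nat_lit 25) = true := by decide +kernel
theorem chkP_246525 : allRangeF (checkPointF cert) (nat_lit 246525) (nat_lit 25) = true := by decide +kernel
theorem chkP_246550 : allRangeF (checkPointF cert) (nat_lit 246550) (nat_lit 25) = true := by decide +kernel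
theorem chkP_246575 : allRangeF (checkPointF cert) (nat_lit 246575) (nat_lit 25) = true := by decide +kernel
theorem chkP_246600 : allRangeF (checkPointF cert) (nat_lit 246600) (nat_lit 25) = true := by decide +kernel
theorem chkP_246625 : allRangeF (checkPointF cert) (nat_lit 246625) (nat_lit 25) = true := by decide +kernel
theorem chkP_246650 : allRangeF (checkPointF cert) (nat_lit 246650) (nat_lit 25) = true := by decide +kernel
theorem chkP_246675 : allRangeF (checkPointF cert) (nat_lit 246675) (nat_lit 25) = true := by decide +kernel
theorem chkP_246700 : allRangeF (checkPointF cert) (nat_lit 246700) (nat_lit 25) = true := by decide +kernel
theorem chkP_246725 : allRangeF (checkPointF cert) (nat_lit 246725) (nat_lit 25) = true := by decide +kernel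
theorem chkP_246750 : allRangeF (checkPointF cert) (nat_lit 246750) (nat_lit 25) = true := by decide +kernel
theorem chkP_246775 : allRangeF (checkPointF cert) (nat_lit 246775) (nat_lit 25) = true := by decide +kernel
theorem chkP_246800 : allRangeF (checkPointF cert) (nat_lit 246800) (nat_lit 25) = true := by decide +kernel
theorem chkP_246825 : allRangeF (checkPointF cert) (nat_lit 246825) (nat_lit 25) = true := by decide +kernel
theorem chkP_246850 : allRangeF (checkPointF cert) (nat_lit 246850) (nat_lit 25) = true := by decide +kernel
theorem chkP_246875 : allRangeF (checkPointF cert) (nat_lit 246875) (nat_lit 25) = true := by decide +kernel
theorem chkP_246900 : allRangeF (checkPointF cert) (nat_lit 246900) (nat_lit 25) = true := by decide +kernel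
theorem chkP_246925 : allRangeF (checkPointF cert) (nat_lit 246925) (nat_lit 25) = true := by decide +kernel
theorem chkP_246950 : allRangeF (checkPointF cert) (nat_lit 246950) (nat_lit 25) = true := by decide +kernel
theorem chkP_246975 : allRangeF (checkPointF cert) (nat_lit 246975) (nat_lit 25) = true := by decide +kernel
theorem chkP_247000 : allRangeF (checkPointF cert) (nat_lit 247000) (nat_lit 25) = true := by decide +kernel
theorem chkP_247025 : allRangeF (checkPointF cert) (nat_lit 247025) (nat_lit 25) = true := by decide +kernel
theorem chkP_247050 : allRangeF (checkPointF cert) (nat_lit 247050) (nat_lit 25) = true := by decide +kernel
theorem chkP_247075 : allRangeF (checkPointF cert) (nat_lit 247075) (nat_lit 25) = true := by decide +kernel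
theorem chkP_247100 : allRangeF (checkPointF cert) (nat_lit 247100) (nat_lit 25) = true := by decide +kernel
theorem chkP_247125 : allRangeF (checkPointF cert) (nat_lit 247125) (nat_lit 25) = true := by decide +kernel
theorem chkP_247150 : allRangeF (checkPointF cert) (nat_lit 247150) (nat_lit 25) = true := by decide +kernel
theorem chkP_247175 : allRangeF (checkPointF cert) (nat_lit 247175) (nat_lit 25) = true := by decide +kernel
theorem chkP_247200 : allRangeF (checkPointF cert) (nat_lit 247200) (nat_lit 25) = true := by decide +kernel
theorem chkP_247225 : allRangeF (checkPointF cert) (nat_lit 247225) (nat_lit 25) = true := by decide +kernel
theorem chkP_247250 : allRangeF (checkPointF cert) (nat_lit 247250) (nat_lit 25) = true := by decide +kernel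
theorem chkP_247275 : allRangeF (checkPointF cert) (nat_lit 247275) (nat_lit 25) = true := by decide +kernel
theorem chkP_247300 : allRangeF (checkPointF cert) (nat_lit 247300) (nat_lit 25) = true := by decide +kernel
theorem chkP_247325 : allRangeF (checkPointF cert) (nat_lit 247325) (nat_lit 25) = true := by decide +kernel
theorem chkP_247350 : allRangeF (checkPointF cert) (nat_lit 247350) (nat_lit 25) = true := by decide +kernel
theorem chkP_247375 : allRangeF (checkPointF cert) (nat_lit 247375) (nat_lit 25) = true := by decide +kernel
theorem chkP_247400 : allRangeF (checkPointF cert) (nat_lit 247400) (nat_lit 25) = true := by decide +kernel
theorem chkP_247425 : allRangeF (checkPointF cert) (nat_lit 247425) (nat_lit 25) = true := by decide +kernel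
theorem chkP_247450 : allRangeF (checkPointF cert) (nat_lit 247450) (nat_lit 25) = true := by decide +kernel
theorem chkP_247475 : allRangeF (checkPointF cert) (nat_lit 247475) (nat_lit 25) = true := by decide +kernel
theorem chkP_247500 : allRangeF (checkPointF cert) (nat_lit 247500) (nat_lit 25) = true := by decide +kernel
theorem chkP_247525 : allRangeF (checkPointF cert) (nat_lit 247525) (nat_lit 25) = true := by decide +kernel
theorem chkP_247550 : allRangeF (checkPointF cert) (nat_lit 247550) (nat_lit 25) = true := by decide +kernel
theorem chkP_247575 : allRangeF (checkPointF cert) (nat_lit 247575) (nat_lit 25) = true := by decide +kernel
theorem chkP_247600 : allRangeF (checkPointF cert) (nat_lit 247600) (nat_lit 25) = true := by decide +kernel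
theorem chkP_247625 : allRangeF (checkPointF cert) (nat_lit 247625) (nat_lit 25) = true := by decide +kernel
theorem chkP_247650 : allRangeF (checkPointF cert) (nat_lit 247650) (nat_lit 25) = true := by decide +kernel
theorem chkP_247675 : allRangeF (checkPointF cert) (nat_lit 247675) (nat_lit 25) = true := by decide +kernel
theorem chkP_247700 : allRangeF (checkPointF cert) (nat_lit 247700) (nat_lit 25) = true := by decide +kernel
theorem chkP_247725 : allRangeF (checkPointF cert) (nat_lit 247725) (nat_lit 25) = true := by decide +kernel
theorem chkP_247750 : allRangeF (checkPointF cert) (nat_lit 247750) (nat_lit 25) = true := by decide +kernel
theorem chkP_247775 : allRangeF (checkPointF cert) (nat_lit 247775) (nat_lit 25) = true := by decide +kernel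
theorem chkP_247800 : allRangeF (checkPointF cert) (nat_lit 247800) (nat_lit 25) = true := by decide +kernel
theorem chkP_247825 : allRangeF (checkPointF cert) (nat_lit 247825) (nat_lit 25) = true := by decide +kernel
theorem chkP_247850 : allRangeF (checkPointF cert) (nat_lit 247850) (nat_lit 25) = true := by decide +kernel
theorem chkP_247875 : allRangeF (checkPointF cert) (nat_lit 247875) (nat_lit 25) = true := by decide +kernel
theorem chkP_247900 : allRangeF (checkPointF cert) (nat_lit 247900) (nat_lit 25) = true := by decide +kernel
theorem chkP_247925 : allRangeF (checkPointF cert) (nat_lit 247925) (nat_lit 25) = true := by decide +kernel
theorem chkP_247950 : allRangeF (checkPointF cert) (nat_lit 247950) (nat_lit 25) = true := by decide +kernel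
theorem chkP_247975 : allRangeF (checkPointF cert) (nat_lit 247975) (nat_lit 25) = true := by decide +kernel
theorem chkP_248000 : allRangeF (checkPointF cert) (nat_lit 248000) (nat_lit 25) = true := by decide +kernel
theorem chkP_248025 : allRangeF (checkPointF cert) (nat_lit 248025) (nat_lit 25) = true := by decide +kernel
theorem chkP_248050 : allRangeF (checkPointF cert) (nat_lit 248050) (nat_lit 25) = true := by decide +kernel
theorem chkP_248075 : allRangeF (checkPointF cert) (nat_lit 248075) (nat_lit 25) = true := by decide +kernel
theorem chkP_248100 : allRangeF (checkPointF cert) (nat_lit 248100) (nat_lit 25) = true := by decide +kernel
theorem chkP_248125 : allRangeF (checkPointF cert) (nat_lit 248125) (nat_lit 25) = true := by decide +kernel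
theorem chkP_248150 : allRangeF (checkPointF cert) (nat_lit 248150) (nat_lit 25) = true := by decide +kernel
theorem chkP_248175 : allRangeF (checkPointF cert) (nat_lit 248175) (nat_lit 25) = true := by decide +kernel
theorem chkP_248200 : allRangeF (checkPointF cert) (nat_lit 248200) (nat_lit 25) = true := by decide +kernel
theorem chkP_248225 : allRangeF (checkPointF cert) (nat_lit 248225) (nat_lit 25) = true := by decide +kernel
theorem chkP_248250 : allRangeF (checkPointF cert) (nat_lit 248250) (nat_lit 25) = true := by decide +kernel
theorem chkP_248275 : allRangeF (checkPointF cert) (nat_lit 248275) (nat_lit 25) = true := by decide +kernel
theorem chkP_248300 : allRangeF (checkPointF cert) (nat_lit 248300) (nat_lit 25) = true := by decide +kernel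
theorem chkP_248325 : allRangeF (checkPointF cert) (nat_lit 248325) (nat_lit 25) = true := by decide +kernel
theorem chkP_248350 : allRangeF (checkPointF cert) (nat_lit 248350) (nat_lit 25) = true := by decide +kernel
theorem chkP_248375 : allRangeF (checkPointF cert) (nat_lit 248375) (nat_lit 25) = true := by decide +kernel
theorem chkP_248400 : allRangeF (checkPointF cert) (nat_lit 248400) (nat_lit 25) = true := by decide +kernel
theorem chkP_248425 : allRangeF (checkPointF cert) (nat_lit 248425) (nat_lit 25) = true := by decide +kernel
theorem chkP_248450 : allRangeF (checkPointF cert) (nat_lit 248450) (nat_lit 25) = true := by decide +kernel
theorem chkP_248475 : allRangeF (checkPointF cert) (nat_lit 248475) (nat_lit 25) = true := by decide +kernel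
theorem chkP_248500 : allRangeF (checkPointF cert) (nat_lit 248500) (nat_lit 25) = true := by decide +kernel
theorem chkP_248525 : allRangeF (checkPointF cert) (nat_lit 248525) (nat_lit 25) = true := by decide +kernel
theorem chkP_248550 : allRangeF (checkPointF cert) (nat_lit 248550) (nat_lit 25) = true := by decide +kernel
theorem chkP_248575 : allRangeF (checkPointF cert) (nat_lit 248575) (nat_lit 25) = true := by decide +kernel
theorem chkP_248600 : allRangeF (checkPointF cert) (nat_lit 248600) (nat_lit 25) = true := by decide +kernel
theorem chkP_248625 : allRangeF (checkPointF cert) (nat_lit 248625) (nat_lit 25) = true := by decide +kernel
theorem chkP_248650 : allRangeF (checkPointF cert) (nat_lit 248650) (nat_lit 25) = true := by decide +kernel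
theorem chkP_248675 : allRangeF (checkPointF cert) (nat_lit 248675) (nat_lit 25) = true := by decide +kernel
theorem chkP_248700 : allRangeF (checkPointF cert) (nat_lit 248700) (nat_lit 25) = true := by decide +kernel
theorem chkP_248725 : allRangeF (checkPointF cert) (nat_lit 248725) (nat_lit 25) = true := by decide +kernel
theorem chkP_248750 : allRangeF (checkPointF cert) (nat_lit 248750) (nat_lit 25) = true := by decide +kernel
theorem chkP_248775 : allRangeF (checkPointF cert) (nat_lit 248775) (nat_lit 25) = true := by decide +kernel
theorem chkP_248800 : allRangeF (checkPointF cert) (nat_lit 248800) (nat_lit 25) = true := by decide +kernel
theorem chkP_248825 : allRangeF (checkPointF cert) (nat_lit 248825) (nat_lit 25) = true := by decide +kernel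
theorem chkP_248850 : allRangeF (checkPointF cert) (nat_lit 248850) (nat_lit 25) = true := by decide +kernel
theorem chkP_248875 : allRangeF (checkPointF cert) (nat_lit 248875) (nat_lit 25) = true := by decide +kernel
theorem chkP_248900 : allRangeF (checkPointF cert) (nat_lit 248900) (nat_lit 25) = true := by decide +kernel
theorem chkP_248925 : allRangeF (checkPointF cert) (nat_lit 248925) (nat_lit 25) = true := by decide +kernel
theorem chkP_248950 : allRangeF (checkPointF cert) (nat_lit 248950) (nat_lit 25) = true := by decide +kernel
theorem chkP_248975 : allRangeF (checkPointF cert) (nat_lit 248975) (nat_lit 25) = true := by decide +kernel
theorem chkP_249000 : allRangeF (checkPointF cert) (nat_lit 249000) (nat_lit 25) = true := by decide +kernel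
theorem chkP_249025 : allRangeF (checkPointF cert) (nat_lit 249025) (nat_lit 25) = true := by decide +kernel
theorem chkP_249050 : allRangeF (checkPointF cert) (nat_lit 249050) (nat_lit 25) = true := by decide +kernel
theorem chkP_249075 : allRangeF (checkPointF cert) (nat_lit 249075) (nat_lit 25) = true := by decide +kernel
theorem chkP_249100 : allRangeF (checkPointF cert) (nat_lit 249100) (nat_lit 25) = true := by decide +kernel
theorem chkP_249125 : allRangeF (checkPointF cert) (nat_lit 249125) (nat_lit 25) = true := by decide +kernel
theorem chkP_249150 : allRangeF (checkPointF cert) (nat_lit 249150) (nat_lit 25) = true := by decide +kernel
theorem chkP_249175 : allRangeF (checkPointF cert) (nat_lit 249175) (nat_lit 25) = true := by decide +kernel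
theorem chkP_249200 : allRangeF (checkPointF cert) (nat_lit 249200) (nat_lit 25) = true := by decide +kernel
theorem chkP_249225 : allRangeF (checkPointF cert) (nat_lit 249225) (nat_lit 25) = true := by decide +kernel
theorem chkP_249250 : allRangeF (checkPointF cert) (nat_lit 249250) (nat_lit 25) = true := by decide +kernel
theorem chkP_249275 : allRangeF (checkPointF cert) (nat_lit 249275) (nat_lit 25) = true := by decide +kernel
theorem chkP_249300 : allRangeF (checkPointF cert) (nat_lit 249300) (nat_lit 25) = true := by decide +kernel
theorem chkP_249325 : allRangeF (checkPointF cert) (nat_lit 249325) (nat_lit 25) = true := by decide +kernel
theorem chkP_249350 : allRangeF (checkPointF cert) (nat_lit 249350) (nat_lit 25) = true := by decide +kernel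
theorem chkP_249375 : allRangeF (checkPointF cert) (nat_lit 249375) (nat_lit 25) = true := by decide +kernel
theorem chkP_249400 : allRangeF (checkPointF cert) (nat_lit 249400) (nat_lit 25) = true := by decide +kernel
theorem chkP_249425 : allRangeF (checkPointF cert) (nat_lit 249425) (nat_lit 25) = true := by decide +kernel
theorem chkP_249450 : allRangeF (checkPointF cert) (nat_lit 249450) (nat_lit 25) = true := by decide +kernel
theorem chkP_249475 : allRangeF (checkPointF cert) (nat_lit 249475) (nat_lit 25) = true := by decide +kernel
theorem chkP_249500 : allRangeF (checkPointF cert) (nat_lit 249500) (nat_lit 25) = true := by decide +kernel
theorem chkP_249525 : allRangeF (checkPointF cert) (nat_lit 249525) (nat_lit 25) = true := by decide +kernel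
theorem chkP_249550 : allRangeF (checkPointF cert) (nat_lit 249550) (nat_lit 25) = true := by decide +kernel
theorem chkP_249575 : allRangeF (checkPointF cert) (nat_lit 249575) (nat_lit 25) = true := by decide +kernel
theorem chkP_249600 : allRangeF (checkPointF cert) (nat_lit 249600) (nat_lit 25) = true := by decide +kernel
theorem chkP_249625 : allRangeF (checkPointF cert) (nat_lit 249625) (nat_lit 25) = true := by decide +kernel
theorem chkP_249650 : allRangeF (checkPointF cert) (nat_lit 249650) (nat_lit 25) = true := by decide +kernel
theorem chkP_249675 : allRangeF (checkPointF cert) (nat_lit 249675) (nat_lit 25) = true := by decide +kernel
theorem chkP_249700 : allRangeF (checkPointF cert) (nat_lit 249700) (nat_lit 25) = true := by decide +kernel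
theorem chkP_249725 : allRangeF (checkPointF cert) (nat_lit 249725) (nat_lit 25) = true := by decide +kernel
theorem chkP_249750 : allRangeF (checkPointF cert) (nat_lit 249750) (nat_lit 25) = true := by decide +kernel
theorem chkP_249775 : allRangeF (checkPointF cert) (nat_lit 249775) (nat_lit 25) = true := by decide +kernel
theorem chkP_249800 : allRangeF (checkPointF cert) (nat_lit 249800) (nat_lit 25) = true := by decide +kernel
theorem chkP_249825 : allRangeF (checkPointF cert) (nat_lit 249825) (nat_lit 25) = true := by decide +kernel
theorem chkP_249850 : allRangeF (checkPointF cert) (nat_lit 249850) (nat_lit 25) = true := by decide +kernel
theorem chkP_249875 : allRangeF (checkPointF cert) (nat_lit 249875) (nat_lit 25) = true := by decide +kernel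
theorem chkP_249900 : allRangeF (checkPointF cert) (nat_lit 249900) (nat_lit 25) = true := by decide +kernel
theorem chkP_249925 : allRangeF (checkPointF cert) (nat_lit 249925) (nat_lit 25) = true := by decide +kernel
theorem chkP_249950 : allRangeF (checkPointF cert) (nat_lit 249950) (nat_lit 25) = true := by decide +kernel
theorem chkP_249975 : allRangeF (checkPointF cert) (nat_lit 249975) (nat_lit 25) = true := by decide +kernel
theorem chkP_250000 : allRangeF (checkPointF cert) (nat_lit 250000) (nat_lit 25) = true := by decide +kernel
theorem chkP_250025 : allRangeF (checkPointF cert) (nat_lit 250025) (nat_lit 25) = true := by decide +kernel
theorem chkP_250050 : allRangeF (checkPointF cert) (nat_lit 250050) (nat_lit 25) = true := by decide +kernel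
theorem chkP_250075 : allRangeF (checkPointF cert) (nat_lit 250075) (nat_lit 25) = true := by decide +kernel
theorem chkP_250100 : allRangeF (checkPointF cert) (nat_lit 250100) (nat_lit 25) = true := by decide +kernel
theorem chkP_250125 : allRangeF (checkPointF cert) (nat_lit 250125) (nat_lit 25) = true := by decide +kernel
theorem chkP_250150 : allRangeF (checkPointF cert) (nat_lit 250150) (nat_lit 25) = true := by decide +kernel
theorem chkP_250175 : allRangeF (checkPointF cert) (nat_lit 250175) (nat_lit 25) = true := by decide +kernel
theorem chkP_250200 : allRangeF (checkPointF cert) (nat_lit 250200) (nat_lit 25) = true := by decide +kernel
theorem chkP_250225 : allRangeF (checkPointF cert) (nat_lit 250225) (nat_lit 25) = true := by decide +kernel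
theorem chkP_250250 : allRangeF (checkPointF cert) (nat_lit 250250) (nat_lit 25) = true := by decide +kernel
theorem chkP_250275 : allRangeF (checkPointF cert) (nat_lit 250275) (nat_lit 25) = true := by decide +kernel
theorem chkP_250300 : allRangeF (checkPointF cert) (nat_lit 250300) (nat_lit 25) = true := by decide +kernel
theorem chkP_250325 : allRangeF (checkPointF cert) (nat_lit 250325) (nat_lit 25) = true := by decide +kernel
theorem chkP_250350 : allRangeF (checkPointF cert) (nat_lit 250350) (nat_lit 25) = true := by decide +kernel
theorem chkP_250375 : allRangeF (checkPointF cert) (nat_lit 250375) (nat_lit 25) = true := by decide +kernel
theorem chkP_250400 : allRangeF (checkPointF cert) (nat_lit 250400) (nat_lit 25) = true := by decide +kernel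
theorem chkP_250425 : allRangeF (checkPointF cert) (nat_lit 250425) (nat_lit 25) = true := by decide +kernel
theorem chkP_250450 : allRangeF (checkPointF cert) (nat_lit 250450) (nat_lit 25) = true := by decide +kernel
theorem chkP_250475 : allRangeF (checkPointF cert) (nat_lit 250475) (nat_lit 25) = true := by decide +kernel
theorem chkP_250500 : allRangeF (checkPointF cert) (nat_lit 250500) (nat_lit 25) = true := by decide +kernel
theorem chkP_250525 : allRangeF (checkPointF cert) (nat_lit 250525) (nat_lit 25) = true := by decide +kernel
theorem chkP_250550 : allRangeF (checkPointF cert) (nat_lit 250550) (nat_lit 25) = true := by decide +kernel
theorem chkP_250575 : allRangeF (checkPointF cert) (nat_lit 250575) (nat_lit 25) = true := by decide +kernel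
theorem chkP_250600 : allRangeF (checkPointF cert) (nat_lit 250600) (nat_lit 25) = true := by decide +kernel
theorem chkP_250625 : allRangeF (checkPointF cert) (nat_lit 250625) (nat_lit 25) = true := by decide +kernel
theorem chkP_250650 : allRangeF (checkPointF cert) (nat_lit 250650) (nat_lit 25) = true := by decide +kernel
theorem chkP_250675 : allRangeF (checkPointF cert) (nat_lit 250675) (nat_lit 25) = true := by decide +kernel
theorem chkP_250700 : allRangeF (checkPointF cert) (nat_lit 250700) (nat_lit 25) = true := by decide +kernel
theorem chkP_250725 : allRangeF (checkPointF cert) (nat_lit 250725) (nat_lit 25) = true := by decide +kernel
theorem chkP_250750 : allRangeF (checkPointF cert) (nat_lit 250750) (nat_lit 25) = true := by decide +kernel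
theorem chkP_250775 : allRangeF (checkPointF cert) (nat_lit 250775) (nat_lit 25) = true := by decide +kernel
theorem chkP_250800 : allRangeF (checkPointF cert) (nat_lit 250800) (nat_lit 25) = true := by decide +kernel
theorem chkP_250825 : allRangeF (checkPointF cert) (nat_lit 250825) (nat_lit 25) = true := by decide +kernel
theorem chkP_250850 : allRangeF (checkPointF cert) (nat_lit 250850) (nat_lit 25) = true := by decide +kernel
theorem chkP_250875 : allRangeF (checkPointF cert) (nat_lit 250875) (nat_lit 25) = true := by decide +kernel
theorem chkP_250900 : allRangeF (checkPointF cert) (nat_lit 250900) (nat_lit 25) = true := by decide +kernel
theorem chkP_250925 : allRangeF (checkPointF cert) (nat_lit 250925) (nat_lit 25) = true := by decide +kernel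
theorem chkP_250950 : allRangeF (checkPointF cert) (nat_lit 250950) (nat_lit 25) = true := by decide +kernel
theorem chkP_250975 : allRangeF (checkPointF cert) (nat_lit 250975) (nat_lit 25) = true := by decide +kernel
theorem chkP_251000 : allRangeF (checkPointF cert) (nat_lit 251000) (nat_lit 25) = true := by decide +kernel
theorem chkP_251025 : allRangeF (checkPointF cert) (nat_lit 251025) (nat_lit 25) = true := by decide +kernel
theorem chkP_251050 : allRangeF (checkPointF cert) (nat_lit 251050) (nat_lit 25) = true := by decide +kernel
theorem chkP_251075 : allRangeF (checkPointF cert) (nat_lit 251075) (nat_lit 25) = true := by decide +kernel
theorem chkP_251100 : allRangeF (checkPointF cert) (nat_lit 251100) (nat_lit 25) = true := by decide +kernel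
theorem chkP_251125 : allRangeF (checkPointF cert) (nat_lit 251125) (nat_lit 25) = true := by decide +kernel
theorem chkP_251150 : allRangeF (checkPointF cert) (nat_lit 251150) (nat_lit 25) = true := by decide +kernel
theorem chkP_251175 : allRangeF (checkPointF cert) (nat_lit 251175) (nat_lit 25) = true := by decide +kernel
theorem chkP_251200 : allRangeF (checkPointF cert) (nat_lit 251200) (nat_lit 25) = true := by decide +kernel
theorem chkP_251225 : allRangeF (checkPointF cert) (nat_lit 251225) (nat_lit 25) = true := by decide +kernel
theorem chkP_251250 : allRangeF (checkPointF cert) (nat_lit 251250) (nat_lit 25) = true := by decide +kernel
theorem chkP_251275 : allRangeF (checkPointF cert) (nat_lit 251275) (nat_lit 25) = true := by decide +kernel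
theorem chkP_251300 : allRangeF (checkPointF cert) (nat_lit 251300) (nat_lit 25) = true := by decide +kernel
theorem chkP_251325 : allRangeF (checkPointF cert) (nat_lit 251325) (nat_lit 25) = true := by decide +kernel
theorem chkP_251350 : allRangeF (checkPointF cert) (nat_lit 251350) (nat_lit 25) = true := by decide +kernel
theorem chkP_251375 : allRangeF (checkPointF cert) (nat_lit 251375) (nat_lit 25) = true := by decide +kernel
theorem chkP_251400 : allRangeF (checkPointF cert) (nat_lit 251400) (nat_lit 25) = true := by decide +kernel
theorem chkP_251425 : allRangeF (checkPointF cert) (nat_lit 251425) (nat_lit 25) = true := by decide +kernel
theorem chkP_251450 : allRangeF (checkPointF cert) (nat_lit 251450) (nat_lit 25) = true := by decide +kernel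
theorem chkP_251475 : allRangeF (checkPointF cert) (nat_lit 251475) (nat_lit 25) = true := by decide +kernel
theorem chkP_251500 : allRangeF (checkPointF cert) (nat_lit 251500) (nat_lit 25) = true := by decide +kernel
theorem chkP_251525 : allRangeF (checkPointF cert) (nat_lit 251525) (nat_lit 25) = true := by decide +kernel
theorem chkP_251550 : allRangeF (checkPointF cert) (nat_lit 251550) (nat_lit 25) = true := by decide +kernel
theorem chkP_251575 : allRangeF (checkPointF cert) (nat_lit 251575) (nat_lit 25) = true := by decide +kernel
theorem chkP_251600 : allRangeF (checkPointF cert) (nat_lit 251600) (nat_lit 25) = true := by decide +kernel
theorem chkP_251625 : allRangeF (checkPointF cert) (nat_lit 251625) (nat_lit 25) = true := by decide +kernel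
theorem chkP_251650 : allRangeF (checkPointF cert) (nat_lit 251650) (nat_lit 25) = true := by decide +kernel
theorem chkP_251675 : allRangeF (checkPointF cert) (nat_lit 251675) (nat_lit 25) = true := by decide +kernel
theorem chkP_251700 : allRangeF (checkPointF cert) (nat_lit 251700) (nat_lit 25) = true := by decide +kernel
theorem chkP_251725 : allRangeF (checkPointF cert) (nat_lit 251725) (nat_lit 25) = true := by decide +kernel
theorem chkP_251750 : allRangeF (checkPointF cert) (nat_lit 251750) (nat_lit 25) = true := by decide +kernel
theorem chkP_251775 : allRangeF (checkPointF cert) (nat_lit 251775) (nat_lit 25) = true := by decide +kernel
theorem chkP_251800 : allRangeF (checkPointF cert) (nat_lit 251800) (nat_lit 25) = true := by decide +kernel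
theorem chkP_251825 : allRangeF (checkPointF cert) (nat_lit 251825) (nat_lit 25) = true := by decide +kernel
theorem chkP_251850 : allRangeF (checkPointF cert) (nat_lit 251850) (nat_lit 25) = true := by decide +kernel
theorem chkP_251875 : allRangeF (checkPointF cert) (nat_lit 251875) (nat_lit 25) = true := by decide +kernel
theorem chkP_251900 : allRangeF (checkPointF cert) (nat_lit 251900) (nat_lit 25) = true := by decide +kernel
theorem chkP_251925 : allRangeF (checkPointF cert) (nat_lit 251925) (nat_lit 25) = true := by decide +kernel
theorem chkP_251950 : allRangeF (checkPointF cert) (nat_lit 251950) (nat_lit 25) = true := by decide +kernel
theorem chkP_251975 : allRangeF (checkPointF cert) (nat_lit 251975) (nat_lit 25) = true := by decide +kernel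
theorem chkP_252000 : allRangeF (checkPointF cert) (nat_lit 252000) (nat_lit 25) = true := by decide +kernel
theorem chkP_252025 : allRangeF (checkPointF cert) (nat_lit 252025) (nat_lit 25) = true := by decide +kernel
theorem chkP_252050 : allRangeF (checkPointF cert) (nat_lit 252050) (nat_lit 25) = true := by decide +kernel
theorem chkP_252075 : allRangeF (checkPointF cert) (nat_lit 252075) (nat_lit 25) = true := by decide +kernel
theorem chkP_252100 : allRangeF (checkPointF cert) (nat_lit 252100) (nat_lit 25) = true := by decide +kernel
theorem chkP_252125 : allRangeF (checkPointF cert) (nat_lit 252125) (nat_lit 25) = true := by decide +kernel
theorem chkP_252150 : allRangeF (checkPointF cert) (nat_lit 252150) (nat_lit 25) = true := by decide +kernel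
theorem chkP_252175 : allRangeF (checkPointF cert) (nat_lit 252175) (nat_lit 25) = true := by decide +kernel
theorem chkP_252200 : allRangeF (checkPointF cert) (nat_lit 252200) (nat_lit 25) = true := by decide +kernel
theorem chkP_252225 : allRangeF (checkPointF cert) (nat_lit 252225) (nat_lit 25) = true := by decide +kernel
theorem chkP_252250 : allRangeF (checkPointF cert) (nat_lit 252250) (nat_lit 25) = true := by decide +kernel
theorem chkP_252275 : allRangeF (checkPointF cert) (nat_lit 252275) (nat_lit 25) = true := by decide +kernel
theorem chkP_252300 : allRangeF (checkPointF cert) (nat_lit 252300) (nat_lit 25) = true := by decide +kernel
theorem chkP_252325 : allRangeF (checkPointF cert) (nat_lit 252325) (nat_lit 25) = true := by decide +kernel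
theorem chkP_252350 : allRangeF (checkPointF cert) (nat_lit 252350) (nat_lit 25) = true := by decide +kernel
theorem chkP_252375 : allRangeF (checkPointF cert) (nat_lit 252375) (nat_lit 25) = true := by decide +kernel
theorem chkP_252400 : allRangeF (checkPointF cert) (nat_lit 252400) (nat_lit 25) = true := by decide +kernel
theorem chkP_252425 : allRangeF (checkPointF cert) (nat_lit 252425) (nat_lit 25) = true := by decide +kernel
theorem chkP_252450 : allRangeF (checkPointF cert) (nat_lit 252450) (nat_lit 25) = true := by decide +kernel
theorem chkP_252475 : allRangeF (checkPointF cert) (nat_lit 252475) (nat_lit 25) = true := by decide +kernel
theorem chkP_252500 : allRangeF (checkPointF cert) (nat_lit 252500) (nat_lit 25) = true := by decide +kernel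
theorem chkP_252525 : allRangeF (checkPointF cert) (nat_lit 252525) (nat_lit 25) = true := by decide +kernel
theorem chkP_252550 : allRangeF (checkPointF cert) (nat_lit 252550) (nat_lit 25) = true := by decide +kernel
theorem chkP_252575 : allRangeF (checkPointF cert) (nat_lit 252575) (nat_lit 25) = true := by decide +kernel
theorem chkP_252600 : allRangeF (checkPointF cert) (nat_lit 252600) (nat_lit 25) = true := by decide +kernel
theorem chkP_252625 : allRangeF (checkPointF cert) (nat_lit 252625) (nat_lit 25) = true := by decide +kernel
theorem chkP_252650 : allRangeF (checkPointF cert) (nat_lit 252650) (nat_lit 25) = true := by decide +kernel
theorem chkP_252675 : allRangeF (checkPointF cert) (nat_lit 252675) (nat_lit 25) = true := by decide +kernel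
theorem chkP_252700 : allRangeF (checkPointF cert) (nat_lit 252700) (nat_lit 25) = true := by decide +kernel
theorem chkP_252725 : allRangeF (checkPointF cert) (nat_lit 252725) (nat_lit 25) = true := by decide +kernel
theorem chkP_252750 : allRangeF (checkPointF cert) (nat_lit 252750) (nat_lit 25) = true := by decide +kernel
theorem chkP_252775 : allRangeF (checkPointF cert) (nat_lit 252775) (nat_lit 25) = true := by decide +kernel
theorem chkP_252800 : allRangeF (checkPointF cert) (nat_lit 252800) (nat_lit 25) = true := by decide +kernel
theorem chkP_252825 : allRangeF (checkPointF cert) (nat_lit 252825) (nat_lit 25) = true := by decide +kernel
theorem chkP_252850 : allRangeF (checkPointF cert) (nat_lit 252850) (nat_lit 25) = true := by decide +kernel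
theorem chkP_252875 : allRangeF (checkPointF cert) (nat_lit 252875) (nat_lit 25) = true := by decide +kernel
theorem chkP_252900 : allRangeF (checkPointF cert) (nat_lit 252900) (nat_lit 25) = true := by decide +kernel
theorem chkP_252925 : allRangeF (checkPointF cert) (nat_lit 252925) (nat_lit 25) = true := by decide +kernel
theorem chkP_252950 : allRangeF (checkPointF cert) (nat_lit 252950) (nat_lit 25) = true := by decide +kernel
theorem chkP_252975 : allRangeF (checkPointF cert) (nat_lit 252975) (nat_lit 25) = true := by decide +kernel
theorem chkP_253000 : allRangeF (checkPointF cert) (nat_lit 253000) (nat_lit 25) = true := by decide +kernel
theorem chkP_253025 : allRangeF (checkPointF cert) (nat_lit 253025) (nat_lit 25) = true := by decide +kernel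
theorem chkP_253050 : allRangeF (checkPointF cert) (nat_lit 253050) (nat_lit 25) = true := by decide +kernel
theorem chkP_253075 : allRangeF (checkPointF cert) (nat_lit 253075) (nat_lit 25) = true := by decide +kernel
theorem chkP_253100 : allRangeF (checkPointF cert) (nat_lit 253100) (nat_lit 25) = true := by decide +kernel
theorem chkP_253125 : allRangeF (checkPointF cert) (nat_lit 253125) (nat_lit 25) = true := by decide +kernel
theorem chkP_253150 : allRangeF (checkPointF cert) (nat_lit 253150) (nat_lit 25) = true := by decide +kernel
theorem chkP_253175 : allRangeF (checkPointF cert) (nat_lit 253175) (nat_lit 25) = true := by decide +kernel
theorem chkP_253200 : allRangeF (checkPointF cert) (nat_lit 253200) (nat_lit 25) = true := by decide +kernel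
theorem chkP_253225 : allRangeF (checkPointF cert) (nat_lit 253225) (nat_lit 25) = true := by decide +kernel
theorem chkP_253250 : allRangeF (checkPointF cert) (nat_lit 253250) (nat_lit 25) = true := by decide +kernel

theorem ptsRange_32 : ∀ i, 245600 ≤ i → i < 253275 → checkPoint cert i = true := by
  intro i hlo hhi
  rcases Nat.lt_or_ge i 249425 with h1 | h1
  · skip
    rcases Nat.lt_or_ge i 247500 with h2 | h2
    · skip
      rcases Nat.lt_or_ge i 246550 with h3 | h3
      · skip
        rcases Nat.lt_or_ge i 246075 with h4 | h4
        · skip
          rcases Nat.lt_or_ge i 245825 with h5 | h5
          · skip
            rcases Nat.lt_or_ge i 245700 with h6 | h6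
            · skip
              rcases Nat.lt_or_ge i 245650 with h7 | h7
              · skip
                rcases Nat.lt_or_ge i 245625 with h8 | h8
                · skip
                  exact allRangeF_sound _ _ (checkPointF_eq cert) 245600 25 chkP_245600 i (by omega) (by omega)
                · skip
                  exact allRangeF_sound _ _ (checkPointF_eq cert) 245625 25 chkP_245625 i (by omega) (by omega)
              · skip
                rcases Nat.lt_or_ge i 245675 with h8 | h8
                · skip
                  exact allRangeF_sound _ _ (checkPointF_eq cert) 245650 25 chkP_245650 i (by omega) (by omega)
                · skip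
                  exact allRangeF_sound _ _ (checkPointF_eq cert) 245675 25 chkP_245675 i (by omega) (by omega)
            · skip
              rcases Nat.lt_or_ge i 245750 with h7 | h7
              · skip
                rcases Nat.lt_or_ge i 245725 with h8 | h8
                · skip
                  exact allRangeF_sound _ _ (checkPointF_eq cert) 245700 25 chkP_245700 i (by omega) (by omega)
                · skip
                  exact allRangeF_sound _ _ (checkPointF_eq cert) 245725 25 chkP_245725 i (by omega) (by omega)
              · skip
                rcases Nat.lt_or_ge i 245775 with h8 | h8
                · skip
                  exact allRangeF_sound _ _ (checkPointF_eq cert) 245750 25 chkP_245750 i (by omega) (by omega)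
                · skip
                  rcases Nat.lt_or_ge i 245800 with h9 | h9
                  · skip
                    exact allRangeF_sound _ _ (checkPointF_eq cert) 245775 25 chkP_245775 i (by omega) (by omega)
                  · skip
                    exact allRangeF_sound _ _ (checkPointF_eq cert) 245800 25 chkP_245800 i (by omega) (by omega)
          · skip
            rcases Nat.lt_or_ge i 245950 with h6 | h6
            · skip
              rcases Nat.lt_or_ge i 245875 with h7 | h7
              · skip
                rcases Nat.lt_or_ge i 245850 with h8 | h8
                · skip
                  exact allRangeF_sound _ _ (checkPointF_eq cert) 245825 25 chkP_245825 i (by omega) (by omega)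
                · skip
                  exact allRangeF_sound _ _ (checkPointF_eq cert) 245850 25 chkP_245850 i (by omega) (by omega)
              · skip
                rcases Nat.lt_or_ge i 245900 with h8 | h8
                · skip
                  exact allRangeF_sound _ _ (checkPointF_eq cert) 245875 25 chkP_245875 i (by omega) (by omega)
                · skip
                  rcases Nat.lt_or_ge i 245925 with h9 | h9
                  · skip
                    exact allRangeF_sound _ _ (checkPointF_eq cert) 245900 25 chkP_245900 i (by omega) (by omega)
                  · skip
                    exact allRangeF_sound _ _ (checkPointF_eq cert) 245925 25 chkP_245925 i (by omega) (by omega)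
            · skip
              rcases Nat.lt_or_ge i 246000 with h7 | h7
              · skip
                rcases Nat.lt_or_ge i 245975 with h8 | h8
                · skip
                  exact allRangeF_sound _ _ (checkPointF_eq cert) 245950 25 chkP_245950 i (by omega) (by omega)
                · skip
                  exact allRangeF_sound _ _ (checkPointF_eq cert) 245975 25 chkP_245975 i (by omega) (by omega)
              · skip
                rcases Nat.lt_or_ge i 246025 with h8 | h8
                · skip
                  exact allRangeF_sound _ _ (checkPointF_eq cert) 246000 25 chkP_246000 i (by omega) (by omega)
                · skip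
                  rcases Nat.lt_or_ge i 246050 with h9 | h9
                  · skip
                    exact allRangeF_sound _ _ (checkPointF_eq cert) 246025 25 chkP_246025 i (by omega) (by omega)
                  · skip
                    exact allRangeF_sound _ _ (checkPointF_eq cert) 246050 25 chkP_246050 i (by omega) (by omega)
        · skip
          rcases Nat.lt_or_ge i 246300 with h5 | h5
          · skip
            rcases Nat.lt_or_ge i 246175 with h6 | h6
            · skip
              rcases Nat.lt_or_ge i 246125 with h7 | h7
              · skip
                rcases Nat.lt_or_ge i 246100 with h8 | h8
                · skip
                  exact allRangeF_sound _ _ (checkPointF_eq cert) 246075 25 chkP_246075 i (by omega) (by omega)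
                · skip
                  exact allRangeF_sound _ _ (checkPointF_eq cert) 246100 25 chkP_246100 i (by omega) (by omega)
              · skip
                rcases Nat.lt_or_ge i 246150 with h8 | h8
                · skip
                  exact allRangeF_sound _ _ (checkPointF_eq cert) 246125 25 chkP_246125 i (by omega) (by omega)
                · skip
                  exact allRangeF_sound _ _ (checkPointF_eq cert) 246150 25 chkP_246150 i (by omega) (by omega)
            · skip
              rcases Nat.lt_or_ge i 246225 with h7 | h7
              · skip
                rcases Nat.lt_or_ge i 246200 with h8 | h8
                · skip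
                  exact allRangeF_sound _ _ (checkPointF_eq cert) 246175 25 chkP_246175 i (by omega) (by omega)
                · skip
                  exact allRangeF_sound _ _ (checkPointF_eq cert) 246200 25 chkP_246200 i (by omega) (by omega)
              · skip
                rcases Nat.lt_or_ge i 246250 with h8 | h8
                · skip
                  exact allRangeF_sound _ _ (checkPointF_eq cert) 246225 25 chkP_246225 i (by omega) (by omega)
                · skip
                  rcases Nat.lt_or_ge i 246275 with h9 | h9
                  · skip
                    exact allRangeF_sound _ _ (checkPointF_eq cert) 246250 25 chkP_246250 i (by omega) (by omega)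
                  · skip
                    exact allRangeF_sound _ _ (checkPointF_eq cert) 246275 25 chkP_246275 i (by omega) (by omega)
          · skip
            rcases Nat.lt_or_ge i 246425 with h6 | h6
            · skip
              rcases Nat.lt_or_ge i 246350 with h7 | h7
              · skip
                rcases Nat.lt_or_ge i 246325 with h8 | h8
                · skip
                  exact allRangeF_sound _ _ (checkPointF_eq cert) 246300 25 chkP_246300 i (by omega) (by omega)
                · skip
                  exact allRangeF_sound _ _ (checkPointF_eq cert) 246325 25 chkP_246325 i (by omega) (by omega)
              · skip
                rcases Nat.lt_or_ge i 246375 with h8 | h8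
                · skip
                  exact allRangeF_sound _ _ (checkPointF_eq cert) 246350 25 chkP_246350 i (by omega) (by omega)
                · skip
                  rcases Nat.lt_or_ge i 246400 with h9 | h9
                  · skip
                    exact allRangeF_sound _ _ (checkPointF_eq cert) 246375 25 chkP_246375 i (by omega) (by omega)
                  · skip
                    exact allRangeF_sound _ _ (checkPointF_eq cert) 246400 25 chkP_246400 i (by omega) (by omega)
            · skip
              rcases Nat.lt_or_ge i 246475 with h7 | h7
              · skip
                rcases Nat.lt_or_ge i 246450 with h8 | h8
                · skip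
                  exact allRangeF_sound _ _ (checkPointF_eq cert) 246425 25 chkP_246425 i (by omega) (by omega)
                · skip
                  exact allRangeF_sound _ _ (checkPointF_eq cert) 246450 25 chkP_246450 i (by omega) (by omega)
              · skip
                rcases Nat.lt_or_ge i 246500 with h8 | h8
                · skip
                  exact allRangeF_sound _ _ (checkPointF_eq cert) 246475 25 chkP_246475 i (by omega) (by omega)
                · skip
                  rcases Nat.lt_or_ge i 246525 with h9 | h9
                  · skip
                    exact allRangeF_sound _ _ (checkPointF_eq cert) 246500 25 chkP_246500 i (by omega) (by omega)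
                  · skip
                    exact allRangeF_sound _ _ (checkPointF_eq cert) 246525 25 chkP_246525 i (by omega) (by omega)
      · skip
        rcases Nat.lt_or_ge i 247025 with h4 | h4
        · skip
          rcases Nat.lt_or_ge i 246775 with h5 | h5
          · skip
            rcases Nat.lt_or_ge i 246650 with h6 | h6
            · skip
              rcases Nat.lt_or_ge i 246600 with h7 | h7
              · skip
                rcases Nat.lt_or_ge i 246575 with h8 | h8
                · skip
                  exact allRangeF_sound _ _ (checkPointF_eq cert) 246550 25 chkP_246550 i (by omega) (by omega)
                · skip
                  exact allRangeF_sound _ _ (checkPointF_eq cert) 246575 25 chkP_246575 i (by omega) (by omega)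
              · skip
                rcases Nat.lt_or_ge i 246625 with h8 | h8
                · skip
                  exact allRangeF_sound _ _ (checkPointF_eq cert) 246600 25 chkP_246600 i (by omega) (by omega)
                · skip
                  exact allRangeF_sound _ _ (checkPointF_eq cert) 246625 25 chkP_246625 i (by omega) (by omega)
            · skip
              rcases Nat.lt_or_ge i 246700 with h7 | h7
              · skip
                rcases Nat.lt_or_ge i 246675 with h8 | h8
                · skip
                  exact allRangeF_sound _ _ (checkPointF_eq cert) 246650 25 chkP_246650 i (by omega) (by omega)
                · skip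
                  exact allRangeF_sound _ _ (checkPointF_eq cert) 246675 25 chkP_246675 i (by omega) (by omega)
              · skip
                rcases Nat.lt_or_ge i 246725 with h8 | h8
                · skip
                  exact allRangeF_sound _ _ (checkPointF_eq cert) 246700 25 chkP_246700 i (by omega) (by omega)
                · skip
                  rcases Nat.lt_or_ge i 246750 with h9 | h9
                  · skip
                    exact allRangeF_sound _ _ (checkPointF_eq cert) 246725 25 chkP_246725 i (by omega) (by omega)
                  · skip
                    exact allRangeF_sound _ _ (checkPointF_eq cert) 246750 25 chkP_246750 i (by omega) (by omega)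
          · skip
            rcases Nat.lt_or_ge i 246900 with h6 | h6
            · skip
              rcases Nat.lt_or_ge i 246825 with h7 | h7
              · skip
                rcases Nat.lt_or_ge i 246800 with h8 | h8
                · skip
                  exact allRangeF_sound _ _ (checkPointF_eq cert) 246775 25 chkP_246775 i (by omega) (by omega)
                · skip
                  exact allRangeF_sound _ _ (checkPointF_eq cert) 246800 25 chkP_246800 i (by omega) (by omega)
              · skip
                rcases Nat.lt_or_ge i 246850 with h8 | h8
                · skip
                  exact allRangeF_sound _ _ (checkPointF_eq cert) 246825 25 chkP_246825 i (by omega) (by omega)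
                · skip
                  rcases Nat.lt_or_ge i 246875 with h9 | h9
                  · skip
                    exact allRangeF_sound _ _ (checkPointF_eq cert) 246850 25 chkP_246850 i (by omega) (by omega)
                  · skip
                    exact allRangeF_sound _ _ (checkPointF_eq cert) 246875 25 chkP_246875 i (by omega) (by omega)
            · skip
              rcases Nat.lt_or_ge i 246950 with h7 | h7
              · skip
                rcases Nat.lt_or_ge i 246925 with h8 | h8
                · skip
                  exact allRangeF_sound _ _ (checkPointF_eq cert) 246900 25 chkP_246900 i (by omega) (by omega)
                · skip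
                  exact allRangeF_sound _ _ (checkPointF_eq cert) 246925 25 chkP_246925 i (by omega) (by omega)
              · skip
                rcases Nat.lt_or_ge i 246975 with h8 | h8
                · skip
                  exact allRangeF_sound _ _ (checkPointF_eq cert) 246950 25 chkP_246950 i (by omega) (by omega)
                · skip
                  rcases Nat.lt_or_ge i 247000 with h9 | h9
                  · skip
                    exact allRangeF_sound _ _ (checkPointF_eq cert) 246975 25 chkP_246975 i (by omega) (by omega)
                  · skip
                    exact allRangeF_sound _ _ (checkPointF_eq cert) 247000 25 chkP_247000 i (by omega) (by omega)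
        · skip
          rcases Nat.lt_or_ge i 247250 with h5 | h5
          · skip
            rcases Nat.lt_or_ge i 247125 with h6 | h6
            · skip
              rcases Nat.lt_or_ge i 247075 with h7 | h7
              · skip
                rcases Nat.lt_or_ge i 247050 with h8 | h8
                · skip
                  exact allRangeF_sound _ _ (checkPointF_eq cert) 247025 25 chkP_247025 i (by omega) (by omega)
                · skip
                  exact allRangeF_sound _ _ (checkPointF_eq cert) 247050 25 chkP_247050 i (by omega) (by omega)
              · skip
                rcases Nat.lt_or_ge i 247100 with h8 | h8
                · skip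
                  exact allRangeF_sound _ _ (checkPointF_eq cert) 247075 25 chkP_247075 i (by omega) (by omega)
                · skip
                  exact allRangeF_sound _ _ (checkPointF_eq cert) 247100 25 chkP_247100 i (by omega) (by omega)
            · skip
              rcases Nat.lt_or_ge i 247175 with h7 | h7
              · skip
                rcases Nat.lt_or_ge i 247150 with h8 | h8
                · skip
                  exact allRangeF_sound _ _ (checkPointF_eq cert) 247125 25 chkP_247125 i (by omega) (by omega)
                · skip
                  exact allRangeF_sound _ _ (checkPointF_eq cert) 247150 25 chkP_247150 i (by omega) (by omega)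
              · skip
                rcases Nat.lt_or_ge i 247200 with h8 | h8
                · skip
                  exact allRangeF_sound _ _ (checkPointF_eq cert) 247175 25 chkP_247175 i (by omega) (by omega)
                · skip
                  rcases Nat.lt_or_ge i 247225 with h9 | h9
                  · skip
                    exact allRangeF_sound _ _ (checkPointF_eq cert) 247200 25 chkP_247200 i (by omega) (by omega)
                  · skip
                    exact allRangeF_sound _ _ (checkPointF_eq cert) 247225 25 chkP_247225 i (by omega) (by omega)
          · skip
            rcases Nat.lt_or_ge i 247375 with h6 | h6
            · skip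
              rcases Nat.lt_or_ge i 247300 with h7 | h7
              · skip
                rcases Nat.lt_or_ge i 247275 with h8 | h8
                · skip
                  exact allRangeF_sound _ _ (checkPointF_eq cert) 247250 25 chkP_247250 i (by omega) (by omega)
                · skip
                  exact allRangeF_sound _ _ (checkPointF_eq cert) 247275 25 chkP_247275 i (by omega) (by omega)
              · skip
                rcases Nat.lt_or_ge i 247325 with h8 | h8
                · skip
                  exact allRangeF_sound _ _ (checkPointF_eq cert) 247300 25 chkP_247300 i (by omega) (by omega)
                · skip
                  rcases Nat.lt_or_ge i 247350 with h9 | h9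
                  · skip
                    exact allRangeF_sound _ _ (checkPointF_eq cert) 247325 25 chkP_247325 i (by omega) (by omega)
                  · skip
                    exact allRangeF_sound _ _ (checkPointF_eq cert) 247350 25 chkP_247350 i (by omega) (by omega)
            · skip
              rcases Nat.lt_or_ge i 247425 with h7 | h7
              · skip
                rcases Nat.lt_or_ge i 247400 with h8 | h8
                · skip
                  exact allRangeF_sound _ _ (checkPointF_eq cert) 247375 25 chkP_247375 i (by omega) (by omega)
                · skip
                  exact allRangeF_sound _ _ (checkPointF_eq cert) 247400 25 chkP_247400 i (by omega) (by omega)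
              · skip
                rcases Nat.lt_or_ge i 247450 with h8 | h8
                · skip
                  exact allRangeF_sound _ _ (checkPointF_eq cert) 247425 25 chkP_247425 i (by omega) (by omega)
                · skip
                  rcases Nat.lt_or_ge i 247475 with h9 | h9
                  · skip
                    exact allRangeF_sound _ _ (checkPointF_eq cert) 247450 25 chkP_247450 i (by omega) (by omega)
                  · skip
                    exact allRangeF_sound _ _ (checkPointF_eq cert) 247475 25 chkP_247475 i (by omega) (by omega)
    · skip
      rcases Nat.lt_or_ge i 248450 with h3 | h3
      · skip
        rcases Nat.lt_or_ge i 247975 with h4 | h4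
        · skip
          rcases Nat.lt_or_ge i 247725 with h5 | h5
          · skip
            rcases Nat.lt_or_ge i 247600 with h6 | h6
            · skip
              rcases Nat.lt_or_ge i 247550 with h7 | h7
              · skip
                rcases Nat.lt_or_ge i 247525 with h8 | h8
                · skip
                  exact allRangeF_sound _ _ (checkPointF_eq cert) 247500 25 chkP_247500 i (by omega) (by omega)
                · skip
                  exact allRangeF_sound _ _ (checkPointF_eq cert) 247525 25 chkP_247525 i (by omega) (by omega)
              · skip
                rcases Nat.lt_or_ge i 247575 with h8 | h8
                · skip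
                  exact allRangeF_sound _ _ (checkPointF_eq cert) 247550 25 chkP_247550 i (by omega) (by omega)
                · skip
                  exact allRangeF_sound _ _ (checkPointF_eq cert) 247575 25 chkP_247575 i (by omega) (by omega)
            · skip
              rcases Nat.lt_or_ge i 247650 with h7 | h7
              · skip
                rcases Nat.lt_or_ge i 247625 with h8 | h8
                · skip
                  exact allRangeF_sound _ _ (checkPointF_eq cert) 247600 25 chkP_247600 i (by omega) (by omega)
                · skip
                  exact allRangeF_sound _ _ (checkPointF_eq cert) 247625 25 chkP_247625 i (by omega) (by omega)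
              · skip
                rcases Nat.lt_or_ge i 247675 with h8 | h8
                · skip
                  exact allRangeF_sound _ _ (checkPointF_eq cert) 247650 25 chkP_247650 i (by omega) (by omega)
                · skip
                  rcases Nat.lt_or_ge i 247700 with h9 | h9
                  · skip
                    exact allRangeF_sound _ _ (checkPointF_eq cert) 247675 25 chkP_247675 i (by omega) (by omega)
                  · skip
                    exact allRangeF_sound _ _ (checkPointF_eq cert) 247700 25 chkP_247700 i (by omega) (by omega)
          · skip
            rcases Nat.lt_or_ge i 247850 with h6 | h6
            · skip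
              rcases Nat.lt_or_ge i 247775 with h7 | h7
              · skip
                rcases Nat.lt_or_ge i 247750 with h8 | h8
                · skip
                  exact allRangeF_sound _ _ (checkPointF_eq cert) 247725 25 chkP_247725 i (by omega) (by omega)
                · skip
                  exact allRangeF_sound _ _ (checkPointF_eq cert) 247750 25 chkP_247750 i (by omega) (by omega)
              · skip
                rcases Nat.lt_or_ge i 247800 with h8 | h8
                · skip
                  exact allRangeF_sound _ _ (checkPointF_eq cert) 247775 25 chkP_247775 i (by omega) (by omega)
                · skip
                  rcases Nat.lt_or_ge i 247825 with h9 | h9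
                  · skip
                    exact allRangeF_sound _ _ (checkPointF_eq cert) 247800 25 chkP_247800 i (by omega) (by omega)
                  · skip
                    exact allRangeF_sound _ _ (checkPointF_eq cert) 247825 25 chkP_247825 i (by omega) (by omega)
            · skip
              rcases Nat.lt_or_ge i 247900 with h7 | h7
              · skip
                rcases Nat.lt_or_ge i 247875 with h8 | h8
                · skip
                  exact allRangeF_sound _ _ (checkPointF_eq cert) 247850 25 chkP_247850 i (by omega) (by omega)
                · skip
                  exact allRangeF_sound _ _ (checkPointF_eq cert) 247875 25 chkP_247875 i (by omega) (by omega)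
              · skip
                rcases Nat.lt_or_ge i 247925 with h8 | h8
                · skip
                  exact allRangeF_sound _ _ (checkPointF_eq cert) 247900 25 chkP_247900 i (by omega) (by omega)
                · skip
                  rcases Nat.lt_or_ge i 247950 with h9 | h9
                  · skip
                    exact allRangeF_sound _ _ (checkPointF_eq cert) 247925 25 chkP_247925 i (by omega) (by omega)
                  · skip
                    exact allRangeF_sound _ _ (checkPointF_eq cert) 247950 25 chkP_247950 i (by omega) (by omega)
        · skip
          rcases Nat.lt_or_ge i 248200 with h5 | h5
          · skip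
            rcases Nat.lt_or_ge i 248075 with h6 | h6
            · skip
              rcases Nat.lt_or_ge i 248025 with h7 | h7
              · skip
                rcases Nat.lt_or_ge i 248000 with h8 | h8
                · skip
                  exact allRangeF_sound _ _ (checkPointF_eq cert) 247975 25 chkP_247975 i (by omega) (by omega)
                · skip
                  exact allRangeF_sound _ _ (checkPointF_eq cert) 248000 25 chkP_248000 i (by omega) (by omega)
              · skip
                rcases Nat.lt_or_ge i 248050 with h8 | h8
                · skip
                  exact allRangeF_sound _ _ (checkPointF_eq cert) 248025 25 chkP_248025 i (by omega) (by omega)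
                · skip
                  exact allRangeF_sound _ _ (checkPointF_eq cert) 248050 25 chkP_248050 i (by omega) (by omega)
            · skip
              rcases Nat.lt_or_ge i 248125 with h7 | h7
              · skip
                rcases Nat.lt_or_ge i 248100 with h8 | h8
                · skip
                  exact allRangeF_sound _ _ (checkPointF_eq cert) 248075 25 chkP_248075 i (by omega) (by omega)
                · skip
                  exact allRangeF_sound _ _ (checkPointF_eq cert) 248100 25 chkP_248100 i (by omega) (by omega)
              · skip
                rcases Nat.lt_or_ge i 248150 with h8 | h8
                · skip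
                  exact allRangeF_sound _ _ (checkPointF_eq cert) 248125 25 chkP_248125 i (by omega) (by omega)
                · skip
                  rcases Nat.lt_or_ge i 248175 with h9 | h9
                  · skip
                    exact allRangeF_sound _ _ (checkPointF_eq cert) 248150 25 chkP_248150 i (by omega) (by omega)
                  · skip
                    exact allRangeF_sound _ _ (checkPointF_eq cert) 248175 25 chkP_248175 i (by omega) (by omega)
          · skip
            rcases Nat.lt_or_ge i 248325 with h6 | h6
            · skip
              rcases Nat.lt_or_ge i 248250 with h7 | h7
              · skip
                rcases Nat.lt_or_ge i 248225 with h8 | h8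
                · skip
                  exact allRangeF_sound _ _ (checkPointF_eq cert) 248200 25 chkP_248200 i (by omega) (by omega)
                · skip
                  exact allRangeF_sound _ _ (checkPointF_eq cert) 248225 25 chkP_248225 i (by omega) (by omega)
              · skip
                rcases Nat.lt_or_ge i 248275 with h8 | h8
                · skip
                  exact allRangeF_sound _ _ (checkPointF_eq cert) 248250 25 chkP_248250 i (by omega) (by omega)
                · skip
                  rcases Nat.lt_or_ge i 248300 with h9 | h9
                  · skip
                    exact allRangeF_sound _ _ (checkPointF_eq cert) 248275 25 chkP_248275 i (by omega) (by omega)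
                  · skip
                    exact allRangeF_sound _ _ (checkPointF_eq cert) 248300 25 chkP_248300 i (by omega) (by omega)
            · skip
              rcases Nat.lt_or_ge i 248375 with h7 | h7
              · skip
                rcases Nat.lt_or_ge i 248350 with h8 | h8
                · skip
                  exact allRangeF_sound _ _ (checkPointF_eq cert) 248325 25 chkP_248325 i (by omega) (by omega)
                · skip
                  exact allRangeF_sound _ _ (checkPointF_eq cert) 248350 25 chkP_248350 i (by omega) (by omega)
              · skip
                rcases Nat.lt_or_ge i 248400 with h8 | h8
                · skip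
                  exact allRangeF_sound _ _ (checkPointF_eq cert) 248375 25 chkP_248375 i (by omega) (by omega)
                · skip
                  rcases Nat.lt_or_ge i 248425 with h9 | h9
                  · skip
                    exact allRangeF_sound _ _ (checkPointF_eq cert) 248400 25 chkP_248400 i (by omega) (by omega)
                  · skip
                    exact allRangeF_sound _ _ (checkPointF_eq cert) 248425 25 chkP_248425 i (by omega) (by omega)
      · skip
        rcases Nat.lt_or_ge i 248925 with h4 | h4
        · skip
          rcases Nat.lt_or_ge i 248675 with h5 | h5
          · skip
            rcases Nat.lt_or_ge i 248550 with h6 | h6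
            · skip
              rcases Nat.lt_or_ge i 248500 with h7 | h7
              · skip
                rcases Nat.lt_or_ge i 248475 with h8 | h8
                · skip
                  exact allRangeF_sound _ _ (checkPointF_eq cert) 248450 25 chkP_248450 i (by omega) (by omega)
                · skip
                  exact allRangeF_sound _ _ (checkPointF_eq cert) 248475 25 chkP_248475 i (by omega) (by omega)
              · skip
                rcases Nat.lt_or_ge i 248525 with h8 | h8
                · skip
                  exact allRangeF_sound _ _ (checkPointF_eq cert) 248500 25 chkP_248500 i (by omega) (by omega)
                · skip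
                  exact allRangeF_sound _ _ (checkPointF_eq cert) 248525 25 chkP_248525 i (by omega) (by omega)
            · skip
              rcases Nat.lt_or_ge i 248600 with h7 | h7
              · skip
                rcases Nat.lt_or_ge i 248575 with h8 | h8
                · skip
                  exact allRangeF_sound _ _ (checkPointF_eq cert) 248550 25 chkP_248550 i (by omega) (by omega)
                · skip
                  exact allRangeF_sound _ _ (checkPointF_eq cert) 248575 25 chkP_248575 i (by omega) (by omega)
              · skip
                rcases Nat.lt_or_ge i 248625 with h8 | h8
                · skip
                  exact allRangeF_sound _ _ (checkPointF_eq cert) 248600 25 chkP_248600 i (by omega) (by omega)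
                · skip
                  rcases Nat.lt_or_ge i 248650 with h9 | h9
                  · skip
                    exact allRangeF_sound _ _ (checkPointF_eq cert) 248625 25 chkP_248625 i (by omega) (by omega)
                  · skip
                    exact allRangeF_sound _ _ (checkPointF_eq cert) 248650 25 chkP_248650 i (by omega) (by omega)
          · skip
            rcases Nat.lt_or_ge i 248800 with h6 | h6
            · skip
              rcases Nat.lt_or_ge i 248725 with h7 | h7
              · skip
                rcases Nat.lt_or_ge i 248700 with h8 | h8
                · skip
                  exact allRangeF_sound _ _ (checkPointF_eq cert) 248675 25 chkP_248675 i (by omega) (by omega)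
                · skip
                  exact allRangeF_sound _ _ (checkPointF_eq cert) 248700 25 chkP_248700 i (by omega) (by omega)
              · skip
                rcases Nat.lt_or_ge i 248750 with h8 | h8
                · skip
                  exact allRangeF_sound _ _ (checkPointF_eq cert) 248725 25 chkP_248725 i (by omega) (by omega)
                · skip
                  rcases Nat.lt_or_ge i 248775 with h9 | h9
                  · skip
                    exact allRangeF_sound _ _ (checkPointF_eq cert) 248750 25 chkP_248750 i (by omega) (by omega)
                  · skip
                    exact allRangeF_sound _ _ (checkPointF_eq cert) 248775 25 chkP_248775 i (by omega) (by omega)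
            · skip
              rcases Nat.lt_or_ge i 248850 with h7 | h7
              · skip
                rcases Nat.lt_or_ge i 248825 with h8 | h8
                · skip
                  exact allRangeF_sound _ _ (checkPointF_eq cert) 248800 25 chkP_248800 i (by omega) (by omega)
                · skip
                  exact allRangeF_sound _ _ (checkPointF_eq cert) 248825 25 chkP_248825 i (by omega) (by omega)
              · skip
                rcases Nat.lt_or_ge i 248875 with h8 | h8
                · skip
                  exact allRangeF_sound _ _ (checkPointF_eq cert) 248850 25 chkP_248850 i (by omega) (by omega)
                · skip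
                  rcases Nat.lt_or_ge i 248900 with h9 | h9
                  · skip
                    exact allRangeF_sound _ _ (checkPointF_eq cert) 248875 25 chkP_248875 i (by omega) (by omega)
                  · skip
                    exact allRangeF_sound _ _ (checkPointF_eq cert) 248900 25 chkP_248900 i (by omega) (by omega)
        · skip
          rcases Nat.lt_or_ge i 249175 with h5 | h5
          · skip
            rcases Nat.lt_or_ge i 249050 with h6 | h6
            · skip
              rcases Nat.lt_or_ge i 248975 with h7 | h7
              · skip
                rcases Nat.lt_or_ge i 248950 with h8 | h8
                · skip
                  exact allRangeF_sound _ _ (checkPointF_eq cert) 248925 25 chkP_248925 i (by omega) (by omega)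
                · skip
                  exact allRangeF_sound _ _ (checkPointF_eq cert) 248950 25 chkP_248950 i (by omega) (by omega)
              · skip
                rcases Nat.lt_or_ge i 249000 with h8 | h8
                · skip
                  exact allRangeF_sound _ _ (checkPointF_eq cert) 248975 25 chkP_248975 i (by omega) (by omega)
                · skip
                  rcases Nat.lt_or_ge i 249025 with h9 | h9
                  · skip
                    exact allRangeF_sound _ _ (checkPointF_eq cert) 249000 25 chkP_249000 i (by omega) (by omega)
                  · skip
                    exact allRangeF_sound _ _ (checkPointF_eq cert) 249025 25 chkP_249025 i (by omega) (by omega)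
            · skip
              rcases Nat.lt_or_ge i 249100 with h7 | h7
              · skip
                rcases Nat.lt_or_ge i 249075 with h8 | h8
                · skip
                  exact allRangeF_sound _ _ (checkPointF_eq cert) 249050 25 chkP_249050 i (by omega) (by omega)
                · skip
                  exact allRangeF_sound _ _ (checkPointF_eq cert) 249075 25 chkP_249075 i (by omega) (by omega)
              · skip
                rcases Nat.lt_or_ge i 249125 with h8 | h8
                · skip
                  exact allRangeF_sound _ _ (checkPointF_eq cert) 249100 25 chkP_249100 i (by omega) (by omega)
                · skip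
                  rcases Nat.lt_or_ge i 249150 with h9 | h9
                  · skip
                    exact allRangeF_sound _ _ (checkPointF_eq cert) 249125 25 chkP_249125 i (by omega) (by omega)
                  · skip
                    exact allRangeF_sound _ _ (checkPointF_eq cert) 249150 25 chkP_249150 i (by omega) (by omega)
          · skip
            rcases Nat.lt_or_ge i 249300 with h6 | h6
            · skip
              rcases Nat.lt_or_ge i 249225 with h7 | h7
              · skip
                rcases Nat.lt_or_ge i 249200 with h8 | h8
                · skip
                  exact allRangeF_sound _ _ (checkPointF_eq cert) 249175 25 chkP_249175 i (by omega) (by omega)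
                · skip
                  exact allRangeF_sound _ _ (checkPointF_eq cert) 249200 25 chkP_249200 i (by omega) (by omega)
              · skip
                rcases Nat.lt_or_ge i 249250 with h8 | h8
                · skip
                  exact allRangeF_sound _ _ (checkPointF_eq cert) 249225 25 chkP_249225 i (by omega) (by omega)
                · skip
                  rcases Nat.lt_or_ge i 249275 with h9 | h9
                  · skip
                    exact allRangeF_sound _ _ (checkPointF_eq cert) 249250 25 chkP_249250 i (by omega) (by omega)
                  · skip
                    exact allRangeF_sound _ _ (checkPointF_eq cert) 249275 25 chkP_249275 i (by omega) (by omega)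
            · skip
              rcases Nat.lt_or_ge i 249350 with h7 | h7
              · skip
                rcases Nat.lt_or_ge i 249325 with h8 | h8
                · skip
                  exact allRangeF_sound _ _ (checkPointF_eq cert) 249300 25 chkP_249300 i (by omega) (by omega)
                · skip
                  exact allRangeF_sound _ _ (checkPointF_eq cert) 249325 25 chkP_249325 i (by omega) (by omega)
              · skip
                rcases Nat.lt_or_ge i 249375 with h8 | h8
                · skip
                  exact allRangeF_sound _ _ (checkPointF_eq cert) 249350 25 chkP_249350 i (by omega) (by omega)
                · skip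
                  rcases Nat.lt_or_ge i 249400 with h9 | h9
                  · skip
                    exact allRangeF_sound _ _ (checkPointF_eq cert) 249375 25 chkP_249375 i (by omega) (by omega)
                  · skip
                    exact allRangeF_sound _ _ (checkPointF_eq cert) 249400 25 chkP_249400 i (by omega) (by omega)
  · skip
    rcases Nat.lt_or_ge i 251350 with h2 | h2
    · skip
      rcases Nat.lt_or_ge i 250375 with h3 | h3
      · skip
        rcases Nat.lt_or_ge i 249900 with h4 | h4
        · skip
          rcases Nat.lt_or_ge i 249650 with h5 | h5
          · skip
            rcases Nat.lt_or_ge i 249525 with h6 | h6
            · skip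
              rcases Nat.lt_or_ge i 249475 with h7 | h7
              · skip
                rcases Nat.lt_or_ge i 249450 with h8 | h8
                · skip
                  exact allRangeF_sound _ _ (checkPointF_eq cert) 249425 25 chkP_249425 i (by omega) (by omega)
                · skip
                  exact allRangeF_sound _ _ (checkPointF_eq cert) 249450 25 chkP_249450 i (by omega) (by omega)
              · skip
                rcases Nat.lt_or_ge i 249500 with h8 | h8
                · skip
                  exact allRangeF_sound _ _ (checkPointF_eq cert) 249475 25 chkP_249475 i (by omega) (by omega)
                · skip
                  exact allRangeF_sound _ _ (checkPointF_eq cert) 249500 25 chkP_249500 i (by omega) (by omega)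
            · skip
              rcases Nat.lt_or_ge i 249575 with h7 | h7
              · skip
                rcases Nat.lt_or_ge i 249550 with h8 | h8
                · skip
                  exact allRangeF_sound _ _ (checkPointF_eq cert) 249525 25 chkP_249525 i (by omega) (by omega)
                · skip
                  exact allRangeF_sound _ _ (checkPointF_eq cert) 249550 25 chkP_249550 i (by omega) (by omega)
              · skip
                rcases Nat.lt_or_ge i 249600 with h8 | h8
                · skip
                  exact allRangeF_sound _ _ (checkPointF_eq cert) 249575 25 chkP_249575 i (by omega) (by omega)
                · skip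
                  rcases Nat.lt_or_ge i 249625 with h9 | h9
                  · skip
                    exact allRangeF_sound _ _ (checkPointF_eq cert) 249600 25 chkP_249600 i (by omega) (by omega)
                  · skip
                    exact allRangeF_sound _ _ (checkPointF_eq cert) 249625 25 chkP_249625 i (by omega) (by omega)
          · skip
            rcases Nat.lt_or_ge i 249775 with h6 | h6
            · skip
              rcases Nat.lt_or_ge i 249700 with h7 | h7
              · skip
                rcases Nat.lt_or_ge i 249675 with h8 | h8
                · skip
                  exact allRangeF_sound _ _ (checkPointF_eq cert) 249650 25 chkP_249650 i (by omega) (by omega)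
                · skip
                  exact allRangeF_sound _ _ (checkPointF_eq cert) 249675 25 chkP_249675 i (by omega) (by omega)
              · skip
                rcases Nat.lt_or_ge i 249725 with h8 | h8
                · skip
                  exact allRangeF_sound _ _ (checkPointF_eq cert) 249700 25 chkP_249700 i (by omega) (by omega)
                · skip
                  rcases Nat.lt_or_ge i 249750 with h9 | h9
                  · skip
                    exact allRangeF_sound _ _ (checkPointF_eq cert) 249725 25 chkP_249725 i (by omega) (by omega)
                  · skip
                    exact allRangeF_sound _ _ (checkPointF_eq cert) 249750 25 chkP_249750 i (by omega) (by omega)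
            · skip
              rcases Nat.lt_or_ge i 249825 with h7 | h7
              · skip
                rcases Nat.lt_or_ge i 249800 with h8 | h8
                · skip
                  exact allRangeF_sound _ _ (checkPointF_eq cert) 249775 25 chkP_249775 i (by omega) (by omega)
                · skip
                  exact allRangeF_sound _ _ (checkPointF_eq cert) 249800 25 chkP_249800 i (by omega) (by omega)
              · skip
                rcases Nat.lt_or_ge i 249850 with h8 | h8
                · skip
                  exact allRangeF_sound _ _ (checkPointF_eq cert) 249825 25 chkP_249825 i (by omega) (by omega)
                · skip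
                  rcases Nat.lt_or_ge i 249875 with h9 | h9
                  · skip
                    exact allRangeF_sound _ _ (checkPointF_eq cert) 249850 25 chkP_249850 i (by omega) (by omega)
                  · skip
                    exact allRangeF_sound _ _ (checkPointF_eq cert) 249875 25 chkP_249875 i (by omega) (by omega)
        · skip
          rcases Nat.lt_or_ge i 250125 with h5 | h5
          · skip
            rcases Nat.lt_or_ge i 250000 with h6 | h6
            · skip
              rcases Nat.lt_or_ge i 249950 with h7 | h7
              · skip
                rcases Nat.lt_or_ge i 249925 with h8 | h8
                · skip
                  exact allRangeF_sound _ _ (checkPointF_eq cert) 249900 25 chkP_249900 i (by omega) (by omega)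
                · skip
                  exact allRangeF_sound _ _ (checkPointF_eq cert) 249925 25 chkP_249925 i (by omega) (by omega)
              · skip
                rcases Nat.lt_or_ge i 249975 with h8 | h8
                · skip
                  exact allRangeF_sound _ _ (checkPointF_eq cert) 249950 25 chkP_249950 i (by omega) (by omega)
                · skip
                  exact allRangeF_sound _ _ (checkPointF_eq cert) 249975 25 chkP_249975 i (by omega) (by omega)
            · skip
              rcases Nat.lt_or_ge i 250050 with h7 | h7
              · skip
                rcases Nat.lt_or_ge i 250025 with h8 | h8
                · skip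
                  exact allRangeF_sound _ _ (checkPointF_eq cert) 250000 25 chkP_250000 i (by omega) (by omega)
                · skip
                  exact allRangeF_sound _ _ (checkPointF_eq cert) 250025 25 chkP_250025 i (by omega) (by omega)
              · skip
                rcases Nat.lt_or_ge i 250075 with h8 | h8
                · skip
                  exact allRangeF_sound _ _ (checkPointF_eq cert) 250050 25 chkP_250050 i (by omega) (by omega)
                · skip
                  rcases Nat.lt_or_ge i 250100 with h9 | h9
                  · skip
                    exact allRangeF_sound _ _ (checkPointF_eq cert) 250075 25 chkP_250075 i (by omega) (by omega)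
                  · skip
                    exact allRangeF_sound _ _ (checkPointF_eq cert) 250100 25 chkP_250100 i (by omega) (by omega)
          · skip
            rcases Nat.lt_or_ge i 250250 with h6 | h6
            · skip
              rcases Nat.lt_or_ge i 250175 with h7 | h7
              · skip
                rcases Nat.lt_or_ge i 250150 with h8 | h8
                · skip
                  exact allRangeF_sound _ _ (checkPointF_eq cert) 250125 25 chkP_250125 i (by omega) (by omega)
                · skip
                  exact allRangeF_sound _ _ (checkPointF_eq cert) 250150 25 chkP_250150 i (by omega) (by omega)
              · skip
                rcases Nat.lt_or_ge i 250200 with h8 | h8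
                · skip
                  exact allRangeF_sound _ _ (checkPointF_eq cert) 250175 25 chkP_250175 i (by omega) (by omega)
                · skip
                  rcases Nat.lt_or_ge i 250225 with h9 | h9
                  · skip
                    exact allRangeF_sound _ _ (checkPointF_eq cert) 250200 25 chkP_250200 i (by omega) (by omega)
                  · skip
                    exact allRangeF_sound _ _ (checkPointF_eq cert) 250225 25 chkP_250225 i (by omega) (by omega)
            · skip
              rcases Nat.lt_or_ge i 250300 with h7 | h7
              · skip
                rcases Nat.lt_or_ge i 250275 with h8 | h8
                · skip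
                  exact allRangeF_sound _ _ (checkPointF_eq cert) 250250 25 chkP_250250 i (by omega) (by omega)
                · skip
                  exact allRangeF_sound _ _ (checkPointF_eq cert) 250275 25 chkP_250275 i (by omega) (by omega)
              · skip
                rcases Nat.lt_or_ge i 250325 with h8 | h8
                · skip
                  exact allRangeF_sound _ _ (checkPointF_eq cert) 250300 25 chkP_250300 i (by omega) (by omega)
                · skip
                  rcases Nat.lt_or_ge i 250350 with h9 | h9
                  · skip
                    exact allRangeF_sound _ _ (checkPointF_eq cert) 250325 25 chkP_250325 i (by omega) (by omega)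
                  · skip
                    exact allRangeF_sound _ _ (checkPointF_eq cert) 250350 25 chkP_250350 i (by omega) (by omega)
      · skip
        rcases Nat.lt_or_ge i 250850 with h4 | h4
        · skip
          rcases Nat.lt_or_ge i 250600 with h5 | h5
          · skip
            rcases Nat.lt_or_ge i 250475 with h6 | h6
            · skip
              rcases Nat.lt_or_ge i 250425 with h7 | h7
              · skip
                rcases Nat.lt_or_ge i 250400 with h8 | h8
                · skip
                  exact allRangeF_sound _ _ (checkPointF_eq cert) 250375 25 chkP_250375 i (by omega) (by omega)
                · skip
                  exact allRangeF_sound _ _ (checkPointF_eq cert) 250400 25 chkP_250400 i (by omega) (by omega)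
              · skip
                rcases Nat.lt_or_ge i 250450 with h8 | h8
                · skip
                  exact allRangeF_sound _ _ (checkPointF_eq cert) 250425 25 chkP_250425 i (by omega) (by omega)
                · skip
                  exact allRangeF_sound _ _ (checkPointF_eq cert) 250450 25 chkP_250450 i (by omega) (by omega)
            · skip
              rcases Nat.lt_or_ge i 250525 with h7 | h7
              · skip
                rcases Nat.lt_or_ge i 250500 with h8 | h8
                · skip
                  exact allRangeF_sound _ _ (checkPointF_eq cert) 250475 25 chkP_250475 i (by omega) (by omega)
                · skip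
                  exact allRangeF_sound _ _ (checkPointF_eq cert) 250500 25 chkP_250500 i (by omega) (by omega)
              · skip
                rcases Nat.lt_or_ge i 250550 with h8 | h8
                · skip
                  exact allRangeF_sound _ _ (checkPointF_eq cert) 250525 25 chkP_250525 i (by omega) (by omega)
                · skip
                  rcases Nat.lt_or_ge i 250575 with h9 | h9
                  · skip
                    exact allRangeF_sound _ _ (checkPointF_eq cert) 250550 25 chkP_250550 i (by omega) (by omega)
                  · skip
                    exact allRangeF_sound _ _ (checkPointF_eq cert) 250575 25 chkP_250575 i (by omega) (by omega)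
          · skip
            rcases Nat.lt_or_ge i 250725 with h6 | h6
            · skip
              rcases Nat.lt_or_ge i 250650 with h7 | h7
              · skip
                rcases Nat.lt_or_ge i 250625 with h8 | h8
                · skip
                  exact allRangeF_sound _ _ (checkPointF_eq cert) 250600 25 chkP_250600 i (by omega) (by omega)
                · skip
                  exact allRangeF_sound _ _ (checkPointF_eq cert) 250625 25 chkP_250625 i (by omega) (by omega)
              · skip
                rcases Nat.lt_or_ge i 250675 with h8 | h8
                · skip
                  exact allRangeF_sound _ _ (checkPointF_eq cert) 250650 25 chkP_250650 i (by omega) (by omega)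
                · skip
                  rcases Nat.lt_or_ge i 250700 with h9 | h9
                  · skip
                    exact allRangeF_sound _ _ (checkPointF_eq cert) 250675 25 chkP_250675 i (by omega) (by omega)
                  · skip
                    exact allRangeF_sound _ _ (checkPointF_eq cert) 250700 25 chkP_250700 i (by omega) (by omega)
            · skip
              rcases Nat.lt_or_ge i 250775 with h7 | h7
              · skip
                rcases Nat.lt_or_ge i 250750 with h8 | h8
                · skip
                  exact allRangeF_sound _ _ (checkPointF_eq cert) 250725 25 chkP_250725 i (by omega) (by omega)
                · skip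
                  exact allRangeF_sound _ _ (checkPointF_eq cert) 250750 25 chkP_250750 i (by omega) (by omega)
              · skip
                rcases Nat.lt_or_ge i 250800 with h8 | h8
                · skip
                  exact allRangeF_sound _ _ (checkPointF_eq cert) 250775 25 chkP_250775 i (by omega) (by omega)
                · skip
                  rcases Nat.lt_or_ge i 250825 with h9 | h9
                  · skip
                    exact allRangeF_sound _ _ (checkPointF_eq cert) 250800 25 chkP_250800 i (by omega) (by omega)
                  · skip
                    exact allRangeF_sound _ _ (checkPointF_eq cert) 250825 25 chkP_250825 i (by omega) (by omega)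
        · skip
          rcases Nat.lt_or_ge i 251100 with h5 | h5
          · skip
            rcases Nat.lt_or_ge i 250975 with h6 | h6
            · skip
              rcases Nat.lt_or_ge i 250900 with h7 | h7
              · skip
                rcases Nat.lt_or_ge i 250875 with h8 | h8
                · skip
                  exact allRangeF_sound _ _ (checkPointF_eq cert) 250850 25 chkP_250850 i (by omega) (by omega)
                · skip
                  exact allRangeF_sound _ _ (checkPointF_eq cert) 250875 25 chkP_250875 i (by omega) (by omega)
              · skip
                rcases Nat.lt_or_ge i 250925 with h8 | h8
                · skip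
                  exact allRangeF_sound _ _ (checkPointF_eq cert) 250900 25 chkP_250900 i (by omega) (by omega)
                · skip
                  rcases Nat.lt_or_ge i 250950 with h9 | h9
                  · skip
                    exact allRangeF_sound _ _ (checkPointF_eq cert) 250925 25 chkP_250925 i (by omega) (by omega)
                  · skip
                    exact allRangeF_sound _ _ (checkPointF_eq cert) 250950 25 chkP_250950 i (by omega) (by omega)
            · skip
              rcases Nat.lt_or_ge i 251025 with h7 | h7
              · skip
                rcases Nat.lt_or_ge i 251000 with h8 | h8
                · skip
                  exact allRangeF_sound _ _ (checkPointF_eq cert) 250975 25 chkP_250975 i (by omega) (by omega)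
                · skip
                  exact allRangeF_sound _ _ (checkPointF_eq cert) 251000 25 chkP_251000 i (by omega) (by omega)
              · skip
                rcases Nat.lt_or_ge i 251050 with h8 | h8
                · skip
                  exact allRangeF_sound _ _ (checkPointF_eq cert) 251025 25 chkP_251025 i (by omega) (by omega)
                · skip
                  rcases Nat.lt_or_ge i 251075 with h9 | h9
                  · skip
                    exact allRangeF_sound _ _ (checkPointF_eq cert) 251050 25 chkP_251050 i (by omega) (by omega)
                  · skip
                    exact allRangeF_sound _ _ (checkPointF_eq cert) 251075 25 chkP_251075 i (by omega) (by omega)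
          · skip
            rcases Nat.lt_or_ge i 251225 with h6 | h6
            · skip
              rcases Nat.lt_or_ge i 251150 with h7 | h7
              · skip
                rcases Nat.lt_or_ge i 251125 with h8 | h8
                · skip
                  exact allRangeF_sound _ _ (checkPointF_eq cert) 251100 25 chkP_251100 i (by omega) (by omega)
                · skip
                  exact allRangeF_sound _ _ (checkPointF_eq cert) 251125 25 chkP_251125 i (by omega) (by omega)
              · skip
                rcases Nat.lt_or_ge i 251175 with h8 | h8
                · skip
                  exact allRangeF_sound _ _ (checkPointF_eq cert) 251150 25 chkP_251150 i (by omega) (by omega)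
                · skip
                  rcases Nat.lt_or_ge i 251200 with h9 | h9
                  · skip
                    exact allRangeF_sound _ _ (checkPointF_eq cert) 251175 25 chkP_251175 i (by omega) (by omega)
                  · skip
                    exact allRangeF_sound _ _ (checkPointF_eq cert) 251200 25 chkP_251200 i (by omega) (by omega)
            · skip
              rcases Nat.lt_or_ge i 251275 with h7 | h7
              · skip
                rcases Nat.lt_or_ge i 251250 with h8 | h8
                · skip
                  exact allRangeF_sound _ _ (checkPointF_eq cert) 251225 25 chkP_251225 i (by omega) (by omega)
                · skip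
                  exact allRangeF_sound _ _ (checkPointF_eq cert) 251250 25 chkP_251250 i (by omega) (by omega)
              · skip
                rcases Nat.lt_or_ge i 251300 with h8 | h8
                · skip
                  exact allRangeF_sound _ _ (checkPointF_eq cert) 251275 25 chkP_251275 i (by omega) (by omega)
                · skip
                  rcases Nat.lt_or_ge i 251325 with h9 | h9
                  · skip
                    exact allRangeF_sound _ _ (checkPointF_eq cert) 251300 25 chkP_251300 i (by omega) (by omega)
                  · skip
                    exact allRangeF_sound _ _ (checkPointF_eq cert) 251325 25 chkP_251325 i (by omega) (by omega)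
    · skip
      rcases Nat.lt_or_ge i 252300 with h3 | h3
      · skip
        rcases Nat.lt_or_ge i 251825 with h4 | h4
        · skip
          rcases Nat.lt_or_ge i 251575 with h5 | h5
          · skip
            rcases Nat.lt_or_ge i 251450 with h6 | h6
            · skip
              rcases Nat.lt_or_ge i 251400 with h7 | h7
              · skip
                rcases Nat.lt_or_ge i 251375 with h8 | h8
                · skip
                  exact allRangeF_sound _ _ (checkPointF_eq cert) 251350 25 chkP_251350 i (by omega) (by omega)
                · skip
                  exact allRangeF_sound _ _ (checkPointF_eq cert) 251375 25 chkP_251375 i (by omega) (by omega)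
              · skip
                rcases Nat.lt_or_ge i 251425 with h8 | h8
                · skip
                  exact allRangeF_sound _ _ (checkPointF_eq cert) 251400 25 chkP_251400 i (by omega) (by omega)
                · skip
                  exact allRangeF_sound _ _ (checkPointF_eq cert) 251425 25 chkP_251425 i (by omega) (by omega)
            · skip
              rcases Nat.lt_or_ge i 251500 with h7 | h7
              · skip
                rcases Nat.lt_or_ge i 251475 with h8 | h8
                · skip
                  exact allRangeF_sound _ _ (checkPointF_eq cert) 251450 25 chkP_251450 i (by omega) (by omega)
                · skip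
                  exact allRangeF_sound _ _ (checkPointF_eq cert) 251475 25 chkP_251475 i (by omega) (by omega)
              · skip
                rcases Nat.lt_or_ge i 251525 with h8 | h8
                · skip
                  exact allRangeF_sound _ _ (checkPointF_eq cert) 251500 25 chkP_251500 i (by omega) (by omega)
                · skip
                  rcases Nat.lt_or_ge i 251550 with h9 | h9
                  · skip
                    exact allRangeF_sound _ _ (checkPointF_eq cert) 251525 25 chkP_251525 i (by omega) (by omega)
                  · skip
                    exact allRangeF_sound _ _ (checkPointF_eq cert) 251550 25 chkP_251550 i (by omega) (by omega)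
          · skip
            rcases Nat.lt_or_ge i 251700 with h6 | h6
            · skip
              rcases Nat.lt_or_ge i 251625 with h7 | h7
              · skip
                rcases Nat.lt_or_ge i 251600 with h8 | h8
                · skip
                  exact allRangeF_sound _ _ (checkPointF_eq cert) 251575 25 chkP_251575 i (by omega) (by omega)
                · skip
                  exact allRangeF_sound _ _ (checkPointF_eq cert) 251600 25 chkP_251600 i (by omega) (by omega)
              · skip
                rcases Nat.lt_or_ge i 251650 with h8 | h8
                · skip
                  exact allRangeF_sound _ _ (checkPointF_eq cert) 251625 25 chkP_251625 i (by omega) (by omega)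
                · skip
                  rcases Nat.lt_or_ge i 251675 with h9 | h9
                  · skip
                    exact allRangeF_sound _ _ (checkPointF_eq cert) 251650 25 chkP_251650 i (by omega) (by omega)
                  · skip
                    exact allRangeF_sound _ _ (checkPointF_eq cert) 251675 25 chkP_251675 i (by omega) (by omega)
            · skip
              rcases Nat.lt_or_ge i 251750 with h7 | h7
              · skip
                rcases Nat.lt_or_ge i 251725 with h8 | h8
                · skip
                  exact allRangeF_sound _ _ (checkPointF_eq cert) 251700 25 chkP_251700 i (by omega) (by omega)
                · skip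
                  exact allRangeF_sound _ _ (checkPointF_eq cert) 251725 25 chkP_251725 i (by omega) (by omega)
              · skip
                rcases Nat.lt_or_ge i 251775 with h8 | h8
                · skip
                  exact allRangeF_sound _ _ (checkPointF_eq cert) 251750 25 chkP_251750 i (by omega) (by omega)
                · skip
                  rcases Nat.lt_or_ge i 251800 with h9 | h9
                  · skip
                    exact allRangeF_sound _ _ (checkPointF_eq cert) 251775 25 chkP_251775 i (by omega) (by omega)
                  · skip
                    exact allRangeF_sound _ _ (checkPointF_eq cert) 251800 25 chkP_251800 i (by omega) (by omega)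
        · skip
          rcases Nat.lt_or_ge i 252050 with h5 | h5
          · skip
            rcases Nat.lt_or_ge i 251925 with h6 | h6
            · skip
              rcases Nat.lt_or_ge i 251875 with h7 | h7
              · skip
                rcases Nat.lt_or_ge i 251850 with h8 | h8
                · skip
                  exact allRangeF_sound _ _ (checkPointF_eq cert) 251825 25 chkP_251825 i (by omega) (by omega)
                · skip
                  exact allRangeF_sound _ _ (checkPointF_eq cert) 251850 25 chkP_251850 i (by omega) (by omega)
              · skip
                rcases Nat.lt_or_ge i 251900 with h8 | h8
                · skip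
                  exact allRangeF_sound _ _ (checkPointF_eq cert) 251875 25 chkP_251875 i (by omega) (by omega)
                · skip
                  exact allRangeF_sound _ _ (checkPointF_eq cert) 251900 25 chkP_251900 i (by omega) (by omega)
            · skip
              rcases Nat.lt_or_ge i 251975 with h7 | h7
              · skip
                rcases Nat.lt_or_ge i 251950 with h8 | h8
                · skip
                  exact allRangeF_sound _ _ (checkPointF_eq cert) 251925 25 chkP_251925 i (by omega) (by omega)
                · skip
                  exact allRangeF_sound _ _ (checkPointF_eq cert) 251950 25 chkP_251950 i (by omega) (by omega)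
              · skip
                rcases Nat.lt_or_ge i 252000 with h8 | h8
                · skip
                  exact allRangeF_sound _ _ (checkPointF_eq cert) 251975 25 chkP_251975 i (by omega) (by omega)
                · skip
                  rcases Nat.lt_or_ge i 252025 with h9 | h9
                  · skip
                    exact allRangeF_sound _ _ (checkPointF_eq cert) 252000 25 chkP_252000 i (by omega) (by omega)
                  · skip
                    exact allRangeF_sound _ _ (checkPointF_eq cert) 252025 25 chkP_252025 i (by omega) (by omega)
          · skip
            rcases Nat.lt_or_ge i 252175 with h6 | h6
            · skip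
              rcases Nat.lt_or_ge i 252100 with h7 | h7
              · skip
                rcases Nat.lt_or_ge i 252075 with h8 | h8
                · skip
                  exact allRangeF_sound _ _ (checkPointF_eq cert) 252050 25 chkP_252050 i (by omega) (by omega)
                · skip
                  exact allRangeF_sound _ _ (checkPointF_eq cert) 252075 25 chkP_252075 i (by omega) (by omega)
              · skip
                rcases Nat.lt_or_ge i 252125 with h8 | h8
                · skip
                  exact allRangeF_sound _ _ (checkPointF_eq cert) 252100 25 chkP_252100 i (by omega) (by omega)
                · skip
                  rcases Nat.lt_or_ge i 252150 with h9 | h9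
                  · skip
                    exact allRangeF_sound _ _ (checkPointF_eq cert) 252125 25 chkP_252125 i (by omega) (by omega)
                  · skip
                    exact allRangeF_sound _ _ (checkPointF_eq cert) 252150 25 chkP_252150 i (by omega) (by omega)
            · skip
              rcases Nat.lt_or_ge i 252225 with h7 | h7
              · skip
                rcases Nat.lt_or_ge i 252200 with h8 | h8
                · skip
                  exact allRangeF_sound _ _ (checkPointF_eq cert) 252175 25 chkP_252175 i (by omega) (by omega)
                · skip
                  exact allRangeF_sound _ _ (checkPointF_eq cert) 252200 25 chkP_252200 i (by omega) (by omega)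
              · skip
                rcases Nat.lt_or_ge i 252250 with h8 | h8
                · skip
                  exact allRangeF_sound _ _ (checkPointF_eq cert) 252225 25 chkP_252225 i (by omega) (by omega)
                · skip
                  rcases Nat.lt_or_ge i 252275 with h9 | h9
                  · skip
                    exact allRangeF_sound _ _ (checkPointF_eq cert) 252250 25 chkP_252250 i (by omega) (by omega)
                  · skip
                    exact allRangeF_sound _ _ (checkPointF_eq cert) 252275 25 chkP_252275 i (by omega) (by omega)
      · skip
        rcases Nat.lt_or_ge i 252775 with h4 | h4
        · skip
          rcases Nat.lt_or_ge i 252525 with h5 | h5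
          · skip
            rcases Nat.lt_or_ge i 252400 with h6 | h6
            · skip
              rcases Nat.lt_or_ge i 252350 with h7 | h7
              · skip
                rcases Nat.lt_or_ge i 252325 with h8 | h8
                · skip
                  exact allRangeF_sound _ _ (checkPointF_eq cert) 252300 25 chkP_252300 i (by omega) (by omega)
                · skip
                  exact allRangeF_sound _ _ (checkPointF_eq cert) 252325 25 chkP_252325 i (by omega) (by omega)
              · skip
                rcases Nat.lt_or_ge i 252375 with h8 | h8
                · skip
                  exact allRangeF_sound _ _ (checkPointF_eq cert) 252350 25 chkP_252350 i (by omega) (by omega)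
                · skip
                  exact allRangeF_sound _ _ (checkPointF_eq cert) 252375 25 chkP_252375 i (by omega) (by omega)
            · skip
              rcases Nat.lt_or_ge i 252450 with h7 | h7
              · skip
                rcases Nat.lt_or_ge i 252425 with h8 | h8
                · skip
                  exact allRangeF_sound _ _ (checkPointF_eq cert) 252400 25 chkP_252400 i (by omega) (by omega)
                · skip
                  exact allRangeF_sound _ _ (checkPointF_eq cert) 252425 25 chkP_252425 i (by omega) (by omega)
              · skip
                rcases Nat.lt_or_ge i 252475 with h8 | h8
                · skip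
                  exact allRangeF_sound _ _ (checkPointF_eq cert) 252450 25 chkP_252450 i (by omega) (by omega)
                · skip
                  rcases Nat.lt_or_ge i 252500 with h9 | h9
                  · skip
                    exact allRangeF_sound _ _ (checkPointF_eq cert) 252475 25 chkP_252475 i (by omega) (by omega)
                  · skip
                    exact allRangeF_sound _ _ (checkPointF_eq cert) 252500 25 chkP_252500 i (by omega) (by omega)
          · skip
            rcases Nat.lt_or_ge i 252650 with h6 | h6
            · skip
              rcases Nat.lt_or_ge i 252575 with h7 | h7
              · skip
                rcases Nat.lt_or_ge i 252550 with h8 | h8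
                · skip
                  exact allRangeF_sound _ _ (checkPointF_eq cert) 252525 25 chkP_252525 i (by omega) (by omega)
                · skip
                  exact allRangeF_sound _ _ (checkPointF_eq cert) 252550 25 chkP_252550 i (by omega) (by omega)
              · skip
                rcases Nat.lt_or_ge i 252600 with h8 | h8
                · skip
                  exact allRangeF_sound _ _ (checkPointF_eq cert) 252575 25 chkP_252575 i (by omega) (by omega)
                · skip
                  rcases Nat.lt_or_ge i 252625 with h9 | h9
                  · skip
                    exact allRangeF_sound _ _ (checkPointF_eq cert) 252600 25 chkP_252600 i (by omega) (by omega)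
                  · skip
                    exact allRangeF_sound _ _ (checkPointF_eq cert) 252625 25 chkP_252625 i (by omega) (by omega)
            · skip
              rcases Nat.lt_or_ge i 252700 with h7 | h7
              · skip
                rcases Nat.lt_or_ge i 252675 with h8 | h8
                · skip
                  exact allRangeF_sound _ _ (checkPointF_eq cert) 252650 25 chkP_252650 i (by omega) (by omega)
                · skip
                  exact allRangeF_sound _ _ (checkPointF_eq cert) 252675 25 chkP_252675 i (by omega) (by omega)
              · skip
                rcases Nat.lt_or_ge i 252725 with h8 | h8
                · skip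
                  exact allRangeF_sound _ _ (checkPointF_eq cert) 252700 25 chkP_252700 i (by omega) (by omega)
                · skip
                  rcases Nat.lt_or_ge i 252750 with h9 | h9
                  · skip
                    exact allRangeF_sound _ _ (checkPointF_eq cert) 252725 25 chkP_252725 i (by omega) (by omega)
                  · skip
                    exact allRangeF_sound _ _ (checkPointF_eq cert) 252750 25 chkP_252750 i (by omega) (by omega)
        · skip
          rcases Nat.lt_or_ge i 253025 with h5 | h5
          · skip
            rcases Nat.lt_or_ge i 252900 with h6 | h6
            · skip
              rcases Nat.lt_or_ge i 252825 with h7 | h7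
              · skip
                rcases Nat.lt_or_ge i 252800 with h8 | h8
                · skip
                  exact allRangeF_sound _ _ (checkPointF_eq cert) 252775 25 chkP_252775 i (by omega) (by omega)
                · skip
                  exact allRangeF_sound _ _ (checkPointF_eq cert) 252800 25 chkP_252800 i (by omega) (by omega)
              · skip
                rcases Nat.lt_or_ge i 252850 with h8 | h8
                · skip
                  exact allRangeF_sound _ _ (checkPointF_eq cert) 252825 25 chkP_252825 i (by omega) (by omega)
                · skip
                  rcases Nat.lt_or_ge i 252875 with h9 | h9
                  · skip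
                    exact allRangeF_sound _ _ (checkPointF_eq cert) 252850 25 chkP_252850 i (by omega) (by omega)
                  · skip
                    exact allRangeF_sound _ _ (checkPointF_eq cert) 252875 25 chkP_252875 i (by omega) (by omega)
            · skip
              rcases Nat.lt_or_ge i 252950 with h7 | h7
              · skip
                rcases Nat.lt_or_ge i 252925 with h8 | h8
                · skip
                  exact allRangeF_sound _ _ (checkPointF_eq cert) 252900 25 chkP_252900 i (by omega) (by omega)
                · skip
                  exact allRangeF_sound _ _ (checkPointF_eq cert) 252925 25 chkP_252925 i (by omega) (by omega)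
              · skip
                rcases Nat.lt_or_ge i 252975 with h8 | h8
                · skip
                  exact allRangeF_sound _ _ (checkPointF_eq cert) 252950 25 chkP_252950 i (by omega) (by omega)
                · skip
                  rcases Nat.lt_or_ge i 253000 with h9 | h9
                  · skip
                    exact allRangeF_sound _ _ (checkPointF_eq cert) 252975 25 chkP_252975 i (by omega) (by omega)
                  · skip
                    exact allRangeF_sound _ _ (checkPointF_eq cert) 253000 25 chkP_253000 i (by omega) (by omega)
          · skip
            rcases Nat.lt_or_ge i 253150 with h6 | h6
            · skip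
              rcases Nat.lt_or_ge i 253075 with h7 | h7
              · skip
                rcases Nat.lt_or_ge i 253050 with h8 | h8
                · skip
                  exact allRangeF_sound _ _ (checkPointF_eq cert) 253025 25 chkP_253025 i (by omega) (by omega)
                · skip
                  exact allRangeF_sound _ _ (checkPointF_eq cert) 253050 25 chkP_253050 i (by omega) (by omega)
              · skip
                rcases Nat.lt_or_ge i 253100 with h8 | h8
                · skip
                  exact allRangeF_sound _ _ (checkPointF_eq cert) 253075 25 chkP_253075 i (by omega) (by omega)
                · skip
                  rcases Nat.lt_or_ge i 253125 with h9 | h9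
                  · skip
                    exact allRangeF_sound _ _ (checkPointF_eq cert) 253100 25 chkP_253100 i (by omega) (by omega)
                  · skip
                    exact allRangeF_sound _ _ (checkPointF_eq cert) 253125 25 chkP_253125 i (by omega) (by omega)
            · skip
              rcases Nat.lt_or_ge i 253200 with h7 | h7
              · skip
                rcases Nat.lt_or_ge i 253175 with h8 | h8
                · skip
                  exact allRangeF_sound _ _ (checkPointF_eq cert) 253150 25 chkP_253150 i (by omega) (by omega)
                · skip
                  exact allRangeF_sound _ _ (checkPointF_eq cert) 253175 25 chkP_253175 i (by omega) (by omega)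
              · skip
                rcases Nat.lt_or_ge i 253225 with h8 | h8
                · skip
                  exact allRangeF_sound _ _ (checkPointF_eq cert) 253200 25 chkP_253200 i (by omega) (by omega)
                · skip
                  rcases Nat.lt_or_ge i 253250 with h9 | h9
                  · skip
                    exact allRangeF_sound _ _ (checkPointF_eq cert) 253225 25 chkP_253225 i (by omega) (by omega)
                  · skip
                    exact allRangeF_sound _ _ (checkPointF_eq cert) 253250 25 chkP_253250 i (by omega) (by omega)

end Cfsg.Agent.Lib.Helper28.Fi24Data
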