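import Cfsg.Agent.Lib.Helper28.Fi24Data
import Cfsg.Agent.Lib.Helper28.TCFastB

set_option autoImplicit false
set_option maxRecDepth 1000000
set_option linter.all false
set_option Elab.async false

namespace Cfsg.Agent.Lib.Helper28.Fi24Data

open Cfsg.Agent.Lib.Helper28B

theorem chkP_253275 : allRangeF (checkPointF cert) (nat_lit 253275) (nat_lit 25) = true := by decide +kernel
theorem chkP_253300 : allRangeF (checkPointF cert) (nat_lit 253300) (nat_lit 25) = true := by decide +kernel
theorem chkP_253325 : allRangeF (checkPointF cert) (nat_lit 253325) (nat_lit 25) = true := by decide +kernel
theorem chkP_253350 : allRangeF (checkPointF cert) (nat_lit 253350) (nat_lit 25) = true := by decide +kernel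
theorem chkP_253375 : allRangeF (checkPointF cert) (nat_lit 253375) (nat_lit 25) = true := by decide +kernel
theorem chkP_253400 : allRangeF (checkPointF cert) (nat_lit 253400) (nat_lit 25) = true := by decide +kernel
theorem chkP_253425 : allRangeF (checkPointF cert) (nat_lit 253425) (nat_lit 25) = true := by decide +kernel
theorem chkP_253450 : allRangeF (checkPointF cert) (nat_lit 253450) (nat_lit 25) = true := by decide +kernel
theorem chkP_253475 : allRangeF (checkPointF cert) (nat_lit 253475) (nat_lit 25) = true := by decide +kernel
theorem chkP_253500 : allRangeF (checkPointF cert) (nat_lit 253500) (nat_lit 25) = true := by decide +kernel
theorem chkP_253525 : allRangeF (checkPointF cert) (nat_lit 253525) (nat_lit 25) = true := by decide +kernel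
theorem chkP_253550 : allRangeF (checkPointF cert) (nat_lit 253550) (nat_lit 25) = true := by decide +kernel
theorem chkP_253575 : allRangeF (checkPointF cert) (nat_lit 253575) (nat_lit 25) = true := by decide +kernel
theorem chkP_253600 : allRangeF (checkPointF cert) (nat_lit 253600) (nat_lit 25) = true := by decide +kernel
theorem chkP_253625 : allRangeF (checkPointF cert) (nat_lit 253625) (nat_lit 25) = true := by decide +kernel
theorem chkP_253650 : allRangeF (checkPointF cert) (nat_lit 253650) (nat_lit 25) = true := by decide +kernel
theorem chkP_253675 : allRangeF (checkPointF cert) (nat_lit 253675) (nat_lit 25) = true := by decide +kernel
theorem chkP_253700 : allRangeF (checkPointF cert) (nat_lit 253700) (nat_lit 25) = true := by decide +kernel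
theorem chkP_253725 : allRangeF (checkPointF cert) (nat_lit 253725) (nat_lit 25) = true := by decide +kernel
theorem chkP_253750 : allRangeF (checkPointF cert) (nat_lit 253750) (nat_lit 25) = true := by decide +kernel
theorem chkP_253775 : allRangeF (checkPointF cert) (nat_lit 253775) (nat_lit 25) = true := by decide +kernel
theorem chkP_253800 : allRangeF (checkPointF cert) (nat_lit 253800) (nat_lit 25) = true := by decide +kernel
theorem chkP_253825 : allRangeF (checkPointF cert) (nat_lit 253825) (nat_lit 25) = true := by decide +kernel
theorem chkP_253850 : allRangeF (checkPointF cert) (nat_lit 253850) (nat_lit 25) = true := by decide +kernel
theorem chkP_253875 : allRangeF (checkPointF cert) (nat_lit 253875) (nat_lit 25) = true := by decide +kernel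
theorem chkP_253900 : allRangeF (checkPointF cert) (nat_lit 253900) (nat_lit 25) = true := by decide +kernel
theorem chkP_253925 : allRangeF (checkPointF cert) (nat_lit 253925) (nat_lit 25) = true := by decide +kernel
theorem chkP_253950 : allRangeF (checkPointF cert) (nat_lit 253950) (nat_lit 25) = true := by decide +kernel
theorem chkP_253975 : allRangeF (checkPointF cert) (nat_lit 253975) (nat_lit 25) = true := by decide +kernel
theorem chkP_254000 : allRangeF (checkPointF cert) (nat_lit 254000) (nat_lit 25) = true := by decide +kernel
theorem chkP_254025 : allRangeF (checkPointF cert) (nat_lit 254025) (nat_lit 25) = true := by decide +kernel
theorem chkP_254050 : allRangeF (checkPointF cert) (nat_lit 254050) (nat_lit 25) = true := by decide +kernel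
theorem chkP_254075 : allRangeF (checkPointF cert) (nat_lit 254075) (nat_lit 25) = true := by decide +kernel
theorem chkP_254100 : allRangeF (checkPointF cert) (nat_lit 254100) (nat_lit 25) = true := by decide +kernel
theorem chkP_254125 : allRangeF (checkPointF cert) (nat_lit 254125) (nat_lit 25) = true := by decide +kernel
theorem chkP_254150 : allRangeF (checkPointF cert) (nat_lit 254150) (nat_lit 25) = true := by decide +kernel
theorem chkP_254175 : allRangeF (checkPointF cert) (nat_lit 254175) (nat_lit 25) = true := by decide +kernel
theorem chkP_254200 : allRangeF (checkPointF cert) (nat_lit 254200) (nat_lit 25) = true := by decide +kernel
theorem chkP_254225 : allRangeF (checkPointF cert) (nat_lit 254225) (nat_lit 25) = true := by decide +kernel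
theorem chkP_254250 : allRangeF (checkPointF cert) (nat_lit 254250) (nat_lit 25) = true := by decide +kernel
theorem chkP_254275 : allRangeF (checkPointF cert) (nat_lit 254275) (nat_lit 25) = true := by decide +kernel
theorem chkP_254300 : allRangeF (checkPointF cert) (nat_lit 254300) (nat_lit 25) = true := by decide +kernel
theorem chkP_254325 : allRangeF (checkPointF cert) (nat_lit 254325) (nat_lit 25) = true := by decide +kernel
theorem chkP_254350 : allRangeF (checkPointF cert) (nat_lit 254350) (nat_lit 25) = true := by decide +kernel
theorem chkP_254375 : allRangeF (checkPointF cert) (nat_lit 254375) (nat_lit 25) = true := by decide +kernel
theorem chkP_254400 : allRangeF (checkPointF cert) (nat_lit 254400) (nat_lit 25) = true := by decide +kernel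
theorem chkP_254425 : allRangeF (checkPointF cert) (nat_lit 254425) (nat_lit 25) = true := by decide +kernel
theorem chkP_254450 : allRangeF (checkPointF cert) (nat_lit 254450) (nat_lit 25) = true := by decide +kernel
theorem chkP_254475 : allRangeF (checkPointF cert) (nat_lit 254475) (nat_lit 25) = true := by decide +kernel
theorem chkP_254500 : allRangeF (checkPointF cert) (nat_lit 254500) (nat_lit 25) = true := by decide +kernel
theorem chkP_254525 : allRangeF (checkPointF cert) (nat_lit 254525) (nat_lit 25) = true := by decide +kernel
theorem chkP_254550 : allRangeF (checkPointF cert) (nat_lit 254550) (nat_lit 25) = true := by decide +kernel
theorem chkP_254575 : allRangeF (checkPointF cert) (nat_lit 254575) (nat_lit 25) = true := by decide +kernel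
theorem chkP_254600 : allRangeF (checkPointF cert) (nat_lit 254600) (nat_lit 25) = true := by decide +kernel
theorem chkP_254625 : allRangeF (checkPointF cert) (nat_lit 254625) (nat_lit 25) = true := by decide +kernel
theorem chkP_254650 : allRangeF (checkPointF cert) (nat_lit 254650) (nat_lit 25) = true := by decide +kernel
theorem chkP_254675 : allRangeF (checkPointF cert) (nat_lit 254675) (nat_lit 25) = true := by decide +kernel
theorem chkP_254700 : allRangeF (checkPointF cert) (nat_lit 254700) (nat_lit 25) = true := by decide +kernel
theorem chkP_254725 : allRangeF (checkPointF cert) (nat_lit 254725) (nat_lit 25) = true := by decide +kernel
theorem chkP_254750 : allRangeF (checkPointF cert) (nat_lit 254750) (nat_lit 25) = true := by decide +kernel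
theorem chkP_254775 : allRangeF (checkPointF cert) (nat_lit 254775) (nat_lit 25) = true := by decide +kernel
theorem chkP_254800 : allRangeF (checkPointF cert) (nat_lit 254800) (nat_lit 25) = true := by decide +kernel
theorem chkP_254825 : allRangeF (checkPointF cert) (nat_lit 254825) (nat_lit 25) = true := by decide +kernel
theorem chkP_254850 : allRangeF (checkPointF cert) (nat_lit 254850) (nat_lit 25) = true := by decide +kernel
theorem chkP_254875 : allRangeF (checkPointF cert) (nat_lit 254875) (nat_lit 25) = true := by decide +kernel
theorem chkP_254900 : allRangeF (checkPointF cert) (nat_lit 254900) (nat_lit 25) = true := by decide +kernel
theorem chkP_254925 : allRangeF (checkPointF cert) (nat_lit 254925) (nat_lit 25) = true := by decide +kernel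
theorem chkP_254950 : allRangeF (checkPointF cert) (nat_lit 254950) (nat_lit 25) = true := by decide +kernel
theorem chkP_254975 : allRangeF (checkPointF cert) (nat_lit 254975) (nat_lit 25) = true := by decide +kernel
theorem chkP_255000 : allRangeF (checkPointF cert) (nat_lit 255000) (nat_lit 25) = true := by decide +kernel
theorem chkP_255025 : allRangeF (checkPointF cert) (nat_lit 255025) (nat_lit 25) = true := by decide +kernel
theorem chkP_255050 : allRangeF (checkPointF cert) (nat_lit 255050) (nat_lit 25) = true := by decide +kernel
theorem chkP_255075 : allRangeF (checkPointF cert) (nat_lit 255075) (nat_lit 25) = true := by decide +kernel
theorem chkP_255100 : allRangeF (checkPointF cert) (nat_lit 255100) (nat_lit 25) = true := by decide +kernel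
theorem chkP_255125 : allRangeF (checkPointF cert) (nat_lit 255125) (nat_lit 25) = true := by decide +kernel
theorem chkP_255150 : allRangeF (checkPointF cert) (nat_lit 255150) (nat_lit 25) = true := by decide +kernel
theorem chkP_255175 : allRangeF (checkPointF cert) (nat_lit 255175) (nat_lit 25) = true := by decide +kernel
theorem chkP_255200 : allRangeF (checkPointF cert) (nat_lit 255200) (nat_lit 25) = true := by decide +kernel
theorem chkP_255225 : allRangeF (checkPointF cert) (nat_lit 255225) (nat_lit 25) = true := by decide +kernel
theorem chkP_255250 : allRangeF (checkPointF cert) (nat_lit 255250) (nat_lit 25) = true := by decide +kernel
theorem chkP_255275 : allRangeF (checkPointF cert) (nat_lit 255275) (nat_lit 25) = true := by decide +kernel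
theorem chkP_255300 : allRangeF (checkPointF cert) (nat_lit 255300) (nat_lit 25) = true := by decide +kernel
theorem chkP_255325 : allRangeF (checkPointF cert) (nat_lit 255325) (nat_lit 25) = true := by decide +kernel
theorem chkP_255350 : allRangeF (checkPointF cert) (nat_lit 255350) (nat_lit 25) = true := by decide +kernel
theorem chkP_255375 : allRangeF (checkPointF cert) (nat_lit 255375) (nat_lit 25) = true := by decide +kernel
theorem chkP_255400 : allRangeF (checkPointF cert) (nat_lit 255400) (nat_lit 25) = true := by decide +kernel
theorem chkP_255425 : allRangeF (checkPointF cert) (nat_lit 255425) (nat_lit 25) = true := by decide +kernel
theorem chkP_255450 : allRangeF (checkPointF cert) (nat_lit 255450) (nat_lit 25) = true := by decide +kernel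
theorem chkP_255475 : allRangeF (checkPointF cert) (nat_lit 255475) (nat_lit 25) = true := by decide +kernel
theorem chkP_255500 : allRangeF (checkPointF cert) (nat_lit 255500) (nat_lit 25) = true := by decide +kernel
theorem chkP_255525 : allRangeF (checkPointF cert) (nat_lit 255525) (nat_lit 25) = true := by decide +kernel
theorem chkP_255550 : allRangeF (checkPointF cert) (nat_lit 255550) (nat_lit 25) = true := by decide +kernel
theorem chkP_255575 : allRangeF (checkPointF cert) (nat_lit 255575) (nat_lit 25) = true := by decide +kernel
theorem chkP_255600 : allRangeF (checkPointF cert) (nat_lit 255600) (nat_lit 25) = true := by decide +kernel
theorem chkP_255625 : allRangeF (checkPointF cert) (nat_lit 255625) (nat_lit 25) = true := by decide +kernel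
theorem chkP_255650 : allRangeF (checkPointF cert) (nat_lit 255650) (nat_lit 25) = true := by decide +kernel
theorem chkP_255675 : allRangeF (checkPointF cert) (nat_lit 255675) (nat_lit 25) = true := by decide +kernel
theorem chkP_255700 : allRangeF (checkPointF cert) (nat_lit 255700) (nat_lit 25) = true := by decide +kernel
theorem chkP_255725 : allRangeF (checkPointF cert) (nat_lit 255725) (nat_lit 25) = true := by decide +kernel
theorem chkP_255750 : allRangeF (checkPointF cert) (nat_lit 255750) (nat_lit 25) = true := by decide +kernel
theorem chkP_255775 : allRangeF (checkPointF cert) (nat_lit 255775) (nat_lit 25) = true := by decide +kernel
theorem chkP_255800 : allRangeF (checkPointF cert) (nat_lit 255800) (nat_lit 25) = true := by decide +kernel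
theorem chkP_255825 : allRangeF (checkPointF cert) (nat_lit 255825) (nat_lit 25) = true := by decide +kernel
theorem chkP_255850 : allRangeF (checkPointF cert) (nat_lit 255850) (nat_lit 25) = true := by decide +kernel
theorem chkP_255875 : allRangeF (checkPointF cert) (nat_lit 255875) (nat_lit 25) = true := by decide +kernel
theorem chkP_255900 : allRangeF (checkPointF cert) (nat_lit 255900) (nat_lit 25) = true := by decide +kernel
theorem chkP_255925 : allRangeF (checkPointF cert) (nat_lit 255925) (nat_lit 25) = true := by decide +kernel
theorem chkP_255950 : allRangeF (checkPointF cert) (nat_lit 255950) (nat_lit 25) = true := by decide +kernel
theorem chkP_255975 : allRangeF (checkPointF cert) (nat_lit 255975) (nat_lit 25) = true := by decide +kernel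
theorem chkP_256000 : allRangeF (checkPointF cert) (nat_lit 256000) (nat_lit 25) = true := by decide +kernel
theorem chkP_256025 : allRangeF (checkPointF cert) (nat_lit 256025) (nat_lit 25) = true := by decide +kernel
theorem chkP_256050 : allRangeF (checkPointF cert) (nat_lit 256050) (nat_lit 25) = true := by decide +kernel
theorem chkP_256075 : allRangeF (checkPointF cert) (nat_lit 256075) (nat_lit 25) = true := by decide +kernel
theorem chkP_256100 : allRangeF (checkPointF cert) (nat_lit 256100) (nat_lit 25) = true := by decide +kernel
theorem chkP_256125 : allRangeF (checkPointF cert) (nat_lit 256125) (nat_lit 25) = true := by decide +kernel
theorem chkP_256150 : allRangeF (checkPointF cert) (nat_lit 256150) (nat_lit 25) = true := by decide +kernel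
theorem chkP_256175 : allRangeF (checkPointF cert) (nat_lit 256175) (nat_lit 25) = true := by decide +kernel
theorem chkP_256200 : allRangeF (checkPointF cert) (nat_lit 256200) (nat_lit 25) = true := by decide +kernel
theorem chkP_256225 : allRangeF (checkPointF cert) (nat_lit 256225) (nat_lit 25) = true := by decide +kernel
theorem chkP_256250 : allRangeF (checkPointF cert) (nat_lit 256250) (nat_lit 25) = true := by decide +kernel
theorem chkP_256275 : allRangeF (checkPointF cert) (nat_lit 256275) (nat_lit 25) = true := by decide +kernel
theorem chkP_256300 : allRangeF (checkPointF cert) (nat_lit 256300) (nat_lit 25) = true := by decide +kernel
theorem chkP_256325 : allRangeF (checkPointF cert) (nat_lit 256325) (nat_lit 25) = true := by decide +kernel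
theorem chkP_256350 : allRangeF (checkPointF cert) (nat_lit 256350) (nat_lit 25) = true := by decide +kernel
theorem chkP_256375 : allRangeF (checkPointF cert) (nat_lit 256375) (nat_lit 25) = true := by decide +kernel
theorem chkP_256400 : allRangeF (checkPointF cert) (nat_lit 256400) (nat_lit 25) = true := by decide +kernel
theorem chkP_256425 : allRangeF (checkPointF cert) (nat_lit 256425) (nat_lit 25) = true := by decide +kernel
theorem chkP_256450 : allRangeF (checkPointF cert) (nat_lit 256450) (nat_lit 25) = true := by decide +kernel
theorem chkP_256475 : allRangeF (checkPointF cert) (nat_lit 256475) (nat_lit 25) = true := by decide +kernel
theorem chkP_256500 : allRangeF (checkPointF cert) (nat_lit 256500) (nat_lit 25) = true := by decide +kernel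
theorem chkP_256525 : allRangeF (checkPointF cert) (nat_lit 256525) (nat_lit 25) = true := by decide +kernel
theorem chkP_256550 : allRangeF (checkPointF cert) (nat_lit 256550) (nat_lit 25) = true := by decide +kernel
theorem chkP_256575 : allRangeF (checkPointF cert) (nat_lit 256575) (nat_lit 25) = true := by decide +kernel
theorem chkP_256600 : allRangeF (checkPointF cert) (nat_lit 256600) (nat_lit 25) = true := by decide +kernel
theorem chkP_256625 : allRangeF (checkPointF cert) (nat_lit 256625) (nat_lit 25) = true := by decide +kernel
theorem chkP_256650 : allRangeF (checkPointF cert) (nat_lit 256650) (nat_lit 25) = true := by decide +kernel
theorem chkP_256675 : allRangeF (checkPointF cert) (nat_lit 256675) (nat_lit 25) = true := by decide +kernel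
theorem chkP_256700 : allRangeF (checkPointF cert) (nat_lit 256700) (nat_lit 25) = true := by decide +kernel
theorem chkP_256725 : allRangeF (checkPointF cert) (nat_lit 256725) (nat_lit 25) = true := by decide +kernel
theorem chkP_256750 : allRangeF (checkPointF cert) (nat_lit 256750) (nat_lit 25) = true := by decide +kernel
theorem chkP_256775 : allRangeF (checkPointF cert) (nat_lit 256775) (nat_lit 25) = true := by decide +kernel
theorem chkP_256800 : allRangeF (checkPointF cert) (nat_lit 256800) (nat_lit 25) = true := by decide +kernel
theorem chkP_256825 : allRangeF (checkPointF cert) (nat_lit 256825) (nat_lit 25) = true := by decide +kernel
theorem chkP_256850 : allRangeF (checkPointF cert) (nat_lit 256850) (nat_lit 25) = true := by decide +kernel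
theorem chkP_256875 : allRangeF (checkPointF cert) (nat_lit 256875) (nat_lit 25) = true := by decide +kernel
theorem chkP_256900 : allRangeF (checkPointF cert) (nat_lit 256900) (nat_lit 25) = true := by decide +kernel
theorem chkP_256925 : allRangeF (checkPointF cert) (nat_lit 256925) (nat_lit 25) = true := by decide +kernel
theorem chkP_256950 : allRangeF (checkPointF cert) (nat_lit 256950) (nat_lit 25) = true := by decide +kernel
theorem chkP_256975 : allRangeF (checkPointF cert) (nat_lit 256975) (nat_lit 25) = true := by decide +kernel
theorem chkP_257000 : allRangeF (checkPointF cert) (nat_lit 257000) (nat_lit 25) = true := by decide +kernel
theorem chkP_257025 : allRangeF (checkPointF cert) (nat_lit 257025) (nat_lit 25) = true := by decide +kernel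
theorem chkP_257050 : allRangeF (checkPointF cert) (nat_lit 257050) (nat_lit 25) = true := by decide +kernel
theorem chkP_257075 : allRangeF (checkPointF cert) (nat_lit 257075) (nat_lit 25) = true := by decide +kernel
theorem chkP_257100 : allRangeF (checkPointF cert) (nat_lit 257100) (nat_lit 25) = true := by decide +kernel
theorem chkP_257125 : allRangeF (checkPointF cert) (nat_lit 257125) (nat_lit 25) = true := by decide +kernel
theorem chkP_257150 : allRangeF (checkPointF cert) (nat_lit 257150) (nat_lit 25) = true := by decide +kernel
theorem chkP_257175 : allRangeF (checkPointF cert) (nat_lit 257175) (nat_lit 25) = true := by decide +kernel
theorem chkP_257200 : allRangeF (checkPointF cert) (nat_lit 257200) (nat_lit 25) = true := by decide +kernel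
theorem chkP_257225 : allRangeF (checkPointF cert) (nat_lit 257225) (nat_lit 25) = true := by decide +kernel
theorem chkP_257250 : allRangeF (checkPointF cert) (nat_lit 257250) (nat_lit 25) = true := by decide +kernel
theorem chkP_257275 : allRangeF (checkPointF cert) (nat_lit 257275) (nat_lit 25) = true := by decide +kernel
theorem chkP_257300 : allRangeF (checkPointF cert) (nat_lit 257300) (nat_lit 25) = true := by decide +kernel
theorem chkP_257325 : allRangeF (checkPointF cert) (nat_lit 257325) (nat_lit 25) = true := by decide +kernel
theorem chkP_257350 : allRangeF (checkPointF cert) (nat_lit 257350) (nat_lit 25) = true := by decide +kernel
theorem chkP_257375 : allRangeF (checkPointF cert) (nat_lit 257375) (nat_lit 25) = true := by decide +kernel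
theorem chkP_257400 : allRangeF (checkPointF cert) (nat_lit 257400) (nat_lit 25) = true := by decide +kernel
theorem chkP_257425 : allRangeF (checkPointF cert) (nat_lit 257425) (nat_lit 25) = true := by decide +kernel
theorem chkP_257450 : allRangeF (checkPointF cert) (nat_lit 257450) (nat_lit 25) = true := by decide +kernel
theorem chkP_257475 : allRangeF (checkPointF cert) (nat_lit 257475) (nat_lit 25) = true := by decide +kernel
theorem chkP_257500 : allRangeF (checkPointF cert) (nat_lit 257500) (nat_lit 25) = true := by decide +kernel
theorem chkP_257525 : allRangeF (checkPointF cert) (nat_lit 257525) (nat_lit 25) = true := by decide +kernel
theorem chkP_257550 : allRangeF (checkPointF cert) (nat_lit 257550) (nat_lit 25) = true := by decide +kernel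
theorem chkP_257575 : allRangeF (checkPointF cert) (nat_lit 257575) (nat_lit 25) = true := by decide +kernel
theorem chkP_257600 : allRangeF (checkPointF cert) (nat_lit 257600) (nat_lit 25) = true := by decide +kernel
theorem chkP_257625 : allRangeF (checkPointF cert) (nat_lit 257625) (nat_lit 25) = true := by decide +kernel
theorem chkP_257650 : allRangeF (checkPointF cert) (nat_lit 257650) (nat_lit 25) = true := by decide +kernel
theorem chkP_257675 : allRangeF (checkPointF cert) (nat_lit 257675) (nat_lit 25) = true := by decide +kernel
theorem chkP_257700 : allRangeF (checkPointF cert) (nat_lit 257700) (nat_lit 25) = true := by decide +kernel
theorem chkP_257725 : allRangeF (checkPointF cert) (nat_lit 257725) (nat_lit 25) = true := by decide +kernel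
theorem chkP_257750 : allRangeF (checkPointF cert) (nat_lit 257750) (nat_lit 25) = true := by decide +kernel
theorem chkP_257775 : allRangeF (checkPointF cert) (nat_lit 257775) (nat_lit 25) = true := by decide +kernel
theorem chkP_257800 : allRangeF (checkPointF cert) (nat_lit 257800) (nat_lit 25) = true := by decide +kernel
theorem chkP_257825 : allRangeF (checkPointF cert) (nat_lit 257825) (nat_lit 25) = true := by decide +kernel
theorem chkP_257850 : allRangeF (checkPointF cert) (nat_lit 257850) (nat_lit 25) = true := by decide +kernel
theorem chkP_257875 : allRangeF (checkPointF cert) (nat_lit 257875) (nat_lit 25) = true := by decide +kernel
theorem chkP_257900 : allRangeF (checkPointF cert) (nat_lit 257900) (nat_lit 25) = true := by decide +kernel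
theorem chkP_257925 : allRangeF (checkPointF cert) (nat_lit 257925) (nat_lit 25) = true := by decide +kernel
theorem chkP_257950 : allRangeF (checkPointF cert) (nat_lit 257950) (nat_lit 25) = true := by decide +kernel
theorem chkP_257975 : allRangeF (checkPointF cert) (nat_lit 257975) (nat_lit 25) = true := by decide +kernel
theorem chkP_258000 : allRangeF (checkPointF cert) (nat_lit 258000) (nat_lit 25) = true := by decide +kernel
theorem chkP_258025 : allRangeF (checkPointF cert) (nat_lit 258025) (nat_lit 25) = true := by decide +kernel
theorem chkP_258050 : allRangeF (checkPointF cert) (nat_lit 258050) (nat_lit 25) = true := by decide +kernel
theorem chkP_258075 : allRangeF (checkPointF cert) (nat_lit 258075) (nat_lit 25) = true := by decide +kernel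
theorem chkP_258100 : allRangeF (checkPointF cert) (nat_lit 258100) (nat_lit 25) = true := by decide +kernel
theorem chkP_258125 : allRangeF (checkPointF cert) (nat_lit 258125) (nat_lit 25) = true := by decide +kernel
theorem chkP_258150 : allRangeF (checkPointF cert) (nat_lit 258150) (nat_lit 25) = true := by decide +kernel
theorem chkP_258175 : allRangeF (checkPointF cert) (nat_lit 258175) (nat_lit 25) = true := by decide +kernel
theorem chkP_258200 : allRangeF (checkPointF cert) (nat_lit 258200) (nat_lit 25) = true := by decide +kernel
theorem chkP_258225 : allRangeF (checkPointF cert) (nat_lit 258225) (nat_lit 25) = true := by decide +kernel
theorem chkP_258250 : allRangeF (checkPointF cert) (nat_lit 258250) (nat_lit 25) = true := by decide +kernel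
theorem chkP_258275 : allRangeF (checkPointF cert) (nat_lit 258275) (nat_lit 25) = true := by decide +kernel
theorem chkP_258300 : allRangeF (checkPointF cert) (nat_lit 258300) (nat_lit 25) = true := by decide +kernel
theorem chkP_258325 : allRangeF (checkPointF cert) (nat_lit 258325) (nat_lit 25) = true := by decide +kernel
theorem chkP_258350 : allRangeF (checkPointF cert) (nat_lit 258350) (nat_lit 25) = true := by decide +kernel
theorem chkP_258375 : allRangeF (checkPointF cert) (nat_lit 258375) (nat_lit 25) = true := by decide +kernel
theorem chkP_258400 : allRangeF (checkPointF cert) (nat_lit 258400) (nat_lit 25) = true := by decide +kernel
theorem chkP_258425 : allRangeF (checkPointF cert) (nat_lit 258425) (nat_lit 25) = true := by decide +kernel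
theorem chkP_258450 : allRangeF (checkPointF cert) (nat_lit 258450) (nat_lit 25) = true := by decide +kernel
theorem chkP_258475 : allRangeF (checkPointF cert) (nat_lit 258475) (nat_lit 25) = true := by decide +kernel
theorem chkP_258500 : allRangeF (checkPointF cert) (nat_lit 258500) (nat_lit 25) = true := by decide +kernel
theorem chkP_258525 : allRangeF (checkPointF cert) (nat_lit 258525) (nat_lit 25) = true := by decide +kernel
theorem chkP_258550 : allRangeF (checkPointF cert) (nat_lit 258550) (nat_lit 25) = true := by decide +kernel
theorem chkP_258575 : allRangeF (checkPointF cert) (nat_lit 258575) (nat_lit 25) = true := by decide +kernel
theorem chkP_258600 : allRangeF (checkPointF cert) (nat_lit 258600) (nat_lit 25) = true := by decide +kernel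
theorem chkP_258625 : allRangeF (checkPointF cert) (nat_lit 258625) (nat_lit 25) = true := by decide +kernel
theorem chkP_258650 : allRangeF (checkPointF cert) (nat_lit 258650) (nat_lit 25) = true := by decide +kernel
theorem chkP_258675 : allRangeF (checkPointF cert) (nat_lit 258675) (nat_lit 25) = true := by decide +kernel
theorem chkP_258700 : allRangeF (checkPointF cert) (nat_lit 258700) (nat_lit 25) = true := by decide +kernel
theorem chkP_258725 : allRangeF (checkPointF cert) (nat_lit 258725) (nat_lit 25) = true := by decide +kernel
theorem chkP_258750 : allRangeF (checkPointF cert) (nat_lit 258750) (nat_lit 25) = true := by decide +kernel
theorem chkP_258775 : allRangeF (checkPointF cert) (nat_lit 258775) (nat_lit 25) = true := by decide +kernel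
theorem chkP_258800 : allRangeF (checkPointF cert) (nat_lit 258800) (nat_lit 25) = true := by decide +kernel
theorem chkP_258825 : allRangeF (checkPointF cert) (nat_lit 258825) (nat_lit 25) = true := by decide +kernel
theorem chkP_258850 : allRangeF (checkPointF cert) (nat_lit 258850) (nat_lit 25) = true := by decide +kernel
theorem chkP_258875 : allRangeF (checkPointF cert) (nat_lit 258875) (nat_lit 25) = true := by decide +kernel
theorem chkP_258900 : allRangeF (checkPointF cert) (nat_lit 258900) (nat_lit 25) = true := by decide +kernel
theorem chkP_258925 : allRangeF (checkPointF cert) (nat_lit 258925) (nat_lit 25) = true := by decide +kernel
theorem chkP_258950 : allRangeF (checkPointF cert) (nat_lit 258950) (nat_lit 25) = true := by decide +kernel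
theorem chkP_258975 : allRangeF (checkPointF cert) (nat_lit 258975) (nat_lit 25) = true := by decide +kernel
theorem chkP_259000 : allRangeF (checkPointF cert) (nat_lit 259000) (nat_lit 25) = true := by decide +kernel
theorem chkP_259025 : allRangeF (checkPointF cert) (nat_lit 259025) (nat_lit 25) = true := by decide +kernel
theorem chkP_259050 : allRangeF (checkPointF cert) (nat_lit 259050) (nat_lit 25) = true := by decide +kernel
theorem chkP_259075 : allRangeF (checkPointF cert) (nat_lit 259075) (nat_lit 25) = true := by decide +kernel
theorem chkP_259100 : allRangeF (checkPointF cert) (nat_lit 259100) (nat_lit 25) = true := by decide +kernel
theorem chkP_259125 : allRangeF (checkPointF cert) (nat_lit 259125) (nat_lit 25) = true := by decide +kernel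
theorem chkP_259150 : allRangeF (checkPointF cert) (nat_lit 259150) (nat_lit 25) = true := by decide +kernel
theorem chkP_259175 : allRangeF (checkPointF cert) (nat_lit 259175) (nat_lit 25) = true := by decide +kernel
theorem chkP_259200 : allRangeF (checkPointF cert) (nat_lit 259200) (nat_lit 25) = true := by decide +kernel
theorem chkP_259225 : allRangeF (checkPointF cert) (nat_lit 259225) (nat_lit 25) = true := by decide +kernel
theorem chkP_259250 : allRangeF (checkPointF cert) (nat_lit 259250) (nat_lit 25) = true := by decide +kernel
theorem chkP_259275 : allRangeF (checkPointF cert) (nat_lit 259275) (nat_lit 25) = true := by decide +kernel
theorem chkP_259300 : allRangeF (checkPointF cert) (nat_lit 259300) (nat_lit 25) = true := by decide +kernel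
theorem chkP_259325 : allRangeF (checkPointF cert) (nat_lit 259325) (nat_lit 25) = true := by decide +kernel
theorem chkP_259350 : allRangeF (checkPointF cert) (nat_lit 259350) (nat_lit 25) = true := by decide +kernel
theorem chkP_259375 : allRangeF (checkPointF cert) (nat_lit 259375) (nat_lit 25) = true := by decide +kernel
theorem chkP_259400 : allRangeF (checkPointF cert) (nat_lit 259400) (nat_lit 25) = true := by decide +kernel
theorem chkP_259425 : allRangeF (checkPointF cert) (nat_lit 259425) (nat_lit 25) = true := by decide +kernel
theorem chkP_259450 : allRangeF (checkPointF cert) (nat_lit 259450) (nat_lit 25) = true := by decide +kernel
theorem chkP_259475 : allRangeF (checkPointF cert) (nat_lit 259475) (nat_lit 25) = true := by decide +kernel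
theorem chkP_259500 : allRangeF (checkPointF cert) (nat_lit 259500) (nat_lit 25) = true := by decide +kernel
theorem chkP_259525 : allRangeF (checkPointF cert) (nat_lit 259525) (nat_lit 25) = true := by decide +kernel
theorem chkP_259550 : allRangeF (checkPointF cert) (nat_lit 259550) (nat_lit 25) = true := by decide +kernel
theorem chkP_259575 : allRangeF (checkPointF cert) (nat_lit 259575) (nat_lit 25) = true := by decide +kernel
theorem chkP_259600 : allRangeF (checkPointF cert) (nat_lit 259600) (nat_lit 25) = true := by decide +kernel
theorem chkP_259625 : allRangeF (checkPointF cert) (nat_lit 259625) (nat_lit 25) = true := by decide +kernel
theorem chkP_259650 : allRangeF (checkPointF cert) (nat_lit 259650) (nat_lit 25) = true := by decide +kernel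
theorem chkP_259675 : allRangeF (checkPointF cert) (nat_lit 259675) (nat_lit 25) = true := by decide +kernel
theorem chkP_259700 : allRangeF (checkPointF cert) (nat_lit 259700) (nat_lit 25) = true := by decide +kernel
theorem chkP_259725 : allRangeF (checkPointF cert) (nat_lit 259725) (nat_lit 25) = true := by decide +kernel
theorem chkP_259750 : allRangeF (checkPointF cert) (nat_lit 259750) (nat_lit 25) = true := by decide +kernel
theorem chkP_259775 : allRangeF (checkPointF cert) (nat_lit 259775) (nat_lit 25) = true := by decide +kernel
theorem chkP_259800 : allRangeF (checkPointF cert) (nat_lit 259800) (nat_lit 25) = true := by decide +kernel
theorem chkP_259825 : allRangeF (checkPointF cert) (nat_lit 259825) (nat_lit 25) = true := by decide +kernel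
theorem chkP_259850 : allRangeF (checkPointF cert) (nat_lit 259850) (nat_lit 25) = true := by decide +kernel
theorem chkP_259875 : allRangeF (checkPointF cert) (nat_lit 259875) (nat_lit 25) = true := by decide +kernel
theorem chkP_259900 : allRangeF (checkPointF cert) (nat_lit 259900) (nat_lit 25) = true := by decide +kernel
theorem chkP_259925 : allRangeF (checkPointF cert) (nat_lit 259925) (nat_lit 25) = true := by decide +kernel
theorem chkP_259950 : allRangeF (checkPointF cert) (nat_lit 259950) (nat_lit 25) = true := by decide +kernel
theorem chkP_259975 : allRangeF (checkPointF cert) (nat_lit 259975) (nat_lit 25) = true := by decide +kernel
theorem chkP_260000 : allRangeF (checkPointF cert) (nat_lit 260000) (nat_lit 25) = true := by decide +kernel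
theorem chkP_260025 : allRangeF (checkPointF cert) (nat_lit 260025) (nat_lit 25) = true := by decide +kernel
theorem chkP_260050 : allRangeF (checkPointF cert) (nat_lit 260050) (nat_lit 25) = true := by decide +kernel
theorem chkP_260075 : allRangeF (checkPointF cert) (nat_lit 260075) (nat_lit 25) = true := by decide +kernel
theorem chkP_260100 : allRangeF (checkPointF cert) (nat_lit 260100) (nat_lit 25) = true := by decide +kernel
theorem chkP_260125 : allRangeF (checkPointF cert) (nat_lit 260125) (nat_lit 25) = true := by decide +kernel
theorem chkP_260150 : allRangeF (checkPointF cert) (nat_lit 260150) (nat_lit 25) = true := by decide +kernel
theorem chkP_260175 : allRangeF (checkPointF cert) (nat_lit 260175) (nat_lit 25) = true := by decide +kernel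
theorem chkP_260200 : allRangeF (checkPointF cert) (nat_lit 260200) (nat_lit 25) = true := by decide +kernel
theorem chkP_260225 : allRangeF (checkPointF cert) (nat_lit 260225) (nat_lit 25) = true := by decide +kernel
theorem chkP_260250 : allRangeF (checkPointF cert) (nat_lit 260250) (nat_lit 25) = true := by decide +kernel
theorem chkP_260275 : allRangeF (checkPointF cert) (nat_lit 260275) (nat_lit 25) = true := by decide +kernel
theorem chkP_260300 : allRangeF (checkPointF cert) (nat_lit 260300) (nat_lit 25) = true := by decide +kernel
theorem chkP_260325 : allRangeF (checkPointF cert) (nat_lit 260325) (nat_lit 25) = true := by decide +kernel
theorem chkP_260350 : allRangeF (checkPointF cert) (nat_lit 260350) (nat_lit 25) = true := by decide +kernel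
theorem chkP_260375 : allRangeF (checkPointF cert) (nat_lit 260375) (nat_lit 25) = true := by decide +kernel
theorem chkP_260400 : allRangeF (checkPointF cert) (nat_lit 260400) (nat_lit 25) = true := by decide +kernel
theorem chkP_260425 : allRangeF (checkPointF cert) (nat_lit 260425) (nat_lit 25) = true := by decide +kernel
theorem chkP_260450 : allRangeF (checkPointF cert) (nat_lit 260450) (nat_lit 25) = true := by decide +kernel
theorem chkP_260475 : allRangeF (checkPointF cert) (nat_lit 260475) (nat_lit 25) = true := by decide +kernel
theorem chkP_260500 : allRangeF (checkPointF cert) (nat_lit 260500) (nat_lit 25) = true := by decide +kernel
theorem chkP_260525 : allRangeF (checkPointF cert) (nat_lit 260525) (nat_lit 25) = true := by decide +kernel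
theorem chkP_260550 : allRangeF (checkPointF cert) (nat_lit 260550) (nat_lit 25) = true := by decide +kernel
theorem chkP_260575 : allRangeF (checkPointF cert) (nat_lit 260575) (nat_lit 25) = true := by decide +kernel
theorem chkP_260600 : allRangeF (checkPointF cert) (nat_lit 260600) (nat_lit 25) = true := by decide +kernel
theorem chkP_260625 : allRangeF (checkPointF cert) (nat_lit 260625) (nat_lit 25) = true := by decide +kernel
theorem chkP_260650 : allRangeF (checkPointF cert) (nat_lit 260650) (nat_lit 25) = true := by decide +kernel
theorem chkP_260675 : allRangeF (checkPointF cert) (nat_lit 260675) (nat_lit 25) = true := by decide +kernel
theorem chkP_260700 : allRangeF (checkPointF cert) (nat_lit 260700) (nat_lit 25) = true := by decide +kernel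
theorem chkP_260725 : allRangeF (checkPointF cert) (nat_lit 260725) (nat_lit 25) = true := by decide +kernel
theorem chkP_260750 : allRangeF (checkPointF cert) (nat_lit 260750) (nat_lit 25) = true := by decide +kernel
theorem chkP_260775 : allRangeF (checkPointF cert) (nat_lit 260775) (nat_lit 25) = true := by decide +kernel
theorem chkP_260800 : allRangeF (checkPointF cert) (nat_lit 260800) (nat_lit 25) = true := by decide +kernel
theorem chkP_260825 : allRangeF (checkPointF cert) (nat_lit 260825) (nat_lit 25) = true := by decide +kernel
theorem chkP_260850 : allRangeF (checkPointF cert) (nat_lit 260850) (nat_lit 25) = true := by decide +kernel
theorem chkP_260875 : allRangeF (checkPointF cert) (nat_lit 260875) (nat_lit 25) = true := by decide +kernel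
theorem chkP_260900 : allRangeF (checkPointF cert) (nat_lit 260900) (nat_lit 25) = true := by decide +kernel
theorem chkP_260925 : allRangeF (checkPointF cert) (nat_lit 260925) (nat_lit 25) = true := by decide +kernel

theorem ptsRange_33 : ∀ i, 253275 ≤ i → i < 260950 → checkPoint cert i = true := by
  intro i hlo hhi
  rcases Nat.lt_or_ge i 257100 with h1 | h1
  · skip
    rcases Nat.lt_or_ge i 255175 with h2 | h2
    · skip
      rcases Nat.lt_or_ge i 254225 with h3 | h3
      · skip
        rcases Nat.lt_or_ge i 253750 with h4 | h4
        · skip
          rcases Nat.lt_or_ge i 253500 with h5 | h5
          · skip
            rcases Nat.lt_or_ge i 253375 with h6 | h6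
            · skip
              rcases Nat.lt_or_ge i 253325 with h7 | h7
              · skip
                rcases Nat.lt_or_ge i 253300 with h8 | h8
                · skip
                  exact allRangeF_sound _ _ (checkPointF_eq cert) 253275 25 chkP_253275 i (by omega) (by omega)
                · skip
                  exact allRangeF_sound _ _ (checkPointF_eq cert) 253300 25 chkP_253300 i (by omega) (by omega)
              · skip
                rcases Nat.lt_or_ge i 253350 with h8 | h8
                · skip
                  exact allRangeF_sound _ _ (checkPointF_eq cert) 253325 25 chkP_253325 i (by omega) (by omega)
                · skip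
                  exact allRangeF_sound _ _ (checkPointF_eq cert) 253350 25 chkP_253350 i (by omega) (by omega)
            · skip
              rcases Nat.lt_or_ge i 253425 with h7 | h7
              · skip
                rcases Nat.lt_or_ge i 253400 with h8 | h8
                · skip
                  exact allRangeF_sound _ _ (checkPointF_eq cert) 253375 25 chkP_253375 i (by omega) (by omega)
                · skip
                  exact allRangeF_sound _ _ (checkPointF_eq cert) 253400 25 chkP_253400 i (by omega) (by omega)
              · skip
                rcases Nat.lt_or_ge i 253450 with h8 | h8
                · skip
                  exact allRangeF_sound _ _ (checkPointF_eq cert) 253425 25 chkP_253425 i (by omega) (by omega)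
                · skip
                  rcases Nat.lt_or_ge i 253475 with h9 | h9
                  · skip
                    exact allRangeF_sound _ _ (checkPointF_eq cert) 253450 25 chkP_253450 i (by omega) (by omega)
                  · skip
                    exact allRangeF_sound _ _ (checkPointF_eq cert) 253475 25 chkP_253475 i (by omega) (by omega)
          · skip
            rcases Nat.lt_or_ge i 253625 with h6 | h6
            · skip
              rcases Nat.lt_or_ge i 253550 with h7 | h7
              · skip
                rcases Nat.lt_or_ge i 253525 with h8 | h8
                · skip
                  exact allRangeF_sound _ _ (checkPointF_eq cert) 253500 25 chkP_253500 i (by omega) (by omega)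
                · skip
                  exact allRangeF_sound _ _ (checkPointF_eq cert) 253525 25 chkP_253525 i (by omega) (by omega)
              · skip
                rcases Nat.lt_or_ge i 253575 with h8 | h8
                · skip
                  exact allRangeF_sound _ _ (checkPointF_eq cert) 253550 25 chkP_253550 i (by omega) (by omega)
                · skip
                  rcases Nat.lt_or_ge i 253600 with h9 | h9
                  · skip
                    exact allRangeF_sound _ _ (checkPointF_eq cert) 253575 25 chkP_253575 i (by omega) (by omega)
                  · skip
                    exact allRangeF_sound _ _ (checkPointF_eq cert) 253600 25 chkP_253600 i (by omega) (by omega)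
            · skip
              rcases Nat.lt_or_ge i 253675 with h7 | h7
              · skip
                rcases Nat.lt_or_ge i 253650 with h8 | h8
                · skip
                  exact allRangeF_sound _ _ (checkPointF_eq cert) 253625 25 chkP_253625 i (by omega) (by omega)
                · skip
                  exact allRangeF_sound _ _ (checkPointF_eq cert) 253650 25 chkP_253650 i (by omega) (by omega)
              · skip
                rcases Nat.lt_or_ge i 253700 with h8 | h8
                · skip
                  exact allRangeF_sound _ _ (checkPointF_eq cert) 253675 25 chkP_253675 i (by omega) (by omega)
                · skip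
                  rcases Nat.lt_or_ge i 253725 with h9 | h9
                  · skip
                    exact allRangeF_sound _ _ (checkPointF_eq cert) 253700 25 chkP_253700 i (by omega) (by omega)
                  · skip
                    exact allRangeF_sound _ _ (checkPointF_eq cert) 253725 25 chkP_253725 i (by omega) (by omega)
        · skip
          rcases Nat.lt_or_ge i 253975 with h5 | h5
          · skip
            rcases Nat.lt_or_ge i 253850 with h6 | h6
            · skip
              rcases Nat.lt_or_ge i 253800 with h7 | h7
              · skip
                rcases Nat.lt_or_ge i 253775 with h8 | h8
                · skip
                  exact allRangeF_sound _ _ (checkPointF_eq cert) 253750 25 chkP_253750 i (by omega) (by omega)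
                · skip
                  exact allRangeF_sound _ _ (checkPointF_eq cert) 253775 25 chkP_253775 i (by omega) (by omega)
              · skip
                rcases Nat.lt_or_ge i 253825 with h8 | h8
                · skip
                  exact allRangeF_sound _ _ (checkPointF_eq cert) 253800 25 chkP_253800 i (by omega) (by omega)
                · skip
                  exact allRangeF_sound _ _ (checkPointF_eq cert) 253825 25 chkP_253825 i (by omega) (by omega)
            · skip
              rcases Nat.lt_or_ge i 253900 with h7 | h7
              · skip
                rcases Nat.lt_or_ge i 253875 with h8 | h8
                · skip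
                  exact allRangeF_sound _ _ (checkPointF_eq cert) 253850 25 chkP_253850 i (by omega) (by omega)
                · skip
                  exact allRangeF_sound _ _ (checkPointF_eq cert) 253875 25 chkP_253875 i (by omega) (by omega)
              · skip
                rcases Nat.lt_or_ge i 253925 with h8 | h8
                · skip
                  exact allRangeF_sound _ _ (checkPointF_eq cert) 253900 25 chkP_253900 i (by omega) (by omega)
                · skip
                  rcases Nat.lt_or_ge i 253950 with h9 | h9
                  · skip
                    exact allRangeF_sound _ _ (checkPointF_eq cert) 253925 25 chkP_253925 i (by omega) (by omega)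
                  · skip
                    exact allRangeF_sound _ _ (checkPointF_eq cert) 253950 25 chkP_253950 i (by omega) (by omega)
          · skip
            rcases Nat.lt_or_ge i 254100 with h6 | h6
            · skip
              rcases Nat.lt_or_ge i 254025 with h7 | h7
              · skip
                rcases Nat.lt_or_ge i 254000 with h8 | h8
                · skip
                  exact allRangeF_sound _ _ (checkPointF_eq cert) 253975 25 chkP_253975 i (by omega) (by omega)
                · skip
                  exact allRangeF_sound _ _ (checkPointF_eq cert) 254000 25 chkP_254000 i (by omega) (by omega)
              · skip
                rcases Nat.lt_or_ge i 254050 with h8 | h8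
                · skip
                  exact allRangeF_sound _ _ (checkPointF_eq cert) 254025 25 chkP_254025 i (by omega) (by omega)
                · skip
                  rcases Nat.lt_or_ge i 254075 with h9 | h9
                  · skip
                    exact allRangeF_sound _ _ (checkPointF_eq cert) 254050 25 chkP_254050 i (by omega) (by omega)
                  · skip
                    exact allRangeF_sound _ _ (checkPointF_eq cert) 254075 25 chkP_254075 i (by omega) (by omega)
            · skip
              rcases Nat.lt_or_ge i 254150 with h7 | h7
              · skip
                rcases Nat.lt_or_ge i 254125 with h8 | h8
                · skip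
                  exact allRangeF_sound _ _ (checkPointF_eq cert) 254100 25 chkP_254100 i (by omega) (by omega)
                · skip
                  exact allRangeF_sound _ _ (checkPointF_eq cert) 254125 25 chkP_254125 i (by omega) (by omega)
              · skip
                rcases Nat.lt_or_ge i 254175 with h8 | h8
                · skip
                  exact allRangeF_sound _ _ (checkPointF_eq cert) 254150 25 chkP_254150 i (by omega) (by omega)
                · skip
                  rcases Nat.lt_or_ge i 254200 with h9 | h9
                  · skip
                    exact allRangeF_sound _ _ (checkPointF_eq cert) 254175 25 chkP_254175 i (by omega) (by omega)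
                  · skip
                    exact allRangeF_sound _ _ (checkPointF_eq cert) 254200 25 chkP_254200 i (by omega) (by omega)
      · skip
        rcases Nat.lt_or_ge i 254700 with h4 | h4
        · skip
          rcases Nat.lt_or_ge i 254450 with h5 | h5
          · skip
            rcases Nat.lt_or_ge i 254325 with h6 | h6
            · skip
              rcases Nat.lt_or_ge i 254275 with h7 | h7
              · skip
                rcases Nat.lt_or_ge i 254250 with h8 | h8
                · skip
                  exact allRangeF_sound _ _ (checkPointF_eq cert) 254225 25 chkP_254225 i (by omega) (by omega)
                · skip
                  exact allRangeF_sound _ _ (checkPointF_eq cert) 254250 25 chkP_254250 i (by omega) (by omega)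
              · skip
                rcases Nat.lt_or_ge i 254300 with h8 | h8
                · skip
                  exact allRangeF_sound _ _ (checkPointF_eq cert) 254275 25 chkP_254275 i (by omega) (by omega)
                · skip
                  exact allRangeF_sound _ _ (checkPointF_eq cert) 254300 25 chkP_254300 i (by omega) (by omega)
            · skip
              rcases Nat.lt_or_ge i 254375 with h7 | h7
              · skip
                rcases Nat.lt_or_ge i 254350 with h8 | h8
                · skip
                  exact allRangeF_sound _ _ (checkPointF_eq cert) 254325 25 chkP_254325 i (by omega) (by omega)
                · skip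
                  exact allRangeF_sound _ _ (checkPointF_eq cert) 254350 25 chkP_254350 i (by omega) (by omega)
              · skip
                rcases Nat.lt_or_ge i 254400 with h8 | h8
                · skip
                  exact allRangeF_sound _ _ (checkPointF_eq cert) 254375 25 chkP_254375 i (by omega) (by omega)
                · skip
                  rcases Nat.lt_or_ge i 254425 with h9 | h9
                  · skip
                    exact allRangeF_sound _ _ (checkPointF_eq cert) 254400 25 chkP_254400 i (by omega) (by omega)
                  · skip
                    exact allRangeF_sound _ _ (checkPointF_eq cert) 254425 25 chkP_254425 i (by omega) (by omega)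
          · skip
            rcases Nat.lt_or_ge i 254575 with h6 | h6
            · skip
              rcases Nat.lt_or_ge i 254500 with h7 | h7
              · skip
                rcases Nat.lt_or_ge i 254475 with h8 | h8
                · skip
                  exact allRangeF_sound _ _ (checkPointF_eq cert) 254450 25 chkP_254450 i (by omega) (by omega)
                · skip
                  exact allRangeF_sound _ _ (checkPointF_eq cert) 254475 25 chkP_254475 i (by omega) (by omega)
              · skip
                rcases Nat.lt_or_ge i 254525 with h8 | h8
                · skip
                  exact allRangeF_sound _ _ (checkPointF_eq cert) 254500 25 chkP_254500 i (by omega) (by omega)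
                · skip
                  rcases Nat.lt_or_ge i 254550 with h9 | h9
                  · skip
                    exact allRangeF_sound _ _ (checkPointF_eq cert) 254525 25 chkP_254525 i (by omega) (by omega)
                  · skip
                    exact allRangeF_sound _ _ (checkPointF_eq cert) 254550 25 chkP_254550 i (by omega) (by omega)
            · skip
              rcases Nat.lt_or_ge i 254625 with h7 | h7
              · skip
                rcases Nat.lt_or_ge i 254600 with h8 | h8
                · skip
                  exact allRangeF_sound _ _ (checkPointF_eq cert) 254575 25 chkP_254575 i (by omega) (by omega)
                · skip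
                  exact allRangeF_sound _ _ (checkPointF_eq cert) 254600 25 chkP_254600 i (by omega) (by omega)
              · skip
                rcases Nat.lt_or_ge i 254650 with h8 | h8
                · skip
                  exact allRangeF_sound _ _ (checkPointF_eq cert) 254625 25 chkP_254625 i (by omega) (by omega)
                · skip
                  rcases Nat.lt_or_ge i 254675 with h9 | h9
                  · skip
                    exact allRangeF_sound _ _ (checkPointF_eq cert) 254650 25 chkP_254650 i (by omega) (by omega)
                  · skip
                    exact allRangeF_sound _ _ (checkPointF_eq cert) 254675 25 chkP_254675 i (by omega) (by omega)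
        · skip
          rcases Nat.lt_or_ge i 254925 with h5 | h5
          · skip
            rcases Nat.lt_or_ge i 254800 with h6 | h6
            · skip
              rcases Nat.lt_or_ge i 254750 with h7 | h7
              · skip
                rcases Nat.lt_or_ge i 254725 with h8 | h8
                · skip
                  exact allRangeF_sound _ _ (checkPointF_eq cert) 254700 25 chkP_254700 i (by omega) (by omega)
                · skip
                  exact allRangeF_sound _ _ (checkPointF_eq cert) 254725 25 chkP_254725 i (by omega) (by omega)
              · skip
                rcases Nat.lt_or_ge i 254775 with h8 | h8
                · skip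
                  exact allRangeF_sound _ _ (checkPointF_eq cert) 254750 25 chkP_254750 i (by omega) (by omega)
                · skip
                  exact allRangeF_sound _ _ (checkPointF_eq cert) 254775 25 chkP_254775 i (by omega) (by omega)
            · skip
              rcases Nat.lt_or_ge i 254850 with h7 | h7
              · skip
                rcases Nat.lt_or_ge i 254825 with h8 | h8
                · skip
                  exact allRangeF_sound _ _ (checkPointF_eq cert) 254800 25 chkP_254800 i (by omega) (by omega)
                · skip
                  exact allRangeF_sound _ _ (checkPointF_eq cert) 254825 25 chkP_254825 i (by omega) (by omega)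
              · skip
                rcases Nat.lt_or_ge i 254875 with h8 | h8
                · skip
                  exact allRangeF_sound _ _ (checkPointF_eq cert) 254850 25 chkP_254850 i (by omega) (by omega)
                · skip
                  rcases Nat.lt_or_ge i 254900 with h9 | h9
                  · skip
                    exact allRangeF_sound _ _ (checkPointF_eq cert) 254875 25 chkP_254875 i (by omega) (by omega)
                  · skip
                    exact allRangeF_sound _ _ (checkPointF_eq cert) 254900 25 chkP_254900 i (by omega) (by omega)
          · skip
            rcases Nat.lt_or_ge i 255050 with h6 | h6
            · skip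
              rcases Nat.lt_or_ge i 254975 with h7 | h7
              · skip
                rcases Nat.lt_or_ge i 254950 with h8 | h8
                · skip
                  exact allRangeF_sound _ _ (checkPointF_eq cert) 254925 25 chkP_254925 i (by omega) (by omega)
                · skip
                  exact allRangeF_sound _ _ (checkPointF_eq cert) 254950 25 chkP_254950 i (by omega) (by omega)
              · skip
                rcases Nat.lt_or_ge i 255000 with h8 | h8
                · skip
                  exact allRangeF_sound _ _ (checkPointF_eq cert) 254975 25 chkP_254975 i (by omega) (by omega)
                · skip
                  rcases Nat.lt_or_ge i 255025 with h9 | h9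
                  · skip
                    exact allRangeF_sound _ _ (checkPointF_eq cert) 255000 25 chkP_255000 i (by omega) (by omega)
                  · skip
                    exact allRangeF_sound _ _ (checkPointF_eq cert) 255025 25 chkP_255025 i (by omega) (by omega)
            · skip
              rcases Nat.lt_or_ge i 255100 with h7 | h7
              · skip
                rcases Nat.lt_or_ge i 255075 with h8 | h8
                · skip
                  exact allRangeF_sound _ _ (checkPointF_eq cert) 255050 25 chkP_255050 i (by omega) (by omega)
                · skip
                  exact allRangeF_sound _ _ (checkPointF_eq cert) 255075 25 chkP_255075 i (by omega) (by omega)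
              · skip
                rcases Nat.lt_or_ge i 255125 with h8 | h8
                · skip
                  exact allRangeF_sound _ _ (checkPointF_eq cert) 255100 25 chkP_255100 i (by omega) (by omega)
                · skip
                  rcases Nat.lt_or_ge i 255150 with h9 | h9
                  · skip
                    exact allRangeF_sound _ _ (checkPointF_eq cert) 255125 25 chkP_255125 i (by omega) (by omega)
                  · skip
                    exact allRangeF_sound _ _ (checkPointF_eq cert) 255150 25 chkP_255150 i (by omega) (by omega)
    · skip
      rcases Nat.lt_or_ge i 256125 with h3 | h3
      · skip
        rcases Nat.lt_or_ge i 255650 with h4 | h4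
        · skip
          rcases Nat.lt_or_ge i 255400 with h5 | h5
          · skip
            rcases Nat.lt_or_ge i 255275 with h6 | h6
            · skip
              rcases Nat.lt_or_ge i 255225 with h7 | h7
              · skip
                rcases Nat.lt_or_ge i 255200 with h8 | h8
                · skip
                  exact allRangeF_sound _ _ (checkPointF_eq cert) 255175 25 chkP_255175 i (by omega) (by omega)
                · skip
                  exact allRangeF_sound _ _ (checkPointF_eq cert) 255200 25 chkP_255200 i (by omega) (by omega)
              · skip
                rcases Nat.lt_or_ge i 255250 with h8 | h8
                · skip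
                  exact allRangeF_sound _ _ (checkPointF_eq cert) 255225 25 chkP_255225 i (by omega) (by omega)
                · skip
                  exact allRangeF_sound _ _ (checkPointF_eq cert) 255250 25 chkP_255250 i (by omega) (by omega)
            · skip
              rcases Nat.lt_or_ge i 255325 with h7 | h7
              · skip
                rcases Nat.lt_or_ge i 255300 with h8 | h8
                · skip
                  exact allRangeF_sound _ _ (checkPointF_eq cert) 255275 25 chkP_255275 i (by omega) (by omega)
                · skip
                  exact allRangeF_sound _ _ (checkPointF_eq cert) 255300 25 chkP_255300 i (by omega) (by omega)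
              · skip
                rcases Nat.lt_or_ge i 255350 with h8 | h8
                · skip
                  exact allRangeF_sound _ _ (checkPointF_eq cert) 255325 25 chkP_255325 i (by omega) (by omega)
                · skip
                  rcases Nat.lt_or_ge i 255375 with h9 | h9
                  · skip
                    exact allRangeF_sound _ _ (checkPointF_eq cert) 255350 25 chkP_255350 i (by omega) (by omega)
                  · skip
                    exact allRangeF_sound _ _ (checkPointF_eq cert) 255375 25 chkP_255375 i (by omega) (by omega)
          · skip
            rcases Nat.lt_or_ge i 255525 with h6 | h6
            · skip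
              rcases Nat.lt_or_ge i 255450 with h7 | h7
              · skip
                rcases Nat.lt_or_ge i 255425 with h8 | h8
                · skip
                  exact allRangeF_sound _ _ (checkPointF_eq cert) 255400 25 chkP_255400 i (by omega) (by omega)
                · skip
                  exact allRangeF_sound _ _ (checkPointF_eq cert) 255425 25 chkP_255425 i (by omega) (by omega)
              · skip
                rcases Nat.lt_or_ge i 255475 with h8 | h8
                · skip
                  exact allRangeF_sound _ _ (checkPointF_eq cert) 255450 25 chkP_255450 i (by omega) (by omega)
                · skip
                  rcases Nat.lt_or_ge i 255500 with h9 | h9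
                  · skip
                    exact allRangeF_sound _ _ (checkPointF_eq cert) 255475 25 chkP_255475 i (by omega) (by omega)
                  · skip
                    exact allRangeF_sound _ _ (checkPointF_eq cert) 255500 25 chkP_255500 i (by omega) (by omega)
            · skip
              rcases Nat.lt_or_ge i 255575 with h7 | h7
              · skip
                rcases Nat.lt_or_ge i 255550 with h8 | h8
                · skip
                  exact allRangeF_sound _ _ (checkPointF_eq cert) 255525 25 chkP_255525 i (by omega) (by omega)
                · skip
                  exact allRangeF_sound _ _ (checkPointF_eq cert) 255550 25 chkP_255550 i (by omega) (by omega)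
              · skip
                rcases Nat.lt_or_ge i 255600 with h8 | h8
                · skip
                  exact allRangeF_sound _ _ (checkPointF_eq cert) 255575 25 chkP_255575 i (by omega) (by omega)
                · skip
                  rcases Nat.lt_or_ge i 255625 with h9 | h9
                  · skip
                    exact allRangeF_sound _ _ (checkPointF_eq cert) 255600 25 chkP_255600 i (by omega) (by omega)
                  · skip
                    exact allRangeF_sound _ _ (checkPointF_eq cert) 255625 25 chkP_255625 i (by omega) (by omega)
        · skip
          rcases Nat.lt_or_ge i 255875 with h5 | h5
          · skip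
            rcases Nat.lt_or_ge i 255750 with h6 | h6
            · skip
              rcases Nat.lt_or_ge i 255700 with h7 | h7
              · skip
                rcases Nat.lt_or_ge i 255675 with h8 | h8
                · skip
                  exact allRangeF_sound _ _ (checkPointF_eq cert) 255650 25 chkP_255650 i (by omega) (by omega)
                · skip
                  exact allRangeF_sound _ _ (checkPointF_eq cert) 255675 25 chkP_255675 i (by omega) (by omega)
              · skip
                rcases Nat.lt_or_ge i 255725 with h8 | h8
                · skip
                  exact allRangeF_sound _ _ (checkPointF_eq cert) 255700 25 chkP_255700 i (by omega) (by omega)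
                · skip
                  exact allRangeF_sound _ _ (checkPointF_eq cert) 255725 25 chkP_255725 i (by omega) (by omega)
            · skip
              rcases Nat.lt_or_ge i 255800 with h7 | h7
              · skip
                rcases Nat.lt_or_ge i 255775 with h8 | h8
                · skip
                  exact allRangeF_sound _ _ (checkPointF_eq cert) 255750 25 chkP_255750 i (by omega) (by omega)
                · skip
                  exact allRangeF_sound _ _ (checkPointF_eq cert) 255775 25 chkP_255775 i (by omega) (by omega)
              · skip
                rcases Nat.lt_or_ge i 255825 with h8 | h8
                · skip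
                  exact allRangeF_sound _ _ (checkPointF_eq cert) 255800 25 chkP_255800 i (by omega) (by omega)
                · skip
                  rcases Nat.lt_or_ge i 255850 with h9 | h9
                  · skip
                    exact allRangeF_sound _ _ (checkPointF_eq cert) 255825 25 chkP_255825 i (by omega) (by omega)
                  · skip
                    exact allRangeF_sound _ _ (checkPointF_eq cert) 255850 25 chkP_255850 i (by omega) (by omega)
          · skip
            rcases Nat.lt_or_ge i 256000 with h6 | h6
            · skip
              rcases Nat.lt_or_ge i 255925 with h7 | h7
              · skip
                rcases Nat.lt_or_ge i 255900 with h8 | h8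
                · skip
                  exact allRangeF_sound _ _ (checkPointF_eq cert) 255875 25 chkP_255875 i (by omega) (by omega)
                · skip
                  exact allRangeF_sound _ _ (checkPointF_eq cert) 255900 25 chkP_255900 i (by omega) (by omega)
              · skip
                rcases Nat.lt_or_ge i 255950 with h8 | h8
                · skip
                  exact allRangeF_sound _ _ (checkPointF_eq cert) 255925 25 chkP_255925 i (by omega) (by omega)
                · skip
                  rcases Nat.lt_or_ge i 255975 with h9 | h9
                  · skip
                    exact allRangeF_sound _ _ (checkPointF_eq cert) 255950 25 chkP_255950 i (by omega) (by omega)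
                  · skip
                    exact allRangeF_sound _ _ (checkPointF_eq cert) 255975 25 chkP_255975 i (by omega) (by omega)
            · skip
              rcases Nat.lt_or_ge i 256050 with h7 | h7
              · skip
                rcases Nat.lt_or_ge i 256025 with h8 | h8
                · skip
                  exact allRangeF_sound _ _ (checkPointF_eq cert) 256000 25 chkP_256000 i (by omega) (by omega)
                · skip
                  exact allRangeF_sound _ _ (checkPointF_eq cert) 256025 25 chkP_256025 i (by omega) (by omega)
              · skip
                rcases Nat.lt_or_ge i 256075 with h8 | h8
                · skip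
                  exact allRangeF_sound _ _ (checkPointF_eq cert) 256050 25 chkP_256050 i (by omega) (by omega)
                · skip
                  rcases Nat.lt_or_ge i 256100 with h9 | h9
                  · skip
                    exact allRangeF_sound _ _ (checkPointF_eq cert) 256075 25 chkP_256075 i (by omega) (by omega)
                  · skip
                    exact allRangeF_sound _ _ (checkPointF_eq cert) 256100 25 chkP_256100 i (by omega) (by omega)
      · skip
        rcases Nat.lt_or_ge i 256600 with h4 | h4
        · skip
          rcases Nat.lt_or_ge i 256350 with h5 | h5
          · skip
            rcases Nat.lt_or_ge i 256225 with h6 | h6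
            · skip
              rcases Nat.lt_or_ge i 256175 with h7 | h7
              · skip
                rcases Nat.lt_or_ge i 256150 with h8 | h8
                · skip
                  exact allRangeF_sound _ _ (checkPointF_eq cert) 256125 25 chkP_256125 i (by omega) (by omega)
                · skip
                  exact allRangeF_sound _ _ (checkPointF_eq cert) 256150 25 chkP_256150 i (by omega) (by omega)
              · skip
                rcases Nat.lt_or_ge i 256200 with h8 | h8
                · skip
                  exact allRangeF_sound _ _ (checkPointF_eq cert) 256175 25 chkP_256175 i (by omega) (by omega)
                · skip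
                  exact allRangeF_sound _ _ (checkPointF_eq cert) 256200 25 chkP_256200 i (by omega) (by omega)
            · skip
              rcases Nat.lt_or_ge i 256275 with h7 | h7
              · skip
                rcases Nat.lt_or_ge i 256250 with h8 | h8
                · skip
                  exact allRangeF_sound _ _ (checkPointF_eq cert) 256225 25 chkP_256225 i (by omega) (by omega)
                · skip
                  exact allRangeF_sound _ _ (checkPointF_eq cert) 256250 25 chkP_256250 i (by omega) (by omega)
              · skip
                rcases Nat.lt_or_ge i 256300 with h8 | h8
                · skip
                  exact allRangeF_sound _ _ (checkPointF_eq cert) 256275 25 chkP_256275 i (by omega) (by omega)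
                · skip
                  rcases Nat.lt_or_ge i 256325 with h9 | h9
                  · skip
                    exact allRangeF_sound _ _ (checkPointF_eq cert) 256300 25 chkP_256300 i (by omega) (by omega)
                  · skip
                    exact allRangeF_sound _ _ (checkPointF_eq cert) 256325 25 chkP_256325 i (by omega) (by omega)
          · skip
            rcases Nat.lt_or_ge i 256475 with h6 | h6
            · skip
              rcases Nat.lt_or_ge i 256400 with h7 | h7
              · skip
                rcases Nat.lt_or_ge i 256375 with h8 | h8
                · skip
                  exact allRangeF_sound _ _ (checkPointF_eq cert) 256350 25 chkP_256350 i (by omega) (by omega)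
                · skip
                  exact allRangeF_sound _ _ (checkPointF_eq cert) 256375 25 chkP_256375 i (by omega) (by omega)
              · skip
                rcases Nat.lt_or_ge i 256425 with h8 | h8
                · skip
                  exact allRangeF_sound _ _ (checkPointF_eq cert) 256400 25 chkP_256400 i (by omega) (by omega)
                · skip
                  rcases Nat.lt_or_ge i 256450 with h9 | h9
                  · skip
                    exact allRangeF_sound _ _ (checkPointF_eq cert) 256425 25 chkP_256425 i (by omega) (by omega)
                  · skip
                    exact allRangeF_sound _ _ (checkPointF_eq cert) 256450 25 chkP_256450 i (by omega) (by omega)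
            · skip
              rcases Nat.lt_or_ge i 256525 with h7 | h7
              · skip
                rcases Nat.lt_or_ge i 256500 with h8 | h8
                · skip
                  exact allRangeF_sound _ _ (checkPointF_eq cert) 256475 25 chkP_256475 i (by omega) (by omega)
                · skip
                  exact allRangeF_sound _ _ (checkPointF_eq cert) 256500 25 chkP_256500 i (by omega) (by omega)
              · skip
                rcases Nat.lt_or_ge i 256550 with h8 | h8
                · skip
                  exact allRangeF_sound _ _ (checkPointF_eq cert) 256525 25 chkP_256525 i (by omega) (by omega)
                · skip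
                  rcases Nat.lt_or_ge i 256575 with h9 | h9
                  · skip
                    exact allRangeF_sound _ _ (checkPointF_eq cert) 256550 25 chkP_256550 i (by omega) (by omega)
                  · skip
                    exact allRangeF_sound _ _ (checkPointF_eq cert) 256575 25 chkP_256575 i (by omega) (by omega)
        · skip
          rcases Nat.lt_or_ge i 256850 with h5 | h5
          · skip
            rcases Nat.lt_or_ge i 256725 with h6 | h6
            · skip
              rcases Nat.lt_or_ge i 256650 with h7 | h7
              · skip
                rcases Nat.lt_or_ge i 256625 with h8 | h8
                · skip
                  exact allRangeF_sound _ _ (checkPointF_eq cert) 256600 25 chkP_256600 i (by omega) (by omega)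
                · skip
                  exact allRangeF_sound _ _ (checkPointF_eq cert) 256625 25 chkP_256625 i (by omega) (by omega)
              · skip
                rcases Nat.lt_or_ge i 256675 with h8 | h8
                · skip
                  exact allRangeF_sound _ _ (checkPointF_eq cert) 256650 25 chkP_256650 i (by omega) (by omega)
                · skip
                  rcases Nat.lt_or_ge i 256700 with h9 | h9
                  · skip
                    exact allRangeF_sound _ _ (checkPointF_eq cert) 256675 25 chkP_256675 i (by omega) (by omega)
                  · skip
                    exact allRangeF_sound _ _ (checkPointF_eq cert) 256700 25 chkP_256700 i (by omega) (by omega)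
            · skip
              rcases Nat.lt_or_ge i 256775 with h7 | h7
              · skip
                rcases Nat.lt_or_ge i 256750 with h8 | h8
                · skip
                  exact allRangeF_sound _ _ (checkPointF_eq cert) 256725 25 chkP_256725 i (by omega) (by omega)
                · skip
                  exact allRangeF_sound _ _ (checkPointF_eq cert) 256750 25 chkP_256750 i (by omega) (by omega)
              · skip
                rcases Nat.lt_or_ge i 256800 with h8 | h8
                · skip
                  exact allRangeF_sound _ _ (checkPointF_eq cert) 256775 25 chkP_256775 i (by omega) (by omega)
                · skip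
                  rcases Nat.lt_or_ge i 256825 with h9 | h9
                  · skip
                    exact allRangeF_sound _ _ (checkPointF_eq cert) 256800 25 chkP_256800 i (by omega) (by omega)
                  · skip
                    exact allRangeF_sound _ _ (checkPointF_eq cert) 256825 25 chkP_256825 i (by omega) (by omega)
          · skip
            rcases Nat.lt_or_ge i 256975 with h6 | h6
            · skip
              rcases Nat.lt_or_ge i 256900 with h7 | h7
              · skip
                rcases Nat.lt_or_ge i 256875 with h8 | h8
                · skip
                  exact allRangeF_sound _ _ (checkPointF_eq cert) 256850 25 chkP_256850 i (by omega) (by omega)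
                · skip
                  exact allRangeF_sound _ _ (checkPointF_eq cert) 256875 25 chkP_256875 i (by omega) (by omega)
              · skip
                rcases Nat.lt_or_ge i 256925 with h8 | h8
                · skip
                  exact allRangeF_sound _ _ (checkPointF_eq cert) 256900 25 chkP_256900 i (by omega) (by omega)
                · skip
                  rcases Nat.lt_or_ge i 256950 with h9 | h9
                  · skip
                    exact allRangeF_sound _ _ (checkPointF_eq cert) 256925 25 chkP_256925 i (by omega) (by omega)
                  · skip
                    exact allRangeF_sound _ _ (checkPointF_eq cert) 256950 25 chkP_256950 i (by omega) (by omega)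
            · skip
              rcases Nat.lt_or_ge i 257025 with h7 | h7
              · skip
                rcases Nat.lt_or_ge i 257000 with h8 | h8
                · skip
                  exact allRangeF_sound _ _ (checkPointF_eq cert) 256975 25 chkP_256975 i (by omega) (by omega)
                · skip
                  exact allRangeF_sound _ _ (checkPointF_eq cert) 257000 25 chkP_257000 i (by omega) (by omega)
              · skip
                rcases Nat.lt_or_ge i 257050 with h8 | h8
                · skip
                  exact allRangeF_sound _ _ (checkPointF_eq cert) 257025 25 chkP_257025 i (by omega) (by omega)
                · skip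
                  rcases Nat.lt_or_ge i 257075 with h9 | h9
                  · skip
                    exact allRangeF_sound _ _ (checkPointF_eq cert) 257050 25 chkP_257050 i (by omega) (by omega)
                  · skip
                    exact allRangeF_sound _ _ (checkPointF_eq cert) 257075 25 chkP_257075 i (by omega) (by omega)
  · skip
    rcases Nat.lt_or_ge i 259025 with h2 | h2
    · skip
      rcases Nat.lt_or_ge i 258050 with h3 | h3
      · skip
        rcases Nat.lt_or_ge i 257575 with h4 | h4
        · skip
          rcases Nat.lt_or_ge i 257325 with h5 | h5
          · skip
            rcases Nat.lt_or_ge i 257200 with h6 | h6
            · skip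
              rcases Nat.lt_or_ge i 257150 with h7 | h7
              · skip
                rcases Nat.lt_or_ge i 257125 with h8 | h8
                · skip
                  exact allRangeF_sound _ _ (checkPointF_eq cert) 257100 25 chkP_257100 i (by omega) (by omega)
                · skip
                  exact allRangeF_sound _ _ (checkPointF_eq cert) 257125 25 chkP_257125 i (by omega) (by omega)
              · skip
                rcases Nat.lt_or_ge i 257175 with h8 | h8
                · skip
                  exact allRangeF_sound _ _ (checkPointF_eq cert) 257150 25 chkP_257150 i (by omega) (by omega)
                · skip
                  exact allRangeF_sound _ _ (checkPointF_eq cert) 257175 25 chkP_257175 i (by omega) (by omega)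
            · skip
              rcases Nat.lt_or_ge i 257250 with h7 | h7
              · skip
                rcases Nat.lt_or_ge i 257225 with h8 | h8
                · skip
                  exact allRangeF_sound _ _ (checkPointF_eq cert) 257200 25 chkP_257200 i (by omega) (by omega)
                · skip
                  exact allRangeF_sound _ _ (checkPointF_eq cert) 257225 25 chkP_257225 i (by omega) (by omega)
              · skip
                rcases Nat.lt_or_ge i 257275 with h8 | h8
                · skip
                  exact allRangeF_sound _ _ (checkPointF_eq cert) 257250 25 chkP_257250 i (by omega) (by omega)
                · skip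
                  rcases Nat.lt_or_ge i 257300 with h9 | h9
                  · skip
                    exact allRangeF_sound _ _ (checkPointF_eq cert) 257275 25 chkP_257275 i (by omega) (by omega)
                  · skip
                    exact allRangeF_sound _ _ (checkPointF_eq cert) 257300 25 chkP_257300 i (by omega) (by omega)
          · skip
            rcases Nat.lt_or_ge i 257450 with h6 | h6
            · skip
              rcases Nat.lt_or_ge i 257375 with h7 | h7
              · skip
                rcases Nat.lt_or_ge i 257350 with h8 | h8
                · skip
                  exact allRangeF_sound _ _ (checkPointF_eq cert) 257325 25 chkP_257325 i (by omega) (by omega)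
                · skip
                  exact allRangeF_sound _ _ (checkPointF_eq cert) 257350 25 chkP_257350 i (by omega) (by omega)
              · skip
                rcases Nat.lt_or_ge i 257400 with h8 | h8
                · skip
                  exact allRangeF_sound _ _ (checkPointF_eq cert) 257375 25 chkP_257375 i (by omega) (by omega)
                · skip
                  rcases Nat.lt_or_ge i 257425 with h9 | h9
                  · skip
                    exact allRangeF_sound _ _ (checkPointF_eq cert) 257400 25 chkP_257400 i (by omega) (by omega)
                  · skip
                    exact allRangeF_sound _ _ (checkPointF_eq cert) 257425 25 chkP_257425 i (by omega) (by omega)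
            · skip
              rcases Nat.lt_or_ge i 257500 with h7 | h7
              · skip
                rcases Nat.lt_or_ge i 257475 with h8 | h8
                · skip
                  exact allRangeF_sound _ _ (checkPointF_eq cert) 257450 25 chkP_257450 i (by omega) (by omega)
                · skip
                  exact allRangeF_sound _ _ (checkPointF_eq cert) 257475 25 chkP_257475 i (by omega) (by omega)
              · skip
                rcases Nat.lt_or_ge i 257525 with h8 | h8
                · skip
                  exact allRangeF_sound _ _ (checkPointF_eq cert) 257500 25 chkP_257500 i (by omega) (by omega)
                · skip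
                  rcases Nat.lt_or_ge i 257550 with h9 | h9
                  · skip
                    exact allRangeF_sound _ _ (checkPointF_eq cert) 257525 25 chkP_257525 i (by omega) (by omega)
                  · skip
                    exact allRangeF_sound _ _ (checkPointF_eq cert) 257550 25 chkP_257550 i (by omega) (by omega)
        · skip
          rcases Nat.lt_or_ge i 257800 with h5 | h5
          · skip
            rcases Nat.lt_or_ge i 257675 with h6 | h6
            · skip
              rcases Nat.lt_or_ge i 257625 with h7 | h7
              · skip
                rcases Nat.lt_or_ge i 257600 with h8 | h8
                · skip
                  exact allRangeF_sound _ _ (checkPointF_eq cert) 257575 25 chkP_257575 i (by omega) (by omega)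
                · skip
                  exact allRangeF_sound _ _ (checkPointF_eq cert) 257600 25 chkP_257600 i (by omega) (by omega)
              · skip
                rcases Nat.lt_or_ge i 257650 with h8 | h8
                · skip
                  exact allRangeF_sound _ _ (checkPointF_eq cert) 257625 25 chkP_257625 i (by omega) (by omega)
                · skip
                  exact allRangeF_sound _ _ (checkPointF_eq cert) 257650 25 chkP_257650 i (by omega) (by omega)
            · skip
              rcases Nat.lt_or_ge i 257725 with h7 | h7
              · skip
                rcases Nat.lt_or_ge i 257700 with h8 | h8
                · skip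
                  exact allRangeF_sound _ _ (checkPointF_eq cert) 257675 25 chkP_257675 i (by omega) (by omega)
                · skip
                  exact allRangeF_sound _ _ (checkPointF_eq cert) 257700 25 chkP_257700 i (by omega) (by omega)
              · skip
                rcases Nat.lt_or_ge i 257750 with h8 | h8
                · skip
                  exact allRangeF_sound _ _ (checkPointF_eq cert) 257725 25 chkP_257725 i (by omega) (by omega)
                · skip
                  rcases Nat.lt_or_ge i 257775 with h9 | h9
                  · skip
                    exact allRangeF_sound _ _ (checkPointF_eq cert) 257750 25 chkP_257750 i (by omega) (by omega)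
                  · skip
                    exact allRangeF_sound _ _ (checkPointF_eq cert) 257775 25 chkP_257775 i (by omega) (by omega)
          · skip
            rcases Nat.lt_or_ge i 257925 with h6 | h6
            · skip
              rcases Nat.lt_or_ge i 257850 with h7 | h7
              · skip
                rcases Nat.lt_or_ge i 257825 with h8 | h8
                · skip
                  exact allRangeF_sound _ _ (checkPointF_eq cert) 257800 25 chkP_257800 i (by omega) (by omega)
                · skip
                  exact allRangeF_sound _ _ (checkPointF_eq cert) 257825 25 chkP_257825 i (by omega) (by omega)
              · skip
                rcases Nat.lt_or_ge i 257875 with h8 | h8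
                · skip
                  exact allRangeF_sound _ _ (checkPointF_eq cert) 257850 25 chkP_257850 i (by omega) (by omega)
                · skip
                  rcases Nat.lt_or_ge i 257900 with h9 | h9
                  · skip
                    exact allRangeF_sound _ _ (checkPointF_eq cert) 257875 25 chkP_257875 i (by omega) (by omega)
                  · skip
                    exact allRangeF_sound _ _ (checkPointF_eq cert) 257900 25 chkP_257900 i (by omega) (by omega)
            · skip
              rcases Nat.lt_or_ge i 257975 with h7 | h7
              · skip
                rcases Nat.lt_or_ge i 257950 with h8 | h8
                · skip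
                  exact allRangeF_sound _ _ (checkPointF_eq cert) 257925 25 chkP_257925 i (by omega) (by omega)
                · skip
                  exact allRangeF_sound _ _ (checkPointF_eq cert) 257950 25 chkP_257950 i (by omega) (by omega)
              · skip
                rcases Nat.lt_or_ge i 258000 with h8 | h8
                · skip
                  exact allRangeF_sound _ _ (checkPointF_eq cert) 257975 25 chkP_257975 i (by omega) (by omega)
                · skip
                  rcases Nat.lt_or_ge i 258025 with h9 | h9
                  · skip
                    exact allRangeF_sound _ _ (checkPointF_eq cert) 258000 25 chkP_258000 i (by omega) (by omega)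
                  · skip
                    exact allRangeF_sound _ _ (checkPointF_eq cert) 258025 25 chkP_258025 i (by omega) (by omega)
      · skip
        rcases Nat.lt_or_ge i 258525 with h4 | h4
        · skip
          rcases Nat.lt_or_ge i 258275 with h5 | h5
          · skip
            rcases Nat.lt_or_ge i 258150 with h6 | h6
            · skip
              rcases Nat.lt_or_ge i 258100 with h7 | h7
              · skip
                rcases Nat.lt_or_ge i 258075 with h8 | h8
                · skip
                  exact allRangeF_sound _ _ (checkPointF_eq cert) 258050 25 chkP_258050 i (by omega) (by omega)
                · skip
                  exact allRangeF_sound _ _ (checkPointF_eq cert) 258075 25 chkP_258075 i (by omega) (by omega)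
              · skip
                rcases Nat.lt_or_ge i 258125 with h8 | h8
                · skip
                  exact allRangeF_sound _ _ (checkPointF_eq cert) 258100 25 chkP_258100 i (by omega) (by omega)
                · skip
                  exact allRangeF_sound _ _ (checkPointF_eq cert) 258125 25 chkP_258125 i (by omega) (by omega)
            · skip
              rcases Nat.lt_or_ge i 258200 with h7 | h7
              · skip
                rcases Nat.lt_or_ge i 258175 with h8 | h8
                · skip
                  exact allRangeF_sound _ _ (checkPointF_eq cert) 258150 25 chkP_258150 i (by omega) (by omega)
                · skip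
                  exact allRangeF_sound _ _ (checkPointF_eq cert) 258175 25 chkP_258175 i (by omega) (by omega)
              · skip
                rcases Nat.lt_or_ge i 258225 with h8 | h8
                · skip
                  exact allRangeF_sound _ _ (checkPointF_eq cert) 258200 25 chkP_258200 i (by omega) (by omega)
                · skip
                  rcases Nat.lt_or_ge i 258250 with h9 | h9
                  · skip
                    exact allRangeF_sound _ _ (checkPointF_eq cert) 258225 25 chkP_258225 i (by omega) (by omega)
                  · skip
                    exact allRangeF_sound _ _ (checkPointF_eq cert) 258250 25 chkP_258250 i (by omega) (by omega)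
          · skip
            rcases Nat.lt_or_ge i 258400 with h6 | h6
            · skip
              rcases Nat.lt_or_ge i 258325 with h7 | h7
              · skip
                rcases Nat.lt_or_ge i 258300 with h8 | h8
                · skip
                  exact allRangeF_sound _ _ (checkPointF_eq cert) 258275 25 chkP_258275 i (by omega) (by omega)
                · skip
                  exact allRangeF_sound _ _ (checkPointF_eq cert) 258300 25 chkP_258300 i (by omega) (by omega)
              · skip
                rcases Nat.lt_or_ge i 258350 with h8 | h8
                · skip
                  exact allRangeF_sound _ _ (checkPointF_eq cert) 258325 25 chkP_258325 i (by omega) (by omega)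
                · skip
                  rcases Nat.lt_or_ge i 258375 with h9 | h9
                  · skip
                    exact allRangeF_sound _ _ (checkPointF_eq cert) 258350 25 chkP_258350 i (by omega) (by omega)
                  · skip
                    exact allRangeF_sound _ _ (checkPointF_eq cert) 258375 25 chkP_258375 i (by omega) (by omega)
            · skip
              rcases Nat.lt_or_ge i 258450 with h7 | h7
              · skip
                rcases Nat.lt_or_ge i 258425 with h8 | h8
                · skip
                  exact allRangeF_sound _ _ (checkPointF_eq cert) 258400 25 chkP_258400 i (by omega) (by omega)
                · skip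
                  exact allRangeF_sound _ _ (checkPointF_eq cert) 258425 25 chkP_258425 i (by omega) (by omega)
              · skip
                rcases Nat.lt_or_ge i 258475 with h8 | h8
                · skip
                  exact allRangeF_sound _ _ (checkPointF_eq cert) 258450 25 chkP_258450 i (by omega) (by omega)
                · skip
                  rcases Nat.lt_or_ge i 258500 with h9 | h9
                  · skip
                    exact allRangeF_sound _ _ (checkPointF_eq cert) 258475 25 chkP_258475 i (by omega) (by omega)
                  · skip
                    exact allRangeF_sound _ _ (checkPointF_eq cert) 258500 25 chkP_258500 i (by omega) (by omega)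
        · skip
          rcases Nat.lt_or_ge i 258775 with h5 | h5
          · skip
            rcases Nat.lt_or_ge i 258650 with h6 | h6
            · skip
              rcases Nat.lt_or_ge i 258575 with h7 | h7
              · skip
                rcases Nat.lt_or_ge i 258550 with h8 | h8
                · skip
                  exact allRangeF_sound _ _ (checkPointF_eq cert) 258525 25 chkP_258525 i (by omega) (by omega)
                · skip
                  exact allRangeF_sound _ _ (checkPointF_eq cert) 258550 25 chkP_258550 i (by omega) (by omega)
              · skip
                rcases Nat.lt_or_ge i 258600 with h8 | h8
                · skip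
                  exact allRangeF_sound _ _ (checkPointF_eq cert) 258575 25 chkP_258575 i (by omega) (by omega)
                · skip
                  rcases Nat.lt_or_ge i 258625 with h9 | h9
                  · skip
                    exact allRangeF_sound _ _ (checkPointF_eq cert) 258600 25 chkP_258600 i (by omega) (by omega)
                  · skip
                    exact allRangeF_sound _ _ (checkPointF_eq cert) 258625 25 chkP_258625 i (by omega) (by omega)
            · skip
              rcases Nat.lt_or_ge i 258700 with h7 | h7
              · skip
                rcases Nat.lt_or_ge i 258675 with h8 | h8
                · skip
                  exact allRangeF_sound _ _ (checkPointF_eq cert) 258650 25 chkP_258650 i (by omega) (by omega)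
                · skip
                  exact allRangeF_sound _ _ (checkPointF_eq cert) 258675 25 chkP_258675 i (by omega) (by omega)
              · skip
                rcases Nat.lt_or_ge i 258725 with h8 | h8
                · skip
                  exact allRangeF_sound _ _ (checkPointF_eq cert) 258700 25 chkP_258700 i (by omega) (by omega)
                · skip
                  rcases Nat.lt_or_ge i 258750 with h9 | h9
                  · skip
                    exact allRangeF_sound _ _ (checkPointF_eq cert) 258725 25 chkP_258725 i (by omega) (by omega)
                  · skip
                    exact allRangeF_sound _ _ (checkPointF_eq cert) 258750 25 chkP_258750 i (by omega) (by omega)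
          · skip
            rcases Nat.lt_or_ge i 258900 with h6 | h6
            · skip
              rcases Nat.lt_or_ge i 258825 with h7 | h7
              · skip
                rcases Nat.lt_or_ge i 258800 with h8 | h8
                · skip
                  exact allRangeF_sound _ _ (checkPointF_eq cert) 258775 25 chkP_258775 i (by omega) (by omega)
                · skip
                  exact allRangeF_sound _ _ (checkPointF_eq cert) 258800 25 chkP_258800 i (by omega) (by omega)
              · skip
                rcases Nat.lt_or_ge i 258850 with h8 | h8
                · skip
                  exact allRangeF_sound _ _ (checkPointF_eq cert) 258825 25 chkP_258825 i (by omega) (by omega)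
                · skip
                  rcases Nat.lt_or_ge i 258875 with h9 | h9
                  · skip
                    exact allRangeF_sound _ _ (checkPointF_eq cert) 258850 25 chkP_258850 i (by omega) (by omega)
                  · skip
                    exact allRangeF_sound _ _ (checkPointF_eq cert) 258875 25 chkP_258875 i (by omega) (by omega)
            · skip
              rcases Nat.lt_or_ge i 258950 with h7 | h7
              · skip
                rcases Nat.lt_or_ge i 258925 with h8 | h8
                · skip
                  exact allRangeF_sound _ _ (checkPointF_eq cert) 258900 25 chkP_258900 i (by omega) (by omega)
                · skip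
                  exact allRangeF_sound _ _ (checkPointF_eq cert) 258925 25 chkP_258925 i (by omega) (by omega)
              · skip
                rcases Nat.lt_or_ge i 258975 with h8 | h8
                · skip
                  exact allRangeF_sound _ _ (checkPointF_eq cert) 258950 25 chkP_258950 i (by omega) (by omega)
                · skip
                  rcases Nat.lt_or_ge i 259000 with h9 | h9
                  · skip
                    exact allRangeF_sound _ _ (checkPointF_eq cert) 258975 25 chkP_258975 i (by omega) (by omega)
                  · skip
                    exact allRangeF_sound _ _ (checkPointF_eq cert) 259000 25 chkP_259000 i (by omega) (by omega)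
    · skip
      rcases Nat.lt_or_ge i 259975 with h3 | h3
      · skip
        rcases Nat.lt_or_ge i 259500 with h4 | h4
        · skip
          rcases Nat.lt_or_ge i 259250 with h5 | h5
          · skip
            rcases Nat.lt_or_ge i 259125 with h6 | h6
            · skip
              rcases Nat.lt_or_ge i 259075 with h7 | h7
              · skip
                rcases Nat.lt_or_ge i 259050 with h8 | h8
                · skip
                  exact allRangeF_sound _ _ (checkPointF_eq cert) 259025 25 chkP_259025 i (by omega) (by omega)
                · skip
                  exact allRangeF_sound _ _ (checkPointF_eq cert) 259050 25 chkP_259050 i (by omega) (by omega)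
              · skip
                rcases Nat.lt_or_ge i 259100 with h8 | h8
                · skip
                  exact allRangeF_sound _ _ (checkPointF_eq cert) 259075 25 chkP_259075 i (by omega) (by omega)
                · skip
                  exact allRangeF_sound _ _ (checkPointF_eq cert) 259100 25 chkP_259100 i (by omega) (by omega)
            · skip
              rcases Nat.lt_or_ge i 259175 with h7 | h7
              · skip
                rcases Nat.lt_or_ge i 259150 with h8 | h8
                · skip
                  exact allRangeF_sound _ _ (checkPointF_eq cert) 259125 25 chkP_259125 i (by omega) (by omega)
                · skip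
                  exact allRangeF_sound _ _ (checkPointF_eq cert) 259150 25 chkP_259150 i (by omega) (by omega)
              · skip
                rcases Nat.lt_or_ge i 259200 with h8 | h8
                · skip
                  exact allRangeF_sound _ _ (checkPointF_eq cert) 259175 25 chkP_259175 i (by omega) (by omega)
                · skip
                  rcases Nat.lt_or_ge i 259225 with h9 | h9
                  · skip
                    exact allRangeF_sound _ _ (checkPointF_eq cert) 259200 25 chkP_259200 i (by omega) (by omega)
                  · skip
                    exact allRangeF_sound _ _ (checkPointF_eq cert) 259225 25 chkP_259225 i (by omega) (by omega)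
          · skip
            rcases Nat.lt_or_ge i 259375 with h6 | h6
            · skip
              rcases Nat.lt_or_ge i 259300 with h7 | h7
              · skip
                rcases Nat.lt_or_ge i 259275 with h8 | h8
                · skip
                  exact allRangeF_sound _ _ (checkPointF_eq cert) 259250 25 chkP_259250 i (by omega) (by omega)
                · skip
                  exact allRangeF_sound _ _ (checkPointF_eq cert) 259275 25 chkP_259275 i (by omega) (by omega)
              · skip
                rcases Nat.lt_or_ge i 259325 with h8 | h8
                · skip
                  exact allRangeF_sound _ _ (checkPointF_eq cert) 259300 25 chkP_259300 i (by omega) (by omega)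
                · skip
                  rcases Nat.lt_or_ge i 259350 with h9 | h9
                  · skip
                    exact allRangeF_sound _ _ (checkPointF_eq cert) 259325 25 chkP_259325 i (by omega) (by omega)
                  · skip
                    exact allRangeF_sound _ _ (checkPointF_eq cert) 259350 25 chkP_259350 i (by omega) (by omega)
            · skip
              rcases Nat.lt_or_ge i 259425 with h7 | h7
              · skip
                rcases Nat.lt_or_ge i 259400 with h8 | h8
                · skip
                  exact allRangeF_sound _ _ (checkPointF_eq cert) 259375 25 chkP_259375 i (by omega) (by omega)
                · skip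
                  exact allRangeF_sound _ _ (checkPointF_eq cert) 259400 25 chkP_259400 i (by omega) (by omega)
              · skip
                rcases Nat.lt_or_ge i 259450 with h8 | h8
                · skip
                  exact allRangeF_sound _ _ (checkPointF_eq cert) 259425 25 chkP_259425 i (by omega) (by omega)
                · skip
                  rcases Nat.lt_or_ge i 259475 with h9 | h9
                  · skip
                    exact allRangeF_sound _ _ (checkPointF_eq cert) 259450 25 chkP_259450 i (by omega) (by omega)
                  · skip
                    exact allRangeF_sound _ _ (checkPointF_eq cert) 259475 25 chkP_259475 i (by omega) (by omega)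
        · skip
          rcases Nat.lt_or_ge i 259725 with h5 | h5
          · skip
            rcases Nat.lt_or_ge i 259600 with h6 | h6
            · skip
              rcases Nat.lt_or_ge i 259550 with h7 | h7
              · skip
                rcases Nat.lt_or_ge i 259525 with h8 | h8
                · skip
                  exact allRangeF_sound _ _ (checkPointF_eq cert) 259500 25 chkP_259500 i (by omega) (by omega)
                · skip
                  exact allRangeF_sound _ _ (checkPointF_eq cert) 259525 25 chkP_259525 i (by omega) (by omega)
              · skip
                rcases Nat.lt_or_ge i 259575 with h8 | h8
                · skip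
                  exact allRangeF_sound _ _ (checkPointF_eq cert) 259550 25 chkP_259550 i (by omega) (by omega)
                · skip
                  exact allRangeF_sound _ _ (checkPointF_eq cert) 259575 25 chkP_259575 i (by omega) (by omega)
            · skip
              rcases Nat.lt_or_ge i 259650 with h7 | h7
              · skip
                rcases Nat.lt_or_ge i 259625 with h8 | h8
                · skip
                  exact allRangeF_sound _ _ (checkPointF_eq cert) 259600 25 chkP_259600 i (by omega) (by omega)
                · skip
                  exact allRangeF_sound _ _ (checkPointF_eq cert) 259625 25 chkP_259625 i (by omega) (by omega)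
              · skip
                rcases Nat.lt_or_ge i 259675 with h8 | h8
                · skip
                  exact allRangeF_sound _ _ (checkPointF_eq cert) 259650 25 chkP_259650 i (by omega) (by omega)
                · skip
                  rcases Nat.lt_or_ge i 259700 with h9 | h9
                  · skip
                    exact allRangeF_sound _ _ (checkPointF_eq cert) 259675 25 chkP_259675 i (by omega) (by omega)
                  · skip
                    exact allRangeF_sound _ _ (checkPointF_eq cert) 259700 25 chkP_259700 i (by omega) (by omega)
          · skip
            rcases Nat.lt_or_ge i 259850 with h6 | h6
            · skip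
              rcases Nat.lt_or_ge i 259775 with h7 | h7
              · skip
                rcases Nat.lt_or_ge i 259750 with h8 | h8
                · skip
                  exact allRangeF_sound _ _ (checkPointF_eq cert) 259725 25 chkP_259725 i (by omega) (by omega)
                · skip
                  exact allRangeF_sound _ _ (checkPointF_eq cert) 259750 25 chkP_259750 i (by omega) (by omega)
              · skip
                rcases Nat.lt_or_ge i 259800 with h8 | h8
                · skip
                  exact allRangeF_sound _ _ (checkPointF_eq cert) 259775 25 chkP_259775 i (by omega) (by omega)
                · skip
                  rcases Nat.lt_or_ge i 259825 with h9 | h9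
                  · skip
                    exact allRangeF_sound _ _ (checkPointF_eq cert) 259800 25 chkP_259800 i (by omega) (by omega)
                  · skip
                    exact allRangeF_sound _ _ (checkPointF_eq cert) 259825 25 chkP_259825 i (by omega) (by omega)
            · skip
              rcases Nat.lt_or_ge i 259900 with h7 | h7
              · skip
                rcases Nat.lt_or_ge i 259875 with h8 | h8
                · skip
                  exact allRangeF_sound _ _ (checkPointF_eq cert) 259850 25 chkP_259850 i (by omega) (by omega)
                · skip
                  exact allRangeF_sound _ _ (checkPointF_eq cert) 259875 25 chkP_259875 i (by omega) (by omega)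
              · skip
                rcases Nat.lt_or_ge i 259925 with h8 | h8
                · skip
                  exact allRangeF_sound _ _ (checkPointF_eq cert) 259900 25 chkP_259900 i (by omega) (by omega)
                · skip
                  rcases Nat.lt_or_ge i 259950 with h9 | h9
                  · skip
                    exact allRangeF_sound _ _ (checkPointF_eq cert) 259925 25 chkP_259925 i (by omega) (by omega)
                  · skip
                    exact allRangeF_sound _ _ (checkPointF_eq cert) 259950 25 chkP_259950 i (by omega) (by omega)
      · skip
        rcases Nat.lt_or_ge i 260450 with h4 | h4
        · skip
          rcases Nat.lt_or_ge i 260200 with h5 | h5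
          · skip
            rcases Nat.lt_or_ge i 260075 with h6 | h6
            · skip
              rcases Nat.lt_or_ge i 260025 with h7 | h7
              · skip
                rcases Nat.lt_or_ge i 260000 with h8 | h8
                · skip
                  exact allRangeF_sound _ _ (checkPointF_eq cert) 259975 25 chkP_259975 i (by omega) (by omega)
                · skip
                  exact allRangeF_sound _ _ (checkPointF_eq cert) 260000 25 chkP_260000 i (by omega) (by omega)
              · skip
                rcases Nat.lt_or_ge i 260050 with h8 | h8
                · skip
                  exact allRangeF_sound _ _ (checkPointF_eq cert) 260025 25 chkP_260025 i (by omega) (by omega)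
                · skip
                  exact allRangeF_sound _ _ (checkPointF_eq cert) 260050 25 chkP_260050 i (by omega) (by omega)
            · skip
              rcases Nat.lt_or_ge i 260125 with h7 | h7
              · skip
                rcases Nat.lt_or_ge i 260100 with h8 | h8
                · skip
                  exact allRangeF_sound _ _ (checkPointF_eq cert) 260075 25 chkP_260075 i (by omega) (by omega)
                · skip
                  exact allRangeF_sound _ _ (checkPointF_eq cert) 260100 25 chkP_260100 i (by omega) (by omega)
              · skip
                rcases Nat.lt_or_ge i 260150 with h8 | h8
                · skip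
                  exact allRangeF_sound _ _ (checkPointF_eq cert) 260125 25 chkP_260125 i (by omega) (by omega)
                · skip
                  rcases Nat.lt_or_ge i 260175 with h9 | h9
                  · skip
                    exact allRangeF_sound _ _ (checkPointF_eq cert) 260150 25 chkP_260150 i (by omega) (by omega)
                  · skip
                    exact allRangeF_sound _ _ (checkPointF_eq cert) 260175 25 chkP_260175 i (by omega) (by omega)
          · skip
            rcases Nat.lt_or_ge i 260325 with h6 | h6
            · skip
              rcases Nat.lt_or_ge i 260250 with h7 | h7
              · skip
                rcases Nat.lt_or_ge i 260225 with h8 | h8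
                · skip
                  exact allRangeF_sound _ _ (checkPointF_eq cert) 260200 25 chkP_260200 i (by omega) (by omega)
                · skip
                  exact allRangeF_sound _ _ (checkPointF_eq cert) 260225 25 chkP_260225 i (by omega) (by omega)
              · skip
                rcases Nat.lt_or_ge i 260275 with h8 | h8
                · skip
                  exact allRangeF_sound _ _ (checkPointF_eq cert) 260250 25 chkP_260250 i (by omega) (by omega)
                · skip
                  rcases Nat.lt_or_ge i 260300 with h9 | h9
                  · skip
                    exact allRangeF_sound _ _ (checkPointF_eq cert) 260275 25 chkP_260275 i (by omega) (by omega)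
                  · skip
                    exact allRangeF_sound _ _ (checkPointF_eq cert) 260300 25 chkP_260300 i (by omega) (by omega)
            · skip
              rcases Nat.lt_or_ge i 260375 with h7 | h7
              · skip
                rcases Nat.lt_or_ge i 260350 with h8 | h8
                · skip
                  exact allRangeF_sound _ _ (checkPointF_eq cert) 260325 25 chkP_260325 i (by omega) (by omega)
                · skip
                  exact allRangeF_sound _ _ (checkPointF_eq cert) 260350 25 chkP_260350 i (by omega) (by omega)
              · skip
                rcases Nat.lt_or_ge i 260400 with h8 | h8
                · skip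
                  exact allRangeF_sound _ _ (checkPointF_eq cert) 260375 25 chkP_260375 i (by omega) (by omega)
                · skip
                  rcases Nat.lt_or_ge i 260425 with h9 | h9
                  · skip
                    exact allRangeF_sound _ _ (checkPointF_eq cert) 260400 25 chkP_260400 i (by omega) (by omega)
                  · skip
                    exact allRangeF_sound _ _ (checkPointF_eq cert) 260425 25 chkP_260425 i (by omega) (by omega)
        · skip
          rcases Nat.lt_or_ge i 260700 with h5 | h5
          · skip
            rcases Nat.lt_or_ge i 260575 with h6 | h6
            · skip
              rcases Nat.lt_or_ge i 260500 with h7 | h7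
              · skip
                rcases Nat.lt_or_ge i 260475 with h8 | h8
                · skip
                  exact allRangeF_sound _ _ (checkPointF_eq cert) 260450 25 chkP_260450 i (by omega) (by omega)
                · skip
                  exact allRangeF_sound _ _ (checkPointF_eq cert) 260475 25 chkP_260475 i (by omega) (by omega)
              · skip
                rcases Nat.lt_or_ge i 260525 with h8 | h8
                · skip
                  exact allRangeF_sound _ _ (checkPointF_eq cert) 260500 25 chkP_260500 i (by omega) (by omega)
                · skip
                  rcases Nat.lt_or_ge i 260550 with h9 | h9
                  · skip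
                    exact allRangeF_sound _ _ (checkPointF_eq cert) 260525 25 chkP_260525 i (by omega) (by omega)
                  · skip
                    exact allRangeF_sound _ _ (checkPointF_eq cert) 260550 25 chkP_260550 i (by omega) (by omega)
            · skip
              rcases Nat.lt_or_ge i 260625 with h7 | h7
              · skip
                rcases Nat.lt_or_ge i 260600 with h8 | h8
                · skip
                  exact allRangeF_sound _ _ (checkPointF_eq cert) 260575 25 chkP_260575 i (by omega) (by omega)
                · skip
                  exact allRangeF_sound _ _ (checkPointF_eq cert) 260600 25 chkP_260600 i (by omega) (by omega)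
              · skip
                rcases Nat.lt_or_ge i 260650 with h8 | h8
                · skip
                  exact allRangeF_sound _ _ (checkPointF_eq cert) 260625 25 chkP_260625 i (by omega) (by omega)
                · skip
                  rcases Nat.lt_or_ge i 260675 with h9 | h9
                  · skip
                    exact allRangeF_sound _ _ (checkPointF_eq cert) 260650 25 chkP_260650 i (by omega) (by omega)
                  · skip
                    exact allRangeF_sound _ _ (checkPointF_eq cert) 260675 25 chkP_260675 i (by omega) (by omega)
          · skip
            rcases Nat.lt_or_ge i 260825 with h6 | h6
            · skip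
              rcases Nat.lt_or_ge i 260750 with h7 | h7
              · skip
                rcases Nat.lt_or_ge i 260725 with h8 | h8
                · skip
                  exact allRangeF_sound _ _ (checkPointF_eq cert) 260700 25 chkP_260700 i (by omega) (by omega)
                · skip
                  exact allRangeF_sound _ _ (checkPointF_eq cert) 260725 25 chkP_260725 i (by omega) (by omega)
              · skip
                rcases Nat.lt_or_ge i 260775 with h8 | h8
                · skip
                  exact allRangeF_sound _ _ (checkPointF_eq cert) 260750 25 chkP_260750 i (by omega) (by omega)
                · skip
                  rcases Nat.lt_or_ge i 260800 with h9 | h9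
                  · skip
                    exact allRangeF_sound _ _ (checkPointF_eq cert) 260775 25 chkP_260775 i (by omega) (by omega)
                  · skip
                    exact allRangeF_sound _ _ (checkPointF_eq cert) 260800 25 chkP_260800 i (by omega) (by omega)
            · skip
              rcases Nat.lt_or_ge i 260875 with h7 | h7
              · skip
                rcases Nat.lt_or_ge i 260850 with h8 | h8
                · skip
                  exact allRangeF_sound _ _ (checkPointF_eq cert) 260825 25 chkP_260825 i (by omega) (by omega)
                · skip
                  exact allRangeF_sound _ _ (checkPointF_eq cert) 260850 25 chkP_260850 i (by omega) (by omega)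
              · skip
                rcases Nat.lt_or_ge i 260900 with h8 | h8
                · skip
                  exact allRangeF_sound _ _ (checkPointF_eq cert) 260875 25 chkP_260875 i (by omega) (by omega)
                · skip
                  rcases Nat.lt_or_ge i 260925 with h9 | h9
                  · skip
                    exact allRangeF_sound _ _ (checkPointF_eq cert) 260900 25 chkP_260900 i (by omega) (by omega)
                  · skip
                    exact allRangeF_sound _ _ (checkPointF_eq cert) 260925 25 chkP_260925 i (by omega) (by omega)

end Cfsg.Agent.Lib.Helper28.Fi24Data
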