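import Cfsg.Agent.Lib.Helper28.Fi24Data
import Cfsg.Agent.Lib.Helper28.TCFastB

set_option autoImplicit false
set_option maxRecDepth 1000000
set_option linter.all false
set_option Elab.async false

namespace Cfsg.Agent.Lib.Helper28.Fi24Data

open Cfsg.Agent.Lib.Helper28B

theorem chkP_260950 : allRangeF (checkPointF cert) (nat_lit 260950) (nat_lit 25) = true := by decide +kernel
theorem chkP_260975 : allRangeF (checkPointF cert) (nat_lit 260975) (nat_lit 25) = true := by decide +kernel
theorem chkP_261000 : allRangeF (checkPointF cert) (nat_lit 261000) (nat_lit 25) = true := by decide +kernel
theorem chkP_261025 : allRangeF (checkPointF cert) (nat_lit 261025) (nat_lit 25) = true := by decide +kernel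
theorem chkP_261050 : allRangeF (checkPointF cert) (nat_lit 261050) (nat_lit 25) = true := by decide +kernel
theorem chkP_261075 : allRangeF (checkPointF cert) (nat_lit 261075) (nat_lit 25) = true := by decide +kernel
theorem chkP_261100 : allRangeF (checkPointF cert) (nat_lit 261100) (nat_lit 25) = true := by decide +kernel
theorem chkP_261125 : allRangeF (checkPointF cert) (nat_lit 261125) (nat_lit 25) = true := by decide +kernel
theorem chkP_261150 : allRangeF (checkPointF cert) (nat_lit 261150) (nat_lit 25) = true := by decide +kernel
theorem chkP_261175 : allRangeF (checkPointF cert) (nat_lit 261175) (nat_lit 25) = true := by decide +kernel
theorem chkP_261200 : allRangeF (checkPointF cert) (nat_lit 261200) (nat_lit 25) = true := by decide +kernel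
theorem chkP_261225 : allRangeF (checkPointF cert) (nat_lit 261225) (nat_lit 25) = true := by decide +kernel
theorem chkP_261250 : allRangeF (checkPointF cert) (nat_lit 261250) (nat_lit 25) = true := by decide +kernel
theorem chkP_261275 : allRangeF (checkPointF cert) (nat_lit 261275) (nat_lit 25) = true := by decide +kernel
theorem chkP_261300 : allRangeF (checkPointF cert) (nat_lit 261300) (nat_lit 25) = true := by decide +kernel
theorem chkP_261325 : allRangeF (checkPointF cert) (nat_lit 261325) (nat_lit 25) = true := by decide +kernel
theorem chkP_261350 : allRangeF (checkPointF cert) (nat_lit 261350) (nat_lit 25) = true := by decide +kernel
theorem chkP_261375 : allRangeF (checkPointF cert) (nat_lit 261375) (nat_lit 25) = true := by decide +kernel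
theorem chkP_261400 : allRangeF (checkPointF cert) (nat_lit 261400) (nat_lit 25) = true := by decide +kernel
theorem chkP_261425 : allRangeF (checkPointF cert) (nat_lit 261425) (nat_lit 25) = true := by decide +kernel
theorem chkP_261450 : allRangeF (checkPointF cert) (nat_lit 261450) (nat_lit 25) = true := by decide +kernel
theorem chkP_261475 : allRangeF (checkPointF cert) (nat_lit 261475) (nat_lit 25) = true := by decide +kernel
theorem chkP_261500 : allRangeF (checkPointF cert) (nat_lit 261500) (nat_lit 25) = true := by decide +kernel
theorem chkP_261525 : allRangeF (checkPointF cert) (nat_lit 261525) (nat_lit 25) = true := by decide +kernel
theorem chkP_261550 : allRangeF (checkPointF cert) (nat_lit 261550) (nat_lit 25) = true := by decide +kernel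
theorem chkP_261575 : allRangeF (checkPointF cert) (nat_lit 261575) (nat_lit 25) = true := by decide +kernel
theorem chkP_261600 : allRangeF (checkPointF cert) (nat_lit 261600) (nat_lit 25) = true := by decide +kernel
theorem chkP_261625 : allRangeF (checkPointF cert) (nat_lit 261625) (nat_lit 25) = true := by decide +kernel
theorem chkP_261650 : allRangeF (checkPointF cert) (nat_lit 261650) (nat_lit 25) = true := by decide +kernel
theorem chkP_261675 : allRangeF (checkPointF cert) (nat_lit 261675) (nat_lit 25) = true := by decide +kernel
theorem chkP_261700 : allRangeF (checkPointF cert) (nat_lit 261700) (nat_lit 25) = true := by decide +kernel
theorem chkP_261725 : allRangeF (checkPointF cert) (nat_lit 261725) (nat_lit 25) = true := by decide +kernel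
theorem chkP_261750 : allRangeF (checkPointF cert) (nat_lit 261750) (nat_lit 25) = true := by decide +kernel
theorem chkP_261775 : allRangeF (checkPointF cert) (nat_lit 261775) (nat_lit 25) = true := by decide +kernel
theorem chkP_261800 : allRangeF (checkPointF cert) (nat_lit 261800) (nat_lit 25) = true := by decide +kernel
theorem chkP_261825 : allRangeF (checkPointF cert) (nat_lit 261825) (nat_lit 25) = true := by decide +kernel
theorem chkP_261850 : allRangeF (checkPointF cert) (nat_lit 261850) (nat_lit 25) = true := by decide +kernel
theorem chkP_261875 : allRangeF (checkPointF cert) (nat_lit 261875) (nat_lit 25) = true := by decide +kernel
theorem chkP_261900 : allRangeF (checkPointF cert) (nat_lit 261900) (nat_lit 25) = true := by decide +kernel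
theorem chkP_261925 : allRangeF (checkPointF cert) (nat_lit 261925) (nat_lit 25) = true := by decide +kernel
theorem chkP_261950 : allRangeF (checkPointF cert) (nat_lit 261950) (nat_lit 25) = true := by decide +kernel
theorem chkP_261975 : allRangeF (checkPointF cert) (nat_lit 261975) (nat_lit 25) = true := by decide +kernel
theorem chkP_262000 : allRangeF (checkPointF cert) (nat_lit 262000) (nat_lit 25) = true := by decide +kernel
theorem chkP_262025 : allRangeF (checkPointF cert) (nat_lit 262025) (nat_lit 25) = true := by decide +kernel
theorem chkP_262050 : allRangeF (checkPointF cert) (nat_lit 262050) (nat_lit 25) = true := by decide +kernel
theorem chkP_262075 : allRangeF (checkPointF cert) (nat_lit 262075) (nat_lit 25) = true := by decide +kernel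
theorem chkP_262100 : allRangeF (checkPointF cert) (nat_lit 262100) (nat_lit 25) = true := by decide +kernel
theorem chkP_262125 : allRangeF (checkPointF cert) (nat_lit 262125) (nat_lit 25) = true := by decide +kernel
theorem chkP_262150 : allRangeF (checkPointF cert) (nat_lit 262150) (nat_lit 25) = true := by decide +kernel
theorem chkP_262175 : allRangeF (checkPointF cert) (nat_lit 262175) (nat_lit 25) = true := by decide +kernel
theorem chkP_262200 : allRangeF (checkPointF cert) (nat_lit 262200) (nat_lit 25) = true := by decide +kernel
theorem chkP_262225 : allRangeF (checkPointF cert) (nat_lit 262225) (nat_lit 25) = true := by decide +kernel
theorem chkP_262250 : allRangeF (checkPointF cert) (nat_lit 262250) (nat_lit 25) = true := by decide +kernel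
theorem chkP_262275 : allRangeF (checkPointF cert) (nat_lit 262275) (nat_lit 25) = true := by decide +kernel
theorem chkP_262300 : allRangeF (checkPointF cert) (nat_lit 262300) (nat_lit 25) = true := by decide +kernel
theorem chkP_262325 : allRangeF (checkPointF cert) (nat_lit 262325) (nat_lit 25) = true := by decide +kernel
theorem chkP_262350 : allRangeF (checkPointF cert) (nat_lit 262350) (nat_lit 25) = true := by decide +kernel
theorem chkP_262375 : allRangeF (checkPointF cert) (nat_lit 262375) (nat_lit 25) = true := by decide +kernel
theorem chkP_262400 : allRangeF (checkPointF cert) (nat_lit 262400) (nat_lit 25) = true := by decide +kernel
theorem chkP_262425 : allRangeF (checkPointF cert) (nat_lit 262425) (nat_lit 25) = true := by decide +kernel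
theorem chkP_262450 : allRangeF (checkPointF cert) (nat_lit 262450) (nat_lit 25) = true := by decide +kernel
theorem chkP_262475 : allRangeF (checkPointF cert) (nat_lit 262475) (nat_lit 25) = true := by decide +kernel
theorem chkP_262500 : allRangeF (checkPointF cert) (nat_lit 262500) (nat_lit 25) = true := by decide +kernel
theorem chkP_262525 : allRangeF (checkPointF cert) (nat_lit 262525) (nat_lit 25) = true := by decide +kernel
theorem chkP_262550 : allRangeF (checkPointF cert) (nat_lit 262550) (nat_lit 25) = true := by decide +kernel
theorem chkP_262575 : allRangeF (checkPointF cert) (nat_lit 262575) (nat_lit 25) = true := by decide +kernel
theorem chkP_262600 : allRangeF (checkPointF cert) (nat_lit 262600) (nat_lit 25) = true := by decide +kernel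
theorem chkP_262625 : allRangeF (checkPointF cert) (nat_lit 262625) (nat_lit 25) = true := by decide +kernel
theorem chkP_262650 : allRangeF (checkPointF cert) (nat_lit 262650) (nat_lit 25) = true := by decide +kernel
theorem chkP_262675 : allRangeF (checkPointF cert) (nat_lit 262675) (nat_lit 25) = true := by decide +kernel
theorem chkP_262700 : allRangeF (checkPointF cert) (nat_lit 262700) (nat_lit 25) = true := by decide +kernel
theorem chkP_262725 : allRangeF (checkPointF cert) (nat_lit 262725) (nat_lit 25) = true := by decide +kernel
theorem chkP_262750 : allRangeF (checkPointF cert) (nat_lit 262750) (nat_lit 25) = true := by decide +kernel
theorem chkP_262775 : allRangeF (checkPointF cert) (nat_lit 262775) (nat_lit 25) = true := by decide +kernel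
theorem chkP_262800 : allRangeF (checkPointF cert) (nat_lit 262800) (nat_lit 25) = true := by decide +kernel
theorem chkP_262825 : allRangeF (checkPointF cert) (nat_lit 262825) (nat_lit 25) = true := by decide +kernel
theorem chkP_262850 : allRangeF (checkPointF cert) (nat_lit 262850) (nat_lit 25) = true := by decide +kernel
theorem chkP_262875 : allRangeF (checkPointF cert) (nat_lit 262875) (nat_lit 25) = true := by decide +kernel
theorem chkP_262900 : allRangeF (checkPointF cert) (nat_lit 262900) (nat_lit 25) = true := by decide +kernel
theorem chkP_262925 : allRangeF (checkPointF cert) (nat_lit 262925) (nat_lit 25) = true := by decide +kernel
theorem chkP_262950 : allRangeF (checkPointF cert) (nat_lit 262950) (nat_lit 25) = true := by decide +kernel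
theorem chkP_262975 : allRangeF (checkPointF cert) (nat_lit 262975) (nat_lit 25) = true := by decide +kernel
theorem chkP_263000 : allRangeF (checkPointF cert) (nat_lit 263000) (nat_lit 25) = true := by decide +kernel
theorem chkP_263025 : allRangeF (checkPointF cert) (nat_lit 263025) (nat_lit 25) = true := by decide +kernel
theorem chkP_263050 : allRangeF (checkPointF cert) (nat_lit 263050) (nat_lit 25) = true := by decide +kernel
theorem chkP_263075 : allRangeF (checkPointF cert) (nat_lit 263075) (nat_lit 25) = true := by decide +kernel
theorem chkP_263100 : allRangeF (checkPointF cert) (nat_lit 263100) (nat_lit 25) = true := by decide +kernel
theorem chkP_263125 : allRangeF (checkPointF cert) (nat_lit 263125) (nat_lit 25) = true := by decide +kernel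
theorem chkP_263150 : allRangeF (checkPointF cert) (nat_lit 263150) (nat_lit 25) = true := by decide +kernel
theorem chkP_263175 : allRangeF (checkPointF cert) (nat_lit 263175) (nat_lit 25) = true := by decide +kernel
theorem chkP_263200 : allRangeF (checkPointF cert) (nat_lit 263200) (nat_lit 25) = true := by decide +kernel
theorem chkP_263225 : allRangeF (checkPointF cert) (nat_lit 263225) (nat_lit 25) = true := by decide +kernel
theorem chkP_263250 : allRangeF (checkPointF cert) (nat_lit 263250) (nat_lit 25) = true := by decide +kernel
theorem chkP_263275 : allRangeF (checkPointF cert) (nat_lit 263275) (nat_lit 25) = true := by decide +kernel
theorem chkP_263300 : allRangeF (checkPointF cert) (nat_lit 263300) (nat_lit 25) = true := by decide +kernel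
theorem chkP_263325 : allRangeF (checkPointF cert) (nat_lit 263325) (nat_lit 25) = true := by decide +kernel
theorem chkP_263350 : allRangeF (checkPointF cert) (nat_lit 263350) (nat_lit 25) = true := by decide +kernel
theorem chkP_263375 : allRangeF (checkPointF cert) (nat_lit 263375) (nat_lit 25) = true := by decide +kernel
theorem chkP_263400 : allRangeF (checkPointF cert) (nat_lit 263400) (nat_lit 25) = true := by decide +kernel
theorem chkP_263425 : allRangeF (checkPointF cert) (nat_lit 263425) (nat_lit 25) = true := by decide +kernel
theorem chkP_263450 : allRangeF (checkPointF cert) (nat_lit 263450) (nat_lit 25) = true := by decide +kernel
theorem chkP_263475 : allRangeF (checkPointF cert) (nat_lit 263475) (nat_lit 25) = true := by decide +kernel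
theorem chkP_263500 : allRangeF (checkPointF cert) (nat_lit 263500) (nat_lit 25) = true := by decide +kernel
theorem chkP_263525 : allRangeF (checkPointF cert) (nat_lit 263525) (nat_lit 25) = true := by decide +kernel
theorem chkP_263550 : allRangeF (checkPointF cert) (nat_lit 263550) (nat_lit 25) = true := by decide +kernel
theorem chkP_263575 : allRangeF (checkPointF cert) (nat_lit 263575) (nat_lit 25) = true := by decide +kernel
theorem chkP_263600 : allRangeF (checkPointF cert) (nat_lit 263600) (nat_lit 25) = true := by decide +kernel
theorem chkP_263625 : allRangeF (checkPointF cert) (nat_lit 263625) (nat_lit 25) = true := by decide +kernel
theorem chkP_263650 : allRangeF (checkPointF cert) (nat_lit 263650) (nat_lit 25) = true := by decide +kernel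
theorem chkP_263675 : allRangeF (checkPointF cert) (nat_lit 263675) (nat_lit 25) = true := by decide +kernel
theorem chkP_263700 : allRangeF (checkPointF cert) (nat_lit 263700) (nat_lit 25) = true := by decide +kernel
theorem chkP_263725 : allRangeF (checkPointF cert) (nat_lit 263725) (nat_lit 25) = true := by decide +kernel
theorem chkP_263750 : allRangeF (checkPointF cert) (nat_lit 263750) (nat_lit 25) = true := by decide +kernel
theorem chkP_263775 : allRangeF (checkPointF cert) (nat_lit 263775) (nat_lit 25) = true := by decide +kernel
theorem chkP_263800 : allRangeF (checkPointF cert) (nat_lit 263800) (nat_lit 25) = true := by decide +kernel
theorem chkP_263825 : allRangeF (checkPointF cert) (nat_lit 263825) (nat_lit 25) = true := by decide +kernel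
theorem chkP_263850 : allRangeF (checkPointF cert) (nat_lit 263850) (nat_lit 25) = true := by decide +kernel
theorem chkP_263875 : allRangeF (checkPointF cert) (nat_lit 263875) (nat_lit 25) = true := by decide +kernel
theorem chkP_263900 : allRangeF (checkPointF cert) (nat_lit 263900) (nat_lit 25) = true := by decide +kernel
theorem chkP_263925 : allRangeF (checkPointF cert) (nat_lit 263925) (nat_lit 25) = true := by decide +kernel
theorem chkP_263950 : allRangeF (checkPointF cert) (nat_lit 263950) (nat_lit 25) = true := by decide +kernel
theorem chkP_263975 : allRangeF (checkPointF cert) (nat_lit 263975) (nat_lit 25) = true := by decide +kernel
theorem chkP_264000 : allRangeF (checkPointF cert) (nat_lit 264000) (nat_lit 25) = true := by decide +kernel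
theorem chkP_264025 : allRangeF (checkPointF cert) (nat_lit 264025) (nat_lit 25) = true := by decide +kernel
theorem chkP_264050 : allRangeF (checkPointF cert) (nat_lit 264050) (nat_lit 25) = true := by decide +kernel
theorem chkP_264075 : allRangeF (checkPointF cert) (nat_lit 264075) (nat_lit 25) = true := by decide +kernel
theorem chkP_264100 : allRangeF (checkPointF cert) (nat_lit 264100) (nat_lit 25) = true := by decide +kernel
theorem chkP_264125 : allRangeF (checkPointF cert) (nat_lit 264125) (nat_lit 25) = true := by decide +kernel
theorem chkP_264150 : allRangeF (checkPointF cert) (nat_lit 264150) (nat_lit 25) = true := by decide +kernel
theorem chkP_264175 : allRangeF (checkPointF cert) (nat_lit 264175) (nat_lit 25) = true := by decide +kernel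
theorem chkP_264200 : allRangeF (checkPointF cert) (nat_lit 264200) (nat_lit 25) = true := by decide +kernel
theorem chkP_264225 : allRangeF (checkPointF cert) (nat_lit 264225) (nat_lit 25) = true := by decide +kernel
theorem chkP_264250 : allRangeF (checkPointF cert) (nat_lit 264250) (nat_lit 25) = true := by decide +kernel
theorem chkP_264275 : allRangeF (checkPointF cert) (nat_lit 264275) (nat_lit 25) = true := by decide +kernel
theorem chkP_264300 : allRangeF (checkPointF cert) (nat_lit 264300) (nat_lit 25) = true := by decide +kernel
theorem chkP_264325 : allRangeF (checkPointF cert) (nat_lit 264325) (nat_lit 25) = true := by decide +kernel
theorem chkP_264350 : allRangeF (checkPointF cert) (nat_lit 264350) (nat_lit 25) = true := by decide +kernel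
theorem chkP_264375 : allRangeF (checkPointF cert) (nat_lit 264375) (nat_lit 25) = true := by decide +kernel
theorem chkP_264400 : allRangeF (checkPointF cert) (nat_lit 264400) (nat_lit 25) = true := by decide +kernel
theorem chkP_264425 : allRangeF (checkPointF cert) (nat_lit 264425) (nat_lit 25) = true := by decide +kernel
theorem chkP_264450 : allRangeF (checkPointF cert) (nat_lit 264450) (nat_lit 25) = true := by decide +kernel
theorem chkP_264475 : allRangeF (checkPointF cert) (nat_lit 264475) (nat_lit 25) = true := by decide +kernel
theorem chkP_264500 : allRangeF (checkPointF cert) (nat_lit 264500) (nat_lit 25) = true := by decide +kernel
theorem chkP_264525 : allRangeF (checkPointF cert) (nat_lit 264525) (nat_lit 25) = true := by decide +kernel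
theorem chkP_264550 : allRangeF (checkPointF cert) (nat_lit 264550) (nat_lit 25) = true := by decide +kernel
theorem chkP_264575 : allRangeF (checkPointF cert) (nat_lit 264575) (nat_lit 25) = true := by decide +kernel
theorem chkP_264600 : allRangeF (checkPointF cert) (nat_lit 264600) (nat_lit 25) = true := by decide +kernel
theorem chkP_264625 : allRangeF (checkPointF cert) (nat_lit 264625) (nat_lit 25) = true := by decide +kernel
theorem chkP_264650 : allRangeF (checkPointF cert) (nat_lit 264650) (nat_lit 25) = true := by decide +kernel
theorem chkP_264675 : allRangeF (checkPointF cert) (nat_lit 264675) (nat_lit 25) = true := by decide +kernel
theorem chkP_264700 : allRangeF (checkPointF cert) (nat_lit 264700) (nat_lit 25) = true := by decide +kernel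
theorem chkP_264725 : allRangeF (checkPointF cert) (nat_lit 264725) (nat_lit 25) = true := by decide +kernel
theorem chkP_264750 : allRangeF (checkPointF cert) (nat_lit 264750) (nat_lit 25) = true := by decide +kernel
theorem chkP_264775 : allRangeF (checkPointF cert) (nat_lit 264775) (nat_lit 25) = true := by decide +kernel
theorem chkP_264800 : allRangeF (checkPointF cert) (nat_lit 264800) (nat_lit 25) = true := by decide +kernel
theorem chkP_264825 : allRangeF (checkPointF cert) (nat_lit 264825) (nat_lit 25) = true := by decide +kernel
theorem chkP_264850 : allRangeF (checkPointF cert) (nat_lit 264850) (nat_lit 25) = true := by decide +kernel
theorem chkP_264875 : allRangeF (checkPointF cert) (nat_lit 264875) (nat_lit 25) = true := by decide +kernel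
theorem chkP_264900 : allRangeF (checkPointF cert) (nat_lit 264900) (nat_lit 25) = true := by decide +kernel
theorem chkP_264925 : allRangeF (checkPointF cert) (nat_lit 264925) (nat_lit 25) = true := by decide +kernel
theorem chkP_264950 : allRangeF (checkPointF cert) (nat_lit 264950) (nat_lit 25) = true := by decide +kernel
theorem chkP_264975 : allRangeF (checkPointF cert) (nat_lit 264975) (nat_lit 25) = true := by decide +kernel
theorem chkP_265000 : allRangeF (checkPointF cert) (nat_lit 265000) (nat_lit 25) = true := by decide +kernel
theorem chkP_265025 : allRangeF (checkPointF cert) (nat_lit 265025) (nat_lit 25) = true := by decide +kernel
theorem chkP_265050 : allRangeF (checkPointF cert) (nat_lit 265050) (nat_lit 25) = true := by decide +kernel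
theorem chkP_265075 : allRangeF (checkPointF cert) (nat_lit 265075) (nat_lit 25) = true := by decide +kernel
theorem chkP_265100 : allRangeF (checkPointF cert) (nat_lit 265100) (nat_lit 25) = true := by decide +kernel
theorem chkP_265125 : allRangeF (checkPointF cert) (nat_lit 265125) (nat_lit 25) = true := by decide +kernel
theorem chkP_265150 : allRangeF (checkPointF cert) (nat_lit 265150) (nat_lit 25) = true := by decide +kernel
theorem chkP_265175 : allRangeF (checkPointF cert) (nat_lit 265175) (nat_lit 25) = true := by decide +kernel
theorem chkP_265200 : allRangeF (checkPointF cert) (nat_lit 265200) (nat_lit 25) = true := by decide +kernel
theorem chkP_265225 : allRangeF (checkPointF cert) (nat_lit 265225) (nat_lit 25) = true := by decide +kernel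
theorem chkP_265250 : allRangeF (checkPointF cert) (nat_lit 265250) (nat_lit 25) = true := by decide +kernel
theorem chkP_265275 : allRangeF (checkPointF cert) (nat_lit 265275) (nat_lit 25) = true := by decide +kernel
theorem chkP_265300 : allRangeF (checkPointF cert) (nat_lit 265300) (nat_lit 25) = true := by decide +kernel
theorem chkP_265325 : allRangeF (checkPointF cert) (nat_lit 265325) (nat_lit 25) = true := by decide +kernel
theorem chkP_265350 : allRangeF (checkPointF cert) (nat_lit 265350) (nat_lit 25) = true := by decide +kernel
theorem chkP_265375 : allRangeF (checkPointF cert) (nat_lit 265375) (nat_lit 25) = true := by decide +kernel
theorem chkP_265400 : allRangeF (checkPointF cert) (nat_lit 265400) (nat_lit 25) = true := by decide +kernel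
theorem chkP_265425 : allRangeF (checkPointF cert) (nat_lit 265425) (nat_lit 25) = true := by decide +kernel
theorem chkP_265450 : allRangeF (checkPointF cert) (nat_lit 265450) (nat_lit 25) = true := by decide +kernel
theorem chkP_265475 : allRangeF (checkPointF cert) (nat_lit 265475) (nat_lit 25) = true := by decide +kernel
theorem chkP_265500 : allRangeF (checkPointF cert) (nat_lit 265500) (nat_lit 25) = true := by decide +kernel
theorem chkP_265525 : allRangeF (checkPointF cert) (nat_lit 265525) (nat_lit 25) = true := by decide +kernel
theorem chkP_265550 : allRangeF (checkPointF cert) (nat_lit 265550) (nat_lit 25) = true := by decide +kernel
theorem chkP_265575 : allRangeF (checkPointF cert) (nat_lit 265575) (nat_lit 25) = true := by decide +kernel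
theorem chkP_265600 : allRangeF (checkPointF cert) (nat_lit 265600) (nat_lit 25) = true := by decide +kernel
theorem chkP_265625 : allRangeF (checkPointF cert) (nat_lit 265625) (nat_lit 25) = true := by decide +kernel
theorem chkP_265650 : allRangeF (checkPointF cert) (nat_lit 265650) (nat_lit 25) = true := by decide +kernel
theorem chkP_265675 : allRangeF (checkPointF cert) (nat_lit 265675) (nat_lit 25) = true := by decide +kernel
theorem chkP_265700 : allRangeF (checkPointF cert) (nat_lit 265700) (nat_lit 25) = true := by decide +kernel
theorem chkP_265725 : allRangeF (checkPointF cert) (nat_lit 265725) (nat_lit 25) = true := by decide +kernel
theorem chkP_265750 : allRangeF (checkPointF cert) (nat_lit 265750) (nat_lit 25) = true := by decide +kernel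
theorem chkP_265775 : allRangeF (checkPointF cert) (nat_lit 265775) (nat_lit 25) = true := by decide +kernel
theorem chkP_265800 : allRangeF (checkPointF cert) (nat_lit 265800) (nat_lit 25) = true := by decide +kernel
theorem chkP_265825 : allRangeF (checkPointF cert) (nat_lit 265825) (nat_lit 25) = true := by decide +kernel
theorem chkP_265850 : allRangeF (checkPointF cert) (nat_lit 265850) (nat_lit 25) = true := by decide +kernel
theorem chkP_265875 : allRangeF (checkPointF cert) (nat_lit 265875) (nat_lit 25) = true := by decide +kernel
theorem chkP_265900 : allRangeF (checkPointF cert) (nat_lit 265900) (nat_lit 25) = true := by decide +kernel
theorem chkP_265925 : allRangeF (checkPointF cert) (nat_lit 265925) (nat_lit 25) = true := by decide +kernel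
theorem chkP_265950 : allRangeF (checkPointF cert) (nat_lit 265950) (nat_lit 25) = true := by decide +kernel
theorem chkP_265975 : allRangeF (checkPointF cert) (nat_lit 265975) (nat_lit 25) = true := by decide +kernel
theorem chkP_266000 : allRangeF (checkPointF cert) (nat_lit 266000) (nat_lit 25) = true := by decide +kernel
theorem chkP_266025 : allRangeF (checkPointF cert) (nat_lit 266025) (nat_lit 25) = true := by decide +kernel
theorem chkP_266050 : allRangeF (checkPointF cert) (nat_lit 266050) (nat_lit 25) = true := by decide +kernel
theorem chkP_266075 : allRangeF (checkPointF cert) (nat_lit 266075) (nat_lit 25) = true := by decide +kernel
theorem chkP_266100 : allRangeF (checkPointF cert) (nat_lit 266100) (nat_lit 25) = true := by decide +kernel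
theorem chkP_266125 : allRangeF (checkPointF cert) (nat_lit 266125) (nat_lit 25) = true := by decide +kernel
theorem chkP_266150 : allRangeF (checkPointF cert) (nat_lit 266150) (nat_lit 25) = true := by decide +kernel
theorem chkP_266175 : allRangeF (checkPointF cert) (nat_lit 266175) (nat_lit 25) = true := by decide +kernel
theorem chkP_266200 : allRangeF (checkPointF cert) (nat_lit 266200) (nat_lit 25) = true := by decide +kernel
theorem chkP_266225 : allRangeF (checkPointF cert) (nat_lit 266225) (nat_lit 25) = true := by decide +kernel
theorem chkP_266250 : allRangeF (checkPointF cert) (nat_lit 266250) (nat_lit 25) = true := by decide +kernel
theorem chkP_266275 : allRangeF (checkPointF cert) (nat_lit 266275) (nat_lit 25) = true := by decide +kernel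
theorem chkP_266300 : allRangeF (checkPointF cert) (nat_lit 266300) (nat_lit 25) = true := by decide +kernel
theorem chkP_266325 : allRangeF (checkPointF cert) (nat_lit 266325) (nat_lit 25) = true := by decide +kernel
theorem chkP_266350 : allRangeF (checkPointF cert) (nat_lit 266350) (nat_lit 25) = true := by decide +kernel
theorem chkP_266375 : allRangeF (checkPointF cert) (nat_lit 266375) (nat_lit 25) = true := by decide +kernel
theorem chkP_266400 : allRangeF (checkPointF cert) (nat_lit 266400) (nat_lit 25) = true := by decide +kernel
theorem chkP_266425 : allRangeF (checkPointF cert) (nat_lit 266425) (nat_lit 25) = true := by decide +kernel
theorem chkP_266450 : allRangeF (checkPointF cert) (nat_lit 266450) (nat_lit 25) = true := by decide +kernel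
theorem chkP_266475 : allRangeF (checkPointF cert) (nat_lit 266475) (nat_lit 25) = true := by decide +kernel
theorem chkP_266500 : allRangeF (checkPointF cert) (nat_lit 266500) (nat_lit 25) = true := by decide +kernel
theorem chkP_266525 : allRangeF (checkPointF cert) (nat_lit 266525) (nat_lit 25) = true := by decide +kernel
theorem chkP_266550 : allRangeF (checkPointF cert) (nat_lit 266550) (nat_lit 25) = true := by decide +kernel
theorem chkP_266575 : allRangeF (checkPointF cert) (nat_lit 266575) (nat_lit 25) = true := by decide +kernel
theorem chkP_266600 : allRangeF (checkPointF cert) (nat_lit 266600) (nat_lit 25) = true := by decide +kernel
theorem chkP_266625 : allRangeF (checkPointF cert) (nat_lit 266625) (nat_lit 25) = true := by decide +kernel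
theorem chkP_266650 : allRangeF (checkPointF cert) (nat_lit 266650) (nat_lit 25) = true := by decide +kernel
theorem chkP_266675 : allRangeF (checkPointF cert) (nat_lit 266675) (nat_lit 25) = true := by decide +kernel
theorem chkP_266700 : allRangeF (checkPointF cert) (nat_lit 266700) (nat_lit 25) = true := by decide +kernel
theorem chkP_266725 : allRangeF (checkPointF cert) (nat_lit 266725) (nat_lit 25) = true := by decide +kernel
theorem chkP_266750 : allRangeF (checkPointF cert) (nat_lit 266750) (nat_lit 25) = true := by decide +kernel
theorem chkP_266775 : allRangeF (checkPointF cert) (nat_lit 266775) (nat_lit 25) = true := by decide +kernel
theorem chkP_266800 : allRangeF (checkPointF cert) (nat_lit 266800) (nat_lit 25) = true := by decide +kernel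
theorem chkP_266825 : allRangeF (checkPointF cert) (nat_lit 266825) (nat_lit 25) = true := by decide +kernel
theorem chkP_266850 : allRangeF (checkPointF cert) (nat_lit 266850) (nat_lit 25) = true := by decide +kernel
theorem chkP_266875 : allRangeF (checkPointF cert) (nat_lit 266875) (nat_lit 25) = true := by decide +kernel
theorem chkP_266900 : allRangeF (checkPointF cert) (nat_lit 266900) (nat_lit 25) = true := by decide +kernel
theorem chkP_266925 : allRangeF (checkPointF cert) (nat_lit 266925) (nat_lit 25) = true := by decide +kernel
theorem chkP_266950 : allRangeF (checkPointF cert) (nat_lit 266950) (nat_lit 25) = true := by decide +kernel
theorem chkP_266975 : allRangeF (checkPointF cert) (nat_lit 266975) (nat_lit 25) = true := by decide +kernel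
theorem chkP_267000 : allRangeF (checkPointF cert) (nat_lit 267000) (nat_lit 25) = true := by decide +kernel
theorem chkP_267025 : allRangeF (checkPointF cert) (nat_lit 267025) (nat_lit 25) = true := by decide +kernel
theorem chkP_267050 : allRangeF (checkPointF cert) (nat_lit 267050) (nat_lit 25) = true := by decide +kernel
theorem chkP_267075 : allRangeF (checkPointF cert) (nat_lit 267075) (nat_lit 25) = true := by decide +kernel
theorem chkP_267100 : allRangeF (checkPointF cert) (nat_lit 267100) (nat_lit 25) = true := by decide +kernel
theorem chkP_267125 : allRangeF (checkPointF cert) (nat_lit 267125) (nat_lit 25) = true := by decide +kernel
theorem chkP_267150 : allRangeF (checkPointF cert) (nat_lit 267150) (nat_lit 25) = true := by decide +kernel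
theorem chkP_267175 : allRangeF (checkPointF cert) (nat_lit 267175) (nat_lit 25) = true := by decide +kernel
theorem chkP_267200 : allRangeF (checkPointF cert) (nat_lit 267200) (nat_lit 25) = true := by decide +kernel
theorem chkP_267225 : allRangeF (checkPointF cert) (nat_lit 267225) (nat_lit 25) = true := by decide +kernel
theorem chkP_267250 : allRangeF (checkPointF cert) (nat_lit 267250) (nat_lit 25) = true := by decide +kernel
theorem chkP_267275 : allRangeF (checkPointF cert) (nat_lit 267275) (nat_lit 25) = true := by decide +kernel
theorem chkP_267300 : allRangeF (checkPointF cert) (nat_lit 267300) (nat_lit 25) = true := by decide +kernel
theorem chkP_267325 : allRangeF (checkPointF cert) (nat_lit 267325) (nat_lit 25) = true := by decide +kernel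
theorem chkP_267350 : allRangeF (checkPointF cert) (nat_lit 267350) (nat_lit 25) = true := by decide +kernel
theorem chkP_267375 : allRangeF (checkPointF cert) (nat_lit 267375) (nat_lit 25) = true := by decide +kernel
theorem chkP_267400 : allRangeF (checkPointF cert) (nat_lit 267400) (nat_lit 25) = true := by decide +kernel
theorem chkP_267425 : allRangeF (checkPointF cert) (nat_lit 267425) (nat_lit 25) = true := by decide +kernel
theorem chkP_267450 : allRangeF (checkPointF cert) (nat_lit 267450) (nat_lit 25) = true := by decide +kernel
theorem chkP_267475 : allRangeF (checkPointF cert) (nat_lit 267475) (nat_lit 25) = true := by decide +kernel
theorem chkP_267500 : allRangeF (checkPointF cert) (nat_lit 267500) (nat_lit 25) = true := by decide +kernel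
theorem chkP_267525 : allRangeF (checkPointF cert) (nat_lit 267525) (nat_lit 25) = true := by decide +kernel
theorem chkP_267550 : allRangeF (checkPointF cert) (nat_lit 267550) (nat_lit 25) = true := by decide +kernel
theorem chkP_267575 : allRangeF (checkPointF cert) (nat_lit 267575) (nat_lit 25) = true := by decide +kernel
theorem chkP_267600 : allRangeF (checkPointF cert) (nat_lit 267600) (nat_lit 25) = true := by decide +kernel
theorem chkP_267625 : allRangeF (checkPointF cert) (nat_lit 267625) (nat_lit 25) = true := by decide +kernel
theorem chkP_267650 : allRangeF (checkPointF cert) (nat_lit 267650) (nat_lit 25) = true := by decide +kernel
theorem chkP_267675 : allRangeF (checkPointF cert) (nat_lit 267675) (nat_lit 25) = true := by decide +kernel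
theorem chkP_267700 : allRangeF (checkPointF cert) (nat_lit 267700) (nat_lit 25) = true := by decide +kernel
theorem chkP_267725 : allRangeF (checkPointF cert) (nat_lit 267725) (nat_lit 25) = true := by decide +kernel
theorem chkP_267750 : allRangeF (checkPointF cert) (nat_lit 267750) (nat_lit 25) = true := by decide +kernel
theorem chkP_267775 : allRangeF (checkPointF cert) (nat_lit 267775) (nat_lit 25) = true := by decide +kernel
theorem chkP_267800 : allRangeF (checkPointF cert) (nat_lit 267800) (nat_lit 25) = true := by decide +kernel
theorem chkP_267825 : allRangeF (checkPointF cert) (nat_lit 267825) (nat_lit 25) = true := by decide +kernel
theorem chkP_267850 : allRangeF (checkPointF cert) (nat_lit 267850) (nat_lit 25) = true := by decide +kernel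
theorem chkP_267875 : allRangeF (checkPointF cert) (nat_lit 267875) (nat_lit 25) = true := by decide +kernel
theorem chkP_267900 : allRangeF (checkPointF cert) (nat_lit 267900) (nat_lit 25) = true := by decide +kernel
theorem chkP_267925 : allRangeF (checkPointF cert) (nat_lit 267925) (nat_lit 25) = true := by decide +kernel
theorem chkP_267950 : allRangeF (checkPointF cert) (nat_lit 267950) (nat_lit 25) = true := by decide +kernel
theorem chkP_267975 : allRangeF (checkPointF cert) (nat_lit 267975) (nat_lit 25) = true := by decide +kernel
theorem chkP_268000 : allRangeF (checkPointF cert) (nat_lit 268000) (nat_lit 25) = true := by decide +kernel
theorem chkP_268025 : allRangeF (checkPointF cert) (nat_lit 268025) (nat_lit 25) = true := by decide +kernel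
theorem chkP_268050 : allRangeF (checkPointF cert) (nat_lit 268050) (nat_lit 25) = true := by decide +kernel
theorem chkP_268075 : allRangeF (checkPointF cert) (nat_lit 268075) (nat_lit 25) = true := by decide +kernel
theorem chkP_268100 : allRangeF (checkPointF cert) (nat_lit 268100) (nat_lit 25) = true := by decide +kernel
theorem chkP_268125 : allRangeF (checkPointF cert) (nat_lit 268125) (nat_lit 25) = true := by decide +kernel
theorem chkP_268150 : allRangeF (checkPointF cert) (nat_lit 268150) (nat_lit 25) = true := by decide +kernel
theorem chkP_268175 : allRangeF (checkPointF cert) (nat_lit 268175) (nat_lit 25) = true := by decide +kernel
theorem chkP_268200 : allRangeF (checkPointF cert) (nat_lit 268200) (nat_lit 25) = true := by decide +kernel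
theorem chkP_268225 : allRangeF (checkPointF cert) (nat_lit 268225) (nat_lit 25) = true := by decide +kernel
theorem chkP_268250 : allRangeF (checkPointF cert) (nat_lit 268250) (nat_lit 25) = true := by decide +kernel
theorem chkP_268275 : allRangeF (checkPointF cert) (nat_lit 268275) (nat_lit 25) = true := by decide +kernel
theorem chkP_268300 : allRangeF (checkPointF cert) (nat_lit 268300) (nat_lit 25) = true := by decide +kernel
theorem chkP_268325 : allRangeF (checkPointF cert) (nat_lit 268325) (nat_lit 25) = true := by decide +kernel
theorem chkP_268350 : allRangeF (checkPointF cert) (nat_lit 268350) (nat_lit 25) = true := by decide +kernel
theorem chkP_268375 : allRangeF (checkPointF cert) (nat_lit 268375) (nat_lit 25) = true := by decide +kernel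
theorem chkP_268400 : allRangeF (checkPointF cert) (nat_lit 268400) (nat_lit 25) = true := by decide +kernel
theorem chkP_268425 : allRangeF (checkPointF cert) (nat_lit 268425) (nat_lit 25) = true := by decide +kernel
theorem chkP_268450 : allRangeF (checkPointF cert) (nat_lit 268450) (nat_lit 25) = true := by decide +kernel
theorem chkP_268475 : allRangeF (checkPointF cert) (nat_lit 268475) (nat_lit 25) = true := by decide +kernel
theorem chkP_268500 : allRangeF (checkPointF cert) (nat_lit 268500) (nat_lit 25) = true := by decide +kernel
theorem chkP_268525 : allRangeF (checkPointF cert) (nat_lit 268525) (nat_lit 25) = true := by decide +kernel
theorem chkP_268550 : allRangeF (checkPointF cert) (nat_lit 268550) (nat_lit 25) = true := by decide +kernel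
theorem chkP_268575 : allRangeF (checkPointF cert) (nat_lit 268575) (nat_lit 25) = true := by decide +kernel
theorem chkP_268600 : allRangeF (checkPointF cert) (nat_lit 268600) (nat_lit 25) = true := by decide +kernel

theorem ptsRange_34 : ∀ i, 260950 ≤ i → i < 268625 → checkPoint cert i = true := by
  intro i hlo hhi
  rcases Nat.lt_or_ge i 264775 with h1 | h1
  · skip
    rcases Nat.lt_or_ge i 262850 with h2 | h2
    · skip
      rcases Nat.lt_or_ge i 261900 with h3 | h3
      · skip
        rcases Nat.lt_or_ge i 261425 with h4 | h4
        · skip
          rcases Nat.lt_or_ge i 261175 with h5 | h5
          · skip
            rcases Nat.lt_or_ge i 261050 with h6 | h6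
            · skip
              rcases Nat.lt_or_ge i 261000 with h7 | h7
              · skip
                rcases Nat.lt_or_ge i 260975 with h8 | h8
                · skip
                  exact allRangeF_sound _ _ (checkPointF_eq cert) 260950 25 chkP_260950 i (by omega) (by omega)
                · skip
                  exact allRangeF_sound _ _ (checkPointF_eq cert) 260975 25 chkP_260975 i (by omega) (by omega)
              · skip
                rcases Nat.lt_or_ge i 261025 with h8 | h8
                · skip
                  exact allRangeF_sound _ _ (checkPointF_eq cert) 261000 25 chkP_261000 i (by omega) (by omega)
                · skip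
                  exact allRangeF_sound _ _ (checkPointF_eq cert) 261025 25 chkP_261025 i (by omega) (by omega)
            · skip
              rcases Nat.lt_or_ge i 261100 with h7 | h7
              · skip
                rcases Nat.lt_or_ge i 261075 with h8 | h8
                · skip
                  exact allRangeF_sound _ _ (checkPointF_eq cert) 261050 25 chkP_261050 i (by omega) (by omega)
                · skip
                  exact allRangeF_sound _ _ (checkPointF_eq cert) 261075 25 chkP_261075 i (by omega) (by omega)
              · skip
                rcases Nat.lt_or_ge i 261125 with h8 | h8
                · skip
                  exact allRangeF_sound _ _ (checkPointF_eq cert) 261100 25 chkP_261100 i (by omega) (by omega)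
                · skip
                  rcases Nat.lt_or_ge i 261150 with h9 | h9
                  · skip
                    exact allRangeF_sound _ _ (checkPointF_eq cert) 261125 25 chkP_261125 i (by omega) (by omega)
                  · skip
                    exact allRangeF_sound _ _ (checkPointF_eq cert) 261150 25 chkP_261150 i (by omega) (by omega)
          · skip
            rcases Nat.lt_or_ge i 261300 with h6 | h6
            · skip
              rcases Nat.lt_or_ge i 261225 with h7 | h7
              · skip
                rcases Nat.lt_or_ge i 261200 with h8 | h8
                · skip
                  exact allRangeF_sound _ _ (checkPointF_eq cert) 261175 25 chkP_261175 i (by omega) (by omega)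
                · skip
                  exact allRangeF_sound _ _ (checkPointF_eq cert) 261200 25 chkP_261200 i (by omega) (by omega)
              · skip
                rcases Nat.lt_or_ge i 261250 with h8 | h8
                · skip
                  exact allRangeF_sound _ _ (checkPointF_eq cert) 261225 25 chkP_261225 i (by omega) (by omega)
                · skip
                  rcases Nat.lt_or_ge i 261275 with h9 | h9
                  · skip
                    exact allRangeF_sound _ _ (checkPointF_eq cert) 261250 25 chkP_261250 i (by omega) (by omega)
                  · skip
                    exact allRangeF_sound _ _ (checkPointF_eq cert) 261275 25 chkP_261275 i (by omega) (by omega)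
            · skip
              rcases Nat.lt_or_ge i 261350 with h7 | h7
              · skip
                rcases Nat.lt_or_ge i 261325 with h8 | h8
                · skip
                  exact allRangeF_sound _ _ (checkPointF_eq cert) 261300 25 chkP_261300 i (by omega) (by omega)
                · skip
                  exact allRangeF_sound _ _ (checkPointF_eq cert) 261325 25 chkP_261325 i (by omega) (by omega)
              · skip
                rcases Nat.lt_or_ge i 261375 with h8 | h8
                · skip
                  exact allRangeF_sound _ _ (checkPointF_eq cert) 261350 25 chkP_261350 i (by omega) (by omega)
                · skip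
                  rcases Nat.lt_or_ge i 261400 with h9 | h9
                  · skip
                    exact allRangeF_sound _ _ (checkPointF_eq cert) 261375 25 chkP_261375 i (by omega) (by omega)
                  · skip
                    exact allRangeF_sound _ _ (checkPointF_eq cert) 261400 25 chkP_261400 i (by omega) (by omega)
        · skip
          rcases Nat.lt_or_ge i 261650 with h5 | h5
          · skip
            rcases Nat.lt_or_ge i 261525 with h6 | h6
            · skip
              rcases Nat.lt_or_ge i 261475 with h7 | h7
              · skip
                rcases Nat.lt_or_ge i 261450 with h8 | h8
                · skip
                  exact allRangeF_sound _ _ (checkPointF_eq cert) 261425 25 chkP_261425 i (by omega) (by omega)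
                · skip
                  exact allRangeF_sound _ _ (checkPointF_eq cert) 261450 25 chkP_261450 i (by omega) (by omega)
              · skip
                rcases Nat.lt_or_ge i 261500 with h8 | h8
                · skip
                  exact allRangeF_sound _ _ (checkPointF_eq cert) 261475 25 chkP_261475 i (by omega) (by omega)
                · skip
                  exact allRangeF_sound _ _ (checkPointF_eq cert) 261500 25 chkP_261500 i (by omega) (by omega)
            · skip
              rcases Nat.lt_or_ge i 261575 with h7 | h7
              · skip
                rcases Nat.lt_or_ge i 261550 with h8 | h8
                · skip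
                  exact allRangeF_sound _ _ (checkPointF_eq cert) 261525 25 chkP_261525 i (by omega) (by omega)
                · skip
                  exact allRangeF_sound _ _ (checkPointF_eq cert) 261550 25 chkP_261550 i (by omega) (by omega)
              · skip
                rcases Nat.lt_or_ge i 261600 with h8 | h8
                · skip
                  exact allRangeF_sound _ _ (checkPointF_eq cert) 261575 25 chkP_261575 i (by omega) (by omega)
                · skip
                  rcases Nat.lt_or_ge i 261625 with h9 | h9
                  · skip
                    exact allRangeF_sound _ _ (checkPointF_eq cert) 261600 25 chkP_261600 i (by omega) (by omega)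
                  · skip
                    exact allRangeF_sound _ _ (checkPointF_eq cert) 261625 25 chkP_261625 i (by omega) (by omega)
          · skip
            rcases Nat.lt_or_ge i 261775 with h6 | h6
            · skip
              rcases Nat.lt_or_ge i 261700 with h7 | h7
              · skip
                rcases Nat.lt_or_ge i 261675 with h8 | h8
                · skip
                  exact allRangeF_sound _ _ (checkPointF_eq cert) 261650 25 chkP_261650 i (by omega) (by omega)
                · skip
                  exact allRangeF_sound _ _ (checkPointF_eq cert) 261675 25 chkP_261675 i (by omega) (by omega)
              · skip
                rcases Nat.lt_or_ge i 261725 with h8 | h8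
                · skip
                  exact allRangeF_sound _ _ (checkPointF_eq cert) 261700 25 chkP_261700 i (by omega) (by omega)
                · skip
                  rcases Nat.lt_or_ge i 261750 with h9 | h9
                  · skip
                    exact allRangeF_sound _ _ (checkPointF_eq cert) 261725 25 chkP_261725 i (by omega) (by omega)
                  · skip
                    exact allRangeF_sound _ _ (checkPointF_eq cert) 261750 25 chkP_261750 i (by omega) (by omega)
            · skip
              rcases Nat.lt_or_ge i 261825 with h7 | h7
              · skip
                rcases Nat.lt_or_ge i 261800 with h8 | h8
                · skip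
                  exact allRangeF_sound _ _ (checkPointF_eq cert) 261775 25 chkP_261775 i (by omega) (by omega)
                · skip
                  exact allRangeF_sound _ _ (checkPointF_eq cert) 261800 25 chkP_261800 i (by omega) (by omega)
              · skip
                rcases Nat.lt_or_ge i 261850 with h8 | h8
                · skip
                  exact allRangeF_sound _ _ (checkPointF_eq cert) 261825 25 chkP_261825 i (by omega) (by omega)
                · skip
                  rcases Nat.lt_or_ge i 261875 with h9 | h9
                  · skip
                    exact allRangeF_sound _ _ (checkPointF_eq cert) 261850 25 chkP_261850 i (by omega) (by omega)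
                  · skip
                    exact allRangeF_sound _ _ (checkPointF_eq cert) 261875 25 chkP_261875 i (by omega) (by omega)
      · skip
        rcases Nat.lt_or_ge i 262375 with h4 | h4
        · skip
          rcases Nat.lt_or_ge i 262125 with h5 | h5
          · skip
            rcases Nat.lt_or_ge i 262000 with h6 | h6
            · skip
              rcases Nat.lt_or_ge i 261950 with h7 | h7
              · skip
                rcases Nat.lt_or_ge i 261925 with h8 | h8
                · skip
                  exact allRangeF_sound _ _ (checkPointF_eq cert) 261900 25 chkP_261900 i (by omega) (by omega)
                · skip
                  exact allRangeF_sound _ _ (checkPointF_eq cert) 261925 25 chkP_261925 i (by omega) (by omega)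
              · skip
                rcases Nat.lt_or_ge i 261975 with h8 | h8
                · skip
                  exact allRangeF_sound _ _ (checkPointF_eq cert) 261950 25 chkP_261950 i (by omega) (by omega)
                · skip
                  exact allRangeF_sound _ _ (checkPointF_eq cert) 261975 25 chkP_261975 i (by omega) (by omega)
            · skip
              rcases Nat.lt_or_ge i 262050 with h7 | h7
              · skip
                rcases Nat.lt_or_ge i 262025 with h8 | h8
                · skip
                  exact allRangeF_sound _ _ (checkPointF_eq cert) 262000 25 chkP_262000 i (by omega) (by omega)
                · skip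
                  exact allRangeF_sound _ _ (checkPointF_eq cert) 262025 25 chkP_262025 i (by omega) (by omega)
              · skip
                rcases Nat.lt_or_ge i 262075 with h8 | h8
                · skip
                  exact allRangeF_sound _ _ (checkPointF_eq cert) 262050 25 chkP_262050 i (by omega) (by omega)
                · skip
                  rcases Nat.lt_or_ge i 262100 with h9 | h9
                  · skip
                    exact allRangeF_sound _ _ (checkPointF_eq cert) 262075 25 chkP_262075 i (by omega) (by omega)
                  · skip
                    exact allRangeF_sound _ _ (checkPointF_eq cert) 262100 25 chkP_262100 i (by omega) (by omega)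
          · skip
            rcases Nat.lt_or_ge i 262250 with h6 | h6
            · skip
              rcases Nat.lt_or_ge i 262175 with h7 | h7
              · skip
                rcases Nat.lt_or_ge i 262150 with h8 | h8
                · skip
                  exact allRangeF_sound _ _ (checkPointF_eq cert) 262125 25 chkP_262125 i (by omega) (by omega)
                · skip
                  exact allRangeF_sound _ _ (checkPointF_eq cert) 262150 25 chkP_262150 i (by omega) (by omega)
              · skip
                rcases Nat.lt_or_ge i 262200 with h8 | h8
                · skip
                  exact allRangeF_sound _ _ (checkPointF_eq cert) 262175 25 chkP_262175 i (by omega) (by omega)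
                · skip
                  rcases Nat.lt_or_ge i 262225 with h9 | h9
                  · skip
                    exact allRangeF_sound _ _ (checkPointF_eq cert) 262200 25 chkP_262200 i (by omega) (by omega)
                  · skip
                    exact allRangeF_sound _ _ (checkPointF_eq cert) 262225 25 chkP_262225 i (by omega) (by omega)
            · skip
              rcases Nat.lt_or_ge i 262300 with h7 | h7
              · skip
                rcases Nat.lt_or_ge i 262275 with h8 | h8
                · skip
                  exact allRangeF_sound _ _ (checkPointF_eq cert) 262250 25 chkP_262250 i (by omega) (by omega)
                · skip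
                  exact allRangeF_sound _ _ (checkPointF_eq cert) 262275 25 chkP_262275 i (by omega) (by omega)
              · skip
                rcases Nat.lt_or_ge i 262325 with h8 | h8
                · skip
                  exact allRangeF_sound _ _ (checkPointF_eq cert) 262300 25 chkP_262300 i (by omega) (by omega)
                · skip
                  rcases Nat.lt_or_ge i 262350 with h9 | h9
                  · skip
                    exact allRangeF_sound _ _ (checkPointF_eq cert) 262325 25 chkP_262325 i (by omega) (by omega)
                  · skip
                    exact allRangeF_sound _ _ (checkPointF_eq cert) 262350 25 chkP_262350 i (by omega) (by omega)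
        · skip
          rcases Nat.lt_or_ge i 262600 with h5 | h5
          · skip
            rcases Nat.lt_or_ge i 262475 with h6 | h6
            · skip
              rcases Nat.lt_or_ge i 262425 with h7 | h7
              · skip
                rcases Nat.lt_or_ge i 262400 with h8 | h8
                · skip
                  exact allRangeF_sound _ _ (checkPointF_eq cert) 262375 25 chkP_262375 i (by omega) (by omega)
                · skip
                  exact allRangeF_sound _ _ (checkPointF_eq cert) 262400 25 chkP_262400 i (by omega) (by omega)
              · skip
                rcases Nat.lt_or_ge i 262450 with h8 | h8
                · skip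
                  exact allRangeF_sound _ _ (checkPointF_eq cert) 262425 25 chkP_262425 i (by omega) (by omega)
                · skip
                  exact allRangeF_sound _ _ (checkPointF_eq cert) 262450 25 chkP_262450 i (by omega) (by omega)
            · skip
              rcases Nat.lt_or_ge i 262525 with h7 | h7
              · skip
                rcases Nat.lt_or_ge i 262500 with h8 | h8
                · skip
                  exact allRangeF_sound _ _ (checkPointF_eq cert) 262475 25 chkP_262475 i (by omega) (by omega)
                · skip
                  exact allRangeF_sound _ _ (checkPointF_eq cert) 262500 25 chkP_262500 i (by omega) (by omega)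
              · skip
                rcases Nat.lt_or_ge i 262550 with h8 | h8
                · skip
                  exact allRangeF_sound _ _ (checkPointF_eq cert) 262525 25 chkP_262525 i (by omega) (by omega)
                · skip
                  rcases Nat.lt_or_ge i 262575 with h9 | h9
                  · skip
                    exact allRangeF_sound _ _ (checkPointF_eq cert) 262550 25 chkP_262550 i (by omega) (by omega)
                  · skip
                    exact allRangeF_sound _ _ (checkPointF_eq cert) 262575 25 chkP_262575 i (by omega) (by omega)
          · skip
            rcases Nat.lt_or_ge i 262725 with h6 | h6
            · skip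
              rcases Nat.lt_or_ge i 262650 with h7 | h7
              · skip
                rcases Nat.lt_or_ge i 262625 with h8 | h8
                · skip
                  exact allRangeF_sound _ _ (checkPointF_eq cert) 262600 25 chkP_262600 i (by omega) (by omega)
                · skip
                  exact allRangeF_sound _ _ (checkPointF_eq cert) 262625 25 chkP_262625 i (by omega) (by omega)
              · skip
                rcases Nat.lt_or_ge i 262675 with h8 | h8
                · skip
                  exact allRangeF_sound _ _ (checkPointF_eq cert) 262650 25 chkP_262650 i (by omega) (by omega)
                · skip
                  rcases Nat.lt_or_ge i 262700 with h9 | h9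
                  · skip
                    exact allRangeF_sound _ _ (checkPointF_eq cert) 262675 25 chkP_262675 i (by omega) (by omega)
                  · skip
                    exact allRangeF_sound _ _ (checkPointF_eq cert) 262700 25 chkP_262700 i (by omega) (by omega)
            · skip
              rcases Nat.lt_or_ge i 262775 with h7 | h7
              · skip
                rcases Nat.lt_or_ge i 262750 with h8 | h8
                · skip
                  exact allRangeF_sound _ _ (checkPointF_eq cert) 262725 25 chkP_262725 i (by omega) (by omega)
                · skip
                  exact allRangeF_sound _ _ (checkPointF_eq cert) 262750 25 chkP_262750 i (by omega) (by omega)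
              · skip
                rcases Nat.lt_or_ge i 262800 with h8 | h8
                · skip
                  exact allRangeF_sound _ _ (checkPointF_eq cert) 262775 25 chkP_262775 i (by omega) (by omega)
                · skip
                  rcases Nat.lt_or_ge i 262825 with h9 | h9
                  · skip
                    exact allRangeF_sound _ _ (checkPointF_eq cert) 262800 25 chkP_262800 i (by omega) (by omega)
                  · skip
                    exact allRangeF_sound _ _ (checkPointF_eq cert) 262825 25 chkP_262825 i (by omega) (by omega)
    · skip
      rcases Nat.lt_or_ge i 263800 with h3 | h3
      · skip
        rcases Nat.lt_or_ge i 263325 with h4 | h4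
        · skip
          rcases Nat.lt_or_ge i 263075 with h5 | h5
          · skip
            rcases Nat.lt_or_ge i 262950 with h6 | h6
            · skip
              rcases Nat.lt_or_ge i 262900 with h7 | h7
              · skip
                rcases Nat.lt_or_ge i 262875 with h8 | h8
                · skip
                  exact allRangeF_sound _ _ (checkPointF_eq cert) 262850 25 chkP_262850 i (by omega) (by omega)
                · skip
                  exact allRangeF_sound _ _ (checkPointF_eq cert) 262875 25 chkP_262875 i (by omega) (by omega)
              · skip
                rcases Nat.lt_or_ge i 262925 with h8 | h8
                · skip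
                  exact allRangeF_sound _ _ (checkPointF_eq cert) 262900 25 chkP_262900 i (by omega) (by omega)
                · skip
                  exact allRangeF_sound _ _ (checkPointF_eq cert) 262925 25 chkP_262925 i (by omega) (by omega)
            · skip
              rcases Nat.lt_or_ge i 263000 with h7 | h7
              · skip
                rcases Nat.lt_or_ge i 262975 with h8 | h8
                · skip
                  exact allRangeF_sound _ _ (checkPointF_eq cert) 262950 25 chkP_262950 i (by omega) (by omega)
                · skip
                  exact allRangeF_sound _ _ (checkPointF_eq cert) 262975 25 chkP_262975 i (by omega) (by omega)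
              · skip
                rcases Nat.lt_or_ge i 263025 with h8 | h8
                · skip
                  exact allRangeF_sound _ _ (checkPointF_eq cert) 263000 25 chkP_263000 i (by omega) (by omega)
                · skip
                  rcases Nat.lt_or_ge i 263050 with h9 | h9
                  · skip
                    exact allRangeF_sound _ _ (checkPointF_eq cert) 263025 25 chkP_263025 i (by omega) (by omega)
                  · skip
                    exact allRangeF_sound _ _ (checkPointF_eq cert) 263050 25 chkP_263050 i (by omega) (by omega)
          · skip
            rcases Nat.lt_or_ge i 263200 with h6 | h6
            · skip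
              rcases Nat.lt_or_ge i 263125 with h7 | h7
              · skip
                rcases Nat.lt_or_ge i 263100 with h8 | h8
                · skip
                  exact allRangeF_sound _ _ (checkPointF_eq cert) 263075 25 chkP_263075 i (by omega) (by omega)
                · skip
                  exact allRangeF_sound _ _ (checkPointF_eq cert) 263100 25 chkP_263100 i (by omega) (by omega)
              · skip
                rcases Nat.lt_or_ge i 263150 with h8 | h8
                · skip
                  exact allRangeF_sound _ _ (checkPointF_eq cert) 263125 25 chkP_263125 i (by omega) (by omega)
                · skip
                  rcases Nat.lt_or_ge i 263175 with h9 | h9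
                  · skip
                    exact allRangeF_sound _ _ (checkPointF_eq cert) 263150 25 chkP_263150 i (by omega) (by omega)
                  · skip
                    exact allRangeF_sound _ _ (checkPointF_eq cert) 263175 25 chkP_263175 i (by omega) (by omega)
            · skip
              rcases Nat.lt_or_ge i 263250 with h7 | h7
              · skip
                rcases Nat.lt_or_ge i 263225 with h8 | h8
                · skip
                  exact allRangeF_sound _ _ (checkPointF_eq cert) 263200 25 chkP_263200 i (by omega) (by omega)
                · skip
                  exact allRangeF_sound _ _ (checkPointF_eq cert) 263225 25 chkP_263225 i (by omega) (by omega)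
              · skip
                rcases Nat.lt_or_ge i 263275 with h8 | h8
                · skip
                  exact allRangeF_sound _ _ (checkPointF_eq cert) 263250 25 chkP_263250 i (by omega) (by omega)
                · skip
                  rcases Nat.lt_or_ge i 263300 with h9 | h9
                  · skip
                    exact allRangeF_sound _ _ (checkPointF_eq cert) 263275 25 chkP_263275 i (by omega) (by omega)
                  · skip
                    exact allRangeF_sound _ _ (checkPointF_eq cert) 263300 25 chkP_263300 i (by omega) (by omega)
        · skip
          rcases Nat.lt_or_ge i 263550 with h5 | h5
          · skip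
            rcases Nat.lt_or_ge i 263425 with h6 | h6
            · skip
              rcases Nat.lt_or_ge i 263375 with h7 | h7
              · skip
                rcases Nat.lt_or_ge i 263350 with h8 | h8
                · skip
                  exact allRangeF_sound _ _ (checkPointF_eq cert) 263325 25 chkP_263325 i (by omega) (by omega)
                · skip
                  exact allRangeF_sound _ _ (checkPointF_eq cert) 263350 25 chkP_263350 i (by omega) (by omega)
              · skip
                rcases Nat.lt_or_ge i 263400 with h8 | h8
                · skip
                  exact allRangeF_sound _ _ (checkPointF_eq cert) 263375 25 chkP_263375 i (by omega) (by omega)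
                · skip
                  exact allRangeF_sound _ _ (checkPointF_eq cert) 263400 25 chkP_263400 i (by omega) (by omega)
            · skip
              rcases Nat.lt_or_ge i 263475 with h7 | h7
              · skip
                rcases Nat.lt_or_ge i 263450 with h8 | h8
                · skip
                  exact allRangeF_sound _ _ (checkPointF_eq cert) 263425 25 chkP_263425 i (by omega) (by omega)
                · skip
                  exact allRangeF_sound _ _ (checkPointF_eq cert) 263450 25 chkP_263450 i (by omega) (by omega)
              · skip
                rcases Nat.lt_or_ge i 263500 with h8 | h8
                · skip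
                  exact allRangeF_sound _ _ (checkPointF_eq cert) 263475 25 chkP_263475 i (by omega) (by omega)
                · skip
                  rcases Nat.lt_or_ge i 263525 with h9 | h9
                  · skip
                    exact allRangeF_sound _ _ (checkPointF_eq cert) 263500 25 chkP_263500 i (by omega) (by omega)
                  · skip
                    exact allRangeF_sound _ _ (checkPointF_eq cert) 263525 25 chkP_263525 i (by omega) (by omega)
          · skip
            rcases Nat.lt_or_ge i 263675 with h6 | h6
            · skip
              rcases Nat.lt_or_ge i 263600 with h7 | h7
              · skip
                rcases Nat.lt_or_ge i 263575 with h8 | h8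
                · skip
                  exact allRangeF_sound _ _ (checkPointF_eq cert) 263550 25 chkP_263550 i (by omega) (by omega)
                · skip
                  exact allRangeF_sound _ _ (checkPointF_eq cert) 263575 25 chkP_263575 i (by omega) (by omega)
              · skip
                rcases Nat.lt_or_ge i 263625 with h8 | h8
                · skip
                  exact allRangeF_sound _ _ (checkPointF_eq cert) 263600 25 chkP_263600 i (by omega) (by omega)
                · skip
                  rcases Nat.lt_or_ge i 263650 with h9 | h9
                  · skip
                    exact allRangeF_sound _ _ (checkPointF_eq cert) 263625 25 chkP_263625 i (by omega) (by omega)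
                  · skip
                    exact allRangeF_sound _ _ (checkPointF_eq cert) 263650 25 chkP_263650 i (by omega) (by omega)
            · skip
              rcases Nat.lt_or_ge i 263725 with h7 | h7
              · skip
                rcases Nat.lt_or_ge i 263700 with h8 | h8
                · skip
                  exact allRangeF_sound _ _ (checkPointF_eq cert) 263675 25 chkP_263675 i (by omega) (by omega)
                · skip
                  exact allRangeF_sound _ _ (checkPointF_eq cert) 263700 25 chkP_263700 i (by omega) (by omega)
              · skip
                rcases Nat.lt_or_ge i 263750 with h8 | h8
                · skip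
                  exact allRangeF_sound _ _ (checkPointF_eq cert) 263725 25 chkP_263725 i (by omega) (by omega)
                · skip
                  rcases Nat.lt_or_ge i 263775 with h9 | h9
                  · skip
                    exact allRangeF_sound _ _ (checkPointF_eq cert) 263750 25 chkP_263750 i (by omega) (by omega)
                  · skip
                    exact allRangeF_sound _ _ (checkPointF_eq cert) 263775 25 chkP_263775 i (by omega) (by omega)
      · skip
        rcases Nat.lt_or_ge i 264275 with h4 | h4
        · skip
          rcases Nat.lt_or_ge i 264025 with h5 | h5
          · skip
            rcases Nat.lt_or_ge i 263900 with h6 | h6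
            · skip
              rcases Nat.lt_or_ge i 263850 with h7 | h7
              · skip
                rcases Nat.lt_or_ge i 263825 with h8 | h8
                · skip
                  exact allRangeF_sound _ _ (checkPointF_eq cert) 263800 25 chkP_263800 i (by omega) (by omega)
                · skip
                  exact allRangeF_sound _ _ (checkPointF_eq cert) 263825 25 chkP_263825 i (by omega) (by omega)
              · skip
                rcases Nat.lt_or_ge i 263875 with h8 | h8
                · skip
                  exact allRangeF_sound _ _ (checkPointF_eq cert) 263850 25 chkP_263850 i (by omega) (by omega)
                · skip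
                  exact allRangeF_sound _ _ (checkPointF_eq cert) 263875 25 chkP_263875 i (by omega) (by omega)
            · skip
              rcases Nat.lt_or_ge i 263950 with h7 | h7
              · skip
                rcases Nat.lt_or_ge i 263925 with h8 | h8
                · skip
                  exact allRangeF_sound _ _ (checkPointF_eq cert) 263900 25 chkP_263900 i (by omega) (by omega)
                · skip
                  exact allRangeF_sound _ _ (checkPointF_eq cert) 263925 25 chkP_263925 i (by omega) (by omega)
              · skip
                rcases Nat.lt_or_ge i 263975 with h8 | h8
                · skip
                  exact allRangeF_sound _ _ (checkPointF_eq cert) 263950 25 chkP_263950 i (by omega) (by omega)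
                · skip
                  rcases Nat.lt_or_ge i 264000 with h9 | h9
                  · skip
                    exact allRangeF_sound _ _ (checkPointF_eq cert) 263975 25 chkP_263975 i (by omega) (by omega)
                  · skip
                    exact allRangeF_sound _ _ (checkPointF_eq cert) 264000 25 chkP_264000 i (by omega) (by omega)
          · skip
            rcases Nat.lt_or_ge i 264150 with h6 | h6
            · skip
              rcases Nat.lt_or_ge i 264075 with h7 | h7
              · skip
                rcases Nat.lt_or_ge i 264050 with h8 | h8
                · skip
                  exact allRangeF_sound _ _ (checkPointF_eq cert) 264025 25 chkP_264025 i (by omega) (by omega)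
                · skip
                  exact allRangeF_sound _ _ (checkPointF_eq cert) 264050 25 chkP_264050 i (by omega) (by omega)
              · skip
                rcases Nat.lt_or_ge i 264100 with h8 | h8
                · skip
                  exact allRangeF_sound _ _ (checkPointF_eq cert) 264075 25 chkP_264075 i (by omega) (by omega)
                · skip
                  rcases Nat.lt_or_ge i 264125 with h9 | h9
                  · skip
                    exact allRangeF_sound _ _ (checkPointF_eq cert) 264100 25 chkP_264100 i (by omega) (by omega)
                  · skip
                    exact allRangeF_sound _ _ (checkPointF_eq cert) 264125 25 chkP_264125 i (by omega) (by omega)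
            · skip
              rcases Nat.lt_or_ge i 264200 with h7 | h7
              · skip
                rcases Nat.lt_or_ge i 264175 with h8 | h8
                · skip
                  exact allRangeF_sound _ _ (checkPointF_eq cert) 264150 25 chkP_264150 i (by omega) (by omega)
                · skip
                  exact allRangeF_sound _ _ (checkPointF_eq cert) 264175 25 chkP_264175 i (by omega) (by omega)
              · skip
                rcases Nat.lt_or_ge i 264225 with h8 | h8
                · skip
                  exact allRangeF_sound _ _ (checkPointF_eq cert) 264200 25 chkP_264200 i (by omega) (by omega)
                · skip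
                  rcases Nat.lt_or_ge i 264250 with h9 | h9
                  · skip
                    exact allRangeF_sound _ _ (checkPointF_eq cert) 264225 25 chkP_264225 i (by omega) (by omega)
                  · skip
                    exact allRangeF_sound _ _ (checkPointF_eq cert) 264250 25 chkP_264250 i (by omega) (by omega)
        · skip
          rcases Nat.lt_or_ge i 264525 with h5 | h5
          · skip
            rcases Nat.lt_or_ge i 264400 with h6 | h6
            · skip
              rcases Nat.lt_or_ge i 264325 with h7 | h7
              · skip
                rcases Nat.lt_or_ge i 264300 with h8 | h8
                · skip
                  exact allRangeF_sound _ _ (checkPointF_eq cert) 264275 25 chkP_264275 i (by omega) (by omega)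
                · skip
                  exact allRangeF_sound _ _ (checkPointF_eq cert) 264300 25 chkP_264300 i (by omega) (by omega)
              · skip
                rcases Nat.lt_or_ge i 264350 with h8 | h8
                · skip
                  exact allRangeF_sound _ _ (checkPointF_eq cert) 264325 25 chkP_264325 i (by omega) (by omega)
                · skip
                  rcases Nat.lt_or_ge i 264375 with h9 | h9
                  · skip
                    exact allRangeF_sound _ _ (checkPointF_eq cert) 264350 25 chkP_264350 i (by omega) (by omega)
                  · skip
                    exact allRangeF_sound _ _ (checkPointF_eq cert) 264375 25 chkP_264375 i (by omega) (by omega)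
            · skip
              rcases Nat.lt_or_ge i 264450 with h7 | h7
              · skip
                rcases Nat.lt_or_ge i 264425 with h8 | h8
                · skip
                  exact allRangeF_sound _ _ (checkPointF_eq cert) 264400 25 chkP_264400 i (by omega) (by omega)
                · skip
                  exact allRangeF_sound _ _ (checkPointF_eq cert) 264425 25 chkP_264425 i (by omega) (by omega)
              · skip
                rcases Nat.lt_or_ge i 264475 with h8 | h8
                · skip
                  exact allRangeF_sound _ _ (checkPointF_eq cert) 264450 25 chkP_264450 i (by omega) (by omega)
                · skip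
                  rcases Nat.lt_or_ge i 264500 with h9 | h9
                  · skip
                    exact allRangeF_sound _ _ (checkPointF_eq cert) 264475 25 chkP_264475 i (by omega) (by omega)
                  · skip
                    exact allRangeF_sound _ _ (checkPointF_eq cert) 264500 25 chkP_264500 i (by omega) (by omega)
          · skip
            rcases Nat.lt_or_ge i 264650 with h6 | h6
            · skip
              rcases Nat.lt_or_ge i 264575 with h7 | h7
              · skip
                rcases Nat.lt_or_ge i 264550 with h8 | h8
                · skip
                  exact allRangeF_sound _ _ (checkPointF_eq cert) 264525 25 chkP_264525 i (by omega) (by omega)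
                · skip
                  exact allRangeF_sound _ _ (checkPointF_eq cert) 264550 25 chkP_264550 i (by omega) (by omega)
              · skip
                rcases Nat.lt_or_ge i 264600 with h8 | h8
                · skip
                  exact allRangeF_sound _ _ (checkPointF_eq cert) 264575 25 chkP_264575 i (by omega) (by omega)
                · skip
                  rcases Nat.lt_or_ge i 264625 with h9 | h9
                  · skip
                    exact allRangeF_sound _ _ (checkPointF_eq cert) 264600 25 chkP_264600 i (by omega) (by omega)
                  · skip
                    exact allRangeF_sound _ _ (checkPointF_eq cert) 264625 25 chkP_264625 i (by omega) (by omega)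
            · skip
              rcases Nat.lt_or_ge i 264700 with h7 | h7
              · skip
                rcases Nat.lt_or_ge i 264675 with h8 | h8
                · skip
                  exact allRangeF_sound _ _ (checkPointF_eq cert) 264650 25 chkP_264650 i (by omega) (by omega)
                · skip
                  exact allRangeF_sound _ _ (checkPointF_eq cert) 264675 25 chkP_264675 i (by omega) (by omega)
              · skip
                rcases Nat.lt_or_ge i 264725 with h8 | h8
                · skip
                  exact allRangeF_sound _ _ (checkPointF_eq cert) 264700 25 chkP_264700 i (by omega) (by omega)
                · skip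
                  rcases Nat.lt_or_ge i 264750 with h9 | h9
                  · skip
                    exact allRangeF_sound _ _ (checkPointF_eq cert) 264725 25 chkP_264725 i (by omega) (by omega)
                  · skip
                    exact allRangeF_sound _ _ (checkPointF_eq cert) 264750 25 chkP_264750 i (by omega) (by omega)
  · skip
    rcases Nat.lt_or_ge i 266700 with h2 | h2
    · skip
      rcases Nat.lt_or_ge i 265725 with h3 | h3
      · skip
        rcases Nat.lt_or_ge i 265250 with h4 | h4
        · skip
          rcases Nat.lt_or_ge i 265000 with h5 | h5
          · skip
            rcases Nat.lt_or_ge i 264875 with h6 | h6
            · skip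
              rcases Nat.lt_or_ge i 264825 with h7 | h7
              · skip
                rcases Nat.lt_or_ge i 264800 with h8 | h8
                · skip
                  exact allRangeF_sound _ _ (checkPointF_eq cert) 264775 25 chkP_264775 i (by omega) (by omega)
                · skip
                  exact allRangeF_sound _ _ (checkPointF_eq cert) 264800 25 chkP_264800 i (by omega) (by omega)
              · skip
                rcases Nat.lt_or_ge i 264850 with h8 | h8
                · skip
                  exact allRangeF_sound _ _ (checkPointF_eq cert) 264825 25 chkP_264825 i (by omega) (by omega)
                · skip
                  exact allRangeF_sound _ _ (checkPointF_eq cert) 264850 25 chkP_264850 i (by omega) (by omega)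
            · skip
              rcases Nat.lt_or_ge i 264925 with h7 | h7
              · skip
                rcases Nat.lt_or_ge i 264900 with h8 | h8
                · skip
                  exact allRangeF_sound _ _ (checkPointF_eq cert) 264875 25 chkP_264875 i (by omega) (by omega)
                · skip
                  exact allRangeF_sound _ _ (checkPointF_eq cert) 264900 25 chkP_264900 i (by omega) (by omega)
              · skip
                rcases Nat.lt_or_ge i 264950 with h8 | h8
                · skip
                  exact allRangeF_sound _ _ (checkPointF_eq cert) 264925 25 chkP_264925 i (by omega) (by omega)
                · skip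
                  rcases Nat.lt_or_ge i 264975 with h9 | h9
                  · skip
                    exact allRangeF_sound _ _ (checkPointF_eq cert) 264950 25 chkP_264950 i (by omega) (by omega)
                  · skip
                    exact allRangeF_sound _ _ (checkPointF_eq cert) 264975 25 chkP_264975 i (by omega) (by omega)
          · skip
            rcases Nat.lt_or_ge i 265125 with h6 | h6
            · skip
              rcases Nat.lt_or_ge i 265050 with h7 | h7
              · skip
                rcases Nat.lt_or_ge i 265025 with h8 | h8
                · skip
                  exact allRangeF_sound _ _ (checkPointF_eq cert) 265000 25 chkP_265000 i (by omega) (by omega)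
                · skip
                  exact allRangeF_sound _ _ (checkPointF_eq cert) 265025 25 chkP_265025 i (by omega) (by omega)
              · skip
                rcases Nat.lt_or_ge i 265075 with h8 | h8
                · skip
                  exact allRangeF_sound _ _ (checkPointF_eq cert) 265050 25 chkP_265050 i (by omega) (by omega)
                · skip
                  rcases Nat.lt_or_ge i 265100 with h9 | h9
                  · skip
                    exact allRangeF_sound _ _ (checkPointF_eq cert) 265075 25 chkP_265075 i (by omega) (by omega)
                  · skip
                    exact allRangeF_sound _ _ (checkPointF_eq cert) 265100 25 chkP_265100 i (by omega) (by omega)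
            · skip
              rcases Nat.lt_or_ge i 265175 with h7 | h7
              · skip
                rcases Nat.lt_or_ge i 265150 with h8 | h8
                · skip
                  exact allRangeF_sound _ _ (checkPointF_eq cert) 265125 25 chkP_265125 i (by omega) (by omega)
                · skip
                  exact allRangeF_sound _ _ (checkPointF_eq cert) 265150 25 chkP_265150 i (by omega) (by omega)
              · skip
                rcases Nat.lt_or_ge i 265200 with h8 | h8
                · skip
                  exact allRangeF_sound _ _ (checkPointF_eq cert) 265175 25 chkP_265175 i (by omega) (by omega)
                · skip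
                  rcases Nat.lt_or_ge i 265225 with h9 | h9
                  · skip
                    exact allRangeF_sound _ _ (checkPointF_eq cert) 265200 25 chkP_265200 i (by omega) (by omega)
                  · skip
                    exact allRangeF_sound _ _ (checkPointF_eq cert) 265225 25 chkP_265225 i (by omega) (by omega)
        · skip
          rcases Nat.lt_or_ge i 265475 with h5 | h5
          · skip
            rcases Nat.lt_or_ge i 265350 with h6 | h6
            · skip
              rcases Nat.lt_or_ge i 265300 with h7 | h7
              · skip
                rcases Nat.lt_or_ge i 265275 with h8 | h8
                · skip
                  exact allRangeF_sound _ _ (checkPointF_eq cert) 265250 25 chkP_265250 i (by omega) (by omega)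
                · skip
                  exact allRangeF_sound _ _ (checkPointF_eq cert) 265275 25 chkP_265275 i (by omega) (by omega)
              · skip
                rcases Nat.lt_or_ge i 265325 with h8 | h8
                · skip
                  exact allRangeF_sound _ _ (checkPointF_eq cert) 265300 25 chkP_265300 i (by omega) (by omega)
                · skip
                  exact allRangeF_sound _ _ (checkPointF_eq cert) 265325 25 chkP_265325 i (by omega) (by omega)
            · skip
              rcases Nat.lt_or_ge i 265400 with h7 | h7
              · skip
                rcases Nat.lt_or_ge i 265375 with h8 | h8
                · skip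
                  exact allRangeF_sound _ _ (checkPointF_eq cert) 265350 25 chkP_265350 i (by omega) (by omega)
                · skip
                  exact allRangeF_sound _ _ (checkPointF_eq cert) 265375 25 chkP_265375 i (by omega) (by omega)
              · skip
                rcases Nat.lt_or_ge i 265425 with h8 | h8
                · skip
                  exact allRangeF_sound _ _ (checkPointF_eq cert) 265400 25 chkP_265400 i (by omega) (by omega)
                · skip
                  rcases Nat.lt_or_ge i 265450 with h9 | h9
                  · skip
                    exact allRangeF_sound _ _ (checkPointF_eq cert) 265425 25 chkP_265425 i (by omega) (by omega)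
                  · skip
                    exact allRangeF_sound _ _ (checkPointF_eq cert) 265450 25 chkP_265450 i (by omega) (by omega)
          · skip
            rcases Nat.lt_or_ge i 265600 with h6 | h6
            · skip
              rcases Nat.lt_or_ge i 265525 with h7 | h7
              · skip
                rcases Nat.lt_or_ge i 265500 with h8 | h8
                · skip
                  exact allRangeF_sound _ _ (checkPointF_eq cert) 265475 25 chkP_265475 i (by omega) (by omega)
                · skip
                  exact allRangeF_sound _ _ (checkPointF_eq cert) 265500 25 chkP_265500 i (by omega) (by omega)
              · skip
                rcases Nat.lt_or_ge i 265550 with h8 | h8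
                · skip
                  exact allRangeF_sound _ _ (checkPointF_eq cert) 265525 25 chkP_265525 i (by omega) (by omega)
                · skip
                  rcases Nat.lt_or_ge i 265575 with h9 | h9
                  · skip
                    exact allRangeF_sound _ _ (checkPointF_eq cert) 265550 25 chkP_265550 i (by omega) (by omega)
                  · skip
                    exact allRangeF_sound _ _ (checkPointF_eq cert) 265575 25 chkP_265575 i (by omega) (by omega)
            · skip
              rcases Nat.lt_or_ge i 265650 with h7 | h7
              · skip
                rcases Nat.lt_or_ge i 265625 with h8 | h8
                · skip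
                  exact allRangeF_sound _ _ (checkPointF_eq cert) 265600 25 chkP_265600 i (by omega) (by omega)
                · skip
                  exact allRangeF_sound _ _ (checkPointF_eq cert) 265625 25 chkP_265625 i (by omega) (by omega)
              · skip
                rcases Nat.lt_or_ge i 265675 with h8 | h8
                · skip
                  exact allRangeF_sound _ _ (checkPointF_eq cert) 265650 25 chkP_265650 i (by omega) (by omega)
                · skip
                  rcases Nat.lt_or_ge i 265700 with h9 | h9
                  · skip
                    exact allRangeF_sound _ _ (checkPointF_eq cert) 265675 25 chkP_265675 i (by omega) (by omega)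
                  · skip
                    exact allRangeF_sound _ _ (checkPointF_eq cert) 265700 25 chkP_265700 i (by omega) (by omega)
      · skip
        rcases Nat.lt_or_ge i 266200 with h4 | h4
        · skip
          rcases Nat.lt_or_ge i 265950 with h5 | h5
          · skip
            rcases Nat.lt_or_ge i 265825 with h6 | h6
            · skip
              rcases Nat.lt_or_ge i 265775 with h7 | h7
              · skip
                rcases Nat.lt_or_ge i 265750 with h8 | h8
                · skip
                  exact allRangeF_sound _ _ (checkPointF_eq cert) 265725 25 chkP_265725 i (by omega) (by omega)
                · skip
                  exact allRangeF_sound _ _ (checkPointF_eq cert) 265750 25 chkP_265750 i (by omega) (by omega)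
              · skip
                rcases Nat.lt_or_ge i 265800 with h8 | h8
                · skip
                  exact allRangeF_sound _ _ (checkPointF_eq cert) 265775 25 chkP_265775 i (by omega) (by omega)
                · skip
                  exact allRangeF_sound _ _ (checkPointF_eq cert) 265800 25 chkP_265800 i (by omega) (by omega)
            · skip
              rcases Nat.lt_or_ge i 265875 with h7 | h7
              · skip
                rcases Nat.lt_or_ge i 265850 with h8 | h8
                · skip
                  exact allRangeF_sound _ _ (checkPointF_eq cert) 265825 25 chkP_265825 i (by omega) (by omega)
                · skip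
                  exact allRangeF_sound _ _ (checkPointF_eq cert) 265850 25 chkP_265850 i (by omega) (by omega)
              · skip
                rcases Nat.lt_or_ge i 265900 with h8 | h8
                · skip
                  exact allRangeF_sound _ _ (checkPointF_eq cert) 265875 25 chkP_265875 i (by omega) (by omega)
                · skip
                  rcases Nat.lt_or_ge i 265925 with h9 | h9
                  · skip
                    exact allRangeF_sound _ _ (checkPointF_eq cert) 265900 25 chkP_265900 i (by omega) (by omega)
                  · skip
                    exact allRangeF_sound _ _ (checkPointF_eq cert) 265925 25 chkP_265925 i (by omega) (by omega)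
          · skip
            rcases Nat.lt_or_ge i 266075 with h6 | h6
            · skip
              rcases Nat.lt_or_ge i 266000 with h7 | h7
              · skip
                rcases Nat.lt_or_ge i 265975 with h8 | h8
                · skip
                  exact allRangeF_sound _ _ (checkPointF_eq cert) 265950 25 chkP_265950 i (by omega) (by omega)
                · skip
                  exact allRangeF_sound _ _ (checkPointF_eq cert) 265975 25 chkP_265975 i (by omega) (by omega)
              · skip
                rcases Nat.lt_or_ge i 266025 with h8 | h8
                · skip
                  exact allRangeF_sound _ _ (checkPointF_eq cert) 266000 25 chkP_266000 i (by omega) (by omega)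
                · skip
                  rcases Nat.lt_or_ge i 266050 with h9 | h9
                  · skip
                    exact allRangeF_sound _ _ (checkPointF_eq cert) 266025 25 chkP_266025 i (by omega) (by omega)
                  · skip
                    exact allRangeF_sound _ _ (checkPointF_eq cert) 266050 25 chkP_266050 i (by omega) (by omega)
            · skip
              rcases Nat.lt_or_ge i 266125 with h7 | h7
              · skip
                rcases Nat.lt_or_ge i 266100 with h8 | h8
                · skip
                  exact allRangeF_sound _ _ (checkPointF_eq cert) 266075 25 chkP_266075 i (by omega) (by omega)
                · skip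
                  exact allRangeF_sound _ _ (checkPointF_eq cert) 266100 25 chkP_266100 i (by omega) (by omega)
              · skip
                rcases Nat.lt_or_ge i 266150 with h8 | h8
                · skip
                  exact allRangeF_sound _ _ (checkPointF_eq cert) 266125 25 chkP_266125 i (by omega) (by omega)
                · skip
                  rcases Nat.lt_or_ge i 266175 with h9 | h9
                  · skip
                    exact allRangeF_sound _ _ (checkPointF_eq cert) 266150 25 chkP_266150 i (by omega) (by omega)
                  · skip
                    exact allRangeF_sound _ _ (checkPointF_eq cert) 266175 25 chkP_266175 i (by omega) (by omega)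
        · skip
          rcases Nat.lt_or_ge i 266450 with h5 | h5
          · skip
            rcases Nat.lt_or_ge i 266325 with h6 | h6
            · skip
              rcases Nat.lt_or_ge i 266250 with h7 | h7
              · skip
                rcases Nat.lt_or_ge i 266225 with h8 | h8
                · skip
                  exact allRangeF_sound _ _ (checkPointF_eq cert) 266200 25 chkP_266200 i (by omega) (by omega)
                · skip
                  exact allRangeF_sound _ _ (checkPointF_eq cert) 266225 25 chkP_266225 i (by omega) (by omega)
              · skip
                rcases Nat.lt_or_ge i 266275 with h8 | h8
                · skip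
                  exact allRangeF_sound _ _ (checkPointF_eq cert) 266250 25 chkP_266250 i (by omega) (by omega)
                · skip
                  rcases Nat.lt_or_ge i 266300 with h9 | h9
                  · skip
                    exact allRangeF_sound _ _ (checkPointF_eq cert) 266275 25 chkP_266275 i (by omega) (by omega)
                  · skip
                    exact allRangeF_sound _ _ (checkPointF_eq cert) 266300 25 chkP_266300 i (by omega) (by omega)
            · skip
              rcases Nat.lt_or_ge i 266375 with h7 | h7
              · skip
                rcases Nat.lt_or_ge i 266350 with h8 | h8
                · skip
                  exact allRangeF_sound _ _ (checkPointF_eq cert) 266325 25 chkP_266325 i (by omega) (by omega)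
                · skip
                  exact allRangeF_sound _ _ (checkPointF_eq cert) 266350 25 chkP_266350 i (by omega) (by omega)
              · skip
                rcases Nat.lt_or_ge i 266400 with h8 | h8
                · skip
                  exact allRangeF_sound _ _ (checkPointF_eq cert) 266375 25 chkP_266375 i (by omega) (by omega)
                · skip
                  rcases Nat.lt_or_ge i 266425 with h9 | h9
                  · skip
                    exact allRangeF_sound _ _ (checkPointF_eq cert) 266400 25 chkP_266400 i (by omega) (by omega)
                  · skip
                    exact allRangeF_sound _ _ (checkPointF_eq cert) 266425 25 chkP_266425 i (by omega) (by omega)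
          · skip
            rcases Nat.lt_or_ge i 266575 with h6 | h6
            · skip
              rcases Nat.lt_or_ge i 266500 with h7 | h7
              · skip
                rcases Nat.lt_or_ge i 266475 with h8 | h8
                · skip
                  exact allRangeF_sound _ _ (checkPointF_eq cert) 266450 25 chkP_266450 i (by omega) (by omega)
                · skip
                  exact allRangeF_sound _ _ (checkPointF_eq cert) 266475 25 chkP_266475 i (by omega) (by omega)
              · skip
                rcases Nat.lt_or_ge i 266525 with h8 | h8
                · skip
                  exact allRangeF_sound _ _ (checkPointF_eq cert) 266500 25 chkP_266500 i (by omega) (by omega)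
                · skip
                  rcases Nat.lt_or_ge i 266550 with h9 | h9
                  · skip
                    exact allRangeF_sound _ _ (checkPointF_eq cert) 266525 25 chkP_266525 i (by omega) (by omega)
                  · skip
                    exact allRangeF_sound _ _ (checkPointF_eq cert) 266550 25 chkP_266550 i (by omega) (by omega)
            · skip
              rcases Nat.lt_or_ge i 266625 with h7 | h7
              · skip
                rcases Nat.lt_or_ge i 266600 with h8 | h8
                · skip
                  exact allRangeF_sound _ _ (checkPointF_eq cert) 266575 25 chkP_266575 i (by omega) (by omega)
                · skip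
                  exact allRangeF_sound _ _ (checkPointF_eq cert) 266600 25 chkP_266600 i (by omega) (by omega)
              · skip
                rcases Nat.lt_or_ge i 266650 with h8 | h8
                · skip
                  exact allRangeF_sound _ _ (checkPointF_eq cert) 266625 25 chkP_266625 i (by omega) (by omega)
                · skip
                  rcases Nat.lt_or_ge i 266675 with h9 | h9
                  · skip
                    exact allRangeF_sound _ _ (checkPointF_eq cert) 266650 25 chkP_266650 i (by omega) (by omega)
                  · skip
                    exact allRangeF_sound _ _ (checkPointF_eq cert) 266675 25 chkP_266675 i (by omega) (by omega)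
    · skip
      rcases Nat.lt_or_ge i 267650 with h3 | h3
      · skip
        rcases Nat.lt_or_ge i 267175 with h4 | h4
        · skip
          rcases Nat.lt_or_ge i 266925 with h5 | h5
          · skip
            rcases Nat.lt_or_ge i 266800 with h6 | h6
            · skip
              rcases Nat.lt_or_ge i 266750 with h7 | h7
              · skip
                rcases Nat.lt_or_ge i 266725 with h8 | h8
                · skip
                  exact allRangeF_sound _ _ (checkPointF_eq cert) 266700 25 chkP_266700 i (by omega) (by omega)
                · skip
                  exact allRangeF_sound _ _ (checkPointF_eq cert) 266725 25 chkP_266725 i (by omega) (by omega)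
              · skip
                rcases Nat.lt_or_ge i 266775 with h8 | h8
                · skip
                  exact allRangeF_sound _ _ (checkPointF_eq cert) 266750 25 chkP_266750 i (by omega) (by omega)
                · skip
                  exact allRangeF_sound _ _ (checkPointF_eq cert) 266775 25 chkP_266775 i (by omega) (by omega)
            · skip
              rcases Nat.lt_or_ge i 266850 with h7 | h7
              · skip
                rcases Nat.lt_or_ge i 266825 with h8 | h8
                · skip
                  exact allRangeF_sound _ _ (checkPointF_eq cert) 266800 25 chkP_266800 i (by omega) (by omega)
                · skip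
                  exact allRangeF_sound _ _ (checkPointF_eq cert) 266825 25 chkP_266825 i (by omega) (by omega)
              · skip
                rcases Nat.lt_or_ge i 266875 with h8 | h8
                · skip
                  exact allRangeF_sound _ _ (checkPointF_eq cert) 266850 25 chkP_266850 i (by omega) (by omega)
                · skip
                  rcases Nat.lt_or_ge i 266900 with h9 | h9
                  · skip
                    exact allRangeF_sound _ _ (checkPointF_eq cert) 266875 25 chkP_266875 i (by omega) (by omega)
                  · skip
                    exact allRangeF_sound _ _ (checkPointF_eq cert) 266900 25 chkP_266900 i (by omega) (by omega)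
          · skip
            rcases Nat.lt_or_ge i 267050 with h6 | h6
            · skip
              rcases Nat.lt_or_ge i 266975 with h7 | h7
              · skip
                rcases Nat.lt_or_ge i 266950 with h8 | h8
                · skip
                  exact allRangeF_sound _ _ (checkPointF_eq cert) 266925 25 chkP_266925 i (by omega) (by omega)
                · skip
                  exact allRangeF_sound _ _ (checkPointF_eq cert) 266950 25 chkP_266950 i (by omega) (by omega)
              · skip
                rcases Nat.lt_or_ge i 267000 with h8 | h8
                · skip
                  exact allRangeF_sound _ _ (checkPointF_eq cert) 266975 25 chkP_266975 i (by omega) (by omega)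
                · skip
                  rcases Nat.lt_or_ge i 267025 with h9 | h9
                  · skip
                    exact allRangeF_sound _ _ (checkPointF_eq cert) 267000 25 chkP_267000 i (by omega) (by omega)
                  · skip
                    exact allRangeF_sound _ _ (checkPointF_eq cert) 267025 25 chkP_267025 i (by omega) (by omega)
            · skip
              rcases Nat.lt_or_ge i 267100 with h7 | h7
              · skip
                rcases Nat.lt_or_ge i 267075 with h8 | h8
                · skip
                  exact allRangeF_sound _ _ (checkPointF_eq cert) 267050 25 chkP_267050 i (by omega) (by omega)
                · skip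
                  exact allRangeF_sound _ _ (checkPointF_eq cert) 267075 25 chkP_267075 i (by omega) (by omega)
              · skip
                rcases Nat.lt_or_ge i 267125 with h8 | h8
                · skip
                  exact allRangeF_sound _ _ (checkPointF_eq cert) 267100 25 chkP_267100 i (by omega) (by omega)
                · skip
                  rcases Nat.lt_or_ge i 267150 with h9 | h9
                  · skip
                    exact allRangeF_sound _ _ (checkPointF_eq cert) 267125 25 chkP_267125 i (by omega) (by omega)
                  · skip
                    exact allRangeF_sound _ _ (checkPointF_eq cert) 267150 25 chkP_267150 i (by omega) (by omega)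
        · skip
          rcases Nat.lt_or_ge i 267400 with h5 | h5
          · skip
            rcases Nat.lt_or_ge i 267275 with h6 | h6
            · skip
              rcases Nat.lt_or_ge i 267225 with h7 | h7
              · skip
                rcases Nat.lt_or_ge i 267200 with h8 | h8
                · skip
                  exact allRangeF_sound _ _ (checkPointF_eq cert) 267175 25 chkP_267175 i (by omega) (by omega)
                · skip
                  exact allRangeF_sound _ _ (checkPointF_eq cert) 267200 25 chkP_267200 i (by omega) (by omega)
              · skip
                rcases Nat.lt_or_ge i 267250 with h8 | h8
                · skip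
                  exact allRangeF_sound _ _ (checkPointF_eq cert) 267225 25 chkP_267225 i (by omega) (by omega)
                · skip
                  exact allRangeF_sound _ _ (checkPointF_eq cert) 267250 25 chkP_267250 i (by omega) (by omega)
            · skip
              rcases Nat.lt_or_ge i 267325 with h7 | h7
              · skip
                rcases Nat.lt_or_ge i 267300 with h8 | h8
                · skip
                  exact allRangeF_sound _ _ (checkPointF_eq cert) 267275 25 chkP_267275 i (by omega) (by omega)
                · skip
                  exact allRangeF_sound _ _ (checkPointF_eq cert) 267300 25 chkP_267300 i (by omega) (by omega)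
              · skip
                rcases Nat.lt_or_ge i 267350 with h8 | h8
                · skip
                  exact allRangeF_sound _ _ (checkPointF_eq cert) 267325 25 chkP_267325 i (by omega) (by omega)
                · skip
                  rcases Nat.lt_or_ge i 267375 with h9 | h9
                  · skip
                    exact allRangeF_sound _ _ (checkPointF_eq cert) 267350 25 chkP_267350 i (by omega) (by omega)
                  · skip
                    exact allRangeF_sound _ _ (checkPointF_eq cert) 267375 25 chkP_267375 i (by omega) (by omega)
          · skip
            rcases Nat.lt_or_ge i 267525 with h6 | h6
            · skip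
              rcases Nat.lt_or_ge i 267450 with h7 | h7
              · skip
                rcases Nat.lt_or_ge i 267425 with h8 | h8
                · skip
                  exact allRangeF_sound _ _ (checkPointF_eq cert) 267400 25 chkP_267400 i (by omega) (by omega)
                · skip
                  exact allRangeF_sound _ _ (checkPointF_eq cert) 267425 25 chkP_267425 i (by omega) (by omega)
              · skip
                rcases Nat.lt_or_ge i 267475 with h8 | h8
                · skip
                  exact allRangeF_sound _ _ (checkPointF_eq cert) 267450 25 chkP_267450 i (by omega) (by omega)
                · skip
                  rcases Nat.lt_or_ge i 267500 with h9 | h9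
                  · skip
                    exact allRangeF_sound _ _ (checkPointF_eq cert) 267475 25 chkP_267475 i (by omega) (by omega)
                  · skip
                    exact allRangeF_sound _ _ (checkPointF_eq cert) 267500 25 chkP_267500 i (by omega) (by omega)
            · skip
              rcases Nat.lt_or_ge i 267575 with h7 | h7
              · skip
                rcases Nat.lt_or_ge i 267550 with h8 | h8
                · skip
                  exact allRangeF_sound _ _ (checkPointF_eq cert) 267525 25 chkP_267525 i (by omega) (by omega)
                · skip
                  exact allRangeF_sound _ _ (checkPointF_eq cert) 267550 25 chkP_267550 i (by omega) (by omega)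
              · skip
                rcases Nat.lt_or_ge i 267600 with h8 | h8
                · skip
                  exact allRangeF_sound _ _ (checkPointF_eq cert) 267575 25 chkP_267575 i (by omega) (by omega)
                · skip
                  rcases Nat.lt_or_ge i 267625 with h9 | h9
                  · skip
                    exact allRangeF_sound _ _ (checkPointF_eq cert) 267600 25 chkP_267600 i (by omega) (by omega)
                  · skip
                    exact allRangeF_sound _ _ (checkPointF_eq cert) 267625 25 chkP_267625 i (by omega) (by omega)
      · skip
        rcases Nat.lt_or_ge i 268125 with h4 | h4
        · skip
          rcases Nat.lt_or_ge i 267875 with h5 | h5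
          · skip
            rcases Nat.lt_or_ge i 267750 with h6 | h6
            · skip
              rcases Nat.lt_or_ge i 267700 with h7 | h7
              · skip
                rcases Nat.lt_or_ge i 267675 with h8 | h8
                · skip
                  exact allRangeF_sound _ _ (checkPointF_eq cert) 267650 25 chkP_267650 i (by omega) (by omega)
                · skip
                  exact allRangeF_sound _ _ (checkPointF_eq cert) 267675 25 chkP_267675 i (by omega) (by omega)
              · skip
                rcases Nat.lt_or_ge i 267725 with h8 | h8
                · skip
                  exact allRangeF_sound _ _ (checkPointF_eq cert) 267700 25 chkP_267700 i (by omega) (by omega)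
                · skip
                  exact allRangeF_sound _ _ (checkPointF_eq cert) 267725 25 chkP_267725 i (by omega) (by omega)
            · skip
              rcases Nat.lt_or_ge i 267800 with h7 | h7
              · skip
                rcases Nat.lt_or_ge i 267775 with h8 | h8
                · skip
                  exact allRangeF_sound _ _ (checkPointF_eq cert) 267750 25 chkP_267750 i (by omega) (by omega)
                · skip
                  exact allRangeF_sound _ _ (checkPointF_eq cert) 267775 25 chkP_267775 i (by omega) (by omega)
              · skip
                rcases Nat.lt_or_ge i 267825 with h8 | h8
                · skip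
                  exact allRangeF_sound _ _ (checkPointF_eq cert) 267800 25 chkP_267800 i (by omega) (by omega)
                · skip
                  rcases Nat.lt_or_ge i 267850 with h9 | h9
                  · skip
                    exact allRangeF_sound _ _ (checkPointF_eq cert) 267825 25 chkP_267825 i (by omega) (by omega)
                  · skip
                    exact allRangeF_sound _ _ (checkPointF_eq cert) 267850 25 chkP_267850 i (by omega) (by omega)
          · skip
            rcases Nat.lt_or_ge i 268000 with h6 | h6
            · skip
              rcases Nat.lt_or_ge i 267925 with h7 | h7
              · skip
                rcases Nat.lt_or_ge i 267900 with h8 | h8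
                · skip
                  exact allRangeF_sound _ _ (checkPointF_eq cert) 267875 25 chkP_267875 i (by omega) (by omega)
                · skip
                  exact allRangeF_sound _ _ (checkPointF_eq cert) 267900 25 chkP_267900 i (by omega) (by omega)
              · skip
                rcases Nat.lt_or_ge i 267950 with h8 | h8
                · skip
                  exact allRangeF_sound _ _ (checkPointF_eq cert) 267925 25 chkP_267925 i (by omega) (by omega)
                · skip
                  rcases Nat.lt_or_ge i 267975 with h9 | h9
                  · skip
                    exact allRangeF_sound _ _ (checkPointF_eq cert) 267950 25 chkP_267950 i (by omega) (by omega)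
                  · skip
                    exact allRangeF_sound _ _ (checkPointF_eq cert) 267975 25 chkP_267975 i (by omega) (by omega)
            · skip
              rcases Nat.lt_or_ge i 268050 with h7 | h7
              · skip
                rcases Nat.lt_or_ge i 268025 with h8 | h8
                · skip
                  exact allRangeF_sound _ _ (checkPointF_eq cert) 268000 25 chkP_268000 i (by omega) (by omega)
                · skip
                  exact allRangeF_sound _ _ (checkPointF_eq cert) 268025 25 chkP_268025 i (by omega) (by omega)
              · skip
                rcases Nat.lt_or_ge i 268075 with h8 | h8
                · skip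
                  exact allRangeF_sound _ _ (checkPointF_eq cert) 268050 25 chkP_268050 i (by omega) (by omega)
                · skip
                  rcases Nat.lt_or_ge i 268100 with h9 | h9
                  · skip
                    exact allRangeF_sound _ _ (checkPointF_eq cert) 268075 25 chkP_268075 i (by omega) (by omega)
                  · skip
                    exact allRangeF_sound _ _ (checkPointF_eq cert) 268100 25 chkP_268100 i (by omega) (by omega)
        · skip
          rcases Nat.lt_or_ge i 268375 with h5 | h5
          · skip
            rcases Nat.lt_or_ge i 268250 with h6 | h6
            · skip
              rcases Nat.lt_or_ge i 268175 with h7 | h7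
              · skip
                rcases Nat.lt_or_ge i 268150 with h8 | h8
                · skip
                  exact allRangeF_sound _ _ (checkPointF_eq cert) 268125 25 chkP_268125 i (by omega) (by omega)
                · skip
                  exact allRangeF_sound _ _ (checkPointF_eq cert) 268150 25 chkP_268150 i (by omega) (by omega)
              · skip
                rcases Nat.lt_or_ge i 268200 with h8 | h8
                · skip
                  exact allRangeF_sound _ _ (checkPointF_eq cert) 268175 25 chkP_268175 i (by omega) (by omega)
                · skip
                  rcases Nat.lt_or_ge i 268225 with h9 | h9
                  · skip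
                    exact allRangeF_sound _ _ (checkPointF_eq cert) 268200 25 chkP_268200 i (by omega) (by omega)
                  · skip
                    exact allRangeF_sound _ _ (checkPointF_eq cert) 268225 25 chkP_268225 i (by omega) (by omega)
            · skip
              rcases Nat.lt_or_ge i 268300 with h7 | h7
              · skip
                rcases Nat.lt_or_ge i 268275 with h8 | h8
                · skip
                  exact allRangeF_sound _ _ (checkPointF_eq cert) 268250 25 chkP_268250 i (by omega) (by omega)
                · skip
                  exact allRangeF_sound _ _ (checkPointF_eq cert) 268275 25 chkP_268275 i (by omega) (by omega)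
              · skip
                rcases Nat.lt_or_ge i 268325 with h8 | h8
                · skip
                  exact allRangeF_sound _ _ (checkPointF_eq cert) 268300 25 chkP_268300 i (by omega) (by omega)
                · skip
                  rcases Nat.lt_or_ge i 268350 with h9 | h9
                  · skip
                    exact allRangeF_sound _ _ (checkPointF_eq cert) 268325 25 chkP_268325 i (by omega) (by omega)
                  · skip
                    exact allRangeF_sound _ _ (checkPointF_eq cert) 268350 25 chkP_268350 i (by omega) (by omega)
          · skip
            rcases Nat.lt_or_ge i 268500 with h6 | h6
            · skip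
              rcases Nat.lt_or_ge i 268425 with h7 | h7
              · skip
                rcases Nat.lt_or_ge i 268400 with h8 | h8
                · skip
                  exact allRangeF_sound _ _ (checkPointF_eq cert) 268375 25 chkP_268375 i (by omega) (by omega)
                · skip
                  exact allRangeF_sound _ _ (checkPointF_eq cert) 268400 25 chkP_268400 i (by omega) (by omega)
              · skip
                rcases Nat.lt_or_ge i 268450 with h8 | h8
                · skip
                  exact allRangeF_sound _ _ (checkPointF_eq cert) 268425 25 chkP_268425 i (by omega) (by omega)
                · skip
                  rcases Nat.lt_or_ge i 268475 with h9 | h9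
                  · skip
                    exact allRangeF_sound _ _ (checkPointF_eq cert) 268450 25 chkP_268450 i (by omega) (by omega)
                  · skip
                    exact allRangeF_sound _ _ (checkPointF_eq cert) 268475 25 chkP_268475 i (by omega) (by omega)
            · skip
              rcases Nat.lt_or_ge i 268550 with h7 | h7
              · skip
                rcases Nat.lt_or_ge i 268525 with h8 | h8
                · skip
                  exact allRangeF_sound _ _ (checkPointF_eq cert) 268500 25 chkP_268500 i (by omega) (by omega)
                · skip
                  exact allRangeF_sound _ _ (checkPointF_eq cert) 268525 25 chkP_268525 i (by omega) (by omega)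
              · skip
                rcases Nat.lt_or_ge i 268575 with h8 | h8
                · skip
                  exact allRangeF_sound _ _ (checkPointF_eq cert) 268550 25 chkP_268550 i (by omega) (by omega)
                · skip
                  rcases Nat.lt_or_ge i 268600 with h9 | h9
                  · skip
                    exact allRangeF_sound _ _ (checkPointF_eq cert) 268575 25 chkP_268575 i (by omega) (by omega)
                  · skip
                    exact allRangeF_sound _ _ (checkPointF_eq cert) 268600 25 chkP_268600 i (by omega) (by omega)

end Cfsg.Agent.Lib.Helper28.Fi24Data
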