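import Cfsg.Agent.Lib.Helper28.Fi24Data
import Cfsg.Agent.Lib.Helper28.TCFastB

set_option autoImplicit false
set_option maxRecDepth 1000000
set_option linter.all false
set_option Elab.async false

namespace Cfsg.Agent.Lib.Helper28.Fi24Data

open Cfsg.Agent.Lib.Helper28B

theorem chkP_268625 : allRangeF (checkPointF cert) (nat_lit 268625) (nat_lit 25) = true := by decide +kernel
theorem chkP_268650 : allRangeF (checkPointF cert) (nat_lit 268650) (nat_lit 25) = true := by decide +kernel
theorem chkP_268675 : allRangeF (checkPointF cert) (nat_lit 268675) (nat_lit 25) = true := by decide +kernel
theorem chkP_268700 : allRangeF (checkPointF cert) (nat_lit 268700) (nat_lit 25) = true := by decide +kernel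
theorem chkP_268725 : allRangeF (checkPointF cert) (nat_lit 268725) (nat_lit 25) = true := by decide +kernel
theorem chkP_268750 : allRangeF (checkPointF cert) (nat_lit 268750) (nat_lit 25) = true := by decide +kernel
theorem chkP_268775 : allRangeF (checkPointF cert) (nat_lit 268775) (nat_lit 25) = true := by decide +kernel
theorem chkP_268800 : allRangeF (checkPointF cert) (nat_lit 268800) (nat_lit 25) = true := by decide +kernel
theorem chkP_268825 : allRangeF (checkPointF cert) (nat_lit 268825) (nat_lit 25) = true := by decide +kernel
theorem chkP_268850 : allRangeF (checkPointF cert) (nat_lit 268850) (nat_lit 25) = true := by decide +kernel
theorem chkP_268875 : allRangeF (checkPointF cert) (nat_lit 268875) (nat_lit 25) = true := by decide +kernel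
theorem chkP_268900 : allRangeF (checkPointF cert) (nat_lit 268900) (nat_lit 25) = true := by decide +kernel
theorem chkP_268925 : allRangeF (checkPointF cert) (nat_lit 268925) (nat_lit 25) = true := by decide +kernel
theorem chkP_268950 : allRangeF (checkPointF cert) (nat_lit 268950) (nat_lit 25) = true := by decide +kernel
theorem chkP_268975 : allRangeF (checkPointF cert) (nat_lit 268975) (nat_lit 25) = true := by decide +kernel
theorem chkP_269000 : allRangeF (checkPointF cert) (nat_lit 269000) (nat_lit 25) = true := by decide +kernel
theorem chkP_269025 : allRangeF (checkPointF cert) (nat_lit 269025) (nat_lit 25) = true := by decide +kernel
theorem chkP_269050 : allRangeF (checkPointF cert) (nat_lit 269050) (nat_lit 25) = true := by decide +kernel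
theorem chkP_269075 : allRangeF (checkPointF cert) (nat_lit 269075) (nat_lit 25) = true := by decide +kernel
theorem chkP_269100 : allRangeF (checkPointF cert) (nat_lit 269100) (nat_lit 25) = true := by decide +kernel
theorem chkP_269125 : allRangeF (checkPointF cert) (nat_lit 269125) (nat_lit 25) = true := by decide +kernel
theorem chkP_269150 : allRangeF (checkPointF cert) (nat_lit 269150) (nat_lit 25) = true := by decide +kernel
theorem chkP_269175 : allRangeF (checkPointF cert) (nat_lit 269175) (nat_lit 25) = true := by decide +kernel
theorem chkP_269200 : allRangeF (checkPointF cert) (nat_lit 269200) (nat_lit 25) = true := by decide +kernel
theorem chkP_269225 : allRangeF (checkPointF cert) (nat_lit 269225) (nat_lit 25) = true := by decide +kernel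
theorem chkP_269250 : allRangeF (checkPointF cert) (nat_lit 269250) (nat_lit 25) = true := by decide +kernel
theorem chkP_269275 : allRangeF (checkPointF cert) (nat_lit 269275) (nat_lit 25) = true := by decide +kernel
theorem chkP_269300 : allRangeF (checkPointF cert) (nat_lit 269300) (nat_lit 25) = true := by decide +kernel
theorem chkP_269325 : allRangeF (checkPointF cert) (nat_lit 269325) (nat_lit 25) = true := by decide +kernel
theorem chkP_269350 : allRangeF (checkPointF cert) (nat_lit 269350) (nat_lit 25) = true := by decide +kernel
theorem chkP_269375 : allRangeF (checkPointF cert) (nat_lit 269375) (nat_lit 25) = true := by decide +kernel
theorem chkP_269400 : allRangeF (checkPointF cert) (nat_lit 269400) (nat_lit 25) = true := by decide +kernel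
theorem chkP_269425 : allRangeF (checkPointF cert) (nat_lit 269425) (nat_lit 25) = true := by decide +kernel
theorem chkP_269450 : allRangeF (checkPointF cert) (nat_lit 269450) (nat_lit 25) = true := by decide +kernel
theorem chkP_269475 : allRangeF (checkPointF cert) (nat_lit 269475) (nat_lit 25) = true := by decide +kernel
theorem chkP_269500 : allRangeF (checkPointF cert) (nat_lit 269500) (nat_lit 25) = true := by decide +kernel
theorem chkP_269525 : allRangeF (checkPointF cert) (nat_lit 269525) (nat_lit 25) = true := by decide +kernel
theorem chkP_269550 : allRangeF (checkPointF cert) (nat_lit 269550) (nat_lit 25) = true := by decide +kernel
theorem chkP_269575 : allRangeF (checkPointF cert) (nat_lit 269575) (nat_lit 25) = true := by decide +kernel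
theorem chkP_269600 : allRangeF (checkPointF cert) (nat_lit 269600) (nat_lit 25) = true := by decide +kernel
theorem chkP_269625 : allRangeF (checkPointF cert) (nat_lit 269625) (nat_lit 25) = true := by decide +kernel
theorem chkP_269650 : allRangeF (checkPointF cert) (nat_lit 269650) (nat_lit 25) = true := by decide +kernel
theorem chkP_269675 : allRangeF (checkPointF cert) (nat_lit 269675) (nat_lit 25) = true := by decide +kernel
theorem chkP_269700 : allRangeF (checkPointF cert) (nat_lit 269700) (nat_lit 25) = true := by decide +kernel
theorem chkP_269725 : allRangeF (checkPointF cert) (nat_lit 269725) (nat_lit 25) = true := by decide +kernel
theorem chkP_269750 : allRangeF (checkPointF cert) (nat_lit 269750) (nat_lit 25) = true := by decide +kernel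
theorem chkP_269775 : allRangeF (checkPointF cert) (nat_lit 269775) (nat_lit 25) = true := by decide +kernel
theorem chkP_269800 : allRangeF (checkPointF cert) (nat_lit 269800) (nat_lit 25) = true := by decide +kernel
theorem chkP_269825 : allRangeF (checkPointF cert) (nat_lit 269825) (nat_lit 25) = true := by decide +kernel
theorem chkP_269850 : allRangeF (checkPointF cert) (nat_lit 269850) (nat_lit 25) = true := by decide +kernel
theorem chkP_269875 : allRangeF (checkPointF cert) (nat_lit 269875) (nat_lit 25) = true := by decide +kernel
theorem chkP_269900 : allRangeF (checkPointF cert) (nat_lit 269900) (nat_lit 25) = true := by decide +kernel
theorem chkP_269925 : allRangeF (checkPointF cert) (nat_lit 269925) (nat_lit 25) = true := by decide +kernel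
theorem chkP_269950 : allRangeF (checkPointF cert) (nat_lit 269950) (nat_lit 25) = true := by decide +kernel
theorem chkP_269975 : allRangeF (checkPointF cert) (nat_lit 269975) (nat_lit 25) = true := by decide +kernel
theorem chkP_270000 : allRangeF (checkPointF cert) (nat_lit 270000) (nat_lit 25) = true := by decide +kernel
theorem chkP_270025 : allRangeF (checkPointF cert) (nat_lit 270025) (nat_lit 25) = true := by decide +kernel
theorem chkP_270050 : allRangeF (checkPointF cert) (nat_lit 270050) (nat_lit 25) = true := by decide +kernel
theorem chkP_270075 : allRangeF (checkPointF cert) (nat_lit 270075) (nat_lit 25) = true := by decide +kernel
theorem chkP_270100 : allRangeF (checkPointF cert) (nat_lit 270100) (nat_lit 25) = true := by decide +kernel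
theorem chkP_270125 : allRangeF (checkPointF cert) (nat_lit 270125) (nat_lit 25) = true := by decide +kernel
theorem chkP_270150 : allRangeF (checkPointF cert) (nat_lit 270150) (nat_lit 25) = true := by decide +kernel
theorem chkP_270175 : allRangeF (checkPointF cert) (nat_lit 270175) (nat_lit 25) = true := by decide +kernel
theorem chkP_270200 : allRangeF (checkPointF cert) (nat_lit 270200) (nat_lit 25) = true := by decide +kernel
theorem chkP_270225 : allRangeF (checkPointF cert) (nat_lit 270225) (nat_lit 25) = true := by decide +kernel
theorem chkP_270250 : allRangeF (checkPointF cert) (nat_lit 270250) (nat_lit 25) = true := by decide +kernel
theorem chkP_270275 : allRangeF (checkPointF cert) (nat_lit 270275) (nat_lit 25) = true := by decide +kernel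
theorem chkP_270300 : allRangeF (checkPointF cert) (nat_lit 270300) (nat_lit 25) = true := by decide +kernel
theorem chkP_270325 : allRangeF (checkPointF cert) (nat_lit 270325) (nat_lit 25) = true := by decide +kernel
theorem chkP_270350 : allRangeF (checkPointF cert) (nat_lit 270350) (nat_lit 25) = true := by decide +kernel
theorem chkP_270375 : allRangeF (checkPointF cert) (nat_lit 270375) (nat_lit 25) = true := by decide +kernel
theorem chkP_270400 : allRangeF (checkPointF cert) (nat_lit 270400) (nat_lit 25) = true := by decide +kernel
theorem chkP_270425 : allRangeF (checkPointF cert) (nat_lit 270425) (nat_lit 25) = true := by decide +kernel
theorem chkP_270450 : allRangeF (checkPointF cert) (nat_lit 270450) (nat_lit 25) = true := by decide +kernel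
theorem chkP_270475 : allRangeF (checkPointF cert) (nat_lit 270475) (nat_lit 25) = true := by decide +kernel
theorem chkP_270500 : allRangeF (checkPointF cert) (nat_lit 270500) (nat_lit 25) = true := by decide +kernel
theorem chkP_270525 : allRangeF (checkPointF cert) (nat_lit 270525) (nat_lit 25) = true := by decide +kernel
theorem chkP_270550 : allRangeF (checkPointF cert) (nat_lit 270550) (nat_lit 25) = true := by decide +kernel
theorem chkP_270575 : allRangeF (checkPointF cert) (nat_lit 270575) (nat_lit 25) = true := by decide +kernel
theorem chkP_270600 : allRangeF (checkPointF cert) (nat_lit 270600) (nat_lit 25) = true := by decide +kernel
theorem chkP_270625 : allRangeF (checkPointF cert) (nat_lit 270625) (nat_lit 25) = true := by decide +kernel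
theorem chkP_270650 : allRangeF (checkPointF cert) (nat_lit 270650) (nat_lit 25) = true := by decide +kernel
theorem chkP_270675 : allRangeF (checkPointF cert) (nat_lit 270675) (nat_lit 25) = true := by decide +kernel
theorem chkP_270700 : allRangeF (checkPointF cert) (nat_lit 270700) (nat_lit 25) = true := by decide +kernel
theorem chkP_270725 : allRangeF (checkPointF cert) (nat_lit 270725) (nat_lit 25) = true := by decide +kernel
theorem chkP_270750 : allRangeF (checkPointF cert) (nat_lit 270750) (nat_lit 25) = true := by decide +kernel
theorem chkP_270775 : allRangeF (checkPointF cert) (nat_lit 270775) (nat_lit 25) = true := by decide +kernel
theorem chkP_270800 : allRangeF (checkPointF cert) (nat_lit 270800) (nat_lit 25) = true := by decide +kernel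
theorem chkP_270825 : allRangeF (checkPointF cert) (nat_lit 270825) (nat_lit 25) = true := by decide +kernel
theorem chkP_270850 : allRangeF (checkPointF cert) (nat_lit 270850) (nat_lit 25) = true := by decide +kernel
theorem chkP_270875 : allRangeF (checkPointF cert) (nat_lit 270875) (nat_lit 25) = true := by decide +kernel
theorem chkP_270900 : allRangeF (checkPointF cert) (nat_lit 270900) (nat_lit 25) = true := by decide +kernel
theorem chkP_270925 : allRangeF (checkPointF cert) (nat_lit 270925) (nat_lit 25) = true := by decide +kernel
theorem chkP_270950 : allRangeF (checkPointF cert) (nat_lit 270950) (nat_lit 25) = true := by decide +kernel
theorem chkP_270975 : allRangeF (checkPointF cert) (nat_lit 270975) (nat_lit 25) = true := by decide +kernel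
theorem chkP_271000 : allRangeF (checkPointF cert) (nat_lit 271000) (nat_lit 25) = true := by decide +kernel
theorem chkP_271025 : allRangeF (checkPointF cert) (nat_lit 271025) (nat_lit 25) = true := by decide +kernel
theorem chkP_271050 : allRangeF (checkPointF cert) (nat_lit 271050) (nat_lit 25) = true := by decide +kernel
theorem chkP_271075 : allRangeF (checkPointF cert) (nat_lit 271075) (nat_lit 25) = true := by decide +kernel
theorem chkP_271100 : allRangeF (checkPointF cert) (nat_lit 271100) (nat_lit 25) = true := by decide +kernel
theorem chkP_271125 : allRangeF (checkPointF cert) (nat_lit 271125) (nat_lit 25) = true := by decide +kernel
theorem chkP_271150 : allRangeF (checkPointF cert) (nat_lit 271150) (nat_lit 25) = true := by decide +kernel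
theorem chkP_271175 : allRangeF (checkPointF cert) (nat_lit 271175) (nat_lit 25) = true := by decide +kernel
theorem chkP_271200 : allRangeF (checkPointF cert) (nat_lit 271200) (nat_lit 25) = true := by decide +kernel
theorem chkP_271225 : allRangeF (checkPointF cert) (nat_lit 271225) (nat_lit 25) = true := by decide +kernel
theorem chkP_271250 : allRangeF (checkPointF cert) (nat_lit 271250) (nat_lit 25) = true := by decide +kernel
theorem chkP_271275 : allRangeF (checkPointF cert) (nat_lit 271275) (nat_lit 25) = true := by decide +kernel
theorem chkP_271300 : allRangeF (checkPointF cert) (nat_lit 271300) (nat_lit 25) = true := by decide +kernel
theorem chkP_271325 : allRangeF (checkPointF cert) (nat_lit 271325) (nat_lit 25) = true := by decide +kernel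
theorem chkP_271350 : allRangeF (checkPointF cert) (nat_lit 271350) (nat_lit 25) = true := by decide +kernel
theorem chkP_271375 : allRangeF (checkPointF cert) (nat_lit 271375) (nat_lit 25) = true := by decide +kernel
theorem chkP_271400 : allRangeF (checkPointF cert) (nat_lit 271400) (nat_lit 25) = true := by decide +kernel
theorem chkP_271425 : allRangeF (checkPointF cert) (nat_lit 271425) (nat_lit 25) = true := by decide +kernel
theorem chkP_271450 : allRangeF (checkPointF cert) (nat_lit 271450) (nat_lit 25) = true := by decide +kernel
theorem chkP_271475 : allRangeF (checkPointF cert) (nat_lit 271475) (nat_lit 25) = true := by decide +kernel
theorem chkP_271500 : allRangeF (checkPointF cert) (nat_lit 271500) (nat_lit 25) = true := by decide +kernel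
theorem chkP_271525 : allRangeF (checkPointF cert) (nat_lit 271525) (nat_lit 25) = true := by decide +kernel
theorem chkP_271550 : allRangeF (checkPointF cert) (nat_lit 271550) (nat_lit 25) = true := by decide +kernel
theorem chkP_271575 : allRangeF (checkPointF cert) (nat_lit 271575) (nat_lit 25) = true := by decide +kernel
theorem chkP_271600 : allRangeF (checkPointF cert) (nat_lit 271600) (nat_lit 25) = true := by decide +kernel
theorem chkP_271625 : allRangeF (checkPointF cert) (nat_lit 271625) (nat_lit 25) = true := by decide +kernel
theorem chkP_271650 : allRangeF (checkPointF cert) (nat_lit 271650) (nat_lit 25) = true := by decide +kernel
theorem chkP_271675 : allRangeF (checkPointF cert) (nat_lit 271675) (nat_lit 25) = true := by decide +kernel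
theorem chkP_271700 : allRangeF (checkPointF cert) (nat_lit 271700) (nat_lit 25) = true := by decide +kernel
theorem chkP_271725 : allRangeF (checkPointF cert) (nat_lit 271725) (nat_lit 25) = true := by decide +kernel
theorem chkP_271750 : allRangeF (checkPointF cert) (nat_lit 271750) (nat_lit 25) = true := by decide +kernel
theorem chkP_271775 : allRangeF (checkPointF cert) (nat_lit 271775) (nat_lit 25) = true := by decide +kernel
theorem chkP_271800 : allRangeF (checkPointF cert) (nat_lit 271800) (nat_lit 25) = true := by decide +kernel
theorem chkP_271825 : allRangeF (checkPointF cert) (nat_lit 271825) (nat_lit 25) = true := by decide +kernel
theorem chkP_271850 : allRangeF (checkPointF cert) (nat_lit 271850) (nat_lit 25) = true := by decide +kernel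
theorem chkP_271875 : allRangeF (checkPointF cert) (nat_lit 271875) (nat_lit 25) = true := by decide +kernel
theorem chkP_271900 : allRangeF (checkPointF cert) (nat_lit 271900) (nat_lit 25) = true := by decide +kernel
theorem chkP_271925 : allRangeF (checkPointF cert) (nat_lit 271925) (nat_lit 25) = true := by decide +kernel
theorem chkP_271950 : allRangeF (checkPointF cert) (nat_lit 271950) (nat_lit 25) = true := by decide +kernel
theorem chkP_271975 : allRangeF (checkPointF cert) (nat_lit 271975) (nat_lit 25) = true := by decide +kernel
theorem chkP_272000 : allRangeF (checkPointF cert) (nat_lit 272000) (nat_lit 25) = true := by decide +kernel
theorem chkP_272025 : allRangeF (checkPointF cert) (nat_lit 272025) (nat_lit 25) = true := by decide +kernel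
theorem chkP_272050 : allRangeF (checkPointF cert) (nat_lit 272050) (nat_lit 25) = true := by decide +kernel
theorem chkP_272075 : allRangeF (checkPointF cert) (nat_lit 272075) (nat_lit 25) = true := by decide +kernel
theorem chkP_272100 : allRangeF (checkPointF cert) (nat_lit 272100) (nat_lit 25) = true := by decide +kernel
theorem chkP_272125 : allRangeF (checkPointF cert) (nat_lit 272125) (nat_lit 25) = true := by decide +kernel
theorem chkP_272150 : allRangeF (checkPointF cert) (nat_lit 272150) (nat_lit 25) = true := by decide +kernel
theorem chkP_272175 : allRangeF (checkPointF cert) (nat_lit 272175) (nat_lit 25) = true := by decide +kernel
theorem chkP_272200 : allRangeF (checkPointF cert) (nat_lit 272200) (nat_lit 25) = true := by decide +kernel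
theorem chkP_272225 : allRangeF (checkPointF cert) (nat_lit 272225) (nat_lit 25) = true := by decide +kernel
theorem chkP_272250 : allRangeF (checkPointF cert) (nat_lit 272250) (nat_lit 25) = true := by decide +kernel
theorem chkP_272275 : allRangeF (checkPointF cert) (nat_lit 272275) (nat_lit 25) = true := by decide +kernel
theorem chkP_272300 : allRangeF (checkPointF cert) (nat_lit 272300) (nat_lit 25) = true := by decide +kernel
theorem chkP_272325 : allRangeF (checkPointF cert) (nat_lit 272325) (nat_lit 25) = true := by decide +kernel
theorem chkP_272350 : allRangeF (checkPointF cert) (nat_lit 272350) (nat_lit 25) = true := by decide +kernel
theorem chkP_272375 : allRangeF (checkPointF cert) (nat_lit 272375) (nat_lit 25) = true := by decide +kernel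
theorem chkP_272400 : allRangeF (checkPointF cert) (nat_lit 272400) (nat_lit 25) = true := by decide +kernel
theorem chkP_272425 : allRangeF (checkPointF cert) (nat_lit 272425) (nat_lit 25) = true := by decide +kernel
theorem chkP_272450 : allRangeF (checkPointF cert) (nat_lit 272450) (nat_lit 25) = true := by decide +kernel
theorem chkP_272475 : allRangeF (checkPointF cert) (nat_lit 272475) (nat_lit 25) = true := by decide +kernel
theorem chkP_272500 : allRangeF (checkPointF cert) (nat_lit 272500) (nat_lit 25) = true := by decide +kernel
theorem chkP_272525 : allRangeF (checkPointF cert) (nat_lit 272525) (nat_lit 25) = true := by decide +kernel
theorem chkP_272550 : allRangeF (checkPointF cert) (nat_lit 272550) (nat_lit 25) = true := by decide +kernel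
theorem chkP_272575 : allRangeF (checkPointF cert) (nat_lit 272575) (nat_lit 25) = true := by decide +kernel
theorem chkP_272600 : allRangeF (checkPointF cert) (nat_lit 272600) (nat_lit 25) = true := by decide +kernel
theorem chkP_272625 : allRangeF (checkPointF cert) (nat_lit 272625) (nat_lit 25) = true := by decide +kernel
theorem chkP_272650 : allRangeF (checkPointF cert) (nat_lit 272650) (nat_lit 25) = true := by decide +kernel
theorem chkP_272675 : allRangeF (checkPointF cert) (nat_lit 272675) (nat_lit 25) = true := by decide +kernel
theorem chkP_272700 : allRangeF (checkPointF cert) (nat_lit 272700) (nat_lit 25) = true := by decide +kernel
theorem chkP_272725 : allRangeF (checkPointF cert) (nat_lit 272725) (nat_lit 25) = true := by decide +kernel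
theorem chkP_272750 : allRangeF (checkPointF cert) (nat_lit 272750) (nat_lit 25) = true := by decide +kernel
theorem chkP_272775 : allRangeF (checkPointF cert) (nat_lit 272775) (nat_lit 25) = true := by decide +kernel
theorem chkP_272800 : allRangeF (checkPointF cert) (nat_lit 272800) (nat_lit 25) = true := by decide +kernel
theorem chkP_272825 : allRangeF (checkPointF cert) (nat_lit 272825) (nat_lit 25) = true := by decide +kernel
theorem chkP_272850 : allRangeF (checkPointF cert) (nat_lit 272850) (nat_lit 25) = true := by decide +kernel
theorem chkP_272875 : allRangeF (checkPointF cert) (nat_lit 272875) (nat_lit 25) = true := by decide +kernel
theorem chkP_272900 : allRangeF (checkPointF cert) (nat_lit 272900) (nat_lit 25) = true := by decide +kernel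
theorem chkP_272925 : allRangeF (checkPointF cert) (nat_lit 272925) (nat_lit 25) = true := by decide +kernel
theorem chkP_272950 : allRangeF (checkPointF cert) (nat_lit 272950) (nat_lit 25) = true := by decide +kernel
theorem chkP_272975 : allRangeF (checkPointF cert) (nat_lit 272975) (nat_lit 25) = true := by decide +kernel
theorem chkP_273000 : allRangeF (checkPointF cert) (nat_lit 273000) (nat_lit 25) = true := by decide +kernel
theorem chkP_273025 : allRangeF (checkPointF cert) (nat_lit 273025) (nat_lit 25) = true := by decide +kernel
theorem chkP_273050 : allRangeF (checkPointF cert) (nat_lit 273050) (nat_lit 25) = true := by decide +kernel
theorem chkP_273075 : allRangeF (checkPointF cert) (nat_lit 273075) (nat_lit 25) = true := by decide +kernel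
theorem chkP_273100 : allRangeF (checkPointF cert) (nat_lit 273100) (nat_lit 25) = true := by decide +kernel
theorem chkP_273125 : allRangeF (checkPointF cert) (nat_lit 273125) (nat_lit 25) = true := by decide +kernel
theorem chkP_273150 : allRangeF (checkPointF cert) (nat_lit 273150) (nat_lit 25) = true := by decide +kernel
theorem chkP_273175 : allRangeF (checkPointF cert) (nat_lit 273175) (nat_lit 25) = true := by decide +kernel
theorem chkP_273200 : allRangeF (checkPointF cert) (nat_lit 273200) (nat_lit 25) = true := by decide +kernel
theorem chkP_273225 : allRangeF (checkPointF cert) (nat_lit 273225) (nat_lit 25) = true := by decide +kernel
theorem chkP_273250 : allRangeF (checkPointF cert) (nat_lit 273250) (nat_lit 25) = true := by decide +kernel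
theorem chkP_273275 : allRangeF (checkPointF cert) (nat_lit 273275) (nat_lit 25) = true := by decide +kernel
theorem chkP_273300 : allRangeF (checkPointF cert) (nat_lit 273300) (nat_lit 25) = true := by decide +kernel
theorem chkP_273325 : allRangeF (checkPointF cert) (nat_lit 273325) (nat_lit 25) = true := by decide +kernel
theorem chkP_273350 : allRangeF (checkPointF cert) (nat_lit 273350) (nat_lit 25) = true := by decide +kernel
theorem chkP_273375 : allRangeF (checkPointF cert) (nat_lit 273375) (nat_lit 25) = true := by decide +kernel
theorem chkP_273400 : allRangeF (checkPointF cert) (nat_lit 273400) (nat_lit 25) = true := by decide +kernel
theorem chkP_273425 : allRangeF (checkPointF cert) (nat_lit 273425) (nat_lit 25) = true := by decide +kernel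
theorem chkP_273450 : allRangeF (checkPointF cert) (nat_lit 273450) (nat_lit 25) = true := by decide +kernel
theorem chkP_273475 : allRangeF (checkPointF cert) (nat_lit 273475) (nat_lit 25) = true := by decide +kernel
theorem chkP_273500 : allRangeF (checkPointF cert) (nat_lit 273500) (nat_lit 25) = true := by decide +kernel
theorem chkP_273525 : allRangeF (checkPointF cert) (nat_lit 273525) (nat_lit 25) = true := by decide +kernel
theorem chkP_273550 : allRangeF (checkPointF cert) (nat_lit 273550) (nat_lit 25) = true := by decide +kernel
theorem chkP_273575 : allRangeF (checkPointF cert) (nat_lit 273575) (nat_lit 25) = true := by decide +kernel
theorem chkP_273600 : allRangeF (checkPointF cert) (nat_lit 273600) (nat_lit 25) = true := by decide +kernel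
theorem chkP_273625 : allRangeF (checkPointF cert) (nat_lit 273625) (nat_lit 25) = true := by decide +kernel
theorem chkP_273650 : allRangeF (checkPointF cert) (nat_lit 273650) (nat_lit 25) = true := by decide +kernel
theorem chkP_273675 : allRangeF (checkPointF cert) (nat_lit 273675) (nat_lit 25) = true := by decide +kernel
theorem chkP_273700 : allRangeF (checkPointF cert) (nat_lit 273700) (nat_lit 25) = true := by decide +kernel
theorem chkP_273725 : allRangeF (checkPointF cert) (nat_lit 273725) (nat_lit 25) = true := by decide +kernel
theorem chkP_273750 : allRangeF (checkPointF cert) (nat_lit 273750) (nat_lit 25) = true := by decide +kernel
theorem chkP_273775 : allRangeF (checkPointF cert) (nat_lit 273775) (nat_lit 25) = true := by decide +kernel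
theorem chkP_273800 : allRangeF (checkPointF cert) (nat_lit 273800) (nat_lit 25) = true := by decide +kernel
theorem chkP_273825 : allRangeF (checkPointF cert) (nat_lit 273825) (nat_lit 25) = true := by decide +kernel
theorem chkP_273850 : allRangeF (checkPointF cert) (nat_lit 273850) (nat_lit 25) = true := by decide +kernel
theorem chkP_273875 : allRangeF (checkPointF cert) (nat_lit 273875) (nat_lit 25) = true := by decide +kernel
theorem chkP_273900 : allRangeF (checkPointF cert) (nat_lit 273900) (nat_lit 25) = true := by decide +kernel
theorem chkP_273925 : allRangeF (checkPointF cert) (nat_lit 273925) (nat_lit 25) = true := by decide +kernel
theorem chkP_273950 : allRangeF (checkPointF cert) (nat_lit 273950) (nat_lit 25) = true := by decide +kernel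
theorem chkP_273975 : allRangeF (checkPointF cert) (nat_lit 273975) (nat_lit 25) = true := by decide +kernel
theorem chkP_274000 : allRangeF (checkPointF cert) (nat_lit 274000) (nat_lit 25) = true := by decide +kernel
theorem chkP_274025 : allRangeF (checkPointF cert) (nat_lit 274025) (nat_lit 25) = true := by decide +kernel
theorem chkP_274050 : allRangeF (checkPointF cert) (nat_lit 274050) (nat_lit 25) = true := by decide +kernel
theorem chkP_274075 : allRangeF (checkPointF cert) (nat_lit 274075) (nat_lit 25) = true := by decide +kernel
theorem chkP_274100 : allRangeF (checkPointF cert) (nat_lit 274100) (nat_lit 25) = true := by decide +kernel
theorem chkP_274125 : allRangeF (checkPointF cert) (nat_lit 274125) (nat_lit 25) = true := by decide +kernel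
theorem chkP_274150 : allRangeF (checkPointF cert) (nat_lit 274150) (nat_lit 25) = true := by decide +kernel
theorem chkP_274175 : allRangeF (checkPointF cert) (nat_lit 274175) (nat_lit 25) = true := by decide +kernel
theorem chkP_274200 : allRangeF (checkPointF cert) (nat_lit 274200) (nat_lit 25) = true := by decide +kernel
theorem chkP_274225 : allRangeF (checkPointF cert) (nat_lit 274225) (nat_lit 25) = true := by decide +kernel
theorem chkP_274250 : allRangeF (checkPointF cert) (nat_lit 274250) (nat_lit 25) = true := by decide +kernel
theorem chkP_274275 : allRangeF (checkPointF cert) (nat_lit 274275) (nat_lit 25) = true := by decide +kernel
theorem chkP_274300 : allRangeF (checkPointF cert) (nat_lit 274300) (nat_lit 25) = true := by decide +kernel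
theorem chkP_274325 : allRangeF (checkPointF cert) (nat_lit 274325) (nat_lit 25) = true := by decide +kernel
theorem chkP_274350 : allRangeF (checkPointF cert) (nat_lit 274350) (nat_lit 25) = true := by decide +kernel
theorem chkP_274375 : allRangeF (checkPointF cert) (nat_lit 274375) (nat_lit 25) = true := by decide +kernel
theorem chkP_274400 : allRangeF (checkPointF cert) (nat_lit 274400) (nat_lit 25) = true := by decide +kernel
theorem chkP_274425 : allRangeF (checkPointF cert) (nat_lit 274425) (nat_lit 25) = true := by decide +kernel
theorem chkP_274450 : allRangeF (checkPointF cert) (nat_lit 274450) (nat_lit 25) = true := by decide +kernel
theorem chkP_274475 : allRangeF (checkPointF cert) (nat_lit 274475) (nat_lit 25) = true := by decide +kernel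
theorem chkP_274500 : allRangeF (checkPointF cert) (nat_lit 274500) (nat_lit 25) = true := by decide +kernel
theorem chkP_274525 : allRangeF (checkPointF cert) (nat_lit 274525) (nat_lit 25) = true := by decide +kernel
theorem chkP_274550 : allRangeF (checkPointF cert) (nat_lit 274550) (nat_lit 25) = true := by decide +kernel
theorem chkP_274575 : allRangeF (checkPointF cert) (nat_lit 274575) (nat_lit 25) = true := by decide +kernel
theorem chkP_274600 : allRangeF (checkPointF cert) (nat_lit 274600) (nat_lit 25) = true := by decide +kernel
theorem chkP_274625 : allRangeF (checkPointF cert) (nat_lit 274625) (nat_lit 25) = true := by decide +kernel
theorem chkP_274650 : allRangeF (checkPointF cert) (nat_lit 274650) (nat_lit 25) = true := by decide +kernel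
theorem chkP_274675 : allRangeF (checkPointF cert) (nat_lit 274675) (nat_lit 25) = true := by decide +kernel
theorem chkP_274700 : allRangeF (checkPointF cert) (nat_lit 274700) (nat_lit 25) = true := by decide +kernel
theorem chkP_274725 : allRangeF (checkPointF cert) (nat_lit 274725) (nat_lit 25) = true := by decide +kernel
theorem chkP_274750 : allRangeF (checkPointF cert) (nat_lit 274750) (nat_lit 25) = true := by decide +kernel
theorem chkP_274775 : allRangeF (checkPointF cert) (nat_lit 274775) (nat_lit 25) = true := by decide +kernel
theorem chkP_274800 : allRangeF (checkPointF cert) (nat_lit 274800) (nat_lit 25) = true := by decide +kernel
theorem chkP_274825 : allRangeF (checkPointF cert) (nat_lit 274825) (nat_lit 25) = true := by decide +kernel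
theorem chkP_274850 : allRangeF (checkPointF cert) (nat_lit 274850) (nat_lit 25) = true := by decide +kernel
theorem chkP_274875 : allRangeF (checkPointF cert) (nat_lit 274875) (nat_lit 25) = true := by decide +kernel
theorem chkP_274900 : allRangeF (checkPointF cert) (nat_lit 274900) (nat_lit 25) = true := by decide +kernel
theorem chkP_274925 : allRangeF (checkPointF cert) (nat_lit 274925) (nat_lit 25) = true := by decide +kernel
theorem chkP_274950 : allRangeF (checkPointF cert) (nat_lit 274950) (nat_lit 25) = true := by decide +kernel
theorem chkP_274975 : allRangeF (checkPointF cert) (nat_lit 274975) (nat_lit 25) = true := by decide +kernel
theorem chkP_275000 : allRangeF (checkPointF cert) (nat_lit 275000) (nat_lit 25) = true := by decide +kernel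
theorem chkP_275025 : allRangeF (checkPointF cert) (nat_lit 275025) (nat_lit 25) = true := by decide +kernel
theorem chkP_275050 : allRangeF (checkPointF cert) (nat_lit 275050) (nat_lit 25) = true := by decide +kernel
theorem chkP_275075 : allRangeF (checkPointF cert) (nat_lit 275075) (nat_lit 25) = true := by decide +kernel
theorem chkP_275100 : allRangeF (checkPointF cert) (nat_lit 275100) (nat_lit 25) = true := by decide +kernel
theorem chkP_275125 : allRangeF (checkPointF cert) (nat_lit 275125) (nat_lit 25) = true := by decide +kernel
theorem chkP_275150 : allRangeF (checkPointF cert) (nat_lit 275150) (nat_lit 25) = true := by decide +kernel
theorem chkP_275175 : allRangeF (checkPointF cert) (nat_lit 275175) (nat_lit 25) = true := by decide +kernel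
theorem chkP_275200 : allRangeF (checkPointF cert) (nat_lit 275200) (nat_lit 25) = true := by decide +kernel
theorem chkP_275225 : allRangeF (checkPointF cert) (nat_lit 275225) (nat_lit 25) = true := by decide +kernel
theorem chkP_275250 : allRangeF (checkPointF cert) (nat_lit 275250) (nat_lit 25) = true := by decide +kernel
theorem chkP_275275 : allRangeF (checkPointF cert) (nat_lit 275275) (nat_lit 25) = true := by decide +kernel
theorem chkP_275300 : allRangeF (checkPointF cert) (nat_lit 275300) (nat_lit 25) = true := by decide +kernel
theorem chkP_275325 : allRangeF (checkPointF cert) (nat_lit 275325) (nat_lit 25) = true := by decide +kernel
theorem chkP_275350 : allRangeF (checkPointF cert) (nat_lit 275350) (nat_lit 25) = true := by decide +kernel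
theorem chkP_275375 : allRangeF (checkPointF cert) (nat_lit 275375) (nat_lit 25) = true := by decide +kernel
theorem chkP_275400 : allRangeF (checkPointF cert) (nat_lit 275400) (nat_lit 25) = true := by decide +kernel
theorem chkP_275425 : allRangeF (checkPointF cert) (nat_lit 275425) (nat_lit 25) = true := by decide +kernel
theorem chkP_275450 : allRangeF (checkPointF cert) (nat_lit 275450) (nat_lit 25) = true := by decide +kernel
theorem chkP_275475 : allRangeF (checkPointF cert) (nat_lit 275475) (nat_lit 25) = true := by decide +kernel
theorem chkP_275500 : allRangeF (checkPointF cert) (nat_lit 275500) (nat_lit 25) = true := by decide +kernel
theorem chkP_275525 : allRangeF (checkPointF cert) (nat_lit 275525) (nat_lit 25) = true := by decide +kernel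
theorem chkP_275550 : allRangeF (checkPointF cert) (nat_lit 275550) (nat_lit 25) = true := by decide +kernel
theorem chkP_275575 : allRangeF (checkPointF cert) (nat_lit 275575) (nat_lit 25) = true := by decide +kernel
theorem chkP_275600 : allRangeF (checkPointF cert) (nat_lit 275600) (nat_lit 25) = true := by decide +kernel
theorem chkP_275625 : allRangeF (checkPointF cert) (nat_lit 275625) (nat_lit 25) = true := by decide +kernel
theorem chkP_275650 : allRangeF (checkPointF cert) (nat_lit 275650) (nat_lit 25) = true := by decide +kernel
theorem chkP_275675 : allRangeF (checkPointF cert) (nat_lit 275675) (nat_lit 25) = true := by decide +kernel
theorem chkP_275700 : allRangeF (checkPointF cert) (nat_lit 275700) (nat_lit 25) = true := by decide +kernel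
theorem chkP_275725 : allRangeF (checkPointF cert) (nat_lit 275725) (nat_lit 25) = true := by decide +kernel
theorem chkP_275750 : allRangeF (checkPointF cert) (nat_lit 275750) (nat_lit 25) = true := by decide +kernel
theorem chkP_275775 : allRangeF (checkPointF cert) (nat_lit 275775) (nat_lit 25) = true := by decide +kernel
theorem chkP_275800 : allRangeF (checkPointF cert) (nat_lit 275800) (nat_lit 25) = true := by decide +kernel
theorem chkP_275825 : allRangeF (checkPointF cert) (nat_lit 275825) (nat_lit 25) = true := by decide +kernel
theorem chkP_275850 : allRangeF (checkPointF cert) (nat_lit 275850) (nat_lit 25) = true := by decide +kernel
theorem chkP_275875 : allRangeF (checkPointF cert) (nat_lit 275875) (nat_lit 25) = true := by decide +kernel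
theorem chkP_275900 : allRangeF (checkPointF cert) (nat_lit 275900) (nat_lit 25) = true := by decide +kernel
theorem chkP_275925 : allRangeF (checkPointF cert) (nat_lit 275925) (nat_lit 25) = true := by decide +kernel
theorem chkP_275950 : allRangeF (checkPointF cert) (nat_lit 275950) (nat_lit 25) = true := by decide +kernel
theorem chkP_275975 : allRangeF (checkPointF cert) (nat_lit 275975) (nat_lit 25) = true := by decide +kernel
theorem chkP_276000 : allRangeF (checkPointF cert) (nat_lit 276000) (nat_lit 25) = true := by decide +kernel
theorem chkP_276025 : allRangeF (checkPointF cert) (nat_lit 276025) (nat_lit 25) = true := by decide +kernel
theorem chkP_276050 : allRangeF (checkPointF cert) (nat_lit 276050) (nat_lit 25) = true := by decide +kernel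
theorem chkP_276075 : allRangeF (checkPointF cert) (nat_lit 276075) (nat_lit 25) = true := by decide +kernel
theorem chkP_276100 : allRangeF (checkPointF cert) (nat_lit 276100) (nat_lit 25) = true := by decide +kernel
theorem chkP_276125 : allRangeF (checkPointF cert) (nat_lit 276125) (nat_lit 25) = true := by decide +kernel
theorem chkP_276150 : allRangeF (checkPointF cert) (nat_lit 276150) (nat_lit 25) = true := by decide +kernel
theorem chkP_276175 : allRangeF (checkPointF cert) (nat_lit 276175) (nat_lit 25) = true := by decide +kernel
theorem chkP_276200 : allRangeF (checkPointF cert) (nat_lit 276200) (nat_lit 25) = true := by decide +kernel
theorem chkP_276225 : allRangeF (checkPointF cert) (nat_lit 276225) (nat_lit 25) = true := by decide +kernel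
theorem chkP_276250 : allRangeF (checkPointF cert) (nat_lit 276250) (nat_lit 25) = true := by decide +kernel
theorem chkP_276275 : allRangeF (checkPointF cert) (nat_lit 276275) (nat_lit 25) = true := by decide +kernel

theorem ptsRange_35 : ∀ i, 268625 ≤ i → i < 276300 → checkPoint cert i = true := by
  intro i hlo hhi
  rcases Nat.lt_or_ge i 272450 with h1 | h1
  · skip
    rcases Nat.lt_or_ge i 270525 with h2 | h2
    · skip
      rcases Nat.lt_or_ge i 269575 with h3 | h3
      · skip
        rcases Nat.lt_or_ge i 269100 with h4 | h4
        · skip
          rcases Nat.lt_or_ge i 268850 with h5 | h5
          · skip
            rcases Nat.lt_or_ge i 268725 with h6 | h6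
            · skip
              rcases Nat.lt_or_ge i 268675 with h7 | h7
              · skip
                rcases Nat.lt_or_ge i 268650 with h8 | h8
                · skip
                  exact allRangeF_sound _ _ (checkPointF_eq cert) 268625 25 chkP_268625 i (by omega) (by omega)
                · skip
                  exact allRangeF_sound _ _ (checkPointF_eq cert) 268650 25 chkP_268650 i (by omega) (by omega)
              · skip
                rcases Nat.lt_or_ge i 268700 with h8 | h8
                · skip
                  exact allRangeF_sound _ _ (checkPointF_eq cert) 268675 25 chkP_268675 i (by omega) (by omega)
                · skip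
                  exact allRangeF_sound _ _ (checkPointF_eq cert) 268700 25 chkP_268700 i (by omega) (by omega)
            · skip
              rcases Nat.lt_or_ge i 268775 with h7 | h7
              · skip
                rcases Nat.lt_or_ge i 268750 with h8 | h8
                · skip
                  exact allRangeF_sound _ _ (checkPointF_eq cert) 268725 25 chkP_268725 i (by omega) (by omega)
                · skip
                  exact allRangeF_sound _ _ (checkPointF_eq cert) 268750 25 chkP_268750 i (by omega) (by omega)
              · skip
                rcases Nat.lt_or_ge i 268800 with h8 | h8
                · skip
                  exact allRangeF_sound _ _ (checkPointF_eq cert) 268775 25 chkP_268775 i (by omega) (by omega)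
                · skip
                  rcases Nat.lt_or_ge i 268825 with h9 | h9
                  · skip
                    exact allRangeF_sound _ _ (checkPointF_eq cert) 268800 25 chkP_268800 i (by omega) (by omega)
                  · skip
                    exact allRangeF_sound _ _ (checkPointF_eq cert) 268825 25 chkP_268825 i (by omega) (by omega)
          · skip
            rcases Nat.lt_or_ge i 268975 with h6 | h6
            · skip
              rcases Nat.lt_or_ge i 268900 with h7 | h7
              · skip
                rcases Nat.lt_or_ge i 268875 with h8 | h8
                · skip
                  exact allRangeF_sound _ _ (checkPointF_eq cert) 268850 25 chkP_268850 i (by omega) (by omega)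
                · skip
                  exact allRangeF_sound _ _ (checkPointF_eq cert) 268875 25 chkP_268875 i (by omega) (by omega)
              · skip
                rcases Nat.lt_or_ge i 268925 with h8 | h8
                · skip
                  exact allRangeF_sound _ _ (checkPointF_eq cert) 268900 25 chkP_268900 i (by omega) (by omega)
                · skip
                  rcases Nat.lt_or_ge i 268950 with h9 | h9
                  · skip
                    exact allRangeF_sound _ _ (checkPointF_eq cert) 268925 25 chkP_268925 i (by omega) (by omega)
                  · skip
                    exact allRangeF_sound _ _ (checkPointF_eq cert) 268950 25 chkP_268950 i (by omega) (by omega)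
            · skip
              rcases Nat.lt_or_ge i 269025 with h7 | h7
              · skip
                rcases Nat.lt_or_ge i 269000 with h8 | h8
                · skip
                  exact allRangeF_sound _ _ (checkPointF_eq cert) 268975 25 chkP_268975 i (by omega) (by omega)
                · skip
                  exact allRangeF_sound _ _ (checkPointF_eq cert) 269000 25 chkP_269000 i (by omega) (by omega)
              · skip
                rcases Nat.lt_or_ge i 269050 with h8 | h8
                · skip
                  exact allRangeF_sound _ _ (checkPointF_eq cert) 269025 25 chkP_269025 i (by omega) (by omega)
                · skip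
                  rcases Nat.lt_or_ge i 269075 with h9 | h9
                  · skip
                    exact allRangeF_sound _ _ (checkPointF_eq cert) 269050 25 chkP_269050 i (by omega) (by omega)
                  · skip
                    exact allRangeF_sound _ _ (checkPointF_eq cert) 269075 25 chkP_269075 i (by omega) (by omega)
        · skip
          rcases Nat.lt_or_ge i 269325 with h5 | h5
          · skip
            rcases Nat.lt_or_ge i 269200 with h6 | h6
            · skip
              rcases Nat.lt_or_ge i 269150 with h7 | h7
              · skip
                rcases Nat.lt_or_ge i 269125 with h8 | h8
                · skip
                  exact allRangeF_sound _ _ (checkPointF_eq cert) 269100 25 chkP_269100 i (by omega) (by omega)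
                · skip
                  exact allRangeF_sound _ _ (checkPointF_eq cert) 269125 25 chkP_269125 i (by omega) (by omega)
              · skip
                rcases Nat.lt_or_ge i 269175 with h8 | h8
                · skip
                  exact allRangeF_sound _ _ (checkPointF_eq cert) 269150 25 chkP_269150 i (by omega) (by omega)
                · skip
                  exact allRangeF_sound _ _ (checkPointF_eq cert) 269175 25 chkP_269175 i (by omega) (by omega)
            · skip
              rcases Nat.lt_or_ge i 269250 with h7 | h7
              · skip
                rcases Nat.lt_or_ge i 269225 with h8 | h8
                · skip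
                  exact allRangeF_sound _ _ (checkPointF_eq cert) 269200 25 chkP_269200 i (by omega) (by omega)
                · skip
                  exact allRangeF_sound _ _ (checkPointF_eq cert) 269225 25 chkP_269225 i (by omega) (by omega)
              · skip
                rcases Nat.lt_or_ge i 269275 with h8 | h8
                · skip
                  exact allRangeF_sound _ _ (checkPointF_eq cert) 269250 25 chkP_269250 i (by omega) (by omega)
                · skip
                  rcases Nat.lt_or_ge i 269300 with h9 | h9
                  · skip
                    exact allRangeF_sound _ _ (checkPointF_eq cert) 269275 25 chkP_269275 i (by omega) (by omega)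
                  · skip
                    exact allRangeF_sound _ _ (checkPointF_eq cert) 269300 25 chkP_269300 i (by omega) (by omega)
          · skip
            rcases Nat.lt_or_ge i 269450 with h6 | h6
            · skip
              rcases Nat.lt_or_ge i 269375 with h7 | h7
              · skip
                rcases Nat.lt_or_ge i 269350 with h8 | h8
                · skip
                  exact allRangeF_sound _ _ (checkPointF_eq cert) 269325 25 chkP_269325 i (by omega) (by omega)
                · skip
                  exact allRangeF_sound _ _ (checkPointF_eq cert) 269350 25 chkP_269350 i (by omega) (by omega)
              · skip
                rcases Nat.lt_or_ge i 269400 with h8 | h8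
                · skip
                  exact allRangeF_sound _ _ (checkPointF_eq cert) 269375 25 chkP_269375 i (by omega) (by omega)
                · skip
                  rcases Nat.lt_or_ge i 269425 with h9 | h9
                  · skip
                    exact allRangeF_sound _ _ (checkPointF_eq cert) 269400 25 chkP_269400 i (by omega) (by omega)
                  · skip
                    exact allRangeF_sound _ _ (checkPointF_eq cert) 269425 25 chkP_269425 i (by omega) (by omega)
            · skip
              rcases Nat.lt_or_ge i 269500 with h7 | h7
              · skip
                rcases Nat.lt_or_ge i 269475 with h8 | h8
                · skip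
                  exact allRangeF_sound _ _ (checkPointF_eq cert) 269450 25 chkP_269450 i (by omega) (by omega)
                · skip
                  exact allRangeF_sound _ _ (checkPointF_eq cert) 269475 25 chkP_269475 i (by omega) (by omega)
              · skip
                rcases Nat.lt_or_ge i 269525 with h8 | h8
                · skip
                  exact allRangeF_sound _ _ (checkPointF_eq cert) 269500 25 chkP_269500 i (by omega) (by omega)
                · skip
                  rcases Nat.lt_or_ge i 269550 with h9 | h9
                  · skip
                    exact allRangeF_sound _ _ (checkPointF_eq cert) 269525 25 chkP_269525 i (by omega) (by omega)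
                  · skip
                    exact allRangeF_sound _ _ (checkPointF_eq cert) 269550 25 chkP_269550 i (by omega) (by omega)
      · skip
        rcases Nat.lt_or_ge i 270050 with h4 | h4
        · skip
          rcases Nat.lt_or_ge i 269800 with h5 | h5
          · skip
            rcases Nat.lt_or_ge i 269675 with h6 | h6
            · skip
              rcases Nat.lt_or_ge i 269625 with h7 | h7
              · skip
                rcases Nat.lt_or_ge i 269600 with h8 | h8
                · skip
                  exact allRangeF_sound _ _ (checkPointF_eq cert) 269575 25 chkP_269575 i (by omega) (by omega)
                · skip
                  exact allRangeF_sound _ _ (checkPointF_eq cert) 269600 25 chkP_269600 i (by omega) (by omega)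
              · skip
                rcases Nat.lt_or_ge i 269650 with h8 | h8
                · skip
                  exact allRangeF_sound _ _ (checkPointF_eq cert) 269625 25 chkP_269625 i (by omega) (by omega)
                · skip
                  exact allRangeF_sound _ _ (checkPointF_eq cert) 269650 25 chkP_269650 i (by omega) (by omega)
            · skip
              rcases Nat.lt_or_ge i 269725 with h7 | h7
              · skip
                rcases Nat.lt_or_ge i 269700 with h8 | h8
                · skip
                  exact allRangeF_sound _ _ (checkPointF_eq cert) 269675 25 chkP_269675 i (by omega) (by omega)
                · skip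
                  exact allRangeF_sound _ _ (checkPointF_eq cert) 269700 25 chkP_269700 i (by omega) (by omega)
              · skip
                rcases Nat.lt_or_ge i 269750 with h8 | h8
                · skip
                  exact allRangeF_sound _ _ (checkPointF_eq cert) 269725 25 chkP_269725 i (by omega) (by omega)
                · skip
                  rcases Nat.lt_or_ge i 269775 with h9 | h9
                  · skip
                    exact allRangeF_sound _ _ (checkPointF_eq cert) 269750 25 chkP_269750 i (by omega) (by omega)
                  · skip
                    exact allRangeF_sound _ _ (checkPointF_eq cert) 269775 25 chkP_269775 i (by omega) (by omega)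
          · skip
            rcases Nat.lt_or_ge i 269925 with h6 | h6
            · skip
              rcases Nat.lt_or_ge i 269850 with h7 | h7
              · skip
                rcases Nat.lt_or_ge i 269825 with h8 | h8
                · skip
                  exact allRangeF_sound _ _ (checkPointF_eq cert) 269800 25 chkP_269800 i (by omega) (by omega)
                · skip
                  exact allRangeF_sound _ _ (checkPointF_eq cert) 269825 25 chkP_269825 i (by omega) (by omega)
              · skip
                rcases Nat.lt_or_ge i 269875 with h8 | h8
                · skip
                  exact allRangeF_sound _ _ (checkPointF_eq cert) 269850 25 chkP_269850 i (by omega) (by omega)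
                · skip
                  rcases Nat.lt_or_ge i 269900 with h9 | h9
                  · skip
                    exact allRangeF_sound _ _ (checkPointF_eq cert) 269875 25 chkP_269875 i (by omega) (by omega)
                  · skip
                    exact allRangeF_sound _ _ (checkPointF_eq cert) 269900 25 chkP_269900 i (by omega) (by omega)
            · skip
              rcases Nat.lt_or_ge i 269975 with h7 | h7
              · skip
                rcases Nat.lt_or_ge i 269950 with h8 | h8
                · skip
                  exact allRangeF_sound _ _ (checkPointF_eq cert) 269925 25 chkP_269925 i (by omega) (by omega)
                · skip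
                  exact allRangeF_sound _ _ (checkPointF_eq cert) 269950 25 chkP_269950 i (by omega) (by omega)
              · skip
                rcases Nat.lt_or_ge i 270000 with h8 | h8
                · skip
                  exact allRangeF_sound _ _ (checkPointF_eq cert) 269975 25 chkP_269975 i (by omega) (by omega)
                · skip
                  rcases Nat.lt_or_ge i 270025 with h9 | h9
                  · skip
                    exact allRangeF_sound _ _ (checkPointF_eq cert) 270000 25 chkP_270000 i (by omega) (by omega)
                  · skip
                    exact allRangeF_sound _ _ (checkPointF_eq cert) 270025 25 chkP_270025 i (by omega) (by omega)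
        · skip
          rcases Nat.lt_or_ge i 270275 with h5 | h5
          · skip
            rcases Nat.lt_or_ge i 270150 with h6 | h6
            · skip
              rcases Nat.lt_or_ge i 270100 with h7 | h7
              · skip
                rcases Nat.lt_or_ge i 270075 with h8 | h8
                · skip
                  exact allRangeF_sound _ _ (checkPointF_eq cert) 270050 25 chkP_270050 i (by omega) (by omega)
                · skip
                  exact allRangeF_sound _ _ (checkPointF_eq cert) 270075 25 chkP_270075 i (by omega) (by omega)
              · skip
                rcases Nat.lt_or_ge i 270125 with h8 | h8
                · skip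
                  exact allRangeF_sound _ _ (checkPointF_eq cert) 270100 25 chkP_270100 i (by omega) (by omega)
                · skip
                  exact allRangeF_sound _ _ (checkPointF_eq cert) 270125 25 chkP_270125 i (by omega) (by omega)
            · skip
              rcases Nat.lt_or_ge i 270200 with h7 | h7
              · skip
                rcases Nat.lt_or_ge i 270175 with h8 | h8
                · skip
                  exact allRangeF_sound _ _ (checkPointF_eq cert) 270150 25 chkP_270150 i (by omega) (by omega)
                · skip
                  exact allRangeF_sound _ _ (checkPointF_eq cert) 270175 25 chkP_270175 i (by omega) (by omega)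
              · skip
                rcases Nat.lt_or_ge i 270225 with h8 | h8
                · skip
                  exact allRangeF_sound _ _ (checkPointF_eq cert) 270200 25 chkP_270200 i (by omega) (by omega)
                · skip
                  rcases Nat.lt_or_ge i 270250 with h9 | h9
                  · skip
                    exact allRangeF_sound _ _ (checkPointF_eq cert) 270225 25 chkP_270225 i (by omega) (by omega)
                  · skip
                    exact allRangeF_sound _ _ (checkPointF_eq cert) 270250 25 chkP_270250 i (by omega) (by omega)
          · skip
            rcases Nat.lt_or_ge i 270400 with h6 | h6
            · skip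
              rcases Nat.lt_or_ge i 270325 with h7 | h7
              · skip
                rcases Nat.lt_or_ge i 270300 with h8 | h8
                · skip
                  exact allRangeF_sound _ _ (checkPointF_eq cert) 270275 25 chkP_270275 i (by omega) (by omega)
                · skip
                  exact allRangeF_sound _ _ (checkPointF_eq cert) 270300 25 chkP_270300 i (by omega) (by omega)
              · skip
                rcases Nat.lt_or_ge i 270350 with h8 | h8
                · skip
                  exact allRangeF_sound _ _ (checkPointF_eq cert) 270325 25 chkP_270325 i (by omega) (by omega)
                · skip
                  rcases Nat.lt_or_ge i 270375 with h9 | h9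
                  · skip
                    exact allRangeF_sound _ _ (checkPointF_eq cert) 270350 25 chkP_270350 i (by omega) (by omega)
                  · skip
                    exact allRangeF_sound _ _ (checkPointF_eq cert) 270375 25 chkP_270375 i (by omega) (by omega)
            · skip
              rcases Nat.lt_or_ge i 270450 with h7 | h7
              · skip
                rcases Nat.lt_or_ge i 270425 with h8 | h8
                · skip
                  exact allRangeF_sound _ _ (checkPointF_eq cert) 270400 25 chkP_270400 i (by omega) (by omega)
                · skip
                  exact allRangeF_sound _ _ (checkPointF_eq cert) 270425 25 chkP_270425 i (by omega) (by omega)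
              · skip
                rcases Nat.lt_or_ge i 270475 with h8 | h8
                · skip
                  exact allRangeF_sound _ _ (checkPointF_eq cert) 270450 25 chkP_270450 i (by omega) (by omega)
                · skip
                  rcases Nat.lt_or_ge i 270500 with h9 | h9
                  · skip
                    exact allRangeF_sound _ _ (checkPointF_eq cert) 270475 25 chkP_270475 i (by omega) (by omega)
                  · skip
                    exact allRangeF_sound _ _ (checkPointF_eq cert) 270500 25 chkP_270500 i (by omega) (by omega)
    · skip
      rcases Nat.lt_or_ge i 271475 with h3 | h3
      · skip
        rcases Nat.lt_or_ge i 271000 with h4 | h4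
        · skip
          rcases Nat.lt_or_ge i 270750 with h5 | h5
          · skip
            rcases Nat.lt_or_ge i 270625 with h6 | h6
            · skip
              rcases Nat.lt_or_ge i 270575 with h7 | h7
              · skip
                rcases Nat.lt_or_ge i 270550 with h8 | h8
                · skip
                  exact allRangeF_sound _ _ (checkPointF_eq cert) 270525 25 chkP_270525 i (by omega) (by omega)
                · skip
                  exact allRangeF_sound _ _ (checkPointF_eq cert) 270550 25 chkP_270550 i (by omega) (by omega)
              · skip
                rcases Nat.lt_or_ge i 270600 with h8 | h8
                · skip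
                  exact allRangeF_sound _ _ (checkPointF_eq cert) 270575 25 chkP_270575 i (by omega) (by omega)
                · skip
                  exact allRangeF_sound _ _ (checkPointF_eq cert) 270600 25 chkP_270600 i (by omega) (by omega)
            · skip
              rcases Nat.lt_or_ge i 270675 with h7 | h7
              · skip
                rcases Nat.lt_or_ge i 270650 with h8 | h8
                · skip
                  exact allRangeF_sound _ _ (checkPointF_eq cert) 270625 25 chkP_270625 i (by omega) (by omega)
                · skip
                  exact allRangeF_sound _ _ (checkPointF_eq cert) 270650 25 chkP_270650 i (by omega) (by omega)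
              · skip
                rcases Nat.lt_or_ge i 270700 with h8 | h8
                · skip
                  exact allRangeF_sound _ _ (checkPointF_eq cert) 270675 25 chkP_270675 i (by omega) (by omega)
                · skip
                  rcases Nat.lt_or_ge i 270725 with h9 | h9
                  · skip
                    exact allRangeF_sound _ _ (checkPointF_eq cert) 270700 25 chkP_270700 i (by omega) (by omega)
                  · skip
                    exact allRangeF_sound _ _ (checkPointF_eq cert) 270725 25 chkP_270725 i (by omega) (by omega)
          · skip
            rcases Nat.lt_or_ge i 270875 with h6 | h6
            · skip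
              rcases Nat.lt_or_ge i 270800 with h7 | h7
              · skip
                rcases Nat.lt_or_ge i 270775 with h8 | h8
                · skip
                  exact allRangeF_sound _ _ (checkPointF_eq cert) 270750 25 chkP_270750 i (by omega) (by omega)
                · skip
                  exact allRangeF_sound _ _ (checkPointF_eq cert) 270775 25 chkP_270775 i (by omega) (by omega)
              · skip
                rcases Nat.lt_or_ge i 270825 with h8 | h8
                · skip
                  exact allRangeF_sound _ _ (checkPointF_eq cert) 270800 25 chkP_270800 i (by omega) (by omega)
                · skip
                  rcases Nat.lt_or_ge i 270850 with h9 | h9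
                  · skip
                    exact allRangeF_sound _ _ (checkPointF_eq cert) 270825 25 chkP_270825 i (by omega) (by omega)
                  · skip
                    exact allRangeF_sound _ _ (checkPointF_eq cert) 270850 25 chkP_270850 i (by omega) (by omega)
            · skip
              rcases Nat.lt_or_ge i 270925 with h7 | h7
              · skip
                rcases Nat.lt_or_ge i 270900 with h8 | h8
                · skip
                  exact allRangeF_sound _ _ (checkPointF_eq cert) 270875 25 chkP_270875 i (by omega) (by omega)
                · skip
                  exact allRangeF_sound _ _ (checkPointF_eq cert) 270900 25 chkP_270900 i (by omega) (by omega)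
              · skip
                rcases Nat.lt_or_ge i 270950 with h8 | h8
                · skip
                  exact allRangeF_sound _ _ (checkPointF_eq cert) 270925 25 chkP_270925 i (by omega) (by omega)
                · skip
                  rcases Nat.lt_or_ge i 270975 with h9 | h9
                  · skip
                    exact allRangeF_sound _ _ (checkPointF_eq cert) 270950 25 chkP_270950 i (by omega) (by omega)
                  · skip
                    exact allRangeF_sound _ _ (checkPointF_eq cert) 270975 25 chkP_270975 i (by omega) (by omega)
        · skip
          rcases Nat.lt_or_ge i 271225 with h5 | h5
          · skip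
            rcases Nat.lt_or_ge i 271100 with h6 | h6
            · skip
              rcases Nat.lt_or_ge i 271050 with h7 | h7
              · skip
                rcases Nat.lt_or_ge i 271025 with h8 | h8
                · skip
                  exact allRangeF_sound _ _ (checkPointF_eq cert) 271000 25 chkP_271000 i (by omega) (by omega)
                · skip
                  exact allRangeF_sound _ _ (checkPointF_eq cert) 271025 25 chkP_271025 i (by omega) (by omega)
              · skip
                rcases Nat.lt_or_ge i 271075 with h8 | h8
                · skip
                  exact allRangeF_sound _ _ (checkPointF_eq cert) 271050 25 chkP_271050 i (by omega) (by omega)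
                · skip
                  exact allRangeF_sound _ _ (checkPointF_eq cert) 271075 25 chkP_271075 i (by omega) (by omega)
            · skip
              rcases Nat.lt_or_ge i 271150 with h7 | h7
              · skip
                rcases Nat.lt_or_ge i 271125 with h8 | h8
                · skip
                  exact allRangeF_sound _ _ (checkPointF_eq cert) 271100 25 chkP_271100 i (by omega) (by omega)
                · skip
                  exact allRangeF_sound _ _ (checkPointF_eq cert) 271125 25 chkP_271125 i (by omega) (by omega)
              · skip
                rcases Nat.lt_or_ge i 271175 with h8 | h8
                · skip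
                  exact allRangeF_sound _ _ (checkPointF_eq cert) 271150 25 chkP_271150 i (by omega) (by omega)
                · skip
                  rcases Nat.lt_or_ge i 271200 with h9 | h9
                  · skip
                    exact allRangeF_sound _ _ (checkPointF_eq cert) 271175 25 chkP_271175 i (by omega) (by omega)
                  · skip
                    exact allRangeF_sound _ _ (checkPointF_eq cert) 271200 25 chkP_271200 i (by omega) (by omega)
          · skip
            rcases Nat.lt_or_ge i 271350 with h6 | h6
            · skip
              rcases Nat.lt_or_ge i 271275 with h7 | h7
              · skip
                rcases Nat.lt_or_ge i 271250 with h8 | h8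
                · skip
                  exact allRangeF_sound _ _ (checkPointF_eq cert) 271225 25 chkP_271225 i (by omega) (by omega)
                · skip
                  exact allRangeF_sound _ _ (checkPointF_eq cert) 271250 25 chkP_271250 i (by omega) (by omega)
              · skip
                rcases Nat.lt_or_ge i 271300 with h8 | h8
                · skip
                  exact allRangeF_sound _ _ (checkPointF_eq cert) 271275 25 chkP_271275 i (by omega) (by omega)
                · skip
                  rcases Nat.lt_or_ge i 271325 with h9 | h9
                  · skip
                    exact allRangeF_sound _ _ (checkPointF_eq cert) 271300 25 chkP_271300 i (by omega) (by omega)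
                  · skip
                    exact allRangeF_sound _ _ (checkPointF_eq cert) 271325 25 chkP_271325 i (by omega) (by omega)
            · skip
              rcases Nat.lt_or_ge i 271400 with h7 | h7
              · skip
                rcases Nat.lt_or_ge i 271375 with h8 | h8
                · skip
                  exact allRangeF_sound _ _ (checkPointF_eq cert) 271350 25 chkP_271350 i (by omega) (by omega)
                · skip
                  exact allRangeF_sound _ _ (checkPointF_eq cert) 271375 25 chkP_271375 i (by omega) (by omega)
              · skip
                rcases Nat.lt_or_ge i 271425 with h8 | h8
                · skip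
                  exact allRangeF_sound _ _ (checkPointF_eq cert) 271400 25 chkP_271400 i (by omega) (by omega)
                · skip
                  rcases Nat.lt_or_ge i 271450 with h9 | h9
                  · skip
                    exact allRangeF_sound _ _ (checkPointF_eq cert) 271425 25 chkP_271425 i (by omega) (by omega)
                  · skip
                    exact allRangeF_sound _ _ (checkPointF_eq cert) 271450 25 chkP_271450 i (by omega) (by omega)
      · skip
        rcases Nat.lt_or_ge i 271950 with h4 | h4
        · skip
          rcases Nat.lt_or_ge i 271700 with h5 | h5
          · skip
            rcases Nat.lt_or_ge i 271575 with h6 | h6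
            · skip
              rcases Nat.lt_or_ge i 271525 with h7 | h7
              · skip
                rcases Nat.lt_or_ge i 271500 with h8 | h8
                · skip
                  exact allRangeF_sound _ _ (checkPointF_eq cert) 271475 25 chkP_271475 i (by omega) (by omega)
                · skip
                  exact allRangeF_sound _ _ (checkPointF_eq cert) 271500 25 chkP_271500 i (by omega) (by omega)
              · skip
                rcases Nat.lt_or_ge i 271550 with h8 | h8
                · skip
                  exact allRangeF_sound _ _ (checkPointF_eq cert) 271525 25 chkP_271525 i (by omega) (by omega)
                · skip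
                  exact allRangeF_sound _ _ (checkPointF_eq cert) 271550 25 chkP_271550 i (by omega) (by omega)
            · skip
              rcases Nat.lt_or_ge i 271625 with h7 | h7
              · skip
                rcases Nat.lt_or_ge i 271600 with h8 | h8
                · skip
                  exact allRangeF_sound _ _ (checkPointF_eq cert) 271575 25 chkP_271575 i (by omega) (by omega)
                · skip
                  exact allRangeF_sound _ _ (checkPointF_eq cert) 271600 25 chkP_271600 i (by omega) (by omega)
              · skip
                rcases Nat.lt_or_ge i 271650 with h8 | h8
                · skip
                  exact allRangeF_sound _ _ (checkPointF_eq cert) 271625 25 chkP_271625 i (by omega) (by omega)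
                · skip
                  rcases Nat.lt_or_ge i 271675 with h9 | h9
                  · skip
                    exact allRangeF_sound _ _ (checkPointF_eq cert) 271650 25 chkP_271650 i (by omega) (by omega)
                  · skip
                    exact allRangeF_sound _ _ (checkPointF_eq cert) 271675 25 chkP_271675 i (by omega) (by omega)
          · skip
            rcases Nat.lt_or_ge i 271825 with h6 | h6
            · skip
              rcases Nat.lt_or_ge i 271750 with h7 | h7
              · skip
                rcases Nat.lt_or_ge i 271725 with h8 | h8
                · skip
                  exact allRangeF_sound _ _ (checkPointF_eq cert) 271700 25 chkP_271700 i (by omega) (by omega)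
                · skip
                  exact allRangeF_sound _ _ (checkPointF_eq cert) 271725 25 chkP_271725 i (by omega) (by omega)
              · skip
                rcases Nat.lt_or_ge i 271775 with h8 | h8
                · skip
                  exact allRangeF_sound _ _ (checkPointF_eq cert) 271750 25 chkP_271750 i (by omega) (by omega)
                · skip
                  rcases Nat.lt_or_ge i 271800 with h9 | h9
                  · skip
                    exact allRangeF_sound _ _ (checkPointF_eq cert) 271775 25 chkP_271775 i (by omega) (by omega)
                  · skip
                    exact allRangeF_sound _ _ (checkPointF_eq cert) 271800 25 chkP_271800 i (by omega) (by omega)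
            · skip
              rcases Nat.lt_or_ge i 271875 with h7 | h7
              · skip
                rcases Nat.lt_or_ge i 271850 with h8 | h8
                · skip
                  exact allRangeF_sound _ _ (checkPointF_eq cert) 271825 25 chkP_271825 i (by omega) (by omega)
                · skip
                  exact allRangeF_sound _ _ (checkPointF_eq cert) 271850 25 chkP_271850 i (by omega) (by omega)
              · skip
                rcases Nat.lt_or_ge i 271900 with h8 | h8
                · skip
                  exact allRangeF_sound _ _ (checkPointF_eq cert) 271875 25 chkP_271875 i (by omega) (by omega)
                · skip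
                  rcases Nat.lt_or_ge i 271925 with h9 | h9
                  · skip
                    exact allRangeF_sound _ _ (checkPointF_eq cert) 271900 25 chkP_271900 i (by omega) (by omega)
                  · skip
                    exact allRangeF_sound _ _ (checkPointF_eq cert) 271925 25 chkP_271925 i (by omega) (by omega)
        · skip
          rcases Nat.lt_or_ge i 272200 with h5 | h5
          · skip
            rcases Nat.lt_or_ge i 272075 with h6 | h6
            · skip
              rcases Nat.lt_or_ge i 272000 with h7 | h7
              · skip
                rcases Nat.lt_or_ge i 271975 with h8 | h8
                · skip
                  exact allRangeF_sound _ _ (checkPointF_eq cert) 271950 25 chkP_271950 i (by omega) (by omega)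
                · skip
                  exact allRangeF_sound _ _ (checkPointF_eq cert) 271975 25 chkP_271975 i (by omega) (by omega)
              · skip
                rcases Nat.lt_or_ge i 272025 with h8 | h8
                · skip
                  exact allRangeF_sound _ _ (checkPointF_eq cert) 272000 25 chkP_272000 i (by omega) (by omega)
                · skip
                  rcases Nat.lt_or_ge i 272050 with h9 | h9
                  · skip
                    exact allRangeF_sound _ _ (checkPointF_eq cert) 272025 25 chkP_272025 i (by omega) (by omega)
                  · skip
                    exact allRangeF_sound _ _ (checkPointF_eq cert) 272050 25 chkP_272050 i (by omega) (by omega)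
            · skip
              rcases Nat.lt_or_ge i 272125 with h7 | h7
              · skip
                rcases Nat.lt_or_ge i 272100 with h8 | h8
                · skip
                  exact allRangeF_sound _ _ (checkPointF_eq cert) 272075 25 chkP_272075 i (by omega) (by omega)
                · skip
                  exact allRangeF_sound _ _ (checkPointF_eq cert) 272100 25 chkP_272100 i (by omega) (by omega)
              · skip
                rcases Nat.lt_or_ge i 272150 with h8 | h8
                · skip
                  exact allRangeF_sound _ _ (checkPointF_eq cert) 272125 25 chkP_272125 i (by omega) (by omega)
                · skip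
                  rcases Nat.lt_or_ge i 272175 with h9 | h9
                  · skip
                    exact allRangeF_sound _ _ (checkPointF_eq cert) 272150 25 chkP_272150 i (by omega) (by omega)
                  · skip
                    exact allRangeF_sound _ _ (checkPointF_eq cert) 272175 25 chkP_272175 i (by omega) (by omega)
          · skip
            rcases Nat.lt_or_ge i 272325 with h6 | h6
            · skip
              rcases Nat.lt_or_ge i 272250 with h7 | h7
              · skip
                rcases Nat.lt_or_ge i 272225 with h8 | h8
                · skip
                  exact allRangeF_sound _ _ (checkPointF_eq cert) 272200 25 chkP_272200 i (by omega) (by omega)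
                · skip
                  exact allRangeF_sound _ _ (checkPointF_eq cert) 272225 25 chkP_272225 i (by omega) (by omega)
              · skip
                rcases Nat.lt_or_ge i 272275 with h8 | h8
                · skip
                  exact allRangeF_sound _ _ (checkPointF_eq cert) 272250 25 chkP_272250 i (by omega) (by omega)
                · skip
                  rcases Nat.lt_or_ge i 272300 with h9 | h9
                  · skip
                    exact allRangeF_sound _ _ (checkPointF_eq cert) 272275 25 chkP_272275 i (by omega) (by omega)
                  · skip
                    exact allRangeF_sound _ _ (checkPointF_eq cert) 272300 25 chkP_272300 i (by omega) (by omega)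
            · skip
              rcases Nat.lt_or_ge i 272375 with h7 | h7
              · skip
                rcases Nat.lt_or_ge i 272350 with h8 | h8
                · skip
                  exact allRangeF_sound _ _ (checkPointF_eq cert) 272325 25 chkP_272325 i (by omega) (by omega)
                · skip
                  exact allRangeF_sound _ _ (checkPointF_eq cert) 272350 25 chkP_272350 i (by omega) (by omega)
              · skip
                rcases Nat.lt_or_ge i 272400 with h8 | h8
                · skip
                  exact allRangeF_sound _ _ (checkPointF_eq cert) 272375 25 chkP_272375 i (by omega) (by omega)
                · skip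
                  rcases Nat.lt_or_ge i 272425 with h9 | h9
                  · skip
                    exact allRangeF_sound _ _ (checkPointF_eq cert) 272400 25 chkP_272400 i (by omega) (by omega)
                  · skip
                    exact allRangeF_sound _ _ (checkPointF_eq cert) 272425 25 chkP_272425 i (by omega) (by omega)
  · skip
    rcases Nat.lt_or_ge i 274375 with h2 | h2
    · skip
      rcases Nat.lt_or_ge i 273400 with h3 | h3
      · skip
        rcases Nat.lt_or_ge i 272925 with h4 | h4
        · skip
          rcases Nat.lt_or_ge i 272675 with h5 | h5
          · skip
            rcases Nat.lt_or_ge i 272550 with h6 | h6
            · skip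
              rcases Nat.lt_or_ge i 272500 with h7 | h7
              · skip
                rcases Nat.lt_or_ge i 272475 with h8 | h8
                · skip
                  exact allRangeF_sound _ _ (checkPointF_eq cert) 272450 25 chkP_272450 i (by omega) (by omega)
                · skip
                  exact allRangeF_sound _ _ (checkPointF_eq cert) 272475 25 chkP_272475 i (by omega) (by omega)
              · skip
                rcases Nat.lt_or_ge i 272525 with h8 | h8
                · skip
                  exact allRangeF_sound _ _ (checkPointF_eq cert) 272500 25 chkP_272500 i (by omega) (by omega)
                · skip
                  exact allRangeF_sound _ _ (checkPointF_eq cert) 272525 25 chkP_272525 i (by omega) (by omega)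
            · skip
              rcases Nat.lt_or_ge i 272600 with h7 | h7
              · skip
                rcases Nat.lt_or_ge i 272575 with h8 | h8
                · skip
                  exact allRangeF_sound _ _ (checkPointF_eq cert) 272550 25 chkP_272550 i (by omega) (by omega)
                · skip
                  exact allRangeF_sound _ _ (checkPointF_eq cert) 272575 25 chkP_272575 i (by omega) (by omega)
              · skip
                rcases Nat.lt_or_ge i 272625 with h8 | h8
                · skip
                  exact allRangeF_sound _ _ (checkPointF_eq cert) 272600 25 chkP_272600 i (by omega) (by omega)
                · skip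
                  rcases Nat.lt_or_ge i 272650 with h9 | h9
                  · skip
                    exact allRangeF_sound _ _ (checkPointF_eq cert) 272625 25 chkP_272625 i (by omega) (by omega)
                  · skip
                    exact allRangeF_sound _ _ (checkPointF_eq cert) 272650 25 chkP_272650 i (by omega) (by omega)
          · skip
            rcases Nat.lt_or_ge i 272800 with h6 | h6
            · skip
              rcases Nat.lt_or_ge i 272725 with h7 | h7
              · skip
                rcases Nat.lt_or_ge i 272700 with h8 | h8
                · skip
                  exact allRangeF_sound _ _ (checkPointF_eq cert) 272675 25 chkP_272675 i (by omega) (by omega)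
                · skip
                  exact allRangeF_sound _ _ (checkPointF_eq cert) 272700 25 chkP_272700 i (by omega) (by omega)
              · skip
                rcases Nat.lt_or_ge i 272750 with h8 | h8
                · skip
                  exact allRangeF_sound _ _ (checkPointF_eq cert) 272725 25 chkP_272725 i (by omega) (by omega)
                · skip
                  rcases Nat.lt_or_ge i 272775 with h9 | h9
                  · skip
                    exact allRangeF_sound _ _ (checkPointF_eq cert) 272750 25 chkP_272750 i (by omega) (by omega)
                  · skip
                    exact allRangeF_sound _ _ (checkPointF_eq cert) 272775 25 chkP_272775 i (by omega) (by omega)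
            · skip
              rcases Nat.lt_or_ge i 272850 with h7 | h7
              · skip
                rcases Nat.lt_or_ge i 272825 with h8 | h8
                · skip
                  exact allRangeF_sound _ _ (checkPointF_eq cert) 272800 25 chkP_272800 i (by omega) (by omega)
                · skip
                  exact allRangeF_sound _ _ (checkPointF_eq cert) 272825 25 chkP_272825 i (by omega) (by omega)
              · skip
                rcases Nat.lt_or_ge i 272875 with h8 | h8
                · skip
                  exact allRangeF_sound _ _ (checkPointF_eq cert) 272850 25 chkP_272850 i (by omega) (by omega)
                · skip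
                  rcases Nat.lt_or_ge i 272900 with h9 | h9
                  · skip
                    exact allRangeF_sound _ _ (checkPointF_eq cert) 272875 25 chkP_272875 i (by omega) (by omega)
                  · skip
                    exact allRangeF_sound _ _ (checkPointF_eq cert) 272900 25 chkP_272900 i (by omega) (by omega)
        · skip
          rcases Nat.lt_or_ge i 273150 with h5 | h5
          · skip
            rcases Nat.lt_or_ge i 273025 with h6 | h6
            · skip
              rcases Nat.lt_or_ge i 272975 with h7 | h7
              · skip
                rcases Nat.lt_or_ge i 272950 with h8 | h8
                · skip
                  exact allRangeF_sound _ _ (checkPointF_eq cert) 272925 25 chkP_272925 i (by omega) (by omega)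
                · skip
                  exact allRangeF_sound _ _ (checkPointF_eq cert) 272950 25 chkP_272950 i (by omega) (by omega)
              · skip
                rcases Nat.lt_or_ge i 273000 with h8 | h8
                · skip
                  exact allRangeF_sound _ _ (checkPointF_eq cert) 272975 25 chkP_272975 i (by omega) (by omega)
                · skip
                  exact allRangeF_sound _ _ (checkPointF_eq cert) 273000 25 chkP_273000 i (by omega) (by omega)
            · skip
              rcases Nat.lt_or_ge i 273075 with h7 | h7
              · skip
                rcases Nat.lt_or_ge i 273050 with h8 | h8
                · skip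
                  exact allRangeF_sound _ _ (checkPointF_eq cert) 273025 25 chkP_273025 i (by omega) (by omega)
                · skip
                  exact allRangeF_sound _ _ (checkPointF_eq cert) 273050 25 chkP_273050 i (by omega) (by omega)
              · skip
                rcases Nat.lt_or_ge i 273100 with h8 | h8
                · skip
                  exact allRangeF_sound _ _ (checkPointF_eq cert) 273075 25 chkP_273075 i (by omega) (by omega)
                · skip
                  rcases Nat.lt_or_ge i 273125 with h9 | h9
                  · skip
                    exact allRangeF_sound _ _ (checkPointF_eq cert) 273100 25 chkP_273100 i (by omega) (by omega)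
                  · skip
                    exact allRangeF_sound _ _ (checkPointF_eq cert) 273125 25 chkP_273125 i (by omega) (by omega)
          · skip
            rcases Nat.lt_or_ge i 273275 with h6 | h6
            · skip
              rcases Nat.lt_or_ge i 273200 with h7 | h7
              · skip
                rcases Nat.lt_or_ge i 273175 with h8 | h8
                · skip
                  exact allRangeF_sound _ _ (checkPointF_eq cert) 273150 25 chkP_273150 i (by omega) (by omega)
                · skip
                  exact allRangeF_sound _ _ (checkPointF_eq cert) 273175 25 chkP_273175 i (by omega) (by omega)
              · skip
                rcases Nat.lt_or_ge i 273225 with h8 | h8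
                · skip
                  exact allRangeF_sound _ _ (checkPointF_eq cert) 273200 25 chkP_273200 i (by omega) (by omega)
                · skip
                  rcases Nat.lt_or_ge i 273250 with h9 | h9
                  · skip
                    exact allRangeF_sound _ _ (checkPointF_eq cert) 273225 25 chkP_273225 i (by omega) (by omega)
                  · skip
                    exact allRangeF_sound _ _ (checkPointF_eq cert) 273250 25 chkP_273250 i (by omega) (by omega)
            · skip
              rcases Nat.lt_or_ge i 273325 with h7 | h7
              · skip
                rcases Nat.lt_or_ge i 273300 with h8 | h8
                · skip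
                  exact allRangeF_sound _ _ (checkPointF_eq cert) 273275 25 chkP_273275 i (by omega) (by omega)
                · skip
                  exact allRangeF_sound _ _ (checkPointF_eq cert) 273300 25 chkP_273300 i (by omega) (by omega)
              · skip
                rcases Nat.lt_or_ge i 273350 with h8 | h8
                · skip
                  exact allRangeF_sound _ _ (checkPointF_eq cert) 273325 25 chkP_273325 i (by omega) (by omega)
                · skip
                  rcases Nat.lt_or_ge i 273375 with h9 | h9
                  · skip
                    exact allRangeF_sound _ _ (checkPointF_eq cert) 273350 25 chkP_273350 i (by omega) (by omega)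
                  · skip
                    exact allRangeF_sound _ _ (checkPointF_eq cert) 273375 25 chkP_273375 i (by omega) (by omega)
      · skip
        rcases Nat.lt_or_ge i 273875 with h4 | h4
        · skip
          rcases Nat.lt_or_ge i 273625 with h5 | h5
          · skip
            rcases Nat.lt_or_ge i 273500 with h6 | h6
            · skip
              rcases Nat.lt_or_ge i 273450 with h7 | h7
              · skip
                rcases Nat.lt_or_ge i 273425 with h8 | h8
                · skip
                  exact allRangeF_sound _ _ (checkPointF_eq cert) 273400 25 chkP_273400 i (by omega) (by omega)
                · skip
                  exact allRangeF_sound _ _ (checkPointF_eq cert) 273425 25 chkP_273425 i (by omega) (by omega)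
              · skip
                rcases Nat.lt_or_ge i 273475 with h8 | h8
                · skip
                  exact allRangeF_sound _ _ (checkPointF_eq cert) 273450 25 chkP_273450 i (by omega) (by omega)
                · skip
                  exact allRangeF_sound _ _ (checkPointF_eq cert) 273475 25 chkP_273475 i (by omega) (by omega)
            · skip
              rcases Nat.lt_or_ge i 273550 with h7 | h7
              · skip
                rcases Nat.lt_or_ge i 273525 with h8 | h8
                · skip
                  exact allRangeF_sound _ _ (checkPointF_eq cert) 273500 25 chkP_273500 i (by omega) (by omega)
                · skip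
                  exact allRangeF_sound _ _ (checkPointF_eq cert) 273525 25 chkP_273525 i (by omega) (by omega)
              · skip
                rcases Nat.lt_or_ge i 273575 with h8 | h8
                · skip
                  exact allRangeF_sound _ _ (checkPointF_eq cert) 273550 25 chkP_273550 i (by omega) (by omega)
                · skip
                  rcases Nat.lt_or_ge i 273600 with h9 | h9
                  · skip
                    exact allRangeF_sound _ _ (checkPointF_eq cert) 273575 25 chkP_273575 i (by omega) (by omega)
                  · skip
                    exact allRangeF_sound _ _ (checkPointF_eq cert) 273600 25 chkP_273600 i (by omega) (by omega)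
          · skip
            rcases Nat.lt_or_ge i 273750 with h6 | h6
            · skip
              rcases Nat.lt_or_ge i 273675 with h7 | h7
              · skip
                rcases Nat.lt_or_ge i 273650 with h8 | h8
                · skip
                  exact allRangeF_sound _ _ (checkPointF_eq cert) 273625 25 chkP_273625 i (by omega) (by omega)
                · skip
                  exact allRangeF_sound _ _ (checkPointF_eq cert) 273650 25 chkP_273650 i (by omega) (by omega)
              · skip
                rcases Nat.lt_or_ge i 273700 with h8 | h8
                · skip
                  exact allRangeF_sound _ _ (checkPointF_eq cert) 273675 25 chkP_273675 i (by omega) (by omega)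
                · skip
                  rcases Nat.lt_or_ge i 273725 with h9 | h9
                  · skip
                    exact allRangeF_sound _ _ (checkPointF_eq cert) 273700 25 chkP_273700 i (by omega) (by omega)
                  · skip
                    exact allRangeF_sound _ _ (checkPointF_eq cert) 273725 25 chkP_273725 i (by omega) (by omega)
            · skip
              rcases Nat.lt_or_ge i 273800 with h7 | h7
              · skip
                rcases Nat.lt_or_ge i 273775 with h8 | h8
                · skip
                  exact allRangeF_sound _ _ (checkPointF_eq cert) 273750 25 chkP_273750 i (by omega) (by omega)
                · skip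
                  exact allRangeF_sound _ _ (checkPointF_eq cert) 273775 25 chkP_273775 i (by omega) (by omega)
              · skip
                rcases Nat.lt_or_ge i 273825 with h8 | h8
                · skip
                  exact allRangeF_sound _ _ (checkPointF_eq cert) 273800 25 chkP_273800 i (by omega) (by omega)
                · skip
                  rcases Nat.lt_or_ge i 273850 with h9 | h9
                  · skip
                    exact allRangeF_sound _ _ (checkPointF_eq cert) 273825 25 chkP_273825 i (by omega) (by omega)
                  · skip
                    exact allRangeF_sound _ _ (checkPointF_eq cert) 273850 25 chkP_273850 i (by omega) (by omega)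
        · skip
          rcases Nat.lt_or_ge i 274125 with h5 | h5
          · skip
            rcases Nat.lt_or_ge i 274000 with h6 | h6
            · skip
              rcases Nat.lt_or_ge i 273925 with h7 | h7
              · skip
                rcases Nat.lt_or_ge i 273900 with h8 | h8
                · skip
                  exact allRangeF_sound _ _ (checkPointF_eq cert) 273875 25 chkP_273875 i (by omega) (by omega)
                · skip
                  exact allRangeF_sound _ _ (checkPointF_eq cert) 273900 25 chkP_273900 i (by omega) (by omega)
              · skip
                rcases Nat.lt_or_ge i 273950 with h8 | h8
                · skip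
                  exact allRangeF_sound _ _ (checkPointF_eq cert) 273925 25 chkP_273925 i (by omega) (by omega)
                · skip
                  rcases Nat.lt_or_ge i 273975 with h9 | h9
                  · skip
                    exact allRangeF_sound _ _ (checkPointF_eq cert) 273950 25 chkP_273950 i (by omega) (by omega)
                  · skip
                    exact allRangeF_sound _ _ (checkPointF_eq cert) 273975 25 chkP_273975 i (by omega) (by omega)
            · skip
              rcases Nat.lt_or_ge i 274050 with h7 | h7
              · skip
                rcases Nat.lt_or_ge i 274025 with h8 | h8
                · skip
                  exact allRangeF_sound _ _ (checkPointF_eq cert) 274000 25 chkP_274000 i (by omega) (by omega)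
                · skip
                  exact allRangeF_sound _ _ (checkPointF_eq cert) 274025 25 chkP_274025 i (by omega) (by omega)
              · skip
                rcases Nat.lt_or_ge i 274075 with h8 | h8
                · skip
                  exact allRangeF_sound _ _ (checkPointF_eq cert) 274050 25 chkP_274050 i (by omega) (by omega)
                · skip
                  rcases Nat.lt_or_ge i 274100 with h9 | h9
                  · skip
                    exact allRangeF_sound _ _ (checkPointF_eq cert) 274075 25 chkP_274075 i (by omega) (by omega)
                  · skip
                    exact allRangeF_sound _ _ (checkPointF_eq cert) 274100 25 chkP_274100 i (by omega) (by omega)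
          · skip
            rcases Nat.lt_or_ge i 274250 with h6 | h6
            · skip
              rcases Nat.lt_or_ge i 274175 with h7 | h7
              · skip
                rcases Nat.lt_or_ge i 274150 with h8 | h8
                · skip
                  exact allRangeF_sound _ _ (checkPointF_eq cert) 274125 25 chkP_274125 i (by omega) (by omega)
                · skip
                  exact allRangeF_sound _ _ (checkPointF_eq cert) 274150 25 chkP_274150 i (by omega) (by omega)
              · skip
                rcases Nat.lt_or_ge i 274200 with h8 | h8
                · skip
                  exact allRangeF_sound _ _ (checkPointF_eq cert) 274175 25 chkP_274175 i (by omega) (by omega)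
                · skip
                  rcases Nat.lt_or_ge i 274225 with h9 | h9
                  · skip
                    exact allRangeF_sound _ _ (checkPointF_eq cert) 274200 25 chkP_274200 i (by omega) (by omega)
                  · skip
                    exact allRangeF_sound _ _ (checkPointF_eq cert) 274225 25 chkP_274225 i (by omega) (by omega)
            · skip
              rcases Nat.lt_or_ge i 274300 with h7 | h7
              · skip
                rcases Nat.lt_or_ge i 274275 with h8 | h8
                · skip
                  exact allRangeF_sound _ _ (checkPointF_eq cert) 274250 25 chkP_274250 i (by omega) (by omega)
                · skip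
                  exact allRangeF_sound _ _ (checkPointF_eq cert) 274275 25 chkP_274275 i (by omega) (by omega)
              · skip
                rcases Nat.lt_or_ge i 274325 with h8 | h8
                · skip
                  exact allRangeF_sound _ _ (checkPointF_eq cert) 274300 25 chkP_274300 i (by omega) (by omega)
                · skip
                  rcases Nat.lt_or_ge i 274350 with h9 | h9
                  · skip
                    exact allRangeF_sound _ _ (checkPointF_eq cert) 274325 25 chkP_274325 i (by omega) (by omega)
                  · skip
                    exact allRangeF_sound _ _ (checkPointF_eq cert) 274350 25 chkP_274350 i (by omega) (by omega)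
    · skip
      rcases Nat.lt_or_ge i 275325 with h3 | h3
      · skip
        rcases Nat.lt_or_ge i 274850 with h4 | h4
        · skip
          rcases Nat.lt_or_ge i 274600 with h5 | h5
          · skip
            rcases Nat.lt_or_ge i 274475 with h6 | h6
            · skip
              rcases Nat.lt_or_ge i 274425 with h7 | h7
              · skip
                rcases Nat.lt_or_ge i 274400 with h8 | h8
                · skip
                  exact allRangeF_sound _ _ (checkPointF_eq cert) 274375 25 chkP_274375 i (by omega) (by omega)
                · skip
                  exact allRangeF_sound _ _ (checkPointF_eq cert) 274400 25 chkP_274400 i (by omega) (by omega)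
              · skip
                rcases Nat.lt_or_ge i 274450 with h8 | h8
                · skip
                  exact allRangeF_sound _ _ (checkPointF_eq cert) 274425 25 chkP_274425 i (by omega) (by omega)
                · skip
                  exact allRangeF_sound _ _ (checkPointF_eq cert) 274450 25 chkP_274450 i (by omega) (by omega)
            · skip
              rcases Nat.lt_or_ge i 274525 with h7 | h7
              · skip
                rcases Nat.lt_or_ge i 274500 with h8 | h8
                · skip
                  exact allRangeF_sound _ _ (checkPointF_eq cert) 274475 25 chkP_274475 i (by omega) (by omega)
                · skip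
                  exact allRangeF_sound _ _ (checkPointF_eq cert) 274500 25 chkP_274500 i (by omega) (by omega)
              · skip
                rcases Nat.lt_or_ge i 274550 with h8 | h8
                · skip
                  exact allRangeF_sound _ _ (checkPointF_eq cert) 274525 25 chkP_274525 i (by omega) (by omega)
                · skip
                  rcases Nat.lt_or_ge i 274575 with h9 | h9
                  · skip
                    exact allRangeF_sound _ _ (checkPointF_eq cert) 274550 25 chkP_274550 i (by omega) (by omega)
                  · skip
                    exact allRangeF_sound _ _ (checkPointF_eq cert) 274575 25 chkP_274575 i (by omega) (by omega)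
          · skip
            rcases Nat.lt_or_ge i 274725 with h6 | h6
            · skip
              rcases Nat.lt_or_ge i 274650 with h7 | h7
              · skip
                rcases Nat.lt_or_ge i 274625 with h8 | h8
                · skip
                  exact allRangeF_sound _ _ (checkPointF_eq cert) 274600 25 chkP_274600 i (by omega) (by omega)
                · skip
                  exact allRangeF_sound _ _ (checkPointF_eq cert) 274625 25 chkP_274625 i (by omega) (by omega)
              · skip
                rcases Nat.lt_or_ge i 274675 with h8 | h8
                · skip
                  exact allRangeF_sound _ _ (checkPointF_eq cert) 274650 25 chkP_274650 i (by omega) (by omega)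
                · skip
                  rcases Nat.lt_or_ge i 274700 with h9 | h9
                  · skip
                    exact allRangeF_sound _ _ (checkPointF_eq cert) 274675 25 chkP_274675 i (by omega) (by omega)
                  · skip
                    exact allRangeF_sound _ _ (checkPointF_eq cert) 274700 25 chkP_274700 i (by omega) (by omega)
            · skip
              rcases Nat.lt_or_ge i 274775 with h7 | h7
              · skip
                rcases Nat.lt_or_ge i 274750 with h8 | h8
                · skip
                  exact allRangeF_sound _ _ (checkPointF_eq cert) 274725 25 chkP_274725 i (by omega) (by omega)
                · skip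
                  exact allRangeF_sound _ _ (checkPointF_eq cert) 274750 25 chkP_274750 i (by omega) (by omega)
              · skip
                rcases Nat.lt_or_ge i 274800 with h8 | h8
                · skip
                  exact allRangeF_sound _ _ (checkPointF_eq cert) 274775 25 chkP_274775 i (by omega) (by omega)
                · skip
                  rcases Nat.lt_or_ge i 274825 with h9 | h9
                  · skip
                    exact allRangeF_sound _ _ (checkPointF_eq cert) 274800 25 chkP_274800 i (by omega) (by omega)
                  · skip
                    exact allRangeF_sound _ _ (checkPointF_eq cert) 274825 25 chkP_274825 i (by omega) (by omega)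
        · skip
          rcases Nat.lt_or_ge i 275075 with h5 | h5
          · skip
            rcases Nat.lt_or_ge i 274950 with h6 | h6
            · skip
              rcases Nat.lt_or_ge i 274900 with h7 | h7
              · skip
                rcases Nat.lt_or_ge i 274875 with h8 | h8
                · skip
                  exact allRangeF_sound _ _ (checkPointF_eq cert) 274850 25 chkP_274850 i (by omega) (by omega)
                · skip
                  exact allRangeF_sound _ _ (checkPointF_eq cert) 274875 25 chkP_274875 i (by omega) (by omega)
              · skip
                rcases Nat.lt_or_ge i 274925 with h8 | h8
                · skip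
                  exact allRangeF_sound _ _ (checkPointF_eq cert) 274900 25 chkP_274900 i (by omega) (by omega)
                · skip
                  exact allRangeF_sound _ _ (checkPointF_eq cert) 274925 25 chkP_274925 i (by omega) (by omega)
            · skip
              rcases Nat.lt_or_ge i 275000 with h7 | h7
              · skip
                rcases Nat.lt_or_ge i 274975 with h8 | h8
                · skip
                  exact allRangeF_sound _ _ (checkPointF_eq cert) 274950 25 chkP_274950 i (by omega) (by omega)
                · skip
                  exact allRangeF_sound _ _ (checkPointF_eq cert) 274975 25 chkP_274975 i (by omega) (by omega)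
              · skip
                rcases Nat.lt_or_ge i 275025 with h8 | h8
                · skip
                  exact allRangeF_sound _ _ (checkPointF_eq cert) 275000 25 chkP_275000 i (by omega) (by omega)
                · skip
                  rcases Nat.lt_or_ge i 275050 with h9 | h9
                  · skip
                    exact allRangeF_sound _ _ (checkPointF_eq cert) 275025 25 chkP_275025 i (by omega) (by omega)
                  · skip
                    exact allRangeF_sound _ _ (checkPointF_eq cert) 275050 25 chkP_275050 i (by omega) (by omega)
          · skip
            rcases Nat.lt_or_ge i 275200 with h6 | h6
            · skip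
              rcases Nat.lt_or_ge i 275125 with h7 | h7
              · skip
                rcases Nat.lt_or_ge i 275100 with h8 | h8
                · skip
                  exact allRangeF_sound _ _ (checkPointF_eq cert) 275075 25 chkP_275075 i (by omega) (by omega)
                · skip
                  exact allRangeF_sound _ _ (checkPointF_eq cert) 275100 25 chkP_275100 i (by omega) (by omega)
              · skip
                rcases Nat.lt_or_ge i 275150 with h8 | h8
                · skip
                  exact allRangeF_sound _ _ (checkPointF_eq cert) 275125 25 chkP_275125 i (by omega) (by omega)
                · skip
                  rcases Nat.lt_or_ge i 275175 with h9 | h9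
                  · skip
                    exact allRangeF_sound _ _ (checkPointF_eq cert) 275150 25 chkP_275150 i (by omega) (by omega)
                  · skip
                    exact allRangeF_sound _ _ (checkPointF_eq cert) 275175 25 chkP_275175 i (by omega) (by omega)
            · skip
              rcases Nat.lt_or_ge i 275250 with h7 | h7
              · skip
                rcases Nat.lt_or_ge i 275225 with h8 | h8
                · skip
                  exact allRangeF_sound _ _ (checkPointF_eq cert) 275200 25 chkP_275200 i (by omega) (by omega)
                · skip
                  exact allRangeF_sound _ _ (checkPointF_eq cert) 275225 25 chkP_275225 i (by omega) (by omega)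
              · skip
                rcases Nat.lt_or_ge i 275275 with h8 | h8
                · skip
                  exact allRangeF_sound _ _ (checkPointF_eq cert) 275250 25 chkP_275250 i (by omega) (by omega)
                · skip
                  rcases Nat.lt_or_ge i 275300 with h9 | h9
                  · skip
                    exact allRangeF_sound _ _ (checkPointF_eq cert) 275275 25 chkP_275275 i (by omega) (by omega)
                  · skip
                    exact allRangeF_sound _ _ (checkPointF_eq cert) 275300 25 chkP_275300 i (by omega) (by omega)
      · skip
        rcases Nat.lt_or_ge i 275800 with h4 | h4
        · skip
          rcases Nat.lt_or_ge i 275550 with h5 | h5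
          · skip
            rcases Nat.lt_or_ge i 275425 with h6 | h6
            · skip
              rcases Nat.lt_or_ge i 275375 with h7 | h7
              · skip
                rcases Nat.lt_or_ge i 275350 with h8 | h8
                · skip
                  exact allRangeF_sound _ _ (checkPointF_eq cert) 275325 25 chkP_275325 i (by omega) (by omega)
                · skip
                  exact allRangeF_sound _ _ (checkPointF_eq cert) 275350 25 chkP_275350 i (by omega) (by omega)
              · skip
                rcases Nat.lt_or_ge i 275400 with h8 | h8
                · skip
                  exact allRangeF_sound _ _ (checkPointF_eq cert) 275375 25 chkP_275375 i (by omega) (by omega)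
                · skip
                  exact allRangeF_sound _ _ (checkPointF_eq cert) 275400 25 chkP_275400 i (by omega) (by omega)
            · skip
              rcases Nat.lt_or_ge i 275475 with h7 | h7
              · skip
                rcases Nat.lt_or_ge i 275450 with h8 | h8
                · skip
                  exact allRangeF_sound _ _ (checkPointF_eq cert) 275425 25 chkP_275425 i (by omega) (by omega)
                · skip
                  exact allRangeF_sound _ _ (checkPointF_eq cert) 275450 25 chkP_275450 i (by omega) (by omega)
              · skip
                rcases Nat.lt_or_ge i 275500 with h8 | h8
                · skip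
                  exact allRangeF_sound _ _ (checkPointF_eq cert) 275475 25 chkP_275475 i (by omega) (by omega)
                · skip
                  rcases Nat.lt_or_ge i 275525 with h9 | h9
                  · skip
                    exact allRangeF_sound _ _ (checkPointF_eq cert) 275500 25 chkP_275500 i (by omega) (by omega)
                  · skip
                    exact allRangeF_sound _ _ (checkPointF_eq cert) 275525 25 chkP_275525 i (by omega) (by omega)
          · skip
            rcases Nat.lt_or_ge i 275675 with h6 | h6
            · skip
              rcases Nat.lt_or_ge i 275600 with h7 | h7
              · skip
                rcases Nat.lt_or_ge i 275575 with h8 | h8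
                · skip
                  exact allRangeF_sound _ _ (checkPointF_eq cert) 275550 25 chkP_275550 i (by omega) (by omega)
                · skip
                  exact allRangeF_sound _ _ (checkPointF_eq cert) 275575 25 chkP_275575 i (by omega) (by omega)
              · skip
                rcases Nat.lt_or_ge i 275625 with h8 | h8
                · skip
                  exact allRangeF_sound _ _ (checkPointF_eq cert) 275600 25 chkP_275600 i (by omega) (by omega)
                · skip
                  rcases Nat.lt_or_ge i 275650 with h9 | h9
                  · skip
                    exact allRangeF_sound _ _ (checkPointF_eq cert) 275625 25 chkP_275625 i (by omega) (by omega)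
                  · skip
                    exact allRangeF_sound _ _ (checkPointF_eq cert) 275650 25 chkP_275650 i (by omega) (by omega)
            · skip
              rcases Nat.lt_or_ge i 275725 with h7 | h7
              · skip
                rcases Nat.lt_or_ge i 275700 with h8 | h8
                · skip
                  exact allRangeF_sound _ _ (checkPointF_eq cert) 275675 25 chkP_275675 i (by omega) (by omega)
                · skip
                  exact allRangeF_sound _ _ (checkPointF_eq cert) 275700 25 chkP_275700 i (by omega) (by omega)
              · skip
                rcases Nat.lt_or_ge i 275750 with h8 | h8
                · skip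
                  exact allRangeF_sound _ _ (checkPointF_eq cert) 275725 25 chkP_275725 i (by omega) (by omega)
                · skip
                  rcases Nat.lt_or_ge i 275775 with h9 | h9
                  · skip
                    exact allRangeF_sound _ _ (checkPointF_eq cert) 275750 25 chkP_275750 i (by omega) (by omega)
                  · skip
                    exact allRangeF_sound _ _ (checkPointF_eq cert) 275775 25 chkP_275775 i (by omega) (by omega)
        · skip
          rcases Nat.lt_or_ge i 276050 with h5 | h5
          · skip
            rcases Nat.lt_or_ge i 275925 with h6 | h6
            · skip
              rcases Nat.lt_or_ge i 275850 with h7 | h7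
              · skip
                rcases Nat.lt_or_ge i 275825 with h8 | h8
                · skip
                  exact allRangeF_sound _ _ (checkPointF_eq cert) 275800 25 chkP_275800 i (by omega) (by omega)
                · skip
                  exact allRangeF_sound _ _ (checkPointF_eq cert) 275825 25 chkP_275825 i (by omega) (by omega)
              · skip
                rcases Nat.lt_or_ge i 275875 with h8 | h8
                · skip
                  exact allRangeF_sound _ _ (checkPointF_eq cert) 275850 25 chkP_275850 i (by omega) (by omega)
                · skip
                  rcases Nat.lt_or_ge i 275900 with h9 | h9
                  · skip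
                    exact allRangeF_sound _ _ (checkPointF_eq cert) 275875 25 chkP_275875 i (by omega) (by omega)
                  · skip
                    exact allRangeF_sound _ _ (checkPointF_eq cert) 275900 25 chkP_275900 i (by omega) (by omega)
            · skip
              rcases Nat.lt_or_ge i 275975 with h7 | h7
              · skip
                rcases Nat.lt_or_ge i 275950 with h8 | h8
                · skip
                  exact allRangeF_sound _ _ (checkPointF_eq cert) 275925 25 chkP_275925 i (by omega) (by omega)
                · skip
                  exact allRangeF_sound _ _ (checkPointF_eq cert) 275950 25 chkP_275950 i (by omega) (by omega)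
              · skip
                rcases Nat.lt_or_ge i 276000 with h8 | h8
                · skip
                  exact allRangeF_sound _ _ (checkPointF_eq cert) 275975 25 chkP_275975 i (by omega) (by omega)
                · skip
                  rcases Nat.lt_or_ge i 276025 with h9 | h9
                  · skip
                    exact allRangeF_sound _ _ (checkPointF_eq cert) 276000 25 chkP_276000 i (by omega) (by omega)
                  · skip
                    exact allRangeF_sound _ _ (checkPointF_eq cert) 276025 25 chkP_276025 i (by omega) (by omega)
          · skip
            rcases Nat.lt_or_ge i 276175 with h6 | h6
            · skip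
              rcases Nat.lt_or_ge i 276100 with h7 | h7
              · skip
                rcases Nat.lt_or_ge i 276075 with h8 | h8
                · skip
                  exact allRangeF_sound _ _ (checkPointF_eq cert) 276050 25 chkP_276050 i (by omega) (by omega)
                · skip
                  exact allRangeF_sound _ _ (checkPointF_eq cert) 276075 25 chkP_276075 i (by omega) (by omega)
              · skip
                rcases Nat.lt_or_ge i 276125 with h8 | h8
                · skip
                  exact allRangeF_sound _ _ (checkPointF_eq cert) 276100 25 chkP_276100 i (by omega) (by omega)
                · skip
                  rcases Nat.lt_or_ge i 276150 with h9 | h9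
                  · skip
                    exact allRangeF_sound _ _ (checkPointF_eq cert) 276125 25 chkP_276125 i (by omega) (by omega)
                  · skip
                    exact allRangeF_sound _ _ (checkPointF_eq cert) 276150 25 chkP_276150 i (by omega) (by omega)
            · skip
              rcases Nat.lt_or_ge i 276225 with h7 | h7
              · skip
                rcases Nat.lt_or_ge i 276200 with h8 | h8
                · skip
                  exact allRangeF_sound _ _ (checkPointF_eq cert) 276175 25 chkP_276175 i (by omega) (by omega)
                · skip
                  exact allRangeF_sound _ _ (checkPointF_eq cert) 276200 25 chkP_276200 i (by omega) (by omega)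
              · skip
                rcases Nat.lt_or_ge i 276250 with h8 | h8
                · skip
                  exact allRangeF_sound _ _ (checkPointF_eq cert) 276225 25 chkP_276225 i (by omega) (by omega)
                · skip
                  rcases Nat.lt_or_ge i 276275 with h9 | h9
                  · skip
                    exact allRangeF_sound _ _ (checkPointF_eq cert) 276250 25 chkP_276250 i (by omega) (by omega)
                  · skip
                    exact allRangeF_sound _ _ (checkPointF_eq cert) 276275 25 chkP_276275 i (by omega) (by omega)

end Cfsg.Agent.Lib.Helper28.Fi24Data
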