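import Cfsg.Agent.Lib.Helper28.Fi24Data
import Cfsg.Agent.Lib.Helper28.TCFastB

set_option autoImplicit false
set_option maxRecDepth 1000000
set_option linter.all false
set_option Elab.async false

namespace Cfsg.Agent.Lib.Helper28.Fi24Data

open Cfsg.Agent.Lib.Helper28B

theorem chkP_276300 : allRangeF (checkPointF cert) (nat_lit 276300) (nat_lit 25) = true := by decide +kernel
theorem chkP_276325 : allRangeF (checkPointF cert) (nat_lit 276325) (nat_lit 25) = true := by decide +kernel
theorem chkP_276350 : allRangeF (checkPointF cert) (nat_lit 276350) (nat_lit 25) = true := by decide +kernel
theorem chkP_276375 : allRangeF (checkPointF cert) (nat_lit 276375) (nat_lit 25) = true := by decide +kernel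
theorem chkP_276400 : allRangeF (checkPointF cert) (nat_lit 276400) (nat_lit 25) = true := by decide +kernel
theorem chkP_276425 : allRangeF (checkPointF cert) (nat_lit 276425) (nat_lit 25) = true := by decide +kernel
theorem chkP_276450 : allRangeF (checkPointF cert) (nat_lit 276450) (nat_lit 25) = true := by decide +kernel
theorem chkP_276475 : allRangeF (checkPointF cert) (nat_lit 276475) (nat_lit 25) = true := by decide +kernel
theorem chkP_276500 : allRangeF (checkPointF cert) (nat_lit 276500) (nat_lit 25) = true := by decide +kernel
theorem chkP_276525 : allRangeF (checkPointF cert) (nat_lit 276525) (nat_lit 25) = true := by decide +kernel
theorem chkP_276550 : allRangeF (checkPointF cert) (nat_lit 276550) (nat_lit 25) = true := by decide +kernel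
theorem chkP_276575 : allRangeF (checkPointF cert) (nat_lit 276575) (nat_lit 25) = true := by decide +kernel
theorem chkP_276600 : allRangeF (checkPointF cert) (nat_lit 276600) (nat_lit 25) = true := by decide +kernel
theorem chkP_276625 : allRangeF (checkPointF cert) (nat_lit 276625) (nat_lit 25) = true := by decide +kernel
theorem chkP_276650 : allRangeF (checkPointF cert) (nat_lit 276650) (nat_lit 25) = true := by decide +kernel
theorem chkP_276675 : allRangeF (checkPointF cert) (nat_lit 276675) (nat_lit 25) = true := by decide +kernel
theorem chkP_276700 : allRangeF (checkPointF cert) (nat_lit 276700) (nat_lit 25) = true := by decide +kernel
theorem chkP_276725 : allRangeF (checkPointF cert) (nat_lit 276725) (nat_lit 25) = true := by decide +kernel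
theorem chkP_276750 : allRangeF (checkPointF cert) (nat_lit 276750) (nat_lit 25) = true := by decide +kernel
theorem chkP_276775 : allRangeF (checkPointF cert) (nat_lit 276775) (nat_lit 25) = true := by decide +kernel
theorem chkP_276800 : allRangeF (checkPointF cert) (nat_lit 276800) (nat_lit 25) = true := by decide +kernel
theorem chkP_276825 : allRangeF (checkPointF cert) (nat_lit 276825) (nat_lit 25) = true := by decide +kernel
theorem chkP_276850 : allRangeF (checkPointF cert) (nat_lit 276850) (nat_lit 25) = true := by decide +kernel
theorem chkP_276875 : allRangeF (checkPointF cert) (nat_lit 276875) (nat_lit 25) = true := by decide +kernel
theorem chkP_276900 : allRangeF (checkPointF cert) (nat_lit 276900) (nat_lit 25) = true := by decide +kernel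
theorem chkP_276925 : allRangeF (checkPointF cert) (nat_lit 276925) (nat_lit 25) = true := by decide +kernel
theorem chkP_276950 : allRangeF (checkPointF cert) (nat_lit 276950) (nat_lit 25) = true := by decide +kernel
theorem chkP_276975 : allRangeF (checkPointF cert) (nat_lit 276975) (nat_lit 25) = true := by decide +kernel
theorem chkP_277000 : allRangeF (checkPointF cert) (nat_lit 277000) (nat_lit 25) = true := by decide +kernel
theorem chkP_277025 : allRangeF (checkPointF cert) (nat_lit 277025) (nat_lit 25) = true := by decide +kernel
theorem chkP_277050 : allRangeF (checkPointF cert) (nat_lit 277050) (nat_lit 25) = true := by decide +kernel
theorem chkP_277075 : allRangeF (checkPointF cert) (nat_lit 277075) (nat_lit 25) = true := by decide +kernel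
theorem chkP_277100 : allRangeF (checkPointF cert) (nat_lit 277100) (nat_lit 25) = true := by decide +kernel
theorem chkP_277125 : allRangeF (checkPointF cert) (nat_lit 277125) (nat_lit 25) = true := by decide +kernel
theorem chkP_277150 : allRangeF (checkPointF cert) (nat_lit 277150) (nat_lit 25) = true := by decide +kernel
theorem chkP_277175 : allRangeF (checkPointF cert) (nat_lit 277175) (nat_lit 25) = true := by decide +kernel
theorem chkP_277200 : allRangeF (checkPointF cert) (nat_lit 277200) (nat_lit 25) = true := by decide +kernel
theorem chkP_277225 : allRangeF (checkPointF cert) (nat_lit 277225) (nat_lit 25) = true := by decide +kernel
theorem chkP_277250 : allRangeF (checkPointF cert) (nat_lit 277250) (nat_lit 25) = true := by decide +kernel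
theorem chkP_277275 : allRangeF (checkPointF cert) (nat_lit 277275) (nat_lit 25) = true := by decide +kernel
theorem chkP_277300 : allRangeF (checkPointF cert) (nat_lit 277300) (nat_lit 25) = true := by decide +kernel
theorem chkP_277325 : allRangeF (checkPointF cert) (nat_lit 277325) (nat_lit 25) = true := by decide +kernel
theorem chkP_277350 : allRangeF (checkPointF cert) (nat_lit 277350) (nat_lit 25) = true := by decide +kernel
theorem chkP_277375 : allRangeF (checkPointF cert) (nat_lit 277375) (nat_lit 25) = true := by decide +kernel
theorem chkP_277400 : allRangeF (checkPointF cert) (nat_lit 277400) (nat_lit 25) = true := by decide +kernel
theorem chkP_277425 : allRangeF (checkPointF cert) (nat_lit 277425) (nat_lit 25) = true := by decide +kernel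
theorem chkP_277450 : allRangeF (checkPointF cert) (nat_lit 277450) (nat_lit 25) = true := by decide +kernel
theorem chkP_277475 : allRangeF (checkPointF cert) (nat_lit 277475) (nat_lit 25) = true := by decide +kernel
theorem chkP_277500 : allRangeF (checkPointF cert) (nat_lit 277500) (nat_lit 25) = true := by decide +kernel
theorem chkP_277525 : allRangeF (checkPointF cert) (nat_lit 277525) (nat_lit 25) = true := by decide +kernel
theorem chkP_277550 : allRangeF (checkPointF cert) (nat_lit 277550) (nat_lit 25) = true := by decide +kernel
theorem chkP_277575 : allRangeF (checkPointF cert) (nat_lit 277575) (nat_lit 25) = true := by decide +kernel
theorem chkP_277600 : allRangeF (checkPointF cert) (nat_lit 277600) (nat_lit 25) = true := by decide +kernel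
theorem chkP_277625 : allRangeF (checkPointF cert) (nat_lit 277625) (nat_lit 25) = true := by decide +kernel
theorem chkP_277650 : allRangeF (checkPointF cert) (nat_lit 277650) (nat_lit 25) = true := by decide +kernel
theorem chkP_277675 : allRangeF (checkPointF cert) (nat_lit 277675) (nat_lit 25) = true := by decide +kernel
theorem chkP_277700 : allRangeF (checkPointF cert) (nat_lit 277700) (nat_lit 25) = true := by decide +kernel
theorem chkP_277725 : allRangeF (checkPointF cert) (nat_lit 277725) (nat_lit 25) = true := by decide +kernel
theorem chkP_277750 : allRangeF (checkPointF cert) (nat_lit 277750) (nat_lit 25) = true := by decide +kernel
theorem chkP_277775 : allRangeF (checkPointF cert) (nat_lit 277775) (nat_lit 25) = true := by decide +kernel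
theorem chkP_277800 : allRangeF (checkPointF cert) (nat_lit 277800) (nat_lit 25) = true := by decide +kernel
theorem chkP_277825 : allRangeF (checkPointF cert) (nat_lit 277825) (nat_lit 25) = true := by decide +kernel
theorem chkP_277850 : allRangeF (checkPointF cert) (nat_lit 277850) (nat_lit 25) = true := by decide +kernel
theorem chkP_277875 : allRangeF (checkPointF cert) (nat_lit 277875) (nat_lit 25) = true := by decide +kernel
theorem chkP_277900 : allRangeF (checkPointF cert) (nat_lit 277900) (nat_lit 25) = true := by decide +kernel
theorem chkP_277925 : allRangeF (checkPointF cert) (nat_lit 277925) (nat_lit 25) = true := by decide +kernel
theorem chkP_277950 : allRangeF (checkPointF cert) (nat_lit 277950) (nat_lit 25) = true := by decide +kernel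
theorem chkP_277975 : allRangeF (checkPointF cert) (nat_lit 277975) (nat_lit 25) = true := by decide +kernel
theorem chkP_278000 : allRangeF (checkPointF cert) (nat_lit 278000) (nat_lit 25) = true := by decide +kernel
theorem chkP_278025 : allRangeF (checkPointF cert) (nat_lit 278025) (nat_lit 25) = true := by decide +kernel
theorem chkP_278050 : allRangeF (checkPointF cert) (nat_lit 278050) (nat_lit 25) = true := by decide +kernel
theorem chkP_278075 : allRangeF (checkPointF cert) (nat_lit 278075) (nat_lit 25) = true := by decide +kernel
theorem chkP_278100 : allRangeF (checkPointF cert) (nat_lit 278100) (nat_lit 25) = true := by decide +kernel
theorem chkP_278125 : allRangeF (checkPointF cert) (nat_lit 278125) (nat_lit 25) = true := by decide +kernel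
theorem chkP_278150 : allRangeF (checkPointF cert) (nat_lit 278150) (nat_lit 25) = true := by decide +kernel
theorem chkP_278175 : allRangeF (checkPointF cert) (nat_lit 278175) (nat_lit 25) = true := by decide +kernel
theorem chkP_278200 : allRangeF (checkPointF cert) (nat_lit 278200) (nat_lit 25) = true := by decide +kernel
theorem chkP_278225 : allRangeF (checkPointF cert) (nat_lit 278225) (nat_lit 25) = true := by decide +kernel
theorem chkP_278250 : allRangeF (checkPointF cert) (nat_lit 278250) (nat_lit 25) = true := by decide +kernel
theorem chkP_278275 : allRangeF (checkPointF cert) (nat_lit 278275) (nat_lit 25) = true := by decide +kernel
theorem chkP_278300 : allRangeF (checkPointF cert) (nat_lit 278300) (nat_lit 25) = true := by decide +kernel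
theorem chkP_278325 : allRangeF (checkPointF cert) (nat_lit 278325) (nat_lit 25) = true := by decide +kernel
theorem chkP_278350 : allRangeF (checkPointF cert) (nat_lit 278350) (nat_lit 25) = true := by decide +kernel
theorem chkP_278375 : allRangeF (checkPointF cert) (nat_lit 278375) (nat_lit 25) = true := by decide +kernel
theorem chkP_278400 : allRangeF (checkPointF cert) (nat_lit 278400) (nat_lit 25) = true := by decide +kernel
theorem chkP_278425 : allRangeF (checkPointF cert) (nat_lit 278425) (nat_lit 25) = true := by decide +kernel
theorem chkP_278450 : allRangeF (checkPointF cert) (nat_lit 278450) (nat_lit 25) = true := by decide +kernel
theorem chkP_278475 : allRangeF (checkPointF cert) (nat_lit 278475) (nat_lit 25) = true := by decide +kernel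
theorem chkP_278500 : allRangeF (checkPointF cert) (nat_lit 278500) (nat_lit 25) = true := by decide +kernel
theorem chkP_278525 : allRangeF (checkPointF cert) (nat_lit 278525) (nat_lit 25) = true := by decide +kernel
theorem chkP_278550 : allRangeF (checkPointF cert) (nat_lit 278550) (nat_lit 25) = true := by decide +kernel
theorem chkP_278575 : allRangeF (checkPointF cert) (nat_lit 278575) (nat_lit 25) = true := by decide +kernel
theorem chkP_278600 : allRangeF (checkPointF cert) (nat_lit 278600) (nat_lit 25) = true := by decide +kernel
theorem chkP_278625 : allRangeF (checkPointF cert) (nat_lit 278625) (nat_lit 25) = true := by decide +kernel
theorem chkP_278650 : allRangeF (checkPointF cert) (nat_lit 278650) (nat_lit 25) = true := by decide +kernel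
theorem chkP_278675 : allRangeF (checkPointF cert) (nat_lit 278675) (nat_lit 25) = true := by decide +kernel
theorem chkP_278700 : allRangeF (checkPointF cert) (nat_lit 278700) (nat_lit 25) = true := by decide +kernel
theorem chkP_278725 : allRangeF (checkPointF cert) (nat_lit 278725) (nat_lit 25) = true := by decide +kernel
theorem chkP_278750 : allRangeF (checkPointF cert) (nat_lit 278750) (nat_lit 25) = true := by decide +kernel
theorem chkP_278775 : allRangeF (checkPointF cert) (nat_lit 278775) (nat_lit 25) = true := by decide +kernel
theorem chkP_278800 : allRangeF (checkPointF cert) (nat_lit 278800) (nat_lit 25) = true := by decide +kernel
theorem chkP_278825 : allRangeF (checkPointF cert) (nat_lit 278825) (nat_lit 25) = true := by decide +kernel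
theorem chkP_278850 : allRangeF (checkPointF cert) (nat_lit 278850) (nat_lit 25) = true := by decide +kernel
theorem chkP_278875 : allRangeF (checkPointF cert) (nat_lit 278875) (nat_lit 25) = true := by decide +kernel
theorem chkP_278900 : allRangeF (checkPointF cert) (nat_lit 278900) (nat_lit 25) = true := by decide +kernel
theorem chkP_278925 : allRangeF (checkPointF cert) (nat_lit 278925) (nat_lit 25) = true := by decide +kernel
theorem chkP_278950 : allRangeF (checkPointF cert) (nat_lit 278950) (nat_lit 25) = true := by decide +kernel
theorem chkP_278975 : allRangeF (checkPointF cert) (nat_lit 278975) (nat_lit 25) = true := by decide +kernel
theorem chkP_279000 : allRangeF (checkPointF cert) (nat_lit 279000) (nat_lit 25) = true := by decide +kernel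
theorem chkP_279025 : allRangeF (checkPointF cert) (nat_lit 279025) (nat_lit 25) = true := by decide +kernel
theorem chkP_279050 : allRangeF (checkPointF cert) (nat_lit 279050) (nat_lit 25) = true := by decide +kernel
theorem chkP_279075 : allRangeF (checkPointF cert) (nat_lit 279075) (nat_lit 25) = true := by decide +kernel
theorem chkP_279100 : allRangeF (checkPointF cert) (nat_lit 279100) (nat_lit 25) = true := by decide +kernel
theorem chkP_279125 : allRangeF (checkPointF cert) (nat_lit 279125) (nat_lit 25) = true := by decide +kernel
theorem chkP_279150 : allRangeF (checkPointF cert) (nat_lit 279150) (nat_lit 25) = true := by decide +kernel
theorem chkP_279175 : allRangeF (checkPointF cert) (nat_lit 279175) (nat_lit 25) = true := by decide +kernel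
theorem chkP_279200 : allRangeF (checkPointF cert) (nat_lit 279200) (nat_lit 25) = true := by decide +kernel
theorem chkP_279225 : allRangeF (checkPointF cert) (nat_lit 279225) (nat_lit 25) = true := by decide +kernel
theorem chkP_279250 : allRangeF (checkPointF cert) (nat_lit 279250) (nat_lit 25) = true := by decide +kernel
theorem chkP_279275 : allRangeF (checkPointF cert) (nat_lit 279275) (nat_lit 25) = true := by decide +kernel
theorem chkP_279300 : allRangeF (checkPointF cert) (nat_lit 279300) (nat_lit 25) = true := by decide +kernel
theorem chkP_279325 : allRangeF (checkPointF cert) (nat_lit 279325) (nat_lit 25) = true := by decide +kernel
theorem chkP_279350 : allRangeF (checkPointF cert) (nat_lit 279350) (nat_lit 25) = true := by decide +kernel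
theorem chkP_279375 : allRangeF (checkPointF cert) (nat_lit 279375) (nat_lit 25) = true := by decide +kernel
theorem chkP_279400 : allRangeF (checkPointF cert) (nat_lit 279400) (nat_lit 25) = true := by decide +kernel
theorem chkP_279425 : allRangeF (checkPointF cert) (nat_lit 279425) (nat_lit 25) = true := by decide +kernel
theorem chkP_279450 : allRangeF (checkPointF cert) (nat_lit 279450) (nat_lit 25) = true := by decide +kernel
theorem chkP_279475 : allRangeF (checkPointF cert) (nat_lit 279475) (nat_lit 25) = true := by decide +kernel
theorem chkP_279500 : allRangeF (checkPointF cert) (nat_lit 279500) (nat_lit 25) = true := by decide +kernel
theorem chkP_279525 : allRangeF (checkPointF cert) (nat_lit 279525) (nat_lit 25) = true := by decide +kernel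
theorem chkP_279550 : allRangeF (checkPointF cert) (nat_lit 279550) (nat_lit 25) = true := by decide +kernel
theorem chkP_279575 : allRangeF (checkPointF cert) (nat_lit 279575) (nat_lit 25) = true := by decide +kernel
theorem chkP_279600 : allRangeF (checkPointF cert) (nat_lit 279600) (nat_lit 25) = true := by decide +kernel
theorem chkP_279625 : allRangeF (checkPointF cert) (nat_lit 279625) (nat_lit 25) = true := by decide +kernel
theorem chkP_279650 : allRangeF (checkPointF cert) (nat_lit 279650) (nat_lit 25) = true := by decide +kernel
theorem chkP_279675 : allRangeF (checkPointF cert) (nat_lit 279675) (nat_lit 25) = true := by decide +kernel
theorem chkP_279700 : allRangeF (checkPointF cert) (nat_lit 279700) (nat_lit 25) = true := by decide +kernel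
theorem chkP_279725 : allRangeF (checkPointF cert) (nat_lit 279725) (nat_lit 25) = true := by decide +kernel
theorem chkP_279750 : allRangeF (checkPointF cert) (nat_lit 279750) (nat_lit 25) = true := by decide +kernel
theorem chkP_279775 : allRangeF (checkPointF cert) (nat_lit 279775) (nat_lit 25) = true := by decide +kernel
theorem chkP_279800 : allRangeF (checkPointF cert) (nat_lit 279800) (nat_lit 25) = true := by decide +kernel
theorem chkP_279825 : allRangeF (checkPointF cert) (nat_lit 279825) (nat_lit 25) = true := by decide +kernel
theorem chkP_279850 : allRangeF (checkPointF cert) (nat_lit 279850) (nat_lit 25) = true := by decide +kernel
theorem chkP_279875 : allRangeF (checkPointF cert) (nat_lit 279875) (nat_lit 25) = true := by decide +kernel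
theorem chkP_279900 : allRangeF (checkPointF cert) (nat_lit 279900) (nat_lit 25) = true := by decide +kernel
theorem chkP_279925 : allRangeF (checkPointF cert) (nat_lit 279925) (nat_lit 25) = true := by decide +kernel
theorem chkP_279950 : allRangeF (checkPointF cert) (nat_lit 279950) (nat_lit 25) = true := by decide +kernel
theorem chkP_279975 : allRangeF (checkPointF cert) (nat_lit 279975) (nat_lit 25) = true := by decide +kernel
theorem chkP_280000 : allRangeF (checkPointF cert) (nat_lit 280000) (nat_lit 25) = true := by decide +kernel
theorem chkP_280025 : allRangeF (checkPointF cert) (nat_lit 280025) (nat_lit 25) = true := by decide +kernel
theorem chkP_280050 : allRangeF (checkPointF cert) (nat_lit 280050) (nat_lit 25) = true := by decide +kernel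
theorem chkP_280075 : allRangeF (checkPointF cert) (nat_lit 280075) (nat_lit 25) = true := by decide +kernel
theorem chkP_280100 : allRangeF (checkPointF cert) (nat_lit 280100) (nat_lit 25) = true := by decide +kernel
theorem chkP_280125 : allRangeF (checkPointF cert) (nat_lit 280125) (nat_lit 25) = true := by decide +kernel
theorem chkP_280150 : allRangeF (checkPointF cert) (nat_lit 280150) (nat_lit 25) = true := by decide +kernel
theorem chkP_280175 : allRangeF (checkPointF cert) (nat_lit 280175) (nat_lit 25) = true := by decide +kernel
theorem chkP_280200 : allRangeF (checkPointF cert) (nat_lit 280200) (nat_lit 25) = true := by decide +kernel
theorem chkP_280225 : allRangeF (checkPointF cert) (nat_lit 280225) (nat_lit 25) = true := by decide +kernel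
theorem chkP_280250 : allRangeF (checkPointF cert) (nat_lit 280250) (nat_lit 25) = true := by decide +kernel
theorem chkP_280275 : allRangeF (checkPointF cert) (nat_lit 280275) (nat_lit 25) = true := by decide +kernel
theorem chkP_280300 : allRangeF (checkPointF cert) (nat_lit 280300) (nat_lit 25) = true := by decide +kernel
theorem chkP_280325 : allRangeF (checkPointF cert) (nat_lit 280325) (nat_lit 25) = true := by decide +kernel
theorem chkP_280350 : allRangeF (checkPointF cert) (nat_lit 280350) (nat_lit 25) = true := by decide +kernel
theorem chkP_280375 : allRangeF (checkPointF cert) (nat_lit 280375) (nat_lit 25) = true := by decide +kernel
theorem chkP_280400 : allRangeF (checkPointF cert) (nat_lit 280400) (nat_lit 25) = true := by decide +kernel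
theorem chkP_280425 : allRangeF (checkPointF cert) (nat_lit 280425) (nat_lit 25) = true := by decide +kernel
theorem chkP_280450 : allRangeF (checkPointF cert) (nat_lit 280450) (nat_lit 25) = true := by decide +kernel
theorem chkP_280475 : allRangeF (checkPointF cert) (nat_lit 280475) (nat_lit 25) = true := by decide +kernel
theorem chkP_280500 : allRangeF (checkPointF cert) (nat_lit 280500) (nat_lit 25) = true := by decide +kernel
theorem chkP_280525 : allRangeF (checkPointF cert) (nat_lit 280525) (nat_lit 25) = true := by decide +kernel
theorem chkP_280550 : allRangeF (checkPointF cert) (nat_lit 280550) (nat_lit 25) = true := by decide +kernel
theorem chkP_280575 : allRangeF (checkPointF cert) (nat_lit 280575) (nat_lit 25) = true := by decide +kernel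
theorem chkP_280600 : allRangeF (checkPointF cert) (nat_lit 280600) (nat_lit 25) = true := by decide +kernel
theorem chkP_280625 : allRangeF (checkPointF cert) (nat_lit 280625) (nat_lit 25) = true := by decide +kernel
theorem chkP_280650 : allRangeF (checkPointF cert) (nat_lit 280650) (nat_lit 25) = true := by decide +kernel
theorem chkP_280675 : allRangeF (checkPointF cert) (nat_lit 280675) (nat_lit 25) = true := by decide +kernel
theorem chkP_280700 : allRangeF (checkPointF cert) (nat_lit 280700) (nat_lit 25) = true := by decide +kernel
theorem chkP_280725 : allRangeF (checkPointF cert) (nat_lit 280725) (nat_lit 25) = true := by decide +kernel
theorem chkP_280750 : allRangeF (checkPointF cert) (nat_lit 280750) (nat_lit 25) = true := by decide +kernel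
theorem chkP_280775 : allRangeF (checkPointF cert) (nat_lit 280775) (nat_lit 25) = true := by decide +kernel
theorem chkP_280800 : allRangeF (checkPointF cert) (nat_lit 280800) (nat_lit 25) = true := by decide +kernel
theorem chkP_280825 : allRangeF (checkPointF cert) (nat_lit 280825) (nat_lit 25) = true := by decide +kernel
theorem chkP_280850 : allRangeF (checkPointF cert) (nat_lit 280850) (nat_lit 25) = true := by decide +kernel
theorem chkP_280875 : allRangeF (checkPointF cert) (nat_lit 280875) (nat_lit 25) = true := by decide +kernel
theorem chkP_280900 : allRangeF (checkPointF cert) (nat_lit 280900) (nat_lit 25) = true := by decide +kernel
theorem chkP_280925 : allRangeF (checkPointF cert) (nat_lit 280925) (nat_lit 25) = true := by decide +kernel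
theorem chkP_280950 : allRangeF (checkPointF cert) (nat_lit 280950) (nat_lit 25) = true := by decide +kernel
theorem chkP_280975 : allRangeF (checkPointF cert) (nat_lit 280975) (nat_lit 25) = true := by decide +kernel
theorem chkP_281000 : allRangeF (checkPointF cert) (nat_lit 281000) (nat_lit 25) = true := by decide +kernel
theorem chkP_281025 : allRangeF (checkPointF cert) (nat_lit 281025) (nat_lit 25) = true := by decide +kernel
theorem chkP_281050 : allRangeF (checkPointF cert) (nat_lit 281050) (nat_lit 25) = true := by decide +kernel
theorem chkP_281075 : allRangeF (checkPointF cert) (nat_lit 281075) (nat_lit 25) = true := by decide +kernel
theorem chkP_281100 : allRangeF (checkPointF cert) (nat_lit 281100) (nat_lit 25) = true := by decide +kernel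
theorem chkP_281125 : allRangeF (checkPointF cert) (nat_lit 281125) (nat_lit 25) = true := by decide +kernel
theorem chkP_281150 : allRangeF (checkPointF cert) (nat_lit 281150) (nat_lit 25) = true := by decide +kernel
theorem chkP_281175 : allRangeF (checkPointF cert) (nat_lit 281175) (nat_lit 25) = true := by decide +kernel
theorem chkP_281200 : allRangeF (checkPointF cert) (nat_lit 281200) (nat_lit 25) = true := by decide +kernel
theorem chkP_281225 : allRangeF (checkPointF cert) (nat_lit 281225) (nat_lit 25) = true := by decide +kernel
theorem chkP_281250 : allRangeF (checkPointF cert) (nat_lit 281250) (nat_lit 25) = true := by decide +kernel
theorem chkP_281275 : allRangeF (checkPointF cert) (nat_lit 281275) (nat_lit 25) = true := by decide +kernel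
theorem chkP_281300 : allRangeF (checkPointF cert) (nat_lit 281300) (nat_lit 25) = true := by decide +kernel
theorem chkP_281325 : allRangeF (checkPointF cert) (nat_lit 281325) (nat_lit 25) = true := by decide +kernel
theorem chkP_281350 : allRangeF (checkPointF cert) (nat_lit 281350) (nat_lit 25) = true := by decide +kernel
theorem chkP_281375 : allRangeF (checkPointF cert) (nat_lit 281375) (nat_lit 25) = true := by decide +kernel
theorem chkP_281400 : allRangeF (checkPointF cert) (nat_lit 281400) (nat_lit 25) = true := by decide +kernel
theorem chkP_281425 : allRangeF (checkPointF cert) (nat_lit 281425) (nat_lit 25) = true := by decide +kernel
theorem chkP_281450 : allRangeF (checkPointF cert) (nat_lit 281450) (nat_lit 25) = true := by decide +kernel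
theorem chkP_281475 : allRangeF (checkPointF cert) (nat_lit 281475) (nat_lit 25) = true := by decide +kernel
theorem chkP_281500 : allRangeF (checkPointF cert) (nat_lit 281500) (nat_lit 25) = true := by decide +kernel
theorem chkP_281525 : allRangeF (checkPointF cert) (nat_lit 281525) (nat_lit 25) = true := by decide +kernel
theorem chkP_281550 : allRangeF (checkPointF cert) (nat_lit 281550) (nat_lit 25) = true := by decide +kernel
theorem chkP_281575 : allRangeF (checkPointF cert) (nat_lit 281575) (nat_lit 25) = true := by decide +kernel
theorem chkP_281600 : allRangeF (checkPointF cert) (nat_lit 281600) (nat_lit 25) = true := by decide +kernel
theorem chkP_281625 : allRangeF (checkPointF cert) (nat_lit 281625) (nat_lit 25) = true := by decide +kernel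
theorem chkP_281650 : allRangeF (checkPointF cert) (nat_lit 281650) (nat_lit 25) = true := by decide +kernel
theorem chkP_281675 : allRangeF (checkPointF cert) (nat_lit 281675) (nat_lit 25) = true := by decide +kernel
theorem chkP_281700 : allRangeF (checkPointF cert) (nat_lit 281700) (nat_lit 25) = true := by decide +kernel
theorem chkP_281725 : allRangeF (checkPointF cert) (nat_lit 281725) (nat_lit 25) = true := by decide +kernel
theorem chkP_281750 : allRangeF (checkPointF cert) (nat_lit 281750) (nat_lit 25) = true := by decide +kernel
theorem chkP_281775 : allRangeF (checkPointF cert) (nat_lit 281775) (nat_lit 25) = true := by decide +kernel
theorem chkP_281800 : allRangeF (checkPointF cert) (nat_lit 281800) (nat_lit 25) = true := by decide +kernel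
theorem chkP_281825 : allRangeF (checkPointF cert) (nat_lit 281825) (nat_lit 25) = true := by decide +kernel
theorem chkP_281850 : allRangeF (checkPointF cert) (nat_lit 281850) (nat_lit 25) = true := by decide +kernel
theorem chkP_281875 : allRangeF (checkPointF cert) (nat_lit 281875) (nat_lit 25) = true := by decide +kernel
theorem chkP_281900 : allRangeF (checkPointF cert) (nat_lit 281900) (nat_lit 25) = true := by decide +kernel
theorem chkP_281925 : allRangeF (checkPointF cert) (nat_lit 281925) (nat_lit 25) = true := by decide +kernel
theorem chkP_281950 : allRangeF (checkPointF cert) (nat_lit 281950) (nat_lit 25) = true := by decide +kernel
theorem chkP_281975 : allRangeF (checkPointF cert) (nat_lit 281975) (nat_lit 25) = true := by decide +kernel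
theorem chkP_282000 : allRangeF (checkPointF cert) (nat_lit 282000) (nat_lit 25) = true := by decide +kernel
theorem chkP_282025 : allRangeF (checkPointF cert) (nat_lit 282025) (nat_lit 25) = true := by decide +kernel
theorem chkP_282050 : allRangeF (checkPointF cert) (nat_lit 282050) (nat_lit 25) = true := by decide +kernel
theorem chkP_282075 : allRangeF (checkPointF cert) (nat_lit 282075) (nat_lit 25) = true := by decide +kernel
theorem chkP_282100 : allRangeF (checkPointF cert) (nat_lit 282100) (nat_lit 25) = true := by decide +kernel
theorem chkP_282125 : allRangeF (checkPointF cert) (nat_lit 282125) (nat_lit 25) = true := by decide +kernel
theorem chkP_282150 : allRangeF (checkPointF cert) (nat_lit 282150) (nat_lit 25) = true := by decide +kernel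
theorem chkP_282175 : allRangeF (checkPointF cert) (nat_lit 282175) (nat_lit 25) = true := by decide +kernel
theorem chkP_282200 : allRangeF (checkPointF cert) (nat_lit 282200) (nat_lit 25) = true := by decide +kernel
theorem chkP_282225 : allRangeF (checkPointF cert) (nat_lit 282225) (nat_lit 25) = true := by decide +kernel
theorem chkP_282250 : allRangeF (checkPointF cert) (nat_lit 282250) (nat_lit 25) = true := by decide +kernel
theorem chkP_282275 : allRangeF (checkPointF cert) (nat_lit 282275) (nat_lit 25) = true := by decide +kernel
theorem chkP_282300 : allRangeF (checkPointF cert) (nat_lit 282300) (nat_lit 25) = true := by decide +kernel
theorem chkP_282325 : allRangeF (checkPointF cert) (nat_lit 282325) (nat_lit 25) = true := by decide +kernel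
theorem chkP_282350 : allRangeF (checkPointF cert) (nat_lit 282350) (nat_lit 25) = true := by decide +kernel
theorem chkP_282375 : allRangeF (checkPointF cert) (nat_lit 282375) (nat_lit 25) = true := by decide +kernel
theorem chkP_282400 : allRangeF (checkPointF cert) (nat_lit 282400) (nat_lit 25) = true := by decide +kernel
theorem chkP_282425 : allRangeF (checkPointF cert) (nat_lit 282425) (nat_lit 25) = true := by decide +kernel
theorem chkP_282450 : allRangeF (checkPointF cert) (nat_lit 282450) (nat_lit 25) = true := by decide +kernel
theorem chkP_282475 : allRangeF (checkPointF cert) (nat_lit 282475) (nat_lit 25) = true := by decide +kernel
theorem chkP_282500 : allRangeF (checkPointF cert) (nat_lit 282500) (nat_lit 25) = true := by decide +kernel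
theorem chkP_282525 : allRangeF (checkPointF cert) (nat_lit 282525) (nat_lit 25) = true := by decide +kernel
theorem chkP_282550 : allRangeF (checkPointF cert) (nat_lit 282550) (nat_lit 25) = true := by decide +kernel
theorem chkP_282575 : allRangeF (checkPointF cert) (nat_lit 282575) (nat_lit 25) = true := by decide +kernel
theorem chkP_282600 : allRangeF (checkPointF cert) (nat_lit 282600) (nat_lit 25) = true := by decide +kernel
theorem chkP_282625 : allRangeF (checkPointF cert) (nat_lit 282625) (nat_lit 25) = true := by decide +kernel
theorem chkP_282650 : allRangeF (checkPointF cert) (nat_lit 282650) (nat_lit 25) = true := by decide +kernel
theorem chkP_282675 : allRangeF (checkPointF cert) (nat_lit 282675) (nat_lit 25) = true := by decide +kernel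
theorem chkP_282700 : allRangeF (checkPointF cert) (nat_lit 282700) (nat_lit 25) = true := by decide +kernel
theorem chkP_282725 : allRangeF (checkPointF cert) (nat_lit 282725) (nat_lit 25) = true := by decide +kernel
theorem chkP_282750 : allRangeF (checkPointF cert) (nat_lit 282750) (nat_lit 25) = true := by decide +kernel
theorem chkP_282775 : allRangeF (checkPointF cert) (nat_lit 282775) (nat_lit 25) = true := by decide +kernel
theorem chkP_282800 : allRangeF (checkPointF cert) (nat_lit 282800) (nat_lit 25) = true := by decide +kernel
theorem chkP_282825 : allRangeF (checkPointF cert) (nat_lit 282825) (nat_lit 25) = true := by decide +kernel
theorem chkP_282850 : allRangeF (checkPointF cert) (nat_lit 282850) (nat_lit 25) = true := by decide +kernel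
theorem chkP_282875 : allRangeF (checkPointF cert) (nat_lit 282875) (nat_lit 25) = true := by decide +kernel
theorem chkP_282900 : allRangeF (checkPointF cert) (nat_lit 282900) (nat_lit 25) = true := by decide +kernel
theorem chkP_282925 : allRangeF (checkPointF cert) (nat_lit 282925) (nat_lit 25) = true := by decide +kernel
theorem chkP_282950 : allRangeF (checkPointF cert) (nat_lit 282950) (nat_lit 25) = true := by decide +kernel
theorem chkP_282975 : allRangeF (checkPointF cert) (nat_lit 282975) (nat_lit 25) = true := by decide +kernel
theorem chkP_283000 : allRangeF (checkPointF cert) (nat_lit 283000) (nat_lit 25) = true := by decide +kernel
theorem chkP_283025 : allRangeF (checkPointF cert) (nat_lit 283025) (nat_lit 25) = true := by decide +kernel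
theorem chkP_283050 : allRangeF (checkPointF cert) (nat_lit 283050) (nat_lit 25) = true := by decide +kernel
theorem chkP_283075 : allRangeF (checkPointF cert) (nat_lit 283075) (nat_lit 25) = true := by decide +kernel
theorem chkP_283100 : allRangeF (checkPointF cert) (nat_lit 283100) (nat_lit 25) = true := by decide +kernel
theorem chkP_283125 : allRangeF (checkPointF cert) (nat_lit 283125) (nat_lit 25) = true := by decide +kernel
theorem chkP_283150 : allRangeF (checkPointF cert) (nat_lit 283150) (nat_lit 25) = true := by decide +kernel
theorem chkP_283175 : allRangeF (checkPointF cert) (nat_lit 283175) (nat_lit 25) = true := by decide +kernel
theorem chkP_283200 : allRangeF (checkPointF cert) (nat_lit 283200) (nat_lit 25) = true := by decide +kernel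
theorem chkP_283225 : allRangeF (checkPointF cert) (nat_lit 283225) (nat_lit 25) = true := by decide +kernel
theorem chkP_283250 : allRangeF (checkPointF cert) (nat_lit 283250) (nat_lit 25) = true := by decide +kernel
theorem chkP_283275 : allRangeF (checkPointF cert) (nat_lit 283275) (nat_lit 25) = true := by decide +kernel
theorem chkP_283300 : allRangeF (checkPointF cert) (nat_lit 283300) (nat_lit 25) = true := by decide +kernel
theorem chkP_283325 : allRangeF (checkPointF cert) (nat_lit 283325) (nat_lit 25) = true := by decide +kernel
theorem chkP_283350 : allRangeF (checkPointF cert) (nat_lit 283350) (nat_lit 25) = true := by decide +kernel
theorem chkP_283375 : allRangeF (checkPointF cert) (nat_lit 283375) (nat_lit 25) = true := by decide +kernel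
theorem chkP_283400 : allRangeF (checkPointF cert) (nat_lit 283400) (nat_lit 25) = true := by decide +kernel
theorem chkP_283425 : allRangeF (checkPointF cert) (nat_lit 283425) (nat_lit 25) = true := by decide +kernel
theorem chkP_283450 : allRangeF (checkPointF cert) (nat_lit 283450) (nat_lit 25) = true := by decide +kernel
theorem chkP_283475 : allRangeF (checkPointF cert) (nat_lit 283475) (nat_lit 25) = true := by decide +kernel
theorem chkP_283500 : allRangeF (checkPointF cert) (nat_lit 283500) (nat_lit 25) = true := by decide +kernel
theorem chkP_283525 : allRangeF (checkPointF cert) (nat_lit 283525) (nat_lit 25) = true := by decide +kernel
theorem chkP_283550 : allRangeF (checkPointF cert) (nat_lit 283550) (nat_lit 25) = true := by decide +kernel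
theorem chkP_283575 : allRangeF (checkPointF cert) (nat_lit 283575) (nat_lit 25) = true := by decide +kernel
theorem chkP_283600 : allRangeF (checkPointF cert) (nat_lit 283600) (nat_lit 25) = true := by decide +kernel
theorem chkP_283625 : allRangeF (checkPointF cert) (nat_lit 283625) (nat_lit 25) = true := by decide +kernel
theorem chkP_283650 : allRangeF (checkPointF cert) (nat_lit 283650) (nat_lit 25) = true := by decide +kernel
theorem chkP_283675 : allRangeF (checkPointF cert) (nat_lit 283675) (nat_lit 25) = true := by decide +kernel
theorem chkP_283700 : allRangeF (checkPointF cert) (nat_lit 283700) (nat_lit 25) = true := by decide +kernel
theorem chkP_283725 : allRangeF (checkPointF cert) (nat_lit 283725) (nat_lit 25) = true := by decide +kernel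
theorem chkP_283750 : allRangeF (checkPointF cert) (nat_lit 283750) (nat_lit 25) = true := by decide +kernel
theorem chkP_283775 : allRangeF (checkPointF cert) (nat_lit 283775) (nat_lit 25) = true := by decide +kernel
theorem chkP_283800 : allRangeF (checkPointF cert) (nat_lit 283800) (nat_lit 25) = true := by decide +kernel
theorem chkP_283825 : allRangeF (checkPointF cert) (nat_lit 283825) (nat_lit 25) = true := by decide +kernel
theorem chkP_283850 : allRangeF (checkPointF cert) (nat_lit 283850) (nat_lit 25) = true := by decide +kernel
theorem chkP_283875 : allRangeF (checkPointF cert) (nat_lit 283875) (nat_lit 25) = true := by decide +kernel
theorem chkP_283900 : allRangeF (checkPointF cert) (nat_lit 283900) (nat_lit 25) = true := by decide +kernel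
theorem chkP_283925 : allRangeF (checkPointF cert) (nat_lit 283925) (nat_lit 25) = true := by decide +kernel
theorem chkP_283950 : allRangeF (checkPointF cert) (nat_lit 283950) (nat_lit 25) = true := by decide +kernel

theorem ptsRange_36 : ∀ i, 276300 ≤ i → i < 283975 → checkPoint cert i = true := by
  intro i hlo hhi
  rcases Nat.lt_or_ge i 280125 with h1 | h1
  · skip
    rcases Nat.lt_or_ge i 278200 with h2 | h2
    · skip
      rcases Nat.lt_or_ge i 277250 with h3 | h3
      · skip
        rcases Nat.lt_or_ge i 276775 with h4 | h4
        · skip
          rcases Nat.lt_or_ge i 276525 with h5 | h5
          · skip
            rcases Nat.lt_or_ge i 276400 with h6 | h6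
            · skip
              rcases Nat.lt_or_ge i 276350 with h7 | h7
              · skip
                rcases Nat.lt_or_ge i 276325 with h8 | h8
                · skip
                  exact allRangeF_sound _ _ (checkPointF_eq cert) 276300 25 chkP_276300 i (by omega) (by omega)
                · skip
                  exact allRangeF_sound _ _ (checkPointF_eq cert) 276325 25 chkP_276325 i (by omega) (by omega)
              · skip
                rcases Nat.lt_or_ge i 276375 with h8 | h8
                · skip
                  exact allRangeF_sound _ _ (checkPointF_eq cert) 276350 25 chkP_276350 i (by omega) (by omega)
                · skip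
                  exact allRangeF_sound _ _ (checkPointF_eq cert) 276375 25 chkP_276375 i (by omega) (by omega)
            · skip
              rcases Nat.lt_or_ge i 276450 with h7 | h7
              · skip
                rcases Nat.lt_or_ge i 276425 with h8 | h8
                · skip
                  exact allRangeF_sound _ _ (checkPointF_eq cert) 276400 25 chkP_276400 i (by omega) (by omega)
                · skip
                  exact allRangeF_sound _ _ (checkPointF_eq cert) 276425 25 chkP_276425 i (by omega) (by omega)
              · skip
                rcases Nat.lt_or_ge i 276475 with h8 | h8
                · skip
                  exact allRangeF_sound _ _ (checkPointF_eq cert) 276450 25 chkP_276450 i (by omega) (by omega)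
                · skip
                  rcases Nat.lt_or_ge i 276500 with h9 | h9
                  · skip
                    exact allRangeF_sound _ _ (checkPointF_eq cert) 276475 25 chkP_276475 i (by omega) (by omega)
                  · skip
                    exact allRangeF_sound _ _ (checkPointF_eq cert) 276500 25 chkP_276500 i (by omega) (by omega)
          · skip
            rcases Nat.lt_or_ge i 276650 with h6 | h6
            · skip
              rcases Nat.lt_or_ge i 276575 with h7 | h7
              · skip
                rcases Nat.lt_or_ge i 276550 with h8 | h8
                · skip
                  exact allRangeF_sound _ _ (checkPointF_eq cert) 276525 25 chkP_276525 i (by omega) (by omega)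
                · skip
                  exact allRangeF_sound _ _ (checkPointF_eq cert) 276550 25 chkP_276550 i (by omega) (by omega)
              · skip
                rcases Nat.lt_or_ge i 276600 with h8 | h8
                · skip
                  exact allRangeF_sound _ _ (checkPointF_eq cert) 276575 25 chkP_276575 i (by omega) (by omega)
                · skip
                  rcases Nat.lt_or_ge i 276625 with h9 | h9
                  · skip
                    exact allRangeF_sound _ _ (checkPointF_eq cert) 276600 25 chkP_276600 i (by omega) (by omega)
                  · skip
                    exact allRangeF_sound _ _ (checkPointF_eq cert) 276625 25 chkP_276625 i (by omega) (by omega)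
            · skip
              rcases Nat.lt_or_ge i 276700 with h7 | h7
              · skip
                rcases Nat.lt_or_ge i 276675 with h8 | h8
                · skip
                  exact allRangeF_sound _ _ (checkPointF_eq cert) 276650 25 chkP_276650 i (by omega) (by omega)
                · skip
                  exact allRangeF_sound _ _ (checkPointF_eq cert) 276675 25 chkP_276675 i (by omega) (by omega)
              · skip
                rcases Nat.lt_or_ge i 276725 with h8 | h8
                · skip
                  exact allRangeF_sound _ _ (checkPointF_eq cert) 276700 25 chkP_276700 i (by omega) (by omega)
                · skip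
                  rcases Nat.lt_or_ge i 276750 with h9 | h9
                  · skip
                    exact allRangeF_sound _ _ (checkPointF_eq cert) 276725 25 chkP_276725 i (by omega) (by omega)
                  · skip
                    exact allRangeF_sound _ _ (checkPointF_eq cert) 276750 25 chkP_276750 i (by omega) (by omega)
        · skip
          rcases Nat.lt_or_ge i 277000 with h5 | h5
          · skip
            rcases Nat.lt_or_ge i 276875 with h6 | h6
            · skip
              rcases Nat.lt_or_ge i 276825 with h7 | h7
              · skip
                rcases Nat.lt_or_ge i 276800 with h8 | h8
                · skip
                  exact allRangeF_sound _ _ (checkPointF_eq cert) 276775 25 chkP_276775 i (by omega) (by omega)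
                · skip
                  exact allRangeF_sound _ _ (checkPointF_eq cert) 276800 25 chkP_276800 i (by omega) (by omega)
              · skip
                rcases Nat.lt_or_ge i 276850 with h8 | h8
                · skip
                  exact allRangeF_sound _ _ (checkPointF_eq cert) 276825 25 chkP_276825 i (by omega) (by omega)
                · skip
                  exact allRangeF_sound _ _ (checkPointF_eq cert) 276850 25 chkP_276850 i (by omega) (by omega)
            · skip
              rcases Nat.lt_or_ge i 276925 with h7 | h7
              · skip
                rcases Nat.lt_or_ge i 276900 with h8 | h8
                · skip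
                  exact allRangeF_sound _ _ (checkPointF_eq cert) 276875 25 chkP_276875 i (by omega) (by omega)
                · skip
                  exact allRangeF_sound _ _ (checkPointF_eq cert) 276900 25 chkP_276900 i (by omega) (by omega)
              · skip
                rcases Nat.lt_or_ge i 276950 with h8 | h8
                · skip
                  exact allRangeF_sound _ _ (checkPointF_eq cert) 276925 25 chkP_276925 i (by omega) (by omega)
                · skip
                  rcases Nat.lt_or_ge i 276975 with h9 | h9
                  · skip
                    exact allRangeF_sound _ _ (checkPointF_eq cert) 276950 25 chkP_276950 i (by omega) (by omega)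
                  · skip
                    exact allRangeF_sound _ _ (checkPointF_eq cert) 276975 25 chkP_276975 i (by omega) (by omega)
          · skip
            rcases Nat.lt_or_ge i 277125 with h6 | h6
            · skip
              rcases Nat.lt_or_ge i 277050 with h7 | h7
              · skip
                rcases Nat.lt_or_ge i 277025 with h8 | h8
                · skip
                  exact allRangeF_sound _ _ (checkPointF_eq cert) 277000 25 chkP_277000 i (by omega) (by omega)
                · skip
                  exact allRangeF_sound _ _ (checkPointF_eq cert) 277025 25 chkP_277025 i (by omega) (by omega)
              · skip
                rcases Nat.lt_or_ge i 277075 with h8 | h8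
                · skip
                  exact allRangeF_sound _ _ (checkPointF_eq cert) 277050 25 chkP_277050 i (by omega) (by omega)
                · skip
                  rcases Nat.lt_or_ge i 277100 with h9 | h9
                  · skip
                    exact allRangeF_sound _ _ (checkPointF_eq cert) 277075 25 chkP_277075 i (by omega) (by omega)
                  · skip
                    exact allRangeF_sound _ _ (checkPointF_eq cert) 277100 25 chkP_277100 i (by omega) (by omega)
            · skip
              rcases Nat.lt_or_ge i 277175 with h7 | h7
              · skip
                rcases Nat.lt_or_ge i 277150 with h8 | h8
                · skip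
                  exact allRangeF_sound _ _ (checkPointF_eq cert) 277125 25 chkP_277125 i (by omega) (by omega)
                · skip
                  exact allRangeF_sound _ _ (checkPointF_eq cert) 277150 25 chkP_277150 i (by omega) (by omega)
              · skip
                rcases Nat.lt_or_ge i 277200 with h8 | h8
                · skip
                  exact allRangeF_sound _ _ (checkPointF_eq cert) 277175 25 chkP_277175 i (by omega) (by omega)
                · skip
                  rcases Nat.lt_or_ge i 277225 with h9 | h9
                  · skip
                    exact allRangeF_sound _ _ (checkPointF_eq cert) 277200 25 chkP_277200 i (by omega) (by omega)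
                  · skip
                    exact allRangeF_sound _ _ (checkPointF_eq cert) 277225 25 chkP_277225 i (by omega) (by omega)
      · skip
        rcases Nat.lt_or_ge i 277725 with h4 | h4
        · skip
          rcases Nat.lt_or_ge i 277475 with h5 | h5
          · skip
            rcases Nat.lt_or_ge i 277350 with h6 | h6
            · skip
              rcases Nat.lt_or_ge i 277300 with h7 | h7
              · skip
                rcases Nat.lt_or_ge i 277275 with h8 | h8
                · skip
                  exact allRangeF_sound _ _ (checkPointF_eq cert) 277250 25 chkP_277250 i (by omega) (by omega)
                · skip
                  exact allRangeF_sound _ _ (checkPointF_eq cert) 277275 25 chkP_277275 i (by omega) (by omega)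
              · skip
                rcases Nat.lt_or_ge i 277325 with h8 | h8
                · skip
                  exact allRangeF_sound _ _ (checkPointF_eq cert) 277300 25 chkP_277300 i (by omega) (by omega)
                · skip
                  exact allRangeF_sound _ _ (checkPointF_eq cert) 277325 25 chkP_277325 i (by omega) (by omega)
            · skip
              rcases Nat.lt_or_ge i 277400 with h7 | h7
              · skip
                rcases Nat.lt_or_ge i 277375 with h8 | h8
                · skip
                  exact allRangeF_sound _ _ (checkPointF_eq cert) 277350 25 chkP_277350 i (by omega) (by omega)
                · skip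
                  exact allRangeF_sound _ _ (checkPointF_eq cert) 277375 25 chkP_277375 i (by omega) (by omega)
              · skip
                rcases Nat.lt_or_ge i 277425 with h8 | h8
                · skip
                  exact allRangeF_sound _ _ (checkPointF_eq cert) 277400 25 chkP_277400 i (by omega) (by omega)
                · skip
                  rcases Nat.lt_or_ge i 277450 with h9 | h9
                  · skip
                    exact allRangeF_sound _ _ (checkPointF_eq cert) 277425 25 chkP_277425 i (by omega) (by omega)
                  · skip
                    exact allRangeF_sound _ _ (checkPointF_eq cert) 277450 25 chkP_277450 i (by omega) (by omega)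
          · skip
            rcases Nat.lt_or_ge i 277600 with h6 | h6
            · skip
              rcases Nat.lt_or_ge i 277525 with h7 | h7
              · skip
                rcases Nat.lt_or_ge i 277500 with h8 | h8
                · skip
                  exact allRangeF_sound _ _ (checkPointF_eq cert) 277475 25 chkP_277475 i (by omega) (by omega)
                · skip
                  exact allRangeF_sound _ _ (checkPointF_eq cert) 277500 25 chkP_277500 i (by omega) (by omega)
              · skip
                rcases Nat.lt_or_ge i 277550 with h8 | h8
                · skip
                  exact allRangeF_sound _ _ (checkPointF_eq cert) 277525 25 chkP_277525 i (by omega) (by omega)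
                · skip
                  rcases Nat.lt_or_ge i 277575 with h9 | h9
                  · skip
                    exact allRangeF_sound _ _ (checkPointF_eq cert) 277550 25 chkP_277550 i (by omega) (by omega)
                  · skip
                    exact allRangeF_sound _ _ (checkPointF_eq cert) 277575 25 chkP_277575 i (by omega) (by omega)
            · skip
              rcases Nat.lt_or_ge i 277650 with h7 | h7
              · skip
                rcases Nat.lt_or_ge i 277625 with h8 | h8
                · skip
                  exact allRangeF_sound _ _ (checkPointF_eq cert) 277600 25 chkP_277600 i (by omega) (by omega)
                · skip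
                  exact allRangeF_sound _ _ (checkPointF_eq cert) 277625 25 chkP_277625 i (by omega) (by omega)
              · skip
                rcases Nat.lt_or_ge i 277675 with h8 | h8
                · skip
                  exact allRangeF_sound _ _ (checkPointF_eq cert) 277650 25 chkP_277650 i (by omega) (by omega)
                · skip
                  rcases Nat.lt_or_ge i 277700 with h9 | h9
                  · skip
                    exact allRangeF_sound _ _ (checkPointF_eq cert) 277675 25 chkP_277675 i (by omega) (by omega)
                  · skip
                    exact allRangeF_sound _ _ (checkPointF_eq cert) 277700 25 chkP_277700 i (by omega) (by omega)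
        · skip
          rcases Nat.lt_or_ge i 277950 with h5 | h5
          · skip
            rcases Nat.lt_or_ge i 277825 with h6 | h6
            · skip
              rcases Nat.lt_or_ge i 277775 with h7 | h7
              · skip
                rcases Nat.lt_or_ge i 277750 with h8 | h8
                · skip
                  exact allRangeF_sound _ _ (checkPointF_eq cert) 277725 25 chkP_277725 i (by omega) (by omega)
                · skip
                  exact allRangeF_sound _ _ (checkPointF_eq cert) 277750 25 chkP_277750 i (by omega) (by omega)
              · skip
                rcases Nat.lt_or_ge i 277800 with h8 | h8
                · skip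
                  exact allRangeF_sound _ _ (checkPointF_eq cert) 277775 25 chkP_277775 i (by omega) (by omega)
                · skip
                  exact allRangeF_sound _ _ (checkPointF_eq cert) 277800 25 chkP_277800 i (by omega) (by omega)
            · skip
              rcases Nat.lt_or_ge i 277875 with h7 | h7
              · skip
                rcases Nat.lt_or_ge i 277850 with h8 | h8
                · skip
                  exact allRangeF_sound _ _ (checkPointF_eq cert) 277825 25 chkP_277825 i (by omega) (by omega)
                · skip
                  exact allRangeF_sound _ _ (checkPointF_eq cert) 277850 25 chkP_277850 i (by omega) (by omega)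
              · skip
                rcases Nat.lt_or_ge i 277900 with h8 | h8
                · skip
                  exact allRangeF_sound _ _ (checkPointF_eq cert) 277875 25 chkP_277875 i (by omega) (by omega)
                · skip
                  rcases Nat.lt_or_ge i 277925 with h9 | h9
                  · skip
                    exact allRangeF_sound _ _ (checkPointF_eq cert) 277900 25 chkP_277900 i (by omega) (by omega)
                  · skip
                    exact allRangeF_sound _ _ (checkPointF_eq cert) 277925 25 chkP_277925 i (by omega) (by omega)
          · skip
            rcases Nat.lt_or_ge i 278075 with h6 | h6
            · skip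
              rcases Nat.lt_or_ge i 278000 with h7 | h7
              · skip
                rcases Nat.lt_or_ge i 277975 with h8 | h8
                · skip
                  exact allRangeF_sound _ _ (checkPointF_eq cert) 277950 25 chkP_277950 i (by omega) (by omega)
                · skip
                  exact allRangeF_sound _ _ (checkPointF_eq cert) 277975 25 chkP_277975 i (by omega) (by omega)
              · skip
                rcases Nat.lt_or_ge i 278025 with h8 | h8
                · skip
                  exact allRangeF_sound _ _ (checkPointF_eq cert) 278000 25 chkP_278000 i (by omega) (by omega)
                · skip
                  rcases Nat.lt_or_ge i 278050 with h9 | h9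
                  · skip
                    exact allRangeF_sound _ _ (checkPointF_eq cert) 278025 25 chkP_278025 i (by omega) (by omega)
                  · skip
                    exact allRangeF_sound _ _ (checkPointF_eq cert) 278050 25 chkP_278050 i (by omega) (by omega)
            · skip
              rcases Nat.lt_or_ge i 278125 with h7 | h7
              · skip
                rcases Nat.lt_or_ge i 278100 with h8 | h8
                · skip
                  exact allRangeF_sound _ _ (checkPointF_eq cert) 278075 25 chkP_278075 i (by omega) (by omega)
                · skip
                  exact allRangeF_sound _ _ (checkPointF_eq cert) 278100 25 chkP_278100 i (by omega) (by omega)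
              · skip
                rcases Nat.lt_or_ge i 278150 with h8 | h8
                · skip
                  exact allRangeF_sound _ _ (checkPointF_eq cert) 278125 25 chkP_278125 i (by omega) (by omega)
                · skip
                  rcases Nat.lt_or_ge i 278175 with h9 | h9
                  · skip
                    exact allRangeF_sound _ _ (checkPointF_eq cert) 278150 25 chkP_278150 i (by omega) (by omega)
                  · skip
                    exact allRangeF_sound _ _ (checkPointF_eq cert) 278175 25 chkP_278175 i (by omega) (by omega)
    · skip
      rcases Nat.lt_or_ge i 279150 with h3 | h3
      · skip
        rcases Nat.lt_or_ge i 278675 with h4 | h4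
        · skip
          rcases Nat.lt_or_ge i 278425 with h5 | h5
          · skip
            rcases Nat.lt_or_ge i 278300 with h6 | h6
            · skip
              rcases Nat.lt_or_ge i 278250 with h7 | h7
              · skip
                rcases Nat.lt_or_ge i 278225 with h8 | h8
                · skip
                  exact allRangeF_sound _ _ (checkPointF_eq cert) 278200 25 chkP_278200 i (by omega) (by omega)
                · skip
                  exact allRangeF_sound _ _ (checkPointF_eq cert) 278225 25 chkP_278225 i (by omega) (by omega)
              · skip
                rcases Nat.lt_or_ge i 278275 with h8 | h8
                · skip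
                  exact allRangeF_sound _ _ (checkPointF_eq cert) 278250 25 chkP_278250 i (by omega) (by omega)
                · skip
                  exact allRangeF_sound _ _ (checkPointF_eq cert) 278275 25 chkP_278275 i (by omega) (by omega)
            · skip
              rcases Nat.lt_or_ge i 278350 with h7 | h7
              · skip
                rcases Nat.lt_or_ge i 278325 with h8 | h8
                · skip
                  exact allRangeF_sound _ _ (checkPointF_eq cert) 278300 25 chkP_278300 i (by omega) (by omega)
                · skip
                  exact allRangeF_sound _ _ (checkPointF_eq cert) 278325 25 chkP_278325 i (by omega) (by omega)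
              · skip
                rcases Nat.lt_or_ge i 278375 with h8 | h8
                · skip
                  exact allRangeF_sound _ _ (checkPointF_eq cert) 278350 25 chkP_278350 i (by omega) (by omega)
                · skip
                  rcases Nat.lt_or_ge i 278400 with h9 | h9
                  · skip
                    exact allRangeF_sound _ _ (checkPointF_eq cert) 278375 25 chkP_278375 i (by omega) (by omega)
                  · skip
                    exact allRangeF_sound _ _ (checkPointF_eq cert) 278400 25 chkP_278400 i (by omega) (by omega)
          · skip
            rcases Nat.lt_or_ge i 278550 with h6 | h6
            · skip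
              rcases Nat.lt_or_ge i 278475 with h7 | h7
              · skip
                rcases Nat.lt_or_ge i 278450 with h8 | h8
                · skip
                  exact allRangeF_sound _ _ (checkPointF_eq cert) 278425 25 chkP_278425 i (by omega) (by omega)
                · skip
                  exact allRangeF_sound _ _ (checkPointF_eq cert) 278450 25 chkP_278450 i (by omega) (by omega)
              · skip
                rcases Nat.lt_or_ge i 278500 with h8 | h8
                · skip
                  exact allRangeF_sound _ _ (checkPointF_eq cert) 278475 25 chkP_278475 i (by omega) (by omega)
                · skip
                  rcases Nat.lt_or_ge i 278525 with h9 | h9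
                  · skip
                    exact allRangeF_sound _ _ (checkPointF_eq cert) 278500 25 chkP_278500 i (by omega) (by omega)
                  · skip
                    exact allRangeF_sound _ _ (checkPointF_eq cert) 278525 25 chkP_278525 i (by omega) (by omega)
            · skip
              rcases Nat.lt_or_ge i 278600 with h7 | h7
              · skip
                rcases Nat.lt_or_ge i 278575 with h8 | h8
                · skip
                  exact allRangeF_sound _ _ (checkPointF_eq cert) 278550 25 chkP_278550 i (by omega) (by omega)
                · skip
                  exact allRangeF_sound _ _ (checkPointF_eq cert) 278575 25 chkP_278575 i (by omega) (by omega)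
              · skip
                rcases Nat.lt_or_ge i 278625 with h8 | h8
                · skip
                  exact allRangeF_sound _ _ (checkPointF_eq cert) 278600 25 chkP_278600 i (by omega) (by omega)
                · skip
                  rcases Nat.lt_or_ge i 278650 with h9 | h9
                  · skip
                    exact allRangeF_sound _ _ (checkPointF_eq cert) 278625 25 chkP_278625 i (by omega) (by omega)
                  · skip
                    exact allRangeF_sound _ _ (checkPointF_eq cert) 278650 25 chkP_278650 i (by omega) (by omega)
        · skip
          rcases Nat.lt_or_ge i 278900 with h5 | h5
          · skip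
            rcases Nat.lt_or_ge i 278775 with h6 | h6
            · skip
              rcases Nat.lt_or_ge i 278725 with h7 | h7
              · skip
                rcases Nat.lt_or_ge i 278700 with h8 | h8
                · skip
                  exact allRangeF_sound _ _ (checkPointF_eq cert) 278675 25 chkP_278675 i (by omega) (by omega)
                · skip
                  exact allRangeF_sound _ _ (checkPointF_eq cert) 278700 25 chkP_278700 i (by omega) (by omega)
              · skip
                rcases Nat.lt_or_ge i 278750 with h8 | h8
                · skip
                  exact allRangeF_sound _ _ (checkPointF_eq cert) 278725 25 chkP_278725 i (by omega) (by omega)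
                · skip
                  exact allRangeF_sound _ _ (checkPointF_eq cert) 278750 25 chkP_278750 i (by omega) (by omega)
            · skip
              rcases Nat.lt_or_ge i 278825 with h7 | h7
              · skip
                rcases Nat.lt_or_ge i 278800 with h8 | h8
                · skip
                  exact allRangeF_sound _ _ (checkPointF_eq cert) 278775 25 chkP_278775 i (by omega) (by omega)
                · skip
                  exact allRangeF_sound _ _ (checkPointF_eq cert) 278800 25 chkP_278800 i (by omega) (by omega)
              · skip
                rcases Nat.lt_or_ge i 278850 with h8 | h8
                · skip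
                  exact allRangeF_sound _ _ (checkPointF_eq cert) 278825 25 chkP_278825 i (by omega) (by omega)
                · skip
                  rcases Nat.lt_or_ge i 278875 with h9 | h9
                  · skip
                    exact allRangeF_sound _ _ (checkPointF_eq cert) 278850 25 chkP_278850 i (by omega) (by omega)
                  · skip
                    exact allRangeF_sound _ _ (checkPointF_eq cert) 278875 25 chkP_278875 i (by omega) (by omega)
          · skip
            rcases Nat.lt_or_ge i 279025 with h6 | h6
            · skip
              rcases Nat.lt_or_ge i 278950 with h7 | h7
              · skip
                rcases Nat.lt_or_ge i 278925 with h8 | h8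
                · skip
                  exact allRangeF_sound _ _ (checkPointF_eq cert) 278900 25 chkP_278900 i (by omega) (by omega)
                · skip
                  exact allRangeF_sound _ _ (checkPointF_eq cert) 278925 25 chkP_278925 i (by omega) (by omega)
              · skip
                rcases Nat.lt_or_ge i 278975 with h8 | h8
                · skip
                  exact allRangeF_sound _ _ (checkPointF_eq cert) 278950 25 chkP_278950 i (by omega) (by omega)
                · skip
                  rcases Nat.lt_or_ge i 279000 with h9 | h9
                  · skip
                    exact allRangeF_sound _ _ (checkPointF_eq cert) 278975 25 chkP_278975 i (by omega) (by omega)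
                  · skip
                    exact allRangeF_sound _ _ (checkPointF_eq cert) 279000 25 chkP_279000 i (by omega) (by omega)
            · skip
              rcases Nat.lt_or_ge i 279075 with h7 | h7
              · skip
                rcases Nat.lt_or_ge i 279050 with h8 | h8
                · skip
                  exact allRangeF_sound _ _ (checkPointF_eq cert) 279025 25 chkP_279025 i (by omega) (by omega)
                · skip
                  exact allRangeF_sound _ _ (checkPointF_eq cert) 279050 25 chkP_279050 i (by omega) (by omega)
              · skip
                rcases Nat.lt_or_ge i 279100 with h8 | h8
                · skip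
                  exact allRangeF_sound _ _ (checkPointF_eq cert) 279075 25 chkP_279075 i (by omega) (by omega)
                · skip
                  rcases Nat.lt_or_ge i 279125 with h9 | h9
                  · skip
                    exact allRangeF_sound _ _ (checkPointF_eq cert) 279100 25 chkP_279100 i (by omega) (by omega)
                  · skip
                    exact allRangeF_sound _ _ (checkPointF_eq cert) 279125 25 chkP_279125 i (by omega) (by omega)
      · skip
        rcases Nat.lt_or_ge i 279625 with h4 | h4
        · skip
          rcases Nat.lt_or_ge i 279375 with h5 | h5
          · skip
            rcases Nat.lt_or_ge i 279250 with h6 | h6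
            · skip
              rcases Nat.lt_or_ge i 279200 with h7 | h7
              · skip
                rcases Nat.lt_or_ge i 279175 with h8 | h8
                · skip
                  exact allRangeF_sound _ _ (checkPointF_eq cert) 279150 25 chkP_279150 i (by omega) (by omega)
                · skip
                  exact allRangeF_sound _ _ (checkPointF_eq cert) 279175 25 chkP_279175 i (by omega) (by omega)
              · skip
                rcases Nat.lt_or_ge i 279225 with h8 | h8
                · skip
                  exact allRangeF_sound _ _ (checkPointF_eq cert) 279200 25 chkP_279200 i (by omega) (by omega)
                · skip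
                  exact allRangeF_sound _ _ (checkPointF_eq cert) 279225 25 chkP_279225 i (by omega) (by omega)
            · skip
              rcases Nat.lt_or_ge i 279300 with h7 | h7
              · skip
                rcases Nat.lt_or_ge i 279275 with h8 | h8
                · skip
                  exact allRangeF_sound _ _ (checkPointF_eq cert) 279250 25 chkP_279250 i (by omega) (by omega)
                · skip
                  exact allRangeF_sound _ _ (checkPointF_eq cert) 279275 25 chkP_279275 i (by omega) (by omega)
              · skip
                rcases Nat.lt_or_ge i 279325 with h8 | h8
                · skip
                  exact allRangeF_sound _ _ (checkPointF_eq cert) 279300 25 chkP_279300 i (by omega) (by omega)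
                · skip
                  rcases Nat.lt_or_ge i 279350 with h9 | h9
                  · skip
                    exact allRangeF_sound _ _ (checkPointF_eq cert) 279325 25 chkP_279325 i (by omega) (by omega)
                  · skip
                    exact allRangeF_sound _ _ (checkPointF_eq cert) 279350 25 chkP_279350 i (by omega) (by omega)
          · skip
            rcases Nat.lt_or_ge i 279500 with h6 | h6
            · skip
              rcases Nat.lt_or_ge i 279425 with h7 | h7
              · skip
                rcases Nat.lt_or_ge i 279400 with h8 | h8
                · skip
                  exact allRangeF_sound _ _ (checkPointF_eq cert) 279375 25 chkP_279375 i (by omega) (by omega)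
                · skip
                  exact allRangeF_sound _ _ (checkPointF_eq cert) 279400 25 chkP_279400 i (by omega) (by omega)
              · skip
                rcases Nat.lt_or_ge i 279450 with h8 | h8
                · skip
                  exact allRangeF_sound _ _ (checkPointF_eq cert) 279425 25 chkP_279425 i (by omega) (by omega)
                · skip
                  rcases Nat.lt_or_ge i 279475 with h9 | h9
                  · skip
                    exact allRangeF_sound _ _ (checkPointF_eq cert) 279450 25 chkP_279450 i (by omega) (by omega)
                  · skip
                    exact allRangeF_sound _ _ (checkPointF_eq cert) 279475 25 chkP_279475 i (by omega) (by omega)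
            · skip
              rcases Nat.lt_or_ge i 279550 with h7 | h7
              · skip
                rcases Nat.lt_or_ge i 279525 with h8 | h8
                · skip
                  exact allRangeF_sound _ _ (checkPointF_eq cert) 279500 25 chkP_279500 i (by omega) (by omega)
                · skip
                  exact allRangeF_sound _ _ (checkPointF_eq cert) 279525 25 chkP_279525 i (by omega) (by omega)
              · skip
                rcases Nat.lt_or_ge i 279575 with h8 | h8
                · skip
                  exact allRangeF_sound _ _ (checkPointF_eq cert) 279550 25 chkP_279550 i (by omega) (by omega)
                · skip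
                  rcases Nat.lt_or_ge i 279600 with h9 | h9
                  · skip
                    exact allRangeF_sound _ _ (checkPointF_eq cert) 279575 25 chkP_279575 i (by omega) (by omega)
                  · skip
                    exact allRangeF_sound _ _ (checkPointF_eq cert) 279600 25 chkP_279600 i (by omega) (by omega)
        · skip
          rcases Nat.lt_or_ge i 279875 with h5 | h5
          · skip
            rcases Nat.lt_or_ge i 279750 with h6 | h6
            · skip
              rcases Nat.lt_or_ge i 279675 with h7 | h7
              · skip
                rcases Nat.lt_or_ge i 279650 with h8 | h8
                · skip
                  exact allRangeF_sound _ _ (checkPointF_eq cert) 279625 25 chkP_279625 i (by omega) (by omega)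
                · skip
                  exact allRangeF_sound _ _ (checkPointF_eq cert) 279650 25 chkP_279650 i (by omega) (by omega)
              · skip
                rcases Nat.lt_or_ge i 279700 with h8 | h8
                · skip
                  exact allRangeF_sound _ _ (checkPointF_eq cert) 279675 25 chkP_279675 i (by omega) (by omega)
                · skip
                  rcases Nat.lt_or_ge i 279725 with h9 | h9
                  · skip
                    exact allRangeF_sound _ _ (checkPointF_eq cert) 279700 25 chkP_279700 i (by omega) (by omega)
                  · skip
                    exact allRangeF_sound _ _ (checkPointF_eq cert) 279725 25 chkP_279725 i (by omega) (by omega)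
            · skip
              rcases Nat.lt_or_ge i 279800 with h7 | h7
              · skip
                rcases Nat.lt_or_ge i 279775 with h8 | h8
                · skip
                  exact allRangeF_sound _ _ (checkPointF_eq cert) 279750 25 chkP_279750 i (by omega) (by omega)
                · skip
                  exact allRangeF_sound _ _ (checkPointF_eq cert) 279775 25 chkP_279775 i (by omega) (by omega)
              · skip
                rcases Nat.lt_or_ge i 279825 with h8 | h8
                · skip
                  exact allRangeF_sound _ _ (checkPointF_eq cert) 279800 25 chkP_279800 i (by omega) (by omega)
                · skip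
                  rcases Nat.lt_or_ge i 279850 with h9 | h9
                  · skip
                    exact allRangeF_sound _ _ (checkPointF_eq cert) 279825 25 chkP_279825 i (by omega) (by omega)
                  · skip
                    exact allRangeF_sound _ _ (checkPointF_eq cert) 279850 25 chkP_279850 i (by omega) (by omega)
          · skip
            rcases Nat.lt_or_ge i 280000 with h6 | h6
            · skip
              rcases Nat.lt_or_ge i 279925 with h7 | h7
              · skip
                rcases Nat.lt_or_ge i 279900 with h8 | h8
                · skip
                  exact allRangeF_sound _ _ (checkPointF_eq cert) 279875 25 chkP_279875 i (by omega) (by omega)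
                · skip
                  exact allRangeF_sound _ _ (checkPointF_eq cert) 279900 25 chkP_279900 i (by omega) (by omega)
              · skip
                rcases Nat.lt_or_ge i 279950 with h8 | h8
                · skip
                  exact allRangeF_sound _ _ (checkPointF_eq cert) 279925 25 chkP_279925 i (by omega) (by omega)
                · skip
                  rcases Nat.lt_or_ge i 279975 with h9 | h9
                  · skip
                    exact allRangeF_sound _ _ (checkPointF_eq cert) 279950 25 chkP_279950 i (by omega) (by omega)
                  · skip
                    exact allRangeF_sound _ _ (checkPointF_eq cert) 279975 25 chkP_279975 i (by omega) (by omega)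
            · skip
              rcases Nat.lt_or_ge i 280050 with h7 | h7
              · skip
                rcases Nat.lt_or_ge i 280025 with h8 | h8
                · skip
                  exact allRangeF_sound _ _ (checkPointF_eq cert) 280000 25 chkP_280000 i (by omega) (by omega)
                · skip
                  exact allRangeF_sound _ _ (checkPointF_eq cert) 280025 25 chkP_280025 i (by omega) (by omega)
              · skip
                rcases Nat.lt_or_ge i 280075 with h8 | h8
                · skip
                  exact allRangeF_sound _ _ (checkPointF_eq cert) 280050 25 chkP_280050 i (by omega) (by omega)
                · skip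
                  rcases Nat.lt_or_ge i 280100 with h9 | h9
                  · skip
                    exact allRangeF_sound _ _ (checkPointF_eq cert) 280075 25 chkP_280075 i (by omega) (by omega)
                  · skip
                    exact allRangeF_sound _ _ (checkPointF_eq cert) 280100 25 chkP_280100 i (by omega) (by omega)
  · skip
    rcases Nat.lt_or_ge i 282050 with h2 | h2
    · skip
      rcases Nat.lt_or_ge i 281075 with h3 | h3
      · skip
        rcases Nat.lt_or_ge i 280600 with h4 | h4
        · skip
          rcases Nat.lt_or_ge i 280350 with h5 | h5
          · skip
            rcases Nat.lt_or_ge i 280225 with h6 | h6
            · skip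
              rcases Nat.lt_or_ge i 280175 with h7 | h7
              · skip
                rcases Nat.lt_or_ge i 280150 with h8 | h8
                · skip
                  exact allRangeF_sound _ _ (checkPointF_eq cert) 280125 25 chkP_280125 i (by omega) (by omega)
                · skip
                  exact allRangeF_sound _ _ (checkPointF_eq cert) 280150 25 chkP_280150 i (by omega) (by omega)
              · skip
                rcases Nat.lt_or_ge i 280200 with h8 | h8
                · skip
                  exact allRangeF_sound _ _ (checkPointF_eq cert) 280175 25 chkP_280175 i (by omega) (by omega)
                · skip
                  exact allRangeF_sound _ _ (checkPointF_eq cert) 280200 25 chkP_280200 i (by omega) (by omega)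
            · skip
              rcases Nat.lt_or_ge i 280275 with h7 | h7
              · skip
                rcases Nat.lt_or_ge i 280250 with h8 | h8
                · skip
                  exact allRangeF_sound _ _ (checkPointF_eq cert) 280225 25 chkP_280225 i (by omega) (by omega)
                · skip
                  exact allRangeF_sound _ _ (checkPointF_eq cert) 280250 25 chkP_280250 i (by omega) (by omega)
              · skip
                rcases Nat.lt_or_ge i 280300 with h8 | h8
                · skip
                  exact allRangeF_sound _ _ (checkPointF_eq cert) 280275 25 chkP_280275 i (by omega) (by omega)
                · skip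
                  rcases Nat.lt_or_ge i 280325 with h9 | h9
                  · skip
                    exact allRangeF_sound _ _ (checkPointF_eq cert) 280300 25 chkP_280300 i (by omega) (by omega)
                  · skip
                    exact allRangeF_sound _ _ (checkPointF_eq cert) 280325 25 chkP_280325 i (by omega) (by omega)
          · skip
            rcases Nat.lt_or_ge i 280475 with h6 | h6
            · skip
              rcases Nat.lt_or_ge i 280400 with h7 | h7
              · skip
                rcases Nat.lt_or_ge i 280375 with h8 | h8
                · skip
                  exact allRangeF_sound _ _ (checkPointF_eq cert) 280350 25 chkP_280350 i (by omega) (by omega)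
                · skip
                  exact allRangeF_sound _ _ (checkPointF_eq cert) 280375 25 chkP_280375 i (by omega) (by omega)
              · skip
                rcases Nat.lt_or_ge i 280425 with h8 | h8
                · skip
                  exact allRangeF_sound _ _ (checkPointF_eq cert) 280400 25 chkP_280400 i (by omega) (by omega)
                · skip
                  rcases Nat.lt_or_ge i 280450 with h9 | h9
                  · skip
                    exact allRangeF_sound _ _ (checkPointF_eq cert) 280425 25 chkP_280425 i (by omega) (by omega)
                  · skip
                    exact allRangeF_sound _ _ (checkPointF_eq cert) 280450 25 chkP_280450 i (by omega) (by omega)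
            · skip
              rcases Nat.lt_or_ge i 280525 with h7 | h7
              · skip
                rcases Nat.lt_or_ge i 280500 with h8 | h8
                · skip
                  exact allRangeF_sound _ _ (checkPointF_eq cert) 280475 25 chkP_280475 i (by omega) (by omega)
                · skip
                  exact allRangeF_sound _ _ (checkPointF_eq cert) 280500 25 chkP_280500 i (by omega) (by omega)
              · skip
                rcases Nat.lt_or_ge i 280550 with h8 | h8
                · skip
                  exact allRangeF_sound _ _ (checkPointF_eq cert) 280525 25 chkP_280525 i (by omega) (by omega)
                · skip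
                  rcases Nat.lt_or_ge i 280575 with h9 | h9
                  · skip
                    exact allRangeF_sound _ _ (checkPointF_eq cert) 280550 25 chkP_280550 i (by omega) (by omega)
                  · skip
                    exact allRangeF_sound _ _ (checkPointF_eq cert) 280575 25 chkP_280575 i (by omega) (by omega)
        · skip
          rcases Nat.lt_or_ge i 280825 with h5 | h5
          · skip
            rcases Nat.lt_or_ge i 280700 with h6 | h6
            · skip
              rcases Nat.lt_or_ge i 280650 with h7 | h7
              · skip
                rcases Nat.lt_or_ge i 280625 with h8 | h8
                · skip
                  exact allRangeF_sound _ _ (checkPointF_eq cert) 280600 25 chkP_280600 i (by omega) (by omega)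
                · skip
                  exact allRangeF_sound _ _ (checkPointF_eq cert) 280625 25 chkP_280625 i (by omega) (by omega)
              · skip
                rcases Nat.lt_or_ge i 280675 with h8 | h8
                · skip
                  exact allRangeF_sound _ _ (checkPointF_eq cert) 280650 25 chkP_280650 i (by omega) (by omega)
                · skip
                  exact allRangeF_sound _ _ (checkPointF_eq cert) 280675 25 chkP_280675 i (by omega) (by omega)
            · skip
              rcases Nat.lt_or_ge i 280750 with h7 | h7
              · skip
                rcases Nat.lt_or_ge i 280725 with h8 | h8
                · skip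
                  exact allRangeF_sound _ _ (checkPointF_eq cert) 280700 25 chkP_280700 i (by omega) (by omega)
                · skip
                  exact allRangeF_sound _ _ (checkPointF_eq cert) 280725 25 chkP_280725 i (by omega) (by omega)
              · skip
                rcases Nat.lt_or_ge i 280775 with h8 | h8
                · skip
                  exact allRangeF_sound _ _ (checkPointF_eq cert) 280750 25 chkP_280750 i (by omega) (by omega)
                · skip
                  rcases Nat.lt_or_ge i 280800 with h9 | h9
                  · skip
                    exact allRangeF_sound _ _ (checkPointF_eq cert) 280775 25 chkP_280775 i (by omega) (by omega)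
                  · skip
                    exact allRangeF_sound _ _ (checkPointF_eq cert) 280800 25 chkP_280800 i (by omega) (by omega)
          · skip
            rcases Nat.lt_or_ge i 280950 with h6 | h6
            · skip
              rcases Nat.lt_or_ge i 280875 with h7 | h7
              · skip
                rcases Nat.lt_or_ge i 280850 with h8 | h8
                · skip
                  exact allRangeF_sound _ _ (checkPointF_eq cert) 280825 25 chkP_280825 i (by omega) (by omega)
                · skip
                  exact allRangeF_sound _ _ (checkPointF_eq cert) 280850 25 chkP_280850 i (by omega) (by omega)
              · skip
                rcases Nat.lt_or_ge i 280900 with h8 | h8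
                · skip
                  exact allRangeF_sound _ _ (checkPointF_eq cert) 280875 25 chkP_280875 i (by omega) (by omega)
                · skip
                  rcases Nat.lt_or_ge i 280925 with h9 | h9
                  · skip
                    exact allRangeF_sound _ _ (checkPointF_eq cert) 280900 25 chkP_280900 i (by omega) (by omega)
                  · skip
                    exact allRangeF_sound _ _ (checkPointF_eq cert) 280925 25 chkP_280925 i (by omega) (by omega)
            · skip
              rcases Nat.lt_or_ge i 281000 with h7 | h7
              · skip
                rcases Nat.lt_or_ge i 280975 with h8 | h8
                · skip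
                  exact allRangeF_sound _ _ (checkPointF_eq cert) 280950 25 chkP_280950 i (by omega) (by omega)
                · skip
                  exact allRangeF_sound _ _ (checkPointF_eq cert) 280975 25 chkP_280975 i (by omega) (by omega)
              · skip
                rcases Nat.lt_or_ge i 281025 with h8 | h8
                · skip
                  exact allRangeF_sound _ _ (checkPointF_eq cert) 281000 25 chkP_281000 i (by omega) (by omega)
                · skip
                  rcases Nat.lt_or_ge i 281050 with h9 | h9
                  · skip
                    exact allRangeF_sound _ _ (checkPointF_eq cert) 281025 25 chkP_281025 i (by omega) (by omega)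
                  · skip
                    exact allRangeF_sound _ _ (checkPointF_eq cert) 281050 25 chkP_281050 i (by omega) (by omega)
      · skip
        rcases Nat.lt_or_ge i 281550 with h4 | h4
        · skip
          rcases Nat.lt_or_ge i 281300 with h5 | h5
          · skip
            rcases Nat.lt_or_ge i 281175 with h6 | h6
            · skip
              rcases Nat.lt_or_ge i 281125 with h7 | h7
              · skip
                rcases Nat.lt_or_ge i 281100 with h8 | h8
                · skip
                  exact allRangeF_sound _ _ (checkPointF_eq cert) 281075 25 chkP_281075 i (by omega) (by omega)
                · skip
                  exact allRangeF_sound _ _ (checkPointF_eq cert) 281100 25 chkP_281100 i (by omega) (by omega)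
              · skip
                rcases Nat.lt_or_ge i 281150 with h8 | h8
                · skip
                  exact allRangeF_sound _ _ (checkPointF_eq cert) 281125 25 chkP_281125 i (by omega) (by omega)
                · skip
                  exact allRangeF_sound _ _ (checkPointF_eq cert) 281150 25 chkP_281150 i (by omega) (by omega)
            · skip
              rcases Nat.lt_or_ge i 281225 with h7 | h7
              · skip
                rcases Nat.lt_or_ge i 281200 with h8 | h8
                · skip
                  exact allRangeF_sound _ _ (checkPointF_eq cert) 281175 25 chkP_281175 i (by omega) (by omega)
                · skip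
                  exact allRangeF_sound _ _ (checkPointF_eq cert) 281200 25 chkP_281200 i (by omega) (by omega)
              · skip
                rcases Nat.lt_or_ge i 281250 with h8 | h8
                · skip
                  exact allRangeF_sound _ _ (checkPointF_eq cert) 281225 25 chkP_281225 i (by omega) (by omega)
                · skip
                  rcases Nat.lt_or_ge i 281275 with h9 | h9
                  · skip
                    exact allRangeF_sound _ _ (checkPointF_eq cert) 281250 25 chkP_281250 i (by omega) (by omega)
                  · skip
                    exact allRangeF_sound _ _ (checkPointF_eq cert) 281275 25 chkP_281275 i (by omega) (by omega)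
          · skip
            rcases Nat.lt_or_ge i 281425 with h6 | h6
            · skip
              rcases Nat.lt_or_ge i 281350 with h7 | h7
              · skip
                rcases Nat.lt_or_ge i 281325 with h8 | h8
                · skip
                  exact allRangeF_sound _ _ (checkPointF_eq cert) 281300 25 chkP_281300 i (by omega) (by omega)
                · skip
                  exact allRangeF_sound _ _ (checkPointF_eq cert) 281325 25 chkP_281325 i (by omega) (by omega)
              · skip
                rcases Nat.lt_or_ge i 281375 with h8 | h8
                · skip
                  exact allRangeF_sound _ _ (checkPointF_eq cert) 281350 25 chkP_281350 i (by omega) (by omega)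
                · skip
                  rcases Nat.lt_or_ge i 281400 with h9 | h9
                  · skip
                    exact allRangeF_sound _ _ (checkPointF_eq cert) 281375 25 chkP_281375 i (by omega) (by omega)
                  · skip
                    exact allRangeF_sound _ _ (checkPointF_eq cert) 281400 25 chkP_281400 i (by omega) (by omega)
            · skip
              rcases Nat.lt_or_ge i 281475 with h7 | h7
              · skip
                rcases Nat.lt_or_ge i 281450 with h8 | h8
                · skip
                  exact allRangeF_sound _ _ (checkPointF_eq cert) 281425 25 chkP_281425 i (by omega) (by omega)
                · skip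
                  exact allRangeF_sound _ _ (checkPointF_eq cert) 281450 25 chkP_281450 i (by omega) (by omega)
              · skip
                rcases Nat.lt_or_ge i 281500 with h8 | h8
                · skip
                  exact allRangeF_sound _ _ (checkPointF_eq cert) 281475 25 chkP_281475 i (by omega) (by omega)
                · skip
                  rcases Nat.lt_or_ge i 281525 with h9 | h9
                  · skip
                    exact allRangeF_sound _ _ (checkPointF_eq cert) 281500 25 chkP_281500 i (by omega) (by omega)
                  · skip
                    exact allRangeF_sound _ _ (checkPointF_eq cert) 281525 25 chkP_281525 i (by omega) (by omega)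
        · skip
          rcases Nat.lt_or_ge i 281800 with h5 | h5
          · skip
            rcases Nat.lt_or_ge i 281675 with h6 | h6
            · skip
              rcases Nat.lt_or_ge i 281600 with h7 | h7
              · skip
                rcases Nat.lt_or_ge i 281575 with h8 | h8
                · skip
                  exact allRangeF_sound _ _ (checkPointF_eq cert) 281550 25 chkP_281550 i (by omega) (by omega)
                · skip
                  exact allRangeF_sound _ _ (checkPointF_eq cert) 281575 25 chkP_281575 i (by omega) (by omega)
              · skip
                rcases Nat.lt_or_ge i 281625 with h8 | h8
                · skip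
                  exact allRangeF_sound _ _ (checkPointF_eq cert) 281600 25 chkP_281600 i (by omega) (by omega)
                · skip
                  rcases Nat.lt_or_ge i 281650 with h9 | h9
                  · skip
                    exact allRangeF_sound _ _ (checkPointF_eq cert) 281625 25 chkP_281625 i (by omega) (by omega)
                  · skip
                    exact allRangeF_sound _ _ (checkPointF_eq cert) 281650 25 chkP_281650 i (by omega) (by omega)
            · skip
              rcases Nat.lt_or_ge i 281725 with h7 | h7
              · skip
                rcases Nat.lt_or_ge i 281700 with h8 | h8
                · skip
                  exact allRangeF_sound _ _ (checkPointF_eq cert) 281675 25 chkP_281675 i (by omega) (by omega)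
                · skip
                  exact allRangeF_sound _ _ (checkPointF_eq cert) 281700 25 chkP_281700 i (by omega) (by omega)
              · skip
                rcases Nat.lt_or_ge i 281750 with h8 | h8
                · skip
                  exact allRangeF_sound _ _ (checkPointF_eq cert) 281725 25 chkP_281725 i (by omega) (by omega)
                · skip
                  rcases Nat.lt_or_ge i 281775 with h9 | h9
                  · skip
                    exact allRangeF_sound _ _ (checkPointF_eq cert) 281750 25 chkP_281750 i (by omega) (by omega)
                  · skip
                    exact allRangeF_sound _ _ (checkPointF_eq cert) 281775 25 chkP_281775 i (by omega) (by omega)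
          · skip
            rcases Nat.lt_or_ge i 281925 with h6 | h6
            · skip
              rcases Nat.lt_or_ge i 281850 with h7 | h7
              · skip
                rcases Nat.lt_or_ge i 281825 with h8 | h8
                · skip
                  exact allRangeF_sound _ _ (checkPointF_eq cert) 281800 25 chkP_281800 i (by omega) (by omega)
                · skip
                  exact allRangeF_sound _ _ (checkPointF_eq cert) 281825 25 chkP_281825 i (by omega) (by omega)
              · skip
                rcases Nat.lt_or_ge i 281875 with h8 | h8
                · skip
                  exact allRangeF_sound _ _ (checkPointF_eq cert) 281850 25 chkP_281850 i (by omega) (by omega)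
                · skip
                  rcases Nat.lt_or_ge i 281900 with h9 | h9
                  · skip
                    exact allRangeF_sound _ _ (checkPointF_eq cert) 281875 25 chkP_281875 i (by omega) (by omega)
                  · skip
                    exact allRangeF_sound _ _ (checkPointF_eq cert) 281900 25 chkP_281900 i (by omega) (by omega)
            · skip
              rcases Nat.lt_or_ge i 281975 with h7 | h7
              · skip
                rcases Nat.lt_or_ge i 281950 with h8 | h8
                · skip
                  exact allRangeF_sound _ _ (checkPointF_eq cert) 281925 25 chkP_281925 i (by omega) (by omega)
                · skip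
                  exact allRangeF_sound _ _ (checkPointF_eq cert) 281950 25 chkP_281950 i (by omega) (by omega)
              · skip
                rcases Nat.lt_or_ge i 282000 with h8 | h8
                · skip
                  exact allRangeF_sound _ _ (checkPointF_eq cert) 281975 25 chkP_281975 i (by omega) (by omega)
                · skip
                  rcases Nat.lt_or_ge i 282025 with h9 | h9
                  · skip
                    exact allRangeF_sound _ _ (checkPointF_eq cert) 282000 25 chkP_282000 i (by omega) (by omega)
                  · skip
                    exact allRangeF_sound _ _ (checkPointF_eq cert) 282025 25 chkP_282025 i (by omega) (by omega)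
    · skip
      rcases Nat.lt_or_ge i 283000 with h3 | h3
      · skip
        rcases Nat.lt_or_ge i 282525 with h4 | h4
        · skip
          rcases Nat.lt_or_ge i 282275 with h5 | h5
          · skip
            rcases Nat.lt_or_ge i 282150 with h6 | h6
            · skip
              rcases Nat.lt_or_ge i 282100 with h7 | h7
              · skip
                rcases Nat.lt_or_ge i 282075 with h8 | h8
                · skip
                  exact allRangeF_sound _ _ (checkPointF_eq cert) 282050 25 chkP_282050 i (by omega) (by omega)
                · skip
                  exact allRangeF_sound _ _ (checkPointF_eq cert) 282075 25 chkP_282075 i (by omega) (by omega)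
              · skip
                rcases Nat.lt_or_ge i 282125 with h8 | h8
                · skip
                  exact allRangeF_sound _ _ (checkPointF_eq cert) 282100 25 chkP_282100 i (by omega) (by omega)
                · skip
                  exact allRangeF_sound _ _ (checkPointF_eq cert) 282125 25 chkP_282125 i (by omega) (by omega)
            · skip
              rcases Nat.lt_or_ge i 282200 with h7 | h7
              · skip
                rcases Nat.lt_or_ge i 282175 with h8 | h8
                · skip
                  exact allRangeF_sound _ _ (checkPointF_eq cert) 282150 25 chkP_282150 i (by omega) (by omega)
                · skip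
                  exact allRangeF_sound _ _ (checkPointF_eq cert) 282175 25 chkP_282175 i (by omega) (by omega)
              · skip
                rcases Nat.lt_or_ge i 282225 with h8 | h8
                · skip
                  exact allRangeF_sound _ _ (checkPointF_eq cert) 282200 25 chkP_282200 i (by omega) (by omega)
                · skip
                  rcases Nat.lt_or_ge i 282250 with h9 | h9
                  · skip
                    exact allRangeF_sound _ _ (checkPointF_eq cert) 282225 25 chkP_282225 i (by omega) (by omega)
                  · skip
                    exact allRangeF_sound _ _ (checkPointF_eq cert) 282250 25 chkP_282250 i (by omega) (by omega)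
          · skip
            rcases Nat.lt_or_ge i 282400 with h6 | h6
            · skip
              rcases Nat.lt_or_ge i 282325 with h7 | h7
              · skip
                rcases Nat.lt_or_ge i 282300 with h8 | h8
                · skip
                  exact allRangeF_sound _ _ (checkPointF_eq cert) 282275 25 chkP_282275 i (by omega) (by omega)
                · skip
                  exact allRangeF_sound _ _ (checkPointF_eq cert) 282300 25 chkP_282300 i (by omega) (by omega)
              · skip
                rcases Nat.lt_or_ge i 282350 with h8 | h8
                · skip
                  exact allRangeF_sound _ _ (checkPointF_eq cert) 282325 25 chkP_282325 i (by omega) (by omega)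
                · skip
                  rcases Nat.lt_or_ge i 282375 with h9 | h9
                  · skip
                    exact allRangeF_sound _ _ (checkPointF_eq cert) 282350 25 chkP_282350 i (by omega) (by omega)
                  · skip
                    exact allRangeF_sound _ _ (checkPointF_eq cert) 282375 25 chkP_282375 i (by omega) (by omega)
            · skip
              rcases Nat.lt_or_ge i 282450 with h7 | h7
              · skip
                rcases Nat.lt_or_ge i 282425 with h8 | h8
                · skip
                  exact allRangeF_sound _ _ (checkPointF_eq cert) 282400 25 chkP_282400 i (by omega) (by omega)
                · skip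
                  exact allRangeF_sound _ _ (checkPointF_eq cert) 282425 25 chkP_282425 i (by omega) (by omega)
              · skip
                rcases Nat.lt_or_ge i 282475 with h8 | h8
                · skip
                  exact allRangeF_sound _ _ (checkPointF_eq cert) 282450 25 chkP_282450 i (by omega) (by omega)
                · skip
                  rcases Nat.lt_or_ge i 282500 with h9 | h9
                  · skip
                    exact allRangeF_sound _ _ (checkPointF_eq cert) 282475 25 chkP_282475 i (by omega) (by omega)
                  · skip
                    exact allRangeF_sound _ _ (checkPointF_eq cert) 282500 25 chkP_282500 i (by omega) (by omega)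
        · skip
          rcases Nat.lt_or_ge i 282750 with h5 | h5
          · skip
            rcases Nat.lt_or_ge i 282625 with h6 | h6
            · skip
              rcases Nat.lt_or_ge i 282575 with h7 | h7
              · skip
                rcases Nat.lt_or_ge i 282550 with h8 | h8
                · skip
                  exact allRangeF_sound _ _ (checkPointF_eq cert) 282525 25 chkP_282525 i (by omega) (by omega)
                · skip
                  exact allRangeF_sound _ _ (checkPointF_eq cert) 282550 25 chkP_282550 i (by omega) (by omega)
              · skip
                rcases Nat.lt_or_ge i 282600 with h8 | h8
                · skip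
                  exact allRangeF_sound _ _ (checkPointF_eq cert) 282575 25 chkP_282575 i (by omega) (by omega)
                · skip
                  exact allRangeF_sound _ _ (checkPointF_eq cert) 282600 25 chkP_282600 i (by omega) (by omega)
            · skip
              rcases Nat.lt_or_ge i 282675 with h7 | h7
              · skip
                rcases Nat.lt_or_ge i 282650 with h8 | h8
                · skip
                  exact allRangeF_sound _ _ (checkPointF_eq cert) 282625 25 chkP_282625 i (by omega) (by omega)
                · skip
                  exact allRangeF_sound _ _ (checkPointF_eq cert) 282650 25 chkP_282650 i (by omega) (by omega)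
              · skip
                rcases Nat.lt_or_ge i 282700 with h8 | h8
                · skip
                  exact allRangeF_sound _ _ (checkPointF_eq cert) 282675 25 chkP_282675 i (by omega) (by omega)
                · skip
                  rcases Nat.lt_or_ge i 282725 with h9 | h9
                  · skip
                    exact allRangeF_sound _ _ (checkPointF_eq cert) 282700 25 chkP_282700 i (by omega) (by omega)
                  · skip
                    exact allRangeF_sound _ _ (checkPointF_eq cert) 282725 25 chkP_282725 i (by omega) (by omega)
          · skip
            rcases Nat.lt_or_ge i 282875 with h6 | h6
            · skip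
              rcases Nat.lt_or_ge i 282800 with h7 | h7
              · skip
                rcases Nat.lt_or_ge i 282775 with h8 | h8
                · skip
                  exact allRangeF_sound _ _ (checkPointF_eq cert) 282750 25 chkP_282750 i (by omega) (by omega)
                · skip
                  exact allRangeF_sound _ _ (checkPointF_eq cert) 282775 25 chkP_282775 i (by omega) (by omega)
              · skip
                rcases Nat.lt_or_ge i 282825 with h8 | h8
                · skip
                  exact allRangeF_sound _ _ (checkPointF_eq cert) 282800 25 chkP_282800 i (by omega) (by omega)
                · skip
                  rcases Nat.lt_or_ge i 282850 with h9 | h9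
                  · skip
                    exact allRangeF_sound _ _ (checkPointF_eq cert) 282825 25 chkP_282825 i (by omega) (by omega)
                  · skip
                    exact allRangeF_sound _ _ (checkPointF_eq cert) 282850 25 chkP_282850 i (by omega) (by omega)
            · skip
              rcases Nat.lt_or_ge i 282925 with h7 | h7
              · skip
                rcases Nat.lt_or_ge i 282900 with h8 | h8
                · skip
                  exact allRangeF_sound _ _ (checkPointF_eq cert) 282875 25 chkP_282875 i (by omega) (by omega)
                · skip
                  exact allRangeF_sound _ _ (checkPointF_eq cert) 282900 25 chkP_282900 i (by omega) (by omega)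
              · skip
                rcases Nat.lt_or_ge i 282950 with h8 | h8
                · skip
                  exact allRangeF_sound _ _ (checkPointF_eq cert) 282925 25 chkP_282925 i (by omega) (by omega)
                · skip
                  rcases Nat.lt_or_ge i 282975 with h9 | h9
                  · skip
                    exact allRangeF_sound _ _ (checkPointF_eq cert) 282950 25 chkP_282950 i (by omega) (by omega)
                  · skip
                    exact allRangeF_sound _ _ (checkPointF_eq cert) 282975 25 chkP_282975 i (by omega) (by omega)
      · skip
        rcases Nat.lt_or_ge i 283475 with h4 | h4
        · skip
          rcases Nat.lt_or_ge i 283225 with h5 | h5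
          · skip
            rcases Nat.lt_or_ge i 283100 with h6 | h6
            · skip
              rcases Nat.lt_or_ge i 283050 with h7 | h7
              · skip
                rcases Nat.lt_or_ge i 283025 with h8 | h8
                · skip
                  exact allRangeF_sound _ _ (checkPointF_eq cert) 283000 25 chkP_283000 i (by omega) (by omega)
                · skip
                  exact allRangeF_sound _ _ (checkPointF_eq cert) 283025 25 chkP_283025 i (by omega) (by omega)
              · skip
                rcases Nat.lt_or_ge i 283075 with h8 | h8
                · skip
                  exact allRangeF_sound _ _ (checkPointF_eq cert) 283050 25 chkP_283050 i (by omega) (by omega)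
                · skip
                  exact allRangeF_sound _ _ (checkPointF_eq cert) 283075 25 chkP_283075 i (by omega) (by omega)
            · skip
              rcases Nat.lt_or_ge i 283150 with h7 | h7
              · skip
                rcases Nat.lt_or_ge i 283125 with h8 | h8
                · skip
                  exact allRangeF_sound _ _ (checkPointF_eq cert) 283100 25 chkP_283100 i (by omega) (by omega)
                · skip
                  exact allRangeF_sound _ _ (checkPointF_eq cert) 283125 25 chkP_283125 i (by omega) (by omega)
              · skip
                rcases Nat.lt_or_ge i 283175 with h8 | h8
                · skip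
                  exact allRangeF_sound _ _ (checkPointF_eq cert) 283150 25 chkP_283150 i (by omega) (by omega)
                · skip
                  rcases Nat.lt_or_ge i 283200 with h9 | h9
                  · skip
                    exact allRangeF_sound _ _ (checkPointF_eq cert) 283175 25 chkP_283175 i (by omega) (by omega)
                  · skip
                    exact allRangeF_sound _ _ (checkPointF_eq cert) 283200 25 chkP_283200 i (by omega) (by omega)
          · skip
            rcases Nat.lt_or_ge i 283350 with h6 | h6
            · skip
              rcases Nat.lt_or_ge i 283275 with h7 | h7
              · skip
                rcases Nat.lt_or_ge i 283250 with h8 | h8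
                · skip
                  exact allRangeF_sound _ _ (checkPointF_eq cert) 283225 25 chkP_283225 i (by omega) (by omega)
                · skip
                  exact allRangeF_sound _ _ (checkPointF_eq cert) 283250 25 chkP_283250 i (by omega) (by omega)
              · skip
                rcases Nat.lt_or_ge i 283300 with h8 | h8
                · skip
                  exact allRangeF_sound _ _ (checkPointF_eq cert) 283275 25 chkP_283275 i (by omega) (by omega)
                · skip
                  rcases Nat.lt_or_ge i 283325 with h9 | h9
                  · skip
                    exact allRangeF_sound _ _ (checkPointF_eq cert) 283300 25 chkP_283300 i (by omega) (by omega)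
                  · skip
                    exact allRangeF_sound _ _ (checkPointF_eq cert) 283325 25 chkP_283325 i (by omega) (by omega)
            · skip
              rcases Nat.lt_or_ge i 283400 with h7 | h7
              · skip
                rcases Nat.lt_or_ge i 283375 with h8 | h8
                · skip
                  exact allRangeF_sound _ _ (checkPointF_eq cert) 283350 25 chkP_283350 i (by omega) (by omega)
                · skip
                  exact allRangeF_sound _ _ (checkPointF_eq cert) 283375 25 chkP_283375 i (by omega) (by omega)
              · skip
                rcases Nat.lt_or_ge i 283425 with h8 | h8
                · skip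
                  exact allRangeF_sound _ _ (checkPointF_eq cert) 283400 25 chkP_283400 i (by omega) (by omega)
                · skip
                  rcases Nat.lt_or_ge i 283450 with h9 | h9
                  · skip
                    exact allRangeF_sound _ _ (checkPointF_eq cert) 283425 25 chkP_283425 i (by omega) (by omega)
                  · skip
                    exact allRangeF_sound _ _ (checkPointF_eq cert) 283450 25 chkP_283450 i (by omega) (by omega)
        · skip
          rcases Nat.lt_or_ge i 283725 with h5 | h5
          · skip
            rcases Nat.lt_or_ge i 283600 with h6 | h6
            · skip
              rcases Nat.lt_or_ge i 283525 with h7 | h7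
              · skip
                rcases Nat.lt_or_ge i 283500 with h8 | h8
                · skip
                  exact allRangeF_sound _ _ (checkPointF_eq cert) 283475 25 chkP_283475 i (by omega) (by omega)
                · skip
                  exact allRangeF_sound _ _ (checkPointF_eq cert) 283500 25 chkP_283500 i (by omega) (by omega)
              · skip
                rcases Nat.lt_or_ge i 283550 with h8 | h8
                · skip
                  exact allRangeF_sound _ _ (checkPointF_eq cert) 283525 25 chkP_283525 i (by omega) (by omega)
                · skip
                  rcases Nat.lt_or_ge i 283575 with h9 | h9
                  · skip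
                    exact allRangeF_sound _ _ (checkPointF_eq cert) 283550 25 chkP_283550 i (by omega) (by omega)
                  · skip
                    exact allRangeF_sound _ _ (checkPointF_eq cert) 283575 25 chkP_283575 i (by omega) (by omega)
            · skip
              rcases Nat.lt_or_ge i 283650 with h7 | h7
              · skip
                rcases Nat.lt_or_ge i 283625 with h8 | h8
                · skip
                  exact allRangeF_sound _ _ (checkPointF_eq cert) 283600 25 chkP_283600 i (by omega) (by omega)
                · skip
                  exact allRangeF_sound _ _ (checkPointF_eq cert) 283625 25 chkP_283625 i (by omega) (by omega)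
              · skip
                rcases Nat.lt_or_ge i 283675 with h8 | h8
                · skip
                  exact allRangeF_sound _ _ (checkPointF_eq cert) 283650 25 chkP_283650 i (by omega) (by omega)
                · skip
                  rcases Nat.lt_or_ge i 283700 with h9 | h9
                  · skip
                    exact allRangeF_sound _ _ (checkPointF_eq cert) 283675 25 chkP_283675 i (by omega) (by omega)
                  · skip
                    exact allRangeF_sound _ _ (checkPointF_eq cert) 283700 25 chkP_283700 i (by omega) (by omega)
          · skip
            rcases Nat.lt_or_ge i 283850 with h6 | h6
            · skip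
              rcases Nat.lt_or_ge i 283775 with h7 | h7
              · skip
                rcases Nat.lt_or_ge i 283750 with h8 | h8
                · skip
                  exact allRangeF_sound _ _ (checkPointF_eq cert) 283725 25 chkP_283725 i (by omega) (by omega)
                · skip
                  exact allRangeF_sound _ _ (checkPointF_eq cert) 283750 25 chkP_283750 i (by omega) (by omega)
              · skip
                rcases Nat.lt_or_ge i 283800 with h8 | h8
                · skip
                  exact allRangeF_sound _ _ (checkPointF_eq cert) 283775 25 chkP_283775 i (by omega) (by omega)
                · skip
                  rcases Nat.lt_or_ge i 283825 with h9 | h9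
                  · skip
                    exact allRangeF_sound _ _ (checkPointF_eq cert) 283800 25 chkP_283800 i (by omega) (by omega)
                  · skip
                    exact allRangeF_sound _ _ (checkPointF_eq cert) 283825 25 chkP_283825 i (by omega) (by omega)
            · skip
              rcases Nat.lt_or_ge i 283900 with h7 | h7
              · skip
                rcases Nat.lt_or_ge i 283875 with h8 | h8
                · skip
                  exact allRangeF_sound _ _ (checkPointF_eq cert) 283850 25 chkP_283850 i (by omega) (by omega)
                · skip
                  exact allRangeF_sound _ _ (checkPointF_eq cert) 283875 25 chkP_283875 i (by omega) (by omega)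
              · skip
                rcases Nat.lt_or_ge i 283925 with h8 | h8
                · skip
                  exact allRangeF_sound _ _ (checkPointF_eq cert) 283900 25 chkP_283900 i (by omega) (by omega)
                · skip
                  rcases Nat.lt_or_ge i 283950 with h9 | h9
                  · skip
                    exact allRangeF_sound _ _ (checkPointF_eq cert) 283925 25 chkP_283925 i (by omega) (by omega)
                  · skip
                    exact allRangeF_sound _ _ (checkPointF_eq cert) 283950 25 chkP_283950 i (by omega) (by omega)

end Cfsg.Agent.Lib.Helper28.Fi24Data
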