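import Cfsg.Agent.Lib.Helper28.Fi24Data
import Cfsg.Agent.Lib.Helper28.TCFastB

set_option autoImplicit false
set_option maxRecDepth 1000000
set_option linter.all false
set_option Elab.async false

namespace Cfsg.Agent.Lib.Helper28.Fi24Data

open Cfsg.Agent.Lib.Helper28B

theorem chkP_283975 : allRangeF (checkPointF cert) (nat_lit 283975) (nat_lit 25) = true := by decide +kernel
theorem chkP_284000 : allRangeF (checkPointF cert) (nat_lit 284000) (nat_lit 25) = true := by decide +kernel
theorem chkP_284025 : allRangeF (checkPointF cert) (nat_lit 284025) (nat_lit 25) = true := by decide +kernel
theorem chkP_284050 : allRangeF (checkPointF cert) (nat_lit 284050) (nat_lit 25) = true := by decide +kernel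
theorem chkP_284075 : allRangeF (checkPointF cert) (nat_lit 284075) (nat_lit 25) = true := by decide +kernel
theorem chkP_284100 : allRangeF (checkPointF cert) (nat_lit 284100) (nat_lit 25) = true := by decide +kernel
theorem chkP_284125 : allRangeF (checkPointF cert) (nat_lit 284125) (nat_lit 25) = true := by decide +kernel
theorem chkP_284150 : allRangeF (checkPointF cert) (nat_lit 284150) (nat_lit 25) = true := by decide +kernel
theorem chkP_284175 : allRangeF (checkPointF cert) (nat_lit 284175) (nat_lit 25) = true := by decide +kernel
theorem chkP_284200 : allRangeF (checkPointF cert) (nat_lit 284200) (nat_lit 25) = true := by decide +kernel
theorem chkP_284225 : allRangeF (checkPointF cert) (nat_lit 284225) (nat_lit 25) = true := by decide +kernel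
theorem chkP_284250 : allRangeF (checkPointF cert) (nat_lit 284250) (nat_lit 25) = true := by decide +kernel
theorem chkP_284275 : allRangeF (checkPointF cert) (nat_lit 284275) (nat_lit 25) = true := by decide +kernel
theorem chkP_284300 : allRangeF (checkPointF cert) (nat_lit 284300) (nat_lit 25) = true := by decide +kernel
theorem chkP_284325 : allRangeF (checkPointF cert) (nat_lit 284325) (nat_lit 25) = true := by decide +kernel
theorem chkP_284350 : allRangeF (checkPointF cert) (nat_lit 284350) (nat_lit 25) = true := by decide +kernel
theorem chkP_284375 : allRangeF (checkPointF cert) (nat_lit 284375) (nat_lit 25) = true := by decide +kernel
theorem chkP_284400 : allRangeF (checkPointF cert) (nat_lit 284400) (nat_lit 25) = true := by decide +kernel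
theorem chkP_284425 : allRangeF (checkPointF cert) (nat_lit 284425) (nat_lit 25) = true := by decide +kernel
theorem chkP_284450 : allRangeF (checkPointF cert) (nat_lit 284450) (nat_lit 25) = true := by decide +kernel
theorem chkP_284475 : allRangeF (checkPointF cert) (nat_lit 284475) (nat_lit 25) = true := by decide +kernel
theorem chkP_284500 : allRangeF (checkPointF cert) (nat_lit 284500) (nat_lit 25) = true := by decide +kernel
theorem chkP_284525 : allRangeF (checkPointF cert) (nat_lit 284525) (nat_lit 25) = true := by decide +kernel
theorem chkP_284550 : allRangeF (checkPointF cert) (nat_lit 284550) (nat_lit 25) = true := by decide +kernel
theorem chkP_284575 : allRangeF (checkPointF cert) (nat_lit 284575) (nat_lit 25) = true := by decide +kernel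
theorem chkP_284600 : allRangeF (checkPointF cert) (nat_lit 284600) (nat_lit 25) = true := by decide +kernel
theorem chkP_284625 : allRangeF (checkPointF cert) (nat_lit 284625) (nat_lit 25) = true := by decide +kernel
theorem chkP_284650 : allRangeF (checkPointF cert) (nat_lit 284650) (nat_lit 25) = true := by decide +kernel
theorem chkP_284675 : allRangeF (checkPointF cert) (nat_lit 284675) (nat_lit 25) = true := by decide +kernel
theorem chkP_284700 : allRangeF (checkPointF cert) (nat_lit 284700) (nat_lit 25) = true := by decide +kernel
theorem chkP_284725 : allRangeF (checkPointF cert) (nat_lit 284725) (nat_lit 25) = true := by decide +kernel
theorem chkP_284750 : allRangeF (checkPointF cert) (nat_lit 284750) (nat_lit 25) = true := by decide +kernel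
theorem chkP_284775 : allRangeF (checkPointF cert) (nat_lit 284775) (nat_lit 25) = true := by decide +kernel
theorem chkP_284800 : allRangeF (checkPointF cert) (nat_lit 284800) (nat_lit 25) = true := by decide +kernel
theorem chkP_284825 : allRangeF (checkPointF cert) (nat_lit 284825) (nat_lit 25) = true := by decide +kernel
theorem chkP_284850 : allRangeF (checkPointF cert) (nat_lit 284850) (nat_lit 25) = true := by decide +kernel
theorem chkP_284875 : allRangeF (checkPointF cert) (nat_lit 284875) (nat_lit 25) = true := by decide +kernel
theorem chkP_284900 : allRangeF (checkPointF cert) (nat_lit 284900) (nat_lit 25) = true := by decide +kernel
theorem chkP_284925 : allRangeF (checkPointF cert) (nat_lit 284925) (nat_lit 25) = true := by decide +kernel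
theorem chkP_284950 : allRangeF (checkPointF cert) (nat_lit 284950) (nat_lit 25) = true := by decide +kernel
theorem chkP_284975 : allRangeF (checkPointF cert) (nat_lit 284975) (nat_lit 25) = true := by decide +kernel
theorem chkP_285000 : allRangeF (checkPointF cert) (nat_lit 285000) (nat_lit 25) = true := by decide +kernel
theorem chkP_285025 : allRangeF (checkPointF cert) (nat_lit 285025) (nat_lit 25) = true := by decide +kernel
theorem chkP_285050 : allRangeF (checkPointF cert) (nat_lit 285050) (nat_lit 25) = true := by decide +kernel
theorem chkP_285075 : allRangeF (checkPointF cert) (nat_lit 285075) (nat_lit 25) = true := by decide +kernel
theorem chkP_285100 : allRangeF (checkPointF cert) (nat_lit 285100) (nat_lit 25) = true := by decide +kernel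
theorem chkP_285125 : allRangeF (checkPointF cert) (nat_lit 285125) (nat_lit 25) = true := by decide +kernel
theorem chkP_285150 : allRangeF (checkPointF cert) (nat_lit 285150) (nat_lit 25) = true := by decide +kernel
theorem chkP_285175 : allRangeF (checkPointF cert) (nat_lit 285175) (nat_lit 25) = true := by decide +kernel
theorem chkP_285200 : allRangeF (checkPointF cert) (nat_lit 285200) (nat_lit 25) = true := by decide +kernel
theorem chkP_285225 : allRangeF (checkPointF cert) (nat_lit 285225) (nat_lit 25) = true := by decide +kernel
theorem chkP_285250 : allRangeF (checkPointF cert) (nat_lit 285250) (nat_lit 25) = true := by decide +kernel
theorem chkP_285275 : allRangeF (checkPointF cert) (nat_lit 285275) (nat_lit 25) = true := by decide +kernel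
theorem chkP_285300 : allRangeF (checkPointF cert) (nat_lit 285300) (nat_lit 25) = true := by decide +kernel
theorem chkP_285325 : allRangeF (checkPointF cert) (nat_lit 285325) (nat_lit 25) = true := by decide +kernel
theorem chkP_285350 : allRangeF (checkPointF cert) (nat_lit 285350) (nat_lit 25) = true := by decide +kernel
theorem chkP_285375 : allRangeF (checkPointF cert) (nat_lit 285375) (nat_lit 25) = true := by decide +kernel
theorem chkP_285400 : allRangeF (checkPointF cert) (nat_lit 285400) (nat_lit 25) = true := by decide +kernel
theorem chkP_285425 : allRangeF (checkPointF cert) (nat_lit 285425) (nat_lit 25) = true := by decide +kernel
theorem chkP_285450 : allRangeF (checkPointF cert) (nat_lit 285450) (nat_lit 25) = true := by decide +kernel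
theorem chkP_285475 : allRangeF (checkPointF cert) (nat_lit 285475) (nat_lit 25) = true := by decide +kernel
theorem chkP_285500 : allRangeF (checkPointF cert) (nat_lit 285500) (nat_lit 25) = true := by decide +kernel
theorem chkP_285525 : allRangeF (checkPointF cert) (nat_lit 285525) (nat_lit 25) = true := by decide +kernel
theorem chkP_285550 : allRangeF (checkPointF cert) (nat_lit 285550) (nat_lit 25) = true := by decide +kernel
theorem chkP_285575 : allRangeF (checkPointF cert) (nat_lit 285575) (nat_lit 25) = true := by decide +kernel
theorem chkP_285600 : allRangeF (checkPointF cert) (nat_lit 285600) (nat_lit 25) = true := by decide +kernel
theorem chkP_285625 : allRangeF (checkPointF cert) (nat_lit 285625) (nat_lit 25) = true := by decide +kernel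
theorem chkP_285650 : allRangeF (checkPointF cert) (nat_lit 285650) (nat_lit 25) = true := by decide +kernel
theorem chkP_285675 : allRangeF (checkPointF cert) (nat_lit 285675) (nat_lit 25) = true := by decide +kernel
theorem chkP_285700 : allRangeF (checkPointF cert) (nat_lit 285700) (nat_lit 25) = true := by decide +kernel
theorem chkP_285725 : allRangeF (checkPointF cert) (nat_lit 285725) (nat_lit 25) = true := by decide +kernel
theorem chkP_285750 : allRangeF (checkPointF cert) (nat_lit 285750) (nat_lit 25) = true := by decide +kernel
theorem chkP_285775 : allRangeF (checkPointF cert) (nat_lit 285775) (nat_lit 25) = true := by decide +kernel
theorem chkP_285800 : allRangeF (checkPointF cert) (nat_lit 285800) (nat_lit 25) = true := by decide +kernel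
theorem chkP_285825 : allRangeF (checkPointF cert) (nat_lit 285825) (nat_lit 25) = true := by decide +kernel
theorem chkP_285850 : allRangeF (checkPointF cert) (nat_lit 285850) (nat_lit 25) = true := by decide +kernel
theorem chkP_285875 : allRangeF (checkPointF cert) (nat_lit 285875) (nat_lit 25) = true := by decide +kernel
theorem chkP_285900 : allRangeF (checkPointF cert) (nat_lit 285900) (nat_lit 25) = true := by decide +kernel
theorem chkP_285925 : allRangeF (checkPointF cert) (nat_lit 285925) (nat_lit 25) = true := by decide +kernel
theorem chkP_285950 : allRangeF (checkPointF cert) (nat_lit 285950) (nat_lit 25) = true := by decide +kernel
theorem chkP_285975 : allRangeF (checkPointF cert) (nat_lit 285975) (nat_lit 25) = true := by decide +kernel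
theorem chkP_286000 : allRangeF (checkPointF cert) (nat_lit 286000) (nat_lit 25) = true := by decide +kernel
theorem chkP_286025 : allRangeF (checkPointF cert) (nat_lit 286025) (nat_lit 25) = true := by decide +kernel
theorem chkP_286050 : allRangeF (checkPointF cert) (nat_lit 286050) (nat_lit 25) = true := by decide +kernel
theorem chkP_286075 : allRangeF (checkPointF cert) (nat_lit 286075) (nat_lit 25) = true := by decide +kernel
theorem chkP_286100 : allRangeF (checkPointF cert) (nat_lit 286100) (nat_lit 25) = true := by decide +kernel
theorem chkP_286125 : allRangeF (checkPointF cert) (nat_lit 286125) (nat_lit 25) = true := by decide +kernel
theorem chkP_286150 : allRangeF (checkPointF cert) (nat_lit 286150) (nat_lit 25) = true := by decide +kernel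
theorem chkP_286175 : allRangeF (checkPointF cert) (nat_lit 286175) (nat_lit 25) = true := by decide +kernel
theorem chkP_286200 : allRangeF (checkPointF cert) (nat_lit 286200) (nat_lit 25) = true := by decide +kernel
theorem chkP_286225 : allRangeF (checkPointF cert) (nat_lit 286225) (nat_lit 25) = true := by decide +kernel
theorem chkP_286250 : allRangeF (checkPointF cert) (nat_lit 286250) (nat_lit 25) = true := by decide +kernel
theorem chkP_286275 : allRangeF (checkPointF cert) (nat_lit 286275) (nat_lit 25) = true := by decide +kernel
theorem chkP_286300 : allRangeF (checkPointF cert) (nat_lit 286300) (nat_lit 25) = true := by decide +kernel
theorem chkP_286325 : allRangeF (checkPointF cert) (nat_lit 286325) (nat_lit 25) = true := by decide +kernel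
theorem chkP_286350 : allRangeF (checkPointF cert) (nat_lit 286350) (nat_lit 25) = true := by decide +kernel
theorem chkP_286375 : allRangeF (checkPointF cert) (nat_lit 286375) (nat_lit 25) = true := by decide +kernel
theorem chkP_286400 : allRangeF (checkPointF cert) (nat_lit 286400) (nat_lit 25) = true := by decide +kernel
theorem chkP_286425 : allRangeF (checkPointF cert) (nat_lit 286425) (nat_lit 25) = true := by decide +kernel
theorem chkP_286450 : allRangeF (checkPointF cert) (nat_lit 286450) (nat_lit 25) = true := by decide +kernel
theorem chkP_286475 : allRangeF (checkPointF cert) (nat_lit 286475) (nat_lit 25) = true := by decide +kernel
theorem chkP_286500 : allRangeF (checkPointF cert) (nat_lit 286500) (nat_lit 25) = true := by decide +kernel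
theorem chkP_286525 : allRangeF (checkPointF cert) (nat_lit 286525) (nat_lit 25) = true := by decide +kernel
theorem chkP_286550 : allRangeF (checkPointF cert) (nat_lit 286550) (nat_lit 25) = true := by decide +kernel
theorem chkP_286575 : allRangeF (checkPointF cert) (nat_lit 286575) (nat_lit 25) = true := by decide +kernel
theorem chkP_286600 : allRangeF (checkPointF cert) (nat_lit 286600) (nat_lit 25) = true := by decide +kernel
theorem chkP_286625 : allRangeF (checkPointF cert) (nat_lit 286625) (nat_lit 25) = true := by decide +kernel
theorem chkP_286650 : allRangeF (checkPointF cert) (nat_lit 286650) (nat_lit 25) = true := by decide +kernel
theorem chkP_286675 : allRangeF (checkPointF cert) (nat_lit 286675) (nat_lit 25) = true := by decide +kernel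
theorem chkP_286700 : allRangeF (checkPointF cert) (nat_lit 286700) (nat_lit 25) = true := by decide +kernel
theorem chkP_286725 : allRangeF (checkPointF cert) (nat_lit 286725) (nat_lit 25) = true := by decide +kernel
theorem chkP_286750 : allRangeF (checkPointF cert) (nat_lit 286750) (nat_lit 25) = true := by decide +kernel
theorem chkP_286775 : allRangeF (checkPointF cert) (nat_lit 286775) (nat_lit 25) = true := by decide +kernel
theorem chkP_286800 : allRangeF (checkPointF cert) (nat_lit 286800) (nat_lit 25) = true := by decide +kernel
theorem chkP_286825 : allRangeF (checkPointF cert) (nat_lit 286825) (nat_lit 25) = true := by decide +kernel
theorem chkP_286850 : allRangeF (checkPointF cert) (nat_lit 286850) (nat_lit 25) = true := by decide +kernel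
theorem chkP_286875 : allRangeF (checkPointF cert) (nat_lit 286875) (nat_lit 25) = true := by decide +kernel
theorem chkP_286900 : allRangeF (checkPointF cert) (nat_lit 286900) (nat_lit 25) = true := by decide +kernel
theorem chkP_286925 : allRangeF (checkPointF cert) (nat_lit 286925) (nat_lit 25) = true := by decide +kernel
theorem chkP_286950 : allRangeF (checkPointF cert) (nat_lit 286950) (nat_lit 25) = true := by decide +kernel
theorem chkP_286975 : allRangeF (checkPointF cert) (nat_lit 286975) (nat_lit 25) = true := by decide +kernel
theorem chkP_287000 : allRangeF (checkPointF cert) (nat_lit 287000) (nat_lit 25) = true := by decide +kernel
theorem chkP_287025 : allRangeF (checkPointF cert) (nat_lit 287025) (nat_lit 25) = true := by decide +kernel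
theorem chkP_287050 : allRangeF (checkPointF cert) (nat_lit 287050) (nat_lit 25) = true := by decide +kernel
theorem chkP_287075 : allRangeF (checkPointF cert) (nat_lit 287075) (nat_lit 25) = true := by decide +kernel
theorem chkP_287100 : allRangeF (checkPointF cert) (nat_lit 287100) (nat_lit 25) = true := by decide +kernel
theorem chkP_287125 : allRangeF (checkPointF cert) (nat_lit 287125) (nat_lit 25) = true := by decide +kernel
theorem chkP_287150 : allRangeF (checkPointF cert) (nat_lit 287150) (nat_lit 25) = true := by decide +kernel
theorem chkP_287175 : allRangeF (checkPointF cert) (nat_lit 287175) (nat_lit 25) = true := by decide +kernel
theorem chkP_287200 : allRangeF (checkPointF cert) (nat_lit 287200) (nat_lit 25) = true := by decide +kernel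
theorem chkP_287225 : allRangeF (checkPointF cert) (nat_lit 287225) (nat_lit 25) = true := by decide +kernel
theorem chkP_287250 : allRangeF (checkPointF cert) (nat_lit 287250) (nat_lit 25) = true := by decide +kernel
theorem chkP_287275 : allRangeF (checkPointF cert) (nat_lit 287275) (nat_lit 25) = true := by decide +kernel
theorem chkP_287300 : allRangeF (checkPointF cert) (nat_lit 287300) (nat_lit 25) = true := by decide +kernel
theorem chkP_287325 : allRangeF (checkPointF cert) (nat_lit 287325) (nat_lit 25) = true := by decide +kernel
theorem chkP_287350 : allRangeF (checkPointF cert) (nat_lit 287350) (nat_lit 25) = true := by decide +kernel
theorem chkP_287375 : allRangeF (checkPointF cert) (nat_lit 287375) (nat_lit 25) = true := by decide +kernel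
theorem chkP_287400 : allRangeF (checkPointF cert) (nat_lit 287400) (nat_lit 25) = true := by decide +kernel
theorem chkP_287425 : allRangeF (checkPointF cert) (nat_lit 287425) (nat_lit 25) = true := by decide +kernel
theorem chkP_287450 : allRangeF (checkPointF cert) (nat_lit 287450) (nat_lit 25) = true := by decide +kernel
theorem chkP_287475 : allRangeF (checkPointF cert) (nat_lit 287475) (nat_lit 25) = true := by decide +kernel
theorem chkP_287500 : allRangeF (checkPointF cert) (nat_lit 287500) (nat_lit 25) = true := by decide +kernel
theorem chkP_287525 : allRangeF (checkPointF cert) (nat_lit 287525) (nat_lit 25) = true := by decide +kernel
theorem chkP_287550 : allRangeF (checkPointF cert) (nat_lit 287550) (nat_lit 25) = true := by decide +kernel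
theorem chkP_287575 : allRangeF (checkPointF cert) (nat_lit 287575) (nat_lit 25) = true := by decide +kernel
theorem chkP_287600 : allRangeF (checkPointF cert) (nat_lit 287600) (nat_lit 25) = true := by decide +kernel
theorem chkP_287625 : allRangeF (checkPointF cert) (nat_lit 287625) (nat_lit 25) = true := by decide +kernel
theorem chkP_287650 : allRangeF (checkPointF cert) (nat_lit 287650) (nat_lit 25) = true := by decide +kernel
theorem chkP_287675 : allRangeF (checkPointF cert) (nat_lit 287675) (nat_lit 25) = true := by decide +kernel
theorem chkP_287700 : allRangeF (checkPointF cert) (nat_lit 287700) (nat_lit 25) = true := by decide +kernel
theorem chkP_287725 : allRangeF (checkPointF cert) (nat_lit 287725) (nat_lit 25) = true := by decide +kernel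
theorem chkP_287750 : allRangeF (checkPointF cert) (nat_lit 287750) (nat_lit 25) = true := by decide +kernel
theorem chkP_287775 : allRangeF (checkPointF cert) (nat_lit 287775) (nat_lit 25) = true := by decide +kernel
theorem chkP_287800 : allRangeF (checkPointF cert) (nat_lit 287800) (nat_lit 25) = true := by decide +kernel
theorem chkP_287825 : allRangeF (checkPointF cert) (nat_lit 287825) (nat_lit 25) = true := by decide +kernel
theorem chkP_287850 : allRangeF (checkPointF cert) (nat_lit 287850) (nat_lit 25) = true := by decide +kernel
theorem chkP_287875 : allRangeF (checkPointF cert) (nat_lit 287875) (nat_lit 25) = true := by decide +kernel
theorem chkP_287900 : allRangeF (checkPointF cert) (nat_lit 287900) (nat_lit 25) = true := by decide +kernel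
theorem chkP_287925 : allRangeF (checkPointF cert) (nat_lit 287925) (nat_lit 25) = true := by decide +kernel
theorem chkP_287950 : allRangeF (checkPointF cert) (nat_lit 287950) (nat_lit 25) = true := by decide +kernel
theorem chkP_287975 : allRangeF (checkPointF cert) (nat_lit 287975) (nat_lit 25) = true := by decide +kernel
theorem chkP_288000 : allRangeF (checkPointF cert) (nat_lit 288000) (nat_lit 25) = true := by decide +kernel
theorem chkP_288025 : allRangeF (checkPointF cert) (nat_lit 288025) (nat_lit 25) = true := by decide +kernel
theorem chkP_288050 : allRangeF (checkPointF cert) (nat_lit 288050) (nat_lit 25) = true := by decide +kernel
theorem chkP_288075 : allRangeF (checkPointF cert) (nat_lit 288075) (nat_lit 25) = true := by decide +kernel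
theorem chkP_288100 : allRangeF (checkPointF cert) (nat_lit 288100) (nat_lit 25) = true := by decide +kernel
theorem chkP_288125 : allRangeF (checkPointF cert) (nat_lit 288125) (nat_lit 25) = true := by decide +kernel
theorem chkP_288150 : allRangeF (checkPointF cert) (nat_lit 288150) (nat_lit 25) = true := by decide +kernel
theorem chkP_288175 : allRangeF (checkPointF cert) (nat_lit 288175) (nat_lit 25) = true := by decide +kernel
theorem chkP_288200 : allRangeF (checkPointF cert) (nat_lit 288200) (nat_lit 25) = true := by decide +kernel
theorem chkP_288225 : allRangeF (checkPointF cert) (nat_lit 288225) (nat_lit 25) = true := by decide +kernel
theorem chkP_288250 : allRangeF (checkPointF cert) (nat_lit 288250) (nat_lit 25) = true := by decide +kernel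
theorem chkP_288275 : allRangeF (checkPointF cert) (nat_lit 288275) (nat_lit 25) = true := by decide +kernel
theorem chkP_288300 : allRangeF (checkPointF cert) (nat_lit 288300) (nat_lit 25) = true := by decide +kernel
theorem chkP_288325 : allRangeF (checkPointF cert) (nat_lit 288325) (nat_lit 25) = true := by decide +kernel
theorem chkP_288350 : allRangeF (checkPointF cert) (nat_lit 288350) (nat_lit 25) = true := by decide +kernel
theorem chkP_288375 : allRangeF (checkPointF cert) (nat_lit 288375) (nat_lit 25) = true := by decide +kernel
theorem chkP_288400 : allRangeF (checkPointF cert) (nat_lit 288400) (nat_lit 25) = true := by decide +kernel
theorem chkP_288425 : allRangeF (checkPointF cert) (nat_lit 288425) (nat_lit 25) = true := by decide +kernel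
theorem chkP_288450 : allRangeF (checkPointF cert) (nat_lit 288450) (nat_lit 25) = true := by decide +kernel
theorem chkP_288475 : allRangeF (checkPointF cert) (nat_lit 288475) (nat_lit 25) = true := by decide +kernel
theorem chkP_288500 : allRangeF (checkPointF cert) (nat_lit 288500) (nat_lit 25) = true := by decide +kernel
theorem chkP_288525 : allRangeF (checkPointF cert) (nat_lit 288525) (nat_lit 25) = true := by decide +kernel
theorem chkP_288550 : allRangeF (checkPointF cert) (nat_lit 288550) (nat_lit 25) = true := by decide +kernel
theorem chkP_288575 : allRangeF (checkPointF cert) (nat_lit 288575) (nat_lit 25) = true := by decide +kernel
theorem chkP_288600 : allRangeF (checkPointF cert) (nat_lit 288600) (nat_lit 25) = true := by decide +kernel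
theorem chkP_288625 : allRangeF (checkPointF cert) (nat_lit 288625) (nat_lit 25) = true := by decide +kernel
theorem chkP_288650 : allRangeF (checkPointF cert) (nat_lit 288650) (nat_lit 25) = true := by decide +kernel
theorem chkP_288675 : allRangeF (checkPointF cert) (nat_lit 288675) (nat_lit 25) = true := by decide +kernel
theorem chkP_288700 : allRangeF (checkPointF cert) (nat_lit 288700) (nat_lit 25) = true := by decide +kernel
theorem chkP_288725 : allRangeF (checkPointF cert) (nat_lit 288725) (nat_lit 25) = true := by decide +kernel
theorem chkP_288750 : allRangeF (checkPointF cert) (nat_lit 288750) (nat_lit 25) = true := by decide +kernel
theorem chkP_288775 : allRangeF (checkPointF cert) (nat_lit 288775) (nat_lit 25) = true := by decide +kernel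
theorem chkP_288800 : allRangeF (checkPointF cert) (nat_lit 288800) (nat_lit 25) = true := by decide +kernel
theorem chkP_288825 : allRangeF (checkPointF cert) (nat_lit 288825) (nat_lit 25) = true := by decide +kernel
theorem chkP_288850 : allRangeF (checkPointF cert) (nat_lit 288850) (nat_lit 25) = true := by decide +kernel
theorem chkP_288875 : allRangeF (checkPointF cert) (nat_lit 288875) (nat_lit 25) = true := by decide +kernel
theorem chkP_288900 : allRangeF (checkPointF cert) (nat_lit 288900) (nat_lit 25) = true := by decide +kernel
theorem chkP_288925 : allRangeF (checkPointF cert) (nat_lit 288925) (nat_lit 25) = true := by decide +kernel
theorem chkP_288950 : allRangeF (checkPointF cert) (nat_lit 288950) (nat_lit 25) = true := by decide +kernel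
theorem chkP_288975 : allRangeF (checkPointF cert) (nat_lit 288975) (nat_lit 25) = true := by decide +kernel
theorem chkP_289000 : allRangeF (checkPointF cert) (nat_lit 289000) (nat_lit 25) = true := by decide +kernel
theorem chkP_289025 : allRangeF (checkPointF cert) (nat_lit 289025) (nat_lit 25) = true := by decide +kernel
theorem chkP_289050 : allRangeF (checkPointF cert) (nat_lit 289050) (nat_lit 25) = true := by decide +kernel
theorem chkP_289075 : allRangeF (checkPointF cert) (nat_lit 289075) (nat_lit 25) = true := by decide +kernel
theorem chkP_289100 : allRangeF (checkPointF cert) (nat_lit 289100) (nat_lit 25) = true := by decide +kernel
theorem chkP_289125 : allRangeF (checkPointF cert) (nat_lit 289125) (nat_lit 25) = true := by decide +kernel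
theorem chkP_289150 : allRangeF (checkPointF cert) (nat_lit 289150) (nat_lit 25) = true := by decide +kernel
theorem chkP_289175 : allRangeF (checkPointF cert) (nat_lit 289175) (nat_lit 25) = true := by decide +kernel
theorem chkP_289200 : allRangeF (checkPointF cert) (nat_lit 289200) (nat_lit 25) = true := by decide +kernel
theorem chkP_289225 : allRangeF (checkPointF cert) (nat_lit 289225) (nat_lit 25) = true := by decide +kernel
theorem chkP_289250 : allRangeF (checkPointF cert) (nat_lit 289250) (nat_lit 25) = true := by decide +kernel
theorem chkP_289275 : allRangeF (checkPointF cert) (nat_lit 289275) (nat_lit 25) = true := by decide +kernel
theorem chkP_289300 : allRangeF (checkPointF cert) (nat_lit 289300) (nat_lit 25) = true := by decide +kernel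
theorem chkP_289325 : allRangeF (checkPointF cert) (nat_lit 289325) (nat_lit 25) = true := by decide +kernel
theorem chkP_289350 : allRangeF (checkPointF cert) (nat_lit 289350) (nat_lit 25) = true := by decide +kernel
theorem chkP_289375 : allRangeF (checkPointF cert) (nat_lit 289375) (nat_lit 25) = true := by decide +kernel
theorem chkP_289400 : allRangeF (checkPointF cert) (nat_lit 289400) (nat_lit 25) = true := by decide +kernel
theorem chkP_289425 : allRangeF (checkPointF cert) (nat_lit 289425) (nat_lit 25) = true := by decide +kernel
theorem chkP_289450 : allRangeF (checkPointF cert) (nat_lit 289450) (nat_lit 25) = true := by decide +kernel
theorem chkP_289475 : allRangeF (checkPointF cert) (nat_lit 289475) (nat_lit 25) = true := by decide +kernel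
theorem chkP_289500 : allRangeF (checkPointF cert) (nat_lit 289500) (nat_lit 25) = true := by decide +kernel
theorem chkP_289525 : allRangeF (checkPointF cert) (nat_lit 289525) (nat_lit 25) = true := by decide +kernel
theorem chkP_289550 : allRangeF (checkPointF cert) (nat_lit 289550) (nat_lit 25) = true := by decide +kernel
theorem chkP_289575 : allRangeF (checkPointF cert) (nat_lit 289575) (nat_lit 25) = true := by decide +kernel
theorem chkP_289600 : allRangeF (checkPointF cert) (nat_lit 289600) (nat_lit 25) = true := by decide +kernel
theorem chkP_289625 : allRangeF (checkPointF cert) (nat_lit 289625) (nat_lit 25) = true := by decide +kernel
theorem chkP_289650 : allRangeF (checkPointF cert) (nat_lit 289650) (nat_lit 25) = true := by decide +kernel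
theorem chkP_289675 : allRangeF (checkPointF cert) (nat_lit 289675) (nat_lit 25) = true := by decide +kernel
theorem chkP_289700 : allRangeF (checkPointF cert) (nat_lit 289700) (nat_lit 25) = true := by decide +kernel
theorem chkP_289725 : allRangeF (checkPointF cert) (nat_lit 289725) (nat_lit 25) = true := by decide +kernel
theorem chkP_289750 : allRangeF (checkPointF cert) (nat_lit 289750) (nat_lit 25) = true := by decide +kernel
theorem chkP_289775 : allRangeF (checkPointF cert) (nat_lit 289775) (nat_lit 25) = true := by decide +kernel
theorem chkP_289800 : allRangeF (checkPointF cert) (nat_lit 289800) (nat_lit 25) = true := by decide +kernel
theorem chkP_289825 : allRangeF (checkPointF cert) (nat_lit 289825) (nat_lit 25) = true := by decide +kernel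
theorem chkP_289850 : allRangeF (checkPointF cert) (nat_lit 289850) (nat_lit 25) = true := by decide +kernel
theorem chkP_289875 : allRangeF (checkPointF cert) (nat_lit 289875) (nat_lit 25) = true := by decide +kernel
theorem chkP_289900 : allRangeF (checkPointF cert) (nat_lit 289900) (nat_lit 25) = true := by decide +kernel
theorem chkP_289925 : allRangeF (checkPointF cert) (nat_lit 289925) (nat_lit 25) = true := by decide +kernel
theorem chkP_289950 : allRangeF (checkPointF cert) (nat_lit 289950) (nat_lit 25) = true := by decide +kernel
theorem chkP_289975 : allRangeF (checkPointF cert) (nat_lit 289975) (nat_lit 25) = true := by decide +kernel
theorem chkP_290000 : allRangeF (checkPointF cert) (nat_lit 290000) (nat_lit 25) = true := by decide +kernel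
theorem chkP_290025 : allRangeF (checkPointF cert) (nat_lit 290025) (nat_lit 25) = true := by decide +kernel
theorem chkP_290050 : allRangeF (checkPointF cert) (nat_lit 290050) (nat_lit 25) = true := by decide +kernel
theorem chkP_290075 : allRangeF (checkPointF cert) (nat_lit 290075) (nat_lit 25) = true := by decide +kernel
theorem chkP_290100 : allRangeF (checkPointF cert) (nat_lit 290100) (nat_lit 25) = true := by decide +kernel
theorem chkP_290125 : allRangeF (checkPointF cert) (nat_lit 290125) (nat_lit 25) = true := by decide +kernel
theorem chkP_290150 : allRangeF (checkPointF cert) (nat_lit 290150) (nat_lit 25) = true := by decide +kernel
theorem chkP_290175 : allRangeF (checkPointF cert) (nat_lit 290175) (nat_lit 25) = true := by decide +kernel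
theorem chkP_290200 : allRangeF (checkPointF cert) (nat_lit 290200) (nat_lit 25) = true := by decide +kernel
theorem chkP_290225 : allRangeF (checkPointF cert) (nat_lit 290225) (nat_lit 25) = true := by decide +kernel
theorem chkP_290250 : allRangeF (checkPointF cert) (nat_lit 290250) (nat_lit 25) = true := by decide +kernel
theorem chkP_290275 : allRangeF (checkPointF cert) (nat_lit 290275) (nat_lit 25) = true := by decide +kernel
theorem chkP_290300 : allRangeF (checkPointF cert) (nat_lit 290300) (nat_lit 25) = true := by decide +kernel
theorem chkP_290325 : allRangeF (checkPointF cert) (nat_lit 290325) (nat_lit 25) = true := by decide +kernel
theorem chkP_290350 : allRangeF (checkPointF cert) (nat_lit 290350) (nat_lit 25) = true := by decide +kernel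
theorem chkP_290375 : allRangeF (checkPointF cert) (nat_lit 290375) (nat_lit 25) = true := by decide +kernel
theorem chkP_290400 : allRangeF (checkPointF cert) (nat_lit 290400) (nat_lit 25) = true := by decide +kernel
theorem chkP_290425 : allRangeF (checkPointF cert) (nat_lit 290425) (nat_lit 25) = true := by decide +kernel
theorem chkP_290450 : allRangeF (checkPointF cert) (nat_lit 290450) (nat_lit 25) = true := by decide +kernel
theorem chkP_290475 : allRangeF (checkPointF cert) (nat_lit 290475) (nat_lit 25) = true := by decide +kernel
theorem chkP_290500 : allRangeF (checkPointF cert) (nat_lit 290500) (nat_lit 25) = true := by decide +kernel
theorem chkP_290525 : allRangeF (checkPointF cert) (nat_lit 290525) (nat_lit 25) = true := by decide +kernel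
theorem chkP_290550 : allRangeF (checkPointF cert) (nat_lit 290550) (nat_lit 25) = true := by decide +kernel
theorem chkP_290575 : allRangeF (checkPointF cert) (nat_lit 290575) (nat_lit 25) = true := by decide +kernel
theorem chkP_290600 : allRangeF (checkPointF cert) (nat_lit 290600) (nat_lit 25) = true := by decide +kernel
theorem chkP_290625 : allRangeF (checkPointF cert) (nat_lit 290625) (nat_lit 25) = true := by decide +kernel
theorem chkP_290650 : allRangeF (checkPointF cert) (nat_lit 290650) (nat_lit 25) = true := by decide +kernel
theorem chkP_290675 : allRangeF (checkPointF cert) (nat_lit 290675) (nat_lit 25) = true := by decide +kernel
theorem chkP_290700 : allRangeF (checkPointF cert) (nat_lit 290700) (nat_lit 25) = true := by decide +kernel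
theorem chkP_290725 : allRangeF (checkPointF cert) (nat_lit 290725) (nat_lit 25) = true := by decide +kernel
theorem chkP_290750 : allRangeF (checkPointF cert) (nat_lit 290750) (nat_lit 25) = true := by decide +kernel
theorem chkP_290775 : allRangeF (checkPointF cert) (nat_lit 290775) (nat_lit 25) = true := by decide +kernel
theorem chkP_290800 : allRangeF (checkPointF cert) (nat_lit 290800) (nat_lit 25) = true := by decide +kernel
theorem chkP_290825 : allRangeF (checkPointF cert) (nat_lit 290825) (nat_lit 25) = true := by decide +kernel
theorem chkP_290850 : allRangeF (checkPointF cert) (nat_lit 290850) (nat_lit 25) = true := by decide +kernel
theorem chkP_290875 : allRangeF (checkPointF cert) (nat_lit 290875) (nat_lit 25) = true := by decide +kernel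
theorem chkP_290900 : allRangeF (checkPointF cert) (nat_lit 290900) (nat_lit 25) = true := by decide +kernel
theorem chkP_290925 : allRangeF (checkPointF cert) (nat_lit 290925) (nat_lit 25) = true := by decide +kernel
theorem chkP_290950 : allRangeF (checkPointF cert) (nat_lit 290950) (nat_lit 25) = true := by decide +kernel
theorem chkP_290975 : allRangeF (checkPointF cert) (nat_lit 290975) (nat_lit 25) = true := by decide +kernel
theorem chkP_291000 : allRangeF (checkPointF cert) (nat_lit 291000) (nat_lit 25) = true := by decide +kernel
theorem chkP_291025 : allRangeF (checkPointF cert) (nat_lit 291025) (nat_lit 25) = true := by decide +kernel
theorem chkP_291050 : allRangeF (checkPointF cert) (nat_lit 291050) (nat_lit 25) = true := by decide +kernel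
theorem chkP_291075 : allRangeF (checkPointF cert) (nat_lit 291075) (nat_lit 25) = true := by decide +kernel
theorem chkP_291100 : allRangeF (checkPointF cert) (nat_lit 291100) (nat_lit 25) = true := by decide +kernel
theorem chkP_291125 : allRangeF (checkPointF cert) (nat_lit 291125) (nat_lit 25) = true := by decide +kernel
theorem chkP_291150 : allRangeF (checkPointF cert) (nat_lit 291150) (nat_lit 25) = true := by decide +kernel
theorem chkP_291175 : allRangeF (checkPointF cert) (nat_lit 291175) (nat_lit 25) = true := by decide +kernel
theorem chkP_291200 : allRangeF (checkPointF cert) (nat_lit 291200) (nat_lit 25) = true := by decide +kernel
theorem chkP_291225 : allRangeF (checkPointF cert) (nat_lit 291225) (nat_lit 25) = true := by decide +kernel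
theorem chkP_291250 : allRangeF (checkPointF cert) (nat_lit 291250) (nat_lit 25) = true := by decide +kernel
theorem chkP_291275 : allRangeF (checkPointF cert) (nat_lit 291275) (nat_lit 25) = true := by decide +kernel
theorem chkP_291300 : allRangeF (checkPointF cert) (nat_lit 291300) (nat_lit 25) = true := by decide +kernel
theorem chkP_291325 : allRangeF (checkPointF cert) (nat_lit 291325) (nat_lit 25) = true := by decide +kernel
theorem chkP_291350 : allRangeF (checkPointF cert) (nat_lit 291350) (nat_lit 25) = true := by decide +kernel
theorem chkP_291375 : allRangeF (checkPointF cert) (nat_lit 291375) (nat_lit 25) = true := by decide +kernel
theorem chkP_291400 : allRangeF (checkPointF cert) (nat_lit 291400) (nat_lit 25) = true := by decide +kernel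
theorem chkP_291425 : allRangeF (checkPointF cert) (nat_lit 291425) (nat_lit 25) = true := by decide +kernel
theorem chkP_291450 : allRangeF (checkPointF cert) (nat_lit 291450) (nat_lit 25) = true := by decide +kernel
theorem chkP_291475 : allRangeF (checkPointF cert) (nat_lit 291475) (nat_lit 25) = true := by decide +kernel
theorem chkP_291500 : allRangeF (checkPointF cert) (nat_lit 291500) (nat_lit 25) = true := by decide +kernel
theorem chkP_291525 : allRangeF (checkPointF cert) (nat_lit 291525) (nat_lit 25) = true := by decide +kernel
theorem chkP_291550 : allRangeF (checkPointF cert) (nat_lit 291550) (nat_lit 25) = true := by decide +kernel
theorem chkP_291575 : allRangeF (checkPointF cert) (nat_lit 291575) (nat_lit 25) = true := by decide +kernel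
theorem chkP_291600 : allRangeF (checkPointF cert) (nat_lit 291600) (nat_lit 25) = true := by decide +kernel
theorem chkP_291625 : allRangeF (checkPointF cert) (nat_lit 291625) (nat_lit 25) = true := by decide +kernel

theorem ptsRange_37 : ∀ i, 283975 ≤ i → i < 291650 → checkPoint cert i = true := by
  intro i hlo hhi
  rcases Nat.lt_or_ge i 287800 with h1 | h1
  · skip
    rcases Nat.lt_or_ge i 285875 with h2 | h2
    · skip
      rcases Nat.lt_or_ge i 284925 with h3 | h3
      · skip
        rcases Nat.lt_or_ge i 284450 with h4 | h4
        · skip
          rcases Nat.lt_or_ge i 284200 with h5 | h5
          · skip
            rcases Nat.lt_or_ge i 284075 with h6 | h6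
            · skip
              rcases Nat.lt_or_ge i 284025 with h7 | h7
              · skip
                rcases Nat.lt_or_ge i 284000 with h8 | h8
                · skip
                  exact allRangeF_sound _ _ (checkPointF_eq cert) 283975 25 chkP_283975 i (by omega) (by omega)
                · skip
                  exact allRangeF_sound _ _ (checkPointF_eq cert) 284000 25 chkP_284000 i (by omega) (by omega)
              · skip
                rcases Nat.lt_or_ge i 284050 with h8 | h8
                · skip
                  exact allRangeF_sound _ _ (checkPointF_eq cert) 284025 25 chkP_284025 i (by omega) (by omega)
                · skip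
                  exact allRangeF_sound _ _ (checkPointF_eq cert) 284050 25 chkP_284050 i (by omega) (by omega)
            · skip
              rcases Nat.lt_or_ge i 284125 with h7 | h7
              · skip
                rcases Nat.lt_or_ge i 284100 with h8 | h8
                · skip
                  exact allRangeF_sound _ _ (checkPointF_eq cert) 284075 25 chkP_284075 i (by omega) (by omega)
                · skip
                  exact allRangeF_sound _ _ (checkPointF_eq cert) 284100 25 chkP_284100 i (by omega) (by omega)
              · skip
                rcases Nat.lt_or_ge i 284150 with h8 | h8
                · skip
                  exact allRangeF_sound _ _ (checkPointF_eq cert) 284125 25 chkP_284125 i (by omega) (by omega)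
                · skip
                  rcases Nat.lt_or_ge i 284175 with h9 | h9
                  · skip
                    exact allRangeF_sound _ _ (checkPointF_eq cert) 284150 25 chkP_284150 i (by omega) (by omega)
                  · skip
                    exact allRangeF_sound _ _ (checkPointF_eq cert) 284175 25 chkP_284175 i (by omega) (by omega)
          · skip
            rcases Nat.lt_or_ge i 284325 with h6 | h6
            · skip
              rcases Nat.lt_or_ge i 284250 with h7 | h7
              · skip
                rcases Nat.lt_or_ge i 284225 with h8 | h8
                · skip
                  exact allRangeF_sound _ _ (checkPointF_eq cert) 284200 25 chkP_284200 i (by omega) (by omega)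
                · skip
                  exact allRangeF_sound _ _ (checkPointF_eq cert) 284225 25 chkP_284225 i (by omega) (by omega)
              · skip
                rcases Nat.lt_or_ge i 284275 with h8 | h8
                · skip
                  exact allRangeF_sound _ _ (checkPointF_eq cert) 284250 25 chkP_284250 i (by omega) (by omega)
                · skip
                  rcases Nat.lt_or_ge i 284300 with h9 | h9
                  · skip
                    exact allRangeF_sound _ _ (checkPointF_eq cert) 284275 25 chkP_284275 i (by omega) (by omega)
                  · skip
                    exact allRangeF_sound _ _ (checkPointF_eq cert) 284300 25 chkP_284300 i (by omega) (by omega)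
            · skip
              rcases Nat.lt_or_ge i 284375 with h7 | h7
              · skip
                rcases Nat.lt_or_ge i 284350 with h8 | h8
                · skip
                  exact allRangeF_sound _ _ (checkPointF_eq cert) 284325 25 chkP_284325 i (by omega) (by omega)
                · skip
                  exact allRangeF_sound _ _ (checkPointF_eq cert) 284350 25 chkP_284350 i (by omega) (by omega)
              · skip
                rcases Nat.lt_or_ge i 284400 with h8 | h8
                · skip
                  exact allRangeF_sound _ _ (checkPointF_eq cert) 284375 25 chkP_284375 i (by omega) (by omega)
                · skip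
                  rcases Nat.lt_or_ge i 284425 with h9 | h9
                  · skip
                    exact allRangeF_sound _ _ (checkPointF_eq cert) 284400 25 chkP_284400 i (by omega) (by omega)
                  · skip
                    exact allRangeF_sound _ _ (checkPointF_eq cert) 284425 25 chkP_284425 i (by omega) (by omega)
        · skip
          rcases Nat.lt_or_ge i 284675 with h5 | h5
          · skip
            rcases Nat.lt_or_ge i 284550 with h6 | h6
            · skip
              rcases Nat.lt_or_ge i 284500 with h7 | h7
              · skip
                rcases Nat.lt_or_ge i 284475 with h8 | h8
                · skip
                  exact allRangeF_sound _ _ (checkPointF_eq cert) 284450 25 chkP_284450 i (by omega) (by omega)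
                · skip
                  exact allRangeF_sound _ _ (checkPointF_eq cert) 284475 25 chkP_284475 i (by omega) (by omega)
              · skip
                rcases Nat.lt_or_ge i 284525 with h8 | h8
                · skip
                  exact allRangeF_sound _ _ (checkPointF_eq cert) 284500 25 chkP_284500 i (by omega) (by omega)
                · skip
                  exact allRangeF_sound _ _ (checkPointF_eq cert) 284525 25 chkP_284525 i (by omega) (by omega)
            · skip
              rcases Nat.lt_or_ge i 284600 with h7 | h7
              · skip
                rcases Nat.lt_or_ge i 284575 with h8 | h8
                · skip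
                  exact allRangeF_sound _ _ (checkPointF_eq cert) 284550 25 chkP_284550 i (by omega) (by omega)
                · skip
                  exact allRangeF_sound _ _ (checkPointF_eq cert) 284575 25 chkP_284575 i (by omega) (by omega)
              · skip
                rcases Nat.lt_or_ge i 284625 with h8 | h8
                · skip
                  exact allRangeF_sound _ _ (checkPointF_eq cert) 284600 25 chkP_284600 i (by omega) (by omega)
                · skip
                  rcases Nat.lt_or_ge i 284650 with h9 | h9
                  · skip
                    exact allRangeF_sound _ _ (checkPointF_eq cert) 284625 25 chkP_284625 i (by omega) (by omega)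
                  · skip
                    exact allRangeF_sound _ _ (checkPointF_eq cert) 284650 25 chkP_284650 i (by omega) (by omega)
          · skip
            rcases Nat.lt_or_ge i 284800 with h6 | h6
            · skip
              rcases Nat.lt_or_ge i 284725 with h7 | h7
              · skip
                rcases Nat.lt_or_ge i 284700 with h8 | h8
                · skip
                  exact allRangeF_sound _ _ (checkPointF_eq cert) 284675 25 chkP_284675 i (by omega) (by omega)
                · skip
                  exact allRangeF_sound _ _ (checkPointF_eq cert) 284700 25 chkP_284700 i (by omega) (by omega)
              · skip
                rcases Nat.lt_or_ge i 284750 with h8 | h8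
                · skip
                  exact allRangeF_sound _ _ (checkPointF_eq cert) 284725 25 chkP_284725 i (by omega) (by omega)
                · skip
                  rcases Nat.lt_or_ge i 284775 with h9 | h9
                  · skip
                    exact allRangeF_sound _ _ (checkPointF_eq cert) 284750 25 chkP_284750 i (by omega) (by omega)
                  · skip
                    exact allRangeF_sound _ _ (checkPointF_eq cert) 284775 25 chkP_284775 i (by omega) (by omega)
            · skip
              rcases Nat.lt_or_ge i 284850 with h7 | h7
              · skip
                rcases Nat.lt_or_ge i 284825 with h8 | h8
                · skip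
                  exact allRangeF_sound _ _ (checkPointF_eq cert) 284800 25 chkP_284800 i (by omega) (by omega)
                · skip
                  exact allRangeF_sound _ _ (checkPointF_eq cert) 284825 25 chkP_284825 i (by omega) (by omega)
              · skip
                rcases Nat.lt_or_ge i 284875 with h8 | h8
                · skip
                  exact allRangeF_sound _ _ (checkPointF_eq cert) 284850 25 chkP_284850 i (by omega) (by omega)
                · skip
                  rcases Nat.lt_or_ge i 284900 with h9 | h9
                  · skip
                    exact allRangeF_sound _ _ (checkPointF_eq cert) 284875 25 chkP_284875 i (by omega) (by omega)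
                  · skip
                    exact allRangeF_sound _ _ (checkPointF_eq cert) 284900 25 chkP_284900 i (by omega) (by omega)
      · skip
        rcases Nat.lt_or_ge i 285400 with h4 | h4
        · skip
          rcases Nat.lt_or_ge i 285150 with h5 | h5
          · skip
            rcases Nat.lt_or_ge i 285025 with h6 | h6
            · skip
              rcases Nat.lt_or_ge i 284975 with h7 | h7
              · skip
                rcases Nat.lt_or_ge i 284950 with h8 | h8
                · skip
                  exact allRangeF_sound _ _ (checkPointF_eq cert) 284925 25 chkP_284925 i (by omega) (by omega)
                · skip
                  exact allRangeF_sound _ _ (checkPointF_eq cert) 284950 25 chkP_284950 i (by omega) (by omega)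
              · skip
                rcases Nat.lt_or_ge i 285000 with h8 | h8
                · skip
                  exact allRangeF_sound _ _ (checkPointF_eq cert) 284975 25 chkP_284975 i (by omega) (by omega)
                · skip
                  exact allRangeF_sound _ _ (checkPointF_eq cert) 285000 25 chkP_285000 i (by omega) (by omega)
            · skip
              rcases Nat.lt_or_ge i 285075 with h7 | h7
              · skip
                rcases Nat.lt_or_ge i 285050 with h8 | h8
                · skip
                  exact allRangeF_sound _ _ (checkPointF_eq cert) 285025 25 chkP_285025 i (by omega) (by omega)
                · skip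
                  exact allRangeF_sound _ _ (checkPointF_eq cert) 285050 25 chkP_285050 i (by omega) (by omega)
              · skip
                rcases Nat.lt_or_ge i 285100 with h8 | h8
                · skip
                  exact allRangeF_sound _ _ (checkPointF_eq cert) 285075 25 chkP_285075 i (by omega) (by omega)
                · skip
                  rcases Nat.lt_or_ge i 285125 with h9 | h9
                  · skip
                    exact allRangeF_sound _ _ (checkPointF_eq cert) 285100 25 chkP_285100 i (by omega) (by omega)
                  · skip
                    exact allRangeF_sound _ _ (checkPointF_eq cert) 285125 25 chkP_285125 i (by omega) (by omega)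
          · skip
            rcases Nat.lt_or_ge i 285275 with h6 | h6
            · skip
              rcases Nat.lt_or_ge i 285200 with h7 | h7
              · skip
                rcases Nat.lt_or_ge i 285175 with h8 | h8
                · skip
                  exact allRangeF_sound _ _ (checkPointF_eq cert) 285150 25 chkP_285150 i (by omega) (by omega)
                · skip
                  exact allRangeF_sound _ _ (checkPointF_eq cert) 285175 25 chkP_285175 i (by omega) (by omega)
              · skip
                rcases Nat.lt_or_ge i 285225 with h8 | h8
                · skip
                  exact allRangeF_sound _ _ (checkPointF_eq cert) 285200 25 chkP_285200 i (by omega) (by omega)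
                · skip
                  rcases Nat.lt_or_ge i 285250 with h9 | h9
                  · skip
                    exact allRangeF_sound _ _ (checkPointF_eq cert) 285225 25 chkP_285225 i (by omega) (by omega)
                  · skip
                    exact allRangeF_sound _ _ (checkPointF_eq cert) 285250 25 chkP_285250 i (by omega) (by omega)
            · skip
              rcases Nat.lt_or_ge i 285325 with h7 | h7
              · skip
                rcases Nat.lt_or_ge i 285300 with h8 | h8
                · skip
                  exact allRangeF_sound _ _ (checkPointF_eq cert) 285275 25 chkP_285275 i (by omega) (by omega)
                · skip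
                  exact allRangeF_sound _ _ (checkPointF_eq cert) 285300 25 chkP_285300 i (by omega) (by omega)
              · skip
                rcases Nat.lt_or_ge i 285350 with h8 | h8
                · skip
                  exact allRangeF_sound _ _ (checkPointF_eq cert) 285325 25 chkP_285325 i (by omega) (by omega)
                · skip
                  rcases Nat.lt_or_ge i 285375 with h9 | h9
                  · skip
                    exact allRangeF_sound _ _ (checkPointF_eq cert) 285350 25 chkP_285350 i (by omega) (by omega)
                  · skip
                    exact allRangeF_sound _ _ (checkPointF_eq cert) 285375 25 chkP_285375 i (by omega) (by omega)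
        · skip
          rcases Nat.lt_or_ge i 285625 with h5 | h5
          · skip
            rcases Nat.lt_or_ge i 285500 with h6 | h6
            · skip
              rcases Nat.lt_or_ge i 285450 with h7 | h7
              · skip
                rcases Nat.lt_or_ge i 285425 with h8 | h8
                · skip
                  exact allRangeF_sound _ _ (checkPointF_eq cert) 285400 25 chkP_285400 i (by omega) (by omega)
                · skip
                  exact allRangeF_sound _ _ (checkPointF_eq cert) 285425 25 chkP_285425 i (by omega) (by omega)
              · skip
                rcases Nat.lt_or_ge i 285475 with h8 | h8
                · skip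
                  exact allRangeF_sound _ _ (checkPointF_eq cert) 285450 25 chkP_285450 i (by omega) (by omega)
                · skip
                  exact allRangeF_sound _ _ (checkPointF_eq cert) 285475 25 chkP_285475 i (by omega) (by omega)
            · skip
              rcases Nat.lt_or_ge i 285550 with h7 | h7
              · skip
                rcases Nat.lt_or_ge i 285525 with h8 | h8
                · skip
                  exact allRangeF_sound _ _ (checkPointF_eq cert) 285500 25 chkP_285500 i (by omega) (by omega)
                · skip
                  exact allRangeF_sound _ _ (checkPointF_eq cert) 285525 25 chkP_285525 i (by omega) (by omega)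
              · skip
                rcases Nat.lt_or_ge i 285575 with h8 | h8
                · skip
                  exact allRangeF_sound _ _ (checkPointF_eq cert) 285550 25 chkP_285550 i (by omega) (by omega)
                · skip
                  rcases Nat.lt_or_ge i 285600 with h9 | h9
                  · skip
                    exact allRangeF_sound _ _ (checkPointF_eq cert) 285575 25 chkP_285575 i (by omega) (by omega)
                  · skip
                    exact allRangeF_sound _ _ (checkPointF_eq cert) 285600 25 chkP_285600 i (by omega) (by omega)
          · skip
            rcases Nat.lt_or_ge i 285750 with h6 | h6
            · skip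
              rcases Nat.lt_or_ge i 285675 with h7 | h7
              · skip
                rcases Nat.lt_or_ge i 285650 with h8 | h8
                · skip
                  exact allRangeF_sound _ _ (checkPointF_eq cert) 285625 25 chkP_285625 i (by omega) (by omega)
                · skip
                  exact allRangeF_sound _ _ (checkPointF_eq cert) 285650 25 chkP_285650 i (by omega) (by omega)
              · skip
                rcases Nat.lt_or_ge i 285700 with h8 | h8
                · skip
                  exact allRangeF_sound _ _ (checkPointF_eq cert) 285675 25 chkP_285675 i (by omega) (by omega)
                · skip
                  rcases Nat.lt_or_ge i 285725 with h9 | h9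
                  · skip
                    exact allRangeF_sound _ _ (checkPointF_eq cert) 285700 25 chkP_285700 i (by omega) (by omega)
                  · skip
                    exact allRangeF_sound _ _ (checkPointF_eq cert) 285725 25 chkP_285725 i (by omega) (by omega)
            · skip
              rcases Nat.lt_or_ge i 285800 with h7 | h7
              · skip
                rcases Nat.lt_or_ge i 285775 with h8 | h8
                · skip
                  exact allRangeF_sound _ _ (checkPointF_eq cert) 285750 25 chkP_285750 i (by omega) (by omega)
                · skip
                  exact allRangeF_sound _ _ (checkPointF_eq cert) 285775 25 chkP_285775 i (by omega) (by omega)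
              · skip
                rcases Nat.lt_or_ge i 285825 with h8 | h8
                · skip
                  exact allRangeF_sound _ _ (checkPointF_eq cert) 285800 25 chkP_285800 i (by omega) (by omega)
                · skip
                  rcases Nat.lt_or_ge i 285850 with h9 | h9
                  · skip
                    exact allRangeF_sound _ _ (checkPointF_eq cert) 285825 25 chkP_285825 i (by omega) (by omega)
                  · skip
                    exact allRangeF_sound _ _ (checkPointF_eq cert) 285850 25 chkP_285850 i (by omega) (by omega)
    · skip
      rcases Nat.lt_or_ge i 286825 with h3 | h3
      · skip
        rcases Nat.lt_or_ge i 286350 with h4 | h4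
        · skip
          rcases Nat.lt_or_ge i 286100 with h5 | h5
          · skip
            rcases Nat.lt_or_ge i 285975 with h6 | h6
            · skip
              rcases Nat.lt_or_ge i 285925 with h7 | h7
              · skip
                rcases Nat.lt_or_ge i 285900 with h8 | h8
                · skip
                  exact allRangeF_sound _ _ (checkPointF_eq cert) 285875 25 chkP_285875 i (by omega) (by omega)
                · skip
                  exact allRangeF_sound _ _ (checkPointF_eq cert) 285900 25 chkP_285900 i (by omega) (by omega)
              · skip
                rcases Nat.lt_or_ge i 285950 with h8 | h8
                · skip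
                  exact allRangeF_sound _ _ (checkPointF_eq cert) 285925 25 chkP_285925 i (by omega) (by omega)
                · skip
                  exact allRangeF_sound _ _ (checkPointF_eq cert) 285950 25 chkP_285950 i (by omega) (by omega)
            · skip
              rcases Nat.lt_or_ge i 286025 with h7 | h7
              · skip
                rcases Nat.lt_or_ge i 286000 with h8 | h8
                · skip
                  exact allRangeF_sound _ _ (checkPointF_eq cert) 285975 25 chkP_285975 i (by omega) (by omega)
                · skip
                  exact allRangeF_sound _ _ (checkPointF_eq cert) 286000 25 chkP_286000 i (by omega) (by omega)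
              · skip
                rcases Nat.lt_or_ge i 286050 with h8 | h8
                · skip
                  exact allRangeF_sound _ _ (checkPointF_eq cert) 286025 25 chkP_286025 i (by omega) (by omega)
                · skip
                  rcases Nat.lt_or_ge i 286075 with h9 | h9
                  · skip
                    exact allRangeF_sound _ _ (checkPointF_eq cert) 286050 25 chkP_286050 i (by omega) (by omega)
                  · skip
                    exact allRangeF_sound _ _ (checkPointF_eq cert) 286075 25 chkP_286075 i (by omega) (by omega)
          · skip
            rcases Nat.lt_or_ge i 286225 with h6 | h6
            · skip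
              rcases Nat.lt_or_ge i 286150 with h7 | h7
              · skip
                rcases Nat.lt_or_ge i 286125 with h8 | h8
                · skip
                  exact allRangeF_sound _ _ (checkPointF_eq cert) 286100 25 chkP_286100 i (by omega) (by omega)
                · skip
                  exact allRangeF_sound _ _ (checkPointF_eq cert) 286125 25 chkP_286125 i (by omega) (by omega)
              · skip
                rcases Nat.lt_or_ge i 286175 with h8 | h8
                · skip
                  exact allRangeF_sound _ _ (checkPointF_eq cert) 286150 25 chkP_286150 i (by omega) (by omega)
                · skip
                  rcases Nat.lt_or_ge i 286200 with h9 | h9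
                  · skip
                    exact allRangeF_sound _ _ (checkPointF_eq cert) 286175 25 chkP_286175 i (by omega) (by omega)
                  · skip
                    exact allRangeF_sound _ _ (checkPointF_eq cert) 286200 25 chkP_286200 i (by omega) (by omega)
            · skip
              rcases Nat.lt_or_ge i 286275 with h7 | h7
              · skip
                rcases Nat.lt_or_ge i 286250 with h8 | h8
                · skip
                  exact allRangeF_sound _ _ (checkPointF_eq cert) 286225 25 chkP_286225 i (by omega) (by omega)
                · skip
                  exact allRangeF_sound _ _ (checkPointF_eq cert) 286250 25 chkP_286250 i (by omega) (by omega)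
              · skip
                rcases Nat.lt_or_ge i 286300 with h8 | h8
                · skip
                  exact allRangeF_sound _ _ (checkPointF_eq cert) 286275 25 chkP_286275 i (by omega) (by omega)
                · skip
                  rcases Nat.lt_or_ge i 286325 with h9 | h9
                  · skip
                    exact allRangeF_sound _ _ (checkPointF_eq cert) 286300 25 chkP_286300 i (by omega) (by omega)
                  · skip
                    exact allRangeF_sound _ _ (checkPointF_eq cert) 286325 25 chkP_286325 i (by omega) (by omega)
        · skip
          rcases Nat.lt_or_ge i 286575 with h5 | h5
          · skip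
            rcases Nat.lt_or_ge i 286450 with h6 | h6
            · skip
              rcases Nat.lt_or_ge i 286400 with h7 | h7
              · skip
                rcases Nat.lt_or_ge i 286375 with h8 | h8
                · skip
                  exact allRangeF_sound _ _ (checkPointF_eq cert) 286350 25 chkP_286350 i (by omega) (by omega)
                · skip
                  exact allRangeF_sound _ _ (checkPointF_eq cert) 286375 25 chkP_286375 i (by omega) (by omega)
              · skip
                rcases Nat.lt_or_ge i 286425 with h8 | h8
                · skip
                  exact allRangeF_sound _ _ (checkPointF_eq cert) 286400 25 chkP_286400 i (by omega) (by omega)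
                · skip
                  exact allRangeF_sound _ _ (checkPointF_eq cert) 286425 25 chkP_286425 i (by omega) (by omega)
            · skip
              rcases Nat.lt_or_ge i 286500 with h7 | h7
              · skip
                rcases Nat.lt_or_ge i 286475 with h8 | h8
                · skip
                  exact allRangeF_sound _ _ (checkPointF_eq cert) 286450 25 chkP_286450 i (by omega) (by omega)
                · skip
                  exact allRangeF_sound _ _ (checkPointF_eq cert) 286475 25 chkP_286475 i (by omega) (by omega)
              · skip
                rcases Nat.lt_or_ge i 286525 with h8 | h8
                · skip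
                  exact allRangeF_sound _ _ (checkPointF_eq cert) 286500 25 chkP_286500 i (by omega) (by omega)
                · skip
                  rcases Nat.lt_or_ge i 286550 with h9 | h9
                  · skip
                    exact allRangeF_sound _ _ (checkPointF_eq cert) 286525 25 chkP_286525 i (by omega) (by omega)
                  · skip
                    exact allRangeF_sound _ _ (checkPointF_eq cert) 286550 25 chkP_286550 i (by omega) (by omega)
          · skip
            rcases Nat.lt_or_ge i 286700 with h6 | h6
            · skip
              rcases Nat.lt_or_ge i 286625 with h7 | h7
              · skip
                rcases Nat.lt_or_ge i 286600 with h8 | h8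
                · skip
                  exact allRangeF_sound _ _ (checkPointF_eq cert) 286575 25 chkP_286575 i (by omega) (by omega)
                · skip
                  exact allRangeF_sound _ _ (checkPointF_eq cert) 286600 25 chkP_286600 i (by omega) (by omega)
              · skip
                rcases Nat.lt_or_ge i 286650 with h8 | h8
                · skip
                  exact allRangeF_sound _ _ (checkPointF_eq cert) 286625 25 chkP_286625 i (by omega) (by omega)
                · skip
                  rcases Nat.lt_or_ge i 286675 with h9 | h9
                  · skip
                    exact allRangeF_sound _ _ (checkPointF_eq cert) 286650 25 chkP_286650 i (by omega) (by omega)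
                  · skip
                    exact allRangeF_sound _ _ (checkPointF_eq cert) 286675 25 chkP_286675 i (by omega) (by omega)
            · skip
              rcases Nat.lt_or_ge i 286750 with h7 | h7
              · skip
                rcases Nat.lt_or_ge i 286725 with h8 | h8
                · skip
                  exact allRangeF_sound _ _ (checkPointF_eq cert) 286700 25 chkP_286700 i (by omega) (by omega)
                · skip
                  exact allRangeF_sound _ _ (checkPointF_eq cert) 286725 25 chkP_286725 i (by omega) (by omega)
              · skip
                rcases Nat.lt_or_ge i 286775 with h8 | h8
                · skip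
                  exact allRangeF_sound _ _ (checkPointF_eq cert) 286750 25 chkP_286750 i (by omega) (by omega)
                · skip
                  rcases Nat.lt_or_ge i 286800 with h9 | h9
                  · skip
                    exact allRangeF_sound _ _ (checkPointF_eq cert) 286775 25 chkP_286775 i (by omega) (by omega)
                  · skip
                    exact allRangeF_sound _ _ (checkPointF_eq cert) 286800 25 chkP_286800 i (by omega) (by omega)
      · skip
        rcases Nat.lt_or_ge i 287300 with h4 | h4
        · skip
          rcases Nat.lt_or_ge i 287050 with h5 | h5
          · skip
            rcases Nat.lt_or_ge i 286925 with h6 | h6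
            · skip
              rcases Nat.lt_or_ge i 286875 with h7 | h7
              · skip
                rcases Nat.lt_or_ge i 286850 with h8 | h8
                · skip
                  exact allRangeF_sound _ _ (checkPointF_eq cert) 286825 25 chkP_286825 i (by omega) (by omega)
                · skip
                  exact allRangeF_sound _ _ (checkPointF_eq cert) 286850 25 chkP_286850 i (by omega) (by omega)
              · skip
                rcases Nat.lt_or_ge i 286900 with h8 | h8
                · skip
                  exact allRangeF_sound _ _ (checkPointF_eq cert) 286875 25 chkP_286875 i (by omega) (by omega)
                · skip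
                  exact allRangeF_sound _ _ (checkPointF_eq cert) 286900 25 chkP_286900 i (by omega) (by omega)
            · skip
              rcases Nat.lt_or_ge i 286975 with h7 | h7
              · skip
                rcases Nat.lt_or_ge i 286950 with h8 | h8
                · skip
                  exact allRangeF_sound _ _ (checkPointF_eq cert) 286925 25 chkP_286925 i (by omega) (by omega)
                · skip
                  exact allRangeF_sound _ _ (checkPointF_eq cert) 286950 25 chkP_286950 i (by omega) (by omega)
              · skip
                rcases Nat.lt_or_ge i 287000 with h8 | h8
                · skip
                  exact allRangeF_sound _ _ (checkPointF_eq cert) 286975 25 chkP_286975 i (by omega) (by omega)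
                · skip
                  rcases Nat.lt_or_ge i 287025 with h9 | h9
                  · skip
                    exact allRangeF_sound _ _ (checkPointF_eq cert) 287000 25 chkP_287000 i (by omega) (by omega)
                  · skip
                    exact allRangeF_sound _ _ (checkPointF_eq cert) 287025 25 chkP_287025 i (by omega) (by omega)
          · skip
            rcases Nat.lt_or_ge i 287175 with h6 | h6
            · skip
              rcases Nat.lt_or_ge i 287100 with h7 | h7
              · skip
                rcases Nat.lt_or_ge i 287075 with h8 | h8
                · skip
                  exact allRangeF_sound _ _ (checkPointF_eq cert) 287050 25 chkP_287050 i (by omega) (by omega)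
                · skip
                  exact allRangeF_sound _ _ (checkPointF_eq cert) 287075 25 chkP_287075 i (by omega) (by omega)
              · skip
                rcases Nat.lt_or_ge i 287125 with h8 | h8
                · skip
                  exact allRangeF_sound _ _ (checkPointF_eq cert) 287100 25 chkP_287100 i (by omega) (by omega)
                · skip
                  rcases Nat.lt_or_ge i 287150 with h9 | h9
                  · skip
                    exact allRangeF_sound _ _ (checkPointF_eq cert) 287125 25 chkP_287125 i (by omega) (by omega)
                  · skip
                    exact allRangeF_sound _ _ (checkPointF_eq cert) 287150 25 chkP_287150 i (by omega) (by omega)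
            · skip
              rcases Nat.lt_or_ge i 287225 with h7 | h7
              · skip
                rcases Nat.lt_or_ge i 287200 with h8 | h8
                · skip
                  exact allRangeF_sound _ _ (checkPointF_eq cert) 287175 25 chkP_287175 i (by omega) (by omega)
                · skip
                  exact allRangeF_sound _ _ (checkPointF_eq cert) 287200 25 chkP_287200 i (by omega) (by omega)
              · skip
                rcases Nat.lt_or_ge i 287250 with h8 | h8
                · skip
                  exact allRangeF_sound _ _ (checkPointF_eq cert) 287225 25 chkP_287225 i (by omega) (by omega)
                · skip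
                  rcases Nat.lt_or_ge i 287275 with h9 | h9
                  · skip
                    exact allRangeF_sound _ _ (checkPointF_eq cert) 287250 25 chkP_287250 i (by omega) (by omega)
                  · skip
                    exact allRangeF_sound _ _ (checkPointF_eq cert) 287275 25 chkP_287275 i (by omega) (by omega)
        · skip
          rcases Nat.lt_or_ge i 287550 with h5 | h5
          · skip
            rcases Nat.lt_or_ge i 287425 with h6 | h6
            · skip
              rcases Nat.lt_or_ge i 287350 with h7 | h7
              · skip
                rcases Nat.lt_or_ge i 287325 with h8 | h8
                · skip
                  exact allRangeF_sound _ _ (checkPointF_eq cert) 287300 25 chkP_287300 i (by omega) (by omega)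
                · skip
                  exact allRangeF_sound _ _ (checkPointF_eq cert) 287325 25 chkP_287325 i (by omega) (by omega)
              · skip
                rcases Nat.lt_or_ge i 287375 with h8 | h8
                · skip
                  exact allRangeF_sound _ _ (checkPointF_eq cert) 287350 25 chkP_287350 i (by omega) (by omega)
                · skip
                  rcases Nat.lt_or_ge i 287400 with h9 | h9
                  · skip
                    exact allRangeF_sound _ _ (checkPointF_eq cert) 287375 25 chkP_287375 i (by omega) (by omega)
                  · skip
                    exact allRangeF_sound _ _ (checkPointF_eq cert) 287400 25 chkP_287400 i (by omega) (by omega)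
            · skip
              rcases Nat.lt_or_ge i 287475 with h7 | h7
              · skip
                rcases Nat.lt_or_ge i 287450 with h8 | h8
                · skip
                  exact allRangeF_sound _ _ (checkPointF_eq cert) 287425 25 chkP_287425 i (by omega) (by omega)
                · skip
                  exact allRangeF_sound _ _ (checkPointF_eq cert) 287450 25 chkP_287450 i (by omega) (by omega)
              · skip
                rcases Nat.lt_or_ge i 287500 with h8 | h8
                · skip
                  exact allRangeF_sound _ _ (checkPointF_eq cert) 287475 25 chkP_287475 i (by omega) (by omega)
                · skip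
                  rcases Nat.lt_or_ge i 287525 with h9 | h9
                  · skip
                    exact allRangeF_sound _ _ (checkPointF_eq cert) 287500 25 chkP_287500 i (by omega) (by omega)
                  · skip
                    exact allRangeF_sound _ _ (checkPointF_eq cert) 287525 25 chkP_287525 i (by omega) (by omega)
          · skip
            rcases Nat.lt_or_ge i 287675 with h6 | h6
            · skip
              rcases Nat.lt_or_ge i 287600 with h7 | h7
              · skip
                rcases Nat.lt_or_ge i 287575 with h8 | h8
                · skip
                  exact allRangeF_sound _ _ (checkPointF_eq cert) 287550 25 chkP_287550 i (by omega) (by omega)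
                · skip
                  exact allRangeF_sound _ _ (checkPointF_eq cert) 287575 25 chkP_287575 i (by omega) (by omega)
              · skip
                rcases Nat.lt_or_ge i 287625 with h8 | h8
                · skip
                  exact allRangeF_sound _ _ (checkPointF_eq cert) 287600 25 chkP_287600 i (by omega) (by omega)
                · skip
                  rcases Nat.lt_or_ge i 287650 with h9 | h9
                  · skip
                    exact allRangeF_sound _ _ (checkPointF_eq cert) 287625 25 chkP_287625 i (by omega) (by omega)
                  · skip
                    exact allRangeF_sound _ _ (checkPointF_eq cert) 287650 25 chkP_287650 i (by omega) (by omega)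
            · skip
              rcases Nat.lt_or_ge i 287725 with h7 | h7
              · skip
                rcases Nat.lt_or_ge i 287700 with h8 | h8
                · skip
                  exact allRangeF_sound _ _ (checkPointF_eq cert) 287675 25 chkP_287675 i (by omega) (by omega)
                · skip
                  exact allRangeF_sound _ _ (checkPointF_eq cert) 287700 25 chkP_287700 i (by omega) (by omega)
              · skip
                rcases Nat.lt_or_ge i 287750 with h8 | h8
                · skip
                  exact allRangeF_sound _ _ (checkPointF_eq cert) 287725 25 chkP_287725 i (by omega) (by omega)
                · skip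
                  rcases Nat.lt_or_ge i 287775 with h9 | h9
                  · skip
                    exact allRangeF_sound _ _ (checkPointF_eq cert) 287750 25 chkP_287750 i (by omega) (by omega)
                  · skip
                    exact allRangeF_sound _ _ (checkPointF_eq cert) 287775 25 chkP_287775 i (by omega) (by omega)
  · skip
    rcases Nat.lt_or_ge i 289725 with h2 | h2
    · skip
      rcases Nat.lt_or_ge i 288750 with h3 | h3
      · skip
        rcases Nat.lt_or_ge i 288275 with h4 | h4
        · skip
          rcases Nat.lt_or_ge i 288025 with h5 | h5
          · skip
            rcases Nat.lt_or_ge i 287900 with h6 | h6
            · skip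
              rcases Nat.lt_or_ge i 287850 with h7 | h7
              · skip
                rcases Nat.lt_or_ge i 287825 with h8 | h8
                · skip
                  exact allRangeF_sound _ _ (checkPointF_eq cert) 287800 25 chkP_287800 i (by omega) (by omega)
                · skip
                  exact allRangeF_sound _ _ (checkPointF_eq cert) 287825 25 chkP_287825 i (by omega) (by omega)
              · skip
                rcases Nat.lt_or_ge i 287875 with h8 | h8
                · skip
                  exact allRangeF_sound _ _ (checkPointF_eq cert) 287850 25 chkP_287850 i (by omega) (by omega)
                · skip
                  exact allRangeF_sound _ _ (checkPointF_eq cert) 287875 25 chkP_287875 i (by omega) (by omega)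
            · skip
              rcases Nat.lt_or_ge i 287950 with h7 | h7
              · skip
                rcases Nat.lt_or_ge i 287925 with h8 | h8
                · skip
                  exact allRangeF_sound _ _ (checkPointF_eq cert) 287900 25 chkP_287900 i (by omega) (by omega)
                · skip
                  exact allRangeF_sound _ _ (checkPointF_eq cert) 287925 25 chkP_287925 i (by omega) (by omega)
              · skip
                rcases Nat.lt_or_ge i 287975 with h8 | h8
                · skip
                  exact allRangeF_sound _ _ (checkPointF_eq cert) 287950 25 chkP_287950 i (by omega) (by omega)
                · skip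
                  rcases Nat.lt_or_ge i 288000 with h9 | h9
                  · skip
                    exact allRangeF_sound _ _ (checkPointF_eq cert) 287975 25 chkP_287975 i (by omega) (by omega)
                  · skip
                    exact allRangeF_sound _ _ (checkPointF_eq cert) 288000 25 chkP_288000 i (by omega) (by omega)
          · skip
            rcases Nat.lt_or_ge i 288150 with h6 | h6
            · skip
              rcases Nat.lt_or_ge i 288075 with h7 | h7
              · skip
                rcases Nat.lt_or_ge i 288050 with h8 | h8
                · skip
                  exact allRangeF_sound _ _ (checkPointF_eq cert) 288025 25 chkP_288025 i (by omega) (by omega)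
                · skip
                  exact allRangeF_sound _ _ (checkPointF_eq cert) 288050 25 chkP_288050 i (by omega) (by omega)
              · skip
                rcases Nat.lt_or_ge i 288100 with h8 | h8
                · skip
                  exact allRangeF_sound _ _ (checkPointF_eq cert) 288075 25 chkP_288075 i (by omega) (by omega)
                · skip
                  rcases Nat.lt_or_ge i 288125 with h9 | h9
                  · skip
                    exact allRangeF_sound _ _ (checkPointF_eq cert) 288100 25 chkP_288100 i (by omega) (by omega)
                  · skip
                    exact allRangeF_sound _ _ (checkPointF_eq cert) 288125 25 chkP_288125 i (by omega) (by omega)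
            · skip
              rcases Nat.lt_or_ge i 288200 with h7 | h7
              · skip
                rcases Nat.lt_or_ge i 288175 with h8 | h8
                · skip
                  exact allRangeF_sound _ _ (checkPointF_eq cert) 288150 25 chkP_288150 i (by omega) (by omega)
                · skip
                  exact allRangeF_sound _ _ (checkPointF_eq cert) 288175 25 chkP_288175 i (by omega) (by omega)
              · skip
                rcases Nat.lt_or_ge i 288225 with h8 | h8
                · skip
                  exact allRangeF_sound _ _ (checkPointF_eq cert) 288200 25 chkP_288200 i (by omega) (by omega)
                · skip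
                  rcases Nat.lt_or_ge i 288250 with h9 | h9
                  · skip
                    exact allRangeF_sound _ _ (checkPointF_eq cert) 288225 25 chkP_288225 i (by omega) (by omega)
                  · skip
                    exact allRangeF_sound _ _ (checkPointF_eq cert) 288250 25 chkP_288250 i (by omega) (by omega)
        · skip
          rcases Nat.lt_or_ge i 288500 with h5 | h5
          · skip
            rcases Nat.lt_or_ge i 288375 with h6 | h6
            · skip
              rcases Nat.lt_or_ge i 288325 with h7 | h7
              · skip
                rcases Nat.lt_or_ge i 288300 with h8 | h8
                · skip
                  exact allRangeF_sound _ _ (checkPointF_eq cert) 288275 25 chkP_288275 i (by omega) (by omega)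
                · skip
                  exact allRangeF_sound _ _ (checkPointF_eq cert) 288300 25 chkP_288300 i (by omega) (by omega)
              · skip
                rcases Nat.lt_or_ge i 288350 with h8 | h8
                · skip
                  exact allRangeF_sound _ _ (checkPointF_eq cert) 288325 25 chkP_288325 i (by omega) (by omega)
                · skip
                  exact allRangeF_sound _ _ (checkPointF_eq cert) 288350 25 chkP_288350 i (by omega) (by omega)
            · skip
              rcases Nat.lt_or_ge i 288425 with h7 | h7
              · skip
                rcases Nat.lt_or_ge i 288400 with h8 | h8
                · skip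
                  exact allRangeF_sound _ _ (checkPointF_eq cert) 288375 25 chkP_288375 i (by omega) (by omega)
                · skip
                  exact allRangeF_sound _ _ (checkPointF_eq cert) 288400 25 chkP_288400 i (by omega) (by omega)
              · skip
                rcases Nat.lt_or_ge i 288450 with h8 | h8
                · skip
                  exact allRangeF_sound _ _ (checkPointF_eq cert) 288425 25 chkP_288425 i (by omega) (by omega)
                · skip
                  rcases Nat.lt_or_ge i 288475 with h9 | h9
                  · skip
                    exact allRangeF_sound _ _ (checkPointF_eq cert) 288450 25 chkP_288450 i (by omega) (by omega)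
                  · skip
                    exact allRangeF_sound _ _ (checkPointF_eq cert) 288475 25 chkP_288475 i (by omega) (by omega)
          · skip
            rcases Nat.lt_or_ge i 288625 with h6 | h6
            · skip
              rcases Nat.lt_or_ge i 288550 with h7 | h7
              · skip
                rcases Nat.lt_or_ge i 288525 with h8 | h8
                · skip
                  exact allRangeF_sound _ _ (checkPointF_eq cert) 288500 25 chkP_288500 i (by omega) (by omega)
                · skip
                  exact allRangeF_sound _ _ (checkPointF_eq cert) 288525 25 chkP_288525 i (by omega) (by omega)
              · skip
                rcases Nat.lt_or_ge i 288575 with h8 | h8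
                · skip
                  exact allRangeF_sound _ _ (checkPointF_eq cert) 288550 25 chkP_288550 i (by omega) (by omega)
                · skip
                  rcases Nat.lt_or_ge i 288600 with h9 | h9
                  · skip
                    exact allRangeF_sound _ _ (checkPointF_eq cert) 288575 25 chkP_288575 i (by omega) (by omega)
                  · skip
                    exact allRangeF_sound _ _ (checkPointF_eq cert) 288600 25 chkP_288600 i (by omega) (by omega)
            · skip
              rcases Nat.lt_or_ge i 288675 with h7 | h7
              · skip
                rcases Nat.lt_or_ge i 288650 with h8 | h8
                · skip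
                  exact allRangeF_sound _ _ (checkPointF_eq cert) 288625 25 chkP_288625 i (by omega) (by omega)
                · skip
                  exact allRangeF_sound _ _ (checkPointF_eq cert) 288650 25 chkP_288650 i (by omega) (by omega)
              · skip
                rcases Nat.lt_or_ge i 288700 with h8 | h8
                · skip
                  exact allRangeF_sound _ _ (checkPointF_eq cert) 288675 25 chkP_288675 i (by omega) (by omega)
                · skip
                  rcases Nat.lt_or_ge i 288725 with h9 | h9
                  · skip
                    exact allRangeF_sound _ _ (checkPointF_eq cert) 288700 25 chkP_288700 i (by omega) (by omega)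
                  · skip
                    exact allRangeF_sound _ _ (checkPointF_eq cert) 288725 25 chkP_288725 i (by omega) (by omega)
      · skip
        rcases Nat.lt_or_ge i 289225 with h4 | h4
        · skip
          rcases Nat.lt_or_ge i 288975 with h5 | h5
          · skip
            rcases Nat.lt_or_ge i 288850 with h6 | h6
            · skip
              rcases Nat.lt_or_ge i 288800 with h7 | h7
              · skip
                rcases Nat.lt_or_ge i 288775 with h8 | h8
                · skip
                  exact allRangeF_sound _ _ (checkPointF_eq cert) 288750 25 chkP_288750 i (by omega) (by omega)
                · skip
                  exact allRangeF_sound _ _ (checkPointF_eq cert) 288775 25 chkP_288775 i (by omega) (by omega)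
              · skip
                rcases Nat.lt_or_ge i 288825 with h8 | h8
                · skip
                  exact allRangeF_sound _ _ (checkPointF_eq cert) 288800 25 chkP_288800 i (by omega) (by omega)
                · skip
                  exact allRangeF_sound _ _ (checkPointF_eq cert) 288825 25 chkP_288825 i (by omega) (by omega)
            · skip
              rcases Nat.lt_or_ge i 288900 with h7 | h7
              · skip
                rcases Nat.lt_or_ge i 288875 with h8 | h8
                · skip
                  exact allRangeF_sound _ _ (checkPointF_eq cert) 288850 25 chkP_288850 i (by omega) (by omega)
                · skip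
                  exact allRangeF_sound _ _ (checkPointF_eq cert) 288875 25 chkP_288875 i (by omega) (by omega)
              · skip
                rcases Nat.lt_or_ge i 288925 with h8 | h8
                · skip
                  exact allRangeF_sound _ _ (checkPointF_eq cert) 288900 25 chkP_288900 i (by omega) (by omega)
                · skip
                  rcases Nat.lt_or_ge i 288950 with h9 | h9
                  · skip
                    exact allRangeF_sound _ _ (checkPointF_eq cert) 288925 25 chkP_288925 i (by omega) (by omega)
                  · skip
                    exact allRangeF_sound _ _ (checkPointF_eq cert) 288950 25 chkP_288950 i (by omega) (by omega)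
          · skip
            rcases Nat.lt_or_ge i 289100 with h6 | h6
            · skip
              rcases Nat.lt_or_ge i 289025 with h7 | h7
              · skip
                rcases Nat.lt_or_ge i 289000 with h8 | h8
                · skip
                  exact allRangeF_sound _ _ (checkPointF_eq cert) 288975 25 chkP_288975 i (by omega) (by omega)
                · skip
                  exact allRangeF_sound _ _ (checkPointF_eq cert) 289000 25 chkP_289000 i (by omega) (by omega)
              · skip
                rcases Nat.lt_or_ge i 289050 with h8 | h8
                · skip
                  exact allRangeF_sound _ _ (checkPointF_eq cert) 289025 25 chkP_289025 i (by omega) (by omega)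
                · skip
                  rcases Nat.lt_or_ge i 289075 with h9 | h9
                  · skip
                    exact allRangeF_sound _ _ (checkPointF_eq cert) 289050 25 chkP_289050 i (by omega) (by omega)
                  · skip
                    exact allRangeF_sound _ _ (checkPointF_eq cert) 289075 25 chkP_289075 i (by omega) (by omega)
            · skip
              rcases Nat.lt_or_ge i 289150 with h7 | h7
              · skip
                rcases Nat.lt_or_ge i 289125 with h8 | h8
                · skip
                  exact allRangeF_sound _ _ (checkPointF_eq cert) 289100 25 chkP_289100 i (by omega) (by omega)
                · skip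
                  exact allRangeF_sound _ _ (checkPointF_eq cert) 289125 25 chkP_289125 i (by omega) (by omega)
              · skip
                rcases Nat.lt_or_ge i 289175 with h8 | h8
                · skip
                  exact allRangeF_sound _ _ (checkPointF_eq cert) 289150 25 chkP_289150 i (by omega) (by omega)
                · skip
                  rcases Nat.lt_or_ge i 289200 with h9 | h9
                  · skip
                    exact allRangeF_sound _ _ (checkPointF_eq cert) 289175 25 chkP_289175 i (by omega) (by omega)
                  · skip
                    exact allRangeF_sound _ _ (checkPointF_eq cert) 289200 25 chkP_289200 i (by omega) (by omega)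
        · skip
          rcases Nat.lt_or_ge i 289475 with h5 | h5
          · skip
            rcases Nat.lt_or_ge i 289350 with h6 | h6
            · skip
              rcases Nat.lt_or_ge i 289275 with h7 | h7
              · skip
                rcases Nat.lt_or_ge i 289250 with h8 | h8
                · skip
                  exact allRangeF_sound _ _ (checkPointF_eq cert) 289225 25 chkP_289225 i (by omega) (by omega)
                · skip
                  exact allRangeF_sound _ _ (checkPointF_eq cert) 289250 25 chkP_289250 i (by omega) (by omega)
              · skip
                rcases Nat.lt_or_ge i 289300 with h8 | h8
                · skip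
                  exact allRangeF_sound _ _ (checkPointF_eq cert) 289275 25 chkP_289275 i (by omega) (by omega)
                · skip
                  rcases Nat.lt_or_ge i 289325 with h9 | h9
                  · skip
                    exact allRangeF_sound _ _ (checkPointF_eq cert) 289300 25 chkP_289300 i (by omega) (by omega)
                  · skip
                    exact allRangeF_sound _ _ (checkPointF_eq cert) 289325 25 chkP_289325 i (by omega) (by omega)
            · skip
              rcases Nat.lt_or_ge i 289400 with h7 | h7
              · skip
                rcases Nat.lt_or_ge i 289375 with h8 | h8
                · skip
                  exact allRangeF_sound _ _ (checkPointF_eq cert) 289350 25 chkP_289350 i (by omega) (by omega)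
                · skip
                  exact allRangeF_sound _ _ (checkPointF_eq cert) 289375 25 chkP_289375 i (by omega) (by omega)
              · skip
                rcases Nat.lt_or_ge i 289425 with h8 | h8
                · skip
                  exact allRangeF_sound _ _ (checkPointF_eq cert) 289400 25 chkP_289400 i (by omega) (by omega)
                · skip
                  rcases Nat.lt_or_ge i 289450 with h9 | h9
                  · skip
                    exact allRangeF_sound _ _ (checkPointF_eq cert) 289425 25 chkP_289425 i (by omega) (by omega)
                  · skip
                    exact allRangeF_sound _ _ (checkPointF_eq cert) 289450 25 chkP_289450 i (by omega) (by omega)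
          · skip
            rcases Nat.lt_or_ge i 289600 with h6 | h6
            · skip
              rcases Nat.lt_or_ge i 289525 with h7 | h7
              · skip
                rcases Nat.lt_or_ge i 289500 with h8 | h8
                · skip
                  exact allRangeF_sound _ _ (checkPointF_eq cert) 289475 25 chkP_289475 i (by omega) (by omega)
                · skip
                  exact allRangeF_sound _ _ (checkPointF_eq cert) 289500 25 chkP_289500 i (by omega) (by omega)
              · skip
                rcases Nat.lt_or_ge i 289550 with h8 | h8
                · skip
                  exact allRangeF_sound _ _ (checkPointF_eq cert) 289525 25 chkP_289525 i (by omega) (by omega)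
                · skip
                  rcases Nat.lt_or_ge i 289575 with h9 | h9
                  · skip
                    exact allRangeF_sound _ _ (checkPointF_eq cert) 289550 25 chkP_289550 i (by omega) (by omega)
                  · skip
                    exact allRangeF_sound _ _ (checkPointF_eq cert) 289575 25 chkP_289575 i (by omega) (by omega)
            · skip
              rcases Nat.lt_or_ge i 289650 with h7 | h7
              · skip
                rcases Nat.lt_or_ge i 289625 with h8 | h8
                · skip
                  exact allRangeF_sound _ _ (checkPointF_eq cert) 289600 25 chkP_289600 i (by omega) (by omega)
                · skip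
                  exact allRangeF_sound _ _ (checkPointF_eq cert) 289625 25 chkP_289625 i (by omega) (by omega)
              · skip
                rcases Nat.lt_or_ge i 289675 with h8 | h8
                · skip
                  exact allRangeF_sound _ _ (checkPointF_eq cert) 289650 25 chkP_289650 i (by omega) (by omega)
                · skip
                  rcases Nat.lt_or_ge i 289700 with h9 | h9
                  · skip
                    exact allRangeF_sound _ _ (checkPointF_eq cert) 289675 25 chkP_289675 i (by omega) (by omega)
                  · skip
                    exact allRangeF_sound _ _ (checkPointF_eq cert) 289700 25 chkP_289700 i (by omega) (by omega)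
    · skip
      rcases Nat.lt_or_ge i 290675 with h3 | h3
      · skip
        rcases Nat.lt_or_ge i 290200 with h4 | h4
        · skip
          rcases Nat.lt_or_ge i 289950 with h5 | h5
          · skip
            rcases Nat.lt_or_ge i 289825 with h6 | h6
            · skip
              rcases Nat.lt_or_ge i 289775 with h7 | h7
              · skip
                rcases Nat.lt_or_ge i 289750 with h8 | h8
                · skip
                  exact allRangeF_sound _ _ (checkPointF_eq cert) 289725 25 chkP_289725 i (by omega) (by omega)
                · skip
                  exact allRangeF_sound _ _ (checkPointF_eq cert) 289750 25 chkP_289750 i (by omega) (by omega)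
              · skip
                rcases Nat.lt_or_ge i 289800 with h8 | h8
                · skip
                  exact allRangeF_sound _ _ (checkPointF_eq cert) 289775 25 chkP_289775 i (by omega) (by omega)
                · skip
                  exact allRangeF_sound _ _ (checkPointF_eq cert) 289800 25 chkP_289800 i (by omega) (by omega)
            · skip
              rcases Nat.lt_or_ge i 289875 with h7 | h7
              · skip
                rcases Nat.lt_or_ge i 289850 with h8 | h8
                · skip
                  exact allRangeF_sound _ _ (checkPointF_eq cert) 289825 25 chkP_289825 i (by omega) (by omega)
                · skip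
                  exact allRangeF_sound _ _ (checkPointF_eq cert) 289850 25 chkP_289850 i (by omega) (by omega)
              · skip
                rcases Nat.lt_or_ge i 289900 with h8 | h8
                · skip
                  exact allRangeF_sound _ _ (checkPointF_eq cert) 289875 25 chkP_289875 i (by omega) (by omega)
                · skip
                  rcases Nat.lt_or_ge i 289925 with h9 | h9
                  · skip
                    exact allRangeF_sound _ _ (checkPointF_eq cert) 289900 25 chkP_289900 i (by omega) (by omega)
                  · skip
                    exact allRangeF_sound _ _ (checkPointF_eq cert) 289925 25 chkP_289925 i (by omega) (by omega)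
          · skip
            rcases Nat.lt_or_ge i 290075 with h6 | h6
            · skip
              rcases Nat.lt_or_ge i 290000 with h7 | h7
              · skip
                rcases Nat.lt_or_ge i 289975 with h8 | h8
                · skip
                  exact allRangeF_sound _ _ (checkPointF_eq cert) 289950 25 chkP_289950 i (by omega) (by omega)
                · skip
                  exact allRangeF_sound _ _ (checkPointF_eq cert) 289975 25 chkP_289975 i (by omega) (by omega)
              · skip
                rcases Nat.lt_or_ge i 290025 with h8 | h8
                · skip
                  exact allRangeF_sound _ _ (checkPointF_eq cert) 290000 25 chkP_290000 i (by omega) (by omega)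
                · skip
                  rcases Nat.lt_or_ge i 290050 with h9 | h9
                  · skip
                    exact allRangeF_sound _ _ (checkPointF_eq cert) 290025 25 chkP_290025 i (by omega) (by omega)
                  · skip
                    exact allRangeF_sound _ _ (checkPointF_eq cert) 290050 25 chkP_290050 i (by omega) (by omega)
            · skip
              rcases Nat.lt_or_ge i 290125 with h7 | h7
              · skip
                rcases Nat.lt_or_ge i 290100 with h8 | h8
                · skip
                  exact allRangeF_sound _ _ (checkPointF_eq cert) 290075 25 chkP_290075 i (by omega) (by omega)
                · skip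
                  exact allRangeF_sound _ _ (checkPointF_eq cert) 290100 25 chkP_290100 i (by omega) (by omega)
              · skip
                rcases Nat.lt_or_ge i 290150 with h8 | h8
                · skip
                  exact allRangeF_sound _ _ (checkPointF_eq cert) 290125 25 chkP_290125 i (by omega) (by omega)
                · skip
                  rcases Nat.lt_or_ge i 290175 with h9 | h9
                  · skip
                    exact allRangeF_sound _ _ (checkPointF_eq cert) 290150 25 chkP_290150 i (by omega) (by omega)
                  · skip
                    exact allRangeF_sound _ _ (checkPointF_eq cert) 290175 25 chkP_290175 i (by omega) (by omega)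
        · skip
          rcases Nat.lt_or_ge i 290425 with h5 | h5
          · skip
            rcases Nat.lt_or_ge i 290300 with h6 | h6
            · skip
              rcases Nat.lt_or_ge i 290250 with h7 | h7
              · skip
                rcases Nat.lt_or_ge i 290225 with h8 | h8
                · skip
                  exact allRangeF_sound _ _ (checkPointF_eq cert) 290200 25 chkP_290200 i (by omega) (by omega)
                · skip
                  exact allRangeF_sound _ _ (checkPointF_eq cert) 290225 25 chkP_290225 i (by omega) (by omega)
              · skip
                rcases Nat.lt_or_ge i 290275 with h8 | h8
                · skip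
                  exact allRangeF_sound _ _ (checkPointF_eq cert) 290250 25 chkP_290250 i (by omega) (by omega)
                · skip
                  exact allRangeF_sound _ _ (checkPointF_eq cert) 290275 25 chkP_290275 i (by omega) (by omega)
            · skip
              rcases Nat.lt_or_ge i 290350 with h7 | h7
              · skip
                rcases Nat.lt_or_ge i 290325 with h8 | h8
                · skip
                  exact allRangeF_sound _ _ (checkPointF_eq cert) 290300 25 chkP_290300 i (by omega) (by omega)
                · skip
                  exact allRangeF_sound _ _ (checkPointF_eq cert) 290325 25 chkP_290325 i (by omega) (by omega)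
              · skip
                rcases Nat.lt_or_ge i 290375 with h8 | h8
                · skip
                  exact allRangeF_sound _ _ (checkPointF_eq cert) 290350 25 chkP_290350 i (by omega) (by omega)
                · skip
                  rcases Nat.lt_or_ge i 290400 with h9 | h9
                  · skip
                    exact allRangeF_sound _ _ (checkPointF_eq cert) 290375 25 chkP_290375 i (by omega) (by omega)
                  · skip
                    exact allRangeF_sound _ _ (checkPointF_eq cert) 290400 25 chkP_290400 i (by omega) (by omega)
          · skip
            rcases Nat.lt_or_ge i 290550 with h6 | h6
            · skip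
              rcases Nat.lt_or_ge i 290475 with h7 | h7
              · skip
                rcases Nat.lt_or_ge i 290450 with h8 | h8
                · skip
                  exact allRangeF_sound _ _ (checkPointF_eq cert) 290425 25 chkP_290425 i (by omega) (by omega)
                · skip
                  exact allRangeF_sound _ _ (checkPointF_eq cert) 290450 25 chkP_290450 i (by omega) (by omega)
              · skip
                rcases Nat.lt_or_ge i 290500 with h8 | h8
                · skip
                  exact allRangeF_sound _ _ (checkPointF_eq cert) 290475 25 chkP_290475 i (by omega) (by omega)
                · skip
                  rcases Nat.lt_or_ge i 290525 with h9 | h9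
                  · skip
                    exact allRangeF_sound _ _ (checkPointF_eq cert) 290500 25 chkP_290500 i (by omega) (by omega)
                  · skip
                    exact allRangeF_sound _ _ (checkPointF_eq cert) 290525 25 chkP_290525 i (by omega) (by omega)
            · skip
              rcases Nat.lt_or_ge i 290600 with h7 | h7
              · skip
                rcases Nat.lt_or_ge i 290575 with h8 | h8
                · skip
                  exact allRangeF_sound _ _ (checkPointF_eq cert) 290550 25 chkP_290550 i (by omega) (by omega)
                · skip
                  exact allRangeF_sound _ _ (checkPointF_eq cert) 290575 25 chkP_290575 i (by omega) (by omega)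
              · skip
                rcases Nat.lt_or_ge i 290625 with h8 | h8
                · skip
                  exact allRangeF_sound _ _ (checkPointF_eq cert) 290600 25 chkP_290600 i (by omega) (by omega)
                · skip
                  rcases Nat.lt_or_ge i 290650 with h9 | h9
                  · skip
                    exact allRangeF_sound _ _ (checkPointF_eq cert) 290625 25 chkP_290625 i (by omega) (by omega)
                  · skip
                    exact allRangeF_sound _ _ (checkPointF_eq cert) 290650 25 chkP_290650 i (by omega) (by omega)
      · skip
        rcases Nat.lt_or_ge i 291150 with h4 | h4
        · skip
          rcases Nat.lt_or_ge i 290900 with h5 | h5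
          · skip
            rcases Nat.lt_or_ge i 290775 with h6 | h6
            · skip
              rcases Nat.lt_or_ge i 290725 with h7 | h7
              · skip
                rcases Nat.lt_or_ge i 290700 with h8 | h8
                · skip
                  exact allRangeF_sound _ _ (checkPointF_eq cert) 290675 25 chkP_290675 i (by omega) (by omega)
                · skip
                  exact allRangeF_sound _ _ (checkPointF_eq cert) 290700 25 chkP_290700 i (by omega) (by omega)
              · skip
                rcases Nat.lt_or_ge i 290750 with h8 | h8
                · skip
                  exact allRangeF_sound _ _ (checkPointF_eq cert) 290725 25 chkP_290725 i (by omega) (by omega)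
                · skip
                  exact allRangeF_sound _ _ (checkPointF_eq cert) 290750 25 chkP_290750 i (by omega) (by omega)
            · skip
              rcases Nat.lt_or_ge i 290825 with h7 | h7
              · skip
                rcases Nat.lt_or_ge i 290800 with h8 | h8
                · skip
                  exact allRangeF_sound _ _ (checkPointF_eq cert) 290775 25 chkP_290775 i (by omega) (by omega)
                · skip
                  exact allRangeF_sound _ _ (checkPointF_eq cert) 290800 25 chkP_290800 i (by omega) (by omega)
              · skip
                rcases Nat.lt_or_ge i 290850 with h8 | h8
                · skip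
                  exact allRangeF_sound _ _ (checkPointF_eq cert) 290825 25 chkP_290825 i (by omega) (by omega)
                · skip
                  rcases Nat.lt_or_ge i 290875 with h9 | h9
                  · skip
                    exact allRangeF_sound _ _ (checkPointF_eq cert) 290850 25 chkP_290850 i (by omega) (by omega)
                  · skip
                    exact allRangeF_sound _ _ (checkPointF_eq cert) 290875 25 chkP_290875 i (by omega) (by omega)
          · skip
            rcases Nat.lt_or_ge i 291025 with h6 | h6
            · skip
              rcases Nat.lt_or_ge i 290950 with h7 | h7
              · skip
                rcases Nat.lt_or_ge i 290925 with h8 | h8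
                · skip
                  exact allRangeF_sound _ _ (checkPointF_eq cert) 290900 25 chkP_290900 i (by omega) (by omega)
                · skip
                  exact allRangeF_sound _ _ (checkPointF_eq cert) 290925 25 chkP_290925 i (by omega) (by omega)
              · skip
                rcases Nat.lt_or_ge i 290975 with h8 | h8
                · skip
                  exact allRangeF_sound _ _ (checkPointF_eq cert) 290950 25 chkP_290950 i (by omega) (by omega)
                · skip
                  rcases Nat.lt_or_ge i 291000 with h9 | h9
                  · skip
                    exact allRangeF_sound _ _ (checkPointF_eq cert) 290975 25 chkP_290975 i (by omega) (by omega)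
                  · skip
                    exact allRangeF_sound _ _ (checkPointF_eq cert) 291000 25 chkP_291000 i (by omega) (by omega)
            · skip
              rcases Nat.lt_or_ge i 291075 with h7 | h7
              · skip
                rcases Nat.lt_or_ge i 291050 with h8 | h8
                · skip
                  exact allRangeF_sound _ _ (checkPointF_eq cert) 291025 25 chkP_291025 i (by omega) (by omega)
                · skip
                  exact allRangeF_sound _ _ (checkPointF_eq cert) 291050 25 chkP_291050 i (by omega) (by omega)
              · skip
                rcases Nat.lt_or_ge i 291100 with h8 | h8
                · skip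
                  exact allRangeF_sound _ _ (checkPointF_eq cert) 291075 25 chkP_291075 i (by omega) (by omega)
                · skip
                  rcases Nat.lt_or_ge i 291125 with h9 | h9
                  · skip
                    exact allRangeF_sound _ _ (checkPointF_eq cert) 291100 25 chkP_291100 i (by omega) (by omega)
                  · skip
                    exact allRangeF_sound _ _ (checkPointF_eq cert) 291125 25 chkP_291125 i (by omega) (by omega)
        · skip
          rcases Nat.lt_or_ge i 291400 with h5 | h5
          · skip
            rcases Nat.lt_or_ge i 291275 with h6 | h6
            · skip
              rcases Nat.lt_or_ge i 291200 with h7 | h7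
              · skip
                rcases Nat.lt_or_ge i 291175 with h8 | h8
                · skip
                  exact allRangeF_sound _ _ (checkPointF_eq cert) 291150 25 chkP_291150 i (by omega) (by omega)
                · skip
                  exact allRangeF_sound _ _ (checkPointF_eq cert) 291175 25 chkP_291175 i (by omega) (by omega)
              · skip
                rcases Nat.lt_or_ge i 291225 with h8 | h8
                · skip
                  exact allRangeF_sound _ _ (checkPointF_eq cert) 291200 25 chkP_291200 i (by omega) (by omega)
                · skip
                  rcases Nat.lt_or_ge i 291250 with h9 | h9
                  · skip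
                    exact allRangeF_sound _ _ (checkPointF_eq cert) 291225 25 chkP_291225 i (by omega) (by omega)
                  · skip
                    exact allRangeF_sound _ _ (checkPointF_eq cert) 291250 25 chkP_291250 i (by omega) (by omega)
            · skip
              rcases Nat.lt_or_ge i 291325 with h7 | h7
              · skip
                rcases Nat.lt_or_ge i 291300 with h8 | h8
                · skip
                  exact allRangeF_sound _ _ (checkPointF_eq cert) 291275 25 chkP_291275 i (by omega) (by omega)
                · skip
                  exact allRangeF_sound _ _ (checkPointF_eq cert) 291300 25 chkP_291300 i (by omega) (by omega)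
              · skip
                rcases Nat.lt_or_ge i 291350 with h8 | h8
                · skip
                  exact allRangeF_sound _ _ (checkPointF_eq cert) 291325 25 chkP_291325 i (by omega) (by omega)
                · skip
                  rcases Nat.lt_or_ge i 291375 with h9 | h9
                  · skip
                    exact allRangeF_sound _ _ (checkPointF_eq cert) 291350 25 chkP_291350 i (by omega) (by omega)
                  · skip
                    exact allRangeF_sound _ _ (checkPointF_eq cert) 291375 25 chkP_291375 i (by omega) (by omega)
          · skip
            rcases Nat.lt_or_ge i 291525 with h6 | h6
            · skip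
              rcases Nat.lt_or_ge i 291450 with h7 | h7
              · skip
                rcases Nat.lt_or_ge i 291425 with h8 | h8
                · skip
                  exact allRangeF_sound _ _ (checkPointF_eq cert) 291400 25 chkP_291400 i (by omega) (by omega)
                · skip
                  exact allRangeF_sound _ _ (checkPointF_eq cert) 291425 25 chkP_291425 i (by omega) (by omega)
              · skip
                rcases Nat.lt_or_ge i 291475 with h8 | h8
                · skip
                  exact allRangeF_sound _ _ (checkPointF_eq cert) 291450 25 chkP_291450 i (by omega) (by omega)
                · skip
                  rcases Nat.lt_or_ge i 291500 with h9 | h9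
                  · skip
                    exact allRangeF_sound _ _ (checkPointF_eq cert) 291475 25 chkP_291475 i (by omega) (by omega)
                  · skip
                    exact allRangeF_sound _ _ (checkPointF_eq cert) 291500 25 chkP_291500 i (by omega) (by omega)
            · skip
              rcases Nat.lt_or_ge i 291575 with h7 | h7
              · skip
                rcases Nat.lt_or_ge i 291550 with h8 | h8
                · skip
                  exact allRangeF_sound _ _ (checkPointF_eq cert) 291525 25 chkP_291525 i (by omega) (by omega)
                · skip
                  exact allRangeF_sound _ _ (checkPointF_eq cert) 291550 25 chkP_291550 i (by omega) (by omega)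
              · skip
                rcases Nat.lt_or_ge i 291600 with h8 | h8
                · skip
                  exact allRangeF_sound _ _ (checkPointF_eq cert) 291575 25 chkP_291575 i (by omega) (by omega)
                · skip
                  rcases Nat.lt_or_ge i 291625 with h9 | h9
                  · skip
                    exact allRangeF_sound _ _ (checkPointF_eq cert) 291600 25 chkP_291600 i (by omega) (by omega)
                  · skip
                    exact allRangeF_sound _ _ (checkPointF_eq cert) 291625 25 chkP_291625 i (by omega) (by omega)

end Cfsg.Agent.Lib.Helper28.Fi24Data
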