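import Cfsg.Agent.Lib.Helper28.Fi24Data
import Cfsg.Agent.Lib.Helper28.TCFastB

set_option autoImplicit false
set_option maxRecDepth 1000000
set_option linter.all false
set_option Elab.async false

namespace Cfsg.Agent.Lib.Helper28.Fi24Data

open Cfsg.Agent.Lib.Helper28B

theorem chkP_291650 : allRangeF (checkPointF cert) (nat_lit 291650) (nat_lit 25) = true := by decide +kernel
theorem chkP_291675 : allRangeF (checkPointF cert) (nat_lit 291675) (nat_lit 25) = true := by decide +kernel
theorem chkP_291700 : allRangeF (checkPointF cert) (nat_lit 291700) (nat_lit 25) = true := by decide +kernel
theorem chkP_291725 : allRangeF (checkPointF cert) (nat_lit 291725) (nat_lit 25) = true := by decide +kernel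
theorem chkP_291750 : allRangeF (checkPointF cert) (nat_lit 291750) (nat_lit 25) = true := by decide +kernel
theorem chkP_291775 : allRangeF (checkPointF cert) (nat_lit 291775) (nat_lit 25) = true := by decide +kernel
theorem chkP_291800 : allRangeF (checkPointF cert) (nat_lit 291800) (nat_lit 25) = true := by decide +kernel
theorem chkP_291825 : allRangeF (checkPointF cert) (nat_lit 291825) (nat_lit 25) = true := by decide +kernel
theorem chkP_291850 : allRangeF (checkPointF cert) (nat_lit 291850) (nat_lit 25) = true := by decide +kernel
theorem chkP_291875 : allRangeF (checkPointF cert) (nat_lit 291875) (nat_lit 25) = true := by decide +kernel
theorem chkP_291900 : allRangeF (checkPointF cert) (nat_lit 291900) (nat_lit 25) = true := by decide +kernel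
theorem chkP_291925 : allRangeF (checkPointF cert) (nat_lit 291925) (nat_lit 25) = true := by decide +kernel
theorem chkP_291950 : allRangeF (checkPointF cert) (nat_lit 291950) (nat_lit 25) = true := by decide +kernel
theorem chkP_291975 : allRangeF (checkPointF cert) (nat_lit 291975) (nat_lit 25) = true := by decide +kernel
theorem chkP_292000 : allRangeF (checkPointF cert) (nat_lit 292000) (nat_lit 25) = true := by decide +kernel
theorem chkP_292025 : allRangeF (checkPointF cert) (nat_lit 292025) (nat_lit 25) = true := by decide +kernel
theorem chkP_292050 : allRangeF (checkPointF cert) (nat_lit 292050) (nat_lit 25) = true := by decide +kernel
theorem chkP_292075 : allRangeF (checkPointF cert) (nat_lit 292075) (nat_lit 25) = true := by decide +kernel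
theorem chkP_292100 : allRangeF (checkPointF cert) (nat_lit 292100) (nat_lit 25) = true := by decide +kernel
theorem chkP_292125 : allRangeF (checkPointF cert) (nat_lit 292125) (nat_lit 25) = true := by decide +kernel
theorem chkP_292150 : allRangeF (checkPointF cert) (nat_lit 292150) (nat_lit 25) = true := by decide +kernel
theorem chkP_292175 : allRangeF (checkPointF cert) (nat_lit 292175) (nat_lit 25) = true := by decide +kernel
theorem chkP_292200 : allRangeF (checkPointF cert) (nat_lit 292200) (nat_lit 25) = true := by decide +kernel
theorem chkP_292225 : allRangeF (checkPointF cert) (nat_lit 292225) (nat_lit 25) = true := by decide +kernel
theorem chkP_292250 : allRangeF (checkPointF cert) (nat_lit 292250) (nat_lit 25) = true := by decide +kernel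
theorem chkP_292275 : allRangeF (checkPointF cert) (nat_lit 292275) (nat_lit 25) = true := by decide +kernel
theorem chkP_292300 : allRangeF (checkPointF cert) (nat_lit 292300) (nat_lit 25) = true := by decide +kernel
theorem chkP_292325 : allRangeF (checkPointF cert) (nat_lit 292325) (nat_lit 25) = true := by decide +kernel
theorem chkP_292350 : allRangeF (checkPointF cert) (nat_lit 292350) (nat_lit 25) = true := by decide +kernel
theorem chkP_292375 : allRangeF (checkPointF cert) (nat_lit 292375) (nat_lit 25) = true := by decide +kernel
theorem chkP_292400 : allRangeF (checkPointF cert) (nat_lit 292400) (nat_lit 25) = true := by decide +kernel
theorem chkP_292425 : allRangeF (checkPointF cert) (nat_lit 292425) (nat_lit 25) = true := by decide +kernel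
theorem chkP_292450 : allRangeF (checkPointF cert) (nat_lit 292450) (nat_lit 25) = true := by decide +kernel
theorem chkP_292475 : allRangeF (checkPointF cert) (nat_lit 292475) (nat_lit 25) = true := by decide +kernel
theorem chkP_292500 : allRangeF (checkPointF cert) (nat_lit 292500) (nat_lit 25) = true := by decide +kernel
theorem chkP_292525 : allRangeF (checkPointF cert) (nat_lit 292525) (nat_lit 25) = true := by decide +kernel
theorem chkP_292550 : allRangeF (checkPointF cert) (nat_lit 292550) (nat_lit 25) = true := by decide +kernel
theorem chkP_292575 : allRangeF (checkPointF cert) (nat_lit 292575) (nat_lit 25) = true := by decide +kernel
theorem chkP_292600 : allRangeF (checkPointF cert) (nat_lit 292600) (nat_lit 25) = true := by decide +kernel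
theorem chkP_292625 : allRangeF (checkPointF cert) (nat_lit 292625) (nat_lit 25) = true := by decide +kernel
theorem chkP_292650 : allRangeF (checkPointF cert) (nat_lit 292650) (nat_lit 25) = true := by decide +kernel
theorem chkP_292675 : allRangeF (checkPointF cert) (nat_lit 292675) (nat_lit 25) = true := by decide +kernel
theorem chkP_292700 : allRangeF (checkPointF cert) (nat_lit 292700) (nat_lit 25) = true := by decide +kernel
theorem chkP_292725 : allRangeF (checkPointF cert) (nat_lit 292725) (nat_lit 25) = true := by decide +kernel
theorem chkP_292750 : allRangeF (checkPointF cert) (nat_lit 292750) (nat_lit 25) = true := by decide +kernel
theorem chkP_292775 : allRangeF (checkPointF cert) (nat_lit 292775) (nat_lit 25) = true := by decide +kernel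
theorem chkP_292800 : allRangeF (checkPointF cert) (nat_lit 292800) (nat_lit 25) = true := by decide +kernel
theorem chkP_292825 : allRangeF (checkPointF cert) (nat_lit 292825) (nat_lit 25) = true := by decide +kernel
theorem chkP_292850 : allRangeF (checkPointF cert) (nat_lit 292850) (nat_lit 25) = true := by decide +kernel
theorem chkP_292875 : allRangeF (checkPointF cert) (nat_lit 292875) (nat_lit 25) = true := by decide +kernel
theorem chkP_292900 : allRangeF (checkPointF cert) (nat_lit 292900) (nat_lit 25) = true := by decide +kernel
theorem chkP_292925 : allRangeF (checkPointF cert) (nat_lit 292925) (nat_lit 25) = true := by decide +kernel
theorem chkP_292950 : allRangeF (checkPointF cert) (nat_lit 292950) (nat_lit 25) = true := by decide +kernel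
theorem chkP_292975 : allRangeF (checkPointF cert) (nat_lit 292975) (nat_lit 25) = true := by decide +kernel
theorem chkP_293000 : allRangeF (checkPointF cert) (nat_lit 293000) (nat_lit 25) = true := by decide +kernel
theorem chkP_293025 : allRangeF (checkPointF cert) (nat_lit 293025) (nat_lit 25) = true := by decide +kernel
theorem chkP_293050 : allRangeF (checkPointF cert) (nat_lit 293050) (nat_lit 25) = true := by decide +kernel
theorem chkP_293075 : allRangeF (checkPointF cert) (nat_lit 293075) (nat_lit 25) = true := by decide +kernel
theorem chkP_293100 : allRangeF (checkPointF cert) (nat_lit 293100) (nat_lit 25) = true := by decide +kernel
theorem chkP_293125 : allRangeF (checkPointF cert) (nat_lit 293125) (nat_lit 25) = true := by decide +kernel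
theorem chkP_293150 : allRangeF (checkPointF cert) (nat_lit 293150) (nat_lit 25) = true := by decide +kernel
theorem chkP_293175 : allRangeF (checkPointF cert) (nat_lit 293175) (nat_lit 25) = true := by decide +kernel
theorem chkP_293200 : allRangeF (checkPointF cert) (nat_lit 293200) (nat_lit 25) = true := by decide +kernel
theorem chkP_293225 : allRangeF (checkPointF cert) (nat_lit 293225) (nat_lit 25) = true := by decide +kernel
theorem chkP_293250 : allRangeF (checkPointF cert) (nat_lit 293250) (nat_lit 25) = true := by decide +kernel
theorem chkP_293275 : allRangeF (checkPointF cert) (nat_lit 293275) (nat_lit 25) = true := by decide +kernel
theorem chkP_293300 : allRangeF (checkPointF cert) (nat_lit 293300) (nat_lit 25) = true := by decide +kernel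
theorem chkP_293325 : allRangeF (checkPointF cert) (nat_lit 293325) (nat_lit 25) = true := by decide +kernel
theorem chkP_293350 : allRangeF (checkPointF cert) (nat_lit 293350) (nat_lit 25) = true := by decide +kernel
theorem chkP_293375 : allRangeF (checkPointF cert) (nat_lit 293375) (nat_lit 25) = true := by decide +kernel
theorem chkP_293400 : allRangeF (checkPointF cert) (nat_lit 293400) (nat_lit 25) = true := by decide +kernel
theorem chkP_293425 : allRangeF (checkPointF cert) (nat_lit 293425) (nat_lit 25) = true := by decide +kernel
theorem chkP_293450 : allRangeF (checkPointF cert) (nat_lit 293450) (nat_lit 25) = true := by decide +kernel
theorem chkP_293475 : allRangeF (checkPointF cert) (nat_lit 293475) (nat_lit 25) = true := by decide +kernel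
theorem chkP_293500 : allRangeF (checkPointF cert) (nat_lit 293500) (nat_lit 25) = true := by decide +kernel
theorem chkP_293525 : allRangeF (checkPointF cert) (nat_lit 293525) (nat_lit 25) = true := by decide +kernel
theorem chkP_293550 : allRangeF (checkPointF cert) (nat_lit 293550) (nat_lit 25) = true := by decide +kernel
theorem chkP_293575 : allRangeF (checkPointF cert) (nat_lit 293575) (nat_lit 25) = true := by decide +kernel
theorem chkP_293600 : allRangeF (checkPointF cert) (nat_lit 293600) (nat_lit 25) = true := by decide +kernel
theorem chkP_293625 : allRangeF (checkPointF cert) (nat_lit 293625) (nat_lit 25) = true := by decide +kernel
theorem chkP_293650 : allRangeF (checkPointF cert) (nat_lit 293650) (nat_lit 25) = true := by decide +kernel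
theorem chkP_293675 : allRangeF (checkPointF cert) (nat_lit 293675) (nat_lit 25) = true := by decide +kernel
theorem chkP_293700 : allRangeF (checkPointF cert) (nat_lit 293700) (nat_lit 25) = true := by decide +kernel
theorem chkP_293725 : allRangeF (checkPointF cert) (nat_lit 293725) (nat_lit 25) = true := by decide +kernel
theorem chkP_293750 : allRangeF (checkPointF cert) (nat_lit 293750) (nat_lit 25) = true := by decide +kernel
theorem chkP_293775 : allRangeF (checkPointF cert) (nat_lit 293775) (nat_lit 25) = true := by decide +kernel
theorem chkP_293800 : allRangeF (checkPointF cert) (nat_lit 293800) (nat_lit 25) = true := by decide +kernel
theorem chkP_293825 : allRangeF (checkPointF cert) (nat_lit 293825) (nat_lit 25) = true := by decide +kernel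
theorem chkP_293850 : allRangeF (checkPointF cert) (nat_lit 293850) (nat_lit 25) = true := by decide +kernel
theorem chkP_293875 : allRangeF (checkPointF cert) (nat_lit 293875) (nat_lit 25) = true := by decide +kernel
theorem chkP_293900 : allRangeF (checkPointF cert) (nat_lit 293900) (nat_lit 25) = true := by decide +kernel
theorem chkP_293925 : allRangeF (checkPointF cert) (nat_lit 293925) (nat_lit 25) = true := by decide +kernel
theorem chkP_293950 : allRangeF (checkPointF cert) (nat_lit 293950) (nat_lit 25) = true := by decide +kernel
theorem chkP_293975 : allRangeF (checkPointF cert) (nat_lit 293975) (nat_lit 25) = true := by decide +kernel
theorem chkP_294000 : allRangeF (checkPointF cert) (nat_lit 294000) (nat_lit 25) = true := by decide +kernel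
theorem chkP_294025 : allRangeF (checkPointF cert) (nat_lit 294025) (nat_lit 25) = true := by decide +kernel
theorem chkP_294050 : allRangeF (checkPointF cert) (nat_lit 294050) (nat_lit 25) = true := by decide +kernel
theorem chkP_294075 : allRangeF (checkPointF cert) (nat_lit 294075) (nat_lit 25) = true := by decide +kernel
theorem chkP_294100 : allRangeF (checkPointF cert) (nat_lit 294100) (nat_lit 25) = true := by decide +kernel
theorem chkP_294125 : allRangeF (checkPointF cert) (nat_lit 294125) (nat_lit 25) = true := by decide +kernel
theorem chkP_294150 : allRangeF (checkPointF cert) (nat_lit 294150) (nat_lit 25) = true := by decide +kernel
theorem chkP_294175 : allRangeF (checkPointF cert) (nat_lit 294175) (nat_lit 25) = true := by decide +kernel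
theorem chkP_294200 : allRangeF (checkPointF cert) (nat_lit 294200) (nat_lit 25) = true := by decide +kernel
theorem chkP_294225 : allRangeF (checkPointF cert) (nat_lit 294225) (nat_lit 25) = true := by decide +kernel
theorem chkP_294250 : allRangeF (checkPointF cert) (nat_lit 294250) (nat_lit 25) = true := by decide +kernel
theorem chkP_294275 : allRangeF (checkPointF cert) (nat_lit 294275) (nat_lit 25) = true := by decide +kernel
theorem chkP_294300 : allRangeF (checkPointF cert) (nat_lit 294300) (nat_lit 25) = true := by decide +kernel
theorem chkP_294325 : allRangeF (checkPointF cert) (nat_lit 294325) (nat_lit 25) = true := by decide +kernel
theorem chkP_294350 : allRangeF (checkPointF cert) (nat_lit 294350) (nat_lit 25) = true := by decide +kernel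
theorem chkP_294375 : allRangeF (checkPointF cert) (nat_lit 294375) (nat_lit 25) = true := by decide +kernel
theorem chkP_294400 : allRangeF (checkPointF cert) (nat_lit 294400) (nat_lit 25) = true := by decide +kernel
theorem chkP_294425 : allRangeF (checkPointF cert) (nat_lit 294425) (nat_lit 25) = true := by decide +kernel
theorem chkP_294450 : allRangeF (checkPointF cert) (nat_lit 294450) (nat_lit 25) = true := by decide +kernel
theorem chkP_294475 : allRangeF (checkPointF cert) (nat_lit 294475) (nat_lit 25) = true := by decide +kernel
theorem chkP_294500 : allRangeF (checkPointF cert) (nat_lit 294500) (nat_lit 25) = true := by decide +kernel
theorem chkP_294525 : allRangeF (checkPointF cert) (nat_lit 294525) (nat_lit 25) = true := by decide +kernel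
theorem chkP_294550 : allRangeF (checkPointF cert) (nat_lit 294550) (nat_lit 25) = true := by decide +kernel
theorem chkP_294575 : allRangeF (checkPointF cert) (nat_lit 294575) (nat_lit 25) = true := by decide +kernel
theorem chkP_294600 : allRangeF (checkPointF cert) (nat_lit 294600) (nat_lit 25) = true := by decide +kernel
theorem chkP_294625 : allRangeF (checkPointF cert) (nat_lit 294625) (nat_lit 25) = true := by decide +kernel
theorem chkP_294650 : allRangeF (checkPointF cert) (nat_lit 294650) (nat_lit 25) = true := by decide +kernel
theorem chkP_294675 : allRangeF (checkPointF cert) (nat_lit 294675) (nat_lit 25) = true := by decide +kernel
theorem chkP_294700 : allRangeF (checkPointF cert) (nat_lit 294700) (nat_lit 25) = true := by decide +kernel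
theorem chkP_294725 : allRangeF (checkPointF cert) (nat_lit 294725) (nat_lit 25) = true := by decide +kernel
theorem chkP_294750 : allRangeF (checkPointF cert) (nat_lit 294750) (nat_lit 25) = true := by decide +kernel
theorem chkP_294775 : allRangeF (checkPointF cert) (nat_lit 294775) (nat_lit 25) = true := by decide +kernel
theorem chkP_294800 : allRangeF (checkPointF cert) (nat_lit 294800) (nat_lit 25) = true := by decide +kernel
theorem chkP_294825 : allRangeF (checkPointF cert) (nat_lit 294825) (nat_lit 25) = true := by decide +kernel
theorem chkP_294850 : allRangeF (checkPointF cert) (nat_lit 294850) (nat_lit 25) = true := by decide +kernel
theorem chkP_294875 : allRangeF (checkPointF cert) (nat_lit 294875) (nat_lit 25) = true := by decide +kernel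
theorem chkP_294900 : allRangeF (checkPointF cert) (nat_lit 294900) (nat_lit 25) = true := by decide +kernel
theorem chkP_294925 : allRangeF (checkPointF cert) (nat_lit 294925) (nat_lit 25) = true := by decide +kernel
theorem chkP_294950 : allRangeF (checkPointF cert) (nat_lit 294950) (nat_lit 25) = true := by decide +kernel
theorem chkP_294975 : allRangeF (checkPointF cert) (nat_lit 294975) (nat_lit 25) = true := by decide +kernel
theorem chkP_295000 : allRangeF (checkPointF cert) (nat_lit 295000) (nat_lit 25) = true := by decide +kernel
theorem chkP_295025 : allRangeF (checkPointF cert) (nat_lit 295025) (nat_lit 25) = true := by decide +kernel
theorem chkP_295050 : allRangeF (checkPointF cert) (nat_lit 295050) (nat_lit 25) = true := by decide +kernel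
theorem chkP_295075 : allRangeF (checkPointF cert) (nat_lit 295075) (nat_lit 25) = true := by decide +kernel
theorem chkP_295100 : allRangeF (checkPointF cert) (nat_lit 295100) (nat_lit 25) = true := by decide +kernel
theorem chkP_295125 : allRangeF (checkPointF cert) (nat_lit 295125) (nat_lit 25) = true := by decide +kernel
theorem chkP_295150 : allRangeF (checkPointF cert) (nat_lit 295150) (nat_lit 25) = true := by decide +kernel
theorem chkP_295175 : allRangeF (checkPointF cert) (nat_lit 295175) (nat_lit 25) = true := by decide +kernel
theorem chkP_295200 : allRangeF (checkPointF cert) (nat_lit 295200) (nat_lit 25) = true := by decide +kernel
theorem chkP_295225 : allRangeF (checkPointF cert) (nat_lit 295225) (nat_lit 25) = true := by decide +kernel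
theorem chkP_295250 : allRangeF (checkPointF cert) (nat_lit 295250) (nat_lit 25) = true := by decide +kernel
theorem chkP_295275 : allRangeF (checkPointF cert) (nat_lit 295275) (nat_lit 25) = true := by decide +kernel
theorem chkP_295300 : allRangeF (checkPointF cert) (nat_lit 295300) (nat_lit 25) = true := by decide +kernel
theorem chkP_295325 : allRangeF (checkPointF cert) (nat_lit 295325) (nat_lit 25) = true := by decide +kernel
theorem chkP_295350 : allRangeF (checkPointF cert) (nat_lit 295350) (nat_lit 25) = true := by decide +kernel
theorem chkP_295375 : allRangeF (checkPointF cert) (nat_lit 295375) (nat_lit 25) = true := by decide +kernel
theorem chkP_295400 : allRangeF (checkPointF cert) (nat_lit 295400) (nat_lit 25) = true := by decide +kernel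
theorem chkP_295425 : allRangeF (checkPointF cert) (nat_lit 295425) (nat_lit 25) = true := by decide +kernel
theorem chkP_295450 : allRangeF (checkPointF cert) (nat_lit 295450) (nat_lit 25) = true := by decide +kernel
theorem chkP_295475 : allRangeF (checkPointF cert) (nat_lit 295475) (nat_lit 25) = true := by decide +kernel
theorem chkP_295500 : allRangeF (checkPointF cert) (nat_lit 295500) (nat_lit 25) = true := by decide +kernel
theorem chkP_295525 : allRangeF (checkPointF cert) (nat_lit 295525) (nat_lit 25) = true := by decide +kernel
theorem chkP_295550 : allRangeF (checkPointF cert) (nat_lit 295550) (nat_lit 25) = true := by decide +kernel
theorem chkP_295575 : allRangeF (checkPointF cert) (nat_lit 295575) (nat_lit 25) = true := by decide +kernel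
theorem chkP_295600 : allRangeF (checkPointF cert) (nat_lit 295600) (nat_lit 25) = true := by decide +kernel
theorem chkP_295625 : allRangeF (checkPointF cert) (nat_lit 295625) (nat_lit 25) = true := by decide +kernel
theorem chkP_295650 : allRangeF (checkPointF cert) (nat_lit 295650) (nat_lit 25) = true := by decide +kernel
theorem chkP_295675 : allRangeF (checkPointF cert) (nat_lit 295675) (nat_lit 25) = true := by decide +kernel
theorem chkP_295700 : allRangeF (checkPointF cert) (nat_lit 295700) (nat_lit 25) = true := by decide +kernel
theorem chkP_295725 : allRangeF (checkPointF cert) (nat_lit 295725) (nat_lit 25) = true := by decide +kernel
theorem chkP_295750 : allRangeF (checkPointF cert) (nat_lit 295750) (nat_lit 25) = true := by decide +kernel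
theorem chkP_295775 : allRangeF (checkPointF cert) (nat_lit 295775) (nat_lit 25) = true := by decide +kernel
theorem chkP_295800 : allRangeF (checkPointF cert) (nat_lit 295800) (nat_lit 25) = true := by decide +kernel
theorem chkP_295825 : allRangeF (checkPointF cert) (nat_lit 295825) (nat_lit 25) = true := by decide +kernel
theorem chkP_295850 : allRangeF (checkPointF cert) (nat_lit 295850) (nat_lit 25) = true := by decide +kernel
theorem chkP_295875 : allRangeF (checkPointF cert) (nat_lit 295875) (nat_lit 25) = true := by decide +kernel
theorem chkP_295900 : allRangeF (checkPointF cert) (nat_lit 295900) (nat_lit 25) = true := by decide +kernel
theorem chkP_295925 : allRangeF (checkPointF cert) (nat_lit 295925) (nat_lit 25) = true := by decide +kernel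
theorem chkP_295950 : allRangeF (checkPointF cert) (nat_lit 295950) (nat_lit 25) = true := by decide +kernel
theorem chkP_295975 : allRangeF (checkPointF cert) (nat_lit 295975) (nat_lit 25) = true := by decide +kernel
theorem chkP_296000 : allRangeF (checkPointF cert) (nat_lit 296000) (nat_lit 25) = true := by decide +kernel
theorem chkP_296025 : allRangeF (checkPointF cert) (nat_lit 296025) (nat_lit 25) = true := by decide +kernel
theorem chkP_296050 : allRangeF (checkPointF cert) (nat_lit 296050) (nat_lit 25) = true := by decide +kernel
theorem chkP_296075 : allRangeF (checkPointF cert) (nat_lit 296075) (nat_lit 25) = true := by decide +kernel
theorem chkP_296100 : allRangeF (checkPointF cert) (nat_lit 296100) (nat_lit 25) = true := by decide +kernel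
theorem chkP_296125 : allRangeF (checkPointF cert) (nat_lit 296125) (nat_lit 25) = true := by decide +kernel
theorem chkP_296150 : allRangeF (checkPointF cert) (nat_lit 296150) (nat_lit 25) = true := by decide +kernel
theorem chkP_296175 : allRangeF (checkPointF cert) (nat_lit 296175) (nat_lit 25) = true := by decide +kernel
theorem chkP_296200 : allRangeF (checkPointF cert) (nat_lit 296200) (nat_lit 25) = true := by decide +kernel
theorem chkP_296225 : allRangeF (checkPointF cert) (nat_lit 296225) (nat_lit 25) = true := by decide +kernel
theorem chkP_296250 : allRangeF (checkPointF cert) (nat_lit 296250) (nat_lit 25) = true := by decide +kernel
theorem chkP_296275 : allRangeF (checkPointF cert) (nat_lit 296275) (nat_lit 25) = true := by decide +kernel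
theorem chkP_296300 : allRangeF (checkPointF cert) (nat_lit 296300) (nat_lit 25) = true := by decide +kernel
theorem chkP_296325 : allRangeF (checkPointF cert) (nat_lit 296325) (nat_lit 25) = true := by decide +kernel
theorem chkP_296350 : allRangeF (checkPointF cert) (nat_lit 296350) (nat_lit 25) = true := by decide +kernel
theorem chkP_296375 : allRangeF (checkPointF cert) (nat_lit 296375) (nat_lit 25) = true := by decide +kernel
theorem chkP_296400 : allRangeF (checkPointF cert) (nat_lit 296400) (nat_lit 25) = true := by decide +kernel
theorem chkP_296425 : allRangeF (checkPointF cert) (nat_lit 296425) (nat_lit 25) = true := by decide +kernel
theorem chkP_296450 : allRangeF (checkPointF cert) (nat_lit 296450) (nat_lit 25) = true := by decide +kernel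
theorem chkP_296475 : allRangeF (checkPointF cert) (nat_lit 296475) (nat_lit 25) = true := by decide +kernel
theorem chkP_296500 : allRangeF (checkPointF cert) (nat_lit 296500) (nat_lit 25) = true := by decide +kernel
theorem chkP_296525 : allRangeF (checkPointF cert) (nat_lit 296525) (nat_lit 25) = true := by decide +kernel
theorem chkP_296550 : allRangeF (checkPointF cert) (nat_lit 296550) (nat_lit 25) = true := by decide +kernel
theorem chkP_296575 : allRangeF (checkPointF cert) (nat_lit 296575) (nat_lit 25) = true := by decide +kernel
theorem chkP_296600 : allRangeF (checkPointF cert) (nat_lit 296600) (nat_lit 25) = true := by decide +kernel
theorem chkP_296625 : allRangeF (checkPointF cert) (nat_lit 296625) (nat_lit 25) = true := by decide +kernel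
theorem chkP_296650 : allRangeF (checkPointF cert) (nat_lit 296650) (nat_lit 25) = true := by decide +kernel
theorem chkP_296675 : allRangeF (checkPointF cert) (nat_lit 296675) (nat_lit 25) = true := by decide +kernel
theorem chkP_296700 : allRangeF (checkPointF cert) (nat_lit 296700) (nat_lit 25) = true := by decide +kernel
theorem chkP_296725 : allRangeF (checkPointF cert) (nat_lit 296725) (nat_lit 25) = true := by decide +kernel
theorem chkP_296750 : allRangeF (checkPointF cert) (nat_lit 296750) (nat_lit 25) = true := by decide +kernel
theorem chkP_296775 : allRangeF (checkPointF cert) (nat_lit 296775) (nat_lit 25) = true := by decide +kernel
theorem chkP_296800 : allRangeF (checkPointF cert) (nat_lit 296800) (nat_lit 25) = true := by decide +kernel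
theorem chkP_296825 : allRangeF (checkPointF cert) (nat_lit 296825) (nat_lit 25) = true := by decide +kernel
theorem chkP_296850 : allRangeF (checkPointF cert) (nat_lit 296850) (nat_lit 25) = true := by decide +kernel
theorem chkP_296875 : allRangeF (checkPointF cert) (nat_lit 296875) (nat_lit 25) = true := by decide +kernel
theorem chkP_296900 : allRangeF (checkPointF cert) (nat_lit 296900) (nat_lit 25) = true := by decide +kernel
theorem chkP_296925 : allRangeF (checkPointF cert) (nat_lit 296925) (nat_lit 25) = true := by decide +kernel
theorem chkP_296950 : allRangeF (checkPointF cert) (nat_lit 296950) (nat_lit 25) = true := by decide +kernel
theorem chkP_296975 : allRangeF (checkPointF cert) (nat_lit 296975) (nat_lit 25) = true := by decide +kernel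
theorem chkP_297000 : allRangeF (checkPointF cert) (nat_lit 297000) (nat_lit 25) = true := by decide +kernel
theorem chkP_297025 : allRangeF (checkPointF cert) (nat_lit 297025) (nat_lit 25) = true := by decide +kernel
theorem chkP_297050 : allRangeF (checkPointF cert) (nat_lit 297050) (nat_lit 25) = true := by decide +kernel
theorem chkP_297075 : allRangeF (checkPointF cert) (nat_lit 297075) (nat_lit 25) = true := by decide +kernel
theorem chkP_297100 : allRangeF (checkPointF cert) (nat_lit 297100) (nat_lit 25) = true := by decide +kernel
theorem chkP_297125 : allRangeF (checkPointF cert) (nat_lit 297125) (nat_lit 25) = true := by decide +kernel
theorem chkP_297150 : allRangeF (checkPointF cert) (nat_lit 297150) (nat_lit 25) = true := by decide +kernel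
theorem chkP_297175 : allRangeF (checkPointF cert) (nat_lit 297175) (nat_lit 25) = true := by decide +kernel
theorem chkP_297200 : allRangeF (checkPointF cert) (nat_lit 297200) (nat_lit 25) = true := by decide +kernel
theorem chkP_297225 : allRangeF (checkPointF cert) (nat_lit 297225) (nat_lit 25) = true := by decide +kernel
theorem chkP_297250 : allRangeF (checkPointF cert) (nat_lit 297250) (nat_lit 25) = true := by decide +kernel
theorem chkP_297275 : allRangeF (checkPointF cert) (nat_lit 297275) (nat_lit 25) = true := by decide +kernel
theorem chkP_297300 : allRangeF (checkPointF cert) (nat_lit 297300) (nat_lit 25) = true := by decide +kernel
theorem chkP_297325 : allRangeF (checkPointF cert) (nat_lit 297325) (nat_lit 25) = true := by decide +kernel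
theorem chkP_297350 : allRangeF (checkPointF cert) (nat_lit 297350) (nat_lit 25) = true := by decide +kernel
theorem chkP_297375 : allRangeF (checkPointF cert) (nat_lit 297375) (nat_lit 25) = true := by decide +kernel
theorem chkP_297400 : allRangeF (checkPointF cert) (nat_lit 297400) (nat_lit 25) = true := by decide +kernel
theorem chkP_297425 : allRangeF (checkPointF cert) (nat_lit 297425) (nat_lit 25) = true := by decide +kernel
theorem chkP_297450 : allRangeF (checkPointF cert) (nat_lit 297450) (nat_lit 25) = true := by decide +kernel
theorem chkP_297475 : allRangeF (checkPointF cert) (nat_lit 297475) (nat_lit 25) = true := by decide +kernel
theorem chkP_297500 : allRangeF (checkPointF cert) (nat_lit 297500) (nat_lit 25) = true := by decide +kernel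
theorem chkP_297525 : allRangeF (checkPointF cert) (nat_lit 297525) (nat_lit 25) = true := by decide +kernel
theorem chkP_297550 : allRangeF (checkPointF cert) (nat_lit 297550) (nat_lit 25) = true := by decide +kernel
theorem chkP_297575 : allRangeF (checkPointF cert) (nat_lit 297575) (nat_lit 25) = true := by decide +kernel
theorem chkP_297600 : allRangeF (checkPointF cert) (nat_lit 297600) (nat_lit 25) = true := by decide +kernel
theorem chkP_297625 : allRangeF (checkPointF cert) (nat_lit 297625) (nat_lit 25) = true := by decide +kernel
theorem chkP_297650 : allRangeF (checkPointF cert) (nat_lit 297650) (nat_lit 25) = true := by decide +kernel
theorem chkP_297675 : allRangeF (checkPointF cert) (nat_lit 297675) (nat_lit 25) = true := by decide +kernel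
theorem chkP_297700 : allRangeF (checkPointF cert) (nat_lit 297700) (nat_lit 25) = true := by decide +kernel
theorem chkP_297725 : allRangeF (checkPointF cert) (nat_lit 297725) (nat_lit 25) = true := by decide +kernel
theorem chkP_297750 : allRangeF (checkPointF cert) (nat_lit 297750) (nat_lit 25) = true := by decide +kernel
theorem chkP_297775 : allRangeF (checkPointF cert) (nat_lit 297775) (nat_lit 25) = true := by decide +kernel
theorem chkP_297800 : allRangeF (checkPointF cert) (nat_lit 297800) (nat_lit 25) = true := by decide +kernel
theorem chkP_297825 : allRangeF (checkPointF cert) (nat_lit 297825) (nat_lit 25) = true := by decide +kernel
theorem chkP_297850 : allRangeF (checkPointF cert) (nat_lit 297850) (nat_lit 25) = true := by decide +kernel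
theorem chkP_297875 : allRangeF (checkPointF cert) (nat_lit 297875) (nat_lit 25) = true := by decide +kernel
theorem chkP_297900 : allRangeF (checkPointF cert) (nat_lit 297900) (nat_lit 25) = true := by decide +kernel
theorem chkP_297925 : allRangeF (checkPointF cert) (nat_lit 297925) (nat_lit 25) = true := by decide +kernel
theorem chkP_297950 : allRangeF (checkPointF cert) (nat_lit 297950) (nat_lit 25) = true := by decide +kernel
theorem chkP_297975 : allRangeF (checkPointF cert) (nat_lit 297975) (nat_lit 25) = true := by decide +kernel
theorem chkP_298000 : allRangeF (checkPointF cert) (nat_lit 298000) (nat_lit 25) = true := by decide +kernel
theorem chkP_298025 : allRangeF (checkPointF cert) (nat_lit 298025) (nat_lit 25) = true := by decide +kernel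
theorem chkP_298050 : allRangeF (checkPointF cert) (nat_lit 298050) (nat_lit 25) = true := by decide +kernel
theorem chkP_298075 : allRangeF (checkPointF cert) (nat_lit 298075) (nat_lit 25) = true := by decide +kernel
theorem chkP_298100 : allRangeF (checkPointF cert) (nat_lit 298100) (nat_lit 25) = true := by decide +kernel
theorem chkP_298125 : allRangeF (checkPointF cert) (nat_lit 298125) (nat_lit 25) = true := by decide +kernel
theorem chkP_298150 : allRangeF (checkPointF cert) (nat_lit 298150) (nat_lit 25) = true := by decide +kernel
theorem chkP_298175 : allRangeF (checkPointF cert) (nat_lit 298175) (nat_lit 25) = true := by decide +kernel
theorem chkP_298200 : allRangeF (checkPointF cert) (nat_lit 298200) (nat_lit 25) = true := by decide +kernel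
theorem chkP_298225 : allRangeF (checkPointF cert) (nat_lit 298225) (nat_lit 25) = true := by decide +kernel
theorem chkP_298250 : allRangeF (checkPointF cert) (nat_lit 298250) (nat_lit 25) = true := by decide +kernel
theorem chkP_298275 : allRangeF (checkPointF cert) (nat_lit 298275) (nat_lit 25) = true := by decide +kernel
theorem chkP_298300 : allRangeF (checkPointF cert) (nat_lit 298300) (nat_lit 25) = true := by decide +kernel
theorem chkP_298325 : allRangeF (checkPointF cert) (nat_lit 298325) (nat_lit 25) = true := by decide +kernel
theorem chkP_298350 : allRangeF (checkPointF cert) (nat_lit 298350) (nat_lit 25) = true := by decide +kernel
theorem chkP_298375 : allRangeF (checkPointF cert) (nat_lit 298375) (nat_lit 25) = true := by decide +kernel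
theorem chkP_298400 : allRangeF (checkPointF cert) (nat_lit 298400) (nat_lit 25) = true := by decide +kernel
theorem chkP_298425 : allRangeF (checkPointF cert) (nat_lit 298425) (nat_lit 25) = true := by decide +kernel
theorem chkP_298450 : allRangeF (checkPointF cert) (nat_lit 298450) (nat_lit 25) = true := by decide +kernel
theorem chkP_298475 : allRangeF (checkPointF cert) (nat_lit 298475) (nat_lit 25) = true := by decide +kernel
theorem chkP_298500 : allRangeF (checkPointF cert) (nat_lit 298500) (nat_lit 25) = true := by decide +kernel
theorem chkP_298525 : allRangeF (checkPointF cert) (nat_lit 298525) (nat_lit 25) = true := by decide +kernel
theorem chkP_298550 : allRangeF (checkPointF cert) (nat_lit 298550) (nat_lit 25) = true := by decide +kernel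
theorem chkP_298575 : allRangeF (checkPointF cert) (nat_lit 298575) (nat_lit 25) = true := by decide +kernel
theorem chkP_298600 : allRangeF (checkPointF cert) (nat_lit 298600) (nat_lit 25) = true := by decide +kernel
theorem chkP_298625 : allRangeF (checkPointF cert) (nat_lit 298625) (nat_lit 25) = true := by decide +kernel
theorem chkP_298650 : allRangeF (checkPointF cert) (nat_lit 298650) (nat_lit 25) = true := by decide +kernel
theorem chkP_298675 : allRangeF (checkPointF cert) (nat_lit 298675) (nat_lit 25) = true := by decide +kernel
theorem chkP_298700 : allRangeF (checkPointF cert) (nat_lit 298700) (nat_lit 25) = true := by decide +kernel
theorem chkP_298725 : allRangeF (checkPointF cert) (nat_lit 298725) (nat_lit 25) = true := by decide +kernel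
theorem chkP_298750 : allRangeF (checkPointF cert) (nat_lit 298750) (nat_lit 25) = true := by decide +kernel
theorem chkP_298775 : allRangeF (checkPointF cert) (nat_lit 298775) (nat_lit 25) = true := by decide +kernel
theorem chkP_298800 : allRangeF (checkPointF cert) (nat_lit 298800) (nat_lit 25) = true := by decide +kernel
theorem chkP_298825 : allRangeF (checkPointF cert) (nat_lit 298825) (nat_lit 25) = true := by decide +kernel
theorem chkP_298850 : allRangeF (checkPointF cert) (nat_lit 298850) (nat_lit 25) = true := by decide +kernel
theorem chkP_298875 : allRangeF (checkPointF cert) (nat_lit 298875) (nat_lit 25) = true := by decide +kernel
theorem chkP_298900 : allRangeF (checkPointF cert) (nat_lit 298900) (nat_lit 25) = true := by decide +kernel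
theorem chkP_298925 : allRangeF (checkPointF cert) (nat_lit 298925) (nat_lit 25) = true := by decide +kernel
theorem chkP_298950 : allRangeF (checkPointF cert) (nat_lit 298950) (nat_lit 25) = true := by decide +kernel
theorem chkP_298975 : allRangeF (checkPointF cert) (nat_lit 298975) (nat_lit 25) = true := by decide +kernel
theorem chkP_299000 : allRangeF (checkPointF cert) (nat_lit 299000) (nat_lit 25) = true := by decide +kernel
theorem chkP_299025 : allRangeF (checkPointF cert) (nat_lit 299025) (nat_lit 25) = true := by decide +kernel
theorem chkP_299050 : allRangeF (checkPointF cert) (nat_lit 299050) (nat_lit 25) = true := by decide +kernel
theorem chkP_299075 : allRangeF (checkPointF cert) (nat_lit 299075) (nat_lit 25) = true := by decide +kernel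
theorem chkP_299100 : allRangeF (checkPointF cert) (nat_lit 299100) (nat_lit 25) = true := by decide +kernel
theorem chkP_299125 : allRangeF (checkPointF cert) (nat_lit 299125) (nat_lit 25) = true := by decide +kernel
theorem chkP_299150 : allRangeF (checkPointF cert) (nat_lit 299150) (nat_lit 25) = true := by decide +kernel
theorem chkP_299175 : allRangeF (checkPointF cert) (nat_lit 299175) (nat_lit 25) = true := by decide +kernel
theorem chkP_299200 : allRangeF (checkPointF cert) (nat_lit 299200) (nat_lit 25) = true := by decide +kernel
theorem chkP_299225 : allRangeF (checkPointF cert) (nat_lit 299225) (nat_lit 25) = true := by decide +kernel
theorem chkP_299250 : allRangeF (checkPointF cert) (nat_lit 299250) (nat_lit 25) = true := by decide +kernel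
theorem chkP_299275 : allRangeF (checkPointF cert) (nat_lit 299275) (nat_lit 25) = true := by decide +kernel
theorem chkP_299300 : allRangeF (checkPointF cert) (nat_lit 299300) (nat_lit 25) = true := by decide +kernel

theorem ptsRange_38 : ∀ i, 291650 ≤ i → i < 299325 → checkPoint cert i = true := by
  intro i hlo hhi
  rcases Nat.lt_or_ge i 295475 with h1 | h1
  · skip
    rcases Nat.lt_or_ge i 293550 with h2 | h2
    · skip
      rcases Nat.lt_or_ge i 292600 with h3 | h3
      · skip
        rcases Nat.lt_or_ge i 292125 with h4 | h4
        · skip
          rcases Nat.lt_or_ge i 291875 with h5 | h5
          · skip
            rcases Nat.lt_or_ge i 291750 with h6 | h6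
            · skip
              rcases Nat.lt_or_ge i 291700 with h7 | h7
              · skip
                rcases Nat.lt_or_ge i 291675 with h8 | h8
                · skip
                  exact allRangeF_sound _ _ (checkPointF_eq cert) 291650 25 chkP_291650 i (by omega) (by omega)
                · skip
                  exact allRangeF_sound _ _ (checkPointF_eq cert) 291675 25 chkP_291675 i (by omega) (by omega)
              · skip
                rcases Nat.lt_or_ge i 291725 with h8 | h8
                · skip
                  exact allRangeF_sound _ _ (checkPointF_eq cert) 291700 25 chkP_291700 i (by omega) (by omega)
                · skip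
                  exact allRangeF_sound _ _ (checkPointF_eq cert) 291725 25 chkP_291725 i (by omega) (by omega)
            · skip
              rcases Nat.lt_or_ge i 291800 with h7 | h7
              · skip
                rcases Nat.lt_or_ge i 291775 with h8 | h8
                · skip
                  exact allRangeF_sound _ _ (checkPointF_eq cert) 291750 25 chkP_291750 i (by omega) (by omega)
                · skip
                  exact allRangeF_sound _ _ (checkPointF_eq cert) 291775 25 chkP_291775 i (by omega) (by omega)
              · skip
                rcases Nat.lt_or_ge i 291825 with h8 | h8
                · skip
                  exact allRangeF_sound _ _ (checkPointF_eq cert) 291800 25 chkP_291800 i (by omega) (by omega)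
                · skip
                  rcases Nat.lt_or_ge i 291850 with h9 | h9
                  · skip
                    exact allRangeF_sound _ _ (checkPointF_eq cert) 291825 25 chkP_291825 i (by omega) (by omega)
                  · skip
                    exact allRangeF_sound _ _ (checkPointF_eq cert) 291850 25 chkP_291850 i (by omega) (by omega)
          · skip
            rcases Nat.lt_or_ge i 292000 with h6 | h6
            · skip
              rcases Nat.lt_or_ge i 291925 with h7 | h7
              · skip
                rcases Nat.lt_or_ge i 291900 with h8 | h8
                · skip
                  exact allRangeF_sound _ _ (checkPointF_eq cert) 291875 25 chkP_291875 i (by omega) (by omega)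
                · skip
                  exact allRangeF_sound _ _ (checkPointF_eq cert) 291900 25 chkP_291900 i (by omega) (by omega)
              · skip
                rcases Nat.lt_or_ge i 291950 with h8 | h8
                · skip
                  exact allRangeF_sound _ _ (checkPointF_eq cert) 291925 25 chkP_291925 i (by omega) (by omega)
                · skip
                  rcases Nat.lt_or_ge i 291975 with h9 | h9
                  · skip
                    exact allRangeF_sound _ _ (checkPointF_eq cert) 291950 25 chkP_291950 i (by omega) (by omega)
                  · skip
                    exact allRangeF_sound _ _ (checkPointF_eq cert) 291975 25 chkP_291975 i (by omega) (by omega)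
            · skip
              rcases Nat.lt_or_ge i 292050 with h7 | h7
              · skip
                rcases Nat.lt_or_ge i 292025 with h8 | h8
                · skip
                  exact allRangeF_sound _ _ (checkPointF_eq cert) 292000 25 chkP_292000 i (by omega) (by omega)
                · skip
                  exact allRangeF_sound _ _ (checkPointF_eq cert) 292025 25 chkP_292025 i (by omega) (by omega)
              · skip
                rcases Nat.lt_or_ge i 292075 with h8 | h8
                · skip
                  exact allRangeF_sound _ _ (checkPointF_eq cert) 292050 25 chkP_292050 i (by omega) (by omega)
                · skip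
                  rcases Nat.lt_or_ge i 292100 with h9 | h9
                  · skip
                    exact allRangeF_sound _ _ (checkPointF_eq cert) 292075 25 chkP_292075 i (by omega) (by omega)
                  · skip
                    exact allRangeF_sound _ _ (checkPointF_eq cert) 292100 25 chkP_292100 i (by omega) (by omega)
        · skip
          rcases Nat.lt_or_ge i 292350 with h5 | h5
          · skip
            rcases Nat.lt_or_ge i 292225 with h6 | h6
            · skip
              rcases Nat.lt_or_ge i 292175 with h7 | h7
              · skip
                rcases Nat.lt_or_ge i 292150 with h8 | h8
                · skip
                  exact allRangeF_sound _ _ (checkPointF_eq cert) 292125 25 chkP_292125 i (by omega) (by omega)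
                · skip
                  exact allRangeF_sound _ _ (checkPointF_eq cert) 292150 25 chkP_292150 i (by omega) (by omega)
              · skip
                rcases Nat.lt_or_ge i 292200 with h8 | h8
                · skip
                  exact allRangeF_sound _ _ (checkPointF_eq cert) 292175 25 chkP_292175 i (by omega) (by omega)
                · skip
                  exact allRangeF_sound _ _ (checkPointF_eq cert) 292200 25 chkP_292200 i (by omega) (by omega)
            · skip
              rcases Nat.lt_or_ge i 292275 with h7 | h7
              · skip
                rcases Nat.lt_or_ge i 292250 with h8 | h8
                · skip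
                  exact allRangeF_sound _ _ (checkPointF_eq cert) 292225 25 chkP_292225 i (by omega) (by omega)
                · skip
                  exact allRangeF_sound _ _ (checkPointF_eq cert) 292250 25 chkP_292250 i (by omega) (by omega)
              · skip
                rcases Nat.lt_or_ge i 292300 with h8 | h8
                · skip
                  exact allRangeF_sound _ _ (checkPointF_eq cert) 292275 25 chkP_292275 i (by omega) (by omega)
                · skip
                  rcases Nat.lt_or_ge i 292325 with h9 | h9
                  · skip
                    exact allRangeF_sound _ _ (checkPointF_eq cert) 292300 25 chkP_292300 i (by omega) (by omega)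
                  · skip
                    exact allRangeF_sound _ _ (checkPointF_eq cert) 292325 25 chkP_292325 i (by omega) (by omega)
          · skip
            rcases Nat.lt_or_ge i 292475 with h6 | h6
            · skip
              rcases Nat.lt_or_ge i 292400 with h7 | h7
              · skip
                rcases Nat.lt_or_ge i 292375 with h8 | h8
                · skip
                  exact allRangeF_sound _ _ (checkPointF_eq cert) 292350 25 chkP_292350 i (by omega) (by omega)
                · skip
                  exact allRangeF_sound _ _ (checkPointF_eq cert) 292375 25 chkP_292375 i (by omega) (by omega)
              · skip
                rcases Nat.lt_or_ge i 292425 with h8 | h8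
                · skip
                  exact allRangeF_sound _ _ (checkPointF_eq cert) 292400 25 chkP_292400 i (by omega) (by omega)
                · skip
                  rcases Nat.lt_or_ge i 292450 with h9 | h9
                  · skip
                    exact allRangeF_sound _ _ (checkPointF_eq cert) 292425 25 chkP_292425 i (by omega) (by omega)
                  · skip
                    exact allRangeF_sound _ _ (checkPointF_eq cert) 292450 25 chkP_292450 i (by omega) (by omega)
            · skip
              rcases Nat.lt_or_ge i 292525 with h7 | h7
              · skip
                rcases Nat.lt_or_ge i 292500 with h8 | h8
                · skip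
                  exact allRangeF_sound _ _ (checkPointF_eq cert) 292475 25 chkP_292475 i (by omega) (by omega)
                · skip
                  exact allRangeF_sound _ _ (checkPointF_eq cert) 292500 25 chkP_292500 i (by omega) (by omega)
              · skip
                rcases Nat.lt_or_ge i 292550 with h8 | h8
                · skip
                  exact allRangeF_sound _ _ (checkPointF_eq cert) 292525 25 chkP_292525 i (by omega) (by omega)
                · skip
                  rcases Nat.lt_or_ge i 292575 with h9 | h9
                  · skip
                    exact allRangeF_sound _ _ (checkPointF_eq cert) 292550 25 chkP_292550 i (by omega) (by omega)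
                  · skip
                    exact allRangeF_sound _ _ (checkPointF_eq cert) 292575 25 chkP_292575 i (by omega) (by omega)
      · skip
        rcases Nat.lt_or_ge i 293075 with h4 | h4
        · skip
          rcases Nat.lt_or_ge i 292825 with h5 | h5
          · skip
            rcases Nat.lt_or_ge i 292700 with h6 | h6
            · skip
              rcases Nat.lt_or_ge i 292650 with h7 | h7
              · skip
                rcases Nat.lt_or_ge i 292625 with h8 | h8
                · skip
                  exact allRangeF_sound _ _ (checkPointF_eq cert) 292600 25 chkP_292600 i (by omega) (by omega)
                · skip
                  exact allRangeF_sound _ _ (checkPointF_eq cert) 292625 25 chkP_292625 i (by omega) (by omega)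
              · skip
                rcases Nat.lt_or_ge i 292675 with h8 | h8
                · skip
                  exact allRangeF_sound _ _ (checkPointF_eq cert) 292650 25 chkP_292650 i (by omega) (by omega)
                · skip
                  exact allRangeF_sound _ _ (checkPointF_eq cert) 292675 25 chkP_292675 i (by omega) (by omega)
            · skip
              rcases Nat.lt_or_ge i 292750 with h7 | h7
              · skip
                rcases Nat.lt_or_ge i 292725 with h8 | h8
                · skip
                  exact allRangeF_sound _ _ (checkPointF_eq cert) 292700 25 chkP_292700 i (by omega) (by omega)
                · skip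
                  exact allRangeF_sound _ _ (checkPointF_eq cert) 292725 25 chkP_292725 i (by omega) (by omega)
              · skip
                rcases Nat.lt_or_ge i 292775 with h8 | h8
                · skip
                  exact allRangeF_sound _ _ (checkPointF_eq cert) 292750 25 chkP_292750 i (by omega) (by omega)
                · skip
                  rcases Nat.lt_or_ge i 292800 with h9 | h9
                  · skip
                    exact allRangeF_sound _ _ (checkPointF_eq cert) 292775 25 chkP_292775 i (by omega) (by omega)
                  · skip
                    exact allRangeF_sound _ _ (checkPointF_eq cert) 292800 25 chkP_292800 i (by omega) (by omega)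
          · skip
            rcases Nat.lt_or_ge i 292950 with h6 | h6
            · skip
              rcases Nat.lt_or_ge i 292875 with h7 | h7
              · skip
                rcases Nat.lt_or_ge i 292850 with h8 | h8
                · skip
                  exact allRangeF_sound _ _ (checkPointF_eq cert) 292825 25 chkP_292825 i (by omega) (by omega)
                · skip
                  exact allRangeF_sound _ _ (checkPointF_eq cert) 292850 25 chkP_292850 i (by omega) (by omega)
              · skip
                rcases Nat.lt_or_ge i 292900 with h8 | h8
                · skip
                  exact allRangeF_sound _ _ (checkPointF_eq cert) 292875 25 chkP_292875 i (by omega) (by omega)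
                · skip
                  rcases Nat.lt_or_ge i 292925 with h9 | h9
                  · skip
                    exact allRangeF_sound _ _ (checkPointF_eq cert) 292900 25 chkP_292900 i (by omega) (by omega)
                  · skip
                    exact allRangeF_sound _ _ (checkPointF_eq cert) 292925 25 chkP_292925 i (by omega) (by omega)
            · skip
              rcases Nat.lt_or_ge i 293000 with h7 | h7
              · skip
                rcases Nat.lt_or_ge i 292975 with h8 | h8
                · skip
                  exact allRangeF_sound _ _ (checkPointF_eq cert) 292950 25 chkP_292950 i (by omega) (by omega)
                · skip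
                  exact allRangeF_sound _ _ (checkPointF_eq cert) 292975 25 chkP_292975 i (by omega) (by omega)
              · skip
                rcases Nat.lt_or_ge i 293025 with h8 | h8
                · skip
                  exact allRangeF_sound _ _ (checkPointF_eq cert) 293000 25 chkP_293000 i (by omega) (by omega)
                · skip
                  rcases Nat.lt_or_ge i 293050 with h9 | h9
                  · skip
                    exact allRangeF_sound _ _ (checkPointF_eq cert) 293025 25 chkP_293025 i (by omega) (by omega)
                  · skip
                    exact allRangeF_sound _ _ (checkPointF_eq cert) 293050 25 chkP_293050 i (by omega) (by omega)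
        · skip
          rcases Nat.lt_or_ge i 293300 with h5 | h5
          · skip
            rcases Nat.lt_or_ge i 293175 with h6 | h6
            · skip
              rcases Nat.lt_or_ge i 293125 with h7 | h7
              · skip
                rcases Nat.lt_or_ge i 293100 with h8 | h8
                · skip
                  exact allRangeF_sound _ _ (checkPointF_eq cert) 293075 25 chkP_293075 i (by omega) (by omega)
                · skip
                  exact allRangeF_sound _ _ (checkPointF_eq cert) 293100 25 chkP_293100 i (by omega) (by omega)
              · skip
                rcases Nat.lt_or_ge i 293150 with h8 | h8
                · skip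
                  exact allRangeF_sound _ _ (checkPointF_eq cert) 293125 25 chkP_293125 i (by omega) (by omega)
                · skip
                  exact allRangeF_sound _ _ (checkPointF_eq cert) 293150 25 chkP_293150 i (by omega) (by omega)
            · skip
              rcases Nat.lt_or_ge i 293225 with h7 | h7
              · skip
                rcases Nat.lt_or_ge i 293200 with h8 | h8
                · skip
                  exact allRangeF_sound _ _ (checkPointF_eq cert) 293175 25 chkP_293175 i (by omega) (by omega)
                · skip
                  exact allRangeF_sound _ _ (checkPointF_eq cert) 293200 25 chkP_293200 i (by omega) (by omega)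
              · skip
                rcases Nat.lt_or_ge i 293250 with h8 | h8
                · skip
                  exact allRangeF_sound _ _ (checkPointF_eq cert) 293225 25 chkP_293225 i (by omega) (by omega)
                · skip
                  rcases Nat.lt_or_ge i 293275 with h9 | h9
                  · skip
                    exact allRangeF_sound _ _ (checkPointF_eq cert) 293250 25 chkP_293250 i (by omega) (by omega)
                  · skip
                    exact allRangeF_sound _ _ (checkPointF_eq cert) 293275 25 chkP_293275 i (by omega) (by omega)
          · skip
            rcases Nat.lt_or_ge i 293425 with h6 | h6
            · skip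
              rcases Nat.lt_or_ge i 293350 with h7 | h7
              · skip
                rcases Nat.lt_or_ge i 293325 with h8 | h8
                · skip
                  exact allRangeF_sound _ _ (checkPointF_eq cert) 293300 25 chkP_293300 i (by omega) (by omega)
                · skip
                  exact allRangeF_sound _ _ (checkPointF_eq cert) 293325 25 chkP_293325 i (by omega) (by omega)
              · skip
                rcases Nat.lt_or_ge i 293375 with h8 | h8
                · skip
                  exact allRangeF_sound _ _ (checkPointF_eq cert) 293350 25 chkP_293350 i (by omega) (by omega)
                · skip
                  rcases Nat.lt_or_ge i 293400 with h9 | h9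
                  · skip
                    exact allRangeF_sound _ _ (checkPointF_eq cert) 293375 25 chkP_293375 i (by omega) (by omega)
                  · skip
                    exact allRangeF_sound _ _ (checkPointF_eq cert) 293400 25 chkP_293400 i (by omega) (by omega)
            · skip
              rcases Nat.lt_or_ge i 293475 with h7 | h7
              · skip
                rcases Nat.lt_or_ge i 293450 with h8 | h8
                · skip
                  exact allRangeF_sound _ _ (checkPointF_eq cert) 293425 25 chkP_293425 i (by omega) (by omega)
                · skip
                  exact allRangeF_sound _ _ (checkPointF_eq cert) 293450 25 chkP_293450 i (by omega) (by omega)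
              · skip
                rcases Nat.lt_or_ge i 293500 with h8 | h8
                · skip
                  exact allRangeF_sound _ _ (checkPointF_eq cert) 293475 25 chkP_293475 i (by omega) (by omega)
                · skip
                  rcases Nat.lt_or_ge i 293525 with h9 | h9
                  · skip
                    exact allRangeF_sound _ _ (checkPointF_eq cert) 293500 25 chkP_293500 i (by omega) (by omega)
                  · skip
                    exact allRangeF_sound _ _ (checkPointF_eq cert) 293525 25 chkP_293525 i (by omega) (by omega)
    · skip
      rcases Nat.lt_or_ge i 294500 with h3 | h3
      · skip
        rcases Nat.lt_or_ge i 294025 with h4 | h4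
        · skip
          rcases Nat.lt_or_ge i 293775 with h5 | h5
          · skip
            rcases Nat.lt_or_ge i 293650 with h6 | h6
            · skip
              rcases Nat.lt_or_ge i 293600 with h7 | h7
              · skip
                rcases Nat.lt_or_ge i 293575 with h8 | h8
                · skip
                  exact allRangeF_sound _ _ (checkPointF_eq cert) 293550 25 chkP_293550 i (by omega) (by omega)
                · skip
                  exact allRangeF_sound _ _ (checkPointF_eq cert) 293575 25 chkP_293575 i (by omega) (by omega)
              · skip
                rcases Nat.lt_or_ge i 293625 with h8 | h8
                · skip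
                  exact allRangeF_sound _ _ (checkPointF_eq cert) 293600 25 chkP_293600 i (by omega) (by omega)
                · skip
                  exact allRangeF_sound _ _ (checkPointF_eq cert) 293625 25 chkP_293625 i (by omega) (by omega)
            · skip
              rcases Nat.lt_or_ge i 293700 with h7 | h7
              · skip
                rcases Nat.lt_or_ge i 293675 with h8 | h8
                · skip
                  exact allRangeF_sound _ _ (checkPointF_eq cert) 293650 25 chkP_293650 i (by omega) (by omega)
                · skip
                  exact allRangeF_sound _ _ (checkPointF_eq cert) 293675 25 chkP_293675 i (by omega) (by omega)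
              · skip
                rcases Nat.lt_or_ge i 293725 with h8 | h8
                · skip
                  exact allRangeF_sound _ _ (checkPointF_eq cert) 293700 25 chkP_293700 i (by omega) (by omega)
                · skip
                  rcases Nat.lt_or_ge i 293750 with h9 | h9
                  · skip
                    exact allRangeF_sound _ _ (checkPointF_eq cert) 293725 25 chkP_293725 i (by omega) (by omega)
                  · skip
                    exact allRangeF_sound _ _ (checkPointF_eq cert) 293750 25 chkP_293750 i (by omega) (by omega)
          · skip
            rcases Nat.lt_or_ge i 293900 with h6 | h6
            · skip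
              rcases Nat.lt_or_ge i 293825 with h7 | h7
              · skip
                rcases Nat.lt_or_ge i 293800 with h8 | h8
                · skip
                  exact allRangeF_sound _ _ (checkPointF_eq cert) 293775 25 chkP_293775 i (by omega) (by omega)
                · skip
                  exact allRangeF_sound _ _ (checkPointF_eq cert) 293800 25 chkP_293800 i (by omega) (by omega)
              · skip
                rcases Nat.lt_or_ge i 293850 with h8 | h8
                · skip
                  exact allRangeF_sound _ _ (checkPointF_eq cert) 293825 25 chkP_293825 i (by omega) (by omega)
                · skip
                  rcases Nat.lt_or_ge i 293875 with h9 | h9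
                  · skip
                    exact allRangeF_sound _ _ (checkPointF_eq cert) 293850 25 chkP_293850 i (by omega) (by omega)
                  · skip
                    exact allRangeF_sound _ _ (checkPointF_eq cert) 293875 25 chkP_293875 i (by omega) (by omega)
            · skip
              rcases Nat.lt_or_ge i 293950 with h7 | h7
              · skip
                rcases Nat.lt_or_ge i 293925 with h8 | h8
                · skip
                  exact allRangeF_sound _ _ (checkPointF_eq cert) 293900 25 chkP_293900 i (by omega) (by omega)
                · skip
                  exact allRangeF_sound _ _ (checkPointF_eq cert) 293925 25 chkP_293925 i (by omega) (by omega)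
              · skip
                rcases Nat.lt_or_ge i 293975 with h8 | h8
                · skip
                  exact allRangeF_sound _ _ (checkPointF_eq cert) 293950 25 chkP_293950 i (by omega) (by omega)
                · skip
                  rcases Nat.lt_or_ge i 294000 with h9 | h9
                  · skip
                    exact allRangeF_sound _ _ (checkPointF_eq cert) 293975 25 chkP_293975 i (by omega) (by omega)
                  · skip
                    exact allRangeF_sound _ _ (checkPointF_eq cert) 294000 25 chkP_294000 i (by omega) (by omega)
        · skip
          rcases Nat.lt_or_ge i 294250 with h5 | h5
          · skip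
            rcases Nat.lt_or_ge i 294125 with h6 | h6
            · skip
              rcases Nat.lt_or_ge i 294075 with h7 | h7
              · skip
                rcases Nat.lt_or_ge i 294050 with h8 | h8
                · skip
                  exact allRangeF_sound _ _ (checkPointF_eq cert) 294025 25 chkP_294025 i (by omega) (by omega)
                · skip
                  exact allRangeF_sound _ _ (checkPointF_eq cert) 294050 25 chkP_294050 i (by omega) (by omega)
              · skip
                rcases Nat.lt_or_ge i 294100 with h8 | h8
                · skip
                  exact allRangeF_sound _ _ (checkPointF_eq cert) 294075 25 chkP_294075 i (by omega) (by omega)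
                · skip
                  exact allRangeF_sound _ _ (checkPointF_eq cert) 294100 25 chkP_294100 i (by omega) (by omega)
            · skip
              rcases Nat.lt_or_ge i 294175 with h7 | h7
              · skip
                rcases Nat.lt_or_ge i 294150 with h8 | h8
                · skip
                  exact allRangeF_sound _ _ (checkPointF_eq cert) 294125 25 chkP_294125 i (by omega) (by omega)
                · skip
                  exact allRangeF_sound _ _ (checkPointF_eq cert) 294150 25 chkP_294150 i (by omega) (by omega)
              · skip
                rcases Nat.lt_or_ge i 294200 with h8 | h8
                · skip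
                  exact allRangeF_sound _ _ (checkPointF_eq cert) 294175 25 chkP_294175 i (by omega) (by omega)
                · skip
                  rcases Nat.lt_or_ge i 294225 with h9 | h9
                  · skip
                    exact allRangeF_sound _ _ (checkPointF_eq cert) 294200 25 chkP_294200 i (by omega) (by omega)
                  · skip
                    exact allRangeF_sound _ _ (checkPointF_eq cert) 294225 25 chkP_294225 i (by omega) (by omega)
          · skip
            rcases Nat.lt_or_ge i 294375 with h6 | h6
            · skip
              rcases Nat.lt_or_ge i 294300 with h7 | h7
              · skip
                rcases Nat.lt_or_ge i 294275 with h8 | h8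
                · skip
                  exact allRangeF_sound _ _ (checkPointF_eq cert) 294250 25 chkP_294250 i (by omega) (by omega)
                · skip
                  exact allRangeF_sound _ _ (checkPointF_eq cert) 294275 25 chkP_294275 i (by omega) (by omega)
              · skip
                rcases Nat.lt_or_ge i 294325 with h8 | h8
                · skip
                  exact allRangeF_sound _ _ (checkPointF_eq cert) 294300 25 chkP_294300 i (by omega) (by omega)
                · skip
                  rcases Nat.lt_or_ge i 294350 with h9 | h9
                  · skip
                    exact allRangeF_sound _ _ (checkPointF_eq cert) 294325 25 chkP_294325 i (by omega) (by omega)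
                  · skip
                    exact allRangeF_sound _ _ (checkPointF_eq cert) 294350 25 chkP_294350 i (by omega) (by omega)
            · skip
              rcases Nat.lt_or_ge i 294425 with h7 | h7
              · skip
                rcases Nat.lt_or_ge i 294400 with h8 | h8
                · skip
                  exact allRangeF_sound _ _ (checkPointF_eq cert) 294375 25 chkP_294375 i (by omega) (by omega)
                · skip
                  exact allRangeF_sound _ _ (checkPointF_eq cert) 294400 25 chkP_294400 i (by omega) (by omega)
              · skip
                rcases Nat.lt_or_ge i 294450 with h8 | h8
                · skip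
                  exact allRangeF_sound _ _ (checkPointF_eq cert) 294425 25 chkP_294425 i (by omega) (by omega)
                · skip
                  rcases Nat.lt_or_ge i 294475 with h9 | h9
                  · skip
                    exact allRangeF_sound _ _ (checkPointF_eq cert) 294450 25 chkP_294450 i (by omega) (by omega)
                  · skip
                    exact allRangeF_sound _ _ (checkPointF_eq cert) 294475 25 chkP_294475 i (by omega) (by omega)
      · skip
        rcases Nat.lt_or_ge i 294975 with h4 | h4
        · skip
          rcases Nat.lt_or_ge i 294725 with h5 | h5
          · skip
            rcases Nat.lt_or_ge i 294600 with h6 | h6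
            · skip
              rcases Nat.lt_or_ge i 294550 with h7 | h7
              · skip
                rcases Nat.lt_or_ge i 294525 with h8 | h8
                · skip
                  exact allRangeF_sound _ _ (checkPointF_eq cert) 294500 25 chkP_294500 i (by omega) (by omega)
                · skip
                  exact allRangeF_sound _ _ (checkPointF_eq cert) 294525 25 chkP_294525 i (by omega) (by omega)
              · skip
                rcases Nat.lt_or_ge i 294575 with h8 | h8
                · skip
                  exact allRangeF_sound _ _ (checkPointF_eq cert) 294550 25 chkP_294550 i (by omega) (by omega)
                · skip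
                  exact allRangeF_sound _ _ (checkPointF_eq cert) 294575 25 chkP_294575 i (by omega) (by omega)
            · skip
              rcases Nat.lt_or_ge i 294650 with h7 | h7
              · skip
                rcases Nat.lt_or_ge i 294625 with h8 | h8
                · skip
                  exact allRangeF_sound _ _ (checkPointF_eq cert) 294600 25 chkP_294600 i (by omega) (by omega)
                · skip
                  exact allRangeF_sound _ _ (checkPointF_eq cert) 294625 25 chkP_294625 i (by omega) (by omega)
              · skip
                rcases Nat.lt_or_ge i 294675 with h8 | h8
                · skip
                  exact allRangeF_sound _ _ (checkPointF_eq cert) 294650 25 chkP_294650 i (by omega) (by omega)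
                · skip
                  rcases Nat.lt_or_ge i 294700 with h9 | h9
                  · skip
                    exact allRangeF_sound _ _ (checkPointF_eq cert) 294675 25 chkP_294675 i (by omega) (by omega)
                  · skip
                    exact allRangeF_sound _ _ (checkPointF_eq cert) 294700 25 chkP_294700 i (by omega) (by omega)
          · skip
            rcases Nat.lt_or_ge i 294850 with h6 | h6
            · skip
              rcases Nat.lt_or_ge i 294775 with h7 | h7
              · skip
                rcases Nat.lt_or_ge i 294750 with h8 | h8
                · skip
                  exact allRangeF_sound _ _ (checkPointF_eq cert) 294725 25 chkP_294725 i (by omega) (by omega)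
                · skip
                  exact allRangeF_sound _ _ (checkPointF_eq cert) 294750 25 chkP_294750 i (by omega) (by omega)
              · skip
                rcases Nat.lt_or_ge i 294800 with h8 | h8
                · skip
                  exact allRangeF_sound _ _ (checkPointF_eq cert) 294775 25 chkP_294775 i (by omega) (by omega)
                · skip
                  rcases Nat.lt_or_ge i 294825 with h9 | h9
                  · skip
                    exact allRangeF_sound _ _ (checkPointF_eq cert) 294800 25 chkP_294800 i (by omega) (by omega)
                  · skip
                    exact allRangeF_sound _ _ (checkPointF_eq cert) 294825 25 chkP_294825 i (by omega) (by omega)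
            · skip
              rcases Nat.lt_or_ge i 294900 with h7 | h7
              · skip
                rcases Nat.lt_or_ge i 294875 with h8 | h8
                · skip
                  exact allRangeF_sound _ _ (checkPointF_eq cert) 294850 25 chkP_294850 i (by omega) (by omega)
                · skip
                  exact allRangeF_sound _ _ (checkPointF_eq cert) 294875 25 chkP_294875 i (by omega) (by omega)
              · skip
                rcases Nat.lt_or_ge i 294925 with h8 | h8
                · skip
                  exact allRangeF_sound _ _ (checkPointF_eq cert) 294900 25 chkP_294900 i (by omega) (by omega)
                · skip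
                  rcases Nat.lt_or_ge i 294950 with h9 | h9
                  · skip
                    exact allRangeF_sound _ _ (checkPointF_eq cert) 294925 25 chkP_294925 i (by omega) (by omega)
                  · skip
                    exact allRangeF_sound _ _ (checkPointF_eq cert) 294950 25 chkP_294950 i (by omega) (by omega)
        · skip
          rcases Nat.lt_or_ge i 295225 with h5 | h5
          · skip
            rcases Nat.lt_or_ge i 295100 with h6 | h6
            · skip
              rcases Nat.lt_or_ge i 295025 with h7 | h7
              · skip
                rcases Nat.lt_or_ge i 295000 with h8 | h8
                · skip
                  exact allRangeF_sound _ _ (checkPointF_eq cert) 294975 25 chkP_294975 i (by omega) (by omega)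
                · skip
                  exact allRangeF_sound _ _ (checkPointF_eq cert) 295000 25 chkP_295000 i (by omega) (by omega)
              · skip
                rcases Nat.lt_or_ge i 295050 with h8 | h8
                · skip
                  exact allRangeF_sound _ _ (checkPointF_eq cert) 295025 25 chkP_295025 i (by omega) (by omega)
                · skip
                  rcases Nat.lt_or_ge i 295075 with h9 | h9
                  · skip
                    exact allRangeF_sound _ _ (checkPointF_eq cert) 295050 25 chkP_295050 i (by omega) (by omega)
                  · skip
                    exact allRangeF_sound _ _ (checkPointF_eq cert) 295075 25 chkP_295075 i (by omega) (by omega)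
            · skip
              rcases Nat.lt_or_ge i 295150 with h7 | h7
              · skip
                rcases Nat.lt_or_ge i 295125 with h8 | h8
                · skip
                  exact allRangeF_sound _ _ (checkPointF_eq cert) 295100 25 chkP_295100 i (by omega) (by omega)
                · skip
                  exact allRangeF_sound _ _ (checkPointF_eq cert) 295125 25 chkP_295125 i (by omega) (by omega)
              · skip
                rcases Nat.lt_or_ge i 295175 with h8 | h8
                · skip
                  exact allRangeF_sound _ _ (checkPointF_eq cert) 295150 25 chkP_295150 i (by omega) (by omega)
                · skip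
                  rcases Nat.lt_or_ge i 295200 with h9 | h9
                  · skip
                    exact allRangeF_sound _ _ (checkPointF_eq cert) 295175 25 chkP_295175 i (by omega) (by omega)
                  · skip
                    exact allRangeF_sound _ _ (checkPointF_eq cert) 295200 25 chkP_295200 i (by omega) (by omega)
          · skip
            rcases Nat.lt_or_ge i 295350 with h6 | h6
            · skip
              rcases Nat.lt_or_ge i 295275 with h7 | h7
              · skip
                rcases Nat.lt_or_ge i 295250 with h8 | h8
                · skip
                  exact allRangeF_sound _ _ (checkPointF_eq cert) 295225 25 chkP_295225 i (by omega) (by omega)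
                · skip
                  exact allRangeF_sound _ _ (checkPointF_eq cert) 295250 25 chkP_295250 i (by omega) (by omega)
              · skip
                rcases Nat.lt_or_ge i 295300 with h8 | h8
                · skip
                  exact allRangeF_sound _ _ (checkPointF_eq cert) 295275 25 chkP_295275 i (by omega) (by omega)
                · skip
                  rcases Nat.lt_or_ge i 295325 with h9 | h9
                  · skip
                    exact allRangeF_sound _ _ (checkPointF_eq cert) 295300 25 chkP_295300 i (by omega) (by omega)
                  · skip
                    exact allRangeF_sound _ _ (checkPointF_eq cert) 295325 25 chkP_295325 i (by omega) (by omega)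
            · skip
              rcases Nat.lt_or_ge i 295400 with h7 | h7
              · skip
                rcases Nat.lt_or_ge i 295375 with h8 | h8
                · skip
                  exact allRangeF_sound _ _ (checkPointF_eq cert) 295350 25 chkP_295350 i (by omega) (by omega)
                · skip
                  exact allRangeF_sound _ _ (checkPointF_eq cert) 295375 25 chkP_295375 i (by omega) (by omega)
              · skip
                rcases Nat.lt_or_ge i 295425 with h8 | h8
                · skip
                  exact allRangeF_sound _ _ (checkPointF_eq cert) 295400 25 chkP_295400 i (by omega) (by omega)
                · skip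
                  rcases Nat.lt_or_ge i 295450 with h9 | h9
                  · skip
                    exact allRangeF_sound _ _ (checkPointF_eq cert) 295425 25 chkP_295425 i (by omega) (by omega)
                  · skip
                    exact allRangeF_sound _ _ (checkPointF_eq cert) 295450 25 chkP_295450 i (by omega) (by omega)
  · skip
    rcases Nat.lt_or_ge i 297400 with h2 | h2
    · skip
      rcases Nat.lt_or_ge i 296425 with h3 | h3
      · skip
        rcases Nat.lt_or_ge i 295950 with h4 | h4
        · skip
          rcases Nat.lt_or_ge i 295700 with h5 | h5
          · skip
            rcases Nat.lt_or_ge i 295575 with h6 | h6
            · skip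
              rcases Nat.lt_or_ge i 295525 with h7 | h7
              · skip
                rcases Nat.lt_or_ge i 295500 with h8 | h8
                · skip
                  exact allRangeF_sound _ _ (checkPointF_eq cert) 295475 25 chkP_295475 i (by omega) (by omega)
                · skip
                  exact allRangeF_sound _ _ (checkPointF_eq cert) 295500 25 chkP_295500 i (by omega) (by omega)
              · skip
                rcases Nat.lt_or_ge i 295550 with h8 | h8
                · skip
                  exact allRangeF_sound _ _ (checkPointF_eq cert) 295525 25 chkP_295525 i (by omega) (by omega)
                · skip
                  exact allRangeF_sound _ _ (checkPointF_eq cert) 295550 25 chkP_295550 i (by omega) (by omega)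
            · skip
              rcases Nat.lt_or_ge i 295625 with h7 | h7
              · skip
                rcases Nat.lt_or_ge i 295600 with h8 | h8
                · skip
                  exact allRangeF_sound _ _ (checkPointF_eq cert) 295575 25 chkP_295575 i (by omega) (by omega)
                · skip
                  exact allRangeF_sound _ _ (checkPointF_eq cert) 295600 25 chkP_295600 i (by omega) (by omega)
              · skip
                rcases Nat.lt_or_ge i 295650 with h8 | h8
                · skip
                  exact allRangeF_sound _ _ (checkPointF_eq cert) 295625 25 chkP_295625 i (by omega) (by omega)
                · skip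
                  rcases Nat.lt_or_ge i 295675 with h9 | h9
                  · skip
                    exact allRangeF_sound _ _ (checkPointF_eq cert) 295650 25 chkP_295650 i (by omega) (by omega)
                  · skip
                    exact allRangeF_sound _ _ (checkPointF_eq cert) 295675 25 chkP_295675 i (by omega) (by omega)
          · skip
            rcases Nat.lt_or_ge i 295825 with h6 | h6
            · skip
              rcases Nat.lt_or_ge i 295750 with h7 | h7
              · skip
                rcases Nat.lt_or_ge i 295725 with h8 | h8
                · skip
                  exact allRangeF_sound _ _ (checkPointF_eq cert) 295700 25 chkP_295700 i (by omega) (by omega)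
                · skip
                  exact allRangeF_sound _ _ (checkPointF_eq cert) 295725 25 chkP_295725 i (by omega) (by omega)
              · skip
                rcases Nat.lt_or_ge i 295775 with h8 | h8
                · skip
                  exact allRangeF_sound _ _ (checkPointF_eq cert) 295750 25 chkP_295750 i (by omega) (by omega)
                · skip
                  rcases Nat.lt_or_ge i 295800 with h9 | h9
                  · skip
                    exact allRangeF_sound _ _ (checkPointF_eq cert) 295775 25 chkP_295775 i (by omega) (by omega)
                  · skip
                    exact allRangeF_sound _ _ (checkPointF_eq cert) 295800 25 chkP_295800 i (by omega) (by omega)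
            · skip
              rcases Nat.lt_or_ge i 295875 with h7 | h7
              · skip
                rcases Nat.lt_or_ge i 295850 with h8 | h8
                · skip
                  exact allRangeF_sound _ _ (checkPointF_eq cert) 295825 25 chkP_295825 i (by omega) (by omega)
                · skip
                  exact allRangeF_sound _ _ (checkPointF_eq cert) 295850 25 chkP_295850 i (by omega) (by omega)
              · skip
                rcases Nat.lt_or_ge i 295900 with h8 | h8
                · skip
                  exact allRangeF_sound _ _ (checkPointF_eq cert) 295875 25 chkP_295875 i (by omega) (by omega)
                · skip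
                  rcases Nat.lt_or_ge i 295925 with h9 | h9
                  · skip
                    exact allRangeF_sound _ _ (checkPointF_eq cert) 295900 25 chkP_295900 i (by omega) (by omega)
                  · skip
                    exact allRangeF_sound _ _ (checkPointF_eq cert) 295925 25 chkP_295925 i (by omega) (by omega)
        · skip
          rcases Nat.lt_or_ge i 296175 with h5 | h5
          · skip
            rcases Nat.lt_or_ge i 296050 with h6 | h6
            · skip
              rcases Nat.lt_or_ge i 296000 with h7 | h7
              · skip
                rcases Nat.lt_or_ge i 295975 with h8 | h8
                · skip
                  exact allRangeF_sound _ _ (checkPointF_eq cert) 295950 25 chkP_295950 i (by omega) (by omega)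
                · skip
                  exact allRangeF_sound _ _ (checkPointF_eq cert) 295975 25 chkP_295975 i (by omega) (by omega)
              · skip
                rcases Nat.lt_or_ge i 296025 with h8 | h8
                · skip
                  exact allRangeF_sound _ _ (checkPointF_eq cert) 296000 25 chkP_296000 i (by omega) (by omega)
                · skip
                  exact allRangeF_sound _ _ (checkPointF_eq cert) 296025 25 chkP_296025 i (by omega) (by omega)
            · skip
              rcases Nat.lt_or_ge i 296100 with h7 | h7
              · skip
                rcases Nat.lt_or_ge i 296075 with h8 | h8
                · skip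
                  exact allRangeF_sound _ _ (checkPointF_eq cert) 296050 25 chkP_296050 i (by omega) (by omega)
                · skip
                  exact allRangeF_sound _ _ (checkPointF_eq cert) 296075 25 chkP_296075 i (by omega) (by omega)
              · skip
                rcases Nat.lt_or_ge i 296125 with h8 | h8
                · skip
                  exact allRangeF_sound _ _ (checkPointF_eq cert) 296100 25 chkP_296100 i (by omega) (by omega)
                · skip
                  rcases Nat.lt_or_ge i 296150 with h9 | h9
                  · skip
                    exact allRangeF_sound _ _ (checkPointF_eq cert) 296125 25 chkP_296125 i (by omega) (by omega)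
                  · skip
                    exact allRangeF_sound _ _ (checkPointF_eq cert) 296150 25 chkP_296150 i (by omega) (by omega)
          · skip
            rcases Nat.lt_or_ge i 296300 with h6 | h6
            · skip
              rcases Nat.lt_or_ge i 296225 with h7 | h7
              · skip
                rcases Nat.lt_or_ge i 296200 with h8 | h8
                · skip
                  exact allRangeF_sound _ _ (checkPointF_eq cert) 296175 25 chkP_296175 i (by omega) (by omega)
                · skip
                  exact allRangeF_sound _ _ (checkPointF_eq cert) 296200 25 chkP_296200 i (by omega) (by omega)
              · skip
                rcases Nat.lt_or_ge i 296250 with h8 | h8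
                · skip
                  exact allRangeF_sound _ _ (checkPointF_eq cert) 296225 25 chkP_296225 i (by omega) (by omega)
                · skip
                  rcases Nat.lt_or_ge i 296275 with h9 | h9
                  · skip
                    exact allRangeF_sound _ _ (checkPointF_eq cert) 296250 25 chkP_296250 i (by omega) (by omega)
                  · skip
                    exact allRangeF_sound _ _ (checkPointF_eq cert) 296275 25 chkP_296275 i (by omega) (by omega)
            · skip
              rcases Nat.lt_or_ge i 296350 with h7 | h7
              · skip
                rcases Nat.lt_or_ge i 296325 with h8 | h8
                · skip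
                  exact allRangeF_sound _ _ (checkPointF_eq cert) 296300 25 chkP_296300 i (by omega) (by omega)
                · skip
                  exact allRangeF_sound _ _ (checkPointF_eq cert) 296325 25 chkP_296325 i (by omega) (by omega)
              · skip
                rcases Nat.lt_or_ge i 296375 with h8 | h8
                · skip
                  exact allRangeF_sound _ _ (checkPointF_eq cert) 296350 25 chkP_296350 i (by omega) (by omega)
                · skip
                  rcases Nat.lt_or_ge i 296400 with h9 | h9
                  · skip
                    exact allRangeF_sound _ _ (checkPointF_eq cert) 296375 25 chkP_296375 i (by omega) (by omega)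
                  · skip
                    exact allRangeF_sound _ _ (checkPointF_eq cert) 296400 25 chkP_296400 i (by omega) (by omega)
      · skip
        rcases Nat.lt_or_ge i 296900 with h4 | h4
        · skip
          rcases Nat.lt_or_ge i 296650 with h5 | h5
          · skip
            rcases Nat.lt_or_ge i 296525 with h6 | h6
            · skip
              rcases Nat.lt_or_ge i 296475 with h7 | h7
              · skip
                rcases Nat.lt_or_ge i 296450 with h8 | h8
                · skip
                  exact allRangeF_sound _ _ (checkPointF_eq cert) 296425 25 chkP_296425 i (by omega) (by omega)
                · skip
                  exact allRangeF_sound _ _ (checkPointF_eq cert) 296450 25 chkP_296450 i (by omega) (by omega)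
              · skip
                rcases Nat.lt_or_ge i 296500 with h8 | h8
                · skip
                  exact allRangeF_sound _ _ (checkPointF_eq cert) 296475 25 chkP_296475 i (by omega) (by omega)
                · skip
                  exact allRangeF_sound _ _ (checkPointF_eq cert) 296500 25 chkP_296500 i (by omega) (by omega)
            · skip
              rcases Nat.lt_or_ge i 296575 with h7 | h7
              · skip
                rcases Nat.lt_or_ge i 296550 with h8 | h8
                · skip
                  exact allRangeF_sound _ _ (checkPointF_eq cert) 296525 25 chkP_296525 i (by omega) (by omega)
                · skip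
                  exact allRangeF_sound _ _ (checkPointF_eq cert) 296550 25 chkP_296550 i (by omega) (by omega)
              · skip
                rcases Nat.lt_or_ge i 296600 with h8 | h8
                · skip
                  exact allRangeF_sound _ _ (checkPointF_eq cert) 296575 25 chkP_296575 i (by omega) (by omega)
                · skip
                  rcases Nat.lt_or_ge i 296625 with h9 | h9
                  · skip
                    exact allRangeF_sound _ _ (checkPointF_eq cert) 296600 25 chkP_296600 i (by omega) (by omega)
                  · skip
                    exact allRangeF_sound _ _ (checkPointF_eq cert) 296625 25 chkP_296625 i (by omega) (by omega)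
          · skip
            rcases Nat.lt_or_ge i 296775 with h6 | h6
            · skip
              rcases Nat.lt_or_ge i 296700 with h7 | h7
              · skip
                rcases Nat.lt_or_ge i 296675 with h8 | h8
                · skip
                  exact allRangeF_sound _ _ (checkPointF_eq cert) 296650 25 chkP_296650 i (by omega) (by omega)
                · skip
                  exact allRangeF_sound _ _ (checkPointF_eq cert) 296675 25 chkP_296675 i (by omega) (by omega)
              · skip
                rcases Nat.lt_or_ge i 296725 with h8 | h8
                · skip
                  exact allRangeF_sound _ _ (checkPointF_eq cert) 296700 25 chkP_296700 i (by omega) (by omega)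
                · skip
                  rcases Nat.lt_or_ge i 296750 with h9 | h9
                  · skip
                    exact allRangeF_sound _ _ (checkPointF_eq cert) 296725 25 chkP_296725 i (by omega) (by omega)
                  · skip
                    exact allRangeF_sound _ _ (checkPointF_eq cert) 296750 25 chkP_296750 i (by omega) (by omega)
            · skip
              rcases Nat.lt_or_ge i 296825 with h7 | h7
              · skip
                rcases Nat.lt_or_ge i 296800 with h8 | h8
                · skip
                  exact allRangeF_sound _ _ (checkPointF_eq cert) 296775 25 chkP_296775 i (by omega) (by omega)
                · skip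
                  exact allRangeF_sound _ _ (checkPointF_eq cert) 296800 25 chkP_296800 i (by omega) (by omega)
              · skip
                rcases Nat.lt_or_ge i 296850 with h8 | h8
                · skip
                  exact allRangeF_sound _ _ (checkPointF_eq cert) 296825 25 chkP_296825 i (by omega) (by omega)
                · skip
                  rcases Nat.lt_or_ge i 296875 with h9 | h9
                  · skip
                    exact allRangeF_sound _ _ (checkPointF_eq cert) 296850 25 chkP_296850 i (by omega) (by omega)
                  · skip
                    exact allRangeF_sound _ _ (checkPointF_eq cert) 296875 25 chkP_296875 i (by omega) (by omega)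
        · skip
          rcases Nat.lt_or_ge i 297150 with h5 | h5
          · skip
            rcases Nat.lt_or_ge i 297025 with h6 | h6
            · skip
              rcases Nat.lt_or_ge i 296950 with h7 | h7
              · skip
                rcases Nat.lt_or_ge i 296925 with h8 | h8
                · skip
                  exact allRangeF_sound _ _ (checkPointF_eq cert) 296900 25 chkP_296900 i (by omega) (by omega)
                · skip
                  exact allRangeF_sound _ _ (checkPointF_eq cert) 296925 25 chkP_296925 i (by omega) (by omega)
              · skip
                rcases Nat.lt_or_ge i 296975 with h8 | h8
                · skip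
                  exact allRangeF_sound _ _ (checkPointF_eq cert) 296950 25 chkP_296950 i (by omega) (by omega)
                · skip
                  rcases Nat.lt_or_ge i 297000 with h9 | h9
                  · skip
                    exact allRangeF_sound _ _ (checkPointF_eq cert) 296975 25 chkP_296975 i (by omega) (by omega)
                  · skip
                    exact allRangeF_sound _ _ (checkPointF_eq cert) 297000 25 chkP_297000 i (by omega) (by omega)
            · skip
              rcases Nat.lt_or_ge i 297075 with h7 | h7
              · skip
                rcases Nat.lt_or_ge i 297050 with h8 | h8
                · skip
                  exact allRangeF_sound _ _ (checkPointF_eq cert) 297025 25 chkP_297025 i (by omega) (by omega)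
                · skip
                  exact allRangeF_sound _ _ (checkPointF_eq cert) 297050 25 chkP_297050 i (by omega) (by omega)
              · skip
                rcases Nat.lt_or_ge i 297100 with h8 | h8
                · skip
                  exact allRangeF_sound _ _ (checkPointF_eq cert) 297075 25 chkP_297075 i (by omega) (by omega)
                · skip
                  rcases Nat.lt_or_ge i 297125 with h9 | h9
                  · skip
                    exact allRangeF_sound _ _ (checkPointF_eq cert) 297100 25 chkP_297100 i (by omega) (by omega)
                  · skip
                    exact allRangeF_sound _ _ (checkPointF_eq cert) 297125 25 chkP_297125 i (by omega) (by omega)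
          · skip
            rcases Nat.lt_or_ge i 297275 with h6 | h6
            · skip
              rcases Nat.lt_or_ge i 297200 with h7 | h7
              · skip
                rcases Nat.lt_or_ge i 297175 with h8 | h8
                · skip
                  exact allRangeF_sound _ _ (checkPointF_eq cert) 297150 25 chkP_297150 i (by omega) (by omega)
                · skip
                  exact allRangeF_sound _ _ (checkPointF_eq cert) 297175 25 chkP_297175 i (by omega) (by omega)
              · skip
                rcases Nat.lt_or_ge i 297225 with h8 | h8
                · skip
                  exact allRangeF_sound _ _ (checkPointF_eq cert) 297200 25 chkP_297200 i (by omega) (by omega)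
                · skip
                  rcases Nat.lt_or_ge i 297250 with h9 | h9
                  · skip
                    exact allRangeF_sound _ _ (checkPointF_eq cert) 297225 25 chkP_297225 i (by omega) (by omega)
                  · skip
                    exact allRangeF_sound _ _ (checkPointF_eq cert) 297250 25 chkP_297250 i (by omega) (by omega)
            · skip
              rcases Nat.lt_or_ge i 297325 with h7 | h7
              · skip
                rcases Nat.lt_or_ge i 297300 with h8 | h8
                · skip
                  exact allRangeF_sound _ _ (checkPointF_eq cert) 297275 25 chkP_297275 i (by omega) (by omega)
                · skip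
                  exact allRangeF_sound _ _ (checkPointF_eq cert) 297300 25 chkP_297300 i (by omega) (by omega)
              · skip
                rcases Nat.lt_or_ge i 297350 with h8 | h8
                · skip
                  exact allRangeF_sound _ _ (checkPointF_eq cert) 297325 25 chkP_297325 i (by omega) (by omega)
                · skip
                  rcases Nat.lt_or_ge i 297375 with h9 | h9
                  · skip
                    exact allRangeF_sound _ _ (checkPointF_eq cert) 297350 25 chkP_297350 i (by omega) (by omega)
                  · skip
                    exact allRangeF_sound _ _ (checkPointF_eq cert) 297375 25 chkP_297375 i (by omega) (by omega)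
    · skip
      rcases Nat.lt_or_ge i 298350 with h3 | h3
      · skip
        rcases Nat.lt_or_ge i 297875 with h4 | h4
        · skip
          rcases Nat.lt_or_ge i 297625 with h5 | h5
          · skip
            rcases Nat.lt_or_ge i 297500 with h6 | h6
            · skip
              rcases Nat.lt_or_ge i 297450 with h7 | h7
              · skip
                rcases Nat.lt_or_ge i 297425 with h8 | h8
                · skip
                  exact allRangeF_sound _ _ (checkPointF_eq cert) 297400 25 chkP_297400 i (by omega) (by omega)
                · skip
                  exact allRangeF_sound _ _ (checkPointF_eq cert) 297425 25 chkP_297425 i (by omega) (by omega)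
              · skip
                rcases Nat.lt_or_ge i 297475 with h8 | h8
                · skip
                  exact allRangeF_sound _ _ (checkPointF_eq cert) 297450 25 chkP_297450 i (by omega) (by omega)
                · skip
                  exact allRangeF_sound _ _ (checkPointF_eq cert) 297475 25 chkP_297475 i (by omega) (by omega)
            · skip
              rcases Nat.lt_or_ge i 297550 with h7 | h7
              · skip
                rcases Nat.lt_or_ge i 297525 with h8 | h8
                · skip
                  exact allRangeF_sound _ _ (checkPointF_eq cert) 297500 25 chkP_297500 i (by omega) (by omega)
                · skip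
                  exact allRangeF_sound _ _ (checkPointF_eq cert) 297525 25 chkP_297525 i (by omega) (by omega)
              · skip
                rcases Nat.lt_or_ge i 297575 with h8 | h8
                · skip
                  exact allRangeF_sound _ _ (checkPointF_eq cert) 297550 25 chkP_297550 i (by omega) (by omega)
                · skip
                  rcases Nat.lt_or_ge i 297600 with h9 | h9
                  · skip
                    exact allRangeF_sound _ _ (checkPointF_eq cert) 297575 25 chkP_297575 i (by omega) (by omega)
                  · skip
                    exact allRangeF_sound _ _ (checkPointF_eq cert) 297600 25 chkP_297600 i (by omega) (by omega)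
          · skip
            rcases Nat.lt_or_ge i 297750 with h6 | h6
            · skip
              rcases Nat.lt_or_ge i 297675 with h7 | h7
              · skip
                rcases Nat.lt_or_ge i 297650 with h8 | h8
                · skip
                  exact allRangeF_sound _ _ (checkPointF_eq cert) 297625 25 chkP_297625 i (by omega) (by omega)
                · skip
                  exact allRangeF_sound _ _ (checkPointF_eq cert) 297650 25 chkP_297650 i (by omega) (by omega)
              · skip
                rcases Nat.lt_or_ge i 297700 with h8 | h8
                · skip
                  exact allRangeF_sound _ _ (checkPointF_eq cert) 297675 25 chkP_297675 i (by omega) (by omega)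
                · skip
                  rcases Nat.lt_or_ge i 297725 with h9 | h9
                  · skip
                    exact allRangeF_sound _ _ (checkPointF_eq cert) 297700 25 chkP_297700 i (by omega) (by omega)
                  · skip
                    exact allRangeF_sound _ _ (checkPointF_eq cert) 297725 25 chkP_297725 i (by omega) (by omega)
            · skip
              rcases Nat.lt_or_ge i 297800 with h7 | h7
              · skip
                rcases Nat.lt_or_ge i 297775 with h8 | h8
                · skip
                  exact allRangeF_sound _ _ (checkPointF_eq cert) 297750 25 chkP_297750 i (by omega) (by omega)
                · skip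
                  exact allRangeF_sound _ _ (checkPointF_eq cert) 297775 25 chkP_297775 i (by omega) (by omega)
              · skip
                rcases Nat.lt_or_ge i 297825 with h8 | h8
                · skip
                  exact allRangeF_sound _ _ (checkPointF_eq cert) 297800 25 chkP_297800 i (by omega) (by omega)
                · skip
                  rcases Nat.lt_or_ge i 297850 with h9 | h9
                  · skip
                    exact allRangeF_sound _ _ (checkPointF_eq cert) 297825 25 chkP_297825 i (by omega) (by omega)
                  · skip
                    exact allRangeF_sound _ _ (checkPointF_eq cert) 297850 25 chkP_297850 i (by omega) (by omega)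
        · skip
          rcases Nat.lt_or_ge i 298100 with h5 | h5
          · skip
            rcases Nat.lt_or_ge i 297975 with h6 | h6
            · skip
              rcases Nat.lt_or_ge i 297925 with h7 | h7
              · skip
                rcases Nat.lt_or_ge i 297900 with h8 | h8
                · skip
                  exact allRangeF_sound _ _ (checkPointF_eq cert) 297875 25 chkP_297875 i (by omega) (by omega)
                · skip
                  exact allRangeF_sound _ _ (checkPointF_eq cert) 297900 25 chkP_297900 i (by omega) (by omega)
              · skip
                rcases Nat.lt_or_ge i 297950 with h8 | h8
                · skip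
                  exact allRangeF_sound _ _ (checkPointF_eq cert) 297925 25 chkP_297925 i (by omega) (by omega)
                · skip
                  exact allRangeF_sound _ _ (checkPointF_eq cert) 297950 25 chkP_297950 i (by omega) (by omega)
            · skip
              rcases Nat.lt_or_ge i 298025 with h7 | h7
              · skip
                rcases Nat.lt_or_ge i 298000 with h8 | h8
                · skip
                  exact allRangeF_sound _ _ (checkPointF_eq cert) 297975 25 chkP_297975 i (by omega) (by omega)
                · skip
                  exact allRangeF_sound _ _ (checkPointF_eq cert) 298000 25 chkP_298000 i (by omega) (by omega)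
              · skip
                rcases Nat.lt_or_ge i 298050 with h8 | h8
                · skip
                  exact allRangeF_sound _ _ (checkPointF_eq cert) 298025 25 chkP_298025 i (by omega) (by omega)
                · skip
                  rcases Nat.lt_or_ge i 298075 with h9 | h9
                  · skip
                    exact allRangeF_sound _ _ (checkPointF_eq cert) 298050 25 chkP_298050 i (by omega) (by omega)
                  · skip
                    exact allRangeF_sound _ _ (checkPointF_eq cert) 298075 25 chkP_298075 i (by omega) (by omega)
          · skip
            rcases Nat.lt_or_ge i 298225 with h6 | h6
            · skip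
              rcases Nat.lt_or_ge i 298150 with h7 | h7
              · skip
                rcases Nat.lt_or_ge i 298125 with h8 | h8
                · skip
                  exact allRangeF_sound _ _ (checkPointF_eq cert) 298100 25 chkP_298100 i (by omega) (by omega)
                · skip
                  exact allRangeF_sound _ _ (checkPointF_eq cert) 298125 25 chkP_298125 i (by omega) (by omega)
              · skip
                rcases Nat.lt_or_ge i 298175 with h8 | h8
                · skip
                  exact allRangeF_sound _ _ (checkPointF_eq cert) 298150 25 chkP_298150 i (by omega) (by omega)
                · skip
                  rcases Nat.lt_or_ge i 298200 with h9 | h9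
                  · skip
                    exact allRangeF_sound _ _ (checkPointF_eq cert) 298175 25 chkP_298175 i (by omega) (by omega)
                  · skip
                    exact allRangeF_sound _ _ (checkPointF_eq cert) 298200 25 chkP_298200 i (by omega) (by omega)
            · skip
              rcases Nat.lt_or_ge i 298275 with h7 | h7
              · skip
                rcases Nat.lt_or_ge i 298250 with h8 | h8
                · skip
                  exact allRangeF_sound _ _ (checkPointF_eq cert) 298225 25 chkP_298225 i (by omega) (by omega)
                · skip
                  exact allRangeF_sound _ _ (checkPointF_eq cert) 298250 25 chkP_298250 i (by omega) (by omega)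
              · skip
                rcases Nat.lt_or_ge i 298300 with h8 | h8
                · skip
                  exact allRangeF_sound _ _ (checkPointF_eq cert) 298275 25 chkP_298275 i (by omega) (by omega)
                · skip
                  rcases Nat.lt_or_ge i 298325 with h9 | h9
                  · skip
                    exact allRangeF_sound _ _ (checkPointF_eq cert) 298300 25 chkP_298300 i (by omega) (by omega)
                  · skip
                    exact allRangeF_sound _ _ (checkPointF_eq cert) 298325 25 chkP_298325 i (by omega) (by omega)
      · skip
        rcases Nat.lt_or_ge i 298825 with h4 | h4
        · skip
          rcases Nat.lt_or_ge i 298575 with h5 | h5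
          · skip
            rcases Nat.lt_or_ge i 298450 with h6 | h6
            · skip
              rcases Nat.lt_or_ge i 298400 with h7 | h7
              · skip
                rcases Nat.lt_or_ge i 298375 with h8 | h8
                · skip
                  exact allRangeF_sound _ _ (checkPointF_eq cert) 298350 25 chkP_298350 i (by omega) (by omega)
                · skip
                  exact allRangeF_sound _ _ (checkPointF_eq cert) 298375 25 chkP_298375 i (by omega) (by omega)
              · skip
                rcases Nat.lt_or_ge i 298425 with h8 | h8
                · skip
                  exact allRangeF_sound _ _ (checkPointF_eq cert) 298400 25 chkP_298400 i (by omega) (by omega)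
                · skip
                  exact allRangeF_sound _ _ (checkPointF_eq cert) 298425 25 chkP_298425 i (by omega) (by omega)
            · skip
              rcases Nat.lt_or_ge i 298500 with h7 | h7
              · skip
                rcases Nat.lt_or_ge i 298475 with h8 | h8
                · skip
                  exact allRangeF_sound _ _ (checkPointF_eq cert) 298450 25 chkP_298450 i (by omega) (by omega)
                · skip
                  exact allRangeF_sound _ _ (checkPointF_eq cert) 298475 25 chkP_298475 i (by omega) (by omega)
              · skip
                rcases Nat.lt_or_ge i 298525 with h8 | h8
                · skip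
                  exact allRangeF_sound _ _ (checkPointF_eq cert) 298500 25 chkP_298500 i (by omega) (by omega)
                · skip
                  rcases Nat.lt_or_ge i 298550 with h9 | h9
                  · skip
                    exact allRangeF_sound _ _ (checkPointF_eq cert) 298525 25 chkP_298525 i (by omega) (by omega)
                  · skip
                    exact allRangeF_sound _ _ (checkPointF_eq cert) 298550 25 chkP_298550 i (by omega) (by omega)
          · skip
            rcases Nat.lt_or_ge i 298700 with h6 | h6
            · skip
              rcases Nat.lt_or_ge i 298625 with h7 | h7
              · skip
                rcases Nat.lt_or_ge i 298600 with h8 | h8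
                · skip
                  exact allRangeF_sound _ _ (checkPointF_eq cert) 298575 25 chkP_298575 i (by omega) (by omega)
                · skip
                  exact allRangeF_sound _ _ (checkPointF_eq cert) 298600 25 chkP_298600 i (by omega) (by omega)
              · skip
                rcases Nat.lt_or_ge i 298650 with h8 | h8
                · skip
                  exact allRangeF_sound _ _ (checkPointF_eq cert) 298625 25 chkP_298625 i (by omega) (by omega)
                · skip
                  rcases Nat.lt_or_ge i 298675 with h9 | h9
                  · skip
                    exact allRangeF_sound _ _ (checkPointF_eq cert) 298650 25 chkP_298650 i (by omega) (by omega)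
                  · skip
                    exact allRangeF_sound _ _ (checkPointF_eq cert) 298675 25 chkP_298675 i (by omega) (by omega)
            · skip
              rcases Nat.lt_or_ge i 298750 with h7 | h7
              · skip
                rcases Nat.lt_or_ge i 298725 with h8 | h8
                · skip
                  exact allRangeF_sound _ _ (checkPointF_eq cert) 298700 25 chkP_298700 i (by omega) (by omega)
                · skip
                  exact allRangeF_sound _ _ (checkPointF_eq cert) 298725 25 chkP_298725 i (by omega) (by omega)
              · skip
                rcases Nat.lt_or_ge i 298775 with h8 | h8
                · skip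
                  exact allRangeF_sound _ _ (checkPointF_eq cert) 298750 25 chkP_298750 i (by omega) (by omega)
                · skip
                  rcases Nat.lt_or_ge i 298800 with h9 | h9
                  · skip
                    exact allRangeF_sound _ _ (checkPointF_eq cert) 298775 25 chkP_298775 i (by omega) (by omega)
                  · skip
                    exact allRangeF_sound _ _ (checkPointF_eq cert) 298800 25 chkP_298800 i (by omega) (by omega)
        · skip
          rcases Nat.lt_or_ge i 299075 with h5 | h5
          · skip
            rcases Nat.lt_or_ge i 298950 with h6 | h6
            · skip
              rcases Nat.lt_or_ge i 298875 with h7 | h7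
              · skip
                rcases Nat.lt_or_ge i 298850 with h8 | h8
                · skip
                  exact allRangeF_sound _ _ (checkPointF_eq cert) 298825 25 chkP_298825 i (by omega) (by omega)
                · skip
                  exact allRangeF_sound _ _ (checkPointF_eq cert) 298850 25 chkP_298850 i (by omega) (by omega)
              · skip
                rcases Nat.lt_or_ge i 298900 with h8 | h8
                · skip
                  exact allRangeF_sound _ _ (checkPointF_eq cert) 298875 25 chkP_298875 i (by omega) (by omega)
                · skip
                  rcases Nat.lt_or_ge i 298925 with h9 | h9
                  · skip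
                    exact allRangeF_sound _ _ (checkPointF_eq cert) 298900 25 chkP_298900 i (by omega) (by omega)
                  · skip
                    exact allRangeF_sound _ _ (checkPointF_eq cert) 298925 25 chkP_298925 i (by omega) (by omega)
            · skip
              rcases Nat.lt_or_ge i 299000 with h7 | h7
              · skip
                rcases Nat.lt_or_ge i 298975 with h8 | h8
                · skip
                  exact allRangeF_sound _ _ (checkPointF_eq cert) 298950 25 chkP_298950 i (by omega) (by omega)
                · skip
                  exact allRangeF_sound _ _ (checkPointF_eq cert) 298975 25 chkP_298975 i (by omega) (by omega)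
              · skip
                rcases Nat.lt_or_ge i 299025 with h8 | h8
                · skip
                  exact allRangeF_sound _ _ (checkPointF_eq cert) 299000 25 chkP_299000 i (by omega) (by omega)
                · skip
                  rcases Nat.lt_or_ge i 299050 with h9 | h9
                  · skip
                    exact allRangeF_sound _ _ (checkPointF_eq cert) 299025 25 chkP_299025 i (by omega) (by omega)
                  · skip
                    exact allRangeF_sound _ _ (checkPointF_eq cert) 299050 25 chkP_299050 i (by omega) (by omega)
          · skip
            rcases Nat.lt_or_ge i 299200 with h6 | h6
            · skip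
              rcases Nat.lt_or_ge i 299125 with h7 | h7
              · skip
                rcases Nat.lt_or_ge i 299100 with h8 | h8
                · skip
                  exact allRangeF_sound _ _ (checkPointF_eq cert) 299075 25 chkP_299075 i (by omega) (by omega)
                · skip
                  exact allRangeF_sound _ _ (checkPointF_eq cert) 299100 25 chkP_299100 i (by omega) (by omega)
              · skip
                rcases Nat.lt_or_ge i 299150 with h8 | h8
                · skip
                  exact allRangeF_sound _ _ (checkPointF_eq cert) 299125 25 chkP_299125 i (by omega) (by omega)
                · skip
                  rcases Nat.lt_or_ge i 299175 with h9 | h9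
                  · skip
                    exact allRangeF_sound _ _ (checkPointF_eq cert) 299150 25 chkP_299150 i (by omega) (by omega)
                  · skip
                    exact allRangeF_sound _ _ (checkPointF_eq cert) 299175 25 chkP_299175 i (by omega) (by omega)
            · skip
              rcases Nat.lt_or_ge i 299250 with h7 | h7
              · skip
                rcases Nat.lt_or_ge i 299225 with h8 | h8
                · skip
                  exact allRangeF_sound _ _ (checkPointF_eq cert) 299200 25 chkP_299200 i (by omega) (by omega)
                · skip
                  exact allRangeF_sound _ _ (checkPointF_eq cert) 299225 25 chkP_299225 i (by omega) (by omega)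
              · skip
                rcases Nat.lt_or_ge i 299275 with h8 | h8
                · skip
                  exact allRangeF_sound _ _ (checkPointF_eq cert) 299250 25 chkP_299250 i (by omega) (by omega)
                · skip
                  rcases Nat.lt_or_ge i 299300 with h9 | h9
                  · skip
                    exact allRangeF_sound _ _ (checkPointF_eq cert) 299275 25 chkP_299275 i (by omega) (by omega)
                  · skip
                    exact allRangeF_sound _ _ (checkPointF_eq cert) 299300 25 chkP_299300 i (by omega) (by omega)

end Cfsg.Agent.Lib.Helper28.Fi24Data
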