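import Cfsg.Agent.Lib.Helper28.Fi24Data
import Cfsg.Agent.Lib.Helper28.TCFastB

set_option autoImplicit false
set_option maxRecDepth 1000000
set_option linter.all false
set_option Elab.async false

namespace Cfsg.Agent.Lib.Helper28.Fi24Data

open Cfsg.Agent.Lib.Helper28B

theorem chkP_299325 : allRangeF (checkPointF cert) (nat_lit 299325) (nat_lit 25) = true := by decide +kernel
theorem chkP_299350 : allRangeF (checkPointF cert) (nat_lit 299350) (nat_lit 25) = true := by decide +kernel
theorem chkP_299375 : allRangeF (checkPointF cert) (nat_lit 299375) (nat_lit 25) = true := by decide +kernel
theorem chkP_299400 : allRangeF (checkPointF cert) (nat_lit 299400) (nat_lit 25) = true := by decide +kernel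
theorem chkP_299425 : allRangeF (checkPointF cert) (nat_lit 299425) (nat_lit 25) = true := by decide +kernel
theorem chkP_299450 : allRangeF (checkPointF cert) (nat_lit 299450) (nat_lit 25) = true := by decide +kernel
theorem chkP_299475 : allRangeF (checkPointF cert) (nat_lit 299475) (nat_lit 25) = true := by decide +kernel
theorem chkP_299500 : allRangeF (checkPointF cert) (nat_lit 299500) (nat_lit 25) = true := by decide +kernel
theorem chkP_299525 : allRangeF (checkPointF cert) (nat_lit 299525) (nat_lit 25) = true := by decide +kernel
theorem chkP_299550 : allRangeF (checkPointF cert) (nat_lit 299550) (nat_lit 25) = true := by decide +kernel
theorem chkP_299575 : allRangeF (checkPointF cert) (nat_lit 299575) (nat_lit 25) = true := by decide +kernel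
theorem chkP_299600 : allRangeF (checkPointF cert) (nat_lit 299600) (nat_lit 25) = true := by decide +kernel
theorem chkP_299625 : allRangeF (checkPointF cert) (nat_lit 299625) (nat_lit 25) = true := by decide +kernel
theorem chkP_299650 : allRangeF (checkPointF cert) (nat_lit 299650) (nat_lit 25) = true := by decide +kernel
theorem chkP_299675 : allRangeF (checkPointF cert) (nat_lit 299675) (nat_lit 25) = true := by decide +kernel
theorem chkP_299700 : allRangeF (checkPointF cert) (nat_lit 299700) (nat_lit 25) = true := by decide +kernel
theorem chkP_299725 : allRangeF (checkPointF cert) (nat_lit 299725) (nat_lit 25) = true := by decide +kernel
theorem chkP_299750 : allRangeF (checkPointF cert) (nat_lit 299750) (nat_lit 25) = true := by decide +kernel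
theorem chkP_299775 : allRangeF (checkPointF cert) (nat_lit 299775) (nat_lit 25) = true := by decide +kernel
theorem chkP_299800 : allRangeF (checkPointF cert) (nat_lit 299800) (nat_lit 25) = true := by decide +kernel
theorem chkP_299825 : allRangeF (checkPointF cert) (nat_lit 299825) (nat_lit 25) = true := by decide +kernel
theorem chkP_299850 : allRangeF (checkPointF cert) (nat_lit 299850) (nat_lit 25) = true := by decide +kernel
theorem chkP_299875 : allRangeF (checkPointF cert) (nat_lit 299875) (nat_lit 25) = true := by decide +kernel
theorem chkP_299900 : allRangeF (checkPointF cert) (nat_lit 299900) (nat_lit 25) = true := by decide +kernel
theorem chkP_299925 : allRangeF (checkPointF cert) (nat_lit 299925) (nat_lit 25) = true := by decide +kernel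
theorem chkP_299950 : allRangeF (checkPointF cert) (nat_lit 299950) (nat_lit 25) = true := by decide +kernel
theorem chkP_299975 : allRangeF (checkPointF cert) (nat_lit 299975) (nat_lit 25) = true := by decide +kernel
theorem chkP_300000 : allRangeF (checkPointF cert) (nat_lit 300000) (nat_lit 25) = true := by decide +kernel
theorem chkP_300025 : allRangeF (checkPointF cert) (nat_lit 300025) (nat_lit 25) = true := by decide +kernel
theorem chkP_300050 : allRangeF (checkPointF cert) (nat_lit 300050) (nat_lit 25) = true := by decide +kernel
theorem chkP_300075 : allRangeF (checkPointF cert) (nat_lit 300075) (nat_lit 25) = true := by decide +kernel
theorem chkP_300100 : allRangeF (checkPointF cert) (nat_lit 300100) (nat_lit 25) = true := by decide +kernel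
theorem chkP_300125 : allRangeF (checkPointF cert) (nat_lit 300125) (nat_lit 25) = true := by decide +kernel
theorem chkP_300150 : allRangeF (checkPointF cert) (nat_lit 300150) (nat_lit 25) = true := by decide +kernel
theorem chkP_300175 : allRangeF (checkPointF cert) (nat_lit 300175) (nat_lit 25) = true := by decide +kernel
theorem chkP_300200 : allRangeF (checkPointF cert) (nat_lit 300200) (nat_lit 25) = true := by decide +kernel
theorem chkP_300225 : allRangeF (checkPointF cert) (nat_lit 300225) (nat_lit 25) = true := by decide +kernel
theorem chkP_300250 : allRangeF (checkPointF cert) (nat_lit 300250) (nat_lit 25) = true := by decide +kernel
theorem chkP_300275 : allRangeF (checkPointF cert) (nat_lit 300275) (nat_lit 25) = true := by decide +kernel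
theorem chkP_300300 : allRangeF (checkPointF cert) (nat_lit 300300) (nat_lit 25) = true := by decide +kernel
theorem chkP_300325 : allRangeF (checkPointF cert) (nat_lit 300325) (nat_lit 25) = true := by decide +kernel
theorem chkP_300350 : allRangeF (checkPointF cert) (nat_lit 300350) (nat_lit 25) = true := by decide +kernel
theorem chkP_300375 : allRangeF (checkPointF cert) (nat_lit 300375) (nat_lit 25) = true := by decide +kernel
theorem chkP_300400 : allRangeF (checkPointF cert) (nat_lit 300400) (nat_lit 25) = true := by decide +kernel
theorem chkP_300425 : allRangeF (checkPointF cert) (nat_lit 300425) (nat_lit 25) = true := by decide +kernel
theorem chkP_300450 : allRangeF (checkPointF cert) (nat_lit 300450) (nat_lit 25) = true := by decide +kernel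
theorem chkP_300475 : allRangeF (checkPointF cert) (nat_lit 300475) (nat_lit 25) = true := by decide +kernel
theorem chkP_300500 : allRangeF (checkPointF cert) (nat_lit 300500) (nat_lit 25) = true := by decide +kernel
theorem chkP_300525 : allRangeF (checkPointF cert) (nat_lit 300525) (nat_lit 25) = true := by decide +kernel
theorem chkP_300550 : allRangeF (checkPointF cert) (nat_lit 300550) (nat_lit 25) = true := by decide +kernel
theorem chkP_300575 : allRangeF (checkPointF cert) (nat_lit 300575) (nat_lit 25) = true := by decide +kernel
theorem chkP_300600 : allRangeF (checkPointF cert) (nat_lit 300600) (nat_lit 25) = true := by decide +kernel
theorem chkP_300625 : allRangeF (checkPointF cert) (nat_lit 300625) (nat_lit 25) = true := by decide +kernel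
theorem chkP_300650 : allRangeF (checkPointF cert) (nat_lit 300650) (nat_lit 25) = true := by decide +kernel
theorem chkP_300675 : allRangeF (checkPointF cert) (nat_lit 300675) (nat_lit 25) = true := by decide +kernel
theorem chkP_300700 : allRangeF (checkPointF cert) (nat_lit 300700) (nat_lit 25) = true := by decide +kernel
theorem chkP_300725 : allRangeF (checkPointF cert) (nat_lit 300725) (nat_lit 25) = true := by decide +kernel
theorem chkP_300750 : allRangeF (checkPointF cert) (nat_lit 300750) (nat_lit 25) = true := by decide +kernel
theorem chkP_300775 : allRangeF (checkPointF cert) (nat_lit 300775) (nat_lit 25) = true := by decide +kernel
theorem chkP_300800 : allRangeF (checkPointF cert) (nat_lit 300800) (nat_lit 25) = true := by decide +kernel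
theorem chkP_300825 : allRangeF (checkPointF cert) (nat_lit 300825) (nat_lit 25) = true := by decide +kernel
theorem chkP_300850 : allRangeF (checkPointF cert) (nat_lit 300850) (nat_lit 25) = true := by decide +kernel
theorem chkP_300875 : allRangeF (checkPointF cert) (nat_lit 300875) (nat_lit 25) = true := by decide +kernel
theorem chkP_300900 : allRangeF (checkPointF cert) (nat_lit 300900) (nat_lit 25) = true := by decide +kernel
theorem chkP_300925 : allRangeF (checkPointF cert) (nat_lit 300925) (nat_lit 25) = true := by decide +kernel
theorem chkP_300950 : allRangeF (checkPointF cert) (nat_lit 300950) (nat_lit 25) = true := by decide +kernel
theorem chkP_300975 : allRangeF (checkPointF cert) (nat_lit 300975) (nat_lit 25) = true := by decide +kernel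
theorem chkP_301000 : allRangeF (checkPointF cert) (nat_lit 301000) (nat_lit 25) = true := by decide +kernel
theorem chkP_301025 : allRangeF (checkPointF cert) (nat_lit 301025) (nat_lit 25) = true := by decide +kernel
theorem chkP_301050 : allRangeF (checkPointF cert) (nat_lit 301050) (nat_lit 25) = true := by decide +kernel
theorem chkP_301075 : allRangeF (checkPointF cert) (nat_lit 301075) (nat_lit 25) = true := by decide +kernel
theorem chkP_301100 : allRangeF (checkPointF cert) (nat_lit 301100) (nat_lit 25) = true := by decide +kernel
theorem chkP_301125 : allRangeF (checkPointF cert) (nat_lit 301125) (nat_lit 25) = true := by decide +kernel
theorem chkP_301150 : allRangeF (checkPointF cert) (nat_lit 301150) (nat_lit 25) = true := by decide +kernel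
theorem chkP_301175 : allRangeF (checkPointF cert) (nat_lit 301175) (nat_lit 25) = true := by decide +kernel
theorem chkP_301200 : allRangeF (checkPointF cert) (nat_lit 301200) (nat_lit 25) = true := by decide +kernel
theorem chkP_301225 : allRangeF (checkPointF cert) (nat_lit 301225) (nat_lit 25) = true := by decide +kernel
theorem chkP_301250 : allRangeF (checkPointF cert) (nat_lit 301250) (nat_lit 25) = true := by decide +kernel
theorem chkP_301275 : allRangeF (checkPointF cert) (nat_lit 301275) (nat_lit 25) = true := by decide +kernel
theorem chkP_301300 : allRangeF (checkPointF cert) (nat_lit 301300) (nat_lit 25) = true := by decide +kernel
theorem chkP_301325 : allRangeF (checkPointF cert) (nat_lit 301325) (nat_lit 25) = true := by decide +kernel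
theorem chkP_301350 : allRangeF (checkPointF cert) (nat_lit 301350) (nat_lit 25) = true := by decide +kernel
theorem chkP_301375 : allRangeF (checkPointF cert) (nat_lit 301375) (nat_lit 25) = true := by decide +kernel
theorem chkP_301400 : allRangeF (checkPointF cert) (nat_lit 301400) (nat_lit 25) = true := by decide +kernel
theorem chkP_301425 : allRangeF (checkPointF cert) (nat_lit 301425) (nat_lit 25) = true := by decide +kernel
theorem chkP_301450 : allRangeF (checkPointF cert) (nat_lit 301450) (nat_lit 25) = true := by decide +kernel
theorem chkP_301475 : allRangeF (checkPointF cert) (nat_lit 301475) (nat_lit 25) = true := by decide +kernel
theorem chkP_301500 : allRangeF (checkPointF cert) (nat_lit 301500) (nat_lit 25) = true := by decide +kernel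
theorem chkP_301525 : allRangeF (checkPointF cert) (nat_lit 301525) (nat_lit 25) = true := by decide +kernel
theorem chkP_301550 : allRangeF (checkPointF cert) (nat_lit 301550) (nat_lit 25) = true := by decide +kernel
theorem chkP_301575 : allRangeF (checkPointF cert) (nat_lit 301575) (nat_lit 25) = true := by decide +kernel
theorem chkP_301600 : allRangeF (checkPointF cert) (nat_lit 301600) (nat_lit 25) = true := by decide +kernel
theorem chkP_301625 : allRangeF (checkPointF cert) (nat_lit 301625) (nat_lit 25) = true := by decide +kernel
theorem chkP_301650 : allRangeF (checkPointF cert) (nat_lit 301650) (nat_lit 25) = true := by decide +kernel
theorem chkP_301675 : allRangeF (checkPointF cert) (nat_lit 301675) (nat_lit 25) = true := by decide +kernel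
theorem chkP_301700 : allRangeF (checkPointF cert) (nat_lit 301700) (nat_lit 25) = true := by decide +kernel
theorem chkP_301725 : allRangeF (checkPointF cert) (nat_lit 301725) (nat_lit 25) = true := by decide +kernel
theorem chkP_301750 : allRangeF (checkPointF cert) (nat_lit 301750) (nat_lit 25) = true := by decide +kernel
theorem chkP_301775 : allRangeF (checkPointF cert) (nat_lit 301775) (nat_lit 25) = true := by decide +kernel
theorem chkP_301800 : allRangeF (checkPointF cert) (nat_lit 301800) (nat_lit 25) = true := by decide +kernel
theorem chkP_301825 : allRangeF (checkPointF cert) (nat_lit 301825) (nat_lit 25) = true := by decide +kernel
theorem chkP_301850 : allRangeF (checkPointF cert) (nat_lit 301850) (nat_lit 25) = true := by decide +kernel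
theorem chkP_301875 : allRangeF (checkPointF cert) (nat_lit 301875) (nat_lit 25) = true := by decide +kernel
theorem chkP_301900 : allRangeF (checkPointF cert) (nat_lit 301900) (nat_lit 25) = true := by decide +kernel
theorem chkP_301925 : allRangeF (checkPointF cert) (nat_lit 301925) (nat_lit 25) = true := by decide +kernel
theorem chkP_301950 : allRangeF (checkPointF cert) (nat_lit 301950) (nat_lit 25) = true := by decide +kernel
theorem chkP_301975 : allRangeF (checkPointF cert) (nat_lit 301975) (nat_lit 25) = true := by decide +kernel
theorem chkP_302000 : allRangeF (checkPointF cert) (nat_lit 302000) (nat_lit 25) = true := by decide +kernel
theorem chkP_302025 : allRangeF (checkPointF cert) (nat_lit 302025) (nat_lit 25) = true := by decide +kernel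
theorem chkP_302050 : allRangeF (checkPointF cert) (nat_lit 302050) (nat_lit 25) = true := by decide +kernel
theorem chkP_302075 : allRangeF (checkPointF cert) (nat_lit 302075) (nat_lit 25) = true := by decide +kernel
theorem chkP_302100 : allRangeF (checkPointF cert) (nat_lit 302100) (nat_lit 25) = true := by decide +kernel
theorem chkP_302125 : allRangeF (checkPointF cert) (nat_lit 302125) (nat_lit 25) = true := by decide +kernel
theorem chkP_302150 : allRangeF (checkPointF cert) (nat_lit 302150) (nat_lit 25) = true := by decide +kernel
theorem chkP_302175 : allRangeF (checkPointF cert) (nat_lit 302175) (nat_lit 25) = true := by decide +kernel
theorem chkP_302200 : allRangeF (checkPointF cert) (nat_lit 302200) (nat_lit 25) = true := by decide +kernel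
theorem chkP_302225 : allRangeF (checkPointF cert) (nat_lit 302225) (nat_lit 25) = true := by decide +kernel
theorem chkP_302250 : allRangeF (checkPointF cert) (nat_lit 302250) (nat_lit 25) = true := by decide +kernel
theorem chkP_302275 : allRangeF (checkPointF cert) (nat_lit 302275) (nat_lit 25) = true := by decide +kernel
theorem chkP_302300 : allRangeF (checkPointF cert) (nat_lit 302300) (nat_lit 25) = true := by decide +kernel
theorem chkP_302325 : allRangeF (checkPointF cert) (nat_lit 302325) (nat_lit 25) = true := by decide +kernel
theorem chkP_302350 : allRangeF (checkPointF cert) (nat_lit 302350) (nat_lit 25) = true := by decide +kernel
theorem chkP_302375 : allRangeF (checkPointF cert) (nat_lit 302375) (nat_lit 25) = true := by decide +kernel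
theorem chkP_302400 : allRangeF (checkPointF cert) (nat_lit 302400) (nat_lit 25) = true := by decide +kernel
theorem chkP_302425 : allRangeF (checkPointF cert) (nat_lit 302425) (nat_lit 25) = true := by decide +kernel
theorem chkP_302450 : allRangeF (checkPointF cert) (nat_lit 302450) (nat_lit 25) = true := by decide +kernel
theorem chkP_302475 : allRangeF (checkPointF cert) (nat_lit 302475) (nat_lit 25) = true := by decide +kernel
theorem chkP_302500 : allRangeF (checkPointF cert) (nat_lit 302500) (nat_lit 25) = true := by decide +kernel
theorem chkP_302525 : allRangeF (checkPointF cert) (nat_lit 302525) (nat_lit 25) = true := by decide +kernel
theorem chkP_302550 : allRangeF (checkPointF cert) (nat_lit 302550) (nat_lit 25) = true := by decide +kernel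
theorem chkP_302575 : allRangeF (checkPointF cert) (nat_lit 302575) (nat_lit 25) = true := by decide +kernel
theorem chkP_302600 : allRangeF (checkPointF cert) (nat_lit 302600) (nat_lit 25) = true := by decide +kernel
theorem chkP_302625 : allRangeF (checkPointF cert) (nat_lit 302625) (nat_lit 25) = true := by decide +kernel
theorem chkP_302650 : allRangeF (checkPointF cert) (nat_lit 302650) (nat_lit 25) = true := by decide +kernel
theorem chkP_302675 : allRangeF (checkPointF cert) (nat_lit 302675) (nat_lit 25) = true := by decide +kernel
theorem chkP_302700 : allRangeF (checkPointF cert) (nat_lit 302700) (nat_lit 25) = true := by decide +kernel
theorem chkP_302725 : allRangeF (checkPointF cert) (nat_lit 302725) (nat_lit 25) = true := by decide +kernel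
theorem chkP_302750 : allRangeF (checkPointF cert) (nat_lit 302750) (nat_lit 25) = true := by decide +kernel
theorem chkP_302775 : allRangeF (checkPointF cert) (nat_lit 302775) (nat_lit 25) = true := by decide +kernel
theorem chkP_302800 : allRangeF (checkPointF cert) (nat_lit 302800) (nat_lit 25) = true := by decide +kernel
theorem chkP_302825 : allRangeF (checkPointF cert) (nat_lit 302825) (nat_lit 25) = true := by decide +kernel
theorem chkP_302850 : allRangeF (checkPointF cert) (nat_lit 302850) (nat_lit 25) = true := by decide +kernel
theorem chkP_302875 : allRangeF (checkPointF cert) (nat_lit 302875) (nat_lit 25) = true := by decide +kernel
theorem chkP_302900 : allRangeF (checkPointF cert) (nat_lit 302900) (nat_lit 25) = true := by decide +kernel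
theorem chkP_302925 : allRangeF (checkPointF cert) (nat_lit 302925) (nat_lit 25) = true := by decide +kernel
theorem chkP_302950 : allRangeF (checkPointF cert) (nat_lit 302950) (nat_lit 25) = true := by decide +kernel
theorem chkP_302975 : allRangeF (checkPointF cert) (nat_lit 302975) (nat_lit 25) = true := by decide +kernel
theorem chkP_303000 : allRangeF (checkPointF cert) (nat_lit 303000) (nat_lit 25) = true := by decide +kernel
theorem chkP_303025 : allRangeF (checkPointF cert) (nat_lit 303025) (nat_lit 25) = true := by decide +kernel
theorem chkP_303050 : allRangeF (checkPointF cert) (nat_lit 303050) (nat_lit 25) = true := by decide +kernel
theorem chkP_303075 : allRangeF (checkPointF cert) (nat_lit 303075) (nat_lit 25) = true := by decide +kernel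
theorem chkP_303100 : allRangeF (checkPointF cert) (nat_lit 303100) (nat_lit 25) = true := by decide +kernel
theorem chkP_303125 : allRangeF (checkPointF cert) (nat_lit 303125) (nat_lit 25) = true := by decide +kernel
theorem chkP_303150 : allRangeF (checkPointF cert) (nat_lit 303150) (nat_lit 25) = true := by decide +kernel
theorem chkP_303175 : allRangeF (checkPointF cert) (nat_lit 303175) (nat_lit 25) = true := by decide +kernel
theorem chkP_303200 : allRangeF (checkPointF cert) (nat_lit 303200) (nat_lit 25) = true := by decide +kernel
theorem chkP_303225 : allRangeF (checkPointF cert) (nat_lit 303225) (nat_lit 25) = true := by decide +kernel
theorem chkP_303250 : allRangeF (checkPointF cert) (nat_lit 303250) (nat_lit 25) = true := by decide +kernel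
theorem chkP_303275 : allRangeF (checkPointF cert) (nat_lit 303275) (nat_lit 25) = true := by decide +kernel
theorem chkP_303300 : allRangeF (checkPointF cert) (nat_lit 303300) (nat_lit 25) = true := by decide +kernel
theorem chkP_303325 : allRangeF (checkPointF cert) (nat_lit 303325) (nat_lit 25) = true := by decide +kernel
theorem chkP_303350 : allRangeF (checkPointF cert) (nat_lit 303350) (nat_lit 25) = true := by decide +kernel
theorem chkP_303375 : allRangeF (checkPointF cert) (nat_lit 303375) (nat_lit 25) = true := by decide +kernel
theorem chkP_303400 : allRangeF (checkPointF cert) (nat_lit 303400) (nat_lit 25) = true := by decide +kernel
theorem chkP_303425 : allRangeF (checkPointF cert) (nat_lit 303425) (nat_lit 25) = true := by decide +kernel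
theorem chkP_303450 : allRangeF (checkPointF cert) (nat_lit 303450) (nat_lit 25) = true := by decide +kernel
theorem chkP_303475 : allRangeF (checkPointF cert) (nat_lit 303475) (nat_lit 25) = true := by decide +kernel
theorem chkP_303500 : allRangeF (checkPointF cert) (nat_lit 303500) (nat_lit 25) = true := by decide +kernel
theorem chkP_303525 : allRangeF (checkPointF cert) (nat_lit 303525) (nat_lit 25) = true := by decide +kernel
theorem chkP_303550 : allRangeF (checkPointF cert) (nat_lit 303550) (nat_lit 25) = true := by decide +kernel
theorem chkP_303575 : allRangeF (checkPointF cert) (nat_lit 303575) (nat_lit 25) = true := by decide +kernel
theorem chkP_303600 : allRangeF (checkPointF cert) (nat_lit 303600) (nat_lit 25) = true := by decide +kernel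
theorem chkP_303625 : allRangeF (checkPointF cert) (nat_lit 303625) (nat_lit 25) = true := by decide +kernel
theorem chkP_303650 : allRangeF (checkPointF cert) (nat_lit 303650) (nat_lit 25) = true := by decide +kernel
theorem chkP_303675 : allRangeF (checkPointF cert) (nat_lit 303675) (nat_lit 25) = true := by decide +kernel
theorem chkP_303700 : allRangeF (checkPointF cert) (nat_lit 303700) (nat_lit 25) = true := by decide +kernel
theorem chkP_303725 : allRangeF (checkPointF cert) (nat_lit 303725) (nat_lit 25) = true := by decide +kernel
theorem chkP_303750 : allRangeF (checkPointF cert) (nat_lit 303750) (nat_lit 25) = true := by decide +kernel
theorem chkP_303775 : allRangeF (checkPointF cert) (nat_lit 303775) (nat_lit 25) = true := by decide +kernel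
theorem chkP_303800 : allRangeF (checkPointF cert) (nat_lit 303800) (nat_lit 25) = true := by decide +kernel
theorem chkP_303825 : allRangeF (checkPointF cert) (nat_lit 303825) (nat_lit 25) = true := by decide +kernel
theorem chkP_303850 : allRangeF (checkPointF cert) (nat_lit 303850) (nat_lit 25) = true := by decide +kernel
theorem chkP_303875 : allRangeF (checkPointF cert) (nat_lit 303875) (nat_lit 25) = true := by decide +kernel
theorem chkP_303900 : allRangeF (checkPointF cert) (nat_lit 303900) (nat_lit 25) = true := by decide +kernel
theorem chkP_303925 : allRangeF (checkPointF cert) (nat_lit 303925) (nat_lit 25) = true := by decide +kernel
theorem chkP_303950 : allRangeF (checkPointF cert) (nat_lit 303950) (nat_lit 25) = true := by decide +kernel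
theorem chkP_303975 : allRangeF (checkPointF cert) (nat_lit 303975) (nat_lit 25) = true := by decide +kernel
theorem chkP_304000 : allRangeF (checkPointF cert) (nat_lit 304000) (nat_lit 25) = true := by decide +kernel
theorem chkP_304025 : allRangeF (checkPointF cert) (nat_lit 304025) (nat_lit 25) = true := by decide +kernel
theorem chkP_304050 : allRangeF (checkPointF cert) (nat_lit 304050) (nat_lit 25) = true := by decide +kernel
theorem chkP_304075 : allRangeF (checkPointF cert) (nat_lit 304075) (nat_lit 25) = true := by decide +kernel
theorem chkP_304100 : allRangeF (checkPointF cert) (nat_lit 304100) (nat_lit 25) = true := by decide +kernel
theorem chkP_304125 : allRangeF (checkPointF cert) (nat_lit 304125) (nat_lit 25) = true := by decide +kernel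
theorem chkP_304150 : allRangeF (checkPointF cert) (nat_lit 304150) (nat_lit 25) = true := by decide +kernel
theorem chkP_304175 : allRangeF (checkPointF cert) (nat_lit 304175) (nat_lit 25) = true := by decide +kernel
theorem chkP_304200 : allRangeF (checkPointF cert) (nat_lit 304200) (nat_lit 25) = true := by decide +kernel
theorem chkP_304225 : allRangeF (checkPointF cert) (nat_lit 304225) (nat_lit 25) = true := by decide +kernel
theorem chkP_304250 : allRangeF (checkPointF cert) (nat_lit 304250) (nat_lit 25) = true := by decide +kernel
theorem chkP_304275 : allRangeF (checkPointF cert) (nat_lit 304275) (nat_lit 25) = true := by decide +kernel
theorem chkP_304300 : allRangeF (checkPointF cert) (nat_lit 304300) (nat_lit 25) = true := by decide +kernel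
theorem chkP_304325 : allRangeF (checkPointF cert) (nat_lit 304325) (nat_lit 25) = true := by decide +kernel
theorem chkP_304350 : allRangeF (checkPointF cert) (nat_lit 304350) (nat_lit 25) = true := by decide +kernel
theorem chkP_304375 : allRangeF (checkPointF cert) (nat_lit 304375) (nat_lit 25) = true := by decide +kernel
theorem chkP_304400 : allRangeF (checkPointF cert) (nat_lit 304400) (nat_lit 25) = true := by decide +kernel
theorem chkP_304425 : allRangeF (checkPointF cert) (nat_lit 304425) (nat_lit 25) = true := by decide +kernel
theorem chkP_304450 : allRangeF (checkPointF cert) (nat_lit 304450) (nat_lit 25) = true := by decide +kernel
theorem chkP_304475 : allRangeF (checkPointF cert) (nat_lit 304475) (nat_lit 25) = true := by decide +kernel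
theorem chkP_304500 : allRangeF (checkPointF cert) (nat_lit 304500) (nat_lit 25) = true := by decide +kernel
theorem chkP_304525 : allRangeF (checkPointF cert) (nat_lit 304525) (nat_lit 25) = true := by decide +kernel
theorem chkP_304550 : allRangeF (checkPointF cert) (nat_lit 304550) (nat_lit 25) = true := by decide +kernel
theorem chkP_304575 : allRangeF (checkPointF cert) (nat_lit 304575) (nat_lit 25) = true := by decide +kernel
theorem chkP_304600 : allRangeF (checkPointF cert) (nat_lit 304600) (nat_lit 25) = true := by decide +kernel
theorem chkP_304625 : allRangeF (checkPointF cert) (nat_lit 304625) (nat_lit 25) = true := by decide +kernel
theorem chkP_304650 : allRangeF (checkPointF cert) (nat_lit 304650) (nat_lit 25) = true := by decide +kernel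
theorem chkP_304675 : allRangeF (checkPointF cert) (nat_lit 304675) (nat_lit 25) = true := by decide +kernel
theorem chkP_304700 : allRangeF (checkPointF cert) (nat_lit 304700) (nat_lit 25) = true := by decide +kernel
theorem chkP_304725 : allRangeF (checkPointF cert) (nat_lit 304725) (nat_lit 25) = true := by decide +kernel
theorem chkP_304750 : allRangeF (checkPointF cert) (nat_lit 304750) (nat_lit 25) = true := by decide +kernel
theorem chkP_304775 : allRangeF (checkPointF cert) (nat_lit 304775) (nat_lit 25) = true := by decide +kernel
theorem chkP_304800 : allRangeF (checkPointF cert) (nat_lit 304800) (nat_lit 25) = true := by decide +kernel
theorem chkP_304825 : allRangeF (checkPointF cert) (nat_lit 304825) (nat_lit 25) = true := by decide +kernel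
theorem chkP_304850 : allRangeF (checkPointF cert) (nat_lit 304850) (nat_lit 25) = true := by decide +kernel
theorem chkP_304875 : allRangeF (checkPointF cert) (nat_lit 304875) (nat_lit 25) = true := by decide +kernel
theorem chkP_304900 : allRangeF (checkPointF cert) (nat_lit 304900) (nat_lit 25) = true := by decide +kernel
theorem chkP_304925 : allRangeF (checkPointF cert) (nat_lit 304925) (nat_lit 25) = true := by decide +kernel
theorem chkP_304950 : allRangeF (checkPointF cert) (nat_lit 304950) (nat_lit 25) = true := by decide +kernel
theorem chkP_304975 : allRangeF (checkPointF cert) (nat_lit 304975) (nat_lit 25) = true := by decide +kernel
theorem chkP_305000 : allRangeF (checkPointF cert) (nat_lit 305000) (nat_lit 25) = true := by decide +kernel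
theorem chkP_305025 : allRangeF (checkPointF cert) (nat_lit 305025) (nat_lit 25) = true := by decide +kernel
theorem chkP_305050 : allRangeF (checkPointF cert) (nat_lit 305050) (nat_lit 25) = true := by decide +kernel
theorem chkP_305075 : allRangeF (checkPointF cert) (nat_lit 305075) (nat_lit 25) = true := by decide +kernel
theorem chkP_305100 : allRangeF (checkPointF cert) (nat_lit 305100) (nat_lit 25) = true := by decide +kernel
theorem chkP_305125 : allRangeF (checkPointF cert) (nat_lit 305125) (nat_lit 25) = true := by decide +kernel
theorem chkP_305150 : allRangeF (checkPointF cert) (nat_lit 305150) (nat_lit 25) = true := by decide +kernel
theorem chkP_305175 : allRangeF (checkPointF cert) (nat_lit 305175) (nat_lit 25) = true := by decide +kernel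
theorem chkP_305200 : allRangeF (checkPointF cert) (nat_lit 305200) (nat_lit 25) = true := by decide +kernel
theorem chkP_305225 : allRangeF (checkPointF cert) (nat_lit 305225) (nat_lit 25) = true := by decide +kernel
theorem chkP_305250 : allRangeF (checkPointF cert) (nat_lit 305250) (nat_lit 25) = true := by decide +kernel
theorem chkP_305275 : allRangeF (checkPointF cert) (nat_lit 305275) (nat_lit 25) = true := by decide +kernel
theorem chkP_305300 : allRangeF (checkPointF cert) (nat_lit 305300) (nat_lit 25) = true := by decide +kernel
theorem chkP_305325 : allRangeF (checkPointF cert) (nat_lit 305325) (nat_lit 25) = true := by decide +kernel
theorem chkP_305350 : allRangeF (checkPointF cert) (nat_lit 305350) (nat_lit 25) = true := by decide +kernel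
theorem chkP_305375 : allRangeF (checkPointF cert) (nat_lit 305375) (nat_lit 25) = true := by decide +kernel
theorem chkP_305400 : allRangeF (checkPointF cert) (nat_lit 305400) (nat_lit 25) = true := by decide +kernel
theorem chkP_305425 : allRangeF (checkPointF cert) (nat_lit 305425) (nat_lit 25) = true := by decide +kernel
theorem chkP_305450 : allRangeF (checkPointF cert) (nat_lit 305450) (nat_lit 25) = true := by decide +kernel
theorem chkP_305475 : allRangeF (checkPointF cert) (nat_lit 305475) (nat_lit 25) = true := by decide +kernel
theorem chkP_305500 : allRangeF (checkPointF cert) (nat_lit 305500) (nat_lit 25) = true := by decide +kernel
theorem chkP_305525 : allRangeF (checkPointF cert) (nat_lit 305525) (nat_lit 25) = true := by decide +kernel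
theorem chkP_305550 : allRangeF (checkPointF cert) (nat_lit 305550) (nat_lit 25) = true := by decide +kernel
theorem chkP_305575 : allRangeF (checkPointF cert) (nat_lit 305575) (nat_lit 25) = true := by decide +kernel
theorem chkP_305600 : allRangeF (checkPointF cert) (nat_lit 305600) (nat_lit 25) = true := by decide +kernel
theorem chkP_305625 : allRangeF (checkPointF cert) (nat_lit 305625) (nat_lit 25) = true := by decide +kernel
theorem chkP_305650 : allRangeF (checkPointF cert) (nat_lit 305650) (nat_lit 25) = true := by decide +kernel
theorem chkP_305675 : allRangeF (checkPointF cert) (nat_lit 305675) (nat_lit 25) = true := by decide +kernel
theorem chkP_305700 : allRangeF (checkPointF cert) (nat_lit 305700) (nat_lit 25) = true := by decide +kernel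
theorem chkP_305725 : allRangeF (checkPointF cert) (nat_lit 305725) (nat_lit 25) = true := by decide +kernel
theorem chkP_305750 : allRangeF (checkPointF cert) (nat_lit 305750) (nat_lit 25) = true := by decide +kernel
theorem chkP_305775 : allRangeF (checkPointF cert) (nat_lit 305775) (nat_lit 25) = true := by decide +kernel
theorem chkP_305800 : allRangeF (checkPointF cert) (nat_lit 305800) (nat_lit 25) = true := by decide +kernel
theorem chkP_305825 : allRangeF (checkPointF cert) (nat_lit 305825) (nat_lit 25) = true := by decide +kernel
theorem chkP_305850 : allRangeF (checkPointF cert) (nat_lit 305850) (nat_lit 25) = true := by decide +kernel
theorem chkP_305875 : allRangeF (checkPointF cert) (nat_lit 305875) (nat_lit 25) = true := by decide +kernel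
theorem chkP_305900 : allRangeF (checkPointF cert) (nat_lit 305900) (nat_lit 25) = true := by decide +kernel
theorem chkP_305925 : allRangeF (checkPointF cert) (nat_lit 305925) (nat_lit 25) = true := by decide +kernel
theorem chkP_305950 : allRangeF (checkPointF cert) (nat_lit 305950) (nat_lit 25) = true := by decide +kernel
theorem chkP_305975 : allRangeF (checkPointF cert) (nat_lit 305975) (nat_lit 25) = true := by decide +kernel
theorem chkP_306000 : allRangeF (checkPointF cert) (nat_lit 306000) (nat_lit 25) = true := by decide +kernel
theorem chkP_306025 : allRangeF (checkPointF cert) (nat_lit 306025) (nat_lit 25) = true := by decide +kernel
theorem chkP_306050 : allRangeF (checkPointF cert) (nat_lit 306050) (nat_lit 25) = true := by decide +kernel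
theorem chkP_306075 : allRangeF (checkPointF cert) (nat_lit 306075) (nat_lit 25) = true := by decide +kernel
theorem chkP_306100 : allRangeF (checkPointF cert) (nat_lit 306100) (nat_lit 25) = true := by decide +kernel
theorem chkP_306125 : allRangeF (checkPointF cert) (nat_lit 306125) (nat_lit 25) = true := by decide +kernel
theorem chkP_306150 : allRangeF (checkPointF cert) (nat_lit 306150) (nat_lit 25) = true := by decide +kernel
theorem chkP_306175 : allRangeF (checkPointF cert) (nat_lit 306175) (nat_lit 25) = true := by decide +kernel
theorem chkP_306200 : allRangeF (checkPointF cert) (nat_lit 306200) (nat_lit 25) = true := by decide +kernel
theorem chkP_306225 : allRangeF (checkPointF cert) (nat_lit 306225) (nat_lit 25) = true := by decide +kernel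
theorem chkP_306250 : allRangeF (checkPointF cert) (nat_lit 306250) (nat_lit 25) = true := by decide +kernel
theorem chkP_306275 : allRangeF (checkPointF cert) (nat_lit 306275) (nat_lit 25) = true := by decide +kernel
theorem chkP_306300 : allRangeF (checkPointF cert) (nat_lit 306300) (nat_lit 25) = true := by decide +kernel
theorem chkP_306325 : allRangeF (checkPointF cert) (nat_lit 306325) (nat_lit 25) = true := by decide +kernel
theorem chkP_306350 : allRangeF (checkPointF cert) (nat_lit 306350) (nat_lit 25) = true := by decide +kernel
theorem chkP_306375 : allRangeF (checkPointF cert) (nat_lit 306375) (nat_lit 25) = true := by decide +kernel
theorem chkP_306400 : allRangeF (checkPointF cert) (nat_lit 306400) (nat_lit 25) = true := by decide +kernel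
theorem chkP_306425 : allRangeF (checkPointF cert) (nat_lit 306425) (nat_lit 25) = true := by decide +kernel
theorem chkP_306450 : allRangeF (checkPointF cert) (nat_lit 306450) (nat_lit 25) = true := by decide +kernel
theorem chkP_306475 : allRangeF (checkPointF cert) (nat_lit 306475) (nat_lit 25) = true := by decide +kernel
theorem chkP_306500 : allRangeF (checkPointF cert) (nat_lit 306500) (nat_lit 25) = true := by decide +kernel
theorem chkP_306525 : allRangeF (checkPointF cert) (nat_lit 306525) (nat_lit 25) = true := by decide +kernel
theorem chkP_306550 : allRangeF (checkPointF cert) (nat_lit 306550) (nat_lit 25) = true := by decide +kernel
theorem chkP_306575 : allRangeF (checkPointF cert) (nat_lit 306575) (nat_lit 25) = true := by decide +kernel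
theorem chkP_306600 : allRangeF (checkPointF cert) (nat_lit 306600) (nat_lit 25) = true := by decide +kernel
theorem chkP_306625 : allRangeF (checkPointF cert) (nat_lit 306625) (nat_lit 25) = true := by decide +kernel
theorem chkP_306650 : allRangeF (checkPointF cert) (nat_lit 306650) (nat_lit 25) = true := by decide +kernel
theorem chkP_306675 : allRangeF (checkPointF cert) (nat_lit 306675) (nat_lit 25) = true := by decide +kernel
theorem chkP_306700 : allRangeF (checkPointF cert) (nat_lit 306700) (nat_lit 25) = true := by decide +kernel
theorem chkP_306725 : allRangeF (checkPointF cert) (nat_lit 306725) (nat_lit 25) = true := by decide +kernel
theorem chkP_306750 : allRangeF (checkPointF cert) (nat_lit 306750) (nat_lit 25) = true := by decide +kernel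
theorem chkP_306775 : allRangeF (checkPointF cert) (nat_lit 306775) (nat_lit 25) = true := by decide +kernel
theorem chkP_306800 : allRangeF (checkPointF cert) (nat_lit 306800) (nat_lit 25) = true := by decide +kernel
theorem chkP_306825 : allRangeF (checkPointF cert) (nat_lit 306825) (nat_lit 25) = true := by decide +kernel
theorem chkP_306850 : allRangeF (checkPointF cert) (nat_lit 306850) (nat_lit 25) = true := by decide +kernel
theorem chkP_306875 : allRangeF (checkPointF cert) (nat_lit 306875) (nat_lit 25) = true := by decide +kernel
theorem chkP_306900 : allRangeF (checkPointF cert) (nat_lit 306900) (nat_lit 25) = true := by decide +kernel
theorem chkP_306925 : allRangeF (checkPointF cert) (nat_lit 306925) (nat_lit 11) = true := by decide +kernel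

theorem ptsRange_39 : ∀ i, 299325 ≤ i → i < 306936 → checkPoint cert i = true := by
  intro i hlo hhi
  rcases Nat.lt_or_ge i 303125 with h1 | h1
  · skip
    rcases Nat.lt_or_ge i 301225 with h2 | h2
    · skip
      rcases Nat.lt_or_ge i 300275 with h3 | h3
      · skip
        rcases Nat.lt_or_ge i 299800 with h4 | h4
        · skip
          rcases Nat.lt_or_ge i 299550 with h5 | h5
          · skip
            rcases Nat.lt_or_ge i 299425 with h6 | h6
            · skip
              rcases Nat.lt_or_ge i 299375 with h7 | h7
              · skip
                rcases Nat.lt_or_ge i 299350 with h8 | h8
                · skip
                  exact allRangeF_sound _ _ (checkPointF_eq cert) 299325 25 chkP_299325 i (by omega) (by omega)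
                · skip
                  exact allRangeF_sound _ _ (checkPointF_eq cert) 299350 25 chkP_299350 i (by omega) (by omega)
              · skip
                rcases Nat.lt_or_ge i 299400 with h8 | h8
                · skip
                  exact allRangeF_sound _ _ (checkPointF_eq cert) 299375 25 chkP_299375 i (by omega) (by omega)
                · skip
                  exact allRangeF_sound _ _ (checkPointF_eq cert) 299400 25 chkP_299400 i (by omega) (by omega)
            · skip
              rcases Nat.lt_or_ge i 299475 with h7 | h7
              · skip
                rcases Nat.lt_or_ge i 299450 with h8 | h8
                · skip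
                  exact allRangeF_sound _ _ (checkPointF_eq cert) 299425 25 chkP_299425 i (by omega) (by omega)
                · skip
                  exact allRangeF_sound _ _ (checkPointF_eq cert) 299450 25 chkP_299450 i (by omega) (by omega)
              · skip
                rcases Nat.lt_or_ge i 299500 with h8 | h8
                · skip
                  exact allRangeF_sound _ _ (checkPointF_eq cert) 299475 25 chkP_299475 i (by omega) (by omega)
                · skip
                  rcases Nat.lt_or_ge i 299525 with h9 | h9
                  · skip
                    exact allRangeF_sound _ _ (checkPointF_eq cert) 299500 25 chkP_299500 i (by omega) (by omega)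
                  · skip
                    exact allRangeF_sound _ _ (checkPointF_eq cert) 299525 25 chkP_299525 i (by omega) (by omega)
          · skip
            rcases Nat.lt_or_ge i 299675 with h6 | h6
            · skip
              rcases Nat.lt_or_ge i 299600 with h7 | h7
              · skip
                rcases Nat.lt_or_ge i 299575 with h8 | h8
                · skip
                  exact allRangeF_sound _ _ (checkPointF_eq cert) 299550 25 chkP_299550 i (by omega) (by omega)
                · skip
                  exact allRangeF_sound _ _ (checkPointF_eq cert) 299575 25 chkP_299575 i (by omega) (by omega)
              · skip
                rcases Nat.lt_or_ge i 299625 with h8 | h8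
                · skip
                  exact allRangeF_sound _ _ (checkPointF_eq cert) 299600 25 chkP_299600 i (by omega) (by omega)
                · skip
                  rcases Nat.lt_or_ge i 299650 with h9 | h9
                  · skip
                    exact allRangeF_sound _ _ (checkPointF_eq cert) 299625 25 chkP_299625 i (by omega) (by omega)
                  · skip
                    exact allRangeF_sound _ _ (checkPointF_eq cert) 299650 25 chkP_299650 i (by omega) (by omega)
            · skip
              rcases Nat.lt_or_ge i 299725 with h7 | h7
              · skip
                rcases Nat.lt_or_ge i 299700 with h8 | h8
                · skip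
                  exact allRangeF_sound _ _ (checkPointF_eq cert) 299675 25 chkP_299675 i (by omega) (by omega)
                · skip
                  exact allRangeF_sound _ _ (checkPointF_eq cert) 299700 25 chkP_299700 i (by omega) (by omega)
              · skip
                rcases Nat.lt_or_ge i 299750 with h8 | h8
                · skip
                  exact allRangeF_sound _ _ (checkPointF_eq cert) 299725 25 chkP_299725 i (by omega) (by omega)
                · skip
                  rcases Nat.lt_or_ge i 299775 with h9 | h9
                  · skip
                    exact allRangeF_sound _ _ (checkPointF_eq cert) 299750 25 chkP_299750 i (by omega) (by omega)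
                  · skip
                    exact allRangeF_sound _ _ (checkPointF_eq cert) 299775 25 chkP_299775 i (by omega) (by omega)
        · skip
          rcases Nat.lt_or_ge i 300025 with h5 | h5
          · skip
            rcases Nat.lt_or_ge i 299900 with h6 | h6
            · skip
              rcases Nat.lt_or_ge i 299850 with h7 | h7
              · skip
                rcases Nat.lt_or_ge i 299825 with h8 | h8
                · skip
                  exact allRangeF_sound _ _ (checkPointF_eq cert) 299800 25 chkP_299800 i (by omega) (by omega)
                · skip
                  exact allRangeF_sound _ _ (checkPointF_eq cert) 299825 25 chkP_299825 i (by omega) (by omega)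
              · skip
                rcases Nat.lt_or_ge i 299875 with h8 | h8
                · skip
                  exact allRangeF_sound _ _ (checkPointF_eq cert) 299850 25 chkP_299850 i (by omega) (by omega)
                · skip
                  exact allRangeF_sound _ _ (checkPointF_eq cert) 299875 25 chkP_299875 i (by omega) (by omega)
            · skip
              rcases Nat.lt_or_ge i 299950 with h7 | h7
              · skip
                rcases Nat.lt_or_ge i 299925 with h8 | h8
                · skip
                  exact allRangeF_sound _ _ (checkPointF_eq cert) 299900 25 chkP_299900 i (by omega) (by omega)
                · skip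
                  exact allRangeF_sound _ _ (checkPointF_eq cert) 299925 25 chkP_299925 i (by omega) (by omega)
              · skip
                rcases Nat.lt_or_ge i 299975 with h8 | h8
                · skip
                  exact allRangeF_sound _ _ (checkPointF_eq cert) 299950 25 chkP_299950 i (by omega) (by omega)
                · skip
                  rcases Nat.lt_or_ge i 300000 with h9 | h9
                  · skip
                    exact allRangeF_sound _ _ (checkPointF_eq cert) 299975 25 chkP_299975 i (by omega) (by omega)
                  · skip
                    exact allRangeF_sound _ _ (checkPointF_eq cert) 300000 25 chkP_300000 i (by omega) (by omega)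
          · skip
            rcases Nat.lt_or_ge i 300150 with h6 | h6
            · skip
              rcases Nat.lt_or_ge i 300075 with h7 | h7
              · skip
                rcases Nat.lt_or_ge i 300050 with h8 | h8
                · skip
                  exact allRangeF_sound _ _ (checkPointF_eq cert) 300025 25 chkP_300025 i (by omega) (by omega)
                · skip
                  exact allRangeF_sound _ _ (checkPointF_eq cert) 300050 25 chkP_300050 i (by omega) (by omega)
              · skip
                rcases Nat.lt_or_ge i 300100 with h8 | h8
                · skip
                  exact allRangeF_sound _ _ (checkPointF_eq cert) 300075 25 chkP_300075 i (by omega) (by omega)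
                · skip
                  rcases Nat.lt_or_ge i 300125 with h9 | h9
                  · skip
                    exact allRangeF_sound _ _ (checkPointF_eq cert) 300100 25 chkP_300100 i (by omega) (by omega)
                  · skip
                    exact allRangeF_sound _ _ (checkPointF_eq cert) 300125 25 chkP_300125 i (by omega) (by omega)
            · skip
              rcases Nat.lt_or_ge i 300200 with h7 | h7
              · skip
                rcases Nat.lt_or_ge i 300175 with h8 | h8
                · skip
                  exact allRangeF_sound _ _ (checkPointF_eq cert) 300150 25 chkP_300150 i (by omega) (by omega)
                · skip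
                  exact allRangeF_sound _ _ (checkPointF_eq cert) 300175 25 chkP_300175 i (by omega) (by omega)
              · skip
                rcases Nat.lt_or_ge i 300225 with h8 | h8
                · skip
                  exact allRangeF_sound _ _ (checkPointF_eq cert) 300200 25 chkP_300200 i (by omega) (by omega)
                · skip
                  rcases Nat.lt_or_ge i 300250 with h9 | h9
                  · skip
                    exact allRangeF_sound _ _ (checkPointF_eq cert) 300225 25 chkP_300225 i (by omega) (by omega)
                  · skip
                    exact allRangeF_sound _ _ (checkPointF_eq cert) 300250 25 chkP_300250 i (by omega) (by omega)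
      · skip
        rcases Nat.lt_or_ge i 300750 with h4 | h4
        · skip
          rcases Nat.lt_or_ge i 300500 with h5 | h5
          · skip
            rcases Nat.lt_or_ge i 300375 with h6 | h6
            · skip
              rcases Nat.lt_or_ge i 300325 with h7 | h7
              · skip
                rcases Nat.lt_or_ge i 300300 with h8 | h8
                · skip
                  exact allRangeF_sound _ _ (checkPointF_eq cert) 300275 25 chkP_300275 i (by omega) (by omega)
                · skip
                  exact allRangeF_sound _ _ (checkPointF_eq cert) 300300 25 chkP_300300 i (by omega) (by omega)
              · skip
                rcases Nat.lt_or_ge i 300350 with h8 | h8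
                · skip
                  exact allRangeF_sound _ _ (checkPointF_eq cert) 300325 25 chkP_300325 i (by omega) (by omega)
                · skip
                  exact allRangeF_sound _ _ (checkPointF_eq cert) 300350 25 chkP_300350 i (by omega) (by omega)
            · skip
              rcases Nat.lt_or_ge i 300425 with h7 | h7
              · skip
                rcases Nat.lt_or_ge i 300400 with h8 | h8
                · skip
                  exact allRangeF_sound _ _ (checkPointF_eq cert) 300375 25 chkP_300375 i (by omega) (by omega)
                · skip
                  exact allRangeF_sound _ _ (checkPointF_eq cert) 300400 25 chkP_300400 i (by omega) (by omega)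
              · skip
                rcases Nat.lt_or_ge i 300450 with h8 | h8
                · skip
                  exact allRangeF_sound _ _ (checkPointF_eq cert) 300425 25 chkP_300425 i (by omega) (by omega)
                · skip
                  rcases Nat.lt_or_ge i 300475 with h9 | h9
                  · skip
                    exact allRangeF_sound _ _ (checkPointF_eq cert) 300450 25 chkP_300450 i (by omega) (by omega)
                  · skip
                    exact allRangeF_sound _ _ (checkPointF_eq cert) 300475 25 chkP_300475 i (by omega) (by omega)
          · skip
            rcases Nat.lt_or_ge i 300625 with h6 | h6
            · skip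
              rcases Nat.lt_or_ge i 300550 with h7 | h7
              · skip
                rcases Nat.lt_or_ge i 300525 with h8 | h8
                · skip
                  exact allRangeF_sound _ _ (checkPointF_eq cert) 300500 25 chkP_300500 i (by omega) (by omega)
                · skip
                  exact allRangeF_sound _ _ (checkPointF_eq cert) 300525 25 chkP_300525 i (by omega) (by omega)
              · skip
                rcases Nat.lt_or_ge i 300575 with h8 | h8
                · skip
                  exact allRangeF_sound _ _ (checkPointF_eq cert) 300550 25 chkP_300550 i (by omega) (by omega)
                · skip
                  rcases Nat.lt_or_ge i 300600 with h9 | h9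
                  · skip
                    exact allRangeF_sound _ _ (checkPointF_eq cert) 300575 25 chkP_300575 i (by omega) (by omega)
                  · skip
                    exact allRangeF_sound _ _ (checkPointF_eq cert) 300600 25 chkP_300600 i (by omega) (by omega)
            · skip
              rcases Nat.lt_or_ge i 300675 with h7 | h7
              · skip
                rcases Nat.lt_or_ge i 300650 with h8 | h8
                · skip
                  exact allRangeF_sound _ _ (checkPointF_eq cert) 300625 25 chkP_300625 i (by omega) (by omega)
                · skip
                  exact allRangeF_sound _ _ (checkPointF_eq cert) 300650 25 chkP_300650 i (by omega) (by omega)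
              · skip
                rcases Nat.lt_or_ge i 300700 with h8 | h8
                · skip
                  exact allRangeF_sound _ _ (checkPointF_eq cert) 300675 25 chkP_300675 i (by omega) (by omega)
                · skip
                  rcases Nat.lt_or_ge i 300725 with h9 | h9
                  · skip
                    exact allRangeF_sound _ _ (checkPointF_eq cert) 300700 25 chkP_300700 i (by omega) (by omega)
                  · skip
                    exact allRangeF_sound _ _ (checkPointF_eq cert) 300725 25 chkP_300725 i (by omega) (by omega)
        · skip
          rcases Nat.lt_or_ge i 300975 with h5 | h5
          · skip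
            rcases Nat.lt_or_ge i 300850 with h6 | h6
            · skip
              rcases Nat.lt_or_ge i 300800 with h7 | h7
              · skip
                rcases Nat.lt_or_ge i 300775 with h8 | h8
                · skip
                  exact allRangeF_sound _ _ (checkPointF_eq cert) 300750 25 chkP_300750 i (by omega) (by omega)
                · skip
                  exact allRangeF_sound _ _ (checkPointF_eq cert) 300775 25 chkP_300775 i (by omega) (by omega)
              · skip
                rcases Nat.lt_or_ge i 300825 with h8 | h8
                · skip
                  exact allRangeF_sound _ _ (checkPointF_eq cert) 300800 25 chkP_300800 i (by omega) (by omega)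
                · skip
                  exact allRangeF_sound _ _ (checkPointF_eq cert) 300825 25 chkP_300825 i (by omega) (by omega)
            · skip
              rcases Nat.lt_or_ge i 300900 with h7 | h7
              · skip
                rcases Nat.lt_or_ge i 300875 with h8 | h8
                · skip
                  exact allRangeF_sound _ _ (checkPointF_eq cert) 300850 25 chkP_300850 i (by omega) (by omega)
                · skip
                  exact allRangeF_sound _ _ (checkPointF_eq cert) 300875 25 chkP_300875 i (by omega) (by omega)
              · skip
                rcases Nat.lt_or_ge i 300925 with h8 | h8
                · skip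
                  exact allRangeF_sound _ _ (checkPointF_eq cert) 300900 25 chkP_300900 i (by omega) (by omega)
                · skip
                  rcases Nat.lt_or_ge i 300950 with h9 | h9
                  · skip
                    exact allRangeF_sound _ _ (checkPointF_eq cert) 300925 25 chkP_300925 i (by omega) (by omega)
                  · skip
                    exact allRangeF_sound _ _ (checkPointF_eq cert) 300950 25 chkP_300950 i (by omega) (by omega)
          · skip
            rcases Nat.lt_or_ge i 301100 with h6 | h6
            · skip
              rcases Nat.lt_or_ge i 301025 with h7 | h7
              · skip
                rcases Nat.lt_or_ge i 301000 with h8 | h8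
                · skip
                  exact allRangeF_sound _ _ (checkPointF_eq cert) 300975 25 chkP_300975 i (by omega) (by omega)
                · skip
                  exact allRangeF_sound _ _ (checkPointF_eq cert) 301000 25 chkP_301000 i (by omega) (by omega)
              · skip
                rcases Nat.lt_or_ge i 301050 with h8 | h8
                · skip
                  exact allRangeF_sound _ _ (checkPointF_eq cert) 301025 25 chkP_301025 i (by omega) (by omega)
                · skip
                  rcases Nat.lt_or_ge i 301075 with h9 | h9
                  · skip
                    exact allRangeF_sound _ _ (checkPointF_eq cert) 301050 25 chkP_301050 i (by omega) (by omega)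
                  · skip
                    exact allRangeF_sound _ _ (checkPointF_eq cert) 301075 25 chkP_301075 i (by omega) (by omega)
            · skip
              rcases Nat.lt_or_ge i 301150 with h7 | h7
              · skip
                rcases Nat.lt_or_ge i 301125 with h8 | h8
                · skip
                  exact allRangeF_sound _ _ (checkPointF_eq cert) 301100 25 chkP_301100 i (by omega) (by omega)
                · skip
                  exact allRangeF_sound _ _ (checkPointF_eq cert) 301125 25 chkP_301125 i (by omega) (by omega)
              · skip
                rcases Nat.lt_or_ge i 301175 with h8 | h8
                · skip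
                  exact allRangeF_sound _ _ (checkPointF_eq cert) 301150 25 chkP_301150 i (by omega) (by omega)
                · skip
                  rcases Nat.lt_or_ge i 301200 with h9 | h9
                  · skip
                    exact allRangeF_sound _ _ (checkPointF_eq cert) 301175 25 chkP_301175 i (by omega) (by omega)
                  · skip
                    exact allRangeF_sound _ _ (checkPointF_eq cert) 301200 25 chkP_301200 i (by omega) (by omega)
    · skip
      rcases Nat.lt_or_ge i 302175 with h3 | h3
      · skip
        rcases Nat.lt_or_ge i 301700 with h4 | h4
        · skip
          rcases Nat.lt_or_ge i 301450 with h5 | h5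
          · skip
            rcases Nat.lt_or_ge i 301325 with h6 | h6
            · skip
              rcases Nat.lt_or_ge i 301275 with h7 | h7
              · skip
                rcases Nat.lt_or_ge i 301250 with h8 | h8
                · skip
                  exact allRangeF_sound _ _ (checkPointF_eq cert) 301225 25 chkP_301225 i (by omega) (by omega)
                · skip
                  exact allRangeF_sound _ _ (checkPointF_eq cert) 301250 25 chkP_301250 i (by omega) (by omega)
              · skip
                rcases Nat.lt_or_ge i 301300 with h8 | h8
                · skip
                  exact allRangeF_sound _ _ (checkPointF_eq cert) 301275 25 chkP_301275 i (by omega) (by omega)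
                · skip
                  exact allRangeF_sound _ _ (checkPointF_eq cert) 301300 25 chkP_301300 i (by omega) (by omega)
            · skip
              rcases Nat.lt_or_ge i 301375 with h7 | h7
              · skip
                rcases Nat.lt_or_ge i 301350 with h8 | h8
                · skip
                  exact allRangeF_sound _ _ (checkPointF_eq cert) 301325 25 chkP_301325 i (by omega) (by omega)
                · skip
                  exact allRangeF_sound _ _ (checkPointF_eq cert) 301350 25 chkP_301350 i (by omega) (by omega)
              · skip
                rcases Nat.lt_or_ge i 301400 with h8 | h8
                · skip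
                  exact allRangeF_sound _ _ (checkPointF_eq cert) 301375 25 chkP_301375 i (by omega) (by omega)
                · skip
                  rcases Nat.lt_or_ge i 301425 with h9 | h9
                  · skip
                    exact allRangeF_sound _ _ (checkPointF_eq cert) 301400 25 chkP_301400 i (by omega) (by omega)
                  · skip
                    exact allRangeF_sound _ _ (checkPointF_eq cert) 301425 25 chkP_301425 i (by omega) (by omega)
          · skip
            rcases Nat.lt_or_ge i 301575 with h6 | h6
            · skip
              rcases Nat.lt_or_ge i 301500 with h7 | h7
              · skip
                rcases Nat.lt_or_ge i 301475 with h8 | h8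
                · skip
                  exact allRangeF_sound _ _ (checkPointF_eq cert) 301450 25 chkP_301450 i (by omega) (by omega)
                · skip
                  exact allRangeF_sound _ _ (checkPointF_eq cert) 301475 25 chkP_301475 i (by omega) (by omega)
              · skip
                rcases Nat.lt_or_ge i 301525 with h8 | h8
                · skip
                  exact allRangeF_sound _ _ (checkPointF_eq cert) 301500 25 chkP_301500 i (by omega) (by omega)
                · skip
                  rcases Nat.lt_or_ge i 301550 with h9 | h9
                  · skip
                    exact allRangeF_sound _ _ (checkPointF_eq cert) 301525 25 chkP_301525 i (by omega) (by omega)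
                  · skip
                    exact allRangeF_sound _ _ (checkPointF_eq cert) 301550 25 chkP_301550 i (by omega) (by omega)
            · skip
              rcases Nat.lt_or_ge i 301625 with h7 | h7
              · skip
                rcases Nat.lt_or_ge i 301600 with h8 | h8
                · skip
                  exact allRangeF_sound _ _ (checkPointF_eq cert) 301575 25 chkP_301575 i (by omega) (by omega)
                · skip
                  exact allRangeF_sound _ _ (checkPointF_eq cert) 301600 25 chkP_301600 i (by omega) (by omega)
              · skip
                rcases Nat.lt_or_ge i 301650 with h8 | h8
                · skip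
                  exact allRangeF_sound _ _ (checkPointF_eq cert) 301625 25 chkP_301625 i (by omega) (by omega)
                · skip
                  rcases Nat.lt_or_ge i 301675 with h9 | h9
                  · skip
                    exact allRangeF_sound _ _ (checkPointF_eq cert) 301650 25 chkP_301650 i (by omega) (by omega)
                  · skip
                    exact allRangeF_sound _ _ (checkPointF_eq cert) 301675 25 chkP_301675 i (by omega) (by omega)
        · skip
          rcases Nat.lt_or_ge i 301925 with h5 | h5
          · skip
            rcases Nat.lt_or_ge i 301800 with h6 | h6
            · skip
              rcases Nat.lt_or_ge i 301750 with h7 | h7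
              · skip
                rcases Nat.lt_or_ge i 301725 with h8 | h8
                · skip
                  exact allRangeF_sound _ _ (checkPointF_eq cert) 301700 25 chkP_301700 i (by omega) (by omega)
                · skip
                  exact allRangeF_sound _ _ (checkPointF_eq cert) 301725 25 chkP_301725 i (by omega) (by omega)
              · skip
                rcases Nat.lt_or_ge i 301775 with h8 | h8
                · skip
                  exact allRangeF_sound _ _ (checkPointF_eq cert) 301750 25 chkP_301750 i (by omega) (by omega)
                · skip
                  exact allRangeF_sound _ _ (checkPointF_eq cert) 301775 25 chkP_301775 i (by omega) (by omega)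
            · skip
              rcases Nat.lt_or_ge i 301850 with h7 | h7
              · skip
                rcases Nat.lt_or_ge i 301825 with h8 | h8
                · skip
                  exact allRangeF_sound _ _ (checkPointF_eq cert) 301800 25 chkP_301800 i (by omega) (by omega)
                · skip
                  exact allRangeF_sound _ _ (checkPointF_eq cert) 301825 25 chkP_301825 i (by omega) (by omega)
              · skip
                rcases Nat.lt_or_ge i 301875 with h8 | h8
                · skip
                  exact allRangeF_sound _ _ (checkPointF_eq cert) 301850 25 chkP_301850 i (by omega) (by omega)
                · skip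
                  rcases Nat.lt_or_ge i 301900 with h9 | h9
                  · skip
                    exact allRangeF_sound _ _ (checkPointF_eq cert) 301875 25 chkP_301875 i (by omega) (by omega)
                  · skip
                    exact allRangeF_sound _ _ (checkPointF_eq cert) 301900 25 chkP_301900 i (by omega) (by omega)
          · skip
            rcases Nat.lt_or_ge i 302050 with h6 | h6
            · skip
              rcases Nat.lt_or_ge i 301975 with h7 | h7
              · skip
                rcases Nat.lt_or_ge i 301950 with h8 | h8
                · skip
                  exact allRangeF_sound _ _ (checkPointF_eq cert) 301925 25 chkP_301925 i (by omega) (by omega)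
                · skip
                  exact allRangeF_sound _ _ (checkPointF_eq cert) 301950 25 chkP_301950 i (by omega) (by omega)
              · skip
                rcases Nat.lt_or_ge i 302000 with h8 | h8
                · skip
                  exact allRangeF_sound _ _ (checkPointF_eq cert) 301975 25 chkP_301975 i (by omega) (by omega)
                · skip
                  rcases Nat.lt_or_ge i 302025 with h9 | h9
                  · skip
                    exact allRangeF_sound _ _ (checkPointF_eq cert) 302000 25 chkP_302000 i (by omega) (by omega)
                  · skip
                    exact allRangeF_sound _ _ (checkPointF_eq cert) 302025 25 chkP_302025 i (by omega) (by omega)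
            · skip
              rcases Nat.lt_or_ge i 302100 with h7 | h7
              · skip
                rcases Nat.lt_or_ge i 302075 with h8 | h8
                · skip
                  exact allRangeF_sound _ _ (checkPointF_eq cert) 302050 25 chkP_302050 i (by omega) (by omega)
                · skip
                  exact allRangeF_sound _ _ (checkPointF_eq cert) 302075 25 chkP_302075 i (by omega) (by omega)
              · skip
                rcases Nat.lt_or_ge i 302125 with h8 | h8
                · skip
                  exact allRangeF_sound _ _ (checkPointF_eq cert) 302100 25 chkP_302100 i (by omega) (by omega)
                · skip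
                  rcases Nat.lt_or_ge i 302150 with h9 | h9
                  · skip
                    exact allRangeF_sound _ _ (checkPointF_eq cert) 302125 25 chkP_302125 i (by omega) (by omega)
                  · skip
                    exact allRangeF_sound _ _ (checkPointF_eq cert) 302150 25 chkP_302150 i (by omega) (by omega)
      · skip
        rcases Nat.lt_or_ge i 302650 with h4 | h4
        · skip
          rcases Nat.lt_or_ge i 302400 with h5 | h5
          · skip
            rcases Nat.lt_or_ge i 302275 with h6 | h6
            · skip
              rcases Nat.lt_or_ge i 302225 with h7 | h7
              · skip
                rcases Nat.lt_or_ge i 302200 with h8 | h8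
                · skip
                  exact allRangeF_sound _ _ (checkPointF_eq cert) 302175 25 chkP_302175 i (by omega) (by omega)
                · skip
                  exact allRangeF_sound _ _ (checkPointF_eq cert) 302200 25 chkP_302200 i (by omega) (by omega)
              · skip
                rcases Nat.lt_or_ge i 302250 with h8 | h8
                · skip
                  exact allRangeF_sound _ _ (checkPointF_eq cert) 302225 25 chkP_302225 i (by omega) (by omega)
                · skip
                  exact allRangeF_sound _ _ (checkPointF_eq cert) 302250 25 chkP_302250 i (by omega) (by omega)
            · skip
              rcases Nat.lt_or_ge i 302325 with h7 | h7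
              · skip
                rcases Nat.lt_or_ge i 302300 with h8 | h8
                · skip
                  exact allRangeF_sound _ _ (checkPointF_eq cert) 302275 25 chkP_302275 i (by omega) (by omega)
                · skip
                  exact allRangeF_sound _ _ (checkPointF_eq cert) 302300 25 chkP_302300 i (by omega) (by omega)
              · skip
                rcases Nat.lt_or_ge i 302350 with h8 | h8
                · skip
                  exact allRangeF_sound _ _ (checkPointF_eq cert) 302325 25 chkP_302325 i (by omega) (by omega)
                · skip
                  rcases Nat.lt_or_ge i 302375 with h9 | h9
                  · skip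
                    exact allRangeF_sound _ _ (checkPointF_eq cert) 302350 25 chkP_302350 i (by omega) (by omega)
                  · skip
                    exact allRangeF_sound _ _ (checkPointF_eq cert) 302375 25 chkP_302375 i (by omega) (by omega)
          · skip
            rcases Nat.lt_or_ge i 302525 with h6 | h6
            · skip
              rcases Nat.lt_or_ge i 302450 with h7 | h7
              · skip
                rcases Nat.lt_or_ge i 302425 with h8 | h8
                · skip
                  exact allRangeF_sound _ _ (checkPointF_eq cert) 302400 25 chkP_302400 i (by omega) (by omega)
                · skip
                  exact allRangeF_sound _ _ (checkPointF_eq cert) 302425 25 chkP_302425 i (by omega) (by omega)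
              · skip
                rcases Nat.lt_or_ge i 302475 with h8 | h8
                · skip
                  exact allRangeF_sound _ _ (checkPointF_eq cert) 302450 25 chkP_302450 i (by omega) (by omega)
                · skip
                  rcases Nat.lt_or_ge i 302500 with h9 | h9
                  · skip
                    exact allRangeF_sound _ _ (checkPointF_eq cert) 302475 25 chkP_302475 i (by omega) (by omega)
                  · skip
                    exact allRangeF_sound _ _ (checkPointF_eq cert) 302500 25 chkP_302500 i (by omega) (by omega)
            · skip
              rcases Nat.lt_or_ge i 302575 with h7 | h7
              · skip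
                rcases Nat.lt_or_ge i 302550 with h8 | h8
                · skip
                  exact allRangeF_sound _ _ (checkPointF_eq cert) 302525 25 chkP_302525 i (by omega) (by omega)
                · skip
                  exact allRangeF_sound _ _ (checkPointF_eq cert) 302550 25 chkP_302550 i (by omega) (by omega)
              · skip
                rcases Nat.lt_or_ge i 302600 with h8 | h8
                · skip
                  exact allRangeF_sound _ _ (checkPointF_eq cert) 302575 25 chkP_302575 i (by omega) (by omega)
                · skip
                  rcases Nat.lt_or_ge i 302625 with h9 | h9
                  · skip
                    exact allRangeF_sound _ _ (checkPointF_eq cert) 302600 25 chkP_302600 i (by omega) (by omega)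
                  · skip
                    exact allRangeF_sound _ _ (checkPointF_eq cert) 302625 25 chkP_302625 i (by omega) (by omega)
        · skip
          rcases Nat.lt_or_ge i 302875 with h5 | h5
          · skip
            rcases Nat.lt_or_ge i 302750 with h6 | h6
            · skip
              rcases Nat.lt_or_ge i 302700 with h7 | h7
              · skip
                rcases Nat.lt_or_ge i 302675 with h8 | h8
                · skip
                  exact allRangeF_sound _ _ (checkPointF_eq cert) 302650 25 chkP_302650 i (by omega) (by omega)
                · skip
                  exact allRangeF_sound _ _ (checkPointF_eq cert) 302675 25 chkP_302675 i (by omega) (by omega)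
              · skip
                rcases Nat.lt_or_ge i 302725 with h8 | h8
                · skip
                  exact allRangeF_sound _ _ (checkPointF_eq cert) 302700 25 chkP_302700 i (by omega) (by omega)
                · skip
                  exact allRangeF_sound _ _ (checkPointF_eq cert) 302725 25 chkP_302725 i (by omega) (by omega)
            · skip
              rcases Nat.lt_or_ge i 302800 with h7 | h7
              · skip
                rcases Nat.lt_or_ge i 302775 with h8 | h8
                · skip
                  exact allRangeF_sound _ _ (checkPointF_eq cert) 302750 25 chkP_302750 i (by omega) (by omega)
                · skip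
                  exact allRangeF_sound _ _ (checkPointF_eq cert) 302775 25 chkP_302775 i (by omega) (by omega)
              · skip
                rcases Nat.lt_or_ge i 302825 with h8 | h8
                · skip
                  exact allRangeF_sound _ _ (checkPointF_eq cert) 302800 25 chkP_302800 i (by omega) (by omega)
                · skip
                  rcases Nat.lt_or_ge i 302850 with h9 | h9
                  · skip
                    exact allRangeF_sound _ _ (checkPointF_eq cert) 302825 25 chkP_302825 i (by omega) (by omega)
                  · skip
                    exact allRangeF_sound _ _ (checkPointF_eq cert) 302850 25 chkP_302850 i (by omega) (by omega)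
          · skip
            rcases Nat.lt_or_ge i 303000 with h6 | h6
            · skip
              rcases Nat.lt_or_ge i 302925 with h7 | h7
              · skip
                rcases Nat.lt_or_ge i 302900 with h8 | h8
                · skip
                  exact allRangeF_sound _ _ (checkPointF_eq cert) 302875 25 chkP_302875 i (by omega) (by omega)
                · skip
                  exact allRangeF_sound _ _ (checkPointF_eq cert) 302900 25 chkP_302900 i (by omega) (by omega)
              · skip
                rcases Nat.lt_or_ge i 302950 with h8 | h8
                · skip
                  exact allRangeF_sound _ _ (checkPointF_eq cert) 302925 25 chkP_302925 i (by omega) (by omega)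
                · skip
                  rcases Nat.lt_or_ge i 302975 with h9 | h9
                  · skip
                    exact allRangeF_sound _ _ (checkPointF_eq cert) 302950 25 chkP_302950 i (by omega) (by omega)
                  · skip
                    exact allRangeF_sound _ _ (checkPointF_eq cert) 302975 25 chkP_302975 i (by omega) (by omega)
            · skip
              rcases Nat.lt_or_ge i 303050 with h7 | h7
              · skip
                rcases Nat.lt_or_ge i 303025 with h8 | h8
                · skip
                  exact allRangeF_sound _ _ (checkPointF_eq cert) 303000 25 chkP_303000 i (by omega) (by omega)
                · skip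
                  exact allRangeF_sound _ _ (checkPointF_eq cert) 303025 25 chkP_303025 i (by omega) (by omega)
              · skip
                rcases Nat.lt_or_ge i 303075 with h8 | h8
                · skip
                  exact allRangeF_sound _ _ (checkPointF_eq cert) 303050 25 chkP_303050 i (by omega) (by omega)
                · skip
                  rcases Nat.lt_or_ge i 303100 with h9 | h9
                  · skip
                    exact allRangeF_sound _ _ (checkPointF_eq cert) 303075 25 chkP_303075 i (by omega) (by omega)
                  · skip
                    exact allRangeF_sound _ _ (checkPointF_eq cert) 303100 25 chkP_303100 i (by omega) (by omega)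
  · skip
    rcases Nat.lt_or_ge i 305025 with h2 | h2
    · skip
      rcases Nat.lt_or_ge i 304075 with h3 | h3
      · skip
        rcases Nat.lt_or_ge i 303600 with h4 | h4
        · skip
          rcases Nat.lt_or_ge i 303350 with h5 | h5
          · skip
            rcases Nat.lt_or_ge i 303225 with h6 | h6
            · skip
              rcases Nat.lt_or_ge i 303175 with h7 | h7
              · skip
                rcases Nat.lt_or_ge i 303150 with h8 | h8
                · skip
                  exact allRangeF_sound _ _ (checkPointF_eq cert) 303125 25 chkP_303125 i (by omega) (by omega)
                · skip
                  exact allRangeF_sound _ _ (checkPointF_eq cert) 303150 25 chkP_303150 i (by omega) (by omega)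
              · skip
                rcases Nat.lt_or_ge i 303200 with h8 | h8
                · skip
                  exact allRangeF_sound _ _ (checkPointF_eq cert) 303175 25 chkP_303175 i (by omega) (by omega)
                · skip
                  exact allRangeF_sound _ _ (checkPointF_eq cert) 303200 25 chkP_303200 i (by omega) (by omega)
            · skip
              rcases Nat.lt_or_ge i 303275 with h7 | h7
              · skip
                rcases Nat.lt_or_ge i 303250 with h8 | h8
                · skip
                  exact allRangeF_sound _ _ (checkPointF_eq cert) 303225 25 chkP_303225 i (by omega) (by omega)
                · skip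
                  exact allRangeF_sound _ _ (checkPointF_eq cert) 303250 25 chkP_303250 i (by omega) (by omega)
              · skip
                rcases Nat.lt_or_ge i 303300 with h8 | h8
                · skip
                  exact allRangeF_sound _ _ (checkPointF_eq cert) 303275 25 chkP_303275 i (by omega) (by omega)
                · skip
                  rcases Nat.lt_or_ge i 303325 with h9 | h9
                  · skip
                    exact allRangeF_sound _ _ (checkPointF_eq cert) 303300 25 chkP_303300 i (by omega) (by omega)
                  · skip
                    exact allRangeF_sound _ _ (checkPointF_eq cert) 303325 25 chkP_303325 i (by omega) (by omega)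
          · skip
            rcases Nat.lt_or_ge i 303475 with h6 | h6
            · skip
              rcases Nat.lt_or_ge i 303400 with h7 | h7
              · skip
                rcases Nat.lt_or_ge i 303375 with h8 | h8
                · skip
                  exact allRangeF_sound _ _ (checkPointF_eq cert) 303350 25 chkP_303350 i (by omega) (by omega)
                · skip
                  exact allRangeF_sound _ _ (checkPointF_eq cert) 303375 25 chkP_303375 i (by omega) (by omega)
              · skip
                rcases Nat.lt_or_ge i 303425 with h8 | h8
                · skip
                  exact allRangeF_sound _ _ (checkPointF_eq cert) 303400 25 chkP_303400 i (by omega) (by omega)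
                · skip
                  rcases Nat.lt_or_ge i 303450 with h9 | h9
                  · skip
                    exact allRangeF_sound _ _ (checkPointF_eq cert) 303425 25 chkP_303425 i (by omega) (by omega)
                  · skip
                    exact allRangeF_sound _ _ (checkPointF_eq cert) 303450 25 chkP_303450 i (by omega) (by omega)
            · skip
              rcases Nat.lt_or_ge i 303525 with h7 | h7
              · skip
                rcases Nat.lt_or_ge i 303500 with h8 | h8
                · skip
                  exact allRangeF_sound _ _ (checkPointF_eq cert) 303475 25 chkP_303475 i (by omega) (by omega)
                · skip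
                  exact allRangeF_sound _ _ (checkPointF_eq cert) 303500 25 chkP_303500 i (by omega) (by omega)
              · skip
                rcases Nat.lt_or_ge i 303550 with h8 | h8
                · skip
                  exact allRangeF_sound _ _ (checkPointF_eq cert) 303525 25 chkP_303525 i (by omega) (by omega)
                · skip
                  rcases Nat.lt_or_ge i 303575 with h9 | h9
                  · skip
                    exact allRangeF_sound _ _ (checkPointF_eq cert) 303550 25 chkP_303550 i (by omega) (by omega)
                  · skip
                    exact allRangeF_sound _ _ (checkPointF_eq cert) 303575 25 chkP_303575 i (by omega) (by omega)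
        · skip
          rcases Nat.lt_or_ge i 303825 with h5 | h5
          · skip
            rcases Nat.lt_or_ge i 303700 with h6 | h6
            · skip
              rcases Nat.lt_or_ge i 303650 with h7 | h7
              · skip
                rcases Nat.lt_or_ge i 303625 with h8 | h8
                · skip
                  exact allRangeF_sound _ _ (checkPointF_eq cert) 303600 25 chkP_303600 i (by omega) (by omega)
                · skip
                  exact allRangeF_sound _ _ (checkPointF_eq cert) 303625 25 chkP_303625 i (by omega) (by omega)
              · skip
                rcases Nat.lt_or_ge i 303675 with h8 | h8
                · skip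
                  exact allRangeF_sound _ _ (checkPointF_eq cert) 303650 25 chkP_303650 i (by omega) (by omega)
                · skip
                  exact allRangeF_sound _ _ (checkPointF_eq cert) 303675 25 chkP_303675 i (by omega) (by omega)
            · skip
              rcases Nat.lt_or_ge i 303750 with h7 | h7
              · skip
                rcases Nat.lt_or_ge i 303725 with h8 | h8
                · skip
                  exact allRangeF_sound _ _ (checkPointF_eq cert) 303700 25 chkP_303700 i (by omega) (by omega)
                · skip
                  exact allRangeF_sound _ _ (checkPointF_eq cert) 303725 25 chkP_303725 i (by omega) (by omega)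
              · skip
                rcases Nat.lt_or_ge i 303775 with h8 | h8
                · skip
                  exact allRangeF_sound _ _ (checkPointF_eq cert) 303750 25 chkP_303750 i (by omega) (by omega)
                · skip
                  rcases Nat.lt_or_ge i 303800 with h9 | h9
                  · skip
                    exact allRangeF_sound _ _ (checkPointF_eq cert) 303775 25 chkP_303775 i (by omega) (by omega)
                  · skip
                    exact allRangeF_sound _ _ (checkPointF_eq cert) 303800 25 chkP_303800 i (by omega) (by omega)
          · skip
            rcases Nat.lt_or_ge i 303950 with h6 | h6
            · skip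
              rcases Nat.lt_or_ge i 303875 with h7 | h7
              · skip
                rcases Nat.lt_or_ge i 303850 with h8 | h8
                · skip
                  exact allRangeF_sound _ _ (checkPointF_eq cert) 303825 25 chkP_303825 i (by omega) (by omega)
                · skip
                  exact allRangeF_sound _ _ (checkPointF_eq cert) 303850 25 chkP_303850 i (by omega) (by omega)
              · skip
                rcases Nat.lt_or_ge i 303900 with h8 | h8
                · skip
                  exact allRangeF_sound _ _ (checkPointF_eq cert) 303875 25 chkP_303875 i (by omega) (by omega)
                · skip
                  rcases Nat.lt_or_ge i 303925 with h9 | h9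
                  · skip
                    exact allRangeF_sound _ _ (checkPointF_eq cert) 303900 25 chkP_303900 i (by omega) (by omega)
                  · skip
                    exact allRangeF_sound _ _ (checkPointF_eq cert) 303925 25 chkP_303925 i (by omega) (by omega)
            · skip
              rcases Nat.lt_or_ge i 304000 with h7 | h7
              · skip
                rcases Nat.lt_or_ge i 303975 with h8 | h8
                · skip
                  exact allRangeF_sound _ _ (checkPointF_eq cert) 303950 25 chkP_303950 i (by omega) (by omega)
                · skip
                  exact allRangeF_sound _ _ (checkPointF_eq cert) 303975 25 chkP_303975 i (by omega) (by omega)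
              · skip
                rcases Nat.lt_or_ge i 304025 with h8 | h8
                · skip
                  exact allRangeF_sound _ _ (checkPointF_eq cert) 304000 25 chkP_304000 i (by omega) (by omega)
                · skip
                  rcases Nat.lt_or_ge i 304050 with h9 | h9
                  · skip
                    exact allRangeF_sound _ _ (checkPointF_eq cert) 304025 25 chkP_304025 i (by omega) (by omega)
                  · skip
                    exact allRangeF_sound _ _ (checkPointF_eq cert) 304050 25 chkP_304050 i (by omega) (by omega)
      · skip
        rcases Nat.lt_or_ge i 304550 with h4 | h4
        · skip
          rcases Nat.lt_or_ge i 304300 with h5 | h5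
          · skip
            rcases Nat.lt_or_ge i 304175 with h6 | h6
            · skip
              rcases Nat.lt_or_ge i 304125 with h7 | h7
              · skip
                rcases Nat.lt_or_ge i 304100 with h8 | h8
                · skip
                  exact allRangeF_sound _ _ (checkPointF_eq cert) 304075 25 chkP_304075 i (by omega) (by omega)
                · skip
                  exact allRangeF_sound _ _ (checkPointF_eq cert) 304100 25 chkP_304100 i (by omega) (by omega)
              · skip
                rcases Nat.lt_or_ge i 304150 with h8 | h8
                · skip
                  exact allRangeF_sound _ _ (checkPointF_eq cert) 304125 25 chkP_304125 i (by omega) (by omega)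
                · skip
                  exact allRangeF_sound _ _ (checkPointF_eq cert) 304150 25 chkP_304150 i (by omega) (by omega)
            · skip
              rcases Nat.lt_or_ge i 304225 with h7 | h7
              · skip
                rcases Nat.lt_or_ge i 304200 with h8 | h8
                · skip
                  exact allRangeF_sound _ _ (checkPointF_eq cert) 304175 25 chkP_304175 i (by omega) (by omega)
                · skip
                  exact allRangeF_sound _ _ (checkPointF_eq cert) 304200 25 chkP_304200 i (by omega) (by omega)
              · skip
                rcases Nat.lt_or_ge i 304250 with h8 | h8
                · skip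
                  exact allRangeF_sound _ _ (checkPointF_eq cert) 304225 25 chkP_304225 i (by omega) (by omega)
                · skip
                  rcases Nat.lt_or_ge i 304275 with h9 | h9
                  · skip
                    exact allRangeF_sound _ _ (checkPointF_eq cert) 304250 25 chkP_304250 i (by omega) (by omega)
                  · skip
                    exact allRangeF_sound _ _ (checkPointF_eq cert) 304275 25 chkP_304275 i (by omega) (by omega)
          · skip
            rcases Nat.lt_or_ge i 304425 with h6 | h6
            · skip
              rcases Nat.lt_or_ge i 304350 with h7 | h7
              · skip
                rcases Nat.lt_or_ge i 304325 with h8 | h8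
                · skip
                  exact allRangeF_sound _ _ (checkPointF_eq cert) 304300 25 chkP_304300 i (by omega) (by omega)
                · skip
                  exact allRangeF_sound _ _ (checkPointF_eq cert) 304325 25 chkP_304325 i (by omega) (by omega)
              · skip
                rcases Nat.lt_or_ge i 304375 with h8 | h8
                · skip
                  exact allRangeF_sound _ _ (checkPointF_eq cert) 304350 25 chkP_304350 i (by omega) (by omega)
                · skip
                  rcases Nat.lt_or_ge i 304400 with h9 | h9
                  · skip
                    exact allRangeF_sound _ _ (checkPointF_eq cert) 304375 25 chkP_304375 i (by omega) (by omega)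
                  · skip
                    exact allRangeF_sound _ _ (checkPointF_eq cert) 304400 25 chkP_304400 i (by omega) (by omega)
            · skip
              rcases Nat.lt_or_ge i 304475 with h7 | h7
              · skip
                rcases Nat.lt_or_ge i 304450 with h8 | h8
                · skip
                  exact allRangeF_sound _ _ (checkPointF_eq cert) 304425 25 chkP_304425 i (by omega) (by omega)
                · skip
                  exact allRangeF_sound _ _ (checkPointF_eq cert) 304450 25 chkP_304450 i (by omega) (by omega)
              · skip
                rcases Nat.lt_or_ge i 304500 with h8 | h8
                · skip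
                  exact allRangeF_sound _ _ (checkPointF_eq cert) 304475 25 chkP_304475 i (by omega) (by omega)
                · skip
                  rcases Nat.lt_or_ge i 304525 with h9 | h9
                  · skip
                    exact allRangeF_sound _ _ (checkPointF_eq cert) 304500 25 chkP_304500 i (by omega) (by omega)
                  · skip
                    exact allRangeF_sound _ _ (checkPointF_eq cert) 304525 25 chkP_304525 i (by omega) (by omega)
        · skip
          rcases Nat.lt_or_ge i 304775 with h5 | h5
          · skip
            rcases Nat.lt_or_ge i 304650 with h6 | h6
            · skip
              rcases Nat.lt_or_ge i 304600 with h7 | h7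
              · skip
                rcases Nat.lt_or_ge i 304575 with h8 | h8
                · skip
                  exact allRangeF_sound _ _ (checkPointF_eq cert) 304550 25 chkP_304550 i (by omega) (by omega)
                · skip
                  exact allRangeF_sound _ _ (checkPointF_eq cert) 304575 25 chkP_304575 i (by omega) (by omega)
              · skip
                rcases Nat.lt_or_ge i 304625 with h8 | h8
                · skip
                  exact allRangeF_sound _ _ (checkPointF_eq cert) 304600 25 chkP_304600 i (by omega) (by omega)
                · skip
                  exact allRangeF_sound _ _ (checkPointF_eq cert) 304625 25 chkP_304625 i (by omega) (by omega)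
            · skip
              rcases Nat.lt_or_ge i 304700 with h7 | h7
              · skip
                rcases Nat.lt_or_ge i 304675 with h8 | h8
                · skip
                  exact allRangeF_sound _ _ (checkPointF_eq cert) 304650 25 chkP_304650 i (by omega) (by omega)
                · skip
                  exact allRangeF_sound _ _ (checkPointF_eq cert) 304675 25 chkP_304675 i (by omega) (by omega)
              · skip
                rcases Nat.lt_or_ge i 304725 with h8 | h8
                · skip
                  exact allRangeF_sound _ _ (checkPointF_eq cert) 304700 25 chkP_304700 i (by omega) (by omega)
                · skip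
                  rcases Nat.lt_or_ge i 304750 with h9 | h9
                  · skip
                    exact allRangeF_sound _ _ (checkPointF_eq cert) 304725 25 chkP_304725 i (by omega) (by omega)
                  · skip
                    exact allRangeF_sound _ _ (checkPointF_eq cert) 304750 25 chkP_304750 i (by omega) (by omega)
          · skip
            rcases Nat.lt_or_ge i 304900 with h6 | h6
            · skip
              rcases Nat.lt_or_ge i 304825 with h7 | h7
              · skip
                rcases Nat.lt_or_ge i 304800 with h8 | h8
                · skip
                  exact allRangeF_sound _ _ (checkPointF_eq cert) 304775 25 chkP_304775 i (by omega) (by omega)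
                · skip
                  exact allRangeF_sound _ _ (checkPointF_eq cert) 304800 25 chkP_304800 i (by omega) (by omega)
              · skip
                rcases Nat.lt_or_ge i 304850 with h8 | h8
                · skip
                  exact allRangeF_sound _ _ (checkPointF_eq cert) 304825 25 chkP_304825 i (by omega) (by omega)
                · skip
                  rcases Nat.lt_or_ge i 304875 with h9 | h9
                  · skip
                    exact allRangeF_sound _ _ (checkPointF_eq cert) 304850 25 chkP_304850 i (by omega) (by omega)
                  · skip
                    exact allRangeF_sound _ _ (checkPointF_eq cert) 304875 25 chkP_304875 i (by omega) (by omega)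
            · skip
              rcases Nat.lt_or_ge i 304950 with h7 | h7
              · skip
                rcases Nat.lt_or_ge i 304925 with h8 | h8
                · skip
                  exact allRangeF_sound _ _ (checkPointF_eq cert) 304900 25 chkP_304900 i (by omega) (by omega)
                · skip
                  exact allRangeF_sound _ _ (checkPointF_eq cert) 304925 25 chkP_304925 i (by omega) (by omega)
              · skip
                rcases Nat.lt_or_ge i 304975 with h8 | h8
                · skip
                  exact allRangeF_sound _ _ (checkPointF_eq cert) 304950 25 chkP_304950 i (by omega) (by omega)
                · skip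
                  rcases Nat.lt_or_ge i 305000 with h9 | h9
                  · skip
                    exact allRangeF_sound _ _ (checkPointF_eq cert) 304975 25 chkP_304975 i (by omega) (by omega)
                  · skip
                    exact allRangeF_sound _ _ (checkPointF_eq cert) 305000 25 chkP_305000 i (by omega) (by omega)
    · skip
      rcases Nat.lt_or_ge i 305975 with h3 | h3
      · skip
        rcases Nat.lt_or_ge i 305500 with h4 | h4
        · skip
          rcases Nat.lt_or_ge i 305250 with h5 | h5
          · skip
            rcases Nat.lt_or_ge i 305125 with h6 | h6
            · skip
              rcases Nat.lt_or_ge i 305075 with h7 | h7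
              · skip
                rcases Nat.lt_or_ge i 305050 with h8 | h8
                · skip
                  exact allRangeF_sound _ _ (checkPointF_eq cert) 305025 25 chkP_305025 i (by omega) (by omega)
                · skip
                  exact allRangeF_sound _ _ (checkPointF_eq cert) 305050 25 chkP_305050 i (by omega) (by omega)
              · skip
                rcases Nat.lt_or_ge i 305100 with h8 | h8
                · skip
                  exact allRangeF_sound _ _ (checkPointF_eq cert) 305075 25 chkP_305075 i (by omega) (by omega)
                · skip
                  exact allRangeF_sound _ _ (checkPointF_eq cert) 305100 25 chkP_305100 i (by omega) (by omega)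
            · skip
              rcases Nat.lt_or_ge i 305175 with h7 | h7
              · skip
                rcases Nat.lt_or_ge i 305150 with h8 | h8
                · skip
                  exact allRangeF_sound _ _ (checkPointF_eq cert) 305125 25 chkP_305125 i (by omega) (by omega)
                · skip
                  exact allRangeF_sound _ _ (checkPointF_eq cert) 305150 25 chkP_305150 i (by omega) (by omega)
              · skip
                rcases Nat.lt_or_ge i 305200 with h8 | h8
                · skip
                  exact allRangeF_sound _ _ (checkPointF_eq cert) 305175 25 chkP_305175 i (by omega) (by omega)
                · skip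
                  rcases Nat.lt_or_ge i 305225 with h9 | h9
                  · skip
                    exact allRangeF_sound _ _ (checkPointF_eq cert) 305200 25 chkP_305200 i (by omega) (by omega)
                  · skip
                    exact allRangeF_sound _ _ (checkPointF_eq cert) 305225 25 chkP_305225 i (by omega) (by omega)
          · skip
            rcases Nat.lt_or_ge i 305375 with h6 | h6
            · skip
              rcases Nat.lt_or_ge i 305300 with h7 | h7
              · skip
                rcases Nat.lt_or_ge i 305275 with h8 | h8
                · skip
                  exact allRangeF_sound _ _ (checkPointF_eq cert) 305250 25 chkP_305250 i (by omega) (by omega)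
                · skip
                  exact allRangeF_sound _ _ (checkPointF_eq cert) 305275 25 chkP_305275 i (by omega) (by omega)
              · skip
                rcases Nat.lt_or_ge i 305325 with h8 | h8
                · skip
                  exact allRangeF_sound _ _ (checkPointF_eq cert) 305300 25 chkP_305300 i (by omega) (by omega)
                · skip
                  rcases Nat.lt_or_ge i 305350 with h9 | h9
                  · skip
                    exact allRangeF_sound _ _ (checkPointF_eq cert) 305325 25 chkP_305325 i (by omega) (by omega)
                  · skip
                    exact allRangeF_sound _ _ (checkPointF_eq cert) 305350 25 chkP_305350 i (by omega) (by omega)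
            · skip
              rcases Nat.lt_or_ge i 305425 with h7 | h7
              · skip
                rcases Nat.lt_or_ge i 305400 with h8 | h8
                · skip
                  exact allRangeF_sound _ _ (checkPointF_eq cert) 305375 25 chkP_305375 i (by omega) (by omega)
                · skip
                  exact allRangeF_sound _ _ (checkPointF_eq cert) 305400 25 chkP_305400 i (by omega) (by omega)
              · skip
                rcases Nat.lt_or_ge i 305450 with h8 | h8
                · skip
                  exact allRangeF_sound _ _ (checkPointF_eq cert) 305425 25 chkP_305425 i (by omega) (by omega)
                · skip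
                  rcases Nat.lt_or_ge i 305475 with h9 | h9
                  · skip
                    exact allRangeF_sound _ _ (checkPointF_eq cert) 305450 25 chkP_305450 i (by omega) (by omega)
                  · skip
                    exact allRangeF_sound _ _ (checkPointF_eq cert) 305475 25 chkP_305475 i (by omega) (by omega)
        · skip
          rcases Nat.lt_or_ge i 305725 with h5 | h5
          · skip
            rcases Nat.lt_or_ge i 305600 with h6 | h6
            · skip
              rcases Nat.lt_or_ge i 305550 with h7 | h7
              · skip
                rcases Nat.lt_or_ge i 305525 with h8 | h8
                · skip
                  exact allRangeF_sound _ _ (checkPointF_eq cert) 305500 25 chkP_305500 i (by omega) (by omega)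
                · skip
                  exact allRangeF_sound _ _ (checkPointF_eq cert) 305525 25 chkP_305525 i (by omega) (by omega)
              · skip
                rcases Nat.lt_or_ge i 305575 with h8 | h8
                · skip
                  exact allRangeF_sound _ _ (checkPointF_eq cert) 305550 25 chkP_305550 i (by omega) (by omega)
                · skip
                  exact allRangeF_sound _ _ (checkPointF_eq cert) 305575 25 chkP_305575 i (by omega) (by omega)
            · skip
              rcases Nat.lt_or_ge i 305650 with h7 | h7
              · skip
                rcases Nat.lt_or_ge i 305625 with h8 | h8
                · skip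
                  exact allRangeF_sound _ _ (checkPointF_eq cert) 305600 25 chkP_305600 i (by omega) (by omega)
                · skip
                  exact allRangeF_sound _ _ (checkPointF_eq cert) 305625 25 chkP_305625 i (by omega) (by omega)
              · skip
                rcases Nat.lt_or_ge i 305675 with h8 | h8
                · skip
                  exact allRangeF_sound _ _ (checkPointF_eq cert) 305650 25 chkP_305650 i (by omega) (by omega)
                · skip
                  rcases Nat.lt_or_ge i 305700 with h9 | h9
                  · skip
                    exact allRangeF_sound _ _ (checkPointF_eq cert) 305675 25 chkP_305675 i (by omega) (by omega)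
                  · skip
                    exact allRangeF_sound _ _ (checkPointF_eq cert) 305700 25 chkP_305700 i (by omega) (by omega)
          · skip
            rcases Nat.lt_or_ge i 305850 with h6 | h6
            · skip
              rcases Nat.lt_or_ge i 305775 with h7 | h7
              · skip
                rcases Nat.lt_or_ge i 305750 with h8 | h8
                · skip
                  exact allRangeF_sound _ _ (checkPointF_eq cert) 305725 25 chkP_305725 i (by omega) (by omega)
                · skip
                  exact allRangeF_sound _ _ (checkPointF_eq cert) 305750 25 chkP_305750 i (by omega) (by omega)
              · skip
                rcases Nat.lt_or_ge i 305800 with h8 | h8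
                · skip
                  exact allRangeF_sound _ _ (checkPointF_eq cert) 305775 25 chkP_305775 i (by omega) (by omega)
                · skip
                  rcases Nat.lt_or_ge i 305825 with h9 | h9
                  · skip
                    exact allRangeF_sound _ _ (checkPointF_eq cert) 305800 25 chkP_305800 i (by omega) (by omega)
                  · skip
                    exact allRangeF_sound _ _ (checkPointF_eq cert) 305825 25 chkP_305825 i (by omega) (by omega)
            · skip
              rcases Nat.lt_or_ge i 305900 with h7 | h7
              · skip
                rcases Nat.lt_or_ge i 305875 with h8 | h8
                · skip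
                  exact allRangeF_sound _ _ (checkPointF_eq cert) 305850 25 chkP_305850 i (by omega) (by omega)
                · skip
                  exact allRangeF_sound _ _ (checkPointF_eq cert) 305875 25 chkP_305875 i (by omega) (by omega)
              · skip
                rcases Nat.lt_or_ge i 305925 with h8 | h8
                · skip
                  exact allRangeF_sound _ _ (checkPointF_eq cert) 305900 25 chkP_305900 i (by omega) (by omega)
                · skip
                  rcases Nat.lt_or_ge i 305950 with h9 | h9
                  · skip
                    exact allRangeF_sound _ _ (checkPointF_eq cert) 305925 25 chkP_305925 i (by omega) (by omega)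
                  · skip
                    exact allRangeF_sound _ _ (checkPointF_eq cert) 305950 25 chkP_305950 i (by omega) (by omega)
      · skip
        rcases Nat.lt_or_ge i 306450 with h4 | h4
        · skip
          rcases Nat.lt_or_ge i 306200 with h5 | h5
          · skip
            rcases Nat.lt_or_ge i 306075 with h6 | h6
            · skip
              rcases Nat.lt_or_ge i 306025 with h7 | h7
              · skip
                rcases Nat.lt_or_ge i 306000 with h8 | h8
                · skip
                  exact allRangeF_sound _ _ (checkPointF_eq cert) 305975 25 chkP_305975 i (by omega) (by omega)
                · skip
                  exact allRangeF_sound _ _ (checkPointF_eq cert) 306000 25 chkP_306000 i (by omega) (by omega)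
              · skip
                rcases Nat.lt_or_ge i 306050 with h8 | h8
                · skip
                  exact allRangeF_sound _ _ (checkPointF_eq cert) 306025 25 chkP_306025 i (by omega) (by omega)
                · skip
                  exact allRangeF_sound _ _ (checkPointF_eq cert) 306050 25 chkP_306050 i (by omega) (by omega)
            · skip
              rcases Nat.lt_or_ge i 306125 with h7 | h7
              · skip
                rcases Nat.lt_or_ge i 306100 with h8 | h8
                · skip
                  exact allRangeF_sound _ _ (checkPointF_eq cert) 306075 25 chkP_306075 i (by omega) (by omega)
                · skip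
                  exact allRangeF_sound _ _ (checkPointF_eq cert) 306100 25 chkP_306100 i (by omega) (by omega)
              · skip
                rcases Nat.lt_or_ge i 306150 with h8 | h8
                · skip
                  exact allRangeF_sound _ _ (checkPointF_eq cert) 306125 25 chkP_306125 i (by omega) (by omega)
                · skip
                  rcases Nat.lt_or_ge i 306175 with h9 | h9
                  · skip
                    exact allRangeF_sound _ _ (checkPointF_eq cert) 306150 25 chkP_306150 i (by omega) (by omega)
                  · skip
                    exact allRangeF_sound _ _ (checkPointF_eq cert) 306175 25 chkP_306175 i (by omega) (by omega)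
          · skip
            rcases Nat.lt_or_ge i 306325 with h6 | h6
            · skip
              rcases Nat.lt_or_ge i 306250 with h7 | h7
              · skip
                rcases Nat.lt_or_ge i 306225 with h8 | h8
                · skip
                  exact allRangeF_sound _ _ (checkPointF_eq cert) 306200 25 chkP_306200 i (by omega) (by omega)
                · skip
                  exact allRangeF_sound _ _ (checkPointF_eq cert) 306225 25 chkP_306225 i (by omega) (by omega)
              · skip
                rcases Nat.lt_or_ge i 306275 with h8 | h8
                · skip
                  exact allRangeF_sound _ _ (checkPointF_eq cert) 306250 25 chkP_306250 i (by omega) (by omega)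
                · skip
                  rcases Nat.lt_or_ge i 306300 with h9 | h9
                  · skip
                    exact allRangeF_sound _ _ (checkPointF_eq cert) 306275 25 chkP_306275 i (by omega) (by omega)
                  · skip
                    exact allRangeF_sound _ _ (checkPointF_eq cert) 306300 25 chkP_306300 i (by omega) (by omega)
            · skip
              rcases Nat.lt_or_ge i 306375 with h7 | h7
              · skip
                rcases Nat.lt_or_ge i 306350 with h8 | h8
                · skip
                  exact allRangeF_sound _ _ (checkPointF_eq cert) 306325 25 chkP_306325 i (by omega) (by omega)
                · skip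
                  exact allRangeF_sound _ _ (checkPointF_eq cert) 306350 25 chkP_306350 i (by omega) (by omega)
              · skip
                rcases Nat.lt_or_ge i 306400 with h8 | h8
                · skip
                  exact allRangeF_sound _ _ (checkPointF_eq cert) 306375 25 chkP_306375 i (by omega) (by omega)
                · skip
                  rcases Nat.lt_or_ge i 306425 with h9 | h9
                  · skip
                    exact allRangeF_sound _ _ (checkPointF_eq cert) 306400 25 chkP_306400 i (by omega) (by omega)
                  · skip
                    exact allRangeF_sound _ _ (checkPointF_eq cert) 306425 25 chkP_306425 i (by omega) (by omega)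
        · skip
          rcases Nat.lt_or_ge i 306700 with h5 | h5
          · skip
            rcases Nat.lt_or_ge i 306575 with h6 | h6
            · skip
              rcases Nat.lt_or_ge i 306500 with h7 | h7
              · skip
                rcases Nat.lt_or_ge i 306475 with h8 | h8
                · skip
                  exact allRangeF_sound _ _ (checkPointF_eq cert) 306450 25 chkP_306450 i (by omega) (by omega)
                · skip
                  exact allRangeF_sound _ _ (checkPointF_eq cert) 306475 25 chkP_306475 i (by omega) (by omega)
              · skip
                rcases Nat.lt_or_ge i 306525 with h8 | h8
                · skip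
                  exact allRangeF_sound _ _ (checkPointF_eq cert) 306500 25 chkP_306500 i (by omega) (by omega)
                · skip
                  rcases Nat.lt_or_ge i 306550 with h9 | h9
                  · skip
                    exact allRangeF_sound _ _ (checkPointF_eq cert) 306525 25 chkP_306525 i (by omega) (by omega)
                  · skip
                    exact allRangeF_sound _ _ (checkPointF_eq cert) 306550 25 chkP_306550 i (by omega) (by omega)
            · skip
              rcases Nat.lt_or_ge i 306625 with h7 | h7
              · skip
                rcases Nat.lt_or_ge i 306600 with h8 | h8
                · skip
                  exact allRangeF_sound _ _ (checkPointF_eq cert) 306575 25 chkP_306575 i (by omega) (by omega)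
                · skip
                  exact allRangeF_sound _ _ (checkPointF_eq cert) 306600 25 chkP_306600 i (by omega) (by omega)
              · skip
                rcases Nat.lt_or_ge i 306650 with h8 | h8
                · skip
                  exact allRangeF_sound _ _ (checkPointF_eq cert) 306625 25 chkP_306625 i (by omega) (by omega)
                · skip
                  rcases Nat.lt_or_ge i 306675 with h9 | h9
                  · skip
                    exact allRangeF_sound _ _ (checkPointF_eq cert) 306650 25 chkP_306650 i (by omega) (by omega)
                  · skip
                    exact allRangeF_sound _ _ (checkPointF_eq cert) 306675 25 chkP_306675 i (by omega) (by omega)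
          · skip
            rcases Nat.lt_or_ge i 306825 with h6 | h6
            · skip
              rcases Nat.lt_or_ge i 306750 with h7 | h7
              · skip
                rcases Nat.lt_or_ge i 306725 with h8 | h8
                · skip
                  exact allRangeF_sound _ _ (checkPointF_eq cert) 306700 25 chkP_306700 i (by omega) (by omega)
                · skip
                  exact allRangeF_sound _ _ (checkPointF_eq cert) 306725 25 chkP_306725 i (by omega) (by omega)
              · skip
                rcases Nat.lt_or_ge i 306775 with h8 | h8
                · skip
                  exact allRangeF_sound _ _ (checkPointF_eq cert) 306750 25 chkP_306750 i (by omega) (by omega)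
                · skip
                  rcases Nat.lt_or_ge i 306800 with h9 | h9
                  · skip
                    exact allRangeF_sound _ _ (checkPointF_eq cert) 306775 25 chkP_306775 i (by omega) (by omega)
                  · skip
                    exact allRangeF_sound _ _ (checkPointF_eq cert) 306800 25 chkP_306800 i (by omega) (by omega)
            · skip
              rcases Nat.lt_or_ge i 306875 with h7 | h7
              · skip
                rcases Nat.lt_or_ge i 306850 with h8 | h8
                · skip
                  exact allRangeF_sound _ _ (checkPointF_eq cert) 306825 25 chkP_306825 i (by omega) (by omega)
                · skip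
                  exact allRangeF_sound _ _ (checkPointF_eq cert) 306850 25 chkP_306850 i (by omega) (by omega)
              · skip
                rcases Nat.lt_or_ge i 306900 with h8 | h8
                · skip
                  exact allRangeF_sound _ _ (checkPointF_eq cert) 306875 25 chkP_306875 i (by omega) (by omega)
                · skip
                  rcases Nat.lt_or_ge i 306925 with h9 | h9
                  · skip
                    exact allRangeF_sound _ _ (checkPointF_eq cert) 306900 25 chkP_306900 i (by omega) (by omega)
                  · skip
                    exact allRangeF_sound _ _ (checkPointF_eq cert) 306925 11 chkP_306925 i (by omega) (by omega)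

end Cfsg.Agent.Lib.Helper28.Fi24Data
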