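import Cfsg.Agent.Lib.Helper28.Fi24Data
import Cfsg.Agent.Lib.Helper28.TCFastB

set_option autoImplicit false
set_option maxRecDepth 1000000
set_option linter.all false
set_option Elab.async false

namespace Cfsg.Agent.Lib.Helper28.Fi24Data

open Cfsg.Agent.Lib.Helper28B

theorem chkP_30700 : allRangeF (checkPointF cert) (nat_lit 30700) (nat_lit 25) = true := by decide +kernel
theorem chkP_30725 : allRangeF (checkPointF cert) (nat_lit 30725) (nat_lit 25) = true := by decide +kernel
theorem chkP_30750 : allRangeF (checkPointF cert) (nat_lit 30750) (nat_lit 25) = true := by decide +kernel
theorem chkP_30775 : allRangeF (checkPointF cert) (nat_lit 30775) (nat_lit 25) = true := by decide +kernel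
theorem chkP_30800 : allRangeF (checkPointF cert) (nat_lit 30800) (nat_lit 25) = true := by decide +kernel
theorem chkP_30825 : allRangeF (checkPointF cert) (nat_lit 30825) (nat_lit 25) = true := by decide +kernel
theorem chkP_30850 : allRangeF (checkPointF cert) (nat_lit 30850) (nat_lit 25) = true := by decide +kernel
theorem chkP_30875 : allRangeF (checkPointF cert) (nat_lit 30875) (nat_lit 25) = true := by decide +kernel
theorem chkP_30900 : allRangeF (checkPointF cert) (nat_lit 30900) (nat_lit 25) = true := by decide +kernel
theorem chkP_30925 : allRangeF (checkPointF cert) (nat_lit 30925) (nat_lit 25) = true := by decide +kernel
theorem chkP_30950 : allRangeF (checkPointF cert) (nat_lit 30950) (nat_lit 25) = true := by decide +kernel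
theorem chkP_30975 : allRangeF (checkPointF cert) (nat_lit 30975) (nat_lit 25) = true := by decide +kernel
theorem chkP_31000 : allRangeF (checkPointF cert) (nat_lit 31000) (nat_lit 25) = true := by decide +kernel
theorem chkP_31025 : allRangeF (checkPointF cert) (nat_lit 31025) (nat_lit 25) = true := by decide +kernel
theorem chkP_31050 : allRangeF (checkPointF cert) (nat_lit 31050) (nat_lit 25) = true := by decide +kernel
theorem chkP_31075 : allRangeF (checkPointF cert) (nat_lit 31075) (nat_lit 25) = true := by decide +kernel
theorem chkP_31100 : allRangeF (checkPointF cert) (nat_lit 31100) (nat_lit 25) = true := by decide +kernel
theorem chkP_31125 : allRangeF (checkPointF cert) (nat_lit 31125) (nat_lit 25) = true := by decide +kernel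
theorem chkP_31150 : allRangeF (checkPointF cert) (nat_lit 31150) (nat_lit 25) = true := by decide +kernel
theorem chkP_31175 : allRangeF (checkPointF cert) (nat_lit 31175) (nat_lit 25) = true := by decide +kernel
theorem chkP_31200 : allRangeF (checkPointF cert) (nat_lit 31200) (nat_lit 25) = true := by decide +kernel
theorem chkP_31225 : allRangeF (checkPointF cert) (nat_lit 31225) (nat_lit 25) = true := by decide +kernel
theorem chkP_31250 : allRangeF (checkPointF cert) (nat_lit 31250) (nat_lit 25) = true := by decide +kernel
theorem chkP_31275 : allRangeF (checkPointF cert) (nat_lit 31275) (nat_lit 25) = true := by decide +kernel
theorem chkP_31300 : allRangeF (checkPointF cert) (nat_lit 31300) (nat_lit 25) = true := by decide +kernel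
theorem chkP_31325 : allRangeF (checkPointF cert) (nat_lit 31325) (nat_lit 25) = true := by decide +kernel
theorem chkP_31350 : allRangeF (checkPointF cert) (nat_lit 31350) (nat_lit 25) = true := by decide +kernel
theorem chkP_31375 : allRangeF (checkPointF cert) (nat_lit 31375) (nat_lit 25) = true := by decide +kernel
theorem chkP_31400 : allRangeF (checkPointF cert) (nat_lit 31400) (nat_lit 25) = true := by decide +kernel
theorem chkP_31425 : allRangeF (checkPointF cert) (nat_lit 31425) (nat_lit 25) = true := by decide +kernel
theorem chkP_31450 : allRangeF (checkPointF cert) (nat_lit 31450) (nat_lit 25) = true := by decide +kernel
theorem chkP_31475 : allRangeF (checkPointF cert) (nat_lit 31475) (nat_lit 25) = true := by decide +kernel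
theorem chkP_31500 : allRangeF (checkPointF cert) (nat_lit 31500) (nat_lit 25) = true := by decide +kernel
theorem chkP_31525 : allRangeF (checkPointF cert) (nat_lit 31525) (nat_lit 25) = true := by decide +kernel
theorem chkP_31550 : allRangeF (checkPointF cert) (nat_lit 31550) (nat_lit 25) = true := by decide +kernel
theorem chkP_31575 : allRangeF (checkPointF cert) (nat_lit 31575) (nat_lit 25) = true := by decide +kernel
theorem chkP_31600 : allRangeF (checkPointF cert) (nat_lit 31600) (nat_lit 25) = true := by decide +kernel
theorem chkP_31625 : allRangeF (checkPointF cert) (nat_lit 31625) (nat_lit 25) = true := by decide +kernel
theorem chkP_31650 : allRangeF (checkPointF cert) (nat_lit 31650) (nat_lit 25) = true := by decide +kernel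
theorem chkP_31675 : allRangeF (checkPointF cert) (nat_lit 31675) (nat_lit 25) = true := by decide +kernel
theorem chkP_31700 : allRangeF (checkPointF cert) (nat_lit 31700) (nat_lit 25) = true := by decide +kernel
theorem chkP_31725 : allRangeF (checkPointF cert) (nat_lit 31725) (nat_lit 25) = true := by decide +kernel
theorem chkP_31750 : allRangeF (checkPointF cert) (nat_lit 31750) (nat_lit 25) = true := by decide +kernel
theorem chkP_31775 : allRangeF (checkPointF cert) (nat_lit 31775) (nat_lit 25) = true := by decide +kernel
theorem chkP_31800 : allRangeF (checkPointF cert) (nat_lit 31800) (nat_lit 25) = true := by decide +kernel
theorem chkP_31825 : allRangeF (checkPointF cert) (nat_lit 31825) (nat_lit 25) = true := by decide +kernel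
theorem chkP_31850 : allRangeF (checkPointF cert) (nat_lit 31850) (nat_lit 25) = true := by decide +kernel
theorem chkP_31875 : allRangeF (checkPointF cert) (nat_lit 31875) (nat_lit 25) = true := by decide +kernel
theorem chkP_31900 : allRangeF (checkPointF cert) (nat_lit 31900) (nat_lit 25) = true := by decide +kernel
theorem chkP_31925 : allRangeF (checkPointF cert) (nat_lit 31925) (nat_lit 25) = true := by decide +kernel
theorem chkP_31950 : allRangeF (checkPointF cert) (nat_lit 31950) (nat_lit 25) = true := by decide +kernel
theorem chkP_31975 : allRangeF (checkPointF cert) (nat_lit 31975) (nat_lit 25) = true := by decide +kernel
theorem chkP_32000 : allRangeF (checkPointF cert) (nat_lit 32000) (nat_lit 25) = true := by decide +kernel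
theorem chkP_32025 : allRangeF (checkPointF cert) (nat_lit 32025) (nat_lit 25) = true := by decide +kernel
theorem chkP_32050 : allRangeF (checkPointF cert) (nat_lit 32050) (nat_lit 25) = true := by decide +kernel
theorem chkP_32075 : allRangeF (checkPointF cert) (nat_lit 32075) (nat_lit 25) = true := by decide +kernel
theorem chkP_32100 : allRangeF (checkPointF cert) (nat_lit 32100) (nat_lit 25) = true := by decide +kernel
theorem chkP_32125 : allRangeF (checkPointF cert) (nat_lit 32125) (nat_lit 25) = true := by decide +kernel
theorem chkP_32150 : allRangeF (checkPointF cert) (nat_lit 32150) (nat_lit 25) = true := by decide +kernel
theorem chkP_32175 : allRangeF (checkPointF cert) (nat_lit 32175) (nat_lit 25) = true := by decide +kernel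
theorem chkP_32200 : allRangeF (checkPointF cert) (nat_lit 32200) (nat_lit 25) = true := by decide +kernel
theorem chkP_32225 : allRangeF (checkPointF cert) (nat_lit 32225) (nat_lit 25) = true := by decide +kernel
theorem chkP_32250 : allRangeF (checkPointF cert) (nat_lit 32250) (nat_lit 25) = true := by decide +kernel
theorem chkP_32275 : allRangeF (checkPointF cert) (nat_lit 32275) (nat_lit 25) = true := by decide +kernel
theorem chkP_32300 : allRangeF (checkPointF cert) (nat_lit 32300) (nat_lit 25) = true := by decide +kernel
theorem chkP_32325 : allRangeF (checkPointF cert) (nat_lit 32325) (nat_lit 25) = true := by decide +kernel
theorem chkP_32350 : allRangeF (checkPointF cert) (nat_lit 32350) (nat_lit 25) = true := by decide +kernel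
theorem chkP_32375 : allRangeF (checkPointF cert) (nat_lit 32375) (nat_lit 25) = true := by decide +kernel
theorem chkP_32400 : allRangeF (checkPointF cert) (nat_lit 32400) (nat_lit 25) = true := by decide +kernel
theorem chkP_32425 : allRangeF (checkPointF cert) (nat_lit 32425) (nat_lit 25) = true := by decide +kernel
theorem chkP_32450 : allRangeF (checkPointF cert) (nat_lit 32450) (nat_lit 25) = true := by decide +kernel
theorem chkP_32475 : allRangeF (checkPointF cert) (nat_lit 32475) (nat_lit 25) = true := by decide +kernel
theorem chkP_32500 : allRangeF (checkPointF cert) (nat_lit 32500) (nat_lit 25) = true := by decide +kernel
theorem chkP_32525 : allRangeF (checkPointF cert) (nat_lit 32525) (nat_lit 25) = true := by decide +kernel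
theorem chkP_32550 : allRangeF (checkPointF cert) (nat_lit 32550) (nat_lit 25) = true := by decide +kernel
theorem chkP_32575 : allRangeF (checkPointF cert) (nat_lit 32575) (nat_lit 25) = true := by decide +kernel
theorem chkP_32600 : allRangeF (checkPointF cert) (nat_lit 32600) (nat_lit 25) = true := by decide +kernel
theorem chkP_32625 : allRangeF (checkPointF cert) (nat_lit 32625) (nat_lit 25) = true := by decide +kernel
theorem chkP_32650 : allRangeF (checkPointF cert) (nat_lit 32650) (nat_lit 25) = true := by decide +kernel
theorem chkP_32675 : allRangeF (checkPointF cert) (nat_lit 32675) (nat_lit 25) = true := by decide +kernel
theorem chkP_32700 : allRangeF (checkPointF cert) (nat_lit 32700) (nat_lit 25) = true := by decide +kernel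
theorem chkP_32725 : allRangeF (checkPointF cert) (nat_lit 32725) (nat_lit 25) = true := by decide +kernel
theorem chkP_32750 : allRangeF (checkPointF cert) (nat_lit 32750) (nat_lit 25) = true := by decide +kernel
theorem chkP_32775 : allRangeF (checkPointF cert) (nat_lit 32775) (nat_lit 25) = true := by decide +kernel
theorem chkP_32800 : allRangeF (checkPointF cert) (nat_lit 32800) (nat_lit 25) = true := by decide +kernel
theorem chkP_32825 : allRangeF (checkPointF cert) (nat_lit 32825) (nat_lit 25) = true := by decide +kernel
theorem chkP_32850 : allRangeF (checkPointF cert) (nat_lit 32850) (nat_lit 25) = true := by decide +kernel
theorem chkP_32875 : allRangeF (checkPointF cert) (nat_lit 32875) (nat_lit 25) = true := by decide +kernel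
theorem chkP_32900 : allRangeF (checkPointF cert) (nat_lit 32900) (nat_lit 25) = true := by decide +kernel
theorem chkP_32925 : allRangeF (checkPointF cert) (nat_lit 32925) (nat_lit 25) = true := by decide +kernel
theorem chkP_32950 : allRangeF (checkPointF cert) (nat_lit 32950) (nat_lit 25) = true := by decide +kernel
theorem chkP_32975 : allRangeF (checkPointF cert) (nat_lit 32975) (nat_lit 25) = true := by decide +kernel
theorem chkP_33000 : allRangeF (checkPointF cert) (nat_lit 33000) (nat_lit 25) = true := by decide +kernel
theorem chkP_33025 : allRangeF (checkPointF cert) (nat_lit 33025) (nat_lit 25) = true := by decide +kernel
theorem chkP_33050 : allRangeF (checkPointF cert) (nat_lit 33050) (nat_lit 25) = true := by decide +kernel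
theorem chkP_33075 : allRangeF (checkPointF cert) (nat_lit 33075) (nat_lit 25) = true := by decide +kernel
theorem chkP_33100 : allRangeF (checkPointF cert) (nat_lit 33100) (nat_lit 25) = true := by decide +kernel
theorem chkP_33125 : allRangeF (checkPointF cert) (nat_lit 33125) (nat_lit 25) = true := by decide +kernel
theorem chkP_33150 : allRangeF (checkPointF cert) (nat_lit 33150) (nat_lit 25) = true := by decide +kernel
theorem chkP_33175 : allRangeF (checkPointF cert) (nat_lit 33175) (nat_lit 25) = true := by decide +kernel
theorem chkP_33200 : allRangeF (checkPointF cert) (nat_lit 33200) (nat_lit 25) = true := by decide +kernel
theorem chkP_33225 : allRangeF (checkPointF cert) (nat_lit 33225) (nat_lit 25) = true := by decide +kernel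
theorem chkP_33250 : allRangeF (checkPointF cert) (nat_lit 33250) (nat_lit 25) = true := by decide +kernel
theorem chkP_33275 : allRangeF (checkPointF cert) (nat_lit 33275) (nat_lit 25) = true := by decide +kernel
theorem chkP_33300 : allRangeF (checkPointF cert) (nat_lit 33300) (nat_lit 25) = true := by decide +kernel
theorem chkP_33325 : allRangeF (checkPointF cert) (nat_lit 33325) (nat_lit 25) = true := by decide +kernel
theorem chkP_33350 : allRangeF (checkPointF cert) (nat_lit 33350) (nat_lit 25) = true := by decide +kernel
theorem chkP_33375 : allRangeF (checkPointF cert) (nat_lit 33375) (nat_lit 25) = true := by decide +kernel
theorem chkP_33400 : allRangeF (checkPointF cert) (nat_lit 33400) (nat_lit 25) = true := by decide +kernel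
theorem chkP_33425 : allRangeF (checkPointF cert) (nat_lit 33425) (nat_lit 25) = true := by decide +kernel
theorem chkP_33450 : allRangeF (checkPointF cert) (nat_lit 33450) (nat_lit 25) = true := by decide +kernel
theorem chkP_33475 : allRangeF (checkPointF cert) (nat_lit 33475) (nat_lit 25) = true := by decide +kernel
theorem chkP_33500 : allRangeF (checkPointF cert) (nat_lit 33500) (nat_lit 25) = true := by decide +kernel
theorem chkP_33525 : allRangeF (checkPointF cert) (nat_lit 33525) (nat_lit 25) = true := by decide +kernel
theorem chkP_33550 : allRangeF (checkPointF cert) (nat_lit 33550) (nat_lit 25) = true := by decide +kernel
theorem chkP_33575 : allRangeF (checkPointF cert) (nat_lit 33575) (nat_lit 25) = true := by decide +kernel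
theorem chkP_33600 : allRangeF (checkPointF cert) (nat_lit 33600) (nat_lit 25) = true := by decide +kernel
theorem chkP_33625 : allRangeF (checkPointF cert) (nat_lit 33625) (nat_lit 25) = true := by decide +kernel
theorem chkP_33650 : allRangeF (checkPointF cert) (nat_lit 33650) (nat_lit 25) = true := by decide +kernel
theorem chkP_33675 : allRangeF (checkPointF cert) (nat_lit 33675) (nat_lit 25) = true := by decide +kernel
theorem chkP_33700 : allRangeF (checkPointF cert) (nat_lit 33700) (nat_lit 25) = true := by decide +kernel
theorem chkP_33725 : allRangeF (checkPointF cert) (nat_lit 33725) (nat_lit 25) = true := by decide +kernel
theorem chkP_33750 : allRangeF (checkPointF cert) (nat_lit 33750) (nat_lit 25) = true := by decide +kernel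
theorem chkP_33775 : allRangeF (checkPointF cert) (nat_lit 33775) (nat_lit 25) = true := by decide +kernel
theorem chkP_33800 : allRangeF (checkPointF cert) (nat_lit 33800) (nat_lit 25) = true := by decide +kernel
theorem chkP_33825 : allRangeF (checkPointF cert) (nat_lit 33825) (nat_lit 25) = true := by decide +kernel
theorem chkP_33850 : allRangeF (checkPointF cert) (nat_lit 33850) (nat_lit 25) = true := by decide +kernel
theorem chkP_33875 : allRangeF (checkPointF cert) (nat_lit 33875) (nat_lit 25) = true := by decide +kernel
theorem chkP_33900 : allRangeF (checkPointF cert) (nat_lit 33900) (nat_lit 25) = true := by decide +kernel
theorem chkP_33925 : allRangeF (checkPointF cert) (nat_lit 33925) (nat_lit 25) = true := by decide +kernel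
theorem chkP_33950 : allRangeF (checkPointF cert) (nat_lit 33950) (nat_lit 25) = true := by decide +kernel
theorem chkP_33975 : allRangeF (checkPointF cert) (nat_lit 33975) (nat_lit 25) = true := by decide +kernel
theorem chkP_34000 : allRangeF (checkPointF cert) (nat_lit 34000) (nat_lit 25) = true := by decide +kernel
theorem chkP_34025 : allRangeF (checkPointF cert) (nat_lit 34025) (nat_lit 25) = true := by decide +kernel
theorem chkP_34050 : allRangeF (checkPointF cert) (nat_lit 34050) (nat_lit 25) = true := by decide +kernel
theorem chkP_34075 : allRangeF (checkPointF cert) (nat_lit 34075) (nat_lit 25) = true := by decide +kernel
theorem chkP_34100 : allRangeF (checkPointF cert) (nat_lit 34100) (nat_lit 25) = true := by decide +kernel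
theorem chkP_34125 : allRangeF (checkPointF cert) (nat_lit 34125) (nat_lit 25) = true := by decide +kernel
theorem chkP_34150 : allRangeF (checkPointF cert) (nat_lit 34150) (nat_lit 25) = true := by decide +kernel
theorem chkP_34175 : allRangeF (checkPointF cert) (nat_lit 34175) (nat_lit 25) = true := by decide +kernel
theorem chkP_34200 : allRangeF (checkPointF cert) (nat_lit 34200) (nat_lit 25) = true := by decide +kernel
theorem chkP_34225 : allRangeF (checkPointF cert) (nat_lit 34225) (nat_lit 25) = true := by decide +kernel
theorem chkP_34250 : allRangeF (checkPointF cert) (nat_lit 34250) (nat_lit 25) = true := by decide +kernel
theorem chkP_34275 : allRangeF (checkPointF cert) (nat_lit 34275) (nat_lit 25) = true := by decide +kernel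
theorem chkP_34300 : allRangeF (checkPointF cert) (nat_lit 34300) (nat_lit 25) = true := by decide +kernel
theorem chkP_34325 : allRangeF (checkPointF cert) (nat_lit 34325) (nat_lit 25) = true := by decide +kernel
theorem chkP_34350 : allRangeF (checkPointF cert) (nat_lit 34350) (nat_lit 25) = true := by decide +kernel
theorem chkP_34375 : allRangeF (checkPointF cert) (nat_lit 34375) (nat_lit 25) = true := by decide +kernel
theorem chkP_34400 : allRangeF (checkPointF cert) (nat_lit 34400) (nat_lit 25) = true := by decide +kernel
theorem chkP_34425 : allRangeF (checkPointF cert) (nat_lit 34425) (nat_lit 25) = true := by decide +kernel
theorem chkP_34450 : allRangeF (checkPointF cert) (nat_lit 34450) (nat_lit 25) = true := by decide +kernel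
theorem chkP_34475 : allRangeF (checkPointF cert) (nat_lit 34475) (nat_lit 25) = true := by decide +kernel
theorem chkP_34500 : allRangeF (checkPointF cert) (nat_lit 34500) (nat_lit 25) = true := by decide +kernel
theorem chkP_34525 : allRangeF (checkPointF cert) (nat_lit 34525) (nat_lit 25) = true := by decide +kernel
theorem chkP_34550 : allRangeF (checkPointF cert) (nat_lit 34550) (nat_lit 25) = true := by decide +kernel
theorem chkP_34575 : allRangeF (checkPointF cert) (nat_lit 34575) (nat_lit 25) = true := by decide +kernel
theorem chkP_34600 : allRangeF (checkPointF cert) (nat_lit 34600) (nat_lit 25) = true := by decide +kernel
theorem chkP_34625 : allRangeF (checkPointF cert) (nat_lit 34625) (nat_lit 25) = true := by decide +kernel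
theorem chkP_34650 : allRangeF (checkPointF cert) (nat_lit 34650) (nat_lit 25) = true := by decide +kernel
theorem chkP_34675 : allRangeF (checkPointF cert) (nat_lit 34675) (nat_lit 25) = true := by decide +kernel
theorem chkP_34700 : allRangeF (checkPointF cert) (nat_lit 34700) (nat_lit 25) = true := by decide +kernel
theorem chkP_34725 : allRangeF (checkPointF cert) (nat_lit 34725) (nat_lit 25) = true := by decide +kernel
theorem chkP_34750 : allRangeF (checkPointF cert) (nat_lit 34750) (nat_lit 25) = true := by decide +kernel
theorem chkP_34775 : allRangeF (checkPointF cert) (nat_lit 34775) (nat_lit 25) = true := by decide +kernel
theorem chkP_34800 : allRangeF (checkPointF cert) (nat_lit 34800) (nat_lit 25) = true := by decide +kernel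
theorem chkP_34825 : allRangeF (checkPointF cert) (nat_lit 34825) (nat_lit 25) = true := by decide +kernel
theorem chkP_34850 : allRangeF (checkPointF cert) (nat_lit 34850) (nat_lit 25) = true := by decide +kernel
theorem chkP_34875 : allRangeF (checkPointF cert) (nat_lit 34875) (nat_lit 25) = true := by decide +kernel
theorem chkP_34900 : allRangeF (checkPointF cert) (nat_lit 34900) (nat_lit 25) = true := by decide +kernel
theorem chkP_34925 : allRangeF (checkPointF cert) (nat_lit 34925) (nat_lit 25) = true := by decide +kernel
theorem chkP_34950 : allRangeF (checkPointF cert) (nat_lit 34950) (nat_lit 25) = true := by decide +kernel
theorem chkP_34975 : allRangeF (checkPointF cert) (nat_lit 34975) (nat_lit 25) = true := by decide +kernel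
theorem chkP_35000 : allRangeF (checkPointF cert) (nat_lit 35000) (nat_lit 25) = true := by decide +kernel
theorem chkP_35025 : allRangeF (checkPointF cert) (nat_lit 35025) (nat_lit 25) = true := by decide +kernel
theorem chkP_35050 : allRangeF (checkPointF cert) (nat_lit 35050) (nat_lit 25) = true := by decide +kernel
theorem chkP_35075 : allRangeF (checkPointF cert) (nat_lit 35075) (nat_lit 25) = true := by decide +kernel
theorem chkP_35100 : allRangeF (checkPointF cert) (nat_lit 35100) (nat_lit 25) = true := by decide +kernel
theorem chkP_35125 : allRangeF (checkPointF cert) (nat_lit 35125) (nat_lit 25) = true := by decide +kernel
theorem chkP_35150 : allRangeF (checkPointF cert) (nat_lit 35150) (nat_lit 25) = true := by decide +kernel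
theorem chkP_35175 : allRangeF (checkPointF cert) (nat_lit 35175) (nat_lit 25) = true := by decide +kernel
theorem chkP_35200 : allRangeF (checkPointF cert) (nat_lit 35200) (nat_lit 25) = true := by decide +kernel
theorem chkP_35225 : allRangeF (checkPointF cert) (nat_lit 35225) (nat_lit 25) = true := by decide +kernel
theorem chkP_35250 : allRangeF (checkPointF cert) (nat_lit 35250) (nat_lit 25) = true := by decide +kernel
theorem chkP_35275 : allRangeF (checkPointF cert) (nat_lit 35275) (nat_lit 25) = true := by decide +kernel
theorem chkP_35300 : allRangeF (checkPointF cert) (nat_lit 35300) (nat_lit 25) = true := by decide +kernel
theorem chkP_35325 : allRangeF (checkPointF cert) (nat_lit 35325) (nat_lit 25) = true := by decide +kernel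
theorem chkP_35350 : allRangeF (checkPointF cert) (nat_lit 35350) (nat_lit 25) = true := by decide +kernel
theorem chkP_35375 : allRangeF (checkPointF cert) (nat_lit 35375) (nat_lit 25) = true := by decide +kernel
theorem chkP_35400 : allRangeF (checkPointF cert) (nat_lit 35400) (nat_lit 25) = true := by decide +kernel
theorem chkP_35425 : allRangeF (checkPointF cert) (nat_lit 35425) (nat_lit 25) = true := by decide +kernel
theorem chkP_35450 : allRangeF (checkPointF cert) (nat_lit 35450) (nat_lit 25) = true := by decide +kernel
theorem chkP_35475 : allRangeF (checkPointF cert) (nat_lit 35475) (nat_lit 25) = true := by decide +kernel
theorem chkP_35500 : allRangeF (checkPointF cert) (nat_lit 35500) (nat_lit 25) = true := by decide +kernel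
theorem chkP_35525 : allRangeF (checkPointF cert) (nat_lit 35525) (nat_lit 25) = true := by decide +kernel
theorem chkP_35550 : allRangeF (checkPointF cert) (nat_lit 35550) (nat_lit 25) = true := by decide +kernel
theorem chkP_35575 : allRangeF (checkPointF cert) (nat_lit 35575) (nat_lit 25) = true := by decide +kernel
theorem chkP_35600 : allRangeF (checkPointF cert) (nat_lit 35600) (nat_lit 25) = true := by decide +kernel
theorem chkP_35625 : allRangeF (checkPointF cert) (nat_lit 35625) (nat_lit 25) = true := by decide +kernel
theorem chkP_35650 : allRangeF (checkPointF cert) (nat_lit 35650) (nat_lit 25) = true := by decide +kernel
theorem chkP_35675 : allRangeF (checkPointF cert) (nat_lit 35675) (nat_lit 25) = true := by decide +kernel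
theorem chkP_35700 : allRangeF (checkPointF cert) (nat_lit 35700) (nat_lit 25) = true := by decide +kernel
theorem chkP_35725 : allRangeF (checkPointF cert) (nat_lit 35725) (nat_lit 25) = true := by decide +kernel
theorem chkP_35750 : allRangeF (checkPointF cert) (nat_lit 35750) (nat_lit 25) = true := by decide +kernel
theorem chkP_35775 : allRangeF (checkPointF cert) (nat_lit 35775) (nat_lit 25) = true := by decide +kernel
theorem chkP_35800 : allRangeF (checkPointF cert) (nat_lit 35800) (nat_lit 25) = true := by decide +kernel
theorem chkP_35825 : allRangeF (checkPointF cert) (nat_lit 35825) (nat_lit 25) = true := by decide +kernel
theorem chkP_35850 : allRangeF (checkPointF cert) (nat_lit 35850) (nat_lit 25) = true := by decide +kernel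
theorem chkP_35875 : allRangeF (checkPointF cert) (nat_lit 35875) (nat_lit 25) = true := by decide +kernel
theorem chkP_35900 : allRangeF (checkPointF cert) (nat_lit 35900) (nat_lit 25) = true := by decide +kernel
theorem chkP_35925 : allRangeF (checkPointF cert) (nat_lit 35925) (nat_lit 25) = true := by decide +kernel
theorem chkP_35950 : allRangeF (checkPointF cert) (nat_lit 35950) (nat_lit 25) = true := by decide +kernel
theorem chkP_35975 : allRangeF (checkPointF cert) (nat_lit 35975) (nat_lit 25) = true := by decide +kernel
theorem chkP_36000 : allRangeF (checkPointF cert) (nat_lit 36000) (nat_lit 25) = true := by decide +kernel
theorem chkP_36025 : allRangeF (checkPointF cert) (nat_lit 36025) (nat_lit 25) = true := by decide +kernel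
theorem chkP_36050 : allRangeF (checkPointF cert) (nat_lit 36050) (nat_lit 25) = true := by decide +kernel
theorem chkP_36075 : allRangeF (checkPointF cert) (nat_lit 36075) (nat_lit 25) = true := by decide +kernel
theorem chkP_36100 : allRangeF (checkPointF cert) (nat_lit 36100) (nat_lit 25) = true := by decide +kernel
theorem chkP_36125 : allRangeF (checkPointF cert) (nat_lit 36125) (nat_lit 25) = true := by decide +kernel
theorem chkP_36150 : allRangeF (checkPointF cert) (nat_lit 36150) (nat_lit 25) = true := by decide +kernel
theorem chkP_36175 : allRangeF (checkPointF cert) (nat_lit 36175) (nat_lit 25) = true := by decide +kernel
theorem chkP_36200 : allRangeF (checkPointF cert) (nat_lit 36200) (nat_lit 25) = true := by decide +kernel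
theorem chkP_36225 : allRangeF (checkPointF cert) (nat_lit 36225) (nat_lit 25) = true := by decide +kernel
theorem chkP_36250 : allRangeF (checkPointF cert) (nat_lit 36250) (nat_lit 25) = true := by decide +kernel
theorem chkP_36275 : allRangeF (checkPointF cert) (nat_lit 36275) (nat_lit 25) = true := by decide +kernel
theorem chkP_36300 : allRangeF (checkPointF cert) (nat_lit 36300) (nat_lit 25) = true := by decide +kernel
theorem chkP_36325 : allRangeF (checkPointF cert) (nat_lit 36325) (nat_lit 25) = true := by decide +kernel
theorem chkP_36350 : allRangeF (checkPointF cert) (nat_lit 36350) (nat_lit 25) = true := by decide +kernel
theorem chkP_36375 : allRangeF (checkPointF cert) (nat_lit 36375) (nat_lit 25) = true := by decide +kernel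
theorem chkP_36400 : allRangeF (checkPointF cert) (nat_lit 36400) (nat_lit 25) = true := by decide +kernel
theorem chkP_36425 : allRangeF (checkPointF cert) (nat_lit 36425) (nat_lit 25) = true := by decide +kernel
theorem chkP_36450 : allRangeF (checkPointF cert) (nat_lit 36450) (nat_lit 25) = true := by decide +kernel
theorem chkP_36475 : allRangeF (checkPointF cert) (nat_lit 36475) (nat_lit 25) = true := by decide +kernel
theorem chkP_36500 : allRangeF (checkPointF cert) (nat_lit 36500) (nat_lit 25) = true := by decide +kernel
theorem chkP_36525 : allRangeF (checkPointF cert) (nat_lit 36525) (nat_lit 25) = true := by decide +kernel
theorem chkP_36550 : allRangeF (checkPointF cert) (nat_lit 36550) (nat_lit 25) = true := by decide +kernel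
theorem chkP_36575 : allRangeF (checkPointF cert) (nat_lit 36575) (nat_lit 25) = true := by decide +kernel
theorem chkP_36600 : allRangeF (checkPointF cert) (nat_lit 36600) (nat_lit 25) = true := by decide +kernel
theorem chkP_36625 : allRangeF (checkPointF cert) (nat_lit 36625) (nat_lit 25) = true := by decide +kernel
theorem chkP_36650 : allRangeF (checkPointF cert) (nat_lit 36650) (nat_lit 25) = true := by decide +kernel
theorem chkP_36675 : allRangeF (checkPointF cert) (nat_lit 36675) (nat_lit 25) = true := by decide +kernel
theorem chkP_36700 : allRangeF (checkPointF cert) (nat_lit 36700) (nat_lit 25) = true := by decide +kernel
theorem chkP_36725 : allRangeF (checkPointF cert) (nat_lit 36725) (nat_lit 25) = true := by decide +kernel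
theorem chkP_36750 : allRangeF (checkPointF cert) (nat_lit 36750) (nat_lit 25) = true := by decide +kernel
theorem chkP_36775 : allRangeF (checkPointF cert) (nat_lit 36775) (nat_lit 25) = true := by decide +kernel
theorem chkP_36800 : allRangeF (checkPointF cert) (nat_lit 36800) (nat_lit 25) = true := by decide +kernel
theorem chkP_36825 : allRangeF (checkPointF cert) (nat_lit 36825) (nat_lit 25) = true := by decide +kernel
theorem chkP_36850 : allRangeF (checkPointF cert) (nat_lit 36850) (nat_lit 25) = true := by decide +kernel
theorem chkP_36875 : allRangeF (checkPointF cert) (nat_lit 36875) (nat_lit 25) = true := by decide +kernel
theorem chkP_36900 : allRangeF (checkPointF cert) (nat_lit 36900) (nat_lit 25) = true := by decide +kernel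
theorem chkP_36925 : allRangeF (checkPointF cert) (nat_lit 36925) (nat_lit 25) = true := by decide +kernel
theorem chkP_36950 : allRangeF (checkPointF cert) (nat_lit 36950) (nat_lit 25) = true := by decide +kernel
theorem chkP_36975 : allRangeF (checkPointF cert) (nat_lit 36975) (nat_lit 25) = true := by decide +kernel
theorem chkP_37000 : allRangeF (checkPointF cert) (nat_lit 37000) (nat_lit 25) = true := by decide +kernel
theorem chkP_37025 : allRangeF (checkPointF cert) (nat_lit 37025) (nat_lit 25) = true := by decide +kernel
theorem chkP_37050 : allRangeF (checkPointF cert) (nat_lit 37050) (nat_lit 25) = true := by decide +kernel
theorem chkP_37075 : allRangeF (checkPointF cert) (nat_lit 37075) (nat_lit 25) = true := by decide +kernel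
theorem chkP_37100 : allRangeF (checkPointF cert) (nat_lit 37100) (nat_lit 25) = true := by decide +kernel
theorem chkP_37125 : allRangeF (checkPointF cert) (nat_lit 37125) (nat_lit 25) = true := by decide +kernel
theorem chkP_37150 : allRangeF (checkPointF cert) (nat_lit 37150) (nat_lit 25) = true := by decide +kernel
theorem chkP_37175 : allRangeF (checkPointF cert) (nat_lit 37175) (nat_lit 25) = true := by decide +kernel
theorem chkP_37200 : allRangeF (checkPointF cert) (nat_lit 37200) (nat_lit 25) = true := by decide +kernel
theorem chkP_37225 : allRangeF (checkPointF cert) (nat_lit 37225) (nat_lit 25) = true := by decide +kernel
theorem chkP_37250 : allRangeF (checkPointF cert) (nat_lit 37250) (nat_lit 25) = true := by decide +kernel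
theorem chkP_37275 : allRangeF (checkPointF cert) (nat_lit 37275) (nat_lit 25) = true := by decide +kernel
theorem chkP_37300 : allRangeF (checkPointF cert) (nat_lit 37300) (nat_lit 25) = true := by decide +kernel
theorem chkP_37325 : allRangeF (checkPointF cert) (nat_lit 37325) (nat_lit 25) = true := by decide +kernel
theorem chkP_37350 : allRangeF (checkPointF cert) (nat_lit 37350) (nat_lit 25) = true := by decide +kernel
theorem chkP_37375 : allRangeF (checkPointF cert) (nat_lit 37375) (nat_lit 25) = true := by decide +kernel
theorem chkP_37400 : allRangeF (checkPointF cert) (nat_lit 37400) (nat_lit 25) = true := by decide +kernel
theorem chkP_37425 : allRangeF (checkPointF cert) (nat_lit 37425) (nat_lit 25) = true := by decide +kernel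
theorem chkP_37450 : allRangeF (checkPointF cert) (nat_lit 37450) (nat_lit 25) = true := by decide +kernel
theorem chkP_37475 : allRangeF (checkPointF cert) (nat_lit 37475) (nat_lit 25) = true := by decide +kernel
theorem chkP_37500 : allRangeF (checkPointF cert) (nat_lit 37500) (nat_lit 25) = true := by decide +kernel
theorem chkP_37525 : allRangeF (checkPointF cert) (nat_lit 37525) (nat_lit 25) = true := by decide +kernel
theorem chkP_37550 : allRangeF (checkPointF cert) (nat_lit 37550) (nat_lit 25) = true := by decide +kernel
theorem chkP_37575 : allRangeF (checkPointF cert) (nat_lit 37575) (nat_lit 25) = true := by decide +kernel
theorem chkP_37600 : allRangeF (checkPointF cert) (nat_lit 37600) (nat_lit 25) = true := by decide +kernel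
theorem chkP_37625 : allRangeF (checkPointF cert) (nat_lit 37625) (nat_lit 25) = true := by decide +kernel
theorem chkP_37650 : allRangeF (checkPointF cert) (nat_lit 37650) (nat_lit 25) = true := by decide +kernel
theorem chkP_37675 : allRangeF (checkPointF cert) (nat_lit 37675) (nat_lit 25) = true := by decide +kernel
theorem chkP_37700 : allRangeF (checkPointF cert) (nat_lit 37700) (nat_lit 25) = true := by decide +kernel
theorem chkP_37725 : allRangeF (checkPointF cert) (nat_lit 37725) (nat_lit 25) = true := by decide +kernel
theorem chkP_37750 : allRangeF (checkPointF cert) (nat_lit 37750) (nat_lit 25) = true := by decide +kernel
theorem chkP_37775 : allRangeF (checkPointF cert) (nat_lit 37775) (nat_lit 25) = true := by decide +kernel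
theorem chkP_37800 : allRangeF (checkPointF cert) (nat_lit 37800) (nat_lit 25) = true := by decide +kernel
theorem chkP_37825 : allRangeF (checkPointF cert) (nat_lit 37825) (nat_lit 25) = true := by decide +kernel
theorem chkP_37850 : allRangeF (checkPointF cert) (nat_lit 37850) (nat_lit 25) = true := by decide +kernel
theorem chkP_37875 : allRangeF (checkPointF cert) (nat_lit 37875) (nat_lit 25) = true := by decide +kernel
theorem chkP_37900 : allRangeF (checkPointF cert) (nat_lit 37900) (nat_lit 25) = true := by decide +kernel
theorem chkP_37925 : allRangeF (checkPointF cert) (nat_lit 37925) (nat_lit 25) = true := by decide +kernel
theorem chkP_37950 : allRangeF (checkPointF cert) (nat_lit 37950) (nat_lit 25) = true := by decide +kernel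
theorem chkP_37975 : allRangeF (checkPointF cert) (nat_lit 37975) (nat_lit 25) = true := by decide +kernel
theorem chkP_38000 : allRangeF (checkPointF cert) (nat_lit 38000) (nat_lit 25) = true := by decide +kernel
theorem chkP_38025 : allRangeF (checkPointF cert) (nat_lit 38025) (nat_lit 25) = true := by decide +kernel
theorem chkP_38050 : allRangeF (checkPointF cert) (nat_lit 38050) (nat_lit 25) = true := by decide +kernel
theorem chkP_38075 : allRangeF (checkPointF cert) (nat_lit 38075) (nat_lit 25) = true := by decide +kernel
theorem chkP_38100 : allRangeF (checkPointF cert) (nat_lit 38100) (nat_lit 25) = true := by decide +kernel
theorem chkP_38125 : allRangeF (checkPointF cert) (nat_lit 38125) (nat_lit 25) = true := by decide +kernel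
theorem chkP_38150 : allRangeF (checkPointF cert) (nat_lit 38150) (nat_lit 25) = true := by decide +kernel
theorem chkP_38175 : allRangeF (checkPointF cert) (nat_lit 38175) (nat_lit 25) = true := by decide +kernel
theorem chkP_38200 : allRangeF (checkPointF cert) (nat_lit 38200) (nat_lit 25) = true := by decide +kernel
theorem chkP_38225 : allRangeF (checkPointF cert) (nat_lit 38225) (nat_lit 25) = true := by decide +kernel
theorem chkP_38250 : allRangeF (checkPointF cert) (nat_lit 38250) (nat_lit 25) = true := by decide +kernel
theorem chkP_38275 : allRangeF (checkPointF cert) (nat_lit 38275) (nat_lit 25) = true := by decide +kernel
theorem chkP_38300 : allRangeF (checkPointF cert) (nat_lit 38300) (nat_lit 25) = true := by decide +kernel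
theorem chkP_38325 : allRangeF (checkPointF cert) (nat_lit 38325) (nat_lit 25) = true := by decide +kernel
theorem chkP_38350 : allRangeF (checkPointF cert) (nat_lit 38350) (nat_lit 25) = true := by decide +kernel

theorem ptsRange_4 : ∀ i, 30700 ≤ i → i < 38375 → checkPoint cert i = true := by
  intro i hlo hhi
  rcases Nat.lt_or_ge i 34525 with h1 | h1
  · skip
    rcases Nat.lt_or_ge i 32600 with h2 | h2
    · skip
      rcases Nat.lt_or_ge i 31650 with h3 | h3
      · skip
        rcases Nat.lt_or_ge i 31175 with h4 | h4
        · skip
          rcases Nat.lt_or_ge i 30925 with h5 | h5
          · skip
            rcases Nat.lt_or_ge i 30800 with h6 | h6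
            · skip
              rcases Nat.lt_or_ge i 30750 with h7 | h7
              · skip
                rcases Nat.lt_or_ge i 30725 with h8 | h8
                · skip
                  exact allRangeF_sound _ _ (checkPointF_eq cert) 30700 25 chkP_30700 i (by omega) (by omega)
                · skip
                  exact allRangeF_sound _ _ (checkPointF_eq cert) 30725 25 chkP_30725 i (by omega) (by omega)
              · skip
                rcases Nat.lt_or_ge i 30775 with h8 | h8
                · skip
                  exact allRangeF_sound _ _ (checkPointF_eq cert) 30750 25 chkP_30750 i (by omega) (by omega)
                · skip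
                  exact allRangeF_sound _ _ (checkPointF_eq cert) 30775 25 chkP_30775 i (by omega) (by omega)
            · skip
              rcases Nat.lt_or_ge i 30850 with h7 | h7
              · skip
                rcases Nat.lt_or_ge i 30825 with h8 | h8
                · skip
                  exact allRangeF_sound _ _ (checkPointF_eq cert) 30800 25 chkP_30800 i (by omega) (by omega)
                · skip
                  exact allRangeF_sound _ _ (checkPointF_eq cert) 30825 25 chkP_30825 i (by omega) (by omega)
              · skip
                rcases Nat.lt_or_ge i 30875 with h8 | h8
                · skip
                  exact allRangeF_sound _ _ (checkPointF_eq cert) 30850 25 chkP_30850 i (by omega) (by omega)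
                · skip
                  rcases Nat.lt_or_ge i 30900 with h9 | h9
                  · skip
                    exact allRangeF_sound _ _ (checkPointF_eq cert) 30875 25 chkP_30875 i (by omega) (by omega)
                  · skip
                    exact allRangeF_sound _ _ (checkPointF_eq cert) 30900 25 chkP_30900 i (by omega) (by omega)
          · skip
            rcases Nat.lt_or_ge i 31050 with h6 | h6
            · skip
              rcases Nat.lt_or_ge i 30975 with h7 | h7
              · skip
                rcases Nat.lt_or_ge i 30950 with h8 | h8
                · skip
                  exact allRangeF_sound _ _ (checkPointF_eq cert) 30925 25 chkP_30925 i (by omega) (by omega)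
                · skip
                  exact allRangeF_sound _ _ (checkPointF_eq cert) 30950 25 chkP_30950 i (by omega) (by omega)
              · skip
                rcases Nat.lt_or_ge i 31000 with h8 | h8
                · skip
                  exact allRangeF_sound _ _ (checkPointF_eq cert) 30975 25 chkP_30975 i (by omega) (by omega)
                · skip
                  rcases Nat.lt_or_ge i 31025 with h9 | h9
                  · skip
                    exact allRangeF_sound _ _ (checkPointF_eq cert) 31000 25 chkP_31000 i (by omega) (by omega)
                  · skip
                    exact allRangeF_sound _ _ (checkPointF_eq cert) 31025 25 chkP_31025 i (by omega) (by omega)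
            · skip
              rcases Nat.lt_or_ge i 31100 with h7 | h7
              · skip
                rcases Nat.lt_or_ge i 31075 with h8 | h8
                · skip
                  exact allRangeF_sound _ _ (checkPointF_eq cert) 31050 25 chkP_31050 i (by omega) (by omega)
                · skip
                  exact allRangeF_sound _ _ (checkPointF_eq cert) 31075 25 chkP_31075 i (by omega) (by omega)
              · skip
                rcases Nat.lt_or_ge i 31125 with h8 | h8
                · skip
                  exact allRangeF_sound _ _ (checkPointF_eq cert) 31100 25 chkP_31100 i (by omega) (by omega)
                · skip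
                  rcases Nat.lt_or_ge i 31150 with h9 | h9
                  · skip
                    exact allRangeF_sound _ _ (checkPointF_eq cert) 31125 25 chkP_31125 i (by omega) (by omega)
                  · skip
                    exact allRangeF_sound _ _ (checkPointF_eq cert) 31150 25 chkP_31150 i (by omega) (by omega)
        · skip
          rcases Nat.lt_or_ge i 31400 with h5 | h5
          · skip
            rcases Nat.lt_or_ge i 31275 with h6 | h6
            · skip
              rcases Nat.lt_or_ge i 31225 with h7 | h7
              · skip
                rcases Nat.lt_or_ge i 31200 with h8 | h8
                · skip
                  exact allRangeF_sound _ _ (checkPointF_eq cert) 31175 25 chkP_31175 i (by omega) (by omega)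
                · skip
                  exact allRangeF_sound _ _ (checkPointF_eq cert) 31200 25 chkP_31200 i (by omega) (by omega)
              · skip
                rcases Nat.lt_or_ge i 31250 with h8 | h8
                · skip
                  exact allRangeF_sound _ _ (checkPointF_eq cert) 31225 25 chkP_31225 i (by omega) (by omega)
                · skip
                  exact allRangeF_sound _ _ (checkPointF_eq cert) 31250 25 chkP_31250 i (by omega) (by omega)
            · skip
              rcases Nat.lt_or_ge i 31325 with h7 | h7
              · skip
                rcases Nat.lt_or_ge i 31300 with h8 | h8
                · skip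
                  exact allRangeF_sound _ _ (checkPointF_eq cert) 31275 25 chkP_31275 i (by omega) (by omega)
                · skip
                  exact allRangeF_sound _ _ (checkPointF_eq cert) 31300 25 chkP_31300 i (by omega) (by omega)
              · skip
                rcases Nat.lt_or_ge i 31350 with h8 | h8
                · skip
                  exact allRangeF_sound _ _ (checkPointF_eq cert) 31325 25 chkP_31325 i (by omega) (by omega)
                · skip
                  rcases Nat.lt_or_ge i 31375 with h9 | h9
                  · skip
                    exact allRangeF_sound _ _ (checkPointF_eq cert) 31350 25 chkP_31350 i (by omega) (by omega)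
                  · skip
                    exact allRangeF_sound _ _ (checkPointF_eq cert) 31375 25 chkP_31375 i (by omega) (by omega)
          · skip
            rcases Nat.lt_or_ge i 31525 with h6 | h6
            · skip
              rcases Nat.lt_or_ge i 31450 with h7 | h7
              · skip
                rcases Nat.lt_or_ge i 31425 with h8 | h8
                · skip
                  exact allRangeF_sound _ _ (checkPointF_eq cert) 31400 25 chkP_31400 i (by omega) (by omega)
                · skip
                  exact allRangeF_sound _ _ (checkPointF_eq cert) 31425 25 chkP_31425 i (by omega) (by omega)
              · skip
                rcases Nat.lt_or_ge i 31475 with h8 | h8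
                · skip
                  exact allRangeF_sound _ _ (checkPointF_eq cert) 31450 25 chkP_31450 i (by omega) (by omega)
                · skip
                  rcases Nat.lt_or_ge i 31500 with h9 | h9
                  · skip
                    exact allRangeF_sound _ _ (checkPointF_eq cert) 31475 25 chkP_31475 i (by omega) (by omega)
                  · skip
                    exact allRangeF_sound _ _ (checkPointF_eq cert) 31500 25 chkP_31500 i (by omega) (by omega)
            · skip
              rcases Nat.lt_or_ge i 31575 with h7 | h7
              · skip
                rcases Nat.lt_or_ge i 31550 with h8 | h8
                · skip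
                  exact allRangeF_sound _ _ (checkPointF_eq cert) 31525 25 chkP_31525 i (by omega) (by omega)
                · skip
                  exact allRangeF_sound _ _ (checkPointF_eq cert) 31550 25 chkP_31550 i (by omega) (by omega)
              · skip
                rcases Nat.lt_or_ge i 31600 with h8 | h8
                · skip
                  exact allRangeF_sound _ _ (checkPointF_eq cert) 31575 25 chkP_31575 i (by omega) (by omega)
                · skip
                  rcases Nat.lt_or_ge i 31625 with h9 | h9
                  · skip
                    exact allRangeF_sound _ _ (checkPointF_eq cert) 31600 25 chkP_31600 i (by omega) (by omega)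
                  · skip
                    exact allRangeF_sound _ _ (checkPointF_eq cert) 31625 25 chkP_31625 i (by omega) (by omega)
      · skip
        rcases Nat.lt_or_ge i 32125 with h4 | h4
        · skip
          rcases Nat.lt_or_ge i 31875 with h5 | h5
          · skip
            rcases Nat.lt_or_ge i 31750 with h6 | h6
            · skip
              rcases Nat.lt_or_ge i 31700 with h7 | h7
              · skip
                rcases Nat.lt_or_ge i 31675 with h8 | h8
                · skip
                  exact allRangeF_sound _ _ (checkPointF_eq cert) 31650 25 chkP_31650 i (by omega) (by omega)
                · skip
                  exact allRangeF_sound _ _ (checkPointF_eq cert) 31675 25 chkP_31675 i (by omega) (by omega)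
              · skip
                rcases Nat.lt_or_ge i 31725 with h8 | h8
                · skip
                  exact allRangeF_sound _ _ (checkPointF_eq cert) 31700 25 chkP_31700 i (by omega) (by omega)
                · skip
                  exact allRangeF_sound _ _ (checkPointF_eq cert) 31725 25 chkP_31725 i (by omega) (by omega)
            · skip
              rcases Nat.lt_or_ge i 31800 with h7 | h7
              · skip
                rcases Nat.lt_or_ge i 31775 with h8 | h8
                · skip
                  exact allRangeF_sound _ _ (checkPointF_eq cert) 31750 25 chkP_31750 i (by omega) (by omega)
                · skip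
                  exact allRangeF_sound _ _ (checkPointF_eq cert) 31775 25 chkP_31775 i (by omega) (by omega)
              · skip
                rcases Nat.lt_or_ge i 31825 with h8 | h8
                · skip
                  exact allRangeF_sound _ _ (checkPointF_eq cert) 31800 25 chkP_31800 i (by omega) (by omega)
                · skip
                  rcases Nat.lt_or_ge i 31850 with h9 | h9
                  · skip
                    exact allRangeF_sound _ _ (checkPointF_eq cert) 31825 25 chkP_31825 i (by omega) (by omega)
                  · skip
                    exact allRangeF_sound _ _ (checkPointF_eq cert) 31850 25 chkP_31850 i (by omega) (by omega)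
          · skip
            rcases Nat.lt_or_ge i 32000 with h6 | h6
            · skip
              rcases Nat.lt_or_ge i 31925 with h7 | h7
              · skip
                rcases Nat.lt_or_ge i 31900 with h8 | h8
                · skip
                  exact allRangeF_sound _ _ (checkPointF_eq cert) 31875 25 chkP_31875 i (by omega) (by omega)
                · skip
                  exact allRangeF_sound _ _ (checkPointF_eq cert) 31900 25 chkP_31900 i (by omega) (by omega)
              · skip
                rcases Nat.lt_or_ge i 31950 with h8 | h8
                · skip
                  exact allRangeF_sound _ _ (checkPointF_eq cert) 31925 25 chkP_31925 i (by omega) (by omega)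
                · skip
                  rcases Nat.lt_or_ge i 31975 with h9 | h9
                  · skip
                    exact allRangeF_sound _ _ (checkPointF_eq cert) 31950 25 chkP_31950 i (by omega) (by omega)
                  · skip
                    exact allRangeF_sound _ _ (checkPointF_eq cert) 31975 25 chkP_31975 i (by omega) (by omega)
            · skip
              rcases Nat.lt_or_ge i 32050 with h7 | h7
              · skip
                rcases Nat.lt_or_ge i 32025 with h8 | h8
                · skip
                  exact allRangeF_sound _ _ (checkPointF_eq cert) 32000 25 chkP_32000 i (by omega) (by omega)
                · skip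
                  exact allRangeF_sound _ _ (checkPointF_eq cert) 32025 25 chkP_32025 i (by omega) (by omega)
              · skip
                rcases Nat.lt_or_ge i 32075 with h8 | h8
                · skip
                  exact allRangeF_sound _ _ (checkPointF_eq cert) 32050 25 chkP_32050 i (by omega) (by omega)
                · skip
                  rcases Nat.lt_or_ge i 32100 with h9 | h9
                  · skip
                    exact allRangeF_sound _ _ (checkPointF_eq cert) 32075 25 chkP_32075 i (by omega) (by omega)
                  · skip
                    exact allRangeF_sound _ _ (checkPointF_eq cert) 32100 25 chkP_32100 i (by omega) (by omega)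
        · skip
          rcases Nat.lt_or_ge i 32350 with h5 | h5
          · skip
            rcases Nat.lt_or_ge i 32225 with h6 | h6
            · skip
              rcases Nat.lt_or_ge i 32175 with h7 | h7
              · skip
                rcases Nat.lt_or_ge i 32150 with h8 | h8
                · skip
                  exact allRangeF_sound _ _ (checkPointF_eq cert) 32125 25 chkP_32125 i (by omega) (by omega)
                · skip
                  exact allRangeF_sound _ _ (checkPointF_eq cert) 32150 25 chkP_32150 i (by omega) (by omega)
              · skip
                rcases Nat.lt_or_ge i 32200 with h8 | h8
                · skip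
                  exact allRangeF_sound _ _ (checkPointF_eq cert) 32175 25 chkP_32175 i (by omega) (by omega)
                · skip
                  exact allRangeF_sound _ _ (checkPointF_eq cert) 32200 25 chkP_32200 i (by omega) (by omega)
            · skip
              rcases Nat.lt_or_ge i 32275 with h7 | h7
              · skip
                rcases Nat.lt_or_ge i 32250 with h8 | h8
                · skip
                  exact allRangeF_sound _ _ (checkPointF_eq cert) 32225 25 chkP_32225 i (by omega) (by omega)
                · skip
                  exact allRangeF_sound _ _ (checkPointF_eq cert) 32250 25 chkP_32250 i (by omega) (by omega)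
              · skip
                rcases Nat.lt_or_ge i 32300 with h8 | h8
                · skip
                  exact allRangeF_sound _ _ (checkPointF_eq cert) 32275 25 chkP_32275 i (by omega) (by omega)
                · skip
                  rcases Nat.lt_or_ge i 32325 with h9 | h9
                  · skip
                    exact allRangeF_sound _ _ (checkPointF_eq cert) 32300 25 chkP_32300 i (by omega) (by omega)
                  · skip
                    exact allRangeF_sound _ _ (checkPointF_eq cert) 32325 25 chkP_32325 i (by omega) (by omega)
          · skip
            rcases Nat.lt_or_ge i 32475 with h6 | h6
            · skip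
              rcases Nat.lt_or_ge i 32400 with h7 | h7
              · skip
                rcases Nat.lt_or_ge i 32375 with h8 | h8
                · skip
                  exact allRangeF_sound _ _ (checkPointF_eq cert) 32350 25 chkP_32350 i (by omega) (by omega)
                · skip
                  exact allRangeF_sound _ _ (checkPointF_eq cert) 32375 25 chkP_32375 i (by omega) (by omega)
              · skip
                rcases Nat.lt_or_ge i 32425 with h8 | h8
                · skip
                  exact allRangeF_sound _ _ (checkPointF_eq cert) 32400 25 chkP_32400 i (by omega) (by omega)
                · skip
                  rcases Nat.lt_or_ge i 32450 with h9 | h9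
                  · skip
                    exact allRangeF_sound _ _ (checkPointF_eq cert) 32425 25 chkP_32425 i (by omega) (by omega)
                  · skip
                    exact allRangeF_sound _ _ (checkPointF_eq cert) 32450 25 chkP_32450 i (by omega) (by omega)
            · skip
              rcases Nat.lt_or_ge i 32525 with h7 | h7
              · skip
                rcases Nat.lt_or_ge i 32500 with h8 | h8
                · skip
                  exact allRangeF_sound _ _ (checkPointF_eq cert) 32475 25 chkP_32475 i (by omega) (by omega)
                · skip
                  exact allRangeF_sound _ _ (checkPointF_eq cert) 32500 25 chkP_32500 i (by omega) (by omega)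
              · skip
                rcases Nat.lt_or_ge i 32550 with h8 | h8
                · skip
                  exact allRangeF_sound _ _ (checkPointF_eq cert) 32525 25 chkP_32525 i (by omega) (by omega)
                · skip
                  rcases Nat.lt_or_ge i 32575 with h9 | h9
                  · skip
                    exact allRangeF_sound _ _ (checkPointF_eq cert) 32550 25 chkP_32550 i (by omega) (by omega)
                  · skip
                    exact allRangeF_sound _ _ (checkPointF_eq cert) 32575 25 chkP_32575 i (by omega) (by omega)
    · skip
      rcases Nat.lt_or_ge i 33550 with h3 | h3
      · skip
        rcases Nat.lt_or_ge i 33075 with h4 | h4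
        · skip
          rcases Nat.lt_or_ge i 32825 with h5 | h5
          · skip
            rcases Nat.lt_or_ge i 32700 with h6 | h6
            · skip
              rcases Nat.lt_or_ge i 32650 with h7 | h7
              · skip
                rcases Nat.lt_or_ge i 32625 with h8 | h8
                · skip
                  exact allRangeF_sound _ _ (checkPointF_eq cert) 32600 25 chkP_32600 i (by omega) (by omega)
                · skip
                  exact allRangeF_sound _ _ (checkPointF_eq cert) 32625 25 chkP_32625 i (by omega) (by omega)
              · skip
                rcases Nat.lt_or_ge i 32675 with h8 | h8
                · skip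
                  exact allRangeF_sound _ _ (checkPointF_eq cert) 32650 25 chkP_32650 i (by omega) (by omega)
                · skip
                  exact allRangeF_sound _ _ (checkPointF_eq cert) 32675 25 chkP_32675 i (by omega) (by omega)
            · skip
              rcases Nat.lt_or_ge i 32750 with h7 | h7
              · skip
                rcases Nat.lt_or_ge i 32725 with h8 | h8
                · skip
                  exact allRangeF_sound _ _ (checkPointF_eq cert) 32700 25 chkP_32700 i (by omega) (by omega)
                · skip
                  exact allRangeF_sound _ _ (checkPointF_eq cert) 32725 25 chkP_32725 i (by omega) (by omega)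
              · skip
                rcases Nat.lt_or_ge i 32775 with h8 | h8
                · skip
                  exact allRangeF_sound _ _ (checkPointF_eq cert) 32750 25 chkP_32750 i (by omega) (by omega)
                · skip
                  rcases Nat.lt_or_ge i 32800 with h9 | h9
                  · skip
                    exact allRangeF_sound _ _ (checkPointF_eq cert) 32775 25 chkP_32775 i (by omega) (by omega)
                  · skip
                    exact allRangeF_sound _ _ (checkPointF_eq cert) 32800 25 chkP_32800 i (by omega) (by omega)
          · skip
            rcases Nat.lt_or_ge i 32950 with h6 | h6
            · skip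
              rcases Nat.lt_or_ge i 32875 with h7 | h7
              · skip
                rcases Nat.lt_or_ge i 32850 with h8 | h8
                · skip
                  exact allRangeF_sound _ _ (checkPointF_eq cert) 32825 25 chkP_32825 i (by omega) (by omega)
                · skip
                  exact allRangeF_sound _ _ (checkPointF_eq cert) 32850 25 chkP_32850 i (by omega) (by omega)
              · skip
                rcases Nat.lt_or_ge i 32900 with h8 | h8
                · skip
                  exact allRangeF_sound _ _ (checkPointF_eq cert) 32875 25 chkP_32875 i (by omega) (by omega)
                · skip
                  rcases Nat.lt_or_ge i 32925 with h9 | h9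
                  · skip
                    exact allRangeF_sound _ _ (checkPointF_eq cert) 32900 25 chkP_32900 i (by omega) (by omega)
                  · skip
                    exact allRangeF_sound _ _ (checkPointF_eq cert) 32925 25 chkP_32925 i (by omega) (by omega)
            · skip
              rcases Nat.lt_or_ge i 33000 with h7 | h7
              · skip
                rcases Nat.lt_or_ge i 32975 with h8 | h8
                · skip
                  exact allRangeF_sound _ _ (checkPointF_eq cert) 32950 25 chkP_32950 i (by omega) (by omega)
                · skip
                  exact allRangeF_sound _ _ (checkPointF_eq cert) 32975 25 chkP_32975 i (by omega) (by omega)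
              · skip
                rcases Nat.lt_or_ge i 33025 with h8 | h8
                · skip
                  exact allRangeF_sound _ _ (checkPointF_eq cert) 33000 25 chkP_33000 i (by omega) (by omega)
                · skip
                  rcases Nat.lt_or_ge i 33050 with h9 | h9
                  · skip
                    exact allRangeF_sound _ _ (checkPointF_eq cert) 33025 25 chkP_33025 i (by omega) (by omega)
                  · skip
                    exact allRangeF_sound _ _ (checkPointF_eq cert) 33050 25 chkP_33050 i (by omega) (by omega)
        · skip
          rcases Nat.lt_or_ge i 33300 with h5 | h5
          · skip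
            rcases Nat.lt_or_ge i 33175 with h6 | h6
            · skip
              rcases Nat.lt_or_ge i 33125 with h7 | h7
              · skip
                rcases Nat.lt_or_ge i 33100 with h8 | h8
                · skip
                  exact allRangeF_sound _ _ (checkPointF_eq cert) 33075 25 chkP_33075 i (by omega) (by omega)
                · skip
                  exact allRangeF_sound _ _ (checkPointF_eq cert) 33100 25 chkP_33100 i (by omega) (by omega)
              · skip
                rcases Nat.lt_or_ge i 33150 with h8 | h8
                · skip
                  exact allRangeF_sound _ _ (checkPointF_eq cert) 33125 25 chkP_33125 i (by omega) (by omega)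
                · skip
                  exact allRangeF_sound _ _ (checkPointF_eq cert) 33150 25 chkP_33150 i (by omega) (by omega)
            · skip
              rcases Nat.lt_or_ge i 33225 with h7 | h7
              · skip
                rcases Nat.lt_or_ge i 33200 with h8 | h8
                · skip
                  exact allRangeF_sound _ _ (checkPointF_eq cert) 33175 25 chkP_33175 i (by omega) (by omega)
                · skip
                  exact allRangeF_sound _ _ (checkPointF_eq cert) 33200 25 chkP_33200 i (by omega) (by omega)
              · skip
                rcases Nat.lt_or_ge i 33250 with h8 | h8
                · skip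
                  exact allRangeF_sound _ _ (checkPointF_eq cert) 33225 25 chkP_33225 i (by omega) (by omega)
                · skip
                  rcases Nat.lt_or_ge i 33275 with h9 | h9
                  · skip
                    exact allRangeF_sound _ _ (checkPointF_eq cert) 33250 25 chkP_33250 i (by omega) (by omega)
                  · skip
                    exact allRangeF_sound _ _ (checkPointF_eq cert) 33275 25 chkP_33275 i (by omega) (by omega)
          · skip
            rcases Nat.lt_or_ge i 33425 with h6 | h6
            · skip
              rcases Nat.lt_or_ge i 33350 with h7 | h7
              · skip
                rcases Nat.lt_or_ge i 33325 with h8 | h8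
                · skip
                  exact allRangeF_sound _ _ (checkPointF_eq cert) 33300 25 chkP_33300 i (by omega) (by omega)
                · skip
                  exact allRangeF_sound _ _ (checkPointF_eq cert) 33325 25 chkP_33325 i (by omega) (by omega)
              · skip
                rcases Nat.lt_or_ge i 33375 with h8 | h8
                · skip
                  exact allRangeF_sound _ _ (checkPointF_eq cert) 33350 25 chkP_33350 i (by omega) (by omega)
                · skip
                  rcases Nat.lt_or_ge i 33400 with h9 | h9
                  · skip
                    exact allRangeF_sound _ _ (checkPointF_eq cert) 33375 25 chkP_33375 i (by omega) (by omega)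
                  · skip
                    exact allRangeF_sound _ _ (checkPointF_eq cert) 33400 25 chkP_33400 i (by omega) (by omega)
            · skip
              rcases Nat.lt_or_ge i 33475 with h7 | h7
              · skip
                rcases Nat.lt_or_ge i 33450 with h8 | h8
                · skip
                  exact allRangeF_sound _ _ (checkPointF_eq cert) 33425 25 chkP_33425 i (by omega) (by omega)
                · skip
                  exact allRangeF_sound _ _ (checkPointF_eq cert) 33450 25 chkP_33450 i (by omega) (by omega)
              · skip
                rcases Nat.lt_or_ge i 33500 with h8 | h8
                · skip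
                  exact allRangeF_sound _ _ (checkPointF_eq cert) 33475 25 chkP_33475 i (by omega) (by omega)
                · skip
                  rcases Nat.lt_or_ge i 33525 with h9 | h9
                  · skip
                    exact allRangeF_sound _ _ (checkPointF_eq cert) 33500 25 chkP_33500 i (by omega) (by omega)
                  · skip
                    exact allRangeF_sound _ _ (checkPointF_eq cert) 33525 25 chkP_33525 i (by omega) (by omega)
      · skip
        rcases Nat.lt_or_ge i 34025 with h4 | h4
        · skip
          rcases Nat.lt_or_ge i 33775 with h5 | h5
          · skip
            rcases Nat.lt_or_ge i 33650 with h6 | h6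
            · skip
              rcases Nat.lt_or_ge i 33600 with h7 | h7
              · skip
                rcases Nat.lt_or_ge i 33575 with h8 | h8
                · skip
                  exact allRangeF_sound _ _ (checkPointF_eq cert) 33550 25 chkP_33550 i (by omega) (by omega)
                · skip
                  exact allRangeF_sound _ _ (checkPointF_eq cert) 33575 25 chkP_33575 i (by omega) (by omega)
              · skip
                rcases Nat.lt_or_ge i 33625 with h8 | h8
                · skip
                  exact allRangeF_sound _ _ (checkPointF_eq cert) 33600 25 chkP_33600 i (by omega) (by omega)
                · skip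
                  exact allRangeF_sound _ _ (checkPointF_eq cert) 33625 25 chkP_33625 i (by omega) (by omega)
            · skip
              rcases Nat.lt_or_ge i 33700 with h7 | h7
              · skip
                rcases Nat.lt_or_ge i 33675 with h8 | h8
                · skip
                  exact allRangeF_sound _ _ (checkPointF_eq cert) 33650 25 chkP_33650 i (by omega) (by omega)
                · skip
                  exact allRangeF_sound _ _ (checkPointF_eq cert) 33675 25 chkP_33675 i (by omega) (by omega)
              · skip
                rcases Nat.lt_or_ge i 33725 with h8 | h8
                · skip
                  exact allRangeF_sound _ _ (checkPointF_eq cert) 33700 25 chkP_33700 i (by omega) (by omega)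
                · skip
                  rcases Nat.lt_or_ge i 33750 with h9 | h9
                  · skip
                    exact allRangeF_sound _ _ (checkPointF_eq cert) 33725 25 chkP_33725 i (by omega) (by omega)
                  · skip
                    exact allRangeF_sound _ _ (checkPointF_eq cert) 33750 25 chkP_33750 i (by omega) (by omega)
          · skip
            rcases Nat.lt_or_ge i 33900 with h6 | h6
            · skip
              rcases Nat.lt_or_ge i 33825 with h7 | h7
              · skip
                rcases Nat.lt_or_ge i 33800 with h8 | h8
                · skip
                  exact allRangeF_sound _ _ (checkPointF_eq cert) 33775 25 chkP_33775 i (by omega) (by omega)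
                · skip
                  exact allRangeF_sound _ _ (checkPointF_eq cert) 33800 25 chkP_33800 i (by omega) (by omega)
              · skip
                rcases Nat.lt_or_ge i 33850 with h8 | h8
                · skip
                  exact allRangeF_sound _ _ (checkPointF_eq cert) 33825 25 chkP_33825 i (by omega) (by omega)
                · skip
                  rcases Nat.lt_or_ge i 33875 with h9 | h9
                  · skip
                    exact allRangeF_sound _ _ (checkPointF_eq cert) 33850 25 chkP_33850 i (by omega) (by omega)
                  · skip
                    exact allRangeF_sound _ _ (checkPointF_eq cert) 33875 25 chkP_33875 i (by omega) (by omega)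
            · skip
              rcases Nat.lt_or_ge i 33950 with h7 | h7
              · skip
                rcases Nat.lt_or_ge i 33925 with h8 | h8
                · skip
                  exact allRangeF_sound _ _ (checkPointF_eq cert) 33900 25 chkP_33900 i (by omega) (by omega)
                · skip
                  exact allRangeF_sound _ _ (checkPointF_eq cert) 33925 25 chkP_33925 i (by omega) (by omega)
              · skip
                rcases Nat.lt_or_ge i 33975 with h8 | h8
                · skip
                  exact allRangeF_sound _ _ (checkPointF_eq cert) 33950 25 chkP_33950 i (by omega) (by omega)
                · skip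
                  rcases Nat.lt_or_ge i 34000 with h9 | h9
                  · skip
                    exact allRangeF_sound _ _ (checkPointF_eq cert) 33975 25 chkP_33975 i (by omega) (by omega)
                  · skip
                    exact allRangeF_sound _ _ (checkPointF_eq cert) 34000 25 chkP_34000 i (by omega) (by omega)
        · skip
          rcases Nat.lt_or_ge i 34275 with h5 | h5
          · skip
            rcases Nat.lt_or_ge i 34150 with h6 | h6
            · skip
              rcases Nat.lt_or_ge i 34075 with h7 | h7
              · skip
                rcases Nat.lt_or_ge i 34050 with h8 | h8
                · skip
                  exact allRangeF_sound _ _ (checkPointF_eq cert) 34025 25 chkP_34025 i (by omega) (by omega)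
                · skip
                  exact allRangeF_sound _ _ (checkPointF_eq cert) 34050 25 chkP_34050 i (by omega) (by omega)
              · skip
                rcases Nat.lt_or_ge i 34100 with h8 | h8
                · skip
                  exact allRangeF_sound _ _ (checkPointF_eq cert) 34075 25 chkP_34075 i (by omega) (by omega)
                · skip
                  rcases Nat.lt_or_ge i 34125 with h9 | h9
                  · skip
                    exact allRangeF_sound _ _ (checkPointF_eq cert) 34100 25 chkP_34100 i (by omega) (by omega)
                  · skip
                    exact allRangeF_sound _ _ (checkPointF_eq cert) 34125 25 chkP_34125 i (by omega) (by omega)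
            · skip
              rcases Nat.lt_or_ge i 34200 with h7 | h7
              · skip
                rcases Nat.lt_or_ge i 34175 with h8 | h8
                · skip
                  exact allRangeF_sound _ _ (checkPointF_eq cert) 34150 25 chkP_34150 i (by omega) (by omega)
                · skip
                  exact allRangeF_sound _ _ (checkPointF_eq cert) 34175 25 chkP_34175 i (by omega) (by omega)
              · skip
                rcases Nat.lt_or_ge i 34225 with h8 | h8
                · skip
                  exact allRangeF_sound _ _ (checkPointF_eq cert) 34200 25 chkP_34200 i (by omega) (by omega)
                · skip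
                  rcases Nat.lt_or_ge i 34250 with h9 | h9
                  · skip
                    exact allRangeF_sound _ _ (checkPointF_eq cert) 34225 25 chkP_34225 i (by omega) (by omega)
                  · skip
                    exact allRangeF_sound _ _ (checkPointF_eq cert) 34250 25 chkP_34250 i (by omega) (by omega)
          · skip
            rcases Nat.lt_or_ge i 34400 with h6 | h6
            · skip
              rcases Nat.lt_or_ge i 34325 with h7 | h7
              · skip
                rcases Nat.lt_or_ge i 34300 with h8 | h8
                · skip
                  exact allRangeF_sound _ _ (checkPointF_eq cert) 34275 25 chkP_34275 i (by omega) (by omega)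
                · skip
                  exact allRangeF_sound _ _ (checkPointF_eq cert) 34300 25 chkP_34300 i (by omega) (by omega)
              · skip
                rcases Nat.lt_or_ge i 34350 with h8 | h8
                · skip
                  exact allRangeF_sound _ _ (checkPointF_eq cert) 34325 25 chkP_34325 i (by omega) (by omega)
                · skip
                  rcases Nat.lt_or_ge i 34375 with h9 | h9
                  · skip
                    exact allRangeF_sound _ _ (checkPointF_eq cert) 34350 25 chkP_34350 i (by omega) (by omega)
                  · skip
                    exact allRangeF_sound _ _ (checkPointF_eq cert) 34375 25 chkP_34375 i (by omega) (by omega)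
            · skip
              rcases Nat.lt_or_ge i 34450 with h7 | h7
              · skip
                rcases Nat.lt_or_ge i 34425 with h8 | h8
                · skip
                  exact allRangeF_sound _ _ (checkPointF_eq cert) 34400 25 chkP_34400 i (by omega) (by omega)
                · skip
                  exact allRangeF_sound _ _ (checkPointF_eq cert) 34425 25 chkP_34425 i (by omega) (by omega)
              · skip
                rcases Nat.lt_or_ge i 34475 with h8 | h8
                · skip
                  exact allRangeF_sound _ _ (checkPointF_eq cert) 34450 25 chkP_34450 i (by omega) (by omega)
                · skip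
                  rcases Nat.lt_or_ge i 34500 with h9 | h9
                  · skip
                    exact allRangeF_sound _ _ (checkPointF_eq cert) 34475 25 chkP_34475 i (by omega) (by omega)
                  · skip
                    exact allRangeF_sound _ _ (checkPointF_eq cert) 34500 25 chkP_34500 i (by omega) (by omega)
  · skip
    rcases Nat.lt_or_ge i 36450 with h2 | h2
    · skip
      rcases Nat.lt_or_ge i 35475 with h3 | h3
      · skip
        rcases Nat.lt_or_ge i 35000 with h4 | h4
        · skip
          rcases Nat.lt_or_ge i 34750 with h5 | h5
          · skip
            rcases Nat.lt_or_ge i 34625 with h6 | h6
            · skip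
              rcases Nat.lt_or_ge i 34575 with h7 | h7
              · skip
                rcases Nat.lt_or_ge i 34550 with h8 | h8
                · skip
                  exact allRangeF_sound _ _ (checkPointF_eq cert) 34525 25 chkP_34525 i (by omega) (by omega)
                · skip
                  exact allRangeF_sound _ _ (checkPointF_eq cert) 34550 25 chkP_34550 i (by omega) (by omega)
              · skip
                rcases Nat.lt_or_ge i 34600 with h8 | h8
                · skip
                  exact allRangeF_sound _ _ (checkPointF_eq cert) 34575 25 chkP_34575 i (by omega) (by omega)
                · skip
                  exact allRangeF_sound _ _ (checkPointF_eq cert) 34600 25 chkP_34600 i (by omega) (by omega)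
            · skip
              rcases Nat.lt_or_ge i 34675 with h7 | h7
              · skip
                rcases Nat.lt_or_ge i 34650 with h8 | h8
                · skip
                  exact allRangeF_sound _ _ (checkPointF_eq cert) 34625 25 chkP_34625 i (by omega) (by omega)
                · skip
                  exact allRangeF_sound _ _ (checkPointF_eq cert) 34650 25 chkP_34650 i (by omega) (by omega)
              · skip
                rcases Nat.lt_or_ge i 34700 with h8 | h8
                · skip
                  exact allRangeF_sound _ _ (checkPointF_eq cert) 34675 25 chkP_34675 i (by omega) (by omega)
                · skip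
                  rcases Nat.lt_or_ge i 34725 with h9 | h9
                  · skip
                    exact allRangeF_sound _ _ (checkPointF_eq cert) 34700 25 chkP_34700 i (by omega) (by omega)
                  · skip
                    exact allRangeF_sound _ _ (checkPointF_eq cert) 34725 25 chkP_34725 i (by omega) (by omega)
          · skip
            rcases Nat.lt_or_ge i 34875 with h6 | h6
            · skip
              rcases Nat.lt_or_ge i 34800 with h7 | h7
              · skip
                rcases Nat.lt_or_ge i 34775 with h8 | h8
                · skip
                  exact allRangeF_sound _ _ (checkPointF_eq cert) 34750 25 chkP_34750 i (by omega) (by omega)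
                · skip
                  exact allRangeF_sound _ _ (checkPointF_eq cert) 34775 25 chkP_34775 i (by omega) (by omega)
              · skip
                rcases Nat.lt_or_ge i 34825 with h8 | h8
                · skip
                  exact allRangeF_sound _ _ (checkPointF_eq cert) 34800 25 chkP_34800 i (by omega) (by omega)
                · skip
                  rcases Nat.lt_or_ge i 34850 with h9 | h9
                  · skip
                    exact allRangeF_sound _ _ (checkPointF_eq cert) 34825 25 chkP_34825 i (by omega) (by omega)
                  · skip
                    exact allRangeF_sound _ _ (checkPointF_eq cert) 34850 25 chkP_34850 i (by omega) (by omega)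
            · skip
              rcases Nat.lt_or_ge i 34925 with h7 | h7
              · skip
                rcases Nat.lt_or_ge i 34900 with h8 | h8
                · skip
                  exact allRangeF_sound _ _ (checkPointF_eq cert) 34875 25 chkP_34875 i (by omega) (by omega)
                · skip
                  exact allRangeF_sound _ _ (checkPointF_eq cert) 34900 25 chkP_34900 i (by omega) (by omega)
              · skip
                rcases Nat.lt_or_ge i 34950 with h8 | h8
                · skip
                  exact allRangeF_sound _ _ (checkPointF_eq cert) 34925 25 chkP_34925 i (by omega) (by omega)
                · skip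
                  rcases Nat.lt_or_ge i 34975 with h9 | h9
                  · skip
                    exact allRangeF_sound _ _ (checkPointF_eq cert) 34950 25 chkP_34950 i (by omega) (by omega)
                  · skip
                    exact allRangeF_sound _ _ (checkPointF_eq cert) 34975 25 chkP_34975 i (by omega) (by omega)
        · skip
          rcases Nat.lt_or_ge i 35225 with h5 | h5
          · skip
            rcases Nat.lt_or_ge i 35100 with h6 | h6
            · skip
              rcases Nat.lt_or_ge i 35050 with h7 | h7
              · skip
                rcases Nat.lt_or_ge i 35025 with h8 | h8
                · skip
                  exact allRangeF_sound _ _ (checkPointF_eq cert) 35000 25 chkP_35000 i (by omega) (by omega)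
                · skip
                  exact allRangeF_sound _ _ (checkPointF_eq cert) 35025 25 chkP_35025 i (by omega) (by omega)
              · skip
                rcases Nat.lt_or_ge i 35075 with h8 | h8
                · skip
                  exact allRangeF_sound _ _ (checkPointF_eq cert) 35050 25 chkP_35050 i (by omega) (by omega)
                · skip
                  exact allRangeF_sound _ _ (checkPointF_eq cert) 35075 25 chkP_35075 i (by omega) (by omega)
            · skip
              rcases Nat.lt_or_ge i 35150 with h7 | h7
              · skip
                rcases Nat.lt_or_ge i 35125 with h8 | h8
                · skip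
                  exact allRangeF_sound _ _ (checkPointF_eq cert) 35100 25 chkP_35100 i (by omega) (by omega)
                · skip
                  exact allRangeF_sound _ _ (checkPointF_eq cert) 35125 25 chkP_35125 i (by omega) (by omega)
              · skip
                rcases Nat.lt_or_ge i 35175 with h8 | h8
                · skip
                  exact allRangeF_sound _ _ (checkPointF_eq cert) 35150 25 chkP_35150 i (by omega) (by omega)
                · skip
                  rcases Nat.lt_or_ge i 35200 with h9 | h9
                  · skip
                    exact allRangeF_sound _ _ (checkPointF_eq cert) 35175 25 chkP_35175 i (by omega) (by omega)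
                  · skip
                    exact allRangeF_sound _ _ (checkPointF_eq cert) 35200 25 chkP_35200 i (by omega) (by omega)
          · skip
            rcases Nat.lt_or_ge i 35350 with h6 | h6
            · skip
              rcases Nat.lt_or_ge i 35275 with h7 | h7
              · skip
                rcases Nat.lt_or_ge i 35250 with h8 | h8
                · skip
                  exact allRangeF_sound _ _ (checkPointF_eq cert) 35225 25 chkP_35225 i (by omega) (by omega)
                · skip
                  exact allRangeF_sound _ _ (checkPointF_eq cert) 35250 25 chkP_35250 i (by omega) (by omega)
              · skip
                rcases Nat.lt_or_ge i 35300 with h8 | h8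
                · skip
                  exact allRangeF_sound _ _ (checkPointF_eq cert) 35275 25 chkP_35275 i (by omega) (by omega)
                · skip
                  rcases Nat.lt_or_ge i 35325 with h9 | h9
                  · skip
                    exact allRangeF_sound _ _ (checkPointF_eq cert) 35300 25 chkP_35300 i (by omega) (by omega)
                  · skip
                    exact allRangeF_sound _ _ (checkPointF_eq cert) 35325 25 chkP_35325 i (by omega) (by omega)
            · skip
              rcases Nat.lt_or_ge i 35400 with h7 | h7
              · skip
                rcases Nat.lt_or_ge i 35375 with h8 | h8
                · skip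
                  exact allRangeF_sound _ _ (checkPointF_eq cert) 35350 25 chkP_35350 i (by omega) (by omega)
                · skip
                  exact allRangeF_sound _ _ (checkPointF_eq cert) 35375 25 chkP_35375 i (by omega) (by omega)
              · skip
                rcases Nat.lt_or_ge i 35425 with h8 | h8
                · skip
                  exact allRangeF_sound _ _ (checkPointF_eq cert) 35400 25 chkP_35400 i (by omega) (by omega)
                · skip
                  rcases Nat.lt_or_ge i 35450 with h9 | h9
                  · skip
                    exact allRangeF_sound _ _ (checkPointF_eq cert) 35425 25 chkP_35425 i (by omega) (by omega)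
                  · skip
                    exact allRangeF_sound _ _ (checkPointF_eq cert) 35450 25 chkP_35450 i (by omega) (by omega)
      · skip
        rcases Nat.lt_or_ge i 35950 with h4 | h4
        · skip
          rcases Nat.lt_or_ge i 35700 with h5 | h5
          · skip
            rcases Nat.lt_or_ge i 35575 with h6 | h6
            · skip
              rcases Nat.lt_or_ge i 35525 with h7 | h7
              · skip
                rcases Nat.lt_or_ge i 35500 with h8 | h8
                · skip
                  exact allRangeF_sound _ _ (checkPointF_eq cert) 35475 25 chkP_35475 i (by omega) (by omega)
                · skip
                  exact allRangeF_sound _ _ (checkPointF_eq cert) 35500 25 chkP_35500 i (by omega) (by omega)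
              · skip
                rcases Nat.lt_or_ge i 35550 with h8 | h8
                · skip
                  exact allRangeF_sound _ _ (checkPointF_eq cert) 35525 25 chkP_35525 i (by omega) (by omega)
                · skip
                  exact allRangeF_sound _ _ (checkPointF_eq cert) 35550 25 chkP_35550 i (by omega) (by omega)
            · skip
              rcases Nat.lt_or_ge i 35625 with h7 | h7
              · skip
                rcases Nat.lt_or_ge i 35600 with h8 | h8
                · skip
                  exact allRangeF_sound _ _ (checkPointF_eq cert) 35575 25 chkP_35575 i (by omega) (by omega)
                · skip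
                  exact allRangeF_sound _ _ (checkPointF_eq cert) 35600 25 chkP_35600 i (by omega) (by omega)
              · skip
                rcases Nat.lt_or_ge i 35650 with h8 | h8
                · skip
                  exact allRangeF_sound _ _ (checkPointF_eq cert) 35625 25 chkP_35625 i (by omega) (by omega)
                · skip
                  rcases Nat.lt_or_ge i 35675 with h9 | h9
                  · skip
                    exact allRangeF_sound _ _ (checkPointF_eq cert) 35650 25 chkP_35650 i (by omega) (by omega)
                  · skip
                    exact allRangeF_sound _ _ (checkPointF_eq cert) 35675 25 chkP_35675 i (by omega) (by omega)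
          · skip
            rcases Nat.lt_or_ge i 35825 with h6 | h6
            · skip
              rcases Nat.lt_or_ge i 35750 with h7 | h7
              · skip
                rcases Nat.lt_or_ge i 35725 with h8 | h8
                · skip
                  exact allRangeF_sound _ _ (checkPointF_eq cert) 35700 25 chkP_35700 i (by omega) (by omega)
                · skip
                  exact allRangeF_sound _ _ (checkPointF_eq cert) 35725 25 chkP_35725 i (by omega) (by omega)
              · skip
                rcases Nat.lt_or_ge i 35775 with h8 | h8
                · skip
                  exact allRangeF_sound _ _ (checkPointF_eq cert) 35750 25 chkP_35750 i (by omega) (by omega)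
                · skip
                  rcases Nat.lt_or_ge i 35800 with h9 | h9
                  · skip
                    exact allRangeF_sound _ _ (checkPointF_eq cert) 35775 25 chkP_35775 i (by omega) (by omega)
                  · skip
                    exact allRangeF_sound _ _ (checkPointF_eq cert) 35800 25 chkP_35800 i (by omega) (by omega)
            · skip
              rcases Nat.lt_or_ge i 35875 with h7 | h7
              · skip
                rcases Nat.lt_or_ge i 35850 with h8 | h8
                · skip
                  exact allRangeF_sound _ _ (checkPointF_eq cert) 35825 25 chkP_35825 i (by omega) (by omega)
                · skip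
                  exact allRangeF_sound _ _ (checkPointF_eq cert) 35850 25 chkP_35850 i (by omega) (by omega)
              · skip
                rcases Nat.lt_or_ge i 35900 with h8 | h8
                · skip
                  exact allRangeF_sound _ _ (checkPointF_eq cert) 35875 25 chkP_35875 i (by omega) (by omega)
                · skip
                  rcases Nat.lt_or_ge i 35925 with h9 | h9
                  · skip
                    exact allRangeF_sound _ _ (checkPointF_eq cert) 35900 25 chkP_35900 i (by omega) (by omega)
                  · skip
                    exact allRangeF_sound _ _ (checkPointF_eq cert) 35925 25 chkP_35925 i (by omega) (by omega)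
        · skip
          rcases Nat.lt_or_ge i 36200 with h5 | h5
          · skip
            rcases Nat.lt_or_ge i 36075 with h6 | h6
            · skip
              rcases Nat.lt_or_ge i 36000 with h7 | h7
              · skip
                rcases Nat.lt_or_ge i 35975 with h8 | h8
                · skip
                  exact allRangeF_sound _ _ (checkPointF_eq cert) 35950 25 chkP_35950 i (by omega) (by omega)
                · skip
                  exact allRangeF_sound _ _ (checkPointF_eq cert) 35975 25 chkP_35975 i (by omega) (by omega)
              · skip
                rcases Nat.lt_or_ge i 36025 with h8 | h8
                · skip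
                  exact allRangeF_sound _ _ (checkPointF_eq cert) 36000 25 chkP_36000 i (by omega) (by omega)
                · skip
                  rcases Nat.lt_or_ge i 36050 with h9 | h9
                  · skip
                    exact allRangeF_sound _ _ (checkPointF_eq cert) 36025 25 chkP_36025 i (by omega) (by omega)
                  · skip
                    exact allRangeF_sound _ _ (checkPointF_eq cert) 36050 25 chkP_36050 i (by omega) (by omega)
            · skip
              rcases Nat.lt_or_ge i 36125 with h7 | h7
              · skip
                rcases Nat.lt_or_ge i 36100 with h8 | h8
                · skip
                  exact allRangeF_sound _ _ (checkPointF_eq cert) 36075 25 chkP_36075 i (by omega) (by omega)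
                · skip
                  exact allRangeF_sound _ _ (checkPointF_eq cert) 36100 25 chkP_36100 i (by omega) (by omega)
              · skip
                rcases Nat.lt_or_ge i 36150 with h8 | h8
                · skip
                  exact allRangeF_sound _ _ (checkPointF_eq cert) 36125 25 chkP_36125 i (by omega) (by omega)
                · skip
                  rcases Nat.lt_or_ge i 36175 with h9 | h9
                  · skip
                    exact allRangeF_sound _ _ (checkPointF_eq cert) 36150 25 chkP_36150 i (by omega) (by omega)
                  · skip
                    exact allRangeF_sound _ _ (checkPointF_eq cert) 36175 25 chkP_36175 i (by omega) (by omega)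
          · skip
            rcases Nat.lt_or_ge i 36325 with h6 | h6
            · skip
              rcases Nat.lt_or_ge i 36250 with h7 | h7
              · skip
                rcases Nat.lt_or_ge i 36225 with h8 | h8
                · skip
                  exact allRangeF_sound _ _ (checkPointF_eq cert) 36200 25 chkP_36200 i (by omega) (by omega)
                · skip
                  exact allRangeF_sound _ _ (checkPointF_eq cert) 36225 25 chkP_36225 i (by omega) (by omega)
              · skip
                rcases Nat.lt_or_ge i 36275 with h8 | h8
                · skip
                  exact allRangeF_sound _ _ (checkPointF_eq cert) 36250 25 chkP_36250 i (by omega) (by omega)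
                · skip
                  rcases Nat.lt_or_ge i 36300 with h9 | h9
                  · skip
                    exact allRangeF_sound _ _ (checkPointF_eq cert) 36275 25 chkP_36275 i (by omega) (by omega)
                  · skip
                    exact allRangeF_sound _ _ (checkPointF_eq cert) 36300 25 chkP_36300 i (by omega) (by omega)
            · skip
              rcases Nat.lt_or_ge i 36375 with h7 | h7
              · skip
                rcases Nat.lt_or_ge i 36350 with h8 | h8
                · skip
                  exact allRangeF_sound _ _ (checkPointF_eq cert) 36325 25 chkP_36325 i (by omega) (by omega)
                · skip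
                  exact allRangeF_sound _ _ (checkPointF_eq cert) 36350 25 chkP_36350 i (by omega) (by omega)
              · skip
                rcases Nat.lt_or_ge i 36400 with h8 | h8
                · skip
                  exact allRangeF_sound _ _ (checkPointF_eq cert) 36375 25 chkP_36375 i (by omega) (by omega)
                · skip
                  rcases Nat.lt_or_ge i 36425 with h9 | h9
                  · skip
                    exact allRangeF_sound _ _ (checkPointF_eq cert) 36400 25 chkP_36400 i (by omega) (by omega)
                  · skip
                    exact allRangeF_sound _ _ (checkPointF_eq cert) 36425 25 chkP_36425 i (by omega) (by omega)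
    · skip
      rcases Nat.lt_or_ge i 37400 with h3 | h3
      · skip
        rcases Nat.lt_or_ge i 36925 with h4 | h4
        · skip
          rcases Nat.lt_or_ge i 36675 with h5 | h5
          · skip
            rcases Nat.lt_or_ge i 36550 with h6 | h6
            · skip
              rcases Nat.lt_or_ge i 36500 with h7 | h7
              · skip
                rcases Nat.lt_or_ge i 36475 with h8 | h8
                · skip
                  exact allRangeF_sound _ _ (checkPointF_eq cert) 36450 25 chkP_36450 i (by omega) (by omega)
                · skip
                  exact allRangeF_sound _ _ (checkPointF_eq cert) 36475 25 chkP_36475 i (by omega) (by omega)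
              · skip
                rcases Nat.lt_or_ge i 36525 with h8 | h8
                · skip
                  exact allRangeF_sound _ _ (checkPointF_eq cert) 36500 25 chkP_36500 i (by omega) (by omega)
                · skip
                  exact allRangeF_sound _ _ (checkPointF_eq cert) 36525 25 chkP_36525 i (by omega) (by omega)
            · skip
              rcases Nat.lt_or_ge i 36600 with h7 | h7
              · skip
                rcases Nat.lt_or_ge i 36575 with h8 | h8
                · skip
                  exact allRangeF_sound _ _ (checkPointF_eq cert) 36550 25 chkP_36550 i (by omega) (by omega)
                · skip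
                  exact allRangeF_sound _ _ (checkPointF_eq cert) 36575 25 chkP_36575 i (by omega) (by omega)
              · skip
                rcases Nat.lt_or_ge i 36625 with h8 | h8
                · skip
                  exact allRangeF_sound _ _ (checkPointF_eq cert) 36600 25 chkP_36600 i (by omega) (by omega)
                · skip
                  rcases Nat.lt_or_ge i 36650 with h9 | h9
                  · skip
                    exact allRangeF_sound _ _ (checkPointF_eq cert) 36625 25 chkP_36625 i (by omega) (by omega)
                  · skip
                    exact allRangeF_sound _ _ (checkPointF_eq cert) 36650 25 chkP_36650 i (by omega) (by omega)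
          · skip
            rcases Nat.lt_or_ge i 36800 with h6 | h6
            · skip
              rcases Nat.lt_or_ge i 36725 with h7 | h7
              · skip
                rcases Nat.lt_or_ge i 36700 with h8 | h8
                · skip
                  exact allRangeF_sound _ _ (checkPointF_eq cert) 36675 25 chkP_36675 i (by omega) (by omega)
                · skip
                  exact allRangeF_sound _ _ (checkPointF_eq cert) 36700 25 chkP_36700 i (by omega) (by omega)
              · skip
                rcases Nat.lt_or_ge i 36750 with h8 | h8
                · skip
                  exact allRangeF_sound _ _ (checkPointF_eq cert) 36725 25 chkP_36725 i (by omega) (by omega)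
                · skip
                  rcases Nat.lt_or_ge i 36775 with h9 | h9
                  · skip
                    exact allRangeF_sound _ _ (checkPointF_eq cert) 36750 25 chkP_36750 i (by omega) (by omega)
                  · skip
                    exact allRangeF_sound _ _ (checkPointF_eq cert) 36775 25 chkP_36775 i (by omega) (by omega)
            · skip
              rcases Nat.lt_or_ge i 36850 with h7 | h7
              · skip
                rcases Nat.lt_or_ge i 36825 with h8 | h8
                · skip
                  exact allRangeF_sound _ _ (checkPointF_eq cert) 36800 25 chkP_36800 i (by omega) (by omega)
                · skip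
                  exact allRangeF_sound _ _ (checkPointF_eq cert) 36825 25 chkP_36825 i (by omega) (by omega)
              · skip
                rcases Nat.lt_or_ge i 36875 with h8 | h8
                · skip
                  exact allRangeF_sound _ _ (checkPointF_eq cert) 36850 25 chkP_36850 i (by omega) (by omega)
                · skip
                  rcases Nat.lt_or_ge i 36900 with h9 | h9
                  · skip
                    exact allRangeF_sound _ _ (checkPointF_eq cert) 36875 25 chkP_36875 i (by omega) (by omega)
                  · skip
                    exact allRangeF_sound _ _ (checkPointF_eq cert) 36900 25 chkP_36900 i (by omega) (by omega)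
        · skip
          rcases Nat.lt_or_ge i 37150 with h5 | h5
          · skip
            rcases Nat.lt_or_ge i 37025 with h6 | h6
            · skip
              rcases Nat.lt_or_ge i 36975 with h7 | h7
              · skip
                rcases Nat.lt_or_ge i 36950 with h8 | h8
                · skip
                  exact allRangeF_sound _ _ (checkPointF_eq cert) 36925 25 chkP_36925 i (by omega) (by omega)
                · skip
                  exact allRangeF_sound _ _ (checkPointF_eq cert) 36950 25 chkP_36950 i (by omega) (by omega)
              · skip
                rcases Nat.lt_or_ge i 37000 with h8 | h8
                · skip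
                  exact allRangeF_sound _ _ (checkPointF_eq cert) 36975 25 chkP_36975 i (by omega) (by omega)
                · skip
                  exact allRangeF_sound _ _ (checkPointF_eq cert) 37000 25 chkP_37000 i (by omega) (by omega)
            · skip
              rcases Nat.lt_or_ge i 37075 with h7 | h7
              · skip
                rcases Nat.lt_or_ge i 37050 with h8 | h8
                · skip
                  exact allRangeF_sound _ _ (checkPointF_eq cert) 37025 25 chkP_37025 i (by omega) (by omega)
                · skip
                  exact allRangeF_sound _ _ (checkPointF_eq cert) 37050 25 chkP_37050 i (by omega) (by omega)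
              · skip
                rcases Nat.lt_or_ge i 37100 with h8 | h8
                · skip
                  exact allRangeF_sound _ _ (checkPointF_eq cert) 37075 25 chkP_37075 i (by omega) (by omega)
                · skip
                  rcases Nat.lt_or_ge i 37125 with h9 | h9
                  · skip
                    exact allRangeF_sound _ _ (checkPointF_eq cert) 37100 25 chkP_37100 i (by omega) (by omega)
                  · skip
                    exact allRangeF_sound _ _ (checkPointF_eq cert) 37125 25 chkP_37125 i (by omega) (by omega)
          · skip
            rcases Nat.lt_or_ge i 37275 with h6 | h6
            · skip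
              rcases Nat.lt_or_ge i 37200 with h7 | h7
              · skip
                rcases Nat.lt_or_ge i 37175 with h8 | h8
                · skip
                  exact allRangeF_sound _ _ (checkPointF_eq cert) 37150 25 chkP_37150 i (by omega) (by omega)
                · skip
                  exact allRangeF_sound _ _ (checkPointF_eq cert) 37175 25 chkP_37175 i (by omega) (by omega)
              · skip
                rcases Nat.lt_or_ge i 37225 with h8 | h8
                · skip
                  exact allRangeF_sound _ _ (checkPointF_eq cert) 37200 25 chkP_37200 i (by omega) (by omega)
                · skip
                  rcases Nat.lt_or_ge i 37250 with h9 | h9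
                  · skip
                    exact allRangeF_sound _ _ (checkPointF_eq cert) 37225 25 chkP_37225 i (by omega) (by omega)
                  · skip
                    exact allRangeF_sound _ _ (checkPointF_eq cert) 37250 25 chkP_37250 i (by omega) (by omega)
            · skip
              rcases Nat.lt_or_ge i 37325 with h7 | h7
              · skip
                rcases Nat.lt_or_ge i 37300 with h8 | h8
                · skip
                  exact allRangeF_sound _ _ (checkPointF_eq cert) 37275 25 chkP_37275 i (by omega) (by omega)
                · skip
                  exact allRangeF_sound _ _ (checkPointF_eq cert) 37300 25 chkP_37300 i (by omega) (by omega)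
              · skip
                rcases Nat.lt_or_ge i 37350 with h8 | h8
                · skip
                  exact allRangeF_sound _ _ (checkPointF_eq cert) 37325 25 chkP_37325 i (by omega) (by omega)
                · skip
                  rcases Nat.lt_or_ge i 37375 with h9 | h9
                  · skip
                    exact allRangeF_sound _ _ (checkPointF_eq cert) 37350 25 chkP_37350 i (by omega) (by omega)
                  · skip
                    exact allRangeF_sound _ _ (checkPointF_eq cert) 37375 25 chkP_37375 i (by omega) (by omega)
      · skip
        rcases Nat.lt_or_ge i 37875 with h4 | h4
        · skip
          rcases Nat.lt_or_ge i 37625 with h5 | h5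
          · skip
            rcases Nat.lt_or_ge i 37500 with h6 | h6
            · skip
              rcases Nat.lt_or_ge i 37450 with h7 | h7
              · skip
                rcases Nat.lt_or_ge i 37425 with h8 | h8
                · skip
                  exact allRangeF_sound _ _ (checkPointF_eq cert) 37400 25 chkP_37400 i (by omega) (by omega)
                · skip
                  exact allRangeF_sound _ _ (checkPointF_eq cert) 37425 25 chkP_37425 i (by omega) (by omega)
              · skip
                rcases Nat.lt_or_ge i 37475 with h8 | h8
                · skip
                  exact allRangeF_sound _ _ (checkPointF_eq cert) 37450 25 chkP_37450 i (by omega) (by omega)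
                · skip
                  exact allRangeF_sound _ _ (checkPointF_eq cert) 37475 25 chkP_37475 i (by omega) (by omega)
            · skip
              rcases Nat.lt_or_ge i 37550 with h7 | h7
              · skip
                rcases Nat.lt_or_ge i 37525 with h8 | h8
                · skip
                  exact allRangeF_sound _ _ (checkPointF_eq cert) 37500 25 chkP_37500 i (by omega) (by omega)
                · skip
                  exact allRangeF_sound _ _ (checkPointF_eq cert) 37525 25 chkP_37525 i (by omega) (by omega)
              · skip
                rcases Nat.lt_or_ge i 37575 with h8 | h8
                · skip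
                  exact allRangeF_sound _ _ (checkPointF_eq cert) 37550 25 chkP_37550 i (by omega) (by omega)
                · skip
                  rcases Nat.lt_or_ge i 37600 with h9 | h9
                  · skip
                    exact allRangeF_sound _ _ (checkPointF_eq cert) 37575 25 chkP_37575 i (by omega) (by omega)
                  · skip
                    exact allRangeF_sound _ _ (checkPointF_eq cert) 37600 25 chkP_37600 i (by omega) (by omega)
          · skip
            rcases Nat.lt_or_ge i 37750 with h6 | h6
            · skip
              rcases Nat.lt_or_ge i 37675 with h7 | h7
              · skip
                rcases Nat.lt_or_ge i 37650 with h8 | h8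
                · skip
                  exact allRangeF_sound _ _ (checkPointF_eq cert) 37625 25 chkP_37625 i (by omega) (by omega)
                · skip
                  exact allRangeF_sound _ _ (checkPointF_eq cert) 37650 25 chkP_37650 i (by omega) (by omega)
              · skip
                rcases Nat.lt_or_ge i 37700 with h8 | h8
                · skip
                  exact allRangeF_sound _ _ (checkPointF_eq cert) 37675 25 chkP_37675 i (by omega) (by omega)
                · skip
                  rcases Nat.lt_or_ge i 37725 with h9 | h9
                  · skip
                    exact allRangeF_sound _ _ (checkPointF_eq cert) 37700 25 chkP_37700 i (by omega) (by omega)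
                  · skip
                    exact allRangeF_sound _ _ (checkPointF_eq cert) 37725 25 chkP_37725 i (by omega) (by omega)
            · skip
              rcases Nat.lt_or_ge i 37800 with h7 | h7
              · skip
                rcases Nat.lt_or_ge i 37775 with h8 | h8
                · skip
                  exact allRangeF_sound _ _ (checkPointF_eq cert) 37750 25 chkP_37750 i (by omega) (by omega)
                · skip
                  exact allRangeF_sound _ _ (checkPointF_eq cert) 37775 25 chkP_37775 i (by omega) (by omega)
              · skip
                rcases Nat.lt_or_ge i 37825 with h8 | h8
                · skip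
                  exact allRangeF_sound _ _ (checkPointF_eq cert) 37800 25 chkP_37800 i (by omega) (by omega)
                · skip
                  rcases Nat.lt_or_ge i 37850 with h9 | h9
                  · skip
                    exact allRangeF_sound _ _ (checkPointF_eq cert) 37825 25 chkP_37825 i (by omega) (by omega)
                  · skip
                    exact allRangeF_sound _ _ (checkPointF_eq cert) 37850 25 chkP_37850 i (by omega) (by omega)
        · skip
          rcases Nat.lt_or_ge i 38125 with h5 | h5
          · skip
            rcases Nat.lt_or_ge i 38000 with h6 | h6
            · skip
              rcases Nat.lt_or_ge i 37925 with h7 | h7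
              · skip
                rcases Nat.lt_or_ge i 37900 with h8 | h8
                · skip
                  exact allRangeF_sound _ _ (checkPointF_eq cert) 37875 25 chkP_37875 i (by omega) (by omega)
                · skip
                  exact allRangeF_sound _ _ (checkPointF_eq cert) 37900 25 chkP_37900 i (by omega) (by omega)
              · skip
                rcases Nat.lt_or_ge i 37950 with h8 | h8
                · skip
                  exact allRangeF_sound _ _ (checkPointF_eq cert) 37925 25 chkP_37925 i (by omega) (by omega)
                · skip
                  rcases Nat.lt_or_ge i 37975 with h9 | h9
                  · skip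
                    exact allRangeF_sound _ _ (checkPointF_eq cert) 37950 25 chkP_37950 i (by omega) (by omega)
                  · skip
                    exact allRangeF_sound _ _ (checkPointF_eq cert) 37975 25 chkP_37975 i (by omega) (by omega)
            · skip
              rcases Nat.lt_or_ge i 38050 with h7 | h7
              · skip
                rcases Nat.lt_or_ge i 38025 with h8 | h8
                · skip
                  exact allRangeF_sound _ _ (checkPointF_eq cert) 38000 25 chkP_38000 i (by omega) (by omega)
                · skip
                  exact allRangeF_sound _ _ (checkPointF_eq cert) 38025 25 chkP_38025 i (by omega) (by omega)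
              · skip
                rcases Nat.lt_or_ge i 38075 with h8 | h8
                · skip
                  exact allRangeF_sound _ _ (checkPointF_eq cert) 38050 25 chkP_38050 i (by omega) (by omega)
                · skip
                  rcases Nat.lt_or_ge i 38100 with h9 | h9
                  · skip
                    exact allRangeF_sound _ _ (checkPointF_eq cert) 38075 25 chkP_38075 i (by omega) (by omega)
                  · skip
                    exact allRangeF_sound _ _ (checkPointF_eq cert) 38100 25 chkP_38100 i (by omega) (by omega)
          · skip
            rcases Nat.lt_or_ge i 38250 with h6 | h6
            · skip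
              rcases Nat.lt_or_ge i 38175 with h7 | h7
              · skip
                rcases Nat.lt_or_ge i 38150 with h8 | h8
                · skip
                  exact allRangeF_sound _ _ (checkPointF_eq cert) 38125 25 chkP_38125 i (by omega) (by omega)
                · skip
                  exact allRangeF_sound _ _ (checkPointF_eq cert) 38150 25 chkP_38150 i (by omega) (by omega)
              · skip
                rcases Nat.lt_or_ge i 38200 with h8 | h8
                · skip
                  exact allRangeF_sound _ _ (checkPointF_eq cert) 38175 25 chkP_38175 i (by omega) (by omega)
                · skip
                  rcases Nat.lt_or_ge i 38225 with h9 | h9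
                  · skip
                    exact allRangeF_sound _ _ (checkPointF_eq cert) 38200 25 chkP_38200 i (by omega) (by omega)
                  · skip
                    exact allRangeF_sound _ _ (checkPointF_eq cert) 38225 25 chkP_38225 i (by omega) (by omega)
            · skip
              rcases Nat.lt_or_ge i 38300 with h7 | h7
              · skip
                rcases Nat.lt_or_ge i 38275 with h8 | h8
                · skip
                  exact allRangeF_sound _ _ (checkPointF_eq cert) 38250 25 chkP_38250 i (by omega) (by omega)
                · skip
                  exact allRangeF_sound _ _ (checkPointF_eq cert) 38275 25 chkP_38275 i (by omega) (by omega)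
              · skip
                rcases Nat.lt_or_ge i 38325 with h8 | h8
                · skip
                  exact allRangeF_sound _ _ (checkPointF_eq cert) 38300 25 chkP_38300 i (by omega) (by omega)
                · skip
                  rcases Nat.lt_or_ge i 38350 with h9 | h9
                  · skip
                    exact allRangeF_sound _ _ (checkPointF_eq cert) 38325 25 chkP_38325 i (by omega) (by omega)
                  · skip
                    exact allRangeF_sound _ _ (checkPointF_eq cert) 38350 25 chkP_38350 i (by omega) (by omega)

end Cfsg.Agent.Lib.Helper28.Fi24Data
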