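import Cfsg.Agent.Lib.Helper28.Fi24Data
import Cfsg.Agent.Lib.Helper28.TCFastB

set_option autoImplicit false
set_option maxRecDepth 1000000
set_option linter.all false
set_option Elab.async false

namespace Cfsg.Agent.Lib.Helper28.Fi24Data

open Cfsg.Agent.Lib.Helper28B

theorem chkP_38375 : allRangeF (checkPointF cert) (nat_lit 38375) (nat_lit 25) = true := by decide +kernel
theorem chkP_38400 : allRangeF (checkPointF cert) (nat_lit 38400) (nat_lit 25) = true := by decide +kernel
theorem chkP_38425 : allRangeF (checkPointF cert) (nat_lit 38425) (nat_lit 25) = true := by decide +kernel
theorem chkP_38450 : allRangeF (checkPointF cert) (nat_lit 38450) (nat_lit 25) = true := by decide +kernel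
theorem chkP_38475 : allRangeF (checkPointF cert) (nat_lit 38475) (nat_lit 25) = true := by decide +kernel
theorem chkP_38500 : allRangeF (checkPointF cert) (nat_lit 38500) (nat_lit 25) = true := by decide +kernel
theorem chkP_38525 : allRangeF (checkPointF cert) (nat_lit 38525) (nat_lit 25) = true := by decide +kernel
theorem chkP_38550 : allRangeF (checkPointF cert) (nat_lit 38550) (nat_lit 25) = true := by decide +kernel
theorem chkP_38575 : allRangeF (checkPointF cert) (nat_lit 38575) (nat_lit 25) = true := by decide +kernel
theorem chkP_38600 : allRangeF (checkPointF cert) (nat_lit 38600) (nat_lit 25) = true := by decide +kernel
theorem chkP_38625 : allRangeF (checkPointF cert) (nat_lit 38625) (nat_lit 25) = true := by decide +kernel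
theorem chkP_38650 : allRangeF (checkPointF cert) (nat_lit 38650) (nat_lit 25) = true := by decide +kernel
theorem chkP_38675 : allRangeF (checkPointF cert) (nat_lit 38675) (nat_lit 25) = true := by decide +kernel
theorem chkP_38700 : allRangeF (checkPointF cert) (nat_lit 38700) (nat_lit 25) = true := by decide +kernel
theorem chkP_38725 : allRangeF (checkPointF cert) (nat_lit 38725) (nat_lit 25) = true := by decide +kernel
theorem chkP_38750 : allRangeF (checkPointF cert) (nat_lit 38750) (nat_lit 25) = true := by decide +kernel
theorem chkP_38775 : allRangeF (checkPointF cert) (nat_lit 38775) (nat_lit 25) = true := by decide +kernel
theorem chkP_38800 : allRangeF (checkPointF cert) (nat_lit 38800) (nat_lit 25) = true := by decide +kernel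
theorem chkP_38825 : allRangeF (checkPointF cert) (nat_lit 38825) (nat_lit 25) = true := by decide +kernel
theorem chkP_38850 : allRangeF (checkPointF cert) (nat_lit 38850) (nat_lit 25) = true := by decide +kernel
theorem chkP_38875 : allRangeF (checkPointF cert) (nat_lit 38875) (nat_lit 25) = true := by decide +kernel
theorem chkP_38900 : allRangeF (checkPointF cert) (nat_lit 38900) (nat_lit 25) = true := by decide +kernel
theorem chkP_38925 : allRangeF (checkPointF cert) (nat_lit 38925) (nat_lit 25) = true := by decide +kernel
theorem chkP_38950 : allRangeF (checkPointF cert) (nat_lit 38950) (nat_lit 25) = true := by decide +kernel
theorem chkP_38975 : allRangeF (checkPointF cert) (nat_lit 38975) (nat_lit 25) = true := by decide +kernel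
theorem chkP_39000 : allRangeF (checkPointF cert) (nat_lit 39000) (nat_lit 25) = true := by decide +kernel
theorem chkP_39025 : allRangeF (checkPointF cert) (nat_lit 39025) (nat_lit 25) = true := by decide +kernel
theorem chkP_39050 : allRangeF (checkPointF cert) (nat_lit 39050) (nat_lit 25) = true := by decide +kernel
theorem chkP_39075 : allRangeF (checkPointF cert) (nat_lit 39075) (nat_lit 25) = true := by decide +kernel
theorem chkP_39100 : allRangeF (checkPointF cert) (nat_lit 39100) (nat_lit 25) = true := by decide +kernel
theorem chkP_39125 : allRangeF (checkPointF cert) (nat_lit 39125) (nat_lit 25) = true := by decide +kernel
theorem chkP_39150 : allRangeF (checkPointF cert) (nat_lit 39150) (nat_lit 25) = true := by decide +kernel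
theorem chkP_39175 : allRangeF (checkPointF cert) (nat_lit 39175) (nat_lit 25) = true := by decide +kernel
theorem chkP_39200 : allRangeF (checkPointF cert) (nat_lit 39200) (nat_lit 25) = true := by decide +kernel
theorem chkP_39225 : allRangeF (checkPointF cert) (nat_lit 39225) (nat_lit 25) = true := by decide +kernel
theorem chkP_39250 : allRangeF (checkPointF cert) (nat_lit 39250) (nat_lit 25) = true := by decide +kernel
theorem chkP_39275 : allRangeF (checkPointF cert) (nat_lit 39275) (nat_lit 25) = true := by decide +kernel
theorem chkP_39300 : allRangeF (checkPointF cert) (nat_lit 39300) (nat_lit 25) = true := by decide +kernel
theorem chkP_39325 : allRangeF (checkPointF cert) (nat_lit 39325) (nat_lit 25) = true := by decide +kernel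
theorem chkP_39350 : allRangeF (checkPointF cert) (nat_lit 39350) (nat_lit 25) = true := by decide +kernel
theorem chkP_39375 : allRangeF (checkPointF cert) (nat_lit 39375) (nat_lit 25) = true := by decide +kernel
theorem chkP_39400 : allRangeF (checkPointF cert) (nat_lit 39400) (nat_lit 25) = true := by decide +kernel
theorem chkP_39425 : allRangeF (checkPointF cert) (nat_lit 39425) (nat_lit 25) = true := by decide +kernel
theorem chkP_39450 : allRangeF (checkPointF cert) (nat_lit 39450) (nat_lit 25) = true := by decide +kernel
theorem chkP_39475 : allRangeF (checkPointF cert) (nat_lit 39475) (nat_lit 25) = true := by decide +kernel
theorem chkP_39500 : allRangeF (checkPointF cert) (nat_lit 39500) (nat_lit 25) = true := by decide +kernel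
theorem chkP_39525 : allRangeF (checkPointF cert) (nat_lit 39525) (nat_lit 25) = true := by decide +kernel
theorem chkP_39550 : allRangeF (checkPointF cert) (nat_lit 39550) (nat_lit 25) = true := by decide +kernel
theorem chkP_39575 : allRangeF (checkPointF cert) (nat_lit 39575) (nat_lit 25) = true := by decide +kernel
theorem chkP_39600 : allRangeF (checkPointF cert) (nat_lit 39600) (nat_lit 25) = true := by decide +kernel
theorem chkP_39625 : allRangeF (checkPointF cert) (nat_lit 39625) (nat_lit 25) = true := by decide +kernel
theorem chkP_39650 : allRangeF (checkPointF cert) (nat_lit 39650) (nat_lit 25) = true := by decide +kernel
theorem chkP_39675 : allRangeF (checkPointF cert) (nat_lit 39675) (nat_lit 25) = true := by decide +kernel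
theorem chkP_39700 : allRangeF (checkPointF cert) (nat_lit 39700) (nat_lit 25) = true := by decide +kernel
theorem chkP_39725 : allRangeF (checkPointF cert) (nat_lit 39725) (nat_lit 25) = true := by decide +kernel
theorem chkP_39750 : allRangeF (checkPointF cert) (nat_lit 39750) (nat_lit 25) = true := by decide +kernel
theorem chkP_39775 : allRangeF (checkPointF cert) (nat_lit 39775) (nat_lit 25) = true := by decide +kernel
theorem chkP_39800 : allRangeF (checkPointF cert) (nat_lit 39800) (nat_lit 25) = true := by decide +kernel
theorem chkP_39825 : allRangeF (checkPointF cert) (nat_lit 39825) (nat_lit 25) = true := by decide +kernel
theorem chkP_39850 : allRangeF (checkPointF cert) (nat_lit 39850) (nat_lit 25) = true := by decide +kernel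
theorem chkP_39875 : allRangeF (checkPointF cert) (nat_lit 39875) (nat_lit 25) = true := by decide +kernel
theorem chkP_39900 : allRangeF (checkPointF cert) (nat_lit 39900) (nat_lit 25) = true := by decide +kernel
theorem chkP_39925 : allRangeF (checkPointF cert) (nat_lit 39925) (nat_lit 25) = true := by decide +kernel
theorem chkP_39950 : allRangeF (checkPointF cert) (nat_lit 39950) (nat_lit 25) = true := by decide +kernel
theorem chkP_39975 : allRangeF (checkPointF cert) (nat_lit 39975) (nat_lit 25) = true := by decide +kernel
theorem chkP_40000 : allRangeF (checkPointF cert) (nat_lit 40000) (nat_lit 25) = true := by decide +kernel
theorem chkP_40025 : allRangeF (checkPointF cert) (nat_lit 40025) (nat_lit 25) = true := by decide +kernel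
theorem chkP_40050 : allRangeF (checkPointF cert) (nat_lit 40050) (nat_lit 25) = true := by decide +kernel
theorem chkP_40075 : allRangeF (checkPointF cert) (nat_lit 40075) (nat_lit 25) = true := by decide +kernel
theorem chkP_40100 : allRangeF (checkPointF cert) (nat_lit 40100) (nat_lit 25) = true := by decide +kernel
theorem chkP_40125 : allRangeF (checkPointF cert) (nat_lit 40125) (nat_lit 25) = true := by decide +kernel
theorem chkP_40150 : allRangeF (checkPointF cert) (nat_lit 40150) (nat_lit 25) = true := by decide +kernel
theorem chkP_40175 : allRangeF (checkPointF cert) (nat_lit 40175) (nat_lit 25) = true := by decide +kernel
theorem chkP_40200 : allRangeF (checkPointF cert) (nat_lit 40200) (nat_lit 25) = true := by decide +kernel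
theorem chkP_40225 : allRangeF (checkPointF cert) (nat_lit 40225) (nat_lit 25) = true := by decide +kernel
theorem chkP_40250 : allRangeF (checkPointF cert) (nat_lit 40250) (nat_lit 25) = true := by decide +kernel
theorem chkP_40275 : allRangeF (checkPointF cert) (nat_lit 40275) (nat_lit 25) = true := by decide +kernel
theorem chkP_40300 : allRangeF (checkPointF cert) (nat_lit 40300) (nat_lit 25) = true := by decide +kernel
theorem chkP_40325 : allRangeF (checkPointF cert) (nat_lit 40325) (nat_lit 25) = true := by decide +kernel
theorem chkP_40350 : allRangeF (checkPointF cert) (nat_lit 40350) (nat_lit 25) = true := by decide +kernel
theorem chkP_40375 : allRangeF (checkPointF cert) (nat_lit 40375) (nat_lit 25) = true := by decide +kernel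
theorem chkP_40400 : allRangeF (checkPointF cert) (nat_lit 40400) (nat_lit 25) = true := by decide +kernel
theorem chkP_40425 : allRangeF (checkPointF cert) (nat_lit 40425) (nat_lit 25) = true := by decide +kernel
theorem chkP_40450 : allRangeF (checkPointF cert) (nat_lit 40450) (nat_lit 25) = true := by decide +kernel
theorem chkP_40475 : allRangeF (checkPointF cert) (nat_lit 40475) (nat_lit 25) = true := by decide +kernel
theorem chkP_40500 : allRangeF (checkPointF cert) (nat_lit 40500) (nat_lit 25) = true := by decide +kernel
theorem chkP_40525 : allRangeF (checkPointF cert) (nat_lit 40525) (nat_lit 25) = true := by decide +kernel
theorem chkP_40550 : allRangeF (checkPointF cert) (nat_lit 40550) (nat_lit 25) = true := by decide +kernel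
theorem chkP_40575 : allRangeF (checkPointF cert) (nat_lit 40575) (nat_lit 25) = true := by decide +kernel
theorem chkP_40600 : allRangeF (checkPointF cert) (nat_lit 40600) (nat_lit 25) = true := by decide +kernel
theorem chkP_40625 : allRangeF (checkPointF cert) (nat_lit 40625) (nat_lit 25) = true := by decide +kernel
theorem chkP_40650 : allRangeF (checkPointF cert) (nat_lit 40650) (nat_lit 25) = true := by decide +kernel
theorem chkP_40675 : allRangeF (checkPointF cert) (nat_lit 40675) (nat_lit 25) = true := by decide +kernel
theorem chkP_40700 : allRangeF (checkPointF cert) (nat_lit 40700) (nat_lit 25) = true := by decide +kernel
theorem chkP_40725 : allRangeF (checkPointF cert) (nat_lit 40725) (nat_lit 25) = true := by decide +kernel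
theorem chkP_40750 : allRangeF (checkPointF cert) (nat_lit 40750) (nat_lit 25) = true := by decide +kernel
theorem chkP_40775 : allRangeF (checkPointF cert) (nat_lit 40775) (nat_lit 25) = true := by decide +kernel
theorem chkP_40800 : allRangeF (checkPointF cert) (nat_lit 40800) (nat_lit 25) = true := by decide +kernel
theorem chkP_40825 : allRangeF (checkPointF cert) (nat_lit 40825) (nat_lit 25) = true := by decide +kernel
theorem chkP_40850 : allRangeF (checkPointF cert) (nat_lit 40850) (nat_lit 25) = true := by decide +kernel
theorem chkP_40875 : allRangeF (checkPointF cert) (nat_lit 40875) (nat_lit 25) = true := by decide +kernel
theorem chkP_40900 : allRangeF (checkPointF cert) (nat_lit 40900) (nat_lit 25) = true := by decide +kernel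
theorem chkP_40925 : allRangeF (checkPointF cert) (nat_lit 40925) (nat_lit 25) = true := by decide +kernel
theorem chkP_40950 : allRangeF (checkPointF cert) (nat_lit 40950) (nat_lit 25) = true := by decide +kernel
theorem chkP_40975 : allRangeF (checkPointF cert) (nat_lit 40975) (nat_lit 25) = true := by decide +kernel
theorem chkP_41000 : allRangeF (checkPointF cert) (nat_lit 41000) (nat_lit 25) = true := by decide +kernel
theorem chkP_41025 : allRangeF (checkPointF cert) (nat_lit 41025) (nat_lit 25) = true := by decide +kernel
theorem chkP_41050 : allRangeF (checkPointF cert) (nat_lit 41050) (nat_lit 25) = true := by decide +kernel
theorem chkP_41075 : allRangeF (checkPointF cert) (nat_lit 41075) (nat_lit 25) = true := by decide +kernel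
theorem chkP_41100 : allRangeF (checkPointF cert) (nat_lit 41100) (nat_lit 25) = true := by decide +kernel
theorem chkP_41125 : allRangeF (checkPointF cert) (nat_lit 41125) (nat_lit 25) = true := by decide +kernel
theorem chkP_41150 : allRangeF (checkPointF cert) (nat_lit 41150) (nat_lit 25) = true := by decide +kernel
theorem chkP_41175 : allRangeF (checkPointF cert) (nat_lit 41175) (nat_lit 25) = true := by decide +kernel
theorem chkP_41200 : allRangeF (checkPointF cert) (nat_lit 41200) (nat_lit 25) = true := by decide +kernel
theorem chkP_41225 : allRangeF (checkPointF cert) (nat_lit 41225) (nat_lit 25) = true := by decide +kernel
theorem chkP_41250 : allRangeF (checkPointF cert) (nat_lit 41250) (nat_lit 25) = true := by decide +kernel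
theorem chkP_41275 : allRangeF (checkPointF cert) (nat_lit 41275) (nat_lit 25) = true := by decide +kernel
theorem chkP_41300 : allRangeF (checkPointF cert) (nat_lit 41300) (nat_lit 25) = true := by decide +kernel
theorem chkP_41325 : allRangeF (checkPointF cert) (nat_lit 41325) (nat_lit 25) = true := by decide +kernel
theorem chkP_41350 : allRangeF (checkPointF cert) (nat_lit 41350) (nat_lit 25) = true := by decide +kernel
theorem chkP_41375 : allRangeF (checkPointF cert) (nat_lit 41375) (nat_lit 25) = true := by decide +kernel
theorem chkP_41400 : allRangeF (checkPointF cert) (nat_lit 41400) (nat_lit 25) = true := by decide +kernel
theorem chkP_41425 : allRangeF (checkPointF cert) (nat_lit 41425) (nat_lit 25) = true := by decide +kernel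
theorem chkP_41450 : allRangeF (checkPointF cert) (nat_lit 41450) (nat_lit 25) = true := by decide +kernel
theorem chkP_41475 : allRangeF (checkPointF cert) (nat_lit 41475) (nat_lit 25) = true := by decide +kernel
theorem chkP_41500 : allRangeF (checkPointF cert) (nat_lit 41500) (nat_lit 25) = true := by decide +kernel
theorem chkP_41525 : allRangeF (checkPointF cert) (nat_lit 41525) (nat_lit 25) = true := by decide +kernel
theorem chkP_41550 : allRangeF (checkPointF cert) (nat_lit 41550) (nat_lit 25) = true := by decide +kernel
theorem chkP_41575 : allRangeF (checkPointF cert) (nat_lit 41575) (nat_lit 25) = true := by decide +kernel
theorem chkP_41600 : allRangeF (checkPointF cert) (nat_lit 41600) (nat_lit 25) = true := by decide +kernel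
theorem chkP_41625 : allRangeF (checkPointF cert) (nat_lit 41625) (nat_lit 25) = true := by decide +kernel
theorem chkP_41650 : allRangeF (checkPointF cert) (nat_lit 41650) (nat_lit 25) = true := by decide +kernel
theorem chkP_41675 : allRangeF (checkPointF cert) (nat_lit 41675) (nat_lit 25) = true := by decide +kernel
theorem chkP_41700 : allRangeF (checkPointF cert) (nat_lit 41700) (nat_lit 25) = true := by decide +kernel
theorem chkP_41725 : allRangeF (checkPointF cert) (nat_lit 41725) (nat_lit 25) = true := by decide +kernel
theorem chkP_41750 : allRangeF (checkPointF cert) (nat_lit 41750) (nat_lit 25) = true := by decide +kernel
theorem chkP_41775 : allRangeF (checkPointF cert) (nat_lit 41775) (nat_lit 25) = true := by decide +kernel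
theorem chkP_41800 : allRangeF (checkPointF cert) (nat_lit 41800) (nat_lit 25) = true := by decide +kernel
theorem chkP_41825 : allRangeF (checkPointF cert) (nat_lit 41825) (nat_lit 25) = true := by decide +kernel
theorem chkP_41850 : allRangeF (checkPointF cert) (nat_lit 41850) (nat_lit 25) = true := by decide +kernel
theorem chkP_41875 : allRangeF (checkPointF cert) (nat_lit 41875) (nat_lit 25) = true := by decide +kernel
theorem chkP_41900 : allRangeF (checkPointF cert) (nat_lit 41900) (nat_lit 25) = true := by decide +kernel
theorem chkP_41925 : allRangeF (checkPointF cert) (nat_lit 41925) (nat_lit 25) = true := by decide +kernel
theorem chkP_41950 : allRangeF (checkPointF cert) (nat_lit 41950) (nat_lit 25) = true := by decide +kernel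
theorem chkP_41975 : allRangeF (checkPointF cert) (nat_lit 41975) (nat_lit 25) = true := by decide +kernel
theorem chkP_42000 : allRangeF (checkPointF cert) (nat_lit 42000) (nat_lit 25) = true := by decide +kernel
theorem chkP_42025 : allRangeF (checkPointF cert) (nat_lit 42025) (nat_lit 25) = true := by decide +kernel
theorem chkP_42050 : allRangeF (checkPointF cert) (nat_lit 42050) (nat_lit 25) = true := by decide +kernel
theorem chkP_42075 : allRangeF (checkPointF cert) (nat_lit 42075) (nat_lit 25) = true := by decide +kernel
theorem chkP_42100 : allRangeF (checkPointF cert) (nat_lit 42100) (nat_lit 25) = true := by decide +kernel
theorem chkP_42125 : allRangeF (checkPointF cert) (nat_lit 42125) (nat_lit 25) = true := by decide +kernel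
theorem chkP_42150 : allRangeF (checkPointF cert) (nat_lit 42150) (nat_lit 25) = true := by decide +kernel
theorem chkP_42175 : allRangeF (checkPointF cert) (nat_lit 42175) (nat_lit 25) = true := by decide +kernel
theorem chkP_42200 : allRangeF (checkPointF cert) (nat_lit 42200) (nat_lit 25) = true := by decide +kernel
theorem chkP_42225 : allRangeF (checkPointF cert) (nat_lit 42225) (nat_lit 25) = true := by decide +kernel
theorem chkP_42250 : allRangeF (checkPointF cert) (nat_lit 42250) (nat_lit 25) = true := by decide +kernel
theorem chkP_42275 : allRangeF (checkPointF cert) (nat_lit 42275) (nat_lit 25) = true := by decide +kernel
theorem chkP_42300 : allRangeF (checkPointF cert) (nat_lit 42300) (nat_lit 25) = true := by decide +kernel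
theorem chkP_42325 : allRangeF (checkPointF cert) (nat_lit 42325) (nat_lit 25) = true := by decide +kernel
theorem chkP_42350 : allRangeF (checkPointF cert) (nat_lit 42350) (nat_lit 25) = true := by decide +kernel
theorem chkP_42375 : allRangeF (checkPointF cert) (nat_lit 42375) (nat_lit 25) = true := by decide +kernel
theorem chkP_42400 : allRangeF (checkPointF cert) (nat_lit 42400) (nat_lit 25) = true := by decide +kernel
theorem chkP_42425 : allRangeF (checkPointF cert) (nat_lit 42425) (nat_lit 25) = true := by decide +kernel
theorem chkP_42450 : allRangeF (checkPointF cert) (nat_lit 42450) (nat_lit 25) = true := by decide +kernel
theorem chkP_42475 : allRangeF (checkPointF cert) (nat_lit 42475) (nat_lit 25) = true := by decide +kernel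
theorem chkP_42500 : allRangeF (checkPointF cert) (nat_lit 42500) (nat_lit 25) = true := by decide +kernel
theorem chkP_42525 : allRangeF (checkPointF cert) (nat_lit 42525) (nat_lit 25) = true := by decide +kernel
theorem chkP_42550 : allRangeF (checkPointF cert) (nat_lit 42550) (nat_lit 25) = true := by decide +kernel
theorem chkP_42575 : allRangeF (checkPointF cert) (nat_lit 42575) (nat_lit 25) = true := by decide +kernel
theorem chkP_42600 : allRangeF (checkPointF cert) (nat_lit 42600) (nat_lit 25) = true := by decide +kernel
theorem chkP_42625 : allRangeF (checkPointF cert) (nat_lit 42625) (nat_lit 25) = true := by decide +kernel
theorem chkP_42650 : allRangeF (checkPointF cert) (nat_lit 42650) (nat_lit 25) = true := by decide +kernel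
theorem chkP_42675 : allRangeF (checkPointF cert) (nat_lit 42675) (nat_lit 25) = true := by decide +kernel
theorem chkP_42700 : allRangeF (checkPointF cert) (nat_lit 42700) (nat_lit 25) = true := by decide +kernel
theorem chkP_42725 : allRangeF (checkPointF cert) (nat_lit 42725) (nat_lit 25) = true := by decide +kernel
theorem chkP_42750 : allRangeF (checkPointF cert) (nat_lit 42750) (nat_lit 25) = true := by decide +kernel
theorem chkP_42775 : allRangeF (checkPointF cert) (nat_lit 42775) (nat_lit 25) = true := by decide +kernel
theorem chkP_42800 : allRangeF (checkPointF cert) (nat_lit 42800) (nat_lit 25) = true := by decide +kernel
theorem chkP_42825 : allRangeF (checkPointF cert) (nat_lit 42825) (nat_lit 25) = true := by decide +kernel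
theorem chkP_42850 : allRangeF (checkPointF cert) (nat_lit 42850) (nat_lit 25) = true := by decide +kernel
theorem chkP_42875 : allRangeF (checkPointF cert) (nat_lit 42875) (nat_lit 25) = true := by decide +kernel
theorem chkP_42900 : allRangeF (checkPointF cert) (nat_lit 42900) (nat_lit 25) = true := by decide +kernel
theorem chkP_42925 : allRangeF (checkPointF cert) (nat_lit 42925) (nat_lit 25) = true := by decide +kernel
theorem chkP_42950 : allRangeF (checkPointF cert) (nat_lit 42950) (nat_lit 25) = true := by decide +kernel
theorem chkP_42975 : allRangeF (checkPointF cert) (nat_lit 42975) (nat_lit 25) = true := by decide +kernel
theorem chkP_43000 : allRangeF (checkPointF cert) (nat_lit 43000) (nat_lit 25) = true := by decide +kernel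
theorem chkP_43025 : allRangeF (checkPointF cert) (nat_lit 43025) (nat_lit 25) = true := by decide +kernel
theorem chkP_43050 : allRangeF (checkPointF cert) (nat_lit 43050) (nat_lit 25) = true := by decide +kernel
theorem chkP_43075 : allRangeF (checkPointF cert) (nat_lit 43075) (nat_lit 25) = true := by decide +kernel
theorem chkP_43100 : allRangeF (checkPointF cert) (nat_lit 43100) (nat_lit 25) = true := by decide +kernel
theorem chkP_43125 : allRangeF (checkPointF cert) (nat_lit 43125) (nat_lit 25) = true := by decide +kernel
theorem chkP_43150 : allRangeF (checkPointF cert) (nat_lit 43150) (nat_lit 25) = true := by decide +kernel
theorem chkP_43175 : allRangeF (checkPointF cert) (nat_lit 43175) (nat_lit 25) = true := by decide +kernel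
theorem chkP_43200 : allRangeF (checkPointF cert) (nat_lit 43200) (nat_lit 25) = true := by decide +kernel
theorem chkP_43225 : allRangeF (checkPointF cert) (nat_lit 43225) (nat_lit 25) = true := by decide +kernel
theorem chkP_43250 : allRangeF (checkPointF cert) (nat_lit 43250) (nat_lit 25) = true := by decide +kernel
theorem chkP_43275 : allRangeF (checkPointF cert) (nat_lit 43275) (nat_lit 25) = true := by decide +kernel
theorem chkP_43300 : allRangeF (checkPointF cert) (nat_lit 43300) (nat_lit 25) = true := by decide +kernel
theorem chkP_43325 : allRangeF (checkPointF cert) (nat_lit 43325) (nat_lit 25) = true := by decide +kernel
theorem chkP_43350 : allRangeF (checkPointF cert) (nat_lit 43350) (nat_lit 25) = true := by decide +kernel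
theorem chkP_43375 : allRangeF (checkPointF cert) (nat_lit 43375) (nat_lit 25) = true := by decide +kernel
theorem chkP_43400 : allRangeF (checkPointF cert) (nat_lit 43400) (nat_lit 25) = true := by decide +kernel
theorem chkP_43425 : allRangeF (checkPointF cert) (nat_lit 43425) (nat_lit 25) = true := by decide +kernel
theorem chkP_43450 : allRangeF (checkPointF cert) (nat_lit 43450) (nat_lit 25) = true := by decide +kernel
theorem chkP_43475 : allRangeF (checkPointF cert) (nat_lit 43475) (nat_lit 25) = true := by decide +kernel
theorem chkP_43500 : allRangeF (checkPointF cert) (nat_lit 43500) (nat_lit 25) = true := by decide +kernel
theorem chkP_43525 : allRangeF (checkPointF cert) (nat_lit 43525) (nat_lit 25) = true := by decide +kernel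
theorem chkP_43550 : allRangeF (checkPointF cert) (nat_lit 43550) (nat_lit 25) = true := by decide +kernel
theorem chkP_43575 : allRangeF (checkPointF cert) (nat_lit 43575) (nat_lit 25) = true := by decide +kernel
theorem chkP_43600 : allRangeF (checkPointF cert) (nat_lit 43600) (nat_lit 25) = true := by decide +kernel
theorem chkP_43625 : allRangeF (checkPointF cert) (nat_lit 43625) (nat_lit 25) = true := by decide +kernel
theorem chkP_43650 : allRangeF (checkPointF cert) (nat_lit 43650) (nat_lit 25) = true := by decide +kernel
theorem chkP_43675 : allRangeF (checkPointF cert) (nat_lit 43675) (nat_lit 25) = true := by decide +kernel
theorem chkP_43700 : allRangeF (checkPointF cert) (nat_lit 43700) (nat_lit 25) = true := by decide +kernel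
theorem chkP_43725 : allRangeF (checkPointF cert) (nat_lit 43725) (nat_lit 25) = true := by decide +kernel
theorem chkP_43750 : allRangeF (checkPointF cert) (nat_lit 43750) (nat_lit 25) = true := by decide +kernel
theorem chkP_43775 : allRangeF (checkPointF cert) (nat_lit 43775) (nat_lit 25) = true := by decide +kernel
theorem chkP_43800 : allRangeF (checkPointF cert) (nat_lit 43800) (nat_lit 25) = true := by decide +kernel
theorem chkP_43825 : allRangeF (checkPointF cert) (nat_lit 43825) (nat_lit 25) = true := by decide +kernel
theorem chkP_43850 : allRangeF (checkPointF cert) (nat_lit 43850) (nat_lit 25) = true := by decide +kernel
theorem chkP_43875 : allRangeF (checkPointF cert) (nat_lit 43875) (nat_lit 25) = true := by decide +kernel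
theorem chkP_43900 : allRangeF (checkPointF cert) (nat_lit 43900) (nat_lit 25) = true := by decide +kernel
theorem chkP_43925 : allRangeF (checkPointF cert) (nat_lit 43925) (nat_lit 25) = true := by decide +kernel
theorem chkP_43950 : allRangeF (checkPointF cert) (nat_lit 43950) (nat_lit 25) = true := by decide +kernel
theorem chkP_43975 : allRangeF (checkPointF cert) (nat_lit 43975) (nat_lit 25) = true := by decide +kernel
theorem chkP_44000 : allRangeF (checkPointF cert) (nat_lit 44000) (nat_lit 25) = true := by decide +kernel
theorem chkP_44025 : allRangeF (checkPointF cert) (nat_lit 44025) (nat_lit 25) = true := by decide +kernel
theorem chkP_44050 : allRangeF (checkPointF cert) (nat_lit 44050) (nat_lit 25) = true := by decide +kernel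
theorem chkP_44075 : allRangeF (checkPointF cert) (nat_lit 44075) (nat_lit 25) = true := by decide +kernel
theorem chkP_44100 : allRangeF (checkPointF cert) (nat_lit 44100) (nat_lit 25) = true := by decide +kernel
theorem chkP_44125 : allRangeF (checkPointF cert) (nat_lit 44125) (nat_lit 25) = true := by decide +kernel
theorem chkP_44150 : allRangeF (checkPointF cert) (nat_lit 44150) (nat_lit 25) = true := by decide +kernel
theorem chkP_44175 : allRangeF (checkPointF cert) (nat_lit 44175) (nat_lit 25) = true := by decide +kernel
theorem chkP_44200 : allRangeF (checkPointF cert) (nat_lit 44200) (nat_lit 25) = true := by decide +kernel
theorem chkP_44225 : allRangeF (checkPointF cert) (nat_lit 44225) (nat_lit 25) = true := by decide +kernel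
theorem chkP_44250 : allRangeF (checkPointF cert) (nat_lit 44250) (nat_lit 25) = true := by decide +kernel
theorem chkP_44275 : allRangeF (checkPointF cert) (nat_lit 44275) (nat_lit 25) = true := by decide +kernel
theorem chkP_44300 : allRangeF (checkPointF cert) (nat_lit 44300) (nat_lit 25) = true := by decide +kernel
theorem chkP_44325 : allRangeF (checkPointF cert) (nat_lit 44325) (nat_lit 25) = true := by decide +kernel
theorem chkP_44350 : allRangeF (checkPointF cert) (nat_lit 44350) (nat_lit 25) = true := by decide +kernel
theorem chkP_44375 : allRangeF (checkPointF cert) (nat_lit 44375) (nat_lit 25) = true := by decide +kernel
theorem chkP_44400 : allRangeF (checkPointF cert) (nat_lit 44400) (nat_lit 25) = true := by decide +kernel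
theorem chkP_44425 : allRangeF (checkPointF cert) (nat_lit 44425) (nat_lit 25) = true := by decide +kernel
theorem chkP_44450 : allRangeF (checkPointF cert) (nat_lit 44450) (nat_lit 25) = true := by decide +kernel
theorem chkP_44475 : allRangeF (checkPointF cert) (nat_lit 44475) (nat_lit 25) = true := by decide +kernel
theorem chkP_44500 : allRangeF (checkPointF cert) (nat_lit 44500) (nat_lit 25) = true := by decide +kernel
theorem chkP_44525 : allRangeF (checkPointF cert) (nat_lit 44525) (nat_lit 25) = true := by decide +kernel
theorem chkP_44550 : allRangeF (checkPointF cert) (nat_lit 44550) (nat_lit 25) = true := by decide +kernel
theorem chkP_44575 : allRangeF (checkPointF cert) (nat_lit 44575) (nat_lit 25) = true := by decide +kernel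
theorem chkP_44600 : allRangeF (checkPointF cert) (nat_lit 44600) (nat_lit 25) = true := by decide +kernel
theorem chkP_44625 : allRangeF (checkPointF cert) (nat_lit 44625) (nat_lit 25) = true := by decide +kernel
theorem chkP_44650 : allRangeF (checkPointF cert) (nat_lit 44650) (nat_lit 25) = true := by decide +kernel
theorem chkP_44675 : allRangeF (checkPointF cert) (nat_lit 44675) (nat_lit 25) = true := by decide +kernel
theorem chkP_44700 : allRangeF (checkPointF cert) (nat_lit 44700) (nat_lit 25) = true := by decide +kernel
theorem chkP_44725 : allRangeF (checkPointF cert) (nat_lit 44725) (nat_lit 25) = true := by decide +kernel
theorem chkP_44750 : allRangeF (checkPointF cert) (nat_lit 44750) (nat_lit 25) = true := by decide +kernel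
theorem chkP_44775 : allRangeF (checkPointF cert) (nat_lit 44775) (nat_lit 25) = true := by decide +kernel
theorem chkP_44800 : allRangeF (checkPointF cert) (nat_lit 44800) (nat_lit 25) = true := by decide +kernel
theorem chkP_44825 : allRangeF (checkPointF cert) (nat_lit 44825) (nat_lit 25) = true := by decide +kernel
theorem chkP_44850 : allRangeF (checkPointF cert) (nat_lit 44850) (nat_lit 25) = true := by decide +kernel
theorem chkP_44875 : allRangeF (checkPointF cert) (nat_lit 44875) (nat_lit 25) = true := by decide +kernel
theorem chkP_44900 : allRangeF (checkPointF cert) (nat_lit 44900) (nat_lit 25) = true := by decide +kernel
theorem chkP_44925 : allRangeF (checkPointF cert) (nat_lit 44925) (nat_lit 25) = true := by decide +kernel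
theorem chkP_44950 : allRangeF (checkPointF cert) (nat_lit 44950) (nat_lit 25) = true := by decide +kernel
theorem chkP_44975 : allRangeF (checkPointF cert) (nat_lit 44975) (nat_lit 25) = true := by decide +kernel
theorem chkP_45000 : allRangeF (checkPointF cert) (nat_lit 45000) (nat_lit 25) = true := by decide +kernel
theorem chkP_45025 : allRangeF (checkPointF cert) (nat_lit 45025) (nat_lit 25) = true := by decide +kernel
theorem chkP_45050 : allRangeF (checkPointF cert) (nat_lit 45050) (nat_lit 25) = true := by decide +kernel
theorem chkP_45075 : allRangeF (checkPointF cert) (nat_lit 45075) (nat_lit 25) = true := by decide +kernel
theorem chkP_45100 : allRangeF (checkPointF cert) (nat_lit 45100) (nat_lit 25) = true := by decide +kernel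
theorem chkP_45125 : allRangeF (checkPointF cert) (nat_lit 45125) (nat_lit 25) = true := by decide +kernel
theorem chkP_45150 : allRangeF (checkPointF cert) (nat_lit 45150) (nat_lit 25) = true := by decide +kernel
theorem chkP_45175 : allRangeF (checkPointF cert) (nat_lit 45175) (nat_lit 25) = true := by decide +kernel
theorem chkP_45200 : allRangeF (checkPointF cert) (nat_lit 45200) (nat_lit 25) = true := by decide +kernel
theorem chkP_45225 : allRangeF (checkPointF cert) (nat_lit 45225) (nat_lit 25) = true := by decide +kernel
theorem chkP_45250 : allRangeF (checkPointF cert) (nat_lit 45250) (nat_lit 25) = true := by decide +kernel
theorem chkP_45275 : allRangeF (checkPointF cert) (nat_lit 45275) (nat_lit 25) = true := by decide +kernel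
theorem chkP_45300 : allRangeF (checkPointF cert) (nat_lit 45300) (nat_lit 25) = true := by decide +kernel
theorem chkP_45325 : allRangeF (checkPointF cert) (nat_lit 45325) (nat_lit 25) = true := by decide +kernel
theorem chkP_45350 : allRangeF (checkPointF cert) (nat_lit 45350) (nat_lit 25) = true := by decide +kernel
theorem chkP_45375 : allRangeF (checkPointF cert) (nat_lit 45375) (nat_lit 25) = true := by decide +kernel
theorem chkP_45400 : allRangeF (checkPointF cert) (nat_lit 45400) (nat_lit 25) = true := by decide +kernel
theorem chkP_45425 : allRangeF (checkPointF cert) (nat_lit 45425) (nat_lit 25) = true := by decide +kernel
theorem chkP_45450 : allRangeF (checkPointF cert) (nat_lit 45450) (nat_lit 25) = true := by decide +kernel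
theorem chkP_45475 : allRangeF (checkPointF cert) (nat_lit 45475) (nat_lit 25) = true := by decide +kernel
theorem chkP_45500 : allRangeF (checkPointF cert) (nat_lit 45500) (nat_lit 25) = true := by decide +kernel
theorem chkP_45525 : allRangeF (checkPointF cert) (nat_lit 45525) (nat_lit 25) = true := by decide +kernel
theorem chkP_45550 : allRangeF (checkPointF cert) (nat_lit 45550) (nat_lit 25) = true := by decide +kernel
theorem chkP_45575 : allRangeF (checkPointF cert) (nat_lit 45575) (nat_lit 25) = true := by decide +kernel
theorem chkP_45600 : allRangeF (checkPointF cert) (nat_lit 45600) (nat_lit 25) = true := by decide +kernel
theorem chkP_45625 : allRangeF (checkPointF cert) (nat_lit 45625) (nat_lit 25) = true := by decide +kernel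
theorem chkP_45650 : allRangeF (checkPointF cert) (nat_lit 45650) (nat_lit 25) = true := by decide +kernel
theorem chkP_45675 : allRangeF (checkPointF cert) (nat_lit 45675) (nat_lit 25) = true := by decide +kernel
theorem chkP_45700 : allRangeF (checkPointF cert) (nat_lit 45700) (nat_lit 25) = true := by decide +kernel
theorem chkP_45725 : allRangeF (checkPointF cert) (nat_lit 45725) (nat_lit 25) = true := by decide +kernel
theorem chkP_45750 : allRangeF (checkPointF cert) (nat_lit 45750) (nat_lit 25) = true := by decide +kernel
theorem chkP_45775 : allRangeF (checkPointF cert) (nat_lit 45775) (nat_lit 25) = true := by decide +kernel
theorem chkP_45800 : allRangeF (checkPointF cert) (nat_lit 45800) (nat_lit 25) = true := by decide +kernel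
theorem chkP_45825 : allRangeF (checkPointF cert) (nat_lit 45825) (nat_lit 25) = true := by decide +kernel
theorem chkP_45850 : allRangeF (checkPointF cert) (nat_lit 45850) (nat_lit 25) = true := by decide +kernel
theorem chkP_45875 : allRangeF (checkPointF cert) (nat_lit 45875) (nat_lit 25) = true := by decide +kernel
theorem chkP_45900 : allRangeF (checkPointF cert) (nat_lit 45900) (nat_lit 25) = true := by decide +kernel
theorem chkP_45925 : allRangeF (checkPointF cert) (nat_lit 45925) (nat_lit 25) = true := by decide +kernel
theorem chkP_45950 : allRangeF (checkPointF cert) (nat_lit 45950) (nat_lit 25) = true := by decide +kernel
theorem chkP_45975 : allRangeF (checkPointF cert) (nat_lit 45975) (nat_lit 25) = true := by decide +kernel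
theorem chkP_46000 : allRangeF (checkPointF cert) (nat_lit 46000) (nat_lit 25) = true := by decide +kernel
theorem chkP_46025 : allRangeF (checkPointF cert) (nat_lit 46025) (nat_lit 25) = true := by decide +kernel

theorem ptsRange_5 : ∀ i, 38375 ≤ i → i < 46050 → checkPoint cert i = true := by
  intro i hlo hhi
  rcases Nat.lt_or_ge i 42200 with h1 | h1
  · skip
    rcases Nat.lt_or_ge i 40275 with h2 | h2
    · skip
      rcases Nat.lt_or_ge i 39325 with h3 | h3
      · skip
        rcases Nat.lt_or_ge i 38850 with h4 | h4
        · skip
          rcases Nat.lt_or_ge i 38600 with h5 | h5
          · skip
            rcases Nat.lt_or_ge i 38475 with h6 | h6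
            · skip
              rcases Nat.lt_or_ge i 38425 with h7 | h7
              · skip
                rcases Nat.lt_or_ge i 38400 with h8 | h8
                · skip
                  exact allRangeF_sound _ _ (checkPointF_eq cert) 38375 25 chkP_38375 i (by omega) (by omega)
                · skip
                  exact allRangeF_sound _ _ (checkPointF_eq cert) 38400 25 chkP_38400 i (by omega) (by omega)
              · skip
                rcases Nat.lt_or_ge i 38450 with h8 | h8
                · skip
                  exact allRangeF_sound _ _ (checkPointF_eq cert) 38425 25 chkP_38425 i (by omega) (by omega)
                · skip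
                  exact allRangeF_sound _ _ (checkPointF_eq cert) 38450 25 chkP_38450 i (by omega) (by omega)
            · skip
              rcases Nat.lt_or_ge i 38525 with h7 | h7
              · skip
                rcases Nat.lt_or_ge i 38500 with h8 | h8
                · skip
                  exact allRangeF_sound _ _ (checkPointF_eq cert) 38475 25 chkP_38475 i (by omega) (by omega)
                · skip
                  exact allRangeF_sound _ _ (checkPointF_eq cert) 38500 25 chkP_38500 i (by omega) (by omega)
              · skip
                rcases Nat.lt_or_ge i 38550 with h8 | h8
                · skip
                  exact allRangeF_sound _ _ (checkPointF_eq cert) 38525 25 chkP_38525 i (by omega) (by omega)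
                · skip
                  rcases Nat.lt_or_ge i 38575 with h9 | h9
                  · skip
                    exact allRangeF_sound _ _ (checkPointF_eq cert) 38550 25 chkP_38550 i (by omega) (by omega)
                  · skip
                    exact allRangeF_sound _ _ (checkPointF_eq cert) 38575 25 chkP_38575 i (by omega) (by omega)
          · skip
            rcases Nat.lt_or_ge i 38725 with h6 | h6
            · skip
              rcases Nat.lt_or_ge i 38650 with h7 | h7
              · skip
                rcases Nat.lt_or_ge i 38625 with h8 | h8
                · skip
                  exact allRangeF_sound _ _ (checkPointF_eq cert) 38600 25 chkP_38600 i (by omega) (by omega)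
                · skip
                  exact allRangeF_sound _ _ (checkPointF_eq cert) 38625 25 chkP_38625 i (by omega) (by omega)
              · skip
                rcases Nat.lt_or_ge i 38675 with h8 | h8
                · skip
                  exact allRangeF_sound _ _ (checkPointF_eq cert) 38650 25 chkP_38650 i (by omega) (by omega)
                · skip
                  rcases Nat.lt_or_ge i 38700 with h9 | h9
                  · skip
                    exact allRangeF_sound _ _ (checkPointF_eq cert) 38675 25 chkP_38675 i (by omega) (by omega)
                  · skip
                    exact allRangeF_sound _ _ (checkPointF_eq cert) 38700 25 chkP_38700 i (by omega) (by omega)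
            · skip
              rcases Nat.lt_or_ge i 38775 with h7 | h7
              · skip
                rcases Nat.lt_or_ge i 38750 with h8 | h8
                · skip
                  exact allRangeF_sound _ _ (checkPointF_eq cert) 38725 25 chkP_38725 i (by omega) (by omega)
                · skip
                  exact allRangeF_sound _ _ (checkPointF_eq cert) 38750 25 chkP_38750 i (by omega) (by omega)
              · skip
                rcases Nat.lt_or_ge i 38800 with h8 | h8
                · skip
                  exact allRangeF_sound _ _ (checkPointF_eq cert) 38775 25 chkP_38775 i (by omega) (by omega)
                · skip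
                  rcases Nat.lt_or_ge i 38825 with h9 | h9
                  · skip
                    exact allRangeF_sound _ _ (checkPointF_eq cert) 38800 25 chkP_38800 i (by omega) (by omega)
                  · skip
                    exact allRangeF_sound _ _ (checkPointF_eq cert) 38825 25 chkP_38825 i (by omega) (by omega)
        · skip
          rcases Nat.lt_or_ge i 39075 with h5 | h5
          · skip
            rcases Nat.lt_or_ge i 38950 with h6 | h6
            · skip
              rcases Nat.lt_or_ge i 38900 with h7 | h7
              · skip
                rcases Nat.lt_or_ge i 38875 with h8 | h8
                · skip
                  exact allRangeF_sound _ _ (checkPointF_eq cert) 38850 25 chkP_38850 i (by omega) (by omega)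
                · skip
                  exact allRangeF_sound _ _ (checkPointF_eq cert) 38875 25 chkP_38875 i (by omega) (by omega)
              · skip
                rcases Nat.lt_or_ge i 38925 with h8 | h8
                · skip
                  exact allRangeF_sound _ _ (checkPointF_eq cert) 38900 25 chkP_38900 i (by omega) (by omega)
                · skip
                  exact allRangeF_sound _ _ (checkPointF_eq cert) 38925 25 chkP_38925 i (by omega) (by omega)
            · skip
              rcases Nat.lt_or_ge i 39000 with h7 | h7
              · skip
                rcases Nat.lt_or_ge i 38975 with h8 | h8
                · skip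
                  exact allRangeF_sound _ _ (checkPointF_eq cert) 38950 25 chkP_38950 i (by omega) (by omega)
                · skip
                  exact allRangeF_sound _ _ (checkPointF_eq cert) 38975 25 chkP_38975 i (by omega) (by omega)
              · skip
                rcases Nat.lt_or_ge i 39025 with h8 | h8
                · skip
                  exact allRangeF_sound _ _ (checkPointF_eq cert) 39000 25 chkP_39000 i (by omega) (by omega)
                · skip
                  rcases Nat.lt_or_ge i 39050 with h9 | h9
                  · skip
                    exact allRangeF_sound _ _ (checkPointF_eq cert) 39025 25 chkP_39025 i (by omega) (by omega)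
                  · skip
                    exact allRangeF_sound _ _ (checkPointF_eq cert) 39050 25 chkP_39050 i (by omega) (by omega)
          · skip
            rcases Nat.lt_or_ge i 39200 with h6 | h6
            · skip
              rcases Nat.lt_or_ge i 39125 with h7 | h7
              · skip
                rcases Nat.lt_or_ge i 39100 with h8 | h8
                · skip
                  exact allRangeF_sound _ _ (checkPointF_eq cert) 39075 25 chkP_39075 i (by omega) (by omega)
                · skip
                  exact allRangeF_sound _ _ (checkPointF_eq cert) 39100 25 chkP_39100 i (by omega) (by omega)
              · skip
                rcases Nat.lt_or_ge i 39150 with h8 | h8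
                · skip
                  exact allRangeF_sound _ _ (checkPointF_eq cert) 39125 25 chkP_39125 i (by omega) (by omega)
                · skip
                  rcases Nat.lt_or_ge i 39175 with h9 | h9
                  · skip
                    exact allRangeF_sound _ _ (checkPointF_eq cert) 39150 25 chkP_39150 i (by omega) (by omega)
                  · skip
                    exact allRangeF_sound _ _ (checkPointF_eq cert) 39175 25 chkP_39175 i (by omega) (by omega)
            · skip
              rcases Nat.lt_or_ge i 39250 with h7 | h7
              · skip
                rcases Nat.lt_or_ge i 39225 with h8 | h8
                · skip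
                  exact allRangeF_sound _ _ (checkPointF_eq cert) 39200 25 chkP_39200 i (by omega) (by omega)
                · skip
                  exact allRangeF_sound _ _ (checkPointF_eq cert) 39225 25 chkP_39225 i (by omega) (by omega)
              · skip
                rcases Nat.lt_or_ge i 39275 with h8 | h8
                · skip
                  exact allRangeF_sound _ _ (checkPointF_eq cert) 39250 25 chkP_39250 i (by omega) (by omega)
                · skip
                  rcases Nat.lt_or_ge i 39300 with h9 | h9
                  · skip
                    exact allRangeF_sound _ _ (checkPointF_eq cert) 39275 25 chkP_39275 i (by omega) (by omega)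
                  · skip
                    exact allRangeF_sound _ _ (checkPointF_eq cert) 39300 25 chkP_39300 i (by omega) (by omega)
      · skip
        rcases Nat.lt_or_ge i 39800 with h4 | h4
        · skip
          rcases Nat.lt_or_ge i 39550 with h5 | h5
          · skip
            rcases Nat.lt_or_ge i 39425 with h6 | h6
            · skip
              rcases Nat.lt_or_ge i 39375 with h7 | h7
              · skip
                rcases Nat.lt_or_ge i 39350 with h8 | h8
                · skip
                  exact allRangeF_sound _ _ (checkPointF_eq cert) 39325 25 chkP_39325 i (by omega) (by omega)
                · skip
                  exact allRangeF_sound _ _ (checkPointF_eq cert) 39350 25 chkP_39350 i (by omega) (by omega)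
              · skip
                rcases Nat.lt_or_ge i 39400 with h8 | h8
                · skip
                  exact allRangeF_sound _ _ (checkPointF_eq cert) 39375 25 chkP_39375 i (by omega) (by omega)
                · skip
                  exact allRangeF_sound _ _ (checkPointF_eq cert) 39400 25 chkP_39400 i (by omega) (by omega)
            · skip
              rcases Nat.lt_or_ge i 39475 with h7 | h7
              · skip
                rcases Nat.lt_or_ge i 39450 with h8 | h8
                · skip
                  exact allRangeF_sound _ _ (checkPointF_eq cert) 39425 25 chkP_39425 i (by omega) (by omega)
                · skip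
                  exact allRangeF_sound _ _ (checkPointF_eq cert) 39450 25 chkP_39450 i (by omega) (by omega)
              · skip
                rcases Nat.lt_or_ge i 39500 with h8 | h8
                · skip
                  exact allRangeF_sound _ _ (checkPointF_eq cert) 39475 25 chkP_39475 i (by omega) (by omega)
                · skip
                  rcases Nat.lt_or_ge i 39525 with h9 | h9
                  · skip
                    exact allRangeF_sound _ _ (checkPointF_eq cert) 39500 25 chkP_39500 i (by omega) (by omega)
                  · skip
                    exact allRangeF_sound _ _ (checkPointF_eq cert) 39525 25 chkP_39525 i (by omega) (by omega)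
          · skip
            rcases Nat.lt_or_ge i 39675 with h6 | h6
            · skip
              rcases Nat.lt_or_ge i 39600 with h7 | h7
              · skip
                rcases Nat.lt_or_ge i 39575 with h8 | h8
                · skip
                  exact allRangeF_sound _ _ (checkPointF_eq cert) 39550 25 chkP_39550 i (by omega) (by omega)
                · skip
                  exact allRangeF_sound _ _ (checkPointF_eq cert) 39575 25 chkP_39575 i (by omega) (by omega)
              · skip
                rcases Nat.lt_or_ge i 39625 with h8 | h8
                · skip
                  exact allRangeF_sound _ _ (checkPointF_eq cert) 39600 25 chkP_39600 i (by omega) (by omega)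
                · skip
                  rcases Nat.lt_or_ge i 39650 with h9 | h9
                  · skip
                    exact allRangeF_sound _ _ (checkPointF_eq cert) 39625 25 chkP_39625 i (by omega) (by omega)
                  · skip
                    exact allRangeF_sound _ _ (checkPointF_eq cert) 39650 25 chkP_39650 i (by omega) (by omega)
            · skip
              rcases Nat.lt_or_ge i 39725 with h7 | h7
              · skip
                rcases Nat.lt_or_ge i 39700 with h8 | h8
                · skip
                  exact allRangeF_sound _ _ (checkPointF_eq cert) 39675 25 chkP_39675 i (by omega) (by omega)
                · skip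
                  exact allRangeF_sound _ _ (checkPointF_eq cert) 39700 25 chkP_39700 i (by omega) (by omega)
              · skip
                rcases Nat.lt_or_ge i 39750 with h8 | h8
                · skip
                  exact allRangeF_sound _ _ (checkPointF_eq cert) 39725 25 chkP_39725 i (by omega) (by omega)
                · skip
                  rcases Nat.lt_or_ge i 39775 with h9 | h9
                  · skip
                    exact allRangeF_sound _ _ (checkPointF_eq cert) 39750 25 chkP_39750 i (by omega) (by omega)
                  · skip
                    exact allRangeF_sound _ _ (checkPointF_eq cert) 39775 25 chkP_39775 i (by omega) (by omega)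
        · skip
          rcases Nat.lt_or_ge i 40025 with h5 | h5
          · skip
            rcases Nat.lt_or_ge i 39900 with h6 | h6
            · skip
              rcases Nat.lt_or_ge i 39850 with h7 | h7
              · skip
                rcases Nat.lt_or_ge i 39825 with h8 | h8
                · skip
                  exact allRangeF_sound _ _ (checkPointF_eq cert) 39800 25 chkP_39800 i (by omega) (by omega)
                · skip
                  exact allRangeF_sound _ _ (checkPointF_eq cert) 39825 25 chkP_39825 i (by omega) (by omega)
              · skip
                rcases Nat.lt_or_ge i 39875 with h8 | h8
                · skip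
                  exact allRangeF_sound _ _ (checkPointF_eq cert) 39850 25 chkP_39850 i (by omega) (by omega)
                · skip
                  exact allRangeF_sound _ _ (checkPointF_eq cert) 39875 25 chkP_39875 i (by omega) (by omega)
            · skip
              rcases Nat.lt_or_ge i 39950 with h7 | h7
              · skip
                rcases Nat.lt_or_ge i 39925 with h8 | h8
                · skip
                  exact allRangeF_sound _ _ (checkPointF_eq cert) 39900 25 chkP_39900 i (by omega) (by omega)
                · skip
                  exact allRangeF_sound _ _ (checkPointF_eq cert) 39925 25 chkP_39925 i (by omega) (by omega)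
              · skip
                rcases Nat.lt_or_ge i 39975 with h8 | h8
                · skip
                  exact allRangeF_sound _ _ (checkPointF_eq cert) 39950 25 chkP_39950 i (by omega) (by omega)
                · skip
                  rcases Nat.lt_or_ge i 40000 with h9 | h9
                  · skip
                    exact allRangeF_sound _ _ (checkPointF_eq cert) 39975 25 chkP_39975 i (by omega) (by omega)
                  · skip
                    exact allRangeF_sound _ _ (checkPointF_eq cert) 40000 25 chkP_40000 i (by omega) (by omega)
          · skip
            rcases Nat.lt_or_ge i 40150 with h6 | h6
            · skip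
              rcases Nat.lt_or_ge i 40075 with h7 | h7
              · skip
                rcases Nat.lt_or_ge i 40050 with h8 | h8
                · skip
                  exact allRangeF_sound _ _ (checkPointF_eq cert) 40025 25 chkP_40025 i (by omega) (by omega)
                · skip
                  exact allRangeF_sound _ _ (checkPointF_eq cert) 40050 25 chkP_40050 i (by omega) (by omega)
              · skip
                rcases Nat.lt_or_ge i 40100 with h8 | h8
                · skip
                  exact allRangeF_sound _ _ (checkPointF_eq cert) 40075 25 chkP_40075 i (by omega) (by omega)
                · skip
                  rcases Nat.lt_or_ge i 40125 with h9 | h9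
                  · skip
                    exact allRangeF_sound _ _ (checkPointF_eq cert) 40100 25 chkP_40100 i (by omega) (by omega)
                  · skip
                    exact allRangeF_sound _ _ (checkPointF_eq cert) 40125 25 chkP_40125 i (by omega) (by omega)
            · skip
              rcases Nat.lt_or_ge i 40200 with h7 | h7
              · skip
                rcases Nat.lt_or_ge i 40175 with h8 | h8
                · skip
                  exact allRangeF_sound _ _ (checkPointF_eq cert) 40150 25 chkP_40150 i (by omega) (by omega)
                · skip
                  exact allRangeF_sound _ _ (checkPointF_eq cert) 40175 25 chkP_40175 i (by omega) (by omega)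
              · skip
                rcases Nat.lt_or_ge i 40225 with h8 | h8
                · skip
                  exact allRangeF_sound _ _ (checkPointF_eq cert) 40200 25 chkP_40200 i (by omega) (by omega)
                · skip
                  rcases Nat.lt_or_ge i 40250 with h9 | h9
                  · skip
                    exact allRangeF_sound _ _ (checkPointF_eq cert) 40225 25 chkP_40225 i (by omega) (by omega)
                  · skip
                    exact allRangeF_sound _ _ (checkPointF_eq cert) 40250 25 chkP_40250 i (by omega) (by omega)
    · skip
      rcases Nat.lt_or_ge i 41225 with h3 | h3
      · skip
        rcases Nat.lt_or_ge i 40750 with h4 | h4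
        · skip
          rcases Nat.lt_or_ge i 40500 with h5 | h5
          · skip
            rcases Nat.lt_or_ge i 40375 with h6 | h6
            · skip
              rcases Nat.lt_or_ge i 40325 with h7 | h7
              · skip
                rcases Nat.lt_or_ge i 40300 with h8 | h8
                · skip
                  exact allRangeF_sound _ _ (checkPointF_eq cert) 40275 25 chkP_40275 i (by omega) (by omega)
                · skip
                  exact allRangeF_sound _ _ (checkPointF_eq cert) 40300 25 chkP_40300 i (by omega) (by omega)
              · skip
                rcases Nat.lt_or_ge i 40350 with h8 | h8
                · skip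
                  exact allRangeF_sound _ _ (checkPointF_eq cert) 40325 25 chkP_40325 i (by omega) (by omega)
                · skip
                  exact allRangeF_sound _ _ (checkPointF_eq cert) 40350 25 chkP_40350 i (by omega) (by omega)
            · skip
              rcases Nat.lt_or_ge i 40425 with h7 | h7
              · skip
                rcases Nat.lt_or_ge i 40400 with h8 | h8
                · skip
                  exact allRangeF_sound _ _ (checkPointF_eq cert) 40375 25 chkP_40375 i (by omega) (by omega)
                · skip
                  exact allRangeF_sound _ _ (checkPointF_eq cert) 40400 25 chkP_40400 i (by omega) (by omega)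
              · skip
                rcases Nat.lt_or_ge i 40450 with h8 | h8
                · skip
                  exact allRangeF_sound _ _ (checkPointF_eq cert) 40425 25 chkP_40425 i (by omega) (by omega)
                · skip
                  rcases Nat.lt_or_ge i 40475 with h9 | h9
                  · skip
                    exact allRangeF_sound _ _ (checkPointF_eq cert) 40450 25 chkP_40450 i (by omega) (by omega)
                  · skip
                    exact allRangeF_sound _ _ (checkPointF_eq cert) 40475 25 chkP_40475 i (by omega) (by omega)
          · skip
            rcases Nat.lt_or_ge i 40625 with h6 | h6
            · skip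
              rcases Nat.lt_or_ge i 40550 with h7 | h7
              · skip
                rcases Nat.lt_or_ge i 40525 with h8 | h8
                · skip
                  exact allRangeF_sound _ _ (checkPointF_eq cert) 40500 25 chkP_40500 i (by omega) (by omega)
                · skip
                  exact allRangeF_sound _ _ (checkPointF_eq cert) 40525 25 chkP_40525 i (by omega) (by omega)
              · skip
                rcases Nat.lt_or_ge i 40575 with h8 | h8
                · skip
                  exact allRangeF_sound _ _ (checkPointF_eq cert) 40550 25 chkP_40550 i (by omega) (by omega)
                · skip
                  rcases Nat.lt_or_ge i 40600 with h9 | h9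
                  · skip
                    exact allRangeF_sound _ _ (checkPointF_eq cert) 40575 25 chkP_40575 i (by omega) (by omega)
                  · skip
                    exact allRangeF_sound _ _ (checkPointF_eq cert) 40600 25 chkP_40600 i (by omega) (by omega)
            · skip
              rcases Nat.lt_or_ge i 40675 with h7 | h7
              · skip
                rcases Nat.lt_or_ge i 40650 with h8 | h8
                · skip
                  exact allRangeF_sound _ _ (checkPointF_eq cert) 40625 25 chkP_40625 i (by omega) (by omega)
                · skip
                  exact allRangeF_sound _ _ (checkPointF_eq cert) 40650 25 chkP_40650 i (by omega) (by omega)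
              · skip
                rcases Nat.lt_or_ge i 40700 with h8 | h8
                · skip
                  exact allRangeF_sound _ _ (checkPointF_eq cert) 40675 25 chkP_40675 i (by omega) (by omega)
                · skip
                  rcases Nat.lt_or_ge i 40725 with h9 | h9
                  · skip
                    exact allRangeF_sound _ _ (checkPointF_eq cert) 40700 25 chkP_40700 i (by omega) (by omega)
                  · skip
                    exact allRangeF_sound _ _ (checkPointF_eq cert) 40725 25 chkP_40725 i (by omega) (by omega)
        · skip
          rcases Nat.lt_or_ge i 40975 with h5 | h5
          · skip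
            rcases Nat.lt_or_ge i 40850 with h6 | h6
            · skip
              rcases Nat.lt_or_ge i 40800 with h7 | h7
              · skip
                rcases Nat.lt_or_ge i 40775 with h8 | h8
                · skip
                  exact allRangeF_sound _ _ (checkPointF_eq cert) 40750 25 chkP_40750 i (by omega) (by omega)
                · skip
                  exact allRangeF_sound _ _ (checkPointF_eq cert) 40775 25 chkP_40775 i (by omega) (by omega)
              · skip
                rcases Nat.lt_or_ge i 40825 with h8 | h8
                · skip
                  exact allRangeF_sound _ _ (checkPointF_eq cert) 40800 25 chkP_40800 i (by omega) (by omega)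
                · skip
                  exact allRangeF_sound _ _ (checkPointF_eq cert) 40825 25 chkP_40825 i (by omega) (by omega)
            · skip
              rcases Nat.lt_or_ge i 40900 with h7 | h7
              · skip
                rcases Nat.lt_or_ge i 40875 with h8 | h8
                · skip
                  exact allRangeF_sound _ _ (checkPointF_eq cert) 40850 25 chkP_40850 i (by omega) (by omega)
                · skip
                  exact allRangeF_sound _ _ (checkPointF_eq cert) 40875 25 chkP_40875 i (by omega) (by omega)
              · skip
                rcases Nat.lt_or_ge i 40925 with h8 | h8
                · skip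
                  exact allRangeF_sound _ _ (checkPointF_eq cert) 40900 25 chkP_40900 i (by omega) (by omega)
                · skip
                  rcases Nat.lt_or_ge i 40950 with h9 | h9
                  · skip
                    exact allRangeF_sound _ _ (checkPointF_eq cert) 40925 25 chkP_40925 i (by omega) (by omega)
                  · skip
                    exact allRangeF_sound _ _ (checkPointF_eq cert) 40950 25 chkP_40950 i (by omega) (by omega)
          · skip
            rcases Nat.lt_or_ge i 41100 with h6 | h6
            · skip
              rcases Nat.lt_or_ge i 41025 with h7 | h7
              · skip
                rcases Nat.lt_or_ge i 41000 with h8 | h8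
                · skip
                  exact allRangeF_sound _ _ (checkPointF_eq cert) 40975 25 chkP_40975 i (by omega) (by omega)
                · skip
                  exact allRangeF_sound _ _ (checkPointF_eq cert) 41000 25 chkP_41000 i (by omega) (by omega)
              · skip
                rcases Nat.lt_or_ge i 41050 with h8 | h8
                · skip
                  exact allRangeF_sound _ _ (checkPointF_eq cert) 41025 25 chkP_41025 i (by omega) (by omega)
                · skip
                  rcases Nat.lt_or_ge i 41075 with h9 | h9
                  · skip
                    exact allRangeF_sound _ _ (checkPointF_eq cert) 41050 25 chkP_41050 i (by omega) (by omega)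
                  · skip
                    exact allRangeF_sound _ _ (checkPointF_eq cert) 41075 25 chkP_41075 i (by omega) (by omega)
            · skip
              rcases Nat.lt_or_ge i 41150 with h7 | h7
              · skip
                rcases Nat.lt_or_ge i 41125 with h8 | h8
                · skip
                  exact allRangeF_sound _ _ (checkPointF_eq cert) 41100 25 chkP_41100 i (by omega) (by omega)
                · skip
                  exact allRangeF_sound _ _ (checkPointF_eq cert) 41125 25 chkP_41125 i (by omega) (by omega)
              · skip
                rcases Nat.lt_or_ge i 41175 with h8 | h8
                · skip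
                  exact allRangeF_sound _ _ (checkPointF_eq cert) 41150 25 chkP_41150 i (by omega) (by omega)
                · skip
                  rcases Nat.lt_or_ge i 41200 with h9 | h9
                  · skip
                    exact allRangeF_sound _ _ (checkPointF_eq cert) 41175 25 chkP_41175 i (by omega) (by omega)
                  · skip
                    exact allRangeF_sound _ _ (checkPointF_eq cert) 41200 25 chkP_41200 i (by omega) (by omega)
      · skip
        rcases Nat.lt_or_ge i 41700 with h4 | h4
        · skip
          rcases Nat.lt_or_ge i 41450 with h5 | h5
          · skip
            rcases Nat.lt_or_ge i 41325 with h6 | h6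
            · skip
              rcases Nat.lt_or_ge i 41275 with h7 | h7
              · skip
                rcases Nat.lt_or_ge i 41250 with h8 | h8
                · skip
                  exact allRangeF_sound _ _ (checkPointF_eq cert) 41225 25 chkP_41225 i (by omega) (by omega)
                · skip
                  exact allRangeF_sound _ _ (checkPointF_eq cert) 41250 25 chkP_41250 i (by omega) (by omega)
              · skip
                rcases Nat.lt_or_ge i 41300 with h8 | h8
                · skip
                  exact allRangeF_sound _ _ (checkPointF_eq cert) 41275 25 chkP_41275 i (by omega) (by omega)
                · skip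
                  exact allRangeF_sound _ _ (checkPointF_eq cert) 41300 25 chkP_41300 i (by omega) (by omega)
            · skip
              rcases Nat.lt_or_ge i 41375 with h7 | h7
              · skip
                rcases Nat.lt_or_ge i 41350 with h8 | h8
                · skip
                  exact allRangeF_sound _ _ (checkPointF_eq cert) 41325 25 chkP_41325 i (by omega) (by omega)
                · skip
                  exact allRangeF_sound _ _ (checkPointF_eq cert) 41350 25 chkP_41350 i (by omega) (by omega)
              · skip
                rcases Nat.lt_or_ge i 41400 with h8 | h8
                · skip
                  exact allRangeF_sound _ _ (checkPointF_eq cert) 41375 25 chkP_41375 i (by omega) (by omega)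
                · skip
                  rcases Nat.lt_or_ge i 41425 with h9 | h9
                  · skip
                    exact allRangeF_sound _ _ (checkPointF_eq cert) 41400 25 chkP_41400 i (by omega) (by omega)
                  · skip
                    exact allRangeF_sound _ _ (checkPointF_eq cert) 41425 25 chkP_41425 i (by omega) (by omega)
          · skip
            rcases Nat.lt_or_ge i 41575 with h6 | h6
            · skip
              rcases Nat.lt_or_ge i 41500 with h7 | h7
              · skip
                rcases Nat.lt_or_ge i 41475 with h8 | h8
                · skip
                  exact allRangeF_sound _ _ (checkPointF_eq cert) 41450 25 chkP_41450 i (by omega) (by omega)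
                · skip
                  exact allRangeF_sound _ _ (checkPointF_eq cert) 41475 25 chkP_41475 i (by omega) (by omega)
              · skip
                rcases Nat.lt_or_ge i 41525 with h8 | h8
                · skip
                  exact allRangeF_sound _ _ (checkPointF_eq cert) 41500 25 chkP_41500 i (by omega) (by omega)
                · skip
                  rcases Nat.lt_or_ge i 41550 with h9 | h9
                  · skip
                    exact allRangeF_sound _ _ (checkPointF_eq cert) 41525 25 chkP_41525 i (by omega) (by omega)
                  · skip
                    exact allRangeF_sound _ _ (checkPointF_eq cert) 41550 25 chkP_41550 i (by omega) (by omega)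
            · skip
              rcases Nat.lt_or_ge i 41625 with h7 | h7
              · skip
                rcases Nat.lt_or_ge i 41600 with h8 | h8
                · skip
                  exact allRangeF_sound _ _ (checkPointF_eq cert) 41575 25 chkP_41575 i (by omega) (by omega)
                · skip
                  exact allRangeF_sound _ _ (checkPointF_eq cert) 41600 25 chkP_41600 i (by omega) (by omega)
              · skip
                rcases Nat.lt_or_ge i 41650 with h8 | h8
                · skip
                  exact allRangeF_sound _ _ (checkPointF_eq cert) 41625 25 chkP_41625 i (by omega) (by omega)
                · skip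
                  rcases Nat.lt_or_ge i 41675 with h9 | h9
                  · skip
                    exact allRangeF_sound _ _ (checkPointF_eq cert) 41650 25 chkP_41650 i (by omega) (by omega)
                  · skip
                    exact allRangeF_sound _ _ (checkPointF_eq cert) 41675 25 chkP_41675 i (by omega) (by omega)
        · skip
          rcases Nat.lt_or_ge i 41950 with h5 | h5
          · skip
            rcases Nat.lt_or_ge i 41825 with h6 | h6
            · skip
              rcases Nat.lt_or_ge i 41750 with h7 | h7
              · skip
                rcases Nat.lt_or_ge i 41725 with h8 | h8
                · skip
                  exact allRangeF_sound _ _ (checkPointF_eq cert) 41700 25 chkP_41700 i (by omega) (by omega)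
                · skip
                  exact allRangeF_sound _ _ (checkPointF_eq cert) 41725 25 chkP_41725 i (by omega) (by omega)
              · skip
                rcases Nat.lt_or_ge i 41775 with h8 | h8
                · skip
                  exact allRangeF_sound _ _ (checkPointF_eq cert) 41750 25 chkP_41750 i (by omega) (by omega)
                · skip
                  rcases Nat.lt_or_ge i 41800 with h9 | h9
                  · skip
                    exact allRangeF_sound _ _ (checkPointF_eq cert) 41775 25 chkP_41775 i (by omega) (by omega)
                  · skip
                    exact allRangeF_sound _ _ (checkPointF_eq cert) 41800 25 chkP_41800 i (by omega) (by omega)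
            · skip
              rcases Nat.lt_or_ge i 41875 with h7 | h7
              · skip
                rcases Nat.lt_or_ge i 41850 with h8 | h8
                · skip
                  exact allRangeF_sound _ _ (checkPointF_eq cert) 41825 25 chkP_41825 i (by omega) (by omega)
                · skip
                  exact allRangeF_sound _ _ (checkPointF_eq cert) 41850 25 chkP_41850 i (by omega) (by omega)
              · skip
                rcases Nat.lt_or_ge i 41900 with h8 | h8
                · skip
                  exact allRangeF_sound _ _ (checkPointF_eq cert) 41875 25 chkP_41875 i (by omega) (by omega)
                · skip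
                  rcases Nat.lt_or_ge i 41925 with h9 | h9
                  · skip
                    exact allRangeF_sound _ _ (checkPointF_eq cert) 41900 25 chkP_41900 i (by omega) (by omega)
                  · skip
                    exact allRangeF_sound _ _ (checkPointF_eq cert) 41925 25 chkP_41925 i (by omega) (by omega)
          · skip
            rcases Nat.lt_or_ge i 42075 with h6 | h6
            · skip
              rcases Nat.lt_or_ge i 42000 with h7 | h7
              · skip
                rcases Nat.lt_or_ge i 41975 with h8 | h8
                · skip
                  exact allRangeF_sound _ _ (checkPointF_eq cert) 41950 25 chkP_41950 i (by omega) (by omega)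
                · skip
                  exact allRangeF_sound _ _ (checkPointF_eq cert) 41975 25 chkP_41975 i (by omega) (by omega)
              · skip
                rcases Nat.lt_or_ge i 42025 with h8 | h8
                · skip
                  exact allRangeF_sound _ _ (checkPointF_eq cert) 42000 25 chkP_42000 i (by omega) (by omega)
                · skip
                  rcases Nat.lt_or_ge i 42050 with h9 | h9
                  · skip
                    exact allRangeF_sound _ _ (checkPointF_eq cert) 42025 25 chkP_42025 i (by omega) (by omega)
                  · skip
                    exact allRangeF_sound _ _ (checkPointF_eq cert) 42050 25 chkP_42050 i (by omega) (by omega)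
            · skip
              rcases Nat.lt_or_ge i 42125 with h7 | h7
              · skip
                rcases Nat.lt_or_ge i 42100 with h8 | h8
                · skip
                  exact allRangeF_sound _ _ (checkPointF_eq cert) 42075 25 chkP_42075 i (by omega) (by omega)
                · skip
                  exact allRangeF_sound _ _ (checkPointF_eq cert) 42100 25 chkP_42100 i (by omega) (by omega)
              · skip
                rcases Nat.lt_or_ge i 42150 with h8 | h8
                · skip
                  exact allRangeF_sound _ _ (checkPointF_eq cert) 42125 25 chkP_42125 i (by omega) (by omega)
                · skip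
                  rcases Nat.lt_or_ge i 42175 with h9 | h9
                  · skip
                    exact allRangeF_sound _ _ (checkPointF_eq cert) 42150 25 chkP_42150 i (by omega) (by omega)
                  · skip
                    exact allRangeF_sound _ _ (checkPointF_eq cert) 42175 25 chkP_42175 i (by omega) (by omega)
  · skip
    rcases Nat.lt_or_ge i 44125 with h2 | h2
    · skip
      rcases Nat.lt_or_ge i 43150 with h3 | h3
      · skip
        rcases Nat.lt_or_ge i 42675 with h4 | h4
        · skip
          rcases Nat.lt_or_ge i 42425 with h5 | h5
          · skip
            rcases Nat.lt_or_ge i 42300 with h6 | h6
            · skip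
              rcases Nat.lt_or_ge i 42250 with h7 | h7
              · skip
                rcases Nat.lt_or_ge i 42225 with h8 | h8
                · skip
                  exact allRangeF_sound _ _ (checkPointF_eq cert) 42200 25 chkP_42200 i (by omega) (by omega)
                · skip
                  exact allRangeF_sound _ _ (checkPointF_eq cert) 42225 25 chkP_42225 i (by omega) (by omega)
              · skip
                rcases Nat.lt_or_ge i 42275 with h8 | h8
                · skip
                  exact allRangeF_sound _ _ (checkPointF_eq cert) 42250 25 chkP_42250 i (by omega) (by omega)
                · skip
                  exact allRangeF_sound _ _ (checkPointF_eq cert) 42275 25 chkP_42275 i (by omega) (by omega)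
            · skip
              rcases Nat.lt_or_ge i 42350 with h7 | h7
              · skip
                rcases Nat.lt_or_ge i 42325 with h8 | h8
                · skip
                  exact allRangeF_sound _ _ (checkPointF_eq cert) 42300 25 chkP_42300 i (by omega) (by omega)
                · skip
                  exact allRangeF_sound _ _ (checkPointF_eq cert) 42325 25 chkP_42325 i (by omega) (by omega)
              · skip
                rcases Nat.lt_or_ge i 42375 with h8 | h8
                · skip
                  exact allRangeF_sound _ _ (checkPointF_eq cert) 42350 25 chkP_42350 i (by omega) (by omega)
                · skip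
                  rcases Nat.lt_or_ge i 42400 with h9 | h9
                  · skip
                    exact allRangeF_sound _ _ (checkPointF_eq cert) 42375 25 chkP_42375 i (by omega) (by omega)
                  · skip
                    exact allRangeF_sound _ _ (checkPointF_eq cert) 42400 25 chkP_42400 i (by omega) (by omega)
          · skip
            rcases Nat.lt_or_ge i 42550 with h6 | h6
            · skip
              rcases Nat.lt_or_ge i 42475 with h7 | h7
              · skip
                rcases Nat.lt_or_ge i 42450 with h8 | h8
                · skip
                  exact allRangeF_sound _ _ (checkPointF_eq cert) 42425 25 chkP_42425 i (by omega) (by omega)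
                · skip
                  exact allRangeF_sound _ _ (checkPointF_eq cert) 42450 25 chkP_42450 i (by omega) (by omega)
              · skip
                rcases Nat.lt_or_ge i 42500 with h8 | h8
                · skip
                  exact allRangeF_sound _ _ (checkPointF_eq cert) 42475 25 chkP_42475 i (by omega) (by omega)
                · skip
                  rcases Nat.lt_or_ge i 42525 with h9 | h9
                  · skip
                    exact allRangeF_sound _ _ (checkPointF_eq cert) 42500 25 chkP_42500 i (by omega) (by omega)
                  · skip
                    exact allRangeF_sound _ _ (checkPointF_eq cert) 42525 25 chkP_42525 i (by omega) (by omega)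
            · skip
              rcases Nat.lt_or_ge i 42600 with h7 | h7
              · skip
                rcases Nat.lt_or_ge i 42575 with h8 | h8
                · skip
                  exact allRangeF_sound _ _ (checkPointF_eq cert) 42550 25 chkP_42550 i (by omega) (by omega)
                · skip
                  exact allRangeF_sound _ _ (checkPointF_eq cert) 42575 25 chkP_42575 i (by omega) (by omega)
              · skip
                rcases Nat.lt_or_ge i 42625 with h8 | h8
                · skip
                  exact allRangeF_sound _ _ (checkPointF_eq cert) 42600 25 chkP_42600 i (by omega) (by omega)
                · skip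
                  rcases Nat.lt_or_ge i 42650 with h9 | h9
                  · skip
                    exact allRangeF_sound _ _ (checkPointF_eq cert) 42625 25 chkP_42625 i (by omega) (by omega)
                  · skip
                    exact allRangeF_sound _ _ (checkPointF_eq cert) 42650 25 chkP_42650 i (by omega) (by omega)
        · skip
          rcases Nat.lt_or_ge i 42900 with h5 | h5
          · skip
            rcases Nat.lt_or_ge i 42775 with h6 | h6
            · skip
              rcases Nat.lt_or_ge i 42725 with h7 | h7
              · skip
                rcases Nat.lt_or_ge i 42700 with h8 | h8
                · skip
                  exact allRangeF_sound _ _ (checkPointF_eq cert) 42675 25 chkP_42675 i (by omega) (by omega)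
                · skip
                  exact allRangeF_sound _ _ (checkPointF_eq cert) 42700 25 chkP_42700 i (by omega) (by omega)
              · skip
                rcases Nat.lt_or_ge i 42750 with h8 | h8
                · skip
                  exact allRangeF_sound _ _ (checkPointF_eq cert) 42725 25 chkP_42725 i (by omega) (by omega)
                · skip
                  exact allRangeF_sound _ _ (checkPointF_eq cert) 42750 25 chkP_42750 i (by omega) (by omega)
            · skip
              rcases Nat.lt_or_ge i 42825 with h7 | h7
              · skip
                rcases Nat.lt_or_ge i 42800 with h8 | h8
                · skip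
                  exact allRangeF_sound _ _ (checkPointF_eq cert) 42775 25 chkP_42775 i (by omega) (by omega)
                · skip
                  exact allRangeF_sound _ _ (checkPointF_eq cert) 42800 25 chkP_42800 i (by omega) (by omega)
              · skip
                rcases Nat.lt_or_ge i 42850 with h8 | h8
                · skip
                  exact allRangeF_sound _ _ (checkPointF_eq cert) 42825 25 chkP_42825 i (by omega) (by omega)
                · skip
                  rcases Nat.lt_or_ge i 42875 with h9 | h9
                  · skip
                    exact allRangeF_sound _ _ (checkPointF_eq cert) 42850 25 chkP_42850 i (by omega) (by omega)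
                  · skip
                    exact allRangeF_sound _ _ (checkPointF_eq cert) 42875 25 chkP_42875 i (by omega) (by omega)
          · skip
            rcases Nat.lt_or_ge i 43025 with h6 | h6
            · skip
              rcases Nat.lt_or_ge i 42950 with h7 | h7
              · skip
                rcases Nat.lt_or_ge i 42925 with h8 | h8
                · skip
                  exact allRangeF_sound _ _ (checkPointF_eq cert) 42900 25 chkP_42900 i (by omega) (by omega)
                · skip
                  exact allRangeF_sound _ _ (checkPointF_eq cert) 42925 25 chkP_42925 i (by omega) (by omega)
              · skip
                rcases Nat.lt_or_ge i 42975 with h8 | h8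
                · skip
                  exact allRangeF_sound _ _ (checkPointF_eq cert) 42950 25 chkP_42950 i (by omega) (by omega)
                · skip
                  rcases Nat.lt_or_ge i 43000 with h9 | h9
                  · skip
                    exact allRangeF_sound _ _ (checkPointF_eq cert) 42975 25 chkP_42975 i (by omega) (by omega)
                  · skip
                    exact allRangeF_sound _ _ (checkPointF_eq cert) 43000 25 chkP_43000 i (by omega) (by omega)
            · skip
              rcases Nat.lt_or_ge i 43075 with h7 | h7
              · skip
                rcases Nat.lt_or_ge i 43050 with h8 | h8
                · skip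
                  exact allRangeF_sound _ _ (checkPointF_eq cert) 43025 25 chkP_43025 i (by omega) (by omega)
                · skip
                  exact allRangeF_sound _ _ (checkPointF_eq cert) 43050 25 chkP_43050 i (by omega) (by omega)
              · skip
                rcases Nat.lt_or_ge i 43100 with h8 | h8
                · skip
                  exact allRangeF_sound _ _ (checkPointF_eq cert) 43075 25 chkP_43075 i (by omega) (by omega)
                · skip
                  rcases Nat.lt_or_ge i 43125 with h9 | h9
                  · skip
                    exact allRangeF_sound _ _ (checkPointF_eq cert) 43100 25 chkP_43100 i (by omega) (by omega)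
                  · skip
                    exact allRangeF_sound _ _ (checkPointF_eq cert) 43125 25 chkP_43125 i (by omega) (by omega)
      · skip
        rcases Nat.lt_or_ge i 43625 with h4 | h4
        · skip
          rcases Nat.lt_or_ge i 43375 with h5 | h5
          · skip
            rcases Nat.lt_or_ge i 43250 with h6 | h6
            · skip
              rcases Nat.lt_or_ge i 43200 with h7 | h7
              · skip
                rcases Nat.lt_or_ge i 43175 with h8 | h8
                · skip
                  exact allRangeF_sound _ _ (checkPointF_eq cert) 43150 25 chkP_43150 i (by omega) (by omega)
                · skip
                  exact allRangeF_sound _ _ (checkPointF_eq cert) 43175 25 chkP_43175 i (by omega) (by omega)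
              · skip
                rcases Nat.lt_or_ge i 43225 with h8 | h8
                · skip
                  exact allRangeF_sound _ _ (checkPointF_eq cert) 43200 25 chkP_43200 i (by omega) (by omega)
                · skip
                  exact allRangeF_sound _ _ (checkPointF_eq cert) 43225 25 chkP_43225 i (by omega) (by omega)
            · skip
              rcases Nat.lt_or_ge i 43300 with h7 | h7
              · skip
                rcases Nat.lt_or_ge i 43275 with h8 | h8
                · skip
                  exact allRangeF_sound _ _ (checkPointF_eq cert) 43250 25 chkP_43250 i (by omega) (by omega)
                · skip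
                  exact allRangeF_sound _ _ (checkPointF_eq cert) 43275 25 chkP_43275 i (by omega) (by omega)
              · skip
                rcases Nat.lt_or_ge i 43325 with h8 | h8
                · skip
                  exact allRangeF_sound _ _ (checkPointF_eq cert) 43300 25 chkP_43300 i (by omega) (by omega)
                · skip
                  rcases Nat.lt_or_ge i 43350 with h9 | h9
                  · skip
                    exact allRangeF_sound _ _ (checkPointF_eq cert) 43325 25 chkP_43325 i (by omega) (by omega)
                  · skip
                    exact allRangeF_sound _ _ (checkPointF_eq cert) 43350 25 chkP_43350 i (by omega) (by omega)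
          · skip
            rcases Nat.lt_or_ge i 43500 with h6 | h6
            · skip
              rcases Nat.lt_or_ge i 43425 with h7 | h7
              · skip
                rcases Nat.lt_or_ge i 43400 with h8 | h8
                · skip
                  exact allRangeF_sound _ _ (checkPointF_eq cert) 43375 25 chkP_43375 i (by omega) (by omega)
                · skip
                  exact allRangeF_sound _ _ (checkPointF_eq cert) 43400 25 chkP_43400 i (by omega) (by omega)
              · skip
                rcases Nat.lt_or_ge i 43450 with h8 | h8
                · skip
                  exact allRangeF_sound _ _ (checkPointF_eq cert) 43425 25 chkP_43425 i (by omega) (by omega)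
                · skip
                  rcases Nat.lt_or_ge i 43475 with h9 | h9
                  · skip
                    exact allRangeF_sound _ _ (checkPointF_eq cert) 43450 25 chkP_43450 i (by omega) (by omega)
                  · skip
                    exact allRangeF_sound _ _ (checkPointF_eq cert) 43475 25 chkP_43475 i (by omega) (by omega)
            · skip
              rcases Nat.lt_or_ge i 43550 with h7 | h7
              · skip
                rcases Nat.lt_or_ge i 43525 with h8 | h8
                · skip
                  exact allRangeF_sound _ _ (checkPointF_eq cert) 43500 25 chkP_43500 i (by omega) (by omega)
                · skip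
                  exact allRangeF_sound _ _ (checkPointF_eq cert) 43525 25 chkP_43525 i (by omega) (by omega)
              · skip
                rcases Nat.lt_or_ge i 43575 with h8 | h8
                · skip
                  exact allRangeF_sound _ _ (checkPointF_eq cert) 43550 25 chkP_43550 i (by omega) (by omega)
                · skip
                  rcases Nat.lt_or_ge i 43600 with h9 | h9
                  · skip
                    exact allRangeF_sound _ _ (checkPointF_eq cert) 43575 25 chkP_43575 i (by omega) (by omega)
                  · skip
                    exact allRangeF_sound _ _ (checkPointF_eq cert) 43600 25 chkP_43600 i (by omega) (by omega)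
        · skip
          rcases Nat.lt_or_ge i 43875 with h5 | h5
          · skip
            rcases Nat.lt_or_ge i 43750 with h6 | h6
            · skip
              rcases Nat.lt_or_ge i 43675 with h7 | h7
              · skip
                rcases Nat.lt_or_ge i 43650 with h8 | h8
                · skip
                  exact allRangeF_sound _ _ (checkPointF_eq cert) 43625 25 chkP_43625 i (by omega) (by omega)
                · skip
                  exact allRangeF_sound _ _ (checkPointF_eq cert) 43650 25 chkP_43650 i (by omega) (by omega)
              · skip
                rcases Nat.lt_or_ge i 43700 with h8 | h8
                · skip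
                  exact allRangeF_sound _ _ (checkPointF_eq cert) 43675 25 chkP_43675 i (by omega) (by omega)
                · skip
                  rcases Nat.lt_or_ge i 43725 with h9 | h9
                  · skip
                    exact allRangeF_sound _ _ (checkPointF_eq cert) 43700 25 chkP_43700 i (by omega) (by omega)
                  · skip
                    exact allRangeF_sound _ _ (checkPointF_eq cert) 43725 25 chkP_43725 i (by omega) (by omega)
            · skip
              rcases Nat.lt_or_ge i 43800 with h7 | h7
              · skip
                rcases Nat.lt_or_ge i 43775 with h8 | h8
                · skip
                  exact allRangeF_sound _ _ (checkPointF_eq cert) 43750 25 chkP_43750 i (by omega) (by omega)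
                · skip
                  exact allRangeF_sound _ _ (checkPointF_eq cert) 43775 25 chkP_43775 i (by omega) (by omega)
              · skip
                rcases Nat.lt_or_ge i 43825 with h8 | h8
                · skip
                  exact allRangeF_sound _ _ (checkPointF_eq cert) 43800 25 chkP_43800 i (by omega) (by omega)
                · skip
                  rcases Nat.lt_or_ge i 43850 with h9 | h9
                  · skip
                    exact allRangeF_sound _ _ (checkPointF_eq cert) 43825 25 chkP_43825 i (by omega) (by omega)
                  · skip
                    exact allRangeF_sound _ _ (checkPointF_eq cert) 43850 25 chkP_43850 i (by omega) (by omega)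
          · skip
            rcases Nat.lt_or_ge i 44000 with h6 | h6
            · skip
              rcases Nat.lt_or_ge i 43925 with h7 | h7
              · skip
                rcases Nat.lt_or_ge i 43900 with h8 | h8
                · skip
                  exact allRangeF_sound _ _ (checkPointF_eq cert) 43875 25 chkP_43875 i (by omega) (by omega)
                · skip
                  exact allRangeF_sound _ _ (checkPointF_eq cert) 43900 25 chkP_43900 i (by omega) (by omega)
              · skip
                rcases Nat.lt_or_ge i 43950 with h8 | h8
                · skip
                  exact allRangeF_sound _ _ (checkPointF_eq cert) 43925 25 chkP_43925 i (by omega) (by omega)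
                · skip
                  rcases Nat.lt_or_ge i 43975 with h9 | h9
                  · skip
                    exact allRangeF_sound _ _ (checkPointF_eq cert) 43950 25 chkP_43950 i (by omega) (by omega)
                  · skip
                    exact allRangeF_sound _ _ (checkPointF_eq cert) 43975 25 chkP_43975 i (by omega) (by omega)
            · skip
              rcases Nat.lt_or_ge i 44050 with h7 | h7
              · skip
                rcases Nat.lt_or_ge i 44025 with h8 | h8
                · skip
                  exact allRangeF_sound _ _ (checkPointF_eq cert) 44000 25 chkP_44000 i (by omega) (by omega)
                · skip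
                  exact allRangeF_sound _ _ (checkPointF_eq cert) 44025 25 chkP_44025 i (by omega) (by omega)
              · skip
                rcases Nat.lt_or_ge i 44075 with h8 | h8
                · skip
                  exact allRangeF_sound _ _ (checkPointF_eq cert) 44050 25 chkP_44050 i (by omega) (by omega)
                · skip
                  rcases Nat.lt_or_ge i 44100 with h9 | h9
                  · skip
                    exact allRangeF_sound _ _ (checkPointF_eq cert) 44075 25 chkP_44075 i (by omega) (by omega)
                  · skip
                    exact allRangeF_sound _ _ (checkPointF_eq cert) 44100 25 chkP_44100 i (by omega) (by omega)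
    · skip
      rcases Nat.lt_or_ge i 45075 with h3 | h3
      · skip
        rcases Nat.lt_or_ge i 44600 with h4 | h4
        · skip
          rcases Nat.lt_or_ge i 44350 with h5 | h5
          · skip
            rcases Nat.lt_or_ge i 44225 with h6 | h6
            · skip
              rcases Nat.lt_or_ge i 44175 with h7 | h7
              · skip
                rcases Nat.lt_or_ge i 44150 with h8 | h8
                · skip
                  exact allRangeF_sound _ _ (checkPointF_eq cert) 44125 25 chkP_44125 i (by omega) (by omega)
                · skip
                  exact allRangeF_sound _ _ (checkPointF_eq cert) 44150 25 chkP_44150 i (by omega) (by omega)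
              · skip
                rcases Nat.lt_or_ge i 44200 with h8 | h8
                · skip
                  exact allRangeF_sound _ _ (checkPointF_eq cert) 44175 25 chkP_44175 i (by omega) (by omega)
                · skip
                  exact allRangeF_sound _ _ (checkPointF_eq cert) 44200 25 chkP_44200 i (by omega) (by omega)
            · skip
              rcases Nat.lt_or_ge i 44275 with h7 | h7
              · skip
                rcases Nat.lt_or_ge i 44250 with h8 | h8
                · skip
                  exact allRangeF_sound _ _ (checkPointF_eq cert) 44225 25 chkP_44225 i (by omega) (by omega)
                · skip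
                  exact allRangeF_sound _ _ (checkPointF_eq cert) 44250 25 chkP_44250 i (by omega) (by omega)
              · skip
                rcases Nat.lt_or_ge i 44300 with h8 | h8
                · skip
                  exact allRangeF_sound _ _ (checkPointF_eq cert) 44275 25 chkP_44275 i (by omega) (by omega)
                · skip
                  rcases Nat.lt_or_ge i 44325 with h9 | h9
                  · skip
                    exact allRangeF_sound _ _ (checkPointF_eq cert) 44300 25 chkP_44300 i (by omega) (by omega)
                  · skip
                    exact allRangeF_sound _ _ (checkPointF_eq cert) 44325 25 chkP_44325 i (by omega) (by omega)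
          · skip
            rcases Nat.lt_or_ge i 44475 with h6 | h6
            · skip
              rcases Nat.lt_or_ge i 44400 with h7 | h7
              · skip
                rcases Nat.lt_or_ge i 44375 with h8 | h8
                · skip
                  exact allRangeF_sound _ _ (checkPointF_eq cert) 44350 25 chkP_44350 i (by omega) (by omega)
                · skip
                  exact allRangeF_sound _ _ (checkPointF_eq cert) 44375 25 chkP_44375 i (by omega) (by omega)
              · skip
                rcases Nat.lt_or_ge i 44425 with h8 | h8
                · skip
                  exact allRangeF_sound _ _ (checkPointF_eq cert) 44400 25 chkP_44400 i (by omega) (by omega)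
                · skip
                  rcases Nat.lt_or_ge i 44450 with h9 | h9
                  · skip
                    exact allRangeF_sound _ _ (checkPointF_eq cert) 44425 25 chkP_44425 i (by omega) (by omega)
                  · skip
                    exact allRangeF_sound _ _ (checkPointF_eq cert) 44450 25 chkP_44450 i (by omega) (by omega)
            · skip
              rcases Nat.lt_or_ge i 44525 with h7 | h7
              · skip
                rcases Nat.lt_or_ge i 44500 with h8 | h8
                · skip
                  exact allRangeF_sound _ _ (checkPointF_eq cert) 44475 25 chkP_44475 i (by omega) (by omega)
                · skip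
                  exact allRangeF_sound _ _ (checkPointF_eq cert) 44500 25 chkP_44500 i (by omega) (by omega)
              · skip
                rcases Nat.lt_or_ge i 44550 with h8 | h8
                · skip
                  exact allRangeF_sound _ _ (checkPointF_eq cert) 44525 25 chkP_44525 i (by omega) (by omega)
                · skip
                  rcases Nat.lt_or_ge i 44575 with h9 | h9
                  · skip
                    exact allRangeF_sound _ _ (checkPointF_eq cert) 44550 25 chkP_44550 i (by omega) (by omega)
                  · skip
                    exact allRangeF_sound _ _ (checkPointF_eq cert) 44575 25 chkP_44575 i (by omega) (by omega)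
        · skip
          rcases Nat.lt_or_ge i 44825 with h5 | h5
          · skip
            rcases Nat.lt_or_ge i 44700 with h6 | h6
            · skip
              rcases Nat.lt_or_ge i 44650 with h7 | h7
              · skip
                rcases Nat.lt_or_ge i 44625 with h8 | h8
                · skip
                  exact allRangeF_sound _ _ (checkPointF_eq cert) 44600 25 chkP_44600 i (by omega) (by omega)
                · skip
                  exact allRangeF_sound _ _ (checkPointF_eq cert) 44625 25 chkP_44625 i (by omega) (by omega)
              · skip
                rcases Nat.lt_or_ge i 44675 with h8 | h8
                · skip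
                  exact allRangeF_sound _ _ (checkPointF_eq cert) 44650 25 chkP_44650 i (by omega) (by omega)
                · skip
                  exact allRangeF_sound _ _ (checkPointF_eq cert) 44675 25 chkP_44675 i (by omega) (by omega)
            · skip
              rcases Nat.lt_or_ge i 44750 with h7 | h7
              · skip
                rcases Nat.lt_or_ge i 44725 with h8 | h8
                · skip
                  exact allRangeF_sound _ _ (checkPointF_eq cert) 44700 25 chkP_44700 i (by omega) (by omega)
                · skip
                  exact allRangeF_sound _ _ (checkPointF_eq cert) 44725 25 chkP_44725 i (by omega) (by omega)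
              · skip
                rcases Nat.lt_or_ge i 44775 with h8 | h8
                · skip
                  exact allRangeF_sound _ _ (checkPointF_eq cert) 44750 25 chkP_44750 i (by omega) (by omega)
                · skip
                  rcases Nat.lt_or_ge i 44800 with h9 | h9
                  · skip
                    exact allRangeF_sound _ _ (checkPointF_eq cert) 44775 25 chkP_44775 i (by omega) (by omega)
                  · skip
                    exact allRangeF_sound _ _ (checkPointF_eq cert) 44800 25 chkP_44800 i (by omega) (by omega)
          · skip
            rcases Nat.lt_or_ge i 44950 with h6 | h6
            · skip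
              rcases Nat.lt_or_ge i 44875 with h7 | h7
              · skip
                rcases Nat.lt_or_ge i 44850 with h8 | h8
                · skip
                  exact allRangeF_sound _ _ (checkPointF_eq cert) 44825 25 chkP_44825 i (by omega) (by omega)
                · skip
                  exact allRangeF_sound _ _ (checkPointF_eq cert) 44850 25 chkP_44850 i (by omega) (by omega)
              · skip
                rcases Nat.lt_or_ge i 44900 with h8 | h8
                · skip
                  exact allRangeF_sound _ _ (checkPointF_eq cert) 44875 25 chkP_44875 i (by omega) (by omega)
                · skip
                  rcases Nat.lt_or_ge i 44925 with h9 | h9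
                  · skip
                    exact allRangeF_sound _ _ (checkPointF_eq cert) 44900 25 chkP_44900 i (by omega) (by omega)
                  · skip
                    exact allRangeF_sound _ _ (checkPointF_eq cert) 44925 25 chkP_44925 i (by omega) (by omega)
            · skip
              rcases Nat.lt_or_ge i 45000 with h7 | h7
              · skip
                rcases Nat.lt_or_ge i 44975 with h8 | h8
                · skip
                  exact allRangeF_sound _ _ (checkPointF_eq cert) 44950 25 chkP_44950 i (by omega) (by omega)
                · skip
                  exact allRangeF_sound _ _ (checkPointF_eq cert) 44975 25 chkP_44975 i (by omega) (by omega)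
              · skip
                rcases Nat.lt_or_ge i 45025 with h8 | h8
                · skip
                  exact allRangeF_sound _ _ (checkPointF_eq cert) 45000 25 chkP_45000 i (by omega) (by omega)
                · skip
                  rcases Nat.lt_or_ge i 45050 with h9 | h9
                  · skip
                    exact allRangeF_sound _ _ (checkPointF_eq cert) 45025 25 chkP_45025 i (by omega) (by omega)
                  · skip
                    exact allRangeF_sound _ _ (checkPointF_eq cert) 45050 25 chkP_45050 i (by omega) (by omega)
      · skip
        rcases Nat.lt_or_ge i 45550 with h4 | h4
        · skip
          rcases Nat.lt_or_ge i 45300 with h5 | h5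
          · skip
            rcases Nat.lt_or_ge i 45175 with h6 | h6
            · skip
              rcases Nat.lt_or_ge i 45125 with h7 | h7
              · skip
                rcases Nat.lt_or_ge i 45100 with h8 | h8
                · skip
                  exact allRangeF_sound _ _ (checkPointF_eq cert) 45075 25 chkP_45075 i (by omega) (by omega)
                · skip
                  exact allRangeF_sound _ _ (checkPointF_eq cert) 45100 25 chkP_45100 i (by omega) (by omega)
              · skip
                rcases Nat.lt_or_ge i 45150 with h8 | h8
                · skip
                  exact allRangeF_sound _ _ (checkPointF_eq cert) 45125 25 chkP_45125 i (by omega) (by omega)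
                · skip
                  exact allRangeF_sound _ _ (checkPointF_eq cert) 45150 25 chkP_45150 i (by omega) (by omega)
            · skip
              rcases Nat.lt_or_ge i 45225 with h7 | h7
              · skip
                rcases Nat.lt_or_ge i 45200 with h8 | h8
                · skip
                  exact allRangeF_sound _ _ (checkPointF_eq cert) 45175 25 chkP_45175 i (by omega) (by omega)
                · skip
                  exact allRangeF_sound _ _ (checkPointF_eq cert) 45200 25 chkP_45200 i (by omega) (by omega)
              · skip
                rcases Nat.lt_or_ge i 45250 with h8 | h8
                · skip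
                  exact allRangeF_sound _ _ (checkPointF_eq cert) 45225 25 chkP_45225 i (by omega) (by omega)
                · skip
                  rcases Nat.lt_or_ge i 45275 with h9 | h9
                  · skip
                    exact allRangeF_sound _ _ (checkPointF_eq cert) 45250 25 chkP_45250 i (by omega) (by omega)
                  · skip
                    exact allRangeF_sound _ _ (checkPointF_eq cert) 45275 25 chkP_45275 i (by omega) (by omega)
          · skip
            rcases Nat.lt_or_ge i 45425 with h6 | h6
            · skip
              rcases Nat.lt_or_ge i 45350 with h7 | h7
              · skip
                rcases Nat.lt_or_ge i 45325 with h8 | h8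
                · skip
                  exact allRangeF_sound _ _ (checkPointF_eq cert) 45300 25 chkP_45300 i (by omega) (by omega)
                · skip
                  exact allRangeF_sound _ _ (checkPointF_eq cert) 45325 25 chkP_45325 i (by omega) (by omega)
              · skip
                rcases Nat.lt_or_ge i 45375 with h8 | h8
                · skip
                  exact allRangeF_sound _ _ (checkPointF_eq cert) 45350 25 chkP_45350 i (by omega) (by omega)
                · skip
                  rcases Nat.lt_or_ge i 45400 with h9 | h9
                  · skip
                    exact allRangeF_sound _ _ (checkPointF_eq cert) 45375 25 chkP_45375 i (by omega) (by omega)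
                  · skip
                    exact allRangeF_sound _ _ (checkPointF_eq cert) 45400 25 chkP_45400 i (by omega) (by omega)
            · skip
              rcases Nat.lt_or_ge i 45475 with h7 | h7
              · skip
                rcases Nat.lt_or_ge i 45450 with h8 | h8
                · skip
                  exact allRangeF_sound _ _ (checkPointF_eq cert) 45425 25 chkP_45425 i (by omega) (by omega)
                · skip
                  exact allRangeF_sound _ _ (checkPointF_eq cert) 45450 25 chkP_45450 i (by omega) (by omega)
              · skip
                rcases Nat.lt_or_ge i 45500 with h8 | h8
                · skip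
                  exact allRangeF_sound _ _ (checkPointF_eq cert) 45475 25 chkP_45475 i (by omega) (by omega)
                · skip
                  rcases Nat.lt_or_ge i 45525 with h9 | h9
                  · skip
                    exact allRangeF_sound _ _ (checkPointF_eq cert) 45500 25 chkP_45500 i (by omega) (by omega)
                  · skip
                    exact allRangeF_sound _ _ (checkPointF_eq cert) 45525 25 chkP_45525 i (by omega) (by omega)
        · skip
          rcases Nat.lt_or_ge i 45800 with h5 | h5
          · skip
            rcases Nat.lt_or_ge i 45675 with h6 | h6
            · skip
              rcases Nat.lt_or_ge i 45600 with h7 | h7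
              · skip
                rcases Nat.lt_or_ge i 45575 with h8 | h8
                · skip
                  exact allRangeF_sound _ _ (checkPointF_eq cert) 45550 25 chkP_45550 i (by omega) (by omega)
                · skip
                  exact allRangeF_sound _ _ (checkPointF_eq cert) 45575 25 chkP_45575 i (by omega) (by omega)
              · skip
                rcases Nat.lt_or_ge i 45625 with h8 | h8
                · skip
                  exact allRangeF_sound _ _ (checkPointF_eq cert) 45600 25 chkP_45600 i (by omega) (by omega)
                · skip
                  rcases Nat.lt_or_ge i 45650 with h9 | h9
                  · skip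
                    exact allRangeF_sound _ _ (checkPointF_eq cert) 45625 25 chkP_45625 i (by omega) (by omega)
                  · skip
                    exact allRangeF_sound _ _ (checkPointF_eq cert) 45650 25 chkP_45650 i (by omega) (by omega)
            · skip
              rcases Nat.lt_or_ge i 45725 with h7 | h7
              · skip
                rcases Nat.lt_or_ge i 45700 with h8 | h8
                · skip
                  exact allRangeF_sound _ _ (checkPointF_eq cert) 45675 25 chkP_45675 i (by omega) (by omega)
                · skip
                  exact allRangeF_sound _ _ (checkPointF_eq cert) 45700 25 chkP_45700 i (by omega) (by omega)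
              · skip
                rcases Nat.lt_or_ge i 45750 with h8 | h8
                · skip
                  exact allRangeF_sound _ _ (checkPointF_eq cert) 45725 25 chkP_45725 i (by omega) (by omega)
                · skip
                  rcases Nat.lt_or_ge i 45775 with h9 | h9
                  · skip
                    exact allRangeF_sound _ _ (checkPointF_eq cert) 45750 25 chkP_45750 i (by omega) (by omega)
                  · skip
                    exact allRangeF_sound _ _ (checkPointF_eq cert) 45775 25 chkP_45775 i (by omega) (by omega)
          · skip
            rcases Nat.lt_or_ge i 45925 with h6 | h6
            · skip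
              rcases Nat.lt_or_ge i 45850 with h7 | h7
              · skip
                rcases Nat.lt_or_ge i 45825 with h8 | h8
                · skip
                  exact allRangeF_sound _ _ (checkPointF_eq cert) 45800 25 chkP_45800 i (by omega) (by omega)
                · skip
                  exact allRangeF_sound _ _ (checkPointF_eq cert) 45825 25 chkP_45825 i (by omega) (by omega)
              · skip
                rcases Nat.lt_or_ge i 45875 with h8 | h8
                · skip
                  exact allRangeF_sound _ _ (checkPointF_eq cert) 45850 25 chkP_45850 i (by omega) (by omega)
                · skip
                  rcases Nat.lt_or_ge i 45900 with h9 | h9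
                  · skip
                    exact allRangeF_sound _ _ (checkPointF_eq cert) 45875 25 chkP_45875 i (by omega) (by omega)
                  · skip
                    exact allRangeF_sound _ _ (checkPointF_eq cert) 45900 25 chkP_45900 i (by omega) (by omega)
            · skip
              rcases Nat.lt_or_ge i 45975 with h7 | h7
              · skip
                rcases Nat.lt_or_ge i 45950 with h8 | h8
                · skip
                  exact allRangeF_sound _ _ (checkPointF_eq cert) 45925 25 chkP_45925 i (by omega) (by omega)
                · skip
                  exact allRangeF_sound _ _ (checkPointF_eq cert) 45950 25 chkP_45950 i (by omega) (by omega)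
              · skip
                rcases Nat.lt_or_ge i 46000 with h8 | h8
                · skip
                  exact allRangeF_sound _ _ (checkPointF_eq cert) 45975 25 chkP_45975 i (by omega) (by omega)
                · skip
                  rcases Nat.lt_or_ge i 46025 with h9 | h9
                  · skip
                    exact allRangeF_sound _ _ (checkPointF_eq cert) 46000 25 chkP_46000 i (by omega) (by omega)
                  · skip
                    exact allRangeF_sound _ _ (checkPointF_eq cert) 46025 25 chkP_46025 i (by omega) (by omega)

end Cfsg.Agent.Lib.Helper28.Fi24Data
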