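import Cfsg.Agent.Lib.Helper28.Fi24Data
import Cfsg.Agent.Lib.Helper28.TCFastB

set_option autoImplicit false
set_option maxRecDepth 1000000
set_option linter.all false
set_option Elab.async false

namespace Cfsg.Agent.Lib.Helper28.Fi24Data

open Cfsg.Agent.Lib.Helper28B

theorem chkP_46050 : allRangeF (checkPointF cert) (nat_lit 46050) (nat_lit 25) = true := by decide +kernel
theorem chkP_46075 : allRangeF (checkPointF cert) (nat_lit 46075) (nat_lit 25) = true := by decide +kernel
theorem chkP_46100 : allRangeF (checkPointF cert) (nat_lit 46100) (nat_lit 25) = true := by decide +kernel
theorem chkP_46125 : allRangeF (checkPointF cert) (nat_lit 46125) (nat_lit 25) = true := by decide +kernel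
theorem chkP_46150 : allRangeF (checkPointF cert) (nat_lit 46150) (nat_lit 25) = true := by decide +kernel
theorem chkP_46175 : allRangeF (checkPointF cert) (nat_lit 46175) (nat_lit 25) = true := by decide +kernel
theorem chkP_46200 : allRangeF (checkPointF cert) (nat_lit 46200) (nat_lit 25) = true := by decide +kernel
theorem chkP_46225 : allRangeF (checkPointF cert) (nat_lit 46225) (nat_lit 25) = true := by decide +kernel
theorem chkP_46250 : allRangeF (checkPointF cert) (nat_lit 46250) (nat_lit 25) = true := by decide +kernel
theorem chkP_46275 : allRangeF (checkPointF cert) (nat_lit 46275) (nat_lit 25) = true := by decide +kernel
theorem chkP_46300 : allRangeF (checkPointF cert) (nat_lit 46300) (nat_lit 25) = true := by decide +kernel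
theorem chkP_46325 : allRangeF (checkPointF cert) (nat_lit 46325) (nat_lit 25) = true := by decide +kernel
theorem chkP_46350 : allRangeF (checkPointF cert) (nat_lit 46350) (nat_lit 25) = true := by decide +kernel
theorem chkP_46375 : allRangeF (checkPointF cert) (nat_lit 46375) (nat_lit 25) = true := by decide +kernel
theorem chkP_46400 : allRangeF (checkPointF cert) (nat_lit 46400) (nat_lit 25) = true := by decide +kernel
theorem chkP_46425 : allRangeF (checkPointF cert) (nat_lit 46425) (nat_lit 25) = true := by decide +kernel
theorem chkP_46450 : allRangeF (checkPointF cert) (nat_lit 46450) (nat_lit 25) = true := by decide +kernel
theorem chkP_46475 : allRangeF (checkPointF cert) (nat_lit 46475) (nat_lit 25) = true := by decide +kernel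
theorem chkP_46500 : allRangeF (checkPointF cert) (nat_lit 46500) (nat_lit 25) = true := by decide +kernel
theorem chkP_46525 : allRangeF (checkPointF cert) (nat_lit 46525) (nat_lit 25) = true := by decide +kernel
theorem chkP_46550 : allRangeF (checkPointF cert) (nat_lit 46550) (nat_lit 25) = true := by decide +kernel
theorem chkP_46575 : allRangeF (checkPointF cert) (nat_lit 46575) (nat_lit 25) = true := by decide +kernel
theorem chkP_46600 : allRangeF (checkPointF cert) (nat_lit 46600) (nat_lit 25) = true := by decide +kernel
theorem chkP_46625 : allRangeF (checkPointF cert) (nat_lit 46625) (nat_lit 25) = true := by decide +kernel
theorem chkP_46650 : allRangeF (checkPointF cert) (nat_lit 46650) (nat_lit 25) = true := by decide +kernel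
theorem chkP_46675 : allRangeF (checkPointF cert) (nat_lit 46675) (nat_lit 25) = true := by decide +kernel
theorem chkP_46700 : allRangeF (checkPointF cert) (nat_lit 46700) (nat_lit 25) = true := by decide +kernel
theorem chkP_46725 : allRangeF (checkPointF cert) (nat_lit 46725) (nat_lit 25) = true := by decide +kernel
theorem chkP_46750 : allRangeF (checkPointF cert) (nat_lit 46750) (nat_lit 25) = true := by decide +kernel
theorem chkP_46775 : allRangeF (checkPointF cert) (nat_lit 46775) (nat_lit 25) = true := by decide +kernel
theorem chkP_46800 : allRangeF (checkPointF cert) (nat_lit 46800) (nat_lit 25) = true := by decide +kernel
theorem chkP_46825 : allRangeF (checkPointF cert) (nat_lit 46825) (nat_lit 25) = true := by decide +kernel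
theorem chkP_46850 : allRangeF (checkPointF cert) (nat_lit 46850) (nat_lit 25) = true := by decide +kernel
theorem chkP_46875 : allRangeF (checkPointF cert) (nat_lit 46875) (nat_lit 25) = true := by decide +kernel
theorem chkP_46900 : allRangeF (checkPointF cert) (nat_lit 46900) (nat_lit 25) = true := by decide +kernel
theorem chkP_46925 : allRangeF (checkPointF cert) (nat_lit 46925) (nat_lit 25) = true := by decide +kernel
theorem chkP_46950 : allRangeF (checkPointF cert) (nat_lit 46950) (nat_lit 25) = true := by decide +kernel
theorem chkP_46975 : allRangeF (checkPointF cert) (nat_lit 46975) (nat_lit 25) = true := by decide +kernel
theorem chkP_47000 : allRangeF (checkPointF cert) (nat_lit 47000) (nat_lit 25) = true := by decide +kernel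
theorem chkP_47025 : allRangeF (checkPointF cert) (nat_lit 47025) (nat_lit 25) = true := by decide +kernel
theorem chkP_47050 : allRangeF (checkPointF cert) (nat_lit 47050) (nat_lit 25) = true := by decide +kernel
theorem chkP_47075 : allRangeF (checkPointF cert) (nat_lit 47075) (nat_lit 25) = true := by decide +kernel
theorem chkP_47100 : allRangeF (checkPointF cert) (nat_lit 47100) (nat_lit 25) = true := by decide +kernel
theorem chkP_47125 : allRangeF (checkPointF cert) (nat_lit 47125) (nat_lit 25) = true := by decide +kernel
theorem chkP_47150 : allRangeF (checkPointF cert) (nat_lit 47150) (nat_lit 25) = true := by decide +kernel
theorem chkP_47175 : allRangeF (checkPointF cert) (nat_lit 47175) (nat_lit 25) = true := by decide +kernel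
theorem chkP_47200 : allRangeF (checkPointF cert) (nat_lit 47200) (nat_lit 25) = true := by decide +kernel
theorem chkP_47225 : allRangeF (checkPointF cert) (nat_lit 47225) (nat_lit 25) = true := by decide +kernel
theorem chkP_47250 : allRangeF (checkPointF cert) (nat_lit 47250) (nat_lit 25) = true := by decide +kernel
theorem chkP_47275 : allRangeF (checkPointF cert) (nat_lit 47275) (nat_lit 25) = true := by decide +kernel
theorem chkP_47300 : allRangeF (checkPointF cert) (nat_lit 47300) (nat_lit 25) = true := by decide +kernel
theorem chkP_47325 : allRangeF (checkPointF cert) (nat_lit 47325) (nat_lit 25) = true := by decide +kernel
theorem chkP_47350 : allRangeF (checkPointF cert) (nat_lit 47350) (nat_lit 25) = true := by decide +kernel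
theorem chkP_47375 : allRangeF (checkPointF cert) (nat_lit 47375) (nat_lit 25) = true := by decide +kernel
theorem chkP_47400 : allRangeF (checkPointF cert) (nat_lit 47400) (nat_lit 25) = true := by decide +kernel
theorem chkP_47425 : allRangeF (checkPointF cert) (nat_lit 47425) (nat_lit 25) = true := by decide +kernel
theorem chkP_47450 : allRangeF (checkPointF cert) (nat_lit 47450) (nat_lit 25) = true := by decide +kernel
theorem chkP_47475 : allRangeF (checkPointF cert) (nat_lit 47475) (nat_lit 25) = true := by decide +kernel
theorem chkP_47500 : allRangeF (checkPointF cert) (nat_lit 47500) (nat_lit 25) = true := by decide +kernel
theorem chkP_47525 : allRangeF (checkPointF cert) (nat_lit 47525) (nat_lit 25) = true := by decide +kernel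
theorem chkP_47550 : allRangeF (checkPointF cert) (nat_lit 47550) (nat_lit 25) = true := by decide +kernel
theorem chkP_47575 : allRangeF (checkPointF cert) (nat_lit 47575) (nat_lit 25) = true := by decide +kernel
theorem chkP_47600 : allRangeF (checkPointF cert) (nat_lit 47600) (nat_lit 25) = true := by decide +kernel
theorem chkP_47625 : allRangeF (checkPointF cert) (nat_lit 47625) (nat_lit 25) = true := by decide +kernel
theorem chkP_47650 : allRangeF (checkPointF cert) (nat_lit 47650) (nat_lit 25) = true := by decide +kernel
theorem chkP_47675 : allRangeF (checkPointF cert) (nat_lit 47675) (nat_lit 25) = true := by decide +kernel
theorem chkP_47700 : allRangeF (checkPointF cert) (nat_lit 47700) (nat_lit 25) = true := by decide +kernel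
theorem chkP_47725 : allRangeF (checkPointF cert) (nat_lit 47725) (nat_lit 25) = true := by decide +kernel
theorem chkP_47750 : allRangeF (checkPointF cert) (nat_lit 47750) (nat_lit 25) = true := by decide +kernel
theorem chkP_47775 : allRangeF (checkPointF cert) (nat_lit 47775) (nat_lit 25) = true := by decide +kernel
theorem chkP_47800 : allRangeF (checkPointF cert) (nat_lit 47800) (nat_lit 25) = true := by decide +kernel
theorem chkP_47825 : allRangeF (checkPointF cert) (nat_lit 47825) (nat_lit 25) = true := by decide +kernel
theorem chkP_47850 : allRangeF (checkPointF cert) (nat_lit 47850) (nat_lit 25) = true := by decide +kernel
theorem chkP_47875 : allRangeF (checkPointF cert) (nat_lit 47875) (nat_lit 25) = true := by decide +kernel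
theorem chkP_47900 : allRangeF (checkPointF cert) (nat_lit 47900) (nat_lit 25) = true := by decide +kernel
theorem chkP_47925 : allRangeF (checkPointF cert) (nat_lit 47925) (nat_lit 25) = true := by decide +kernel
theorem chkP_47950 : allRangeF (checkPointF cert) (nat_lit 47950) (nat_lit 25) = true := by decide +kernel
theorem chkP_47975 : allRangeF (checkPointF cert) (nat_lit 47975) (nat_lit 25) = true := by decide +kernel
theorem chkP_48000 : allRangeF (checkPointF cert) (nat_lit 48000) (nat_lit 25) = true := by decide +kernel
theorem chkP_48025 : allRangeF (checkPointF cert) (nat_lit 48025) (nat_lit 25) = true := by decide +kernel
theorem chkP_48050 : allRangeF (checkPointF cert) (nat_lit 48050) (nat_lit 25) = true := by decide +kernel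
theorem chkP_48075 : allRangeF (checkPointF cert) (nat_lit 48075) (nat_lit 25) = true := by decide +kernel
theorem chkP_48100 : allRangeF (checkPointF cert) (nat_lit 48100) (nat_lit 25) = true := by decide +kernel
theorem chkP_48125 : allRangeF (checkPointF cert) (nat_lit 48125) (nat_lit 25) = true := by decide +kernel
theorem chkP_48150 : allRangeF (checkPointF cert) (nat_lit 48150) (nat_lit 25) = true := by decide +kernel
theorem chkP_48175 : allRangeF (checkPointF cert) (nat_lit 48175) (nat_lit 25) = true := by decide +kernel
theorem chkP_48200 : allRangeF (checkPointF cert) (nat_lit 48200) (nat_lit 25) = true := by decide +kernel
theorem chkP_48225 : allRangeF (checkPointF cert) (nat_lit 48225) (nat_lit 25) = true := by decide +kernel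
theorem chkP_48250 : allRangeF (checkPointF cert) (nat_lit 48250) (nat_lit 25) = true := by decide +kernel
theorem chkP_48275 : allRangeF (checkPointF cert) (nat_lit 48275) (nat_lit 25) = true := by decide +kernel
theorem chkP_48300 : allRangeF (checkPointF cert) (nat_lit 48300) (nat_lit 25) = true := by decide +kernel
theorem chkP_48325 : allRangeF (checkPointF cert) (nat_lit 48325) (nat_lit 25) = true := by decide +kernel
theorem chkP_48350 : allRangeF (checkPointF cert) (nat_lit 48350) (nat_lit 25) = true := by decide +kernel
theorem chkP_48375 : allRangeF (checkPointF cert) (nat_lit 48375) (nat_lit 25) = true := by decide +kernel
theorem chkP_48400 : allRangeF (checkPointF cert) (nat_lit 48400) (nat_lit 25) = true := by decide +kernel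
theorem chkP_48425 : allRangeF (checkPointF cert) (nat_lit 48425) (nat_lit 25) = true := by decide +kernel
theorem chkP_48450 : allRangeF (checkPointF cert) (nat_lit 48450) (nat_lit 25) = true := by decide +kernel
theorem chkP_48475 : allRangeF (checkPointF cert) (nat_lit 48475) (nat_lit 25) = true := by decide +kernel
theorem chkP_48500 : allRangeF (checkPointF cert) (nat_lit 48500) (nat_lit 25) = true := by decide +kernel
theorem chkP_48525 : allRangeF (checkPointF cert) (nat_lit 48525) (nat_lit 25) = true := by decide +kernel
theorem chkP_48550 : allRangeF (checkPointF cert) (nat_lit 48550) (nat_lit 25) = true := by decide +kernel
theorem chkP_48575 : allRangeF (checkPointF cert) (nat_lit 48575) (nat_lit 25) = true := by decide +kernel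
theorem chkP_48600 : allRangeF (checkPointF cert) (nat_lit 48600) (nat_lit 25) = true := by decide +kernel
theorem chkP_48625 : allRangeF (checkPointF cert) (nat_lit 48625) (nat_lit 25) = true := by decide +kernel
theorem chkP_48650 : allRangeF (checkPointF cert) (nat_lit 48650) (nat_lit 25) = true := by decide +kernel
theorem chkP_48675 : allRangeF (checkPointF cert) (nat_lit 48675) (nat_lit 25) = true := by decide +kernel
theorem chkP_48700 : allRangeF (checkPointF cert) (nat_lit 48700) (nat_lit 25) = true := by decide +kernel
theorem chkP_48725 : allRangeF (checkPointF cert) (nat_lit 48725) (nat_lit 25) = true := by decide +kernel
theorem chkP_48750 : allRangeF (checkPointF cert) (nat_lit 48750) (nat_lit 25) = true := by decide +kernel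
theorem chkP_48775 : allRangeF (checkPointF cert) (nat_lit 48775) (nat_lit 25) = true := by decide +kernel
theorem chkP_48800 : allRangeF (checkPointF cert) (nat_lit 48800) (nat_lit 25) = true := by decide +kernel
theorem chkP_48825 : allRangeF (checkPointF cert) (nat_lit 48825) (nat_lit 25) = true := by decide +kernel
theorem chkP_48850 : allRangeF (checkPointF cert) (nat_lit 48850) (nat_lit 25) = true := by decide +kernel
theorem chkP_48875 : allRangeF (checkPointF cert) (nat_lit 48875) (nat_lit 25) = true := by decide +kernel
theorem chkP_48900 : allRangeF (checkPointF cert) (nat_lit 48900) (nat_lit 25) = true := by decide +kernel
theorem chkP_48925 : allRangeF (checkPointF cert) (nat_lit 48925) (nat_lit 25) = true := by decide +kernel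
theorem chkP_48950 : allRangeF (checkPointF cert) (nat_lit 48950) (nat_lit 25) = true := by decide +kernel
theorem chkP_48975 : allRangeF (checkPointF cert) (nat_lit 48975) (nat_lit 25) = true := by decide +kernel
theorem chkP_49000 : allRangeF (checkPointF cert) (nat_lit 49000) (nat_lit 25) = true := by decide +kernel
theorem chkP_49025 : allRangeF (checkPointF cert) (nat_lit 49025) (nat_lit 25) = true := by decide +kernel
theorem chkP_49050 : allRangeF (checkPointF cert) (nat_lit 49050) (nat_lit 25) = true := by decide +kernel
theorem chkP_49075 : allRangeF (checkPointF cert) (nat_lit 49075) (nat_lit 25) = true := by decide +kernel
theorem chkP_49100 : allRangeF (checkPointF cert) (nat_lit 49100) (nat_lit 25) = true := by decide +kernel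
theorem chkP_49125 : allRangeF (checkPointF cert) (nat_lit 49125) (nat_lit 25) = true := by decide +kernel
theorem chkP_49150 : allRangeF (checkPointF cert) (nat_lit 49150) (nat_lit 25) = true := by decide +kernel
theorem chkP_49175 : allRangeF (checkPointF cert) (nat_lit 49175) (nat_lit 25) = true := by decide +kernel
theorem chkP_49200 : allRangeF (checkPointF cert) (nat_lit 49200) (nat_lit 25) = true := by decide +kernel
theorem chkP_49225 : allRangeF (checkPointF cert) (nat_lit 49225) (nat_lit 25) = true := by decide +kernel
theorem chkP_49250 : allRangeF (checkPointF cert) (nat_lit 49250) (nat_lit 25) = true := by decide +kernel
theorem chkP_49275 : allRangeF (checkPointF cert) (nat_lit 49275) (nat_lit 25) = true := by decide +kernel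
theorem chkP_49300 : allRangeF (checkPointF cert) (nat_lit 49300) (nat_lit 25) = true := by decide +kernel
theorem chkP_49325 : allRangeF (checkPointF cert) (nat_lit 49325) (nat_lit 25) = true := by decide +kernel
theorem chkP_49350 : allRangeF (checkPointF cert) (nat_lit 49350) (nat_lit 25) = true := by decide +kernel
theorem chkP_49375 : allRangeF (checkPointF cert) (nat_lit 49375) (nat_lit 25) = true := by decide +kernel
theorem chkP_49400 : allRangeF (checkPointF cert) (nat_lit 49400) (nat_lit 25) = true := by decide +kernel
theorem chkP_49425 : allRangeF (checkPointF cert) (nat_lit 49425) (nat_lit 25) = true := by decide +kernel
theorem chkP_49450 : allRangeF (checkPointF cert) (nat_lit 49450) (nat_lit 25) = true := by decide +kernel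
theorem chkP_49475 : allRangeF (checkPointF cert) (nat_lit 49475) (nat_lit 25) = true := by decide +kernel
theorem chkP_49500 : allRangeF (checkPointF cert) (nat_lit 49500) (nat_lit 25) = true := by decide +kernel
theorem chkP_49525 : allRangeF (checkPointF cert) (nat_lit 49525) (nat_lit 25) = true := by decide +kernel
theorem chkP_49550 : allRangeF (checkPointF cert) (nat_lit 49550) (nat_lit 25) = true := by decide +kernel
theorem chkP_49575 : allRangeF (checkPointF cert) (nat_lit 49575) (nat_lit 25) = true := by decide +kernel
theorem chkP_49600 : allRangeF (checkPointF cert) (nat_lit 49600) (nat_lit 25) = true := by decide +kernel
theorem chkP_49625 : allRangeF (checkPointF cert) (nat_lit 49625) (nat_lit 25) = true := by decide +kernel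
theorem chkP_49650 : allRangeF (checkPointF cert) (nat_lit 49650) (nat_lit 25) = true := by decide +kernel
theorem chkP_49675 : allRangeF (checkPointF cert) (nat_lit 49675) (nat_lit 25) = true := by decide +kernel
theorem chkP_49700 : allRangeF (checkPointF cert) (nat_lit 49700) (nat_lit 25) = true := by decide +kernel
theorem chkP_49725 : allRangeF (checkPointF cert) (nat_lit 49725) (nat_lit 25) = true := by decide +kernel
theorem chkP_49750 : allRangeF (checkPointF cert) (nat_lit 49750) (nat_lit 25) = true := by decide +kernel
theorem chkP_49775 : allRangeF (checkPointF cert) (nat_lit 49775) (nat_lit 25) = true := by decide +kernel
theorem chkP_49800 : allRangeF (checkPointF cert) (nat_lit 49800) (nat_lit 25) = true := by decide +kernel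
theorem chkP_49825 : allRangeF (checkPointF cert) (nat_lit 49825) (nat_lit 25) = true := by decide +kernel
theorem chkP_49850 : allRangeF (checkPointF cert) (nat_lit 49850) (nat_lit 25) = true := by decide +kernel
theorem chkP_49875 : allRangeF (checkPointF cert) (nat_lit 49875) (nat_lit 25) = true := by decide +kernel
theorem chkP_49900 : allRangeF (checkPointF cert) (nat_lit 49900) (nat_lit 25) = true := by decide +kernel
theorem chkP_49925 : allRangeF (checkPointF cert) (nat_lit 49925) (nat_lit 25) = true := by decide +kernel
theorem chkP_49950 : allRangeF (checkPointF cert) (nat_lit 49950) (nat_lit 25) = true := by decide +kernel
theorem chkP_49975 : allRangeF (checkPointF cert) (nat_lit 49975) (nat_lit 25) = true := by decide +kernel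
theorem chkP_50000 : allRangeF (checkPointF cert) (nat_lit 50000) (nat_lit 25) = true := by decide +kernel
theorem chkP_50025 : allRangeF (checkPointF cert) (nat_lit 50025) (nat_lit 25) = true := by decide +kernel
theorem chkP_50050 : allRangeF (checkPointF cert) (nat_lit 50050) (nat_lit 25) = true := by decide +kernel
theorem chkP_50075 : allRangeF (checkPointF cert) (nat_lit 50075) (nat_lit 25) = true := by decide +kernel
theorem chkP_50100 : allRangeF (checkPointF cert) (nat_lit 50100) (nat_lit 25) = true := by decide +kernel
theorem chkP_50125 : allRangeF (checkPointF cert) (nat_lit 50125) (nat_lit 25) = true := by decide +kernel
theorem chkP_50150 : allRangeF (checkPointF cert) (nat_lit 50150) (nat_lit 25) = true := by decide +kernel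
theorem chkP_50175 : allRangeF (checkPointF cert) (nat_lit 50175) (nat_lit 25) = true := by decide +kernel
theorem chkP_50200 : allRangeF (checkPointF cert) (nat_lit 50200) (nat_lit 25) = true := by decide +kernel
theorem chkP_50225 : allRangeF (checkPointF cert) (nat_lit 50225) (nat_lit 25) = true := by decide +kernel
theorem chkP_50250 : allRangeF (checkPointF cert) (nat_lit 50250) (nat_lit 25) = true := by decide +kernel
theorem chkP_50275 : allRangeF (checkPointF cert) (nat_lit 50275) (nat_lit 25) = true := by decide +kernel
theorem chkP_50300 : allRangeF (checkPointF cert) (nat_lit 50300) (nat_lit 25) = true := by decide +kernel
theorem chkP_50325 : allRangeF (checkPointF cert) (nat_lit 50325) (nat_lit 25) = true := by decide +kernel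
theorem chkP_50350 : allRangeF (checkPointF cert) (nat_lit 50350) (nat_lit 25) = true := by decide +kernel
theorem chkP_50375 : allRangeF (checkPointF cert) (nat_lit 50375) (nat_lit 25) = true := by decide +kernel
theorem chkP_50400 : allRangeF (checkPointF cert) (nat_lit 50400) (nat_lit 25) = true := by decide +kernel
theorem chkP_50425 : allRangeF (checkPointF cert) (nat_lit 50425) (nat_lit 25) = true := by decide +kernel
theorem chkP_50450 : allRangeF (checkPointF cert) (nat_lit 50450) (nat_lit 25) = true := by decide +kernel
theorem chkP_50475 : allRangeF (checkPointF cert) (nat_lit 50475) (nat_lit 25) = true := by decide +kernel
theorem chkP_50500 : allRangeF (checkPointF cert) (nat_lit 50500) (nat_lit 25) = true := by decide +kernel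
theorem chkP_50525 : allRangeF (checkPointF cert) (nat_lit 50525) (nat_lit 25) = true := by decide +kernel
theorem chkP_50550 : allRangeF (checkPointF cert) (nat_lit 50550) (nat_lit 25) = true := by decide +kernel
theorem chkP_50575 : allRangeF (checkPointF cert) (nat_lit 50575) (nat_lit 25) = true := by decide +kernel
theorem chkP_50600 : allRangeF (checkPointF cert) (nat_lit 50600) (nat_lit 25) = true := by decide +kernel
theorem chkP_50625 : allRangeF (checkPointF cert) (nat_lit 50625) (nat_lit 25) = true := by decide +kernel
theorem chkP_50650 : allRangeF (checkPointF cert) (nat_lit 50650) (nat_lit 25) = true := by decide +kernel
theorem chkP_50675 : allRangeF (checkPointF cert) (nat_lit 50675) (nat_lit 25) = true := by decide +kernel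
theorem chkP_50700 : allRangeF (checkPointF cert) (nat_lit 50700) (nat_lit 25) = true := by decide +kernel
theorem chkP_50725 : allRangeF (checkPointF cert) (nat_lit 50725) (nat_lit 25) = true := by decide +kernel
theorem chkP_50750 : allRangeF (checkPointF cert) (nat_lit 50750) (nat_lit 25) = true := by decide +kernel
theorem chkP_50775 : allRangeF (checkPointF cert) (nat_lit 50775) (nat_lit 25) = true := by decide +kernel
theorem chkP_50800 : allRangeF (checkPointF cert) (nat_lit 50800) (nat_lit 25) = true := by decide +kernel
theorem chkP_50825 : allRangeF (checkPointF cert) (nat_lit 50825) (nat_lit 25) = true := by decide +kernel
theorem chkP_50850 : allRangeF (checkPointF cert) (nat_lit 50850) (nat_lit 25) = true := by decide +kernel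
theorem chkP_50875 : allRangeF (checkPointF cert) (nat_lit 50875) (nat_lit 25) = true := by decide +kernel
theorem chkP_50900 : allRangeF (checkPointF cert) (nat_lit 50900) (nat_lit 25) = true := by decide +kernel
theorem chkP_50925 : allRangeF (checkPointF cert) (nat_lit 50925) (nat_lit 25) = true := by decide +kernel
theorem chkP_50950 : allRangeF (checkPointF cert) (nat_lit 50950) (nat_lit 25) = true := by decide +kernel
theorem chkP_50975 : allRangeF (checkPointF cert) (nat_lit 50975) (nat_lit 25) = true := by decide +kernel
theorem chkP_51000 : allRangeF (checkPointF cert) (nat_lit 51000) (nat_lit 25) = true := by decide +kernel
theorem chkP_51025 : allRangeF (checkPointF cert) (nat_lit 51025) (nat_lit 25) = true := by decide +kernel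
theorem chkP_51050 : allRangeF (checkPointF cert) (nat_lit 51050) (nat_lit 25) = true := by decide +kernel
theorem chkP_51075 : allRangeF (checkPointF cert) (nat_lit 51075) (nat_lit 25) = true := by decide +kernel
theorem chkP_51100 : allRangeF (checkPointF cert) (nat_lit 51100) (nat_lit 25) = true := by decide +kernel
theorem chkP_51125 : allRangeF (checkPointF cert) (nat_lit 51125) (nat_lit 25) = true := by decide +kernel
theorem chkP_51150 : allRangeF (checkPointF cert) (nat_lit 51150) (nat_lit 25) = true := by decide +kernel
theorem chkP_51175 : allRangeF (checkPointF cert) (nat_lit 51175) (nat_lit 25) = true := by decide +kernel
theorem chkP_51200 : allRangeF (checkPointF cert) (nat_lit 51200) (nat_lit 25) = true := by decide +kernel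
theorem chkP_51225 : allRangeF (checkPointF cert) (nat_lit 51225) (nat_lit 25) = true := by decide +kernel
theorem chkP_51250 : allRangeF (checkPointF cert) (nat_lit 51250) (nat_lit 25) = true := by decide +kernel
theorem chkP_51275 : allRangeF (checkPointF cert) (nat_lit 51275) (nat_lit 25) = true := by decide +kernel
theorem chkP_51300 : allRangeF (checkPointF cert) (nat_lit 51300) (nat_lit 25) = true := by decide +kernel
theorem chkP_51325 : allRangeF (checkPointF cert) (nat_lit 51325) (nat_lit 25) = true := by decide +kernel
theorem chkP_51350 : allRangeF (checkPointF cert) (nat_lit 51350) (nat_lit 25) = true := by decide +kernel
theorem chkP_51375 : allRangeF (checkPointF cert) (nat_lit 51375) (nat_lit 25) = true := by decide +kernel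
theorem chkP_51400 : allRangeF (checkPointF cert) (nat_lit 51400) (nat_lit 25) = true := by decide +kernel
theorem chkP_51425 : allRangeF (checkPointF cert) (nat_lit 51425) (nat_lit 25) = true := by decide +kernel
theorem chkP_51450 : allRangeF (checkPointF cert) (nat_lit 51450) (nat_lit 25) = true := by decide +kernel
theorem chkP_51475 : allRangeF (checkPointF cert) (nat_lit 51475) (nat_lit 25) = true := by decide +kernel
theorem chkP_51500 : allRangeF (checkPointF cert) (nat_lit 51500) (nat_lit 25) = true := by decide +kernel
theorem chkP_51525 : allRangeF (checkPointF cert) (nat_lit 51525) (nat_lit 25) = true := by decide +kernel
theorem chkP_51550 : allRangeF (checkPointF cert) (nat_lit 51550) (nat_lit 25) = true := by decide +kernel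
theorem chkP_51575 : allRangeF (checkPointF cert) (nat_lit 51575) (nat_lit 25) = true := by decide +kernel
theorem chkP_51600 : allRangeF (checkPointF cert) (nat_lit 51600) (nat_lit 25) = true := by decide +kernel
theorem chkP_51625 : allRangeF (checkPointF cert) (nat_lit 51625) (nat_lit 25) = true := by decide +kernel
theorem chkP_51650 : allRangeF (checkPointF cert) (nat_lit 51650) (nat_lit 25) = true := by decide +kernel
theorem chkP_51675 : allRangeF (checkPointF cert) (nat_lit 51675) (nat_lit 25) = true := by decide +kernel
theorem chkP_51700 : allRangeF (checkPointF cert) (nat_lit 51700) (nat_lit 25) = true := by decide +kernel
theorem chkP_51725 : allRangeF (checkPointF cert) (nat_lit 51725) (nat_lit 25) = true := by decide +kernel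
theorem chkP_51750 : allRangeF (checkPointF cert) (nat_lit 51750) (nat_lit 25) = true := by decide +kernel
theorem chkP_51775 : allRangeF (checkPointF cert) (nat_lit 51775) (nat_lit 25) = true := by decide +kernel
theorem chkP_51800 : allRangeF (checkPointF cert) (nat_lit 51800) (nat_lit 25) = true := by decide +kernel
theorem chkP_51825 : allRangeF (checkPointF cert) (nat_lit 51825) (nat_lit 25) = true := by decide +kernel
theorem chkP_51850 : allRangeF (checkPointF cert) (nat_lit 51850) (nat_lit 25) = true := by decide +kernel
theorem chkP_51875 : allRangeF (checkPointF cert) (nat_lit 51875) (nat_lit 25) = true := by decide +kernel
theorem chkP_51900 : allRangeF (checkPointF cert) (nat_lit 51900) (nat_lit 25) = true := by decide +kernel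
theorem chkP_51925 : allRangeF (checkPointF cert) (nat_lit 51925) (nat_lit 25) = true := by decide +kernel
theorem chkP_51950 : allRangeF (checkPointF cert) (nat_lit 51950) (nat_lit 25) = true := by decide +kernel
theorem chkP_51975 : allRangeF (checkPointF cert) (nat_lit 51975) (nat_lit 25) = true := by decide +kernel
theorem chkP_52000 : allRangeF (checkPointF cert) (nat_lit 52000) (nat_lit 25) = true := by decide +kernel
theorem chkP_52025 : allRangeF (checkPointF cert) (nat_lit 52025) (nat_lit 25) = true := by decide +kernel
theorem chkP_52050 : allRangeF (checkPointF cert) (nat_lit 52050) (nat_lit 25) = true := by decide +kernel
theorem chkP_52075 : allRangeF (checkPointF cert) (nat_lit 52075) (nat_lit 25) = true := by decide +kernel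
theorem chkP_52100 : allRangeF (checkPointF cert) (nat_lit 52100) (nat_lit 25) = true := by decide +kernel
theorem chkP_52125 : allRangeF (checkPointF cert) (nat_lit 52125) (nat_lit 25) = true := by decide +kernel
theorem chkP_52150 : allRangeF (checkPointF cert) (nat_lit 52150) (nat_lit 25) = true := by decide +kernel
theorem chkP_52175 : allRangeF (checkPointF cert) (nat_lit 52175) (nat_lit 25) = true := by decide +kernel
theorem chkP_52200 : allRangeF (checkPointF cert) (nat_lit 52200) (nat_lit 25) = true := by decide +kernel
theorem chkP_52225 : allRangeF (checkPointF cert) (nat_lit 52225) (nat_lit 25) = true := by decide +kernel
theorem chkP_52250 : allRangeF (checkPointF cert) (nat_lit 52250) (nat_lit 25) = true := by decide +kernel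
theorem chkP_52275 : allRangeF (checkPointF cert) (nat_lit 52275) (nat_lit 25) = true := by decide +kernel
theorem chkP_52300 : allRangeF (checkPointF cert) (nat_lit 52300) (nat_lit 25) = true := by decide +kernel
theorem chkP_52325 : allRangeF (checkPointF cert) (nat_lit 52325) (nat_lit 25) = true := by decide +kernel
theorem chkP_52350 : allRangeF (checkPointF cert) (nat_lit 52350) (nat_lit 25) = true := by decide +kernel
theorem chkP_52375 : allRangeF (checkPointF cert) (nat_lit 52375) (nat_lit 25) = true := by decide +kernel
theorem chkP_52400 : allRangeF (checkPointF cert) (nat_lit 52400) (nat_lit 25) = true := by decide +kernel
theorem chkP_52425 : allRangeF (checkPointF cert) (nat_lit 52425) (nat_lit 25) = true := by decide +kernel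
theorem chkP_52450 : allRangeF (checkPointF cert) (nat_lit 52450) (nat_lit 25) = true := by decide +kernel
theorem chkP_52475 : allRangeF (checkPointF cert) (nat_lit 52475) (nat_lit 25) = true := by decide +kernel
theorem chkP_52500 : allRangeF (checkPointF cert) (nat_lit 52500) (nat_lit 25) = true := by decide +kernel
theorem chkP_52525 : allRangeF (checkPointF cert) (nat_lit 52525) (nat_lit 25) = true := by decide +kernel
theorem chkP_52550 : allRangeF (checkPointF cert) (nat_lit 52550) (nat_lit 25) = true := by decide +kernel
theorem chkP_52575 : allRangeF (checkPointF cert) (nat_lit 52575) (nat_lit 25) = true := by decide +kernel
theorem chkP_52600 : allRangeF (checkPointF cert) (nat_lit 52600) (nat_lit 25) = true := by decide +kernel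
theorem chkP_52625 : allRangeF (checkPointF cert) (nat_lit 52625) (nat_lit 25) = true := by decide +kernel
theorem chkP_52650 : allRangeF (checkPointF cert) (nat_lit 52650) (nat_lit 25) = true := by decide +kernel
theorem chkP_52675 : allRangeF (checkPointF cert) (nat_lit 52675) (nat_lit 25) = true := by decide +kernel
theorem chkP_52700 : allRangeF (checkPointF cert) (nat_lit 52700) (nat_lit 25) = true := by decide +kernel
theorem chkP_52725 : allRangeF (checkPointF cert) (nat_lit 52725) (nat_lit 25) = true := by decide +kernel
theorem chkP_52750 : allRangeF (checkPointF cert) (nat_lit 52750) (nat_lit 25) = true := by decide +kernel
theorem chkP_52775 : allRangeF (checkPointF cert) (nat_lit 52775) (nat_lit 25) = true := by decide +kernel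
theorem chkP_52800 : allRangeF (checkPointF cert) (nat_lit 52800) (nat_lit 25) = true := by decide +kernel
theorem chkP_52825 : allRangeF (checkPointF cert) (nat_lit 52825) (nat_lit 25) = true := by decide +kernel
theorem chkP_52850 : allRangeF (checkPointF cert) (nat_lit 52850) (nat_lit 25) = true := by decide +kernel
theorem chkP_52875 : allRangeF (checkPointF cert) (nat_lit 52875) (nat_lit 25) = true := by decide +kernel
theorem chkP_52900 : allRangeF (checkPointF cert) (nat_lit 52900) (nat_lit 25) = true := by decide +kernel
theorem chkP_52925 : allRangeF (checkPointF cert) (nat_lit 52925) (nat_lit 25) = true := by decide +kernel
theorem chkP_52950 : allRangeF (checkPointF cert) (nat_lit 52950) (nat_lit 25) = true := by decide +kernel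
theorem chkP_52975 : allRangeF (checkPointF cert) (nat_lit 52975) (nat_lit 25) = true := by decide +kernel
theorem chkP_53000 : allRangeF (checkPointF cert) (nat_lit 53000) (nat_lit 25) = true := by decide +kernel
theorem chkP_53025 : allRangeF (checkPointF cert) (nat_lit 53025) (nat_lit 25) = true := by decide +kernel
theorem chkP_53050 : allRangeF (checkPointF cert) (nat_lit 53050) (nat_lit 25) = true := by decide +kernel
theorem chkP_53075 : allRangeF (checkPointF cert) (nat_lit 53075) (nat_lit 25) = true := by decide +kernel
theorem chkP_53100 : allRangeF (checkPointF cert) (nat_lit 53100) (nat_lit 25) = true := by decide +kernel
theorem chkP_53125 : allRangeF (checkPointF cert) (nat_lit 53125) (nat_lit 25) = true := by decide +kernel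
theorem chkP_53150 : allRangeF (checkPointF cert) (nat_lit 53150) (nat_lit 25) = true := by decide +kernel
theorem chkP_53175 : allRangeF (checkPointF cert) (nat_lit 53175) (nat_lit 25) = true := by decide +kernel
theorem chkP_53200 : allRangeF (checkPointF cert) (nat_lit 53200) (nat_lit 25) = true := by decide +kernel
theorem chkP_53225 : allRangeF (checkPointF cert) (nat_lit 53225) (nat_lit 25) = true := by decide +kernel
theorem chkP_53250 : allRangeF (checkPointF cert) (nat_lit 53250) (nat_lit 25) = true := by decide +kernel
theorem chkP_53275 : allRangeF (checkPointF cert) (nat_lit 53275) (nat_lit 25) = true := by decide +kernel
theorem chkP_53300 : allRangeF (checkPointF cert) (nat_lit 53300) (nat_lit 25) = true := by decide +kernel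
theorem chkP_53325 : allRangeF (checkPointF cert) (nat_lit 53325) (nat_lit 25) = true := by decide +kernel
theorem chkP_53350 : allRangeF (checkPointF cert) (nat_lit 53350) (nat_lit 25) = true := by decide +kernel
theorem chkP_53375 : allRangeF (checkPointF cert) (nat_lit 53375) (nat_lit 25) = true := by decide +kernel
theorem chkP_53400 : allRangeF (checkPointF cert) (nat_lit 53400) (nat_lit 25) = true := by decide +kernel
theorem chkP_53425 : allRangeF (checkPointF cert) (nat_lit 53425) (nat_lit 25) = true := by decide +kernel
theorem chkP_53450 : allRangeF (checkPointF cert) (nat_lit 53450) (nat_lit 25) = true := by decide +kernel
theorem chkP_53475 : allRangeF (checkPointF cert) (nat_lit 53475) (nat_lit 25) = true := by decide +kernel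
theorem chkP_53500 : allRangeF (checkPointF cert) (nat_lit 53500) (nat_lit 25) = true := by decide +kernel
theorem chkP_53525 : allRangeF (checkPointF cert) (nat_lit 53525) (nat_lit 25) = true := by decide +kernel
theorem chkP_53550 : allRangeF (checkPointF cert) (nat_lit 53550) (nat_lit 25) = true := by decide +kernel
theorem chkP_53575 : allRangeF (checkPointF cert) (nat_lit 53575) (nat_lit 25) = true := by decide +kernel
theorem chkP_53600 : allRangeF (checkPointF cert) (nat_lit 53600) (nat_lit 25) = true := by decide +kernel
theorem chkP_53625 : allRangeF (checkPointF cert) (nat_lit 53625) (nat_lit 25) = true := by decide +kernel
theorem chkP_53650 : allRangeF (checkPointF cert) (nat_lit 53650) (nat_lit 25) = true := by decide +kernel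
theorem chkP_53675 : allRangeF (checkPointF cert) (nat_lit 53675) (nat_lit 25) = true := by decide +kernel
theorem chkP_53700 : allRangeF (checkPointF cert) (nat_lit 53700) (nat_lit 25) = true := by decide +kernel

theorem ptsRange_6 : ∀ i, 46050 ≤ i → i < 53725 → checkPoint cert i = true := by
  intro i hlo hhi
  rcases Nat.lt_or_ge i 49875 with h1 | h1
  · skip
    rcases Nat.lt_or_ge i 47950 with h2 | h2
    · skip
      rcases Nat.lt_or_ge i 47000 with h3 | h3
      · skip
        rcases Nat.lt_or_ge i 46525 with h4 | h4
        · skip
          rcases Nat.lt_or_ge i 46275 with h5 | h5
          · skip
            rcases Nat.lt_or_ge i 46150 with h6 | h6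
            · skip
              rcases Nat.lt_or_ge i 46100 with h7 | h7
              · skip
                rcases Nat.lt_or_ge i 46075 with h8 | h8
                · skip
                  exact allRangeF_sound _ _ (checkPointF_eq cert) 46050 25 chkP_46050 i (by omega) (by omega)
                · skip
                  exact allRangeF_sound _ _ (checkPointF_eq cert) 46075 25 chkP_46075 i (by omega) (by omega)
              · skip
                rcases Nat.lt_or_ge i 46125 with h8 | h8
                · skip
                  exact allRangeF_sound _ _ (checkPointF_eq cert) 46100 25 chkP_46100 i (by omega) (by omega)
                · skip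
                  exact allRangeF_sound _ _ (checkPointF_eq cert) 46125 25 chkP_46125 i (by omega) (by omega)
            · skip
              rcases Nat.lt_or_ge i 46200 with h7 | h7
              · skip
                rcases Nat.lt_or_ge i 46175 with h8 | h8
                · skip
                  exact allRangeF_sound _ _ (checkPointF_eq cert) 46150 25 chkP_46150 i (by omega) (by omega)
                · skip
                  exact allRangeF_sound _ _ (checkPointF_eq cert) 46175 25 chkP_46175 i (by omega) (by omega)
              · skip
                rcases Nat.lt_or_ge i 46225 with h8 | h8
                · skip
                  exact allRangeF_sound _ _ (checkPointF_eq cert) 46200 25 chkP_46200 i (by omega) (by omega)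
                · skip
                  rcases Nat.lt_or_ge i 46250 with h9 | h9
                  · skip
                    exact allRangeF_sound _ _ (checkPointF_eq cert) 46225 25 chkP_46225 i (by omega) (by omega)
                  · skip
                    exact allRangeF_sound _ _ (checkPointF_eq cert) 46250 25 chkP_46250 i (by omega) (by omega)
          · skip
            rcases Nat.lt_or_ge i 46400 with h6 | h6
            · skip
              rcases Nat.lt_or_ge i 46325 with h7 | h7
              · skip
                rcases Nat.lt_or_ge i 46300 with h8 | h8
                · skip
                  exact allRangeF_sound _ _ (checkPointF_eq cert) 46275 25 chkP_46275 i (by omega) (by omega)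
                · skip
                  exact allRangeF_sound _ _ (checkPointF_eq cert) 46300 25 chkP_46300 i (by omega) (by omega)
              · skip
                rcases Nat.lt_or_ge i 46350 with h8 | h8
                · skip
                  exact allRangeF_sound _ _ (checkPointF_eq cert) 46325 25 chkP_46325 i (by omega) (by omega)
                · skip
                  rcases Nat.lt_or_ge i 46375 with h9 | h9
                  · skip
                    exact allRangeF_sound _ _ (checkPointF_eq cert) 46350 25 chkP_46350 i (by omega) (by omega)
                  · skip
                    exact allRangeF_sound _ _ (checkPointF_eq cert) 46375 25 chkP_46375 i (by omega) (by omega)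
            · skip
              rcases Nat.lt_or_ge i 46450 with h7 | h7
              · skip
                rcases Nat.lt_or_ge i 46425 with h8 | h8
                · skip
                  exact allRangeF_sound _ _ (checkPointF_eq cert) 46400 25 chkP_46400 i (by omega) (by omega)
                · skip
                  exact allRangeF_sound _ _ (checkPointF_eq cert) 46425 25 chkP_46425 i (by omega) (by omega)
              · skip
                rcases Nat.lt_or_ge i 46475 with h8 | h8
                · skip
                  exact allRangeF_sound _ _ (checkPointF_eq cert) 46450 25 chkP_46450 i (by omega) (by omega)
                · skip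
                  rcases Nat.lt_or_ge i 46500 with h9 | h9
                  · skip
                    exact allRangeF_sound _ _ (checkPointF_eq cert) 46475 25 chkP_46475 i (by omega) (by omega)
                  · skip
                    exact allRangeF_sound _ _ (checkPointF_eq cert) 46500 25 chkP_46500 i (by omega) (by omega)
        · skip
          rcases Nat.lt_or_ge i 46750 with h5 | h5
          · skip
            rcases Nat.lt_or_ge i 46625 with h6 | h6
            · skip
              rcases Nat.lt_or_ge i 46575 with h7 | h7
              · skip
                rcases Nat.lt_or_ge i 46550 with h8 | h8
                · skip
                  exact allRangeF_sound _ _ (checkPointF_eq cert) 46525 25 chkP_46525 i (by omega) (by omega)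
                · skip
                  exact allRangeF_sound _ _ (checkPointF_eq cert) 46550 25 chkP_46550 i (by omega) (by omega)
              · skip
                rcases Nat.lt_or_ge i 46600 with h8 | h8
                · skip
                  exact allRangeF_sound _ _ (checkPointF_eq cert) 46575 25 chkP_46575 i (by omega) (by omega)
                · skip
                  exact allRangeF_sound _ _ (checkPointF_eq cert) 46600 25 chkP_46600 i (by omega) (by omega)
            · skip
              rcases Nat.lt_or_ge i 46675 with h7 | h7
              · skip
                rcases Nat.lt_or_ge i 46650 with h8 | h8
                · skip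
                  exact allRangeF_sound _ _ (checkPointF_eq cert) 46625 25 chkP_46625 i (by omega) (by omega)
                · skip
                  exact allRangeF_sound _ _ (checkPointF_eq cert) 46650 25 chkP_46650 i (by omega) (by omega)
              · skip
                rcases Nat.lt_or_ge i 46700 with h8 | h8
                · skip
                  exact allRangeF_sound _ _ (checkPointF_eq cert) 46675 25 chkP_46675 i (by omega) (by omega)
                · skip
                  rcases Nat.lt_or_ge i 46725 with h9 | h9
                  · skip
                    exact allRangeF_sound _ _ (checkPointF_eq cert) 46700 25 chkP_46700 i (by omega) (by omega)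
                  · skip
                    exact allRangeF_sound _ _ (checkPointF_eq cert) 46725 25 chkP_46725 i (by omega) (by omega)
          · skip
            rcases Nat.lt_or_ge i 46875 with h6 | h6
            · skip
              rcases Nat.lt_or_ge i 46800 with h7 | h7
              · skip
                rcases Nat.lt_or_ge i 46775 with h8 | h8
                · skip
                  exact allRangeF_sound _ _ (checkPointF_eq cert) 46750 25 chkP_46750 i (by omega) (by omega)
                · skip
                  exact allRangeF_sound _ _ (checkPointF_eq cert) 46775 25 chkP_46775 i (by omega) (by omega)
              · skip
                rcases Nat.lt_or_ge i 46825 with h8 | h8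
                · skip
                  exact allRangeF_sound _ _ (checkPointF_eq cert) 46800 25 chkP_46800 i (by omega) (by omega)
                · skip
                  rcases Nat.lt_or_ge i 46850 with h9 | h9
                  · skip
                    exact allRangeF_sound _ _ (checkPointF_eq cert) 46825 25 chkP_46825 i (by omega) (by omega)
                  · skip
                    exact allRangeF_sound _ _ (checkPointF_eq cert) 46850 25 chkP_46850 i (by omega) (by omega)
            · skip
              rcases Nat.lt_or_ge i 46925 with h7 | h7
              · skip
                rcases Nat.lt_or_ge i 46900 with h8 | h8
                · skip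
                  exact allRangeF_sound _ _ (checkPointF_eq cert) 46875 25 chkP_46875 i (by omega) (by omega)
                · skip
                  exact allRangeF_sound _ _ (checkPointF_eq cert) 46900 25 chkP_46900 i (by omega) (by omega)
              · skip
                rcases Nat.lt_or_ge i 46950 with h8 | h8
                · skip
                  exact allRangeF_sound _ _ (checkPointF_eq cert) 46925 25 chkP_46925 i (by omega) (by omega)
                · skip
                  rcases Nat.lt_or_ge i 46975 with h9 | h9
                  · skip
                    exact allRangeF_sound _ _ (checkPointF_eq cert) 46950 25 chkP_46950 i (by omega) (by omega)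
                  · skip
                    exact allRangeF_sound _ _ (checkPointF_eq cert) 46975 25 chkP_46975 i (by omega) (by omega)
      · skip
        rcases Nat.lt_or_ge i 47475 with h4 | h4
        · skip
          rcases Nat.lt_or_ge i 47225 with h5 | h5
          · skip
            rcases Nat.lt_or_ge i 47100 with h6 | h6
            · skip
              rcases Nat.lt_or_ge i 47050 with h7 | h7
              · skip
                rcases Nat.lt_or_ge i 47025 with h8 | h8
                · skip
                  exact allRangeF_sound _ _ (checkPointF_eq cert) 47000 25 chkP_47000 i (by omega) (by omega)
                · skip
                  exact allRangeF_sound _ _ (checkPointF_eq cert) 47025 25 chkP_47025 i (by omega) (by omega)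
              · skip
                rcases Nat.lt_or_ge i 47075 with h8 | h8
                · skip
                  exact allRangeF_sound _ _ (checkPointF_eq cert) 47050 25 chkP_47050 i (by omega) (by omega)
                · skip
                  exact allRangeF_sound _ _ (checkPointF_eq cert) 47075 25 chkP_47075 i (by omega) (by omega)
            · skip
              rcases Nat.lt_or_ge i 47150 with h7 | h7
              · skip
                rcases Nat.lt_or_ge i 47125 with h8 | h8
                · skip
                  exact allRangeF_sound _ _ (checkPointF_eq cert) 47100 25 chkP_47100 i (by omega) (by omega)
                · skip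
                  exact allRangeF_sound _ _ (checkPointF_eq cert) 47125 25 chkP_47125 i (by omega) (by omega)
              · skip
                rcases Nat.lt_or_ge i 47175 with h8 | h8
                · skip
                  exact allRangeF_sound _ _ (checkPointF_eq cert) 47150 25 chkP_47150 i (by omega) (by omega)
                · skip
                  rcases Nat.lt_or_ge i 47200 with h9 | h9
                  · skip
                    exact allRangeF_sound _ _ (checkPointF_eq cert) 47175 25 chkP_47175 i (by omega) (by omega)
                  · skip
                    exact allRangeF_sound _ _ (checkPointF_eq cert) 47200 25 chkP_47200 i (by omega) (by omega)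
          · skip
            rcases Nat.lt_or_ge i 47350 with h6 | h6
            · skip
              rcases Nat.lt_or_ge i 47275 with h7 | h7
              · skip
                rcases Nat.lt_or_ge i 47250 with h8 | h8
                · skip
                  exact allRangeF_sound _ _ (checkPointF_eq cert) 47225 25 chkP_47225 i (by omega) (by omega)
                · skip
                  exact allRangeF_sound _ _ (checkPointF_eq cert) 47250 25 chkP_47250 i (by omega) (by omega)
              · skip
                rcases Nat.lt_or_ge i 47300 with h8 | h8
                · skip
                  exact allRangeF_sound _ _ (checkPointF_eq cert) 47275 25 chkP_47275 i (by omega) (by omega)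
                · skip
                  rcases Nat.lt_or_ge i 47325 with h9 | h9
                  · skip
                    exact allRangeF_sound _ _ (checkPointF_eq cert) 47300 25 chkP_47300 i (by omega) (by omega)
                  · skip
                    exact allRangeF_sound _ _ (checkPointF_eq cert) 47325 25 chkP_47325 i (by omega) (by omega)
            · skip
              rcases Nat.lt_or_ge i 47400 with h7 | h7
              · skip
                rcases Nat.lt_or_ge i 47375 with h8 | h8
                · skip
                  exact allRangeF_sound _ _ (checkPointF_eq cert) 47350 25 chkP_47350 i (by omega) (by omega)
                · skip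
                  exact allRangeF_sound _ _ (checkPointF_eq cert) 47375 25 chkP_47375 i (by omega) (by omega)
              · skip
                rcases Nat.lt_or_ge i 47425 with h8 | h8
                · skip
                  exact allRangeF_sound _ _ (checkPointF_eq cert) 47400 25 chkP_47400 i (by omega) (by omega)
                · skip
                  rcases Nat.lt_or_ge i 47450 with h9 | h9
                  · skip
                    exact allRangeF_sound _ _ (checkPointF_eq cert) 47425 25 chkP_47425 i (by omega) (by omega)
                  · skip
                    exact allRangeF_sound _ _ (checkPointF_eq cert) 47450 25 chkP_47450 i (by omega) (by omega)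
        · skip
          rcases Nat.lt_or_ge i 47700 with h5 | h5
          · skip
            rcases Nat.lt_or_ge i 47575 with h6 | h6
            · skip
              rcases Nat.lt_or_ge i 47525 with h7 | h7
              · skip
                rcases Nat.lt_or_ge i 47500 with h8 | h8
                · skip
                  exact allRangeF_sound _ _ (checkPointF_eq cert) 47475 25 chkP_47475 i (by omega) (by omega)
                · skip
                  exact allRangeF_sound _ _ (checkPointF_eq cert) 47500 25 chkP_47500 i (by omega) (by omega)
              · skip
                rcases Nat.lt_or_ge i 47550 with h8 | h8
                · skip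
                  exact allRangeF_sound _ _ (checkPointF_eq cert) 47525 25 chkP_47525 i (by omega) (by omega)
                · skip
                  exact allRangeF_sound _ _ (checkPointF_eq cert) 47550 25 chkP_47550 i (by omega) (by omega)
            · skip
              rcases Nat.lt_or_ge i 47625 with h7 | h7
              · skip
                rcases Nat.lt_or_ge i 47600 with h8 | h8
                · skip
                  exact allRangeF_sound _ _ (checkPointF_eq cert) 47575 25 chkP_47575 i (by omega) (by omega)
                · skip
                  exact allRangeF_sound _ _ (checkPointF_eq cert) 47600 25 chkP_47600 i (by omega) (by omega)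
              · skip
                rcases Nat.lt_or_ge i 47650 with h8 | h8
                · skip
                  exact allRangeF_sound _ _ (checkPointF_eq cert) 47625 25 chkP_47625 i (by omega) (by omega)
                · skip
                  rcases Nat.lt_or_ge i 47675 with h9 | h9
                  · skip
                    exact allRangeF_sound _ _ (checkPointF_eq cert) 47650 25 chkP_47650 i (by omega) (by omega)
                  · skip
                    exact allRangeF_sound _ _ (checkPointF_eq cert) 47675 25 chkP_47675 i (by omega) (by omega)
          · skip
            rcases Nat.lt_or_ge i 47825 with h6 | h6
            · skip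
              rcases Nat.lt_or_ge i 47750 with h7 | h7
              · skip
                rcases Nat.lt_or_ge i 47725 with h8 | h8
                · skip
                  exact allRangeF_sound _ _ (checkPointF_eq cert) 47700 25 chkP_47700 i (by omega) (by omega)
                · skip
                  exact allRangeF_sound _ _ (checkPointF_eq cert) 47725 25 chkP_47725 i (by omega) (by omega)
              · skip
                rcases Nat.lt_or_ge i 47775 with h8 | h8
                · skip
                  exact allRangeF_sound _ _ (checkPointF_eq cert) 47750 25 chkP_47750 i (by omega) (by omega)
                · skip
                  rcases Nat.lt_or_ge i 47800 with h9 | h9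
                  · skip
                    exact allRangeF_sound _ _ (checkPointF_eq cert) 47775 25 chkP_47775 i (by omega) (by omega)
                  · skip
                    exact allRangeF_sound _ _ (checkPointF_eq cert) 47800 25 chkP_47800 i (by omega) (by omega)
            · skip
              rcases Nat.lt_or_ge i 47875 with h7 | h7
              · skip
                rcases Nat.lt_or_ge i 47850 with h8 | h8
                · skip
                  exact allRangeF_sound _ _ (checkPointF_eq cert) 47825 25 chkP_47825 i (by omega) (by omega)
                · skip
                  exact allRangeF_sound _ _ (checkPointF_eq cert) 47850 25 chkP_47850 i (by omega) (by omega)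
              · skip
                rcases Nat.lt_or_ge i 47900 with h8 | h8
                · skip
                  exact allRangeF_sound _ _ (checkPointF_eq cert) 47875 25 chkP_47875 i (by omega) (by omega)
                · skip
                  rcases Nat.lt_or_ge i 47925 with h9 | h9
                  · skip
                    exact allRangeF_sound _ _ (checkPointF_eq cert) 47900 25 chkP_47900 i (by omega) (by omega)
                  · skip
                    exact allRangeF_sound _ _ (checkPointF_eq cert) 47925 25 chkP_47925 i (by omega) (by omega)
    · skip
      rcases Nat.lt_or_ge i 48900 with h3 | h3
      · skip
        rcases Nat.lt_or_ge i 48425 with h4 | h4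
        · skip
          rcases Nat.lt_or_ge i 48175 with h5 | h5
          · skip
            rcases Nat.lt_or_ge i 48050 with h6 | h6
            · skip
              rcases Nat.lt_or_ge i 48000 with h7 | h7
              · skip
                rcases Nat.lt_or_ge i 47975 with h8 | h8
                · skip
                  exact allRangeF_sound _ _ (checkPointF_eq cert) 47950 25 chkP_47950 i (by omega) (by omega)
                · skip
                  exact allRangeF_sound _ _ (checkPointF_eq cert) 47975 25 chkP_47975 i (by omega) (by omega)
              · skip
                rcases Nat.lt_or_ge i 48025 with h8 | h8
                · skip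
                  exact allRangeF_sound _ _ (checkPointF_eq cert) 48000 25 chkP_48000 i (by omega) (by omega)
                · skip
                  exact allRangeF_sound _ _ (checkPointF_eq cert) 48025 25 chkP_48025 i (by omega) (by omega)
            · skip
              rcases Nat.lt_or_ge i 48100 with h7 | h7
              · skip
                rcases Nat.lt_or_ge i 48075 with h8 | h8
                · skip
                  exact allRangeF_sound _ _ (checkPointF_eq cert) 48050 25 chkP_48050 i (by omega) (by omega)
                · skip
                  exact allRangeF_sound _ _ (checkPointF_eq cert) 48075 25 chkP_48075 i (by omega) (by omega)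
              · skip
                rcases Nat.lt_or_ge i 48125 with h8 | h8
                · skip
                  exact allRangeF_sound _ _ (checkPointF_eq cert) 48100 25 chkP_48100 i (by omega) (by omega)
                · skip
                  rcases Nat.lt_or_ge i 48150 with h9 | h9
                  · skip
                    exact allRangeF_sound _ _ (checkPointF_eq cert) 48125 25 chkP_48125 i (by omega) (by omega)
                  · skip
                    exact allRangeF_sound _ _ (checkPointF_eq cert) 48150 25 chkP_48150 i (by omega) (by omega)
          · skip
            rcases Nat.lt_or_ge i 48300 with h6 | h6
            · skip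
              rcases Nat.lt_or_ge i 48225 with h7 | h7
              · skip
                rcases Nat.lt_or_ge i 48200 with h8 | h8
                · skip
                  exact allRangeF_sound _ _ (checkPointF_eq cert) 48175 25 chkP_48175 i (by omega) (by omega)
                · skip
                  exact allRangeF_sound _ _ (checkPointF_eq cert) 48200 25 chkP_48200 i (by omega) (by omega)
              · skip
                rcases Nat.lt_or_ge i 48250 with h8 | h8
                · skip
                  exact allRangeF_sound _ _ (checkPointF_eq cert) 48225 25 chkP_48225 i (by omega) (by omega)
                · skip
                  rcases Nat.lt_or_ge i 48275 with h9 | h9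
                  · skip
                    exact allRangeF_sound _ _ (checkPointF_eq cert) 48250 25 chkP_48250 i (by omega) (by omega)
                  · skip
                    exact allRangeF_sound _ _ (checkPointF_eq cert) 48275 25 chkP_48275 i (by omega) (by omega)
            · skip
              rcases Nat.lt_or_ge i 48350 with h7 | h7
              · skip
                rcases Nat.lt_or_ge i 48325 with h8 | h8
                · skip
                  exact allRangeF_sound _ _ (checkPointF_eq cert) 48300 25 chkP_48300 i (by omega) (by omega)
                · skip
                  exact allRangeF_sound _ _ (checkPointF_eq cert) 48325 25 chkP_48325 i (by omega) (by omega)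
              · skip
                rcases Nat.lt_or_ge i 48375 with h8 | h8
                · skip
                  exact allRangeF_sound _ _ (checkPointF_eq cert) 48350 25 chkP_48350 i (by omega) (by omega)
                · skip
                  rcases Nat.lt_or_ge i 48400 with h9 | h9
                  · skip
                    exact allRangeF_sound _ _ (checkPointF_eq cert) 48375 25 chkP_48375 i (by omega) (by omega)
                  · skip
                    exact allRangeF_sound _ _ (checkPointF_eq cert) 48400 25 chkP_48400 i (by omega) (by omega)
        · skip
          rcases Nat.lt_or_ge i 48650 with h5 | h5
          · skip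
            rcases Nat.lt_or_ge i 48525 with h6 | h6
            · skip
              rcases Nat.lt_or_ge i 48475 with h7 | h7
              · skip
                rcases Nat.lt_or_ge i 48450 with h8 | h8
                · skip
                  exact allRangeF_sound _ _ (checkPointF_eq cert) 48425 25 chkP_48425 i (by omega) (by omega)
                · skip
                  exact allRangeF_sound _ _ (checkPointF_eq cert) 48450 25 chkP_48450 i (by omega) (by omega)
              · skip
                rcases Nat.lt_or_ge i 48500 with h8 | h8
                · skip
                  exact allRangeF_sound _ _ (checkPointF_eq cert) 48475 25 chkP_48475 i (by omega) (by omega)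
                · skip
                  exact allRangeF_sound _ _ (checkPointF_eq cert) 48500 25 chkP_48500 i (by omega) (by omega)
            · skip
              rcases Nat.lt_or_ge i 48575 with h7 | h7
              · skip
                rcases Nat.lt_or_ge i 48550 with h8 | h8
                · skip
                  exact allRangeF_sound _ _ (checkPointF_eq cert) 48525 25 chkP_48525 i (by omega) (by omega)
                · skip
                  exact allRangeF_sound _ _ (checkPointF_eq cert) 48550 25 chkP_48550 i (by omega) (by omega)
              · skip
                rcases Nat.lt_or_ge i 48600 with h8 | h8
                · skip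
                  exact allRangeF_sound _ _ (checkPointF_eq cert) 48575 25 chkP_48575 i (by omega) (by omega)
                · skip
                  rcases Nat.lt_or_ge i 48625 with h9 | h9
                  · skip
                    exact allRangeF_sound _ _ (checkPointF_eq cert) 48600 25 chkP_48600 i (by omega) (by omega)
                  · skip
                    exact allRangeF_sound _ _ (checkPointF_eq cert) 48625 25 chkP_48625 i (by omega) (by omega)
          · skip
            rcases Nat.lt_or_ge i 48775 with h6 | h6
            · skip
              rcases Nat.lt_or_ge i 48700 with h7 | h7
              · skip
                rcases Nat.lt_or_ge i 48675 with h8 | h8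
                · skip
                  exact allRangeF_sound _ _ (checkPointF_eq cert) 48650 25 chkP_48650 i (by omega) (by omega)
                · skip
                  exact allRangeF_sound _ _ (checkPointF_eq cert) 48675 25 chkP_48675 i (by omega) (by omega)
              · skip
                rcases Nat.lt_or_ge i 48725 with h8 | h8
                · skip
                  exact allRangeF_sound _ _ (checkPointF_eq cert) 48700 25 chkP_48700 i (by omega) (by omega)
                · skip
                  rcases Nat.lt_or_ge i 48750 with h9 | h9
                  · skip
                    exact allRangeF_sound _ _ (checkPointF_eq cert) 48725 25 chkP_48725 i (by omega) (by omega)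
                  · skip
                    exact allRangeF_sound _ _ (checkPointF_eq cert) 48750 25 chkP_48750 i (by omega) (by omega)
            · skip
              rcases Nat.lt_or_ge i 48825 with h7 | h7
              · skip
                rcases Nat.lt_or_ge i 48800 with h8 | h8
                · skip
                  exact allRangeF_sound _ _ (checkPointF_eq cert) 48775 25 chkP_48775 i (by omega) (by omega)
                · skip
                  exact allRangeF_sound _ _ (checkPointF_eq cert) 48800 25 chkP_48800 i (by omega) (by omega)
              · skip
                rcases Nat.lt_or_ge i 48850 with h8 | h8
                · skip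
                  exact allRangeF_sound _ _ (checkPointF_eq cert) 48825 25 chkP_48825 i (by omega) (by omega)
                · skip
                  rcases Nat.lt_or_ge i 48875 with h9 | h9
                  · skip
                    exact allRangeF_sound _ _ (checkPointF_eq cert) 48850 25 chkP_48850 i (by omega) (by omega)
                  · skip
                    exact allRangeF_sound _ _ (checkPointF_eq cert) 48875 25 chkP_48875 i (by omega) (by omega)
      · skip
        rcases Nat.lt_or_ge i 49375 with h4 | h4
        · skip
          rcases Nat.lt_or_ge i 49125 with h5 | h5
          · skip
            rcases Nat.lt_or_ge i 49000 with h6 | h6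
            · skip
              rcases Nat.lt_or_ge i 48950 with h7 | h7
              · skip
                rcases Nat.lt_or_ge i 48925 with h8 | h8
                · skip
                  exact allRangeF_sound _ _ (checkPointF_eq cert) 48900 25 chkP_48900 i (by omega) (by omega)
                · skip
                  exact allRangeF_sound _ _ (checkPointF_eq cert) 48925 25 chkP_48925 i (by omega) (by omega)
              · skip
                rcases Nat.lt_or_ge i 48975 with h8 | h8
                · skip
                  exact allRangeF_sound _ _ (checkPointF_eq cert) 48950 25 chkP_48950 i (by omega) (by omega)
                · skip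
                  exact allRangeF_sound _ _ (checkPointF_eq cert) 48975 25 chkP_48975 i (by omega) (by omega)
            · skip
              rcases Nat.lt_or_ge i 49050 with h7 | h7
              · skip
                rcases Nat.lt_or_ge i 49025 with h8 | h8
                · skip
                  exact allRangeF_sound _ _ (checkPointF_eq cert) 49000 25 chkP_49000 i (by omega) (by omega)
                · skip
                  exact allRangeF_sound _ _ (checkPointF_eq cert) 49025 25 chkP_49025 i (by omega) (by omega)
              · skip
                rcases Nat.lt_or_ge i 49075 with h8 | h8
                · skip
                  exact allRangeF_sound _ _ (checkPointF_eq cert) 49050 25 chkP_49050 i (by omega) (by omega)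
                · skip
                  rcases Nat.lt_or_ge i 49100 with h9 | h9
                  · skip
                    exact allRangeF_sound _ _ (checkPointF_eq cert) 49075 25 chkP_49075 i (by omega) (by omega)
                  · skip
                    exact allRangeF_sound _ _ (checkPointF_eq cert) 49100 25 chkP_49100 i (by omega) (by omega)
          · skip
            rcases Nat.lt_or_ge i 49250 with h6 | h6
            · skip
              rcases Nat.lt_or_ge i 49175 with h7 | h7
              · skip
                rcases Nat.lt_or_ge i 49150 with h8 | h8
                · skip
                  exact allRangeF_sound _ _ (checkPointF_eq cert) 49125 25 chkP_49125 i (by omega) (by omega)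
                · skip
                  exact allRangeF_sound _ _ (checkPointF_eq cert) 49150 25 chkP_49150 i (by omega) (by omega)
              · skip
                rcases Nat.lt_or_ge i 49200 with h8 | h8
                · skip
                  exact allRangeF_sound _ _ (checkPointF_eq cert) 49175 25 chkP_49175 i (by omega) (by omega)
                · skip
                  rcases Nat.lt_or_ge i 49225 with h9 | h9
                  · skip
                    exact allRangeF_sound _ _ (checkPointF_eq cert) 49200 25 chkP_49200 i (by omega) (by omega)
                  · skip
                    exact allRangeF_sound _ _ (checkPointF_eq cert) 49225 25 chkP_49225 i (by omega) (by omega)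
            · skip
              rcases Nat.lt_or_ge i 49300 with h7 | h7
              · skip
                rcases Nat.lt_or_ge i 49275 with h8 | h8
                · skip
                  exact allRangeF_sound _ _ (checkPointF_eq cert) 49250 25 chkP_49250 i (by omega) (by omega)
                · skip
                  exact allRangeF_sound _ _ (checkPointF_eq cert) 49275 25 chkP_49275 i (by omega) (by omega)
              · skip
                rcases Nat.lt_or_ge i 49325 with h8 | h8
                · skip
                  exact allRangeF_sound _ _ (checkPointF_eq cert) 49300 25 chkP_49300 i (by omega) (by omega)
                · skip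
                  rcases Nat.lt_or_ge i 49350 with h9 | h9
                  · skip
                    exact allRangeF_sound _ _ (checkPointF_eq cert) 49325 25 chkP_49325 i (by omega) (by omega)
                  · skip
                    exact allRangeF_sound _ _ (checkPointF_eq cert) 49350 25 chkP_49350 i (by omega) (by omega)
        · skip
          rcases Nat.lt_or_ge i 49625 with h5 | h5
          · skip
            rcases Nat.lt_or_ge i 49500 with h6 | h6
            · skip
              rcases Nat.lt_or_ge i 49425 with h7 | h7
              · skip
                rcases Nat.lt_or_ge i 49400 with h8 | h8
                · skip
                  exact allRangeF_sound _ _ (checkPointF_eq cert) 49375 25 chkP_49375 i (by omega) (by omega)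
                · skip
                  exact allRangeF_sound _ _ (checkPointF_eq cert) 49400 25 chkP_49400 i (by omega) (by omega)
              · skip
                rcases Nat.lt_or_ge i 49450 with h8 | h8
                · skip
                  exact allRangeF_sound _ _ (checkPointF_eq cert) 49425 25 chkP_49425 i (by omega) (by omega)
                · skip
                  rcases Nat.lt_or_ge i 49475 with h9 | h9
                  · skip
                    exact allRangeF_sound _ _ (checkPointF_eq cert) 49450 25 chkP_49450 i (by omega) (by omega)
                  · skip
                    exact allRangeF_sound _ _ (checkPointF_eq cert) 49475 25 chkP_49475 i (by omega) (by omega)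
            · skip
              rcases Nat.lt_or_ge i 49550 with h7 | h7
              · skip
                rcases Nat.lt_or_ge i 49525 with h8 | h8
                · skip
                  exact allRangeF_sound _ _ (checkPointF_eq cert) 49500 25 chkP_49500 i (by omega) (by omega)
                · skip
                  exact allRangeF_sound _ _ (checkPointF_eq cert) 49525 25 chkP_49525 i (by omega) (by omega)
              · skip
                rcases Nat.lt_or_ge i 49575 with h8 | h8
                · skip
                  exact allRangeF_sound _ _ (checkPointF_eq cert) 49550 25 chkP_49550 i (by omega) (by omega)
                · skip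
                  rcases Nat.lt_or_ge i 49600 with h9 | h9
                  · skip
                    exact allRangeF_sound _ _ (checkPointF_eq cert) 49575 25 chkP_49575 i (by omega) (by omega)
                  · skip
                    exact allRangeF_sound _ _ (checkPointF_eq cert) 49600 25 chkP_49600 i (by omega) (by omega)
          · skip
            rcases Nat.lt_or_ge i 49750 with h6 | h6
            · skip
              rcases Nat.lt_or_ge i 49675 with h7 | h7
              · skip
                rcases Nat.lt_or_ge i 49650 with h8 | h8
                · skip
                  exact allRangeF_sound _ _ (checkPointF_eq cert) 49625 25 chkP_49625 i (by omega) (by omega)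
                · skip
                  exact allRangeF_sound _ _ (checkPointF_eq cert) 49650 25 chkP_49650 i (by omega) (by omega)
              · skip
                rcases Nat.lt_or_ge i 49700 with h8 | h8
                · skip
                  exact allRangeF_sound _ _ (checkPointF_eq cert) 49675 25 chkP_49675 i (by omega) (by omega)
                · skip
                  rcases Nat.lt_or_ge i 49725 with h9 | h9
                  · skip
                    exact allRangeF_sound _ _ (checkPointF_eq cert) 49700 25 chkP_49700 i (by omega) (by omega)
                  · skip
                    exact allRangeF_sound _ _ (checkPointF_eq cert) 49725 25 chkP_49725 i (by omega) (by omega)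
            · skip
              rcases Nat.lt_or_ge i 49800 with h7 | h7
              · skip
                rcases Nat.lt_or_ge i 49775 with h8 | h8
                · skip
                  exact allRangeF_sound _ _ (checkPointF_eq cert) 49750 25 chkP_49750 i (by omega) (by omega)
                · skip
                  exact allRangeF_sound _ _ (checkPointF_eq cert) 49775 25 chkP_49775 i (by omega) (by omega)
              · skip
                rcases Nat.lt_or_ge i 49825 with h8 | h8
                · skip
                  exact allRangeF_sound _ _ (checkPointF_eq cert) 49800 25 chkP_49800 i (by omega) (by omega)
                · skip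
                  rcases Nat.lt_or_ge i 49850 with h9 | h9
                  · skip
                    exact allRangeF_sound _ _ (checkPointF_eq cert) 49825 25 chkP_49825 i (by omega) (by omega)
                  · skip
                    exact allRangeF_sound _ _ (checkPointF_eq cert) 49850 25 chkP_49850 i (by omega) (by omega)
  · skip
    rcases Nat.lt_or_ge i 51800 with h2 | h2
    · skip
      rcases Nat.lt_or_ge i 50825 with h3 | h3
      · skip
        rcases Nat.lt_or_ge i 50350 with h4 | h4
        · skip
          rcases Nat.lt_or_ge i 50100 with h5 | h5
          · skip
            rcases Nat.lt_or_ge i 49975 with h6 | h6
            · skip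
              rcases Nat.lt_or_ge i 49925 with h7 | h7
              · skip
                rcases Nat.lt_or_ge i 49900 with h8 | h8
                · skip
                  exact allRangeF_sound _ _ (checkPointF_eq cert) 49875 25 chkP_49875 i (by omega) (by omega)
                · skip
                  exact allRangeF_sound _ _ (checkPointF_eq cert) 49900 25 chkP_49900 i (by omega) (by omega)
              · skip
                rcases Nat.lt_or_ge i 49950 with h8 | h8
                · skip
                  exact allRangeF_sound _ _ (checkPointF_eq cert) 49925 25 chkP_49925 i (by omega) (by omega)
                · skip
                  exact allRangeF_sound _ _ (checkPointF_eq cert) 49950 25 chkP_49950 i (by omega) (by omega)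
            · skip
              rcases Nat.lt_or_ge i 50025 with h7 | h7
              · skip
                rcases Nat.lt_or_ge i 50000 with h8 | h8
                · skip
                  exact allRangeF_sound _ _ (checkPointF_eq cert) 49975 25 chkP_49975 i (by omega) (by omega)
                · skip
                  exact allRangeF_sound _ _ (checkPointF_eq cert) 50000 25 chkP_50000 i (by omega) (by omega)
              · skip
                rcases Nat.lt_or_ge i 50050 with h8 | h8
                · skip
                  exact allRangeF_sound _ _ (checkPointF_eq cert) 50025 25 chkP_50025 i (by omega) (by omega)
                · skip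
                  rcases Nat.lt_or_ge i 50075 with h9 | h9
                  · skip
                    exact allRangeF_sound _ _ (checkPointF_eq cert) 50050 25 chkP_50050 i (by omega) (by omega)
                  · skip
                    exact allRangeF_sound _ _ (checkPointF_eq cert) 50075 25 chkP_50075 i (by omega) (by omega)
          · skip
            rcases Nat.lt_or_ge i 50225 with h6 | h6
            · skip
              rcases Nat.lt_or_ge i 50150 with h7 | h7
              · skip
                rcases Nat.lt_or_ge i 50125 with h8 | h8
                · skip
                  exact allRangeF_sound _ _ (checkPointF_eq cert) 50100 25 chkP_50100 i (by omega) (by omega)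
                · skip
                  exact allRangeF_sound _ _ (checkPointF_eq cert) 50125 25 chkP_50125 i (by omega) (by omega)
              · skip
                rcases Nat.lt_or_ge i 50175 with h8 | h8
                · skip
                  exact allRangeF_sound _ _ (checkPointF_eq cert) 50150 25 chkP_50150 i (by omega) (by omega)
                · skip
                  rcases Nat.lt_or_ge i 50200 with h9 | h9
                  · skip
                    exact allRangeF_sound _ _ (checkPointF_eq cert) 50175 25 chkP_50175 i (by omega) (by omega)
                  · skip
                    exact allRangeF_sound _ _ (checkPointF_eq cert) 50200 25 chkP_50200 i (by omega) (by omega)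
            · skip
              rcases Nat.lt_or_ge i 50275 with h7 | h7
              · skip
                rcases Nat.lt_or_ge i 50250 with h8 | h8
                · skip
                  exact allRangeF_sound _ _ (checkPointF_eq cert) 50225 25 chkP_50225 i (by omega) (by omega)
                · skip
                  exact allRangeF_sound _ _ (checkPointF_eq cert) 50250 25 chkP_50250 i (by omega) (by omega)
              · skip
                rcases Nat.lt_or_ge i 50300 with h8 | h8
                · skip
                  exact allRangeF_sound _ _ (checkPointF_eq cert) 50275 25 chkP_50275 i (by omega) (by omega)
                · skip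
                  rcases Nat.lt_or_ge i 50325 with h9 | h9
                  · skip
                    exact allRangeF_sound _ _ (checkPointF_eq cert) 50300 25 chkP_50300 i (by omega) (by omega)
                  · skip
                    exact allRangeF_sound _ _ (checkPointF_eq cert) 50325 25 chkP_50325 i (by omega) (by omega)
        · skip
          rcases Nat.lt_or_ge i 50575 with h5 | h5
          · skip
            rcases Nat.lt_or_ge i 50450 with h6 | h6
            · skip
              rcases Nat.lt_or_ge i 50400 with h7 | h7
              · skip
                rcases Nat.lt_or_ge i 50375 with h8 | h8
                · skip
                  exact allRangeF_sound _ _ (checkPointF_eq cert) 50350 25 chkP_50350 i (by omega) (by omega)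
                · skip
                  exact allRangeF_sound _ _ (checkPointF_eq cert) 50375 25 chkP_50375 i (by omega) (by omega)
              · skip
                rcases Nat.lt_or_ge i 50425 with h8 | h8
                · skip
                  exact allRangeF_sound _ _ (checkPointF_eq cert) 50400 25 chkP_50400 i (by omega) (by omega)
                · skip
                  exact allRangeF_sound _ _ (checkPointF_eq cert) 50425 25 chkP_50425 i (by omega) (by omega)
            · skip
              rcases Nat.lt_or_ge i 50500 with h7 | h7
              · skip
                rcases Nat.lt_or_ge i 50475 with h8 | h8
                · skip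
                  exact allRangeF_sound _ _ (checkPointF_eq cert) 50450 25 chkP_50450 i (by omega) (by omega)
                · skip
                  exact allRangeF_sound _ _ (checkPointF_eq cert) 50475 25 chkP_50475 i (by omega) (by omega)
              · skip
                rcases Nat.lt_or_ge i 50525 with h8 | h8
                · skip
                  exact allRangeF_sound _ _ (checkPointF_eq cert) 50500 25 chkP_50500 i (by omega) (by omega)
                · skip
                  rcases Nat.lt_or_ge i 50550 with h9 | h9
                  · skip
                    exact allRangeF_sound _ _ (checkPointF_eq cert) 50525 25 chkP_50525 i (by omega) (by omega)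
                  · skip
                    exact allRangeF_sound _ _ (checkPointF_eq cert) 50550 25 chkP_50550 i (by omega) (by omega)
          · skip
            rcases Nat.lt_or_ge i 50700 with h6 | h6
            · skip
              rcases Nat.lt_or_ge i 50625 with h7 | h7
              · skip
                rcases Nat.lt_or_ge i 50600 with h8 | h8
                · skip
                  exact allRangeF_sound _ _ (checkPointF_eq cert) 50575 25 chkP_50575 i (by omega) (by omega)
                · skip
                  exact allRangeF_sound _ _ (checkPointF_eq cert) 50600 25 chkP_50600 i (by omega) (by omega)
              · skip
                rcases Nat.lt_or_ge i 50650 with h8 | h8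
                · skip
                  exact allRangeF_sound _ _ (checkPointF_eq cert) 50625 25 chkP_50625 i (by omega) (by omega)
                · skip
                  rcases Nat.lt_or_ge i 50675 with h9 | h9
                  · skip
                    exact allRangeF_sound _ _ (checkPointF_eq cert) 50650 25 chkP_50650 i (by omega) (by omega)
                  · skip
                    exact allRangeF_sound _ _ (checkPointF_eq cert) 50675 25 chkP_50675 i (by omega) (by omega)
            · skip
              rcases Nat.lt_or_ge i 50750 with h7 | h7
              · skip
                rcases Nat.lt_or_ge i 50725 with h8 | h8
                · skip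
                  exact allRangeF_sound _ _ (checkPointF_eq cert) 50700 25 chkP_50700 i (by omega) (by omega)
                · skip
                  exact allRangeF_sound _ _ (checkPointF_eq cert) 50725 25 chkP_50725 i (by omega) (by omega)
              · skip
                rcases Nat.lt_or_ge i 50775 with h8 | h8
                · skip
                  exact allRangeF_sound _ _ (checkPointF_eq cert) 50750 25 chkP_50750 i (by omega) (by omega)
                · skip
                  rcases Nat.lt_or_ge i 50800 with h9 | h9
                  · skip
                    exact allRangeF_sound _ _ (checkPointF_eq cert) 50775 25 chkP_50775 i (by omega) (by omega)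
                  · skip
                    exact allRangeF_sound _ _ (checkPointF_eq cert) 50800 25 chkP_50800 i (by omega) (by omega)
      · skip
        rcases Nat.lt_or_ge i 51300 with h4 | h4
        · skip
          rcases Nat.lt_or_ge i 51050 with h5 | h5
          · skip
            rcases Nat.lt_or_ge i 50925 with h6 | h6
            · skip
              rcases Nat.lt_or_ge i 50875 with h7 | h7
              · skip
                rcases Nat.lt_or_ge i 50850 with h8 | h8
                · skip
                  exact allRangeF_sound _ _ (checkPointF_eq cert) 50825 25 chkP_50825 i (by omega) (by omega)
                · skip
                  exact allRangeF_sound _ _ (checkPointF_eq cert) 50850 25 chkP_50850 i (by omega) (by omega)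
              · skip
                rcases Nat.lt_or_ge i 50900 with h8 | h8
                · skip
                  exact allRangeF_sound _ _ (checkPointF_eq cert) 50875 25 chkP_50875 i (by omega) (by omega)
                · skip
                  exact allRangeF_sound _ _ (checkPointF_eq cert) 50900 25 chkP_50900 i (by omega) (by omega)
            · skip
              rcases Nat.lt_or_ge i 50975 with h7 | h7
              · skip
                rcases Nat.lt_or_ge i 50950 with h8 | h8
                · skip
                  exact allRangeF_sound _ _ (checkPointF_eq cert) 50925 25 chkP_50925 i (by omega) (by omega)
                · skip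
                  exact allRangeF_sound _ _ (checkPointF_eq cert) 50950 25 chkP_50950 i (by omega) (by omega)
              · skip
                rcases Nat.lt_or_ge i 51000 with h8 | h8
                · skip
                  exact allRangeF_sound _ _ (checkPointF_eq cert) 50975 25 chkP_50975 i (by omega) (by omega)
                · skip
                  rcases Nat.lt_or_ge i 51025 with h9 | h9
                  · skip
                    exact allRangeF_sound _ _ (checkPointF_eq cert) 51000 25 chkP_51000 i (by omega) (by omega)
                  · skip
                    exact allRangeF_sound _ _ (checkPointF_eq cert) 51025 25 chkP_51025 i (by omega) (by omega)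
          · skip
            rcases Nat.lt_or_ge i 51175 with h6 | h6
            · skip
              rcases Nat.lt_or_ge i 51100 with h7 | h7
              · skip
                rcases Nat.lt_or_ge i 51075 with h8 | h8
                · skip
                  exact allRangeF_sound _ _ (checkPointF_eq cert) 51050 25 chkP_51050 i (by omega) (by omega)
                · skip
                  exact allRangeF_sound _ _ (checkPointF_eq cert) 51075 25 chkP_51075 i (by omega) (by omega)
              · skip
                rcases Nat.lt_or_ge i 51125 with h8 | h8
                · skip
                  exact allRangeF_sound _ _ (checkPointF_eq cert) 51100 25 chkP_51100 i (by omega) (by omega)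
                · skip
                  rcases Nat.lt_or_ge i 51150 with h9 | h9
                  · skip
                    exact allRangeF_sound _ _ (checkPointF_eq cert) 51125 25 chkP_51125 i (by omega) (by omega)
                  · skip
                    exact allRangeF_sound _ _ (checkPointF_eq cert) 51150 25 chkP_51150 i (by omega) (by omega)
            · skip
              rcases Nat.lt_or_ge i 51225 with h7 | h7
              · skip
                rcases Nat.lt_or_ge i 51200 with h8 | h8
                · skip
                  exact allRangeF_sound _ _ (checkPointF_eq cert) 51175 25 chkP_51175 i (by omega) (by omega)
                · skip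
                  exact allRangeF_sound _ _ (checkPointF_eq cert) 51200 25 chkP_51200 i (by omega) (by omega)
              · skip
                rcases Nat.lt_or_ge i 51250 with h8 | h8
                · skip
                  exact allRangeF_sound _ _ (checkPointF_eq cert) 51225 25 chkP_51225 i (by omega) (by omega)
                · skip
                  rcases Nat.lt_or_ge i 51275 with h9 | h9
                  · skip
                    exact allRangeF_sound _ _ (checkPointF_eq cert) 51250 25 chkP_51250 i (by omega) (by omega)
                  · skip
                    exact allRangeF_sound _ _ (checkPointF_eq cert) 51275 25 chkP_51275 i (by omega) (by omega)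
        · skip
          rcases Nat.lt_or_ge i 51550 with h5 | h5
          · skip
            rcases Nat.lt_or_ge i 51425 with h6 | h6
            · skip
              rcases Nat.lt_or_ge i 51350 with h7 | h7
              · skip
                rcases Nat.lt_or_ge i 51325 with h8 | h8
                · skip
                  exact allRangeF_sound _ _ (checkPointF_eq cert) 51300 25 chkP_51300 i (by omega) (by omega)
                · skip
                  exact allRangeF_sound _ _ (checkPointF_eq cert) 51325 25 chkP_51325 i (by omega) (by omega)
              · skip
                rcases Nat.lt_or_ge i 51375 with h8 | h8
                · skip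
                  exact allRangeF_sound _ _ (checkPointF_eq cert) 51350 25 chkP_51350 i (by omega) (by omega)
                · skip
                  rcases Nat.lt_or_ge i 51400 with h9 | h9
                  · skip
                    exact allRangeF_sound _ _ (checkPointF_eq cert) 51375 25 chkP_51375 i (by omega) (by omega)
                  · skip
                    exact allRangeF_sound _ _ (checkPointF_eq cert) 51400 25 chkP_51400 i (by omega) (by omega)
            · skip
              rcases Nat.lt_or_ge i 51475 with h7 | h7
              · skip
                rcases Nat.lt_or_ge i 51450 with h8 | h8
                · skip
                  exact allRangeF_sound _ _ (checkPointF_eq cert) 51425 25 chkP_51425 i (by omega) (by omega)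
                · skip
                  exact allRangeF_sound _ _ (checkPointF_eq cert) 51450 25 chkP_51450 i (by omega) (by omega)
              · skip
                rcases Nat.lt_or_ge i 51500 with h8 | h8
                · skip
                  exact allRangeF_sound _ _ (checkPointF_eq cert) 51475 25 chkP_51475 i (by omega) (by omega)
                · skip
                  rcases Nat.lt_or_ge i 51525 with h9 | h9
                  · skip
                    exact allRangeF_sound _ _ (checkPointF_eq cert) 51500 25 chkP_51500 i (by omega) (by omega)
                  · skip
                    exact allRangeF_sound _ _ (checkPointF_eq cert) 51525 25 chkP_51525 i (by omega) (by omega)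
          · skip
            rcases Nat.lt_or_ge i 51675 with h6 | h6
            · skip
              rcases Nat.lt_or_ge i 51600 with h7 | h7
              · skip
                rcases Nat.lt_or_ge i 51575 with h8 | h8
                · skip
                  exact allRangeF_sound _ _ (checkPointF_eq cert) 51550 25 chkP_51550 i (by omega) (by omega)
                · skip
                  exact allRangeF_sound _ _ (checkPointF_eq cert) 51575 25 chkP_51575 i (by omega) (by omega)
              · skip
                rcases Nat.lt_or_ge i 51625 with h8 | h8
                · skip
                  exact allRangeF_sound _ _ (checkPointF_eq cert) 51600 25 chkP_51600 i (by omega) (by omega)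
                · skip
                  rcases Nat.lt_or_ge i 51650 with h9 | h9
                  · skip
                    exact allRangeF_sound _ _ (checkPointF_eq cert) 51625 25 chkP_51625 i (by omega) (by omega)
                  · skip
                    exact allRangeF_sound _ _ (checkPointF_eq cert) 51650 25 chkP_51650 i (by omega) (by omega)
            · skip
              rcases Nat.lt_or_ge i 51725 with h7 | h7
              · skip
                rcases Nat.lt_or_ge i 51700 with h8 | h8
                · skip
                  exact allRangeF_sound _ _ (checkPointF_eq cert) 51675 25 chkP_51675 i (by omega) (by omega)
                · skip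
                  exact allRangeF_sound _ _ (checkPointF_eq cert) 51700 25 chkP_51700 i (by omega) (by omega)
              · skip
                rcases Nat.lt_or_ge i 51750 with h8 | h8
                · skip
                  exact allRangeF_sound _ _ (checkPointF_eq cert) 51725 25 chkP_51725 i (by omega) (by omega)
                · skip
                  rcases Nat.lt_or_ge i 51775 with h9 | h9
                  · skip
                    exact allRangeF_sound _ _ (checkPointF_eq cert) 51750 25 chkP_51750 i (by omega) (by omega)
                  · skip
                    exact allRangeF_sound _ _ (checkPointF_eq cert) 51775 25 chkP_51775 i (by omega) (by omega)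
    · skip
      rcases Nat.lt_or_ge i 52750 with h3 | h3
      · skip
        rcases Nat.lt_or_ge i 52275 with h4 | h4
        · skip
          rcases Nat.lt_or_ge i 52025 with h5 | h5
          · skip
            rcases Nat.lt_or_ge i 51900 with h6 | h6
            · skip
              rcases Nat.lt_or_ge i 51850 with h7 | h7
              · skip
                rcases Nat.lt_or_ge i 51825 with h8 | h8
                · skip
                  exact allRangeF_sound _ _ (checkPointF_eq cert) 51800 25 chkP_51800 i (by omega) (by omega)
                · skip
                  exact allRangeF_sound _ _ (checkPointF_eq cert) 51825 25 chkP_51825 i (by omega) (by omega)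
              · skip
                rcases Nat.lt_or_ge i 51875 with h8 | h8
                · skip
                  exact allRangeF_sound _ _ (checkPointF_eq cert) 51850 25 chkP_51850 i (by omega) (by omega)
                · skip
                  exact allRangeF_sound _ _ (checkPointF_eq cert) 51875 25 chkP_51875 i (by omega) (by omega)
            · skip
              rcases Nat.lt_or_ge i 51950 with h7 | h7
              · skip
                rcases Nat.lt_or_ge i 51925 with h8 | h8
                · skip
                  exact allRangeF_sound _ _ (checkPointF_eq cert) 51900 25 chkP_51900 i (by omega) (by omega)
                · skip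
                  exact allRangeF_sound _ _ (checkPointF_eq cert) 51925 25 chkP_51925 i (by omega) (by omega)
              · skip
                rcases Nat.lt_or_ge i 51975 with h8 | h8
                · skip
                  exact allRangeF_sound _ _ (checkPointF_eq cert) 51950 25 chkP_51950 i (by omega) (by omega)
                · skip
                  rcases Nat.lt_or_ge i 52000 with h9 | h9
                  · skip
                    exact allRangeF_sound _ _ (checkPointF_eq cert) 51975 25 chkP_51975 i (by omega) (by omega)
                  · skip
                    exact allRangeF_sound _ _ (checkPointF_eq cert) 52000 25 chkP_52000 i (by omega) (by omega)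
          · skip
            rcases Nat.lt_or_ge i 52150 with h6 | h6
            · skip
              rcases Nat.lt_or_ge i 52075 with h7 | h7
              · skip
                rcases Nat.lt_or_ge i 52050 with h8 | h8
                · skip
                  exact allRangeF_sound _ _ (checkPointF_eq cert) 52025 25 chkP_52025 i (by omega) (by omega)
                · skip
                  exact allRangeF_sound _ _ (checkPointF_eq cert) 52050 25 chkP_52050 i (by omega) (by omega)
              · skip
                rcases Nat.lt_or_ge i 52100 with h8 | h8
                · skip
                  exact allRangeF_sound _ _ (checkPointF_eq cert) 52075 25 chkP_52075 i (by omega) (by omega)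
                · skip
                  rcases Nat.lt_or_ge i 52125 with h9 | h9
                  · skip
                    exact allRangeF_sound _ _ (checkPointF_eq cert) 52100 25 chkP_52100 i (by omega) (by omega)
                  · skip
                    exact allRangeF_sound _ _ (checkPointF_eq cert) 52125 25 chkP_52125 i (by omega) (by omega)
            · skip
              rcases Nat.lt_or_ge i 52200 with h7 | h7
              · skip
                rcases Nat.lt_or_ge i 52175 with h8 | h8
                · skip
                  exact allRangeF_sound _ _ (checkPointF_eq cert) 52150 25 chkP_52150 i (by omega) (by omega)
                · skip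
                  exact allRangeF_sound _ _ (checkPointF_eq cert) 52175 25 chkP_52175 i (by omega) (by omega)
              · skip
                rcases Nat.lt_or_ge i 52225 with h8 | h8
                · skip
                  exact allRangeF_sound _ _ (checkPointF_eq cert) 52200 25 chkP_52200 i (by omega) (by omega)
                · skip
                  rcases Nat.lt_or_ge i 52250 with h9 | h9
                  · skip
                    exact allRangeF_sound _ _ (checkPointF_eq cert) 52225 25 chkP_52225 i (by omega) (by omega)
                  · skip
                    exact allRangeF_sound _ _ (checkPointF_eq cert) 52250 25 chkP_52250 i (by omega) (by omega)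
        · skip
          rcases Nat.lt_or_ge i 52500 with h5 | h5
          · skip
            rcases Nat.lt_or_ge i 52375 with h6 | h6
            · skip
              rcases Nat.lt_or_ge i 52325 with h7 | h7
              · skip
                rcases Nat.lt_or_ge i 52300 with h8 | h8
                · skip
                  exact allRangeF_sound _ _ (checkPointF_eq cert) 52275 25 chkP_52275 i (by omega) (by omega)
                · skip
                  exact allRangeF_sound _ _ (checkPointF_eq cert) 52300 25 chkP_52300 i (by omega) (by omega)
              · skip
                rcases Nat.lt_or_ge i 52350 with h8 | h8
                · skip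
                  exact allRangeF_sound _ _ (checkPointF_eq cert) 52325 25 chkP_52325 i (by omega) (by omega)
                · skip
                  exact allRangeF_sound _ _ (checkPointF_eq cert) 52350 25 chkP_52350 i (by omega) (by omega)
            · skip
              rcases Nat.lt_or_ge i 52425 with h7 | h7
              · skip
                rcases Nat.lt_or_ge i 52400 with h8 | h8
                · skip
                  exact allRangeF_sound _ _ (checkPointF_eq cert) 52375 25 chkP_52375 i (by omega) (by omega)
                · skip
                  exact allRangeF_sound _ _ (checkPointF_eq cert) 52400 25 chkP_52400 i (by omega) (by omega)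
              · skip
                rcases Nat.lt_or_ge i 52450 with h8 | h8
                · skip
                  exact allRangeF_sound _ _ (checkPointF_eq cert) 52425 25 chkP_52425 i (by omega) (by omega)
                · skip
                  rcases Nat.lt_or_ge i 52475 with h9 | h9
                  · skip
                    exact allRangeF_sound _ _ (checkPointF_eq cert) 52450 25 chkP_52450 i (by omega) (by omega)
                  · skip
                    exact allRangeF_sound _ _ (checkPointF_eq cert) 52475 25 chkP_52475 i (by omega) (by omega)
          · skip
            rcases Nat.lt_or_ge i 52625 with h6 | h6
            · skip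
              rcases Nat.lt_or_ge i 52550 with h7 | h7
              · skip
                rcases Nat.lt_or_ge i 52525 with h8 | h8
                · skip
                  exact allRangeF_sound _ _ (checkPointF_eq cert) 52500 25 chkP_52500 i (by omega) (by omega)
                · skip
                  exact allRangeF_sound _ _ (checkPointF_eq cert) 52525 25 chkP_52525 i (by omega) (by omega)
              · skip
                rcases Nat.lt_or_ge i 52575 with h8 | h8
                · skip
                  exact allRangeF_sound _ _ (checkPointF_eq cert) 52550 25 chkP_52550 i (by omega) (by omega)
                · skip
                  rcases Nat.lt_or_ge i 52600 with h9 | h9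
                  · skip
                    exact allRangeF_sound _ _ (checkPointF_eq cert) 52575 25 chkP_52575 i (by omega) (by omega)
                  · skip
                    exact allRangeF_sound _ _ (checkPointF_eq cert) 52600 25 chkP_52600 i (by omega) (by omega)
            · skip
              rcases Nat.lt_or_ge i 52675 with h7 | h7
              · skip
                rcases Nat.lt_or_ge i 52650 with h8 | h8
                · skip
                  exact allRangeF_sound _ _ (checkPointF_eq cert) 52625 25 chkP_52625 i (by omega) (by omega)
                · skip
                  exact allRangeF_sound _ _ (checkPointF_eq cert) 52650 25 chkP_52650 i (by omega) (by omega)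
              · skip
                rcases Nat.lt_or_ge i 52700 with h8 | h8
                · skip
                  exact allRangeF_sound _ _ (checkPointF_eq cert) 52675 25 chkP_52675 i (by omega) (by omega)
                · skip
                  rcases Nat.lt_or_ge i 52725 with h9 | h9
                  · skip
                    exact allRangeF_sound _ _ (checkPointF_eq cert) 52700 25 chkP_52700 i (by omega) (by omega)
                  · skip
                    exact allRangeF_sound _ _ (checkPointF_eq cert) 52725 25 chkP_52725 i (by omega) (by omega)
      · skip
        rcases Nat.lt_or_ge i 53225 with h4 | h4
        · skip
          rcases Nat.lt_or_ge i 52975 with h5 | h5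
          · skip
            rcases Nat.lt_or_ge i 52850 with h6 | h6
            · skip
              rcases Nat.lt_or_ge i 52800 with h7 | h7
              · skip
                rcases Nat.lt_or_ge i 52775 with h8 | h8
                · skip
                  exact allRangeF_sound _ _ (checkPointF_eq cert) 52750 25 chkP_52750 i (by omega) (by omega)
                · skip
                  exact allRangeF_sound _ _ (checkPointF_eq cert) 52775 25 chkP_52775 i (by omega) (by omega)
              · skip
                rcases Nat.lt_or_ge i 52825 with h8 | h8
                · skip
                  exact allRangeF_sound _ _ (checkPointF_eq cert) 52800 25 chkP_52800 i (by omega) (by omega)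
                · skip
                  exact allRangeF_sound _ _ (checkPointF_eq cert) 52825 25 chkP_52825 i (by omega) (by omega)
            · skip
              rcases Nat.lt_or_ge i 52900 with h7 | h7
              · skip
                rcases Nat.lt_or_ge i 52875 with h8 | h8
                · skip
                  exact allRangeF_sound _ _ (checkPointF_eq cert) 52850 25 chkP_52850 i (by omega) (by omega)
                · skip
                  exact allRangeF_sound _ _ (checkPointF_eq cert) 52875 25 chkP_52875 i (by omega) (by omega)
              · skip
                rcases Nat.lt_or_ge i 52925 with h8 | h8
                · skip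
                  exact allRangeF_sound _ _ (checkPointF_eq cert) 52900 25 chkP_52900 i (by omega) (by omega)
                · skip
                  rcases Nat.lt_or_ge i 52950 with h9 | h9
                  · skip
                    exact allRangeF_sound _ _ (checkPointF_eq cert) 52925 25 chkP_52925 i (by omega) (by omega)
                  · skip
                    exact allRangeF_sound _ _ (checkPointF_eq cert) 52950 25 chkP_52950 i (by omega) (by omega)
          · skip
            rcases Nat.lt_or_ge i 53100 with h6 | h6
            · skip
              rcases Nat.lt_or_ge i 53025 with h7 | h7
              · skip
                rcases Nat.lt_or_ge i 53000 with h8 | h8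
                · skip
                  exact allRangeF_sound _ _ (checkPointF_eq cert) 52975 25 chkP_52975 i (by omega) (by omega)
                · skip
                  exact allRangeF_sound _ _ (checkPointF_eq cert) 53000 25 chkP_53000 i (by omega) (by omega)
              · skip
                rcases Nat.lt_or_ge i 53050 with h8 | h8
                · skip
                  exact allRangeF_sound _ _ (checkPointF_eq cert) 53025 25 chkP_53025 i (by omega) (by omega)
                · skip
                  rcases Nat.lt_or_ge i 53075 with h9 | h9
                  · skip
                    exact allRangeF_sound _ _ (checkPointF_eq cert) 53050 25 chkP_53050 i (by omega) (by omega)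
                  · skip
                    exact allRangeF_sound _ _ (checkPointF_eq cert) 53075 25 chkP_53075 i (by omega) (by omega)
            · skip
              rcases Nat.lt_or_ge i 53150 with h7 | h7
              · skip
                rcases Nat.lt_or_ge i 53125 with h8 | h8
                · skip
                  exact allRangeF_sound _ _ (checkPointF_eq cert) 53100 25 chkP_53100 i (by omega) (by omega)
                · skip
                  exact allRangeF_sound _ _ (checkPointF_eq cert) 53125 25 chkP_53125 i (by omega) (by omega)
              · skip
                rcases Nat.lt_or_ge i 53175 with h8 | h8
                · skip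
                  exact allRangeF_sound _ _ (checkPointF_eq cert) 53150 25 chkP_53150 i (by omega) (by omega)
                · skip
                  rcases Nat.lt_or_ge i 53200 with h9 | h9
                  · skip
                    exact allRangeF_sound _ _ (checkPointF_eq cert) 53175 25 chkP_53175 i (by omega) (by omega)
                  · skip
                    exact allRangeF_sound _ _ (checkPointF_eq cert) 53200 25 chkP_53200 i (by omega) (by omega)
        · skip
          rcases Nat.lt_or_ge i 53475 with h5 | h5
          · skip
            rcases Nat.lt_or_ge i 53350 with h6 | h6
            · skip
              rcases Nat.lt_or_ge i 53275 with h7 | h7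
              · skip
                rcases Nat.lt_or_ge i 53250 with h8 | h8
                · skip
                  exact allRangeF_sound _ _ (checkPointF_eq cert) 53225 25 chkP_53225 i (by omega) (by omega)
                · skip
                  exact allRangeF_sound _ _ (checkPointF_eq cert) 53250 25 chkP_53250 i (by omega) (by omega)
              · skip
                rcases Nat.lt_or_ge i 53300 with h8 | h8
                · skip
                  exact allRangeF_sound _ _ (checkPointF_eq cert) 53275 25 chkP_53275 i (by omega) (by omega)
                · skip
                  rcases Nat.lt_or_ge i 53325 with h9 | h9
                  · skip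
                    exact allRangeF_sound _ _ (checkPointF_eq cert) 53300 25 chkP_53300 i (by omega) (by omega)
                  · skip
                    exact allRangeF_sound _ _ (checkPointF_eq cert) 53325 25 chkP_53325 i (by omega) (by omega)
            · skip
              rcases Nat.lt_or_ge i 53400 with h7 | h7
              · skip
                rcases Nat.lt_or_ge i 53375 with h8 | h8
                · skip
                  exact allRangeF_sound _ _ (checkPointF_eq cert) 53350 25 chkP_53350 i (by omega) (by omega)
                · skip
                  exact allRangeF_sound _ _ (checkPointF_eq cert) 53375 25 chkP_53375 i (by omega) (by omega)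
              · skip
                rcases Nat.lt_or_ge i 53425 with h8 | h8
                · skip
                  exact allRangeF_sound _ _ (checkPointF_eq cert) 53400 25 chkP_53400 i (by omega) (by omega)
                · skip
                  rcases Nat.lt_or_ge i 53450 with h9 | h9
                  · skip
                    exact allRangeF_sound _ _ (checkPointF_eq cert) 53425 25 chkP_53425 i (by omega) (by omega)
                  · skip
                    exact allRangeF_sound _ _ (checkPointF_eq cert) 53450 25 chkP_53450 i (by omega) (by omega)
          · skip
            rcases Nat.lt_or_ge i 53600 with h6 | h6
            · skip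
              rcases Nat.lt_or_ge i 53525 with h7 | h7
              · skip
                rcases Nat.lt_or_ge i 53500 with h8 | h8
                · skip
                  exact allRangeF_sound _ _ (checkPointF_eq cert) 53475 25 chkP_53475 i (by omega) (by omega)
                · skip
                  exact allRangeF_sound _ _ (checkPointF_eq cert) 53500 25 chkP_53500 i (by omega) (by omega)
              · skip
                rcases Nat.lt_or_ge i 53550 with h8 | h8
                · skip
                  exact allRangeF_sound _ _ (checkPointF_eq cert) 53525 25 chkP_53525 i (by omega) (by omega)
                · skip
                  rcases Nat.lt_or_ge i 53575 with h9 | h9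
                  · skip
                    exact allRangeF_sound _ _ (checkPointF_eq cert) 53550 25 chkP_53550 i (by omega) (by omega)
                  · skip
                    exact allRangeF_sound _ _ (checkPointF_eq cert) 53575 25 chkP_53575 i (by omega) (by omega)
            · skip
              rcases Nat.lt_or_ge i 53650 with h7 | h7
              · skip
                rcases Nat.lt_or_ge i 53625 with h8 | h8
                · skip
                  exact allRangeF_sound _ _ (checkPointF_eq cert) 53600 25 chkP_53600 i (by omega) (by omega)
                · skip
                  exact allRangeF_sound _ _ (checkPointF_eq cert) 53625 25 chkP_53625 i (by omega) (by omega)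
              · skip
                rcases Nat.lt_or_ge i 53675 with h8 | h8
                · skip
                  exact allRangeF_sound _ _ (checkPointF_eq cert) 53650 25 chkP_53650 i (by omega) (by omega)
                · skip
                  rcases Nat.lt_or_ge i 53700 with h9 | h9
                  · skip
                    exact allRangeF_sound _ _ (checkPointF_eq cert) 53675 25 chkP_53675 i (by omega) (by omega)
                  · skip
                    exact allRangeF_sound _ _ (checkPointF_eq cert) 53700 25 chkP_53700 i (by omega) (by omega)

end Cfsg.Agent.Lib.Helper28.Fi24Data
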