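import Cfsg.Agent.Lib.Helper28.Fi24Data
import Cfsg.Agent.Lib.Helper28.TCFastB

set_option autoImplicit false
set_option maxRecDepth 1000000
set_option linter.all false
set_option Elab.async false

namespace Cfsg.Agent.Lib.Helper28.Fi24Data

open Cfsg.Agent.Lib.Helper28B

theorem chkP_53725 : allRangeF (checkPointF cert) (nat_lit 53725) (nat_lit 25) = true := by decide +kernel
theorem chkP_53750 : allRangeF (checkPointF cert) (nat_lit 53750) (nat_lit 25) = true := by decide +kernel
theorem chkP_53775 : allRangeF (checkPointF cert) (nat_lit 53775) (nat_lit 25) = true := by decide +kernel
theorem chkP_53800 : allRangeF (checkPointF cert) (nat_lit 53800) (nat_lit 25) = true := by decide +kernel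
theorem chkP_53825 : allRangeF (checkPointF cert) (nat_lit 53825) (nat_lit 25) = true := by decide +kernel
theorem chkP_53850 : allRangeF (checkPointF cert) (nat_lit 53850) (nat_lit 25) = true := by decide +kernel
theorem chkP_53875 : allRangeF (checkPointF cert) (nat_lit 53875) (nat_lit 25) = true := by decide +kernel
theorem chkP_53900 : allRangeF (checkPointF cert) (nat_lit 53900) (nat_lit 25) = true := by decide +kernel
theorem chkP_53925 : allRangeF (checkPointF cert) (nat_lit 53925) (nat_lit 25) = true := by decide +kernel
theorem chkP_53950 : allRangeF (checkPointF cert) (nat_lit 53950) (nat_lit 25) = true := by decide +kernel
theorem chkP_53975 : allRangeF (checkPointF cert) (nat_lit 53975) (nat_lit 25) = true := by decide +kernel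
theorem chkP_54000 : allRangeF (checkPointF cert) (nat_lit 54000) (nat_lit 25) = true := by decide +kernel
theorem chkP_54025 : allRangeF (checkPointF cert) (nat_lit 54025) (nat_lit 25) = true := by decide +kernel
theorem chkP_54050 : allRangeF (checkPointF cert) (nat_lit 54050) (nat_lit 25) = true := by decide +kernel
theorem chkP_54075 : allRangeF (checkPointF cert) (nat_lit 54075) (nat_lit 25) = true := by decide +kernel
theorem chkP_54100 : allRangeF (checkPointF cert) (nat_lit 54100) (nat_lit 25) = true := by decide +kernel
theorem chkP_54125 : allRangeF (checkPointF cert) (nat_lit 54125) (nat_lit 25) = true := by decide +kernel
theorem chkP_54150 : allRangeF (checkPointF cert) (nat_lit 54150) (nat_lit 25) = true := by decide +kernel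
theorem chkP_54175 : allRangeF (checkPointF cert) (nat_lit 54175) (nat_lit 25) = true := by decide +kernel
theorem chkP_54200 : allRangeF (checkPointF cert) (nat_lit 54200) (nat_lit 25) = true := by decide +kernel
theorem chkP_54225 : allRangeF (checkPointF cert) (nat_lit 54225) (nat_lit 25) = true := by decide +kernel
theorem chkP_54250 : allRangeF (checkPointF cert) (nat_lit 54250) (nat_lit 25) = true := by decide +kernel
theorem chkP_54275 : allRangeF (checkPointF cert) (nat_lit 54275) (nat_lit 25) = true := by decide +kernel
theorem chkP_54300 : allRangeF (checkPointF cert) (nat_lit 54300) (nat_lit 25) = true := by decide +kernel
theorem chkP_54325 : allRangeF (checkPointF cert) (nat_lit 54325) (nat_lit 25) = true := by decide +kernel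
theorem chkP_54350 : allRangeF (checkPointF cert) (nat_lit 54350) (nat_lit 25) = true := by decide +kernel
theorem chkP_54375 : allRangeF (checkPointF cert) (nat_lit 54375) (nat_lit 25) = true := by decide +kernel
theorem chkP_54400 : allRangeF (checkPointF cert) (nat_lit 54400) (nat_lit 25) = true := by decide +kernel
theorem chkP_54425 : allRangeF (checkPointF cert) (nat_lit 54425) (nat_lit 25) = true := by decide +kernel
theorem chkP_54450 : allRangeF (checkPointF cert) (nat_lit 54450) (nat_lit 25) = true := by decide +kernel
theorem chkP_54475 : allRangeF (checkPointF cert) (nat_lit 54475) (nat_lit 25) = true := by decide +kernel
theorem chkP_54500 : allRangeF (checkPointF cert) (nat_lit 54500) (nat_lit 25) = true := by decide +kernel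
theorem chkP_54525 : allRangeF (checkPointF cert) (nat_lit 54525) (nat_lit 25) = true := by decide +kernel
theorem chkP_54550 : allRangeF (checkPointF cert) (nat_lit 54550) (nat_lit 25) = true := by decide +kernel
theorem chkP_54575 : allRangeF (checkPointF cert) (nat_lit 54575) (nat_lit 25) = true := by decide +kernel
theorem chkP_54600 : allRangeF (checkPointF cert) (nat_lit 54600) (nat_lit 25) = true := by decide +kernel
theorem chkP_54625 : allRangeF (checkPointF cert) (nat_lit 54625) (nat_lit 25) = true := by decide +kernel
theorem chkP_54650 : allRangeF (checkPointF cert) (nat_lit 54650) (nat_lit 25) = true := by decide +kernel
theorem chkP_54675 : allRangeF (checkPointF cert) (nat_lit 54675) (nat_lit 25) = true := by decide +kernel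
theorem chkP_54700 : allRangeF (checkPointF cert) (nat_lit 54700) (nat_lit 25) = true := by decide +kernel
theorem chkP_54725 : allRangeF (checkPointF cert) (nat_lit 54725) (nat_lit 25) = true := by decide +kernel
theorem chkP_54750 : allRangeF (checkPointF cert) (nat_lit 54750) (nat_lit 25) = true := by decide +kernel
theorem chkP_54775 : allRangeF (checkPointF cert) (nat_lit 54775) (nat_lit 25) = true := by decide +kernel
theorem chkP_54800 : allRangeF (checkPointF cert) (nat_lit 54800) (nat_lit 25) = true := by decide +kernel
theorem chkP_54825 : allRangeF (checkPointF cert) (nat_lit 54825) (nat_lit 25) = true := by decide +kernel
theorem chkP_54850 : allRangeF (checkPointF cert) (nat_lit 54850) (nat_lit 25) = true := by decide +kernel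
theorem chkP_54875 : allRangeF (checkPointF cert) (nat_lit 54875) (nat_lit 25) = true := by decide +kernel
theorem chkP_54900 : allRangeF (checkPointF cert) (nat_lit 54900) (nat_lit 25) = true := by decide +kernel
theorem chkP_54925 : allRangeF (checkPointF cert) (nat_lit 54925) (nat_lit 25) = true := by decide +kernel
theorem chkP_54950 : allRangeF (checkPointF cert) (nat_lit 54950) (nat_lit 25) = true := by decide +kernel
theorem chkP_54975 : allRangeF (checkPointF cert) (nat_lit 54975) (nat_lit 25) = true := by decide +kernel
theorem chkP_55000 : allRangeF (checkPointF cert) (nat_lit 55000) (nat_lit 25) = true := by decide +kernel
theorem chkP_55025 : allRangeF (checkPointF cert) (nat_lit 55025) (nat_lit 25) = true := by decide +kernel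
theorem chkP_55050 : allRangeF (checkPointF cert) (nat_lit 55050) (nat_lit 25) = true := by decide +kernel
theorem chkP_55075 : allRangeF (checkPointF cert) (nat_lit 55075) (nat_lit 25) = true := by decide +kernel
theorem chkP_55100 : allRangeF (checkPointF cert) (nat_lit 55100) (nat_lit 25) = true := by decide +kernel
theorem chkP_55125 : allRangeF (checkPointF cert) (nat_lit 55125) (nat_lit 25) = true := by decide +kernel
theorem chkP_55150 : allRangeF (checkPointF cert) (nat_lit 55150) (nat_lit 25) = true := by decide +kernel
theorem chkP_55175 : allRangeF (checkPointF cert) (nat_lit 55175) (nat_lit 25) = true := by decide +kernel
theorem chkP_55200 : allRangeF (checkPointF cert) (nat_lit 55200) (nat_lit 25) = true := by decide +kernel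
theorem chkP_55225 : allRangeF (checkPointF cert) (nat_lit 55225) (nat_lit 25) = true := by decide +kernel
theorem chkP_55250 : allRangeF (checkPointF cert) (nat_lit 55250) (nat_lit 25) = true := by decide +kernel
theorem chkP_55275 : allRangeF (checkPointF cert) (nat_lit 55275) (nat_lit 25) = true := by decide +kernel
theorem chkP_55300 : allRangeF (checkPointF cert) (nat_lit 55300) (nat_lit 25) = true := by decide +kernel
theorem chkP_55325 : allRangeF (checkPointF cert) (nat_lit 55325) (nat_lit 25) = true := by decide +kernel
theorem chkP_55350 : allRangeF (checkPointF cert) (nat_lit 55350) (nat_lit 25) = true := by decide +kernel
theorem chkP_55375 : allRangeF (checkPointF cert) (nat_lit 55375) (nat_lit 25) = true := by decide +kernel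
theorem chkP_55400 : allRangeF (checkPointF cert) (nat_lit 55400) (nat_lit 25) = true := by decide +kernel
theorem chkP_55425 : allRangeF (checkPointF cert) (nat_lit 55425) (nat_lit 25) = true := by decide +kernel
theorem chkP_55450 : allRangeF (checkPointF cert) (nat_lit 55450) (nat_lit 25) = true := by decide +kernel
theorem chkP_55475 : allRangeF (checkPointF cert) (nat_lit 55475) (nat_lit 25) = true := by decide +kernel
theorem chkP_55500 : allRangeF (checkPointF cert) (nat_lit 55500) (nat_lit 25) = true := by decide +kernel
theorem chkP_55525 : allRangeF (checkPointF cert) (nat_lit 55525) (nat_lit 25) = true := by decide +kernel
theorem chkP_55550 : allRangeF (checkPointF cert) (nat_lit 55550) (nat_lit 25) = true := by decide +kernel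
theorem chkP_55575 : allRangeF (checkPointF cert) (nat_lit 55575) (nat_lit 25) = true := by decide +kernel
theorem chkP_55600 : allRangeF (checkPointF cert) (nat_lit 55600) (nat_lit 25) = true := by decide +kernel
theorem chkP_55625 : allRangeF (checkPointF cert) (nat_lit 55625) (nat_lit 25) = true := by decide +kernel
theorem chkP_55650 : allRangeF (checkPointF cert) (nat_lit 55650) (nat_lit 25) = true := by decide +kernel
theorem chkP_55675 : allRangeF (checkPointF cert) (nat_lit 55675) (nat_lit 25) = true := by decide +kernel
theorem chkP_55700 : allRangeF (checkPointF cert) (nat_lit 55700) (nat_lit 25) = true := by decide +kernel
theorem chkP_55725 : allRangeF (checkPointF cert) (nat_lit 55725) (nat_lit 25) = true := by decide +kernel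
theorem chkP_55750 : allRangeF (checkPointF cert) (nat_lit 55750) (nat_lit 25) = true := by decide +kernel
theorem chkP_55775 : allRangeF (checkPointF cert) (nat_lit 55775) (nat_lit 25) = true := by decide +kernel
theorem chkP_55800 : allRangeF (checkPointF cert) (nat_lit 55800) (nat_lit 25) = true := by decide +kernel
theorem chkP_55825 : allRangeF (checkPointF cert) (nat_lit 55825) (nat_lit 25) = true := by decide +kernel
theorem chkP_55850 : allRangeF (checkPointF cert) (nat_lit 55850) (nat_lit 25) = true := by decide +kernel
theorem chkP_55875 : allRangeF (checkPointF cert) (nat_lit 55875) (nat_lit 25) = true := by decide +kernel
theorem chkP_55900 : allRangeF (checkPointF cert) (nat_lit 55900) (nat_lit 25) = true := by decide +kernel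
theorem chkP_55925 : allRangeF (checkPointF cert) (nat_lit 55925) (nat_lit 25) = true := by decide +kernel
theorem chkP_55950 : allRangeF (checkPointF cert) (nat_lit 55950) (nat_lit 25) = true := by decide +kernel
theorem chkP_55975 : allRangeF (checkPointF cert) (nat_lit 55975) (nat_lit 25) = true := by decide +kernel
theorem chkP_56000 : allRangeF (checkPointF cert) (nat_lit 56000) (nat_lit 25) = true := by decide +kernel
theorem chkP_56025 : allRangeF (checkPointF cert) (nat_lit 56025) (nat_lit 25) = true := by decide +kernel
theorem chkP_56050 : allRangeF (checkPointF cert) (nat_lit 56050) (nat_lit 25) = true := by decide +kernel
theorem chkP_56075 : allRangeF (checkPointF cert) (nat_lit 56075) (nat_lit 25) = true := by decide +kernel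
theorem chkP_56100 : allRangeF (checkPointF cert) (nat_lit 56100) (nat_lit 25) = true := by decide +kernel
theorem chkP_56125 : allRangeF (checkPointF cert) (nat_lit 56125) (nat_lit 25) = true := by decide +kernel
theorem chkP_56150 : allRangeF (checkPointF cert) (nat_lit 56150) (nat_lit 25) = true := by decide +kernel
theorem chkP_56175 : allRangeF (checkPointF cert) (nat_lit 56175) (nat_lit 25) = true := by decide +kernel
theorem chkP_56200 : allRangeF (checkPointF cert) (nat_lit 56200) (nat_lit 25) = true := by decide +kernel
theorem chkP_56225 : allRangeF (checkPointF cert) (nat_lit 56225) (nat_lit 25) = true := by decide +kernel
theorem chkP_56250 : allRangeF (checkPointF cert) (nat_lit 56250) (nat_lit 25) = true := by decide +kernel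
theorem chkP_56275 : allRangeF (checkPointF cert) (nat_lit 56275) (nat_lit 25) = true := by decide +kernel
theorem chkP_56300 : allRangeF (checkPointF cert) (nat_lit 56300) (nat_lit 25) = true := by decide +kernel
theorem chkP_56325 : allRangeF (checkPointF cert) (nat_lit 56325) (nat_lit 25) = true := by decide +kernel
theorem chkP_56350 : allRangeF (checkPointF cert) (nat_lit 56350) (nat_lit 25) = true := by decide +kernel
theorem chkP_56375 : allRangeF (checkPointF cert) (nat_lit 56375) (nat_lit 25) = true := by decide +kernel
theorem chkP_56400 : allRangeF (checkPointF cert) (nat_lit 56400) (nat_lit 25) = true := by decide +kernel
theorem chkP_56425 : allRangeF (checkPointF cert) (nat_lit 56425) (nat_lit 25) = true := by decide +kernel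
theorem chkP_56450 : allRangeF (checkPointF cert) (nat_lit 56450) (nat_lit 25) = true := by decide +kernel
theorem chkP_56475 : allRangeF (checkPointF cert) (nat_lit 56475) (nat_lit 25) = true := by decide +kernel
theorem chkP_56500 : allRangeF (checkPointF cert) (nat_lit 56500) (nat_lit 25) = true := by decide +kernel
theorem chkP_56525 : allRangeF (checkPointF cert) (nat_lit 56525) (nat_lit 25) = true := by decide +kernel
theorem chkP_56550 : allRangeF (checkPointF cert) (nat_lit 56550) (nat_lit 25) = true := by decide +kernel
theorem chkP_56575 : allRangeF (checkPointF cert) (nat_lit 56575) (nat_lit 25) = true := by decide +kernel
theorem chkP_56600 : allRangeF (checkPointF cert) (nat_lit 56600) (nat_lit 25) = true := by decide +kernel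
theorem chkP_56625 : allRangeF (checkPointF cert) (nat_lit 56625) (nat_lit 25) = true := by decide +kernel
theorem chkP_56650 : allRangeF (checkPointF cert) (nat_lit 56650) (nat_lit 25) = true := by decide +kernel
theorem chkP_56675 : allRangeF (checkPointF cert) (nat_lit 56675) (nat_lit 25) = true := by decide +kernel
theorem chkP_56700 : allRangeF (checkPointF cert) (nat_lit 56700) (nat_lit 25) = true := by decide +kernel
theorem chkP_56725 : allRangeF (checkPointF cert) (nat_lit 56725) (nat_lit 25) = true := by decide +kernel
theorem chkP_56750 : allRangeF (checkPointF cert) (nat_lit 56750) (nat_lit 25) = true := by decide +kernel
theorem chkP_56775 : allRangeF (checkPointF cert) (nat_lit 56775) (nat_lit 25) = true := by decide +kernel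
theorem chkP_56800 : allRangeF (checkPointF cert) (nat_lit 56800) (nat_lit 25) = true := by decide +kernel
theorem chkP_56825 : allRangeF (checkPointF cert) (nat_lit 56825) (nat_lit 25) = true := by decide +kernel
theorem chkP_56850 : allRangeF (checkPointF cert) (nat_lit 56850) (nat_lit 25) = true := by decide +kernel
theorem chkP_56875 : allRangeF (checkPointF cert) (nat_lit 56875) (nat_lit 25) = true := by decide +kernel
theorem chkP_56900 : allRangeF (checkPointF cert) (nat_lit 56900) (nat_lit 25) = true := by decide +kernel
theorem chkP_56925 : allRangeF (checkPointF cert) (nat_lit 56925) (nat_lit 25) = true := by decide +kernel
theorem chkP_56950 : allRangeF (checkPointF cert) (nat_lit 56950) (nat_lit 25) = true := by decide +kernel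
theorem chkP_56975 : allRangeF (checkPointF cert) (nat_lit 56975) (nat_lit 25) = true := by decide +kernel
theorem chkP_57000 : allRangeF (checkPointF cert) (nat_lit 57000) (nat_lit 25) = true := by decide +kernel
theorem chkP_57025 : allRangeF (checkPointF cert) (nat_lit 57025) (nat_lit 25) = true := by decide +kernel
theorem chkP_57050 : allRangeF (checkPointF cert) (nat_lit 57050) (nat_lit 25) = true := by decide +kernel
theorem chkP_57075 : allRangeF (checkPointF cert) (nat_lit 57075) (nat_lit 25) = true := by decide +kernel
theorem chkP_57100 : allRangeF (checkPointF cert) (nat_lit 57100) (nat_lit 25) = true := by decide +kernel
theorem chkP_57125 : allRangeF (checkPointF cert) (nat_lit 57125) (nat_lit 25) = true := by decide +kernel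
theorem chkP_57150 : allRangeF (checkPointF cert) (nat_lit 57150) (nat_lit 25) = true := by decide +kernel
theorem chkP_57175 : allRangeF (checkPointF cert) (nat_lit 57175) (nat_lit 25) = true := by decide +kernel
theorem chkP_57200 : allRangeF (checkPointF cert) (nat_lit 57200) (nat_lit 25) = true := by decide +kernel
theorem chkP_57225 : allRangeF (checkPointF cert) (nat_lit 57225) (nat_lit 25) = true := by decide +kernel
theorem chkP_57250 : allRangeF (checkPointF cert) (nat_lit 57250) (nat_lit 25) = true := by decide +kernel
theorem chkP_57275 : allRangeF (checkPointF cert) (nat_lit 57275) (nat_lit 25) = true := by decide +kernel
theorem chkP_57300 : allRangeF (checkPointF cert) (nat_lit 57300) (nat_lit 25) = true := by decide +kernel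
theorem chkP_57325 : allRangeF (checkPointF cert) (nat_lit 57325) (nat_lit 25) = true := by decide +kernel
theorem chkP_57350 : allRangeF (checkPointF cert) (nat_lit 57350) (nat_lit 25) = true := by decide +kernel
theorem chkP_57375 : allRangeF (checkPointF cert) (nat_lit 57375) (nat_lit 25) = true := by decide +kernel
theorem chkP_57400 : allRangeF (checkPointF cert) (nat_lit 57400) (nat_lit 25) = true := by decide +kernel
theorem chkP_57425 : allRangeF (checkPointF cert) (nat_lit 57425) (nat_lit 25) = true := by decide +kernel
theorem chkP_57450 : allRangeF (checkPointF cert) (nat_lit 57450) (nat_lit 25) = true := by decide +kernel
theorem chkP_57475 : allRangeF (checkPointF cert) (nat_lit 57475) (nat_lit 25) = true := by decide +kernel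
theorem chkP_57500 : allRangeF (checkPointF cert) (nat_lit 57500) (nat_lit 25) = true := by decide +kernel
theorem chkP_57525 : allRangeF (checkPointF cert) (nat_lit 57525) (nat_lit 25) = true := by decide +kernel
theorem chkP_57550 : allRangeF (checkPointF cert) (nat_lit 57550) (nat_lit 25) = true := by decide +kernel
theorem chkP_57575 : allRangeF (checkPointF cert) (nat_lit 57575) (nat_lit 25) = true := by decide +kernel
theorem chkP_57600 : allRangeF (checkPointF cert) (nat_lit 57600) (nat_lit 25) = true := by decide +kernel
theorem chkP_57625 : allRangeF (checkPointF cert) (nat_lit 57625) (nat_lit 25) = true := by decide +kernel
theorem chkP_57650 : allRangeF (checkPointF cert) (nat_lit 57650) (nat_lit 25) = true := by decide +kernel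
theorem chkP_57675 : allRangeF (checkPointF cert) (nat_lit 57675) (nat_lit 25) = true := by decide +kernel
theorem chkP_57700 : allRangeF (checkPointF cert) (nat_lit 57700) (nat_lit 25) = true := by decide +kernel
theorem chkP_57725 : allRangeF (checkPointF cert) (nat_lit 57725) (nat_lit 25) = true := by decide +kernel
theorem chkP_57750 : allRangeF (checkPointF cert) (nat_lit 57750) (nat_lit 25) = true := by decide +kernel
theorem chkP_57775 : allRangeF (checkPointF cert) (nat_lit 57775) (nat_lit 25) = true := by decide +kernel
theorem chkP_57800 : allRangeF (checkPointF cert) (nat_lit 57800) (nat_lit 25) = true := by decide +kernel
theorem chkP_57825 : allRangeF (checkPointF cert) (nat_lit 57825) (nat_lit 25) = true := by decide +kernel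
theorem chkP_57850 : allRangeF (checkPointF cert) (nat_lit 57850) (nat_lit 25) = true := by decide +kernel
theorem chkP_57875 : allRangeF (checkPointF cert) (nat_lit 57875) (nat_lit 25) = true := by decide +kernel
theorem chkP_57900 : allRangeF (checkPointF cert) (nat_lit 57900) (nat_lit 25) = true := by decide +kernel
theorem chkP_57925 : allRangeF (checkPointF cert) (nat_lit 57925) (nat_lit 25) = true := by decide +kernel
theorem chkP_57950 : allRangeF (checkPointF cert) (nat_lit 57950) (nat_lit 25) = true := by decide +kernel
theorem chkP_57975 : allRangeF (checkPointF cert) (nat_lit 57975) (nat_lit 25) = true := by decide +kernel
theorem chkP_58000 : allRangeF (checkPointF cert) (nat_lit 58000) (nat_lit 25) = true := by decide +kernel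
theorem chkP_58025 : allRangeF (checkPointF cert) (nat_lit 58025) (nat_lit 25) = true := by decide +kernel
theorem chkP_58050 : allRangeF (checkPointF cert) (nat_lit 58050) (nat_lit 25) = true := by decide +kernel
theorem chkP_58075 : allRangeF (checkPointF cert) (nat_lit 58075) (nat_lit 25) = true := by decide +kernel
theorem chkP_58100 : allRangeF (checkPointF cert) (nat_lit 58100) (nat_lit 25) = true := by decide +kernel
theorem chkP_58125 : allRangeF (checkPointF cert) (nat_lit 58125) (nat_lit 25) = true := by decide +kernel
theorem chkP_58150 : allRangeF (checkPointF cert) (nat_lit 58150) (nat_lit 25) = true := by decide +kernel
theorem chkP_58175 : allRangeF (checkPointF cert) (nat_lit 58175) (nat_lit 25) = true := by decide +kernel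
theorem chkP_58200 : allRangeF (checkPointF cert) (nat_lit 58200) (nat_lit 25) = true := by decide +kernel
theorem chkP_58225 : allRangeF (checkPointF cert) (nat_lit 58225) (nat_lit 25) = true := by decide +kernel
theorem chkP_58250 : allRangeF (checkPointF cert) (nat_lit 58250) (nat_lit 25) = true := by decide +kernel
theorem chkP_58275 : allRangeF (checkPointF cert) (nat_lit 58275) (nat_lit 25) = true := by decide +kernel
theorem chkP_58300 : allRangeF (checkPointF cert) (nat_lit 58300) (nat_lit 25) = true := by decide +kernel
theorem chkP_58325 : allRangeF (checkPointF cert) (nat_lit 58325) (nat_lit 25) = true := by decide +kernel
theorem chkP_58350 : allRangeF (checkPointF cert) (nat_lit 58350) (nat_lit 25) = true := by decide +kernel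
theorem chkP_58375 : allRangeF (checkPointF cert) (nat_lit 58375) (nat_lit 25) = true := by decide +kernel
theorem chkP_58400 : allRangeF (checkPointF cert) (nat_lit 58400) (nat_lit 25) = true := by decide +kernel
theorem chkP_58425 : allRangeF (checkPointF cert) (nat_lit 58425) (nat_lit 25) = true := by decide +kernel
theorem chkP_58450 : allRangeF (checkPointF cert) (nat_lit 58450) (nat_lit 25) = true := by decide +kernel
theorem chkP_58475 : allRangeF (checkPointF cert) (nat_lit 58475) (nat_lit 25) = true := by decide +kernel
theorem chkP_58500 : allRangeF (checkPointF cert) (nat_lit 58500) (nat_lit 25) = true := by decide +kernel
theorem chkP_58525 : allRangeF (checkPointF cert) (nat_lit 58525) (nat_lit 25) = true := by decide +kernel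
theorem chkP_58550 : allRangeF (checkPointF cert) (nat_lit 58550) (nat_lit 25) = true := by decide +kernel
theorem chkP_58575 : allRangeF (checkPointF cert) (nat_lit 58575) (nat_lit 25) = true := by decide +kernel
theorem chkP_58600 : allRangeF (checkPointF cert) (nat_lit 58600) (nat_lit 25) = true := by decide +kernel
theorem chkP_58625 : allRangeF (checkPointF cert) (nat_lit 58625) (nat_lit 25) = true := by decide +kernel
theorem chkP_58650 : allRangeF (checkPointF cert) (nat_lit 58650) (nat_lit 25) = true := by decide +kernel
theorem chkP_58675 : allRangeF (checkPointF cert) (nat_lit 58675) (nat_lit 25) = true := by decide +kernel
theorem chkP_58700 : allRangeF (checkPointF cert) (nat_lit 58700) (nat_lit 25) = true := by decide +kernel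
theorem chkP_58725 : allRangeF (checkPointF cert) (nat_lit 58725) (nat_lit 25) = true := by decide +kernel
theorem chkP_58750 : allRangeF (checkPointF cert) (nat_lit 58750) (nat_lit 25) = true := by decide +kernel
theorem chkP_58775 : allRangeF (checkPointF cert) (nat_lit 58775) (nat_lit 25) = true := by decide +kernel
theorem chkP_58800 : allRangeF (checkPointF cert) (nat_lit 58800) (nat_lit 25) = true := by decide +kernel
theorem chkP_58825 : allRangeF (checkPointF cert) (nat_lit 58825) (nat_lit 25) = true := by decide +kernel
theorem chkP_58850 : allRangeF (checkPointF cert) (nat_lit 58850) (nat_lit 25) = true := by decide +kernel
theorem chkP_58875 : allRangeF (checkPointF cert) (nat_lit 58875) (nat_lit 25) = true := by decide +kernel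
theorem chkP_58900 : allRangeF (checkPointF cert) (nat_lit 58900) (nat_lit 25) = true := by decide +kernel
theorem chkP_58925 : allRangeF (checkPointF cert) (nat_lit 58925) (nat_lit 25) = true := by decide +kernel
theorem chkP_58950 : allRangeF (checkPointF cert) (nat_lit 58950) (nat_lit 25) = true := by decide +kernel
theorem chkP_58975 : allRangeF (checkPointF cert) (nat_lit 58975) (nat_lit 25) = true := by decide +kernel
theorem chkP_59000 : allRangeF (checkPointF cert) (nat_lit 59000) (nat_lit 25) = true := by decide +kernel
theorem chkP_59025 : allRangeF (checkPointF cert) (nat_lit 59025) (nat_lit 25) = true := by decide +kernel
theorem chkP_59050 : allRangeF (checkPointF cert) (nat_lit 59050) (nat_lit 25) = true := by decide +kernel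
theorem chkP_59075 : allRangeF (checkPointF cert) (nat_lit 59075) (nat_lit 25) = true := by decide +kernel
theorem chkP_59100 : allRangeF (checkPointF cert) (nat_lit 59100) (nat_lit 25) = true := by decide +kernel
theorem chkP_59125 : allRangeF (checkPointF cert) (nat_lit 59125) (nat_lit 25) = true := by decide +kernel
theorem chkP_59150 : allRangeF (checkPointF cert) (nat_lit 59150) (nat_lit 25) = true := by decide +kernel
theorem chkP_59175 : allRangeF (checkPointF cert) (nat_lit 59175) (nat_lit 25) = true := by decide +kernel
theorem chkP_59200 : allRangeF (checkPointF cert) (nat_lit 59200) (nat_lit 25) = true := by decide +kernel
theorem chkP_59225 : allRangeF (checkPointF cert) (nat_lit 59225) (nat_lit 25) = true := by decide +kernel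
theorem chkP_59250 : allRangeF (checkPointF cert) (nat_lit 59250) (nat_lit 25) = true := by decide +kernel
theorem chkP_59275 : allRangeF (checkPointF cert) (nat_lit 59275) (nat_lit 25) = true := by decide +kernel
theorem chkP_59300 : allRangeF (checkPointF cert) (nat_lit 59300) (nat_lit 25) = true := by decide +kernel
theorem chkP_59325 : allRangeF (checkPointF cert) (nat_lit 59325) (nat_lit 25) = true := by decide +kernel
theorem chkP_59350 : allRangeF (checkPointF cert) (nat_lit 59350) (nat_lit 25) = true := by decide +kernel
theorem chkP_59375 : allRangeF (checkPointF cert) (nat_lit 59375) (nat_lit 25) = true := by decide +kernel
theorem chkP_59400 : allRangeF (checkPointF cert) (nat_lit 59400) (nat_lit 25) = true := by decide +kernel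
theorem chkP_59425 : allRangeF (checkPointF cert) (nat_lit 59425) (nat_lit 25) = true := by decide +kernel
theorem chkP_59450 : allRangeF (checkPointF cert) (nat_lit 59450) (nat_lit 25) = true := by decide +kernel
theorem chkP_59475 : allRangeF (checkPointF cert) (nat_lit 59475) (nat_lit 25) = true := by decide +kernel
theorem chkP_59500 : allRangeF (checkPointF cert) (nat_lit 59500) (nat_lit 25) = true := by decide +kernel
theorem chkP_59525 : allRangeF (checkPointF cert) (nat_lit 59525) (nat_lit 25) = true := by decide +kernel
theorem chkP_59550 : allRangeF (checkPointF cert) (nat_lit 59550) (nat_lit 25) = true := by decide +kernel
theorem chkP_59575 : allRangeF (checkPointF cert) (nat_lit 59575) (nat_lit 25) = true := by decide +kernel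
theorem chkP_59600 : allRangeF (checkPointF cert) (nat_lit 59600) (nat_lit 25) = true := by decide +kernel
theorem chkP_59625 : allRangeF (checkPointF cert) (nat_lit 59625) (nat_lit 25) = true := by decide +kernel
theorem chkP_59650 : allRangeF (checkPointF cert) (nat_lit 59650) (nat_lit 25) = true := by decide +kernel
theorem chkP_59675 : allRangeF (checkPointF cert) (nat_lit 59675) (nat_lit 25) = true := by decide +kernel
theorem chkP_59700 : allRangeF (checkPointF cert) (nat_lit 59700) (nat_lit 25) = true := by decide +kernel
theorem chkP_59725 : allRangeF (checkPointF cert) (nat_lit 59725) (nat_lit 25) = true := by decide +kernel
theorem chkP_59750 : allRangeF (checkPointF cert) (nat_lit 59750) (nat_lit 25) = true := by decide +kernel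
theorem chkP_59775 : allRangeF (checkPointF cert) (nat_lit 59775) (nat_lit 25) = true := by decide +kernel
theorem chkP_59800 : allRangeF (checkPointF cert) (nat_lit 59800) (nat_lit 25) = true := by decide +kernel
theorem chkP_59825 : allRangeF (checkPointF cert) (nat_lit 59825) (nat_lit 25) = true := by decide +kernel
theorem chkP_59850 : allRangeF (checkPointF cert) (nat_lit 59850) (nat_lit 25) = true := by decide +kernel
theorem chkP_59875 : allRangeF (checkPointF cert) (nat_lit 59875) (nat_lit 25) = true := by decide +kernel
theorem chkP_59900 : allRangeF (checkPointF cert) (nat_lit 59900) (nat_lit 25) = true := by decide +kernel
theorem chkP_59925 : allRangeF (checkPointF cert) (nat_lit 59925) (nat_lit 25) = true := by decide +kernel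
theorem chkP_59950 : allRangeF (checkPointF cert) (nat_lit 59950) (nat_lit 25) = true := by decide +kernel
theorem chkP_59975 : allRangeF (checkPointF cert) (nat_lit 59975) (nat_lit 25) = true := by decide +kernel
theorem chkP_60000 : allRangeF (checkPointF cert) (nat_lit 60000) (nat_lit 25) = true := by decide +kernel
theorem chkP_60025 : allRangeF (checkPointF cert) (nat_lit 60025) (nat_lit 25) = true := by decide +kernel
theorem chkP_60050 : allRangeF (checkPointF cert) (nat_lit 60050) (nat_lit 25) = true := by decide +kernel
theorem chkP_60075 : allRangeF (checkPointF cert) (nat_lit 60075) (nat_lit 25) = true := by decide +kernel
theorem chkP_60100 : allRangeF (checkPointF cert) (nat_lit 60100) (nat_lit 25) = true := by decide +kernel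
theorem chkP_60125 : allRangeF (checkPointF cert) (nat_lit 60125) (nat_lit 25) = true := by decide +kernel
theorem chkP_60150 : allRangeF (checkPointF cert) (nat_lit 60150) (nat_lit 25) = true := by decide +kernel
theorem chkP_60175 : allRangeF (checkPointF cert) (nat_lit 60175) (nat_lit 25) = true := by decide +kernel
theorem chkP_60200 : allRangeF (checkPointF cert) (nat_lit 60200) (nat_lit 25) = true := by decide +kernel
theorem chkP_60225 : allRangeF (checkPointF cert) (nat_lit 60225) (nat_lit 25) = true := by decide +kernel
theorem chkP_60250 : allRangeF (checkPointF cert) (nat_lit 60250) (nat_lit 25) = true := by decide +kernel
theorem chkP_60275 : allRangeF (checkPointF cert) (nat_lit 60275) (nat_lit 25) = true := by decide +kernel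
theorem chkP_60300 : allRangeF (checkPointF cert) (nat_lit 60300) (nat_lit 25) = true := by decide +kernel
theorem chkP_60325 : allRangeF (checkPointF cert) (nat_lit 60325) (nat_lit 25) = true := by decide +kernel
theorem chkP_60350 : allRangeF (checkPointF cert) (nat_lit 60350) (nat_lit 25) = true := by decide +kernel
theorem chkP_60375 : allRangeF (checkPointF cert) (nat_lit 60375) (nat_lit 25) = true := by decide +kernel
theorem chkP_60400 : allRangeF (checkPointF cert) (nat_lit 60400) (nat_lit 25) = true := by decide +kernel
theorem chkP_60425 : allRangeF (checkPointF cert) (nat_lit 60425) (nat_lit 25) = true := by decide +kernel
theorem chkP_60450 : allRangeF (checkPointF cert) (nat_lit 60450) (nat_lit 25) = true := by decide +kernel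
theorem chkP_60475 : allRangeF (checkPointF cert) (nat_lit 60475) (nat_lit 25) = true := by decide +kernel
theorem chkP_60500 : allRangeF (checkPointF cert) (nat_lit 60500) (nat_lit 25) = true := by decide +kernel
theorem chkP_60525 : allRangeF (checkPointF cert) (nat_lit 60525) (nat_lit 25) = true := by decide +kernel
theorem chkP_60550 : allRangeF (checkPointF cert) (nat_lit 60550) (nat_lit 25) = true := by decide +kernel
theorem chkP_60575 : allRangeF (checkPointF cert) (nat_lit 60575) (nat_lit 25) = true := by decide +kernel
theorem chkP_60600 : allRangeF (checkPointF cert) (nat_lit 60600) (nat_lit 25) = true := by decide +kernel
theorem chkP_60625 : allRangeF (checkPointF cert) (nat_lit 60625) (nat_lit 25) = true := by decide +kernel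
theorem chkP_60650 : allRangeF (checkPointF cert) (nat_lit 60650) (nat_lit 25) = true := by decide +kernel
theorem chkP_60675 : allRangeF (checkPointF cert) (nat_lit 60675) (nat_lit 25) = true := by decide +kernel
theorem chkP_60700 : allRangeF (checkPointF cert) (nat_lit 60700) (nat_lit 25) = true := by decide +kernel
theorem chkP_60725 : allRangeF (checkPointF cert) (nat_lit 60725) (nat_lit 25) = true := by decide +kernel
theorem chkP_60750 : allRangeF (checkPointF cert) (nat_lit 60750) (nat_lit 25) = true := by decide +kernel
theorem chkP_60775 : allRangeF (checkPointF cert) (nat_lit 60775) (nat_lit 25) = true := by decide +kernel
theorem chkP_60800 : allRangeF (checkPointF cert) (nat_lit 60800) (nat_lit 25) = true := by decide +kernel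
theorem chkP_60825 : allRangeF (checkPointF cert) (nat_lit 60825) (nat_lit 25) = true := by decide +kernel
theorem chkP_60850 : allRangeF (checkPointF cert) (nat_lit 60850) (nat_lit 25) = true := by decide +kernel
theorem chkP_60875 : allRangeF (checkPointF cert) (nat_lit 60875) (nat_lit 25) = true := by decide +kernel
theorem chkP_60900 : allRangeF (checkPointF cert) (nat_lit 60900) (nat_lit 25) = true := by decide +kernel
theorem chkP_60925 : allRangeF (checkPointF cert) (nat_lit 60925) (nat_lit 25) = true := by decide +kernel
theorem chkP_60950 : allRangeF (checkPointF cert) (nat_lit 60950) (nat_lit 25) = true := by decide +kernel
theorem chkP_60975 : allRangeF (checkPointF cert) (nat_lit 60975) (nat_lit 25) = true := by decide +kernel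
theorem chkP_61000 : allRangeF (checkPointF cert) (nat_lit 61000) (nat_lit 25) = true := by decide +kernel
theorem chkP_61025 : allRangeF (checkPointF cert) (nat_lit 61025) (nat_lit 25) = true := by decide +kernel
theorem chkP_61050 : allRangeF (checkPointF cert) (nat_lit 61050) (nat_lit 25) = true := by decide +kernel
theorem chkP_61075 : allRangeF (checkPointF cert) (nat_lit 61075) (nat_lit 25) = true := by decide +kernel
theorem chkP_61100 : allRangeF (checkPointF cert) (nat_lit 61100) (nat_lit 25) = true := by decide +kernel
theorem chkP_61125 : allRangeF (checkPointF cert) (nat_lit 61125) (nat_lit 25) = true := by decide +kernel
theorem chkP_61150 : allRangeF (checkPointF cert) (nat_lit 61150) (nat_lit 25) = true := by decide +kernel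
theorem chkP_61175 : allRangeF (checkPointF cert) (nat_lit 61175) (nat_lit 25) = true := by decide +kernel
theorem chkP_61200 : allRangeF (checkPointF cert) (nat_lit 61200) (nat_lit 25) = true := by decide +kernel
theorem chkP_61225 : allRangeF (checkPointF cert) (nat_lit 61225) (nat_lit 25) = true := by decide +kernel
theorem chkP_61250 : allRangeF (checkPointF cert) (nat_lit 61250) (nat_lit 25) = true := by decide +kernel
theorem chkP_61275 : allRangeF (checkPointF cert) (nat_lit 61275) (nat_lit 25) = true := by decide +kernel
theorem chkP_61300 : allRangeF (checkPointF cert) (nat_lit 61300) (nat_lit 25) = true := by decide +kernel
theorem chkP_61325 : allRangeF (checkPointF cert) (nat_lit 61325) (nat_lit 25) = true := by decide +kernel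
theorem chkP_61350 : allRangeF (checkPointF cert) (nat_lit 61350) (nat_lit 25) = true := by decide +kernel
theorem chkP_61375 : allRangeF (checkPointF cert) (nat_lit 61375) (nat_lit 25) = true := by decide +kernel

theorem ptsRange_7 : ∀ i, 53725 ≤ i → i < 61400 → checkPoint cert i = true := by
  intro i hlo hhi
  rcases Nat.lt_or_ge i 57550 with h1 | h1
  · skip
    rcases Nat.lt_or_ge i 55625 with h2 | h2
    · skip
      rcases Nat.lt_or_ge i 54675 with h3 | h3
      · skip
        rcases Nat.lt_or_ge i 54200 with h4 | h4
        · skip
          rcases Nat.lt_or_ge i 53950 with h5 | h5
          · skip
            rcases Nat.lt_or_ge i 53825 with h6 | h6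
            · skip
              rcases Nat.lt_or_ge i 53775 with h7 | h7
              · skip
                rcases Nat.lt_or_ge i 53750 with h8 | h8
                · skip
                  exact allRangeF_sound _ _ (checkPointF_eq cert) 53725 25 chkP_53725 i (by omega) (by omega)
                · skip
                  exact allRangeF_sound _ _ (checkPointF_eq cert) 53750 25 chkP_53750 i (by omega) (by omega)
              · skip
                rcases Nat.lt_or_ge i 53800 with h8 | h8
                · skip
                  exact allRangeF_sound _ _ (checkPointF_eq cert) 53775 25 chkP_53775 i (by omega) (by omega)
                · skip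
                  exact allRangeF_sound _ _ (checkPointF_eq cert) 53800 25 chkP_53800 i (by omega) (by omega)
            · skip
              rcases Nat.lt_or_ge i 53875 with h7 | h7
              · skip
                rcases Nat.lt_or_ge i 53850 with h8 | h8
                · skip
                  exact allRangeF_sound _ _ (checkPointF_eq cert) 53825 25 chkP_53825 i (by omega) (by omega)
                · skip
                  exact allRangeF_sound _ _ (checkPointF_eq cert) 53850 25 chkP_53850 i (by omega) (by omega)
              · skip
                rcases Nat.lt_or_ge i 53900 with h8 | h8
                · skip
                  exact allRangeF_sound _ _ (checkPointF_eq cert) 53875 25 chkP_53875 i (by omega) (by omega)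
                · skip
                  rcases Nat.lt_or_ge i 53925 with h9 | h9
                  · skip
                    exact allRangeF_sound _ _ (checkPointF_eq cert) 53900 25 chkP_53900 i (by omega) (by omega)
                  · skip
                    exact allRangeF_sound _ _ (checkPointF_eq cert) 53925 25 chkP_53925 i (by omega) (by omega)
          · skip
            rcases Nat.lt_or_ge i 54075 with h6 | h6
            · skip
              rcases Nat.lt_or_ge i 54000 with h7 | h7
              · skip
                rcases Nat.lt_or_ge i 53975 with h8 | h8
                · skip
                  exact allRangeF_sound _ _ (checkPointF_eq cert) 53950 25 chkP_53950 i (by omega) (by omega)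
                · skip
                  exact allRangeF_sound _ _ (checkPointF_eq cert) 53975 25 chkP_53975 i (by omega) (by omega)
              · skip
                rcases Nat.lt_or_ge i 54025 with h8 | h8
                · skip
                  exact allRangeF_sound _ _ (checkPointF_eq cert) 54000 25 chkP_54000 i (by omega) (by omega)
                · skip
                  rcases Nat.lt_or_ge i 54050 with h9 | h9
                  · skip
                    exact allRangeF_sound _ _ (checkPointF_eq cert) 54025 25 chkP_54025 i (by omega) (by omega)
                  · skip
                    exact allRangeF_sound _ _ (checkPointF_eq cert) 54050 25 chkP_54050 i (by omega) (by omega)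
            · skip
              rcases Nat.lt_or_ge i 54125 with h7 | h7
              · skip
                rcases Nat.lt_or_ge i 54100 with h8 | h8
                · skip
                  exact allRangeF_sound _ _ (checkPointF_eq cert) 54075 25 chkP_54075 i (by omega) (by omega)
                · skip
                  exact allRangeF_sound _ _ (checkPointF_eq cert) 54100 25 chkP_54100 i (by omega) (by omega)
              · skip
                rcases Nat.lt_or_ge i 54150 with h8 | h8
                · skip
                  exact allRangeF_sound _ _ (checkPointF_eq cert) 54125 25 chkP_54125 i (by omega) (by omega)
                · skip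
                  rcases Nat.lt_or_ge i 54175 with h9 | h9
                  · skip
                    exact allRangeF_sound _ _ (checkPointF_eq cert) 54150 25 chkP_54150 i (by omega) (by omega)
                  · skip
                    exact allRangeF_sound _ _ (checkPointF_eq cert) 54175 25 chkP_54175 i (by omega) (by omega)
        · skip
          rcases Nat.lt_or_ge i 54425 with h5 | h5
          · skip
            rcases Nat.lt_or_ge i 54300 with h6 | h6
            · skip
              rcases Nat.lt_or_ge i 54250 with h7 | h7
              · skip
                rcases Nat.lt_or_ge i 54225 with h8 | h8
                · skip
                  exact allRangeF_sound _ _ (checkPointF_eq cert) 54200 25 chkP_54200 i (by omega) (by omega)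
                · skip
                  exact allRangeF_sound _ _ (checkPointF_eq cert) 54225 25 chkP_54225 i (by omega) (by omega)
              · skip
                rcases Nat.lt_or_ge i 54275 with h8 | h8
                · skip
                  exact allRangeF_sound _ _ (checkPointF_eq cert) 54250 25 chkP_54250 i (by omega) (by omega)
                · skip
                  exact allRangeF_sound _ _ (checkPointF_eq cert) 54275 25 chkP_54275 i (by omega) (by omega)
            · skip
              rcases Nat.lt_or_ge i 54350 with h7 | h7
              · skip
                rcases Nat.lt_or_ge i 54325 with h8 | h8
                · skip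
                  exact allRangeF_sound _ _ (checkPointF_eq cert) 54300 25 chkP_54300 i (by omega) (by omega)
                · skip
                  exact allRangeF_sound _ _ (checkPointF_eq cert) 54325 25 chkP_54325 i (by omega) (by omega)
              · skip
                rcases Nat.lt_or_ge i 54375 with h8 | h8
                · skip
                  exact allRangeF_sound _ _ (checkPointF_eq cert) 54350 25 chkP_54350 i (by omega) (by omega)
                · skip
                  rcases Nat.lt_or_ge i 54400 with h9 | h9
                  · skip
                    exact allRangeF_sound _ _ (checkPointF_eq cert) 54375 25 chkP_54375 i (by omega) (by omega)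
                  · skip
                    exact allRangeF_sound _ _ (checkPointF_eq cert) 54400 25 chkP_54400 i (by omega) (by omega)
          · skip
            rcases Nat.lt_or_ge i 54550 with h6 | h6
            · skip
              rcases Nat.lt_or_ge i 54475 with h7 | h7
              · skip
                rcases Nat.lt_or_ge i 54450 with h8 | h8
                · skip
                  exact allRangeF_sound _ _ (checkPointF_eq cert) 54425 25 chkP_54425 i (by omega) (by omega)
                · skip
                  exact allRangeF_sound _ _ (checkPointF_eq cert) 54450 25 chkP_54450 i (by omega) (by omega)
              · skip
                rcases Nat.lt_or_ge i 54500 with h8 | h8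
                · skip
                  exact allRangeF_sound _ _ (checkPointF_eq cert) 54475 25 chkP_54475 i (by omega) (by omega)
                · skip
                  rcases Nat.lt_or_ge i 54525 with h9 | h9
                  · skip
                    exact allRangeF_sound _ _ (checkPointF_eq cert) 54500 25 chkP_54500 i (by omega) (by omega)
                  · skip
                    exact allRangeF_sound _ _ (checkPointF_eq cert) 54525 25 chkP_54525 i (by omega) (by omega)
            · skip
              rcases Nat.lt_or_ge i 54600 with h7 | h7
              · skip
                rcases Nat.lt_or_ge i 54575 with h8 | h8
                · skip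
                  exact allRangeF_sound _ _ (checkPointF_eq cert) 54550 25 chkP_54550 i (by omega) (by omega)
                · skip
                  exact allRangeF_sound _ _ (checkPointF_eq cert) 54575 25 chkP_54575 i (by omega) (by omega)
              · skip
                rcases Nat.lt_or_ge i 54625 with h8 | h8
                · skip
                  exact allRangeF_sound _ _ (checkPointF_eq cert) 54600 25 chkP_54600 i (by omega) (by omega)
                · skip
                  rcases Nat.lt_or_ge i 54650 with h9 | h9
                  · skip
                    exact allRangeF_sound _ _ (checkPointF_eq cert) 54625 25 chkP_54625 i (by omega) (by omega)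
                  · skip
                    exact allRangeF_sound _ _ (checkPointF_eq cert) 54650 25 chkP_54650 i (by omega) (by omega)
      · skip
        rcases Nat.lt_or_ge i 55150 with h4 | h4
        · skip
          rcases Nat.lt_or_ge i 54900 with h5 | h5
          · skip
            rcases Nat.lt_or_ge i 54775 with h6 | h6
            · skip
              rcases Nat.lt_or_ge i 54725 with h7 | h7
              · skip
                rcases Nat.lt_or_ge i 54700 with h8 | h8
                · skip
                  exact allRangeF_sound _ _ (checkPointF_eq cert) 54675 25 chkP_54675 i (by omega) (by omega)
                · skip
                  exact allRangeF_sound _ _ (checkPointF_eq cert) 54700 25 chkP_54700 i (by omega) (by omega)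
              · skip
                rcases Nat.lt_or_ge i 54750 with h8 | h8
                · skip
                  exact allRangeF_sound _ _ (checkPointF_eq cert) 54725 25 chkP_54725 i (by omega) (by omega)
                · skip
                  exact allRangeF_sound _ _ (checkPointF_eq cert) 54750 25 chkP_54750 i (by omega) (by omega)
            · skip
              rcases Nat.lt_or_ge i 54825 with h7 | h7
              · skip
                rcases Nat.lt_or_ge i 54800 with h8 | h8
                · skip
                  exact allRangeF_sound _ _ (checkPointF_eq cert) 54775 25 chkP_54775 i (by omega) (by omega)
                · skip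
                  exact allRangeF_sound _ _ (checkPointF_eq cert) 54800 25 chkP_54800 i (by omega) (by omega)
              · skip
                rcases Nat.lt_or_ge i 54850 with h8 | h8
                · skip
                  exact allRangeF_sound _ _ (checkPointF_eq cert) 54825 25 chkP_54825 i (by omega) (by omega)
                · skip
                  rcases Nat.lt_or_ge i 54875 with h9 | h9
                  · skip
                    exact allRangeF_sound _ _ (checkPointF_eq cert) 54850 25 chkP_54850 i (by omega) (by omega)
                  · skip
                    exact allRangeF_sound _ _ (checkPointF_eq cert) 54875 25 chkP_54875 i (by omega) (by omega)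
          · skip
            rcases Nat.lt_or_ge i 55025 with h6 | h6
            · skip
              rcases Nat.lt_or_ge i 54950 with h7 | h7
              · skip
                rcases Nat.lt_or_ge i 54925 with h8 | h8
                · skip
                  exact allRangeF_sound _ _ (checkPointF_eq cert) 54900 25 chkP_54900 i (by omega) (by omega)
                · skip
                  exact allRangeF_sound _ _ (checkPointF_eq cert) 54925 25 chkP_54925 i (by omega) (by omega)
              · skip
                rcases Nat.lt_or_ge i 54975 with h8 | h8
                · skip
                  exact allRangeF_sound _ _ (checkPointF_eq cert) 54950 25 chkP_54950 i (by omega) (by omega)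
                · skip
                  rcases Nat.lt_or_ge i 55000 with h9 | h9
                  · skip
                    exact allRangeF_sound _ _ (checkPointF_eq cert) 54975 25 chkP_54975 i (by omega) (by omega)
                  · skip
                    exact allRangeF_sound _ _ (checkPointF_eq cert) 55000 25 chkP_55000 i (by omega) (by omega)
            · skip
              rcases Nat.lt_or_ge i 55075 with h7 | h7
              · skip
                rcases Nat.lt_or_ge i 55050 with h8 | h8
                · skip
                  exact allRangeF_sound _ _ (checkPointF_eq cert) 55025 25 chkP_55025 i (by omega) (by omega)
                · skip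
                  exact allRangeF_sound _ _ (checkPointF_eq cert) 55050 25 chkP_55050 i (by omega) (by omega)
              · skip
                rcases Nat.lt_or_ge i 55100 with h8 | h8
                · skip
                  exact allRangeF_sound _ _ (checkPointF_eq cert) 55075 25 chkP_55075 i (by omega) (by omega)
                · skip
                  rcases Nat.lt_or_ge i 55125 with h9 | h9
                  · skip
                    exact allRangeF_sound _ _ (checkPointF_eq cert) 55100 25 chkP_55100 i (by omega) (by omega)
                  · skip
                    exact allRangeF_sound _ _ (checkPointF_eq cert) 55125 25 chkP_55125 i (by omega) (by omega)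
        · skip
          rcases Nat.lt_or_ge i 55375 with h5 | h5
          · skip
            rcases Nat.lt_or_ge i 55250 with h6 | h6
            · skip
              rcases Nat.lt_or_ge i 55200 with h7 | h7
              · skip
                rcases Nat.lt_or_ge i 55175 with h8 | h8
                · skip
                  exact allRangeF_sound _ _ (checkPointF_eq cert) 55150 25 chkP_55150 i (by omega) (by omega)
                · skip
                  exact allRangeF_sound _ _ (checkPointF_eq cert) 55175 25 chkP_55175 i (by omega) (by omega)
              · skip
                rcases Nat.lt_or_ge i 55225 with h8 | h8
                · skip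
                  exact allRangeF_sound _ _ (checkPointF_eq cert) 55200 25 chkP_55200 i (by omega) (by omega)
                · skip
                  exact allRangeF_sound _ _ (checkPointF_eq cert) 55225 25 chkP_55225 i (by omega) (by omega)
            · skip
              rcases Nat.lt_or_ge i 55300 with h7 | h7
              · skip
                rcases Nat.lt_or_ge i 55275 with h8 | h8
                · skip
                  exact allRangeF_sound _ _ (checkPointF_eq cert) 55250 25 chkP_55250 i (by omega) (by omega)
                · skip
                  exact allRangeF_sound _ _ (checkPointF_eq cert) 55275 25 chkP_55275 i (by omega) (by omega)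
              · skip
                rcases Nat.lt_or_ge i 55325 with h8 | h8
                · skip
                  exact allRangeF_sound _ _ (checkPointF_eq cert) 55300 25 chkP_55300 i (by omega) (by omega)
                · skip
                  rcases Nat.lt_or_ge i 55350 with h9 | h9
                  · skip
                    exact allRangeF_sound _ _ (checkPointF_eq cert) 55325 25 chkP_55325 i (by omega) (by omega)
                  · skip
                    exact allRangeF_sound _ _ (checkPointF_eq cert) 55350 25 chkP_55350 i (by omega) (by omega)
          · skip
            rcases Nat.lt_or_ge i 55500 with h6 | h6
            · skip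
              rcases Nat.lt_or_ge i 55425 with h7 | h7
              · skip
                rcases Nat.lt_or_ge i 55400 with h8 | h8
                · skip
                  exact allRangeF_sound _ _ (checkPointF_eq cert) 55375 25 chkP_55375 i (by omega) (by omega)
                · skip
                  exact allRangeF_sound _ _ (checkPointF_eq cert) 55400 25 chkP_55400 i (by omega) (by omega)
              · skip
                rcases Nat.lt_or_ge i 55450 with h8 | h8
                · skip
                  exact allRangeF_sound _ _ (checkPointF_eq cert) 55425 25 chkP_55425 i (by omega) (by omega)
                · skip
                  rcases Nat.lt_or_ge i 55475 with h9 | h9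
                  · skip
                    exact allRangeF_sound _ _ (checkPointF_eq cert) 55450 25 chkP_55450 i (by omega) (by omega)
                  · skip
                    exact allRangeF_sound _ _ (checkPointF_eq cert) 55475 25 chkP_55475 i (by omega) (by omega)
            · skip
              rcases Nat.lt_or_ge i 55550 with h7 | h7
              · skip
                rcases Nat.lt_or_ge i 55525 with h8 | h8
                · skip
                  exact allRangeF_sound _ _ (checkPointF_eq cert) 55500 25 chkP_55500 i (by omega) (by omega)
                · skip
                  exact allRangeF_sound _ _ (checkPointF_eq cert) 55525 25 chkP_55525 i (by omega) (by omega)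
              · skip
                rcases Nat.lt_or_ge i 55575 with h8 | h8
                · skip
                  exact allRangeF_sound _ _ (checkPointF_eq cert) 55550 25 chkP_55550 i (by omega) (by omega)
                · skip
                  rcases Nat.lt_or_ge i 55600 with h9 | h9
                  · skip
                    exact allRangeF_sound _ _ (checkPointF_eq cert) 55575 25 chkP_55575 i (by omega) (by omega)
                  · skip
                    exact allRangeF_sound _ _ (checkPointF_eq cert) 55600 25 chkP_55600 i (by omega) (by omega)
    · skip
      rcases Nat.lt_or_ge i 56575 with h3 | h3
      · skip
        rcases Nat.lt_or_ge i 56100 with h4 | h4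
        · skip
          rcases Nat.lt_or_ge i 55850 with h5 | h5
          · skip
            rcases Nat.lt_or_ge i 55725 with h6 | h6
            · skip
              rcases Nat.lt_or_ge i 55675 with h7 | h7
              · skip
                rcases Nat.lt_or_ge i 55650 with h8 | h8
                · skip
                  exact allRangeF_sound _ _ (checkPointF_eq cert) 55625 25 chkP_55625 i (by omega) (by omega)
                · skip
                  exact allRangeF_sound _ _ (checkPointF_eq cert) 55650 25 chkP_55650 i (by omega) (by omega)
              · skip
                rcases Nat.lt_or_ge i 55700 with h8 | h8
                · skip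
                  exact allRangeF_sound _ _ (checkPointF_eq cert) 55675 25 chkP_55675 i (by omega) (by omega)
                · skip
                  exact allRangeF_sound _ _ (checkPointF_eq cert) 55700 25 chkP_55700 i (by omega) (by omega)
            · skip
              rcases Nat.lt_or_ge i 55775 with h7 | h7
              · skip
                rcases Nat.lt_or_ge i 55750 with h8 | h8
                · skip
                  exact allRangeF_sound _ _ (checkPointF_eq cert) 55725 25 chkP_55725 i (by omega) (by omega)
                · skip
                  exact allRangeF_sound _ _ (checkPointF_eq cert) 55750 25 chkP_55750 i (by omega) (by omega)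
              · skip
                rcases Nat.lt_or_ge i 55800 with h8 | h8
                · skip
                  exact allRangeF_sound _ _ (checkPointF_eq cert) 55775 25 chkP_55775 i (by omega) (by omega)
                · skip
                  rcases Nat.lt_or_ge i 55825 with h9 | h9
                  · skip
                    exact allRangeF_sound _ _ (checkPointF_eq cert) 55800 25 chkP_55800 i (by omega) (by omega)
                  · skip
                    exact allRangeF_sound _ _ (checkPointF_eq cert) 55825 25 chkP_55825 i (by omega) (by omega)
          · skip
            rcases Nat.lt_or_ge i 55975 with h6 | h6
            · skip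
              rcases Nat.lt_or_ge i 55900 with h7 | h7
              · skip
                rcases Nat.lt_or_ge i 55875 with h8 | h8
                · skip
                  exact allRangeF_sound _ _ (checkPointF_eq cert) 55850 25 chkP_55850 i (by omega) (by omega)
                · skip
                  exact allRangeF_sound _ _ (checkPointF_eq cert) 55875 25 chkP_55875 i (by omega) (by omega)
              · skip
                rcases Nat.lt_or_ge i 55925 with h8 | h8
                · skip
                  exact allRangeF_sound _ _ (checkPointF_eq cert) 55900 25 chkP_55900 i (by omega) (by omega)
                · skip
                  rcases Nat.lt_or_ge i 55950 with h9 | h9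
                  · skip
                    exact allRangeF_sound _ _ (checkPointF_eq cert) 55925 25 chkP_55925 i (by omega) (by omega)
                  · skip
                    exact allRangeF_sound _ _ (checkPointF_eq cert) 55950 25 chkP_55950 i (by omega) (by omega)
            · skip
              rcases Nat.lt_or_ge i 56025 with h7 | h7
              · skip
                rcases Nat.lt_or_ge i 56000 with h8 | h8
                · skip
                  exact allRangeF_sound _ _ (checkPointF_eq cert) 55975 25 chkP_55975 i (by omega) (by omega)
                · skip
                  exact allRangeF_sound _ _ (checkPointF_eq cert) 56000 25 chkP_56000 i (by omega) (by omega)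
              · skip
                rcases Nat.lt_or_ge i 56050 with h8 | h8
                · skip
                  exact allRangeF_sound _ _ (checkPointF_eq cert) 56025 25 chkP_56025 i (by omega) (by omega)
                · skip
                  rcases Nat.lt_or_ge i 56075 with h9 | h9
                  · skip
                    exact allRangeF_sound _ _ (checkPointF_eq cert) 56050 25 chkP_56050 i (by omega) (by omega)
                  · skip
                    exact allRangeF_sound _ _ (checkPointF_eq cert) 56075 25 chkP_56075 i (by omega) (by omega)
        · skip
          rcases Nat.lt_or_ge i 56325 with h5 | h5
          · skip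
            rcases Nat.lt_or_ge i 56200 with h6 | h6
            · skip
              rcases Nat.lt_or_ge i 56150 with h7 | h7
              · skip
                rcases Nat.lt_or_ge i 56125 with h8 | h8
                · skip
                  exact allRangeF_sound _ _ (checkPointF_eq cert) 56100 25 chkP_56100 i (by omega) (by omega)
                · skip
                  exact allRangeF_sound _ _ (checkPointF_eq cert) 56125 25 chkP_56125 i (by omega) (by omega)
              · skip
                rcases Nat.lt_or_ge i 56175 with h8 | h8
                · skip
                  exact allRangeF_sound _ _ (checkPointF_eq cert) 56150 25 chkP_56150 i (by omega) (by omega)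
                · skip
                  exact allRangeF_sound _ _ (checkPointF_eq cert) 56175 25 chkP_56175 i (by omega) (by omega)
            · skip
              rcases Nat.lt_or_ge i 56250 with h7 | h7
              · skip
                rcases Nat.lt_or_ge i 56225 with h8 | h8
                · skip
                  exact allRangeF_sound _ _ (checkPointF_eq cert) 56200 25 chkP_56200 i (by omega) (by omega)
                · skip
                  exact allRangeF_sound _ _ (checkPointF_eq cert) 56225 25 chkP_56225 i (by omega) (by omega)
              · skip
                rcases Nat.lt_or_ge i 56275 with h8 | h8
                · skip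
                  exact allRangeF_sound _ _ (checkPointF_eq cert) 56250 25 chkP_56250 i (by omega) (by omega)
                · skip
                  rcases Nat.lt_or_ge i 56300 with h9 | h9
                  · skip
                    exact allRangeF_sound _ _ (checkPointF_eq cert) 56275 25 chkP_56275 i (by omega) (by omega)
                  · skip
                    exact allRangeF_sound _ _ (checkPointF_eq cert) 56300 25 chkP_56300 i (by omega) (by omega)
          · skip
            rcases Nat.lt_or_ge i 56450 with h6 | h6
            · skip
              rcases Nat.lt_or_ge i 56375 with h7 | h7
              · skip
                rcases Nat.lt_or_ge i 56350 with h8 | h8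
                · skip
                  exact allRangeF_sound _ _ (checkPointF_eq cert) 56325 25 chkP_56325 i (by omega) (by omega)
                · skip
                  exact allRangeF_sound _ _ (checkPointF_eq cert) 56350 25 chkP_56350 i (by omega) (by omega)
              · skip
                rcases Nat.lt_or_ge i 56400 with h8 | h8
                · skip
                  exact allRangeF_sound _ _ (checkPointF_eq cert) 56375 25 chkP_56375 i (by omega) (by omega)
                · skip
                  rcases Nat.lt_or_ge i 56425 with h9 | h9
                  · skip
                    exact allRangeF_sound _ _ (checkPointF_eq cert) 56400 25 chkP_56400 i (by omega) (by omega)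
                  · skip
                    exact allRangeF_sound _ _ (checkPointF_eq cert) 56425 25 chkP_56425 i (by omega) (by omega)
            · skip
              rcases Nat.lt_or_ge i 56500 with h7 | h7
              · skip
                rcases Nat.lt_or_ge i 56475 with h8 | h8
                · skip
                  exact allRangeF_sound _ _ (checkPointF_eq cert) 56450 25 chkP_56450 i (by omega) (by omega)
                · skip
                  exact allRangeF_sound _ _ (checkPointF_eq cert) 56475 25 chkP_56475 i (by omega) (by omega)
              · skip
                rcases Nat.lt_or_ge i 56525 with h8 | h8
                · skip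
                  exact allRangeF_sound _ _ (checkPointF_eq cert) 56500 25 chkP_56500 i (by omega) (by omega)
                · skip
                  rcases Nat.lt_or_ge i 56550 with h9 | h9
                  · skip
                    exact allRangeF_sound _ _ (checkPointF_eq cert) 56525 25 chkP_56525 i (by omega) (by omega)
                  · skip
                    exact allRangeF_sound _ _ (checkPointF_eq cert) 56550 25 chkP_56550 i (by omega) (by omega)
      · skip
        rcases Nat.lt_or_ge i 57050 with h4 | h4
        · skip
          rcases Nat.lt_or_ge i 56800 with h5 | h5
          · skip
            rcases Nat.lt_or_ge i 56675 with h6 | h6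
            · skip
              rcases Nat.lt_or_ge i 56625 with h7 | h7
              · skip
                rcases Nat.lt_or_ge i 56600 with h8 | h8
                · skip
                  exact allRangeF_sound _ _ (checkPointF_eq cert) 56575 25 chkP_56575 i (by omega) (by omega)
                · skip
                  exact allRangeF_sound _ _ (checkPointF_eq cert) 56600 25 chkP_56600 i (by omega) (by omega)
              · skip
                rcases Nat.lt_or_ge i 56650 with h8 | h8
                · skip
                  exact allRangeF_sound _ _ (checkPointF_eq cert) 56625 25 chkP_56625 i (by omega) (by omega)
                · skip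
                  exact allRangeF_sound _ _ (checkPointF_eq cert) 56650 25 chkP_56650 i (by omega) (by omega)
            · skip
              rcases Nat.lt_or_ge i 56725 with h7 | h7
              · skip
                rcases Nat.lt_or_ge i 56700 with h8 | h8
                · skip
                  exact allRangeF_sound _ _ (checkPointF_eq cert) 56675 25 chkP_56675 i (by omega) (by omega)
                · skip
                  exact allRangeF_sound _ _ (checkPointF_eq cert) 56700 25 chkP_56700 i (by omega) (by omega)
              · skip
                rcases Nat.lt_or_ge i 56750 with h8 | h8
                · skip
                  exact allRangeF_sound _ _ (checkPointF_eq cert) 56725 25 chkP_56725 i (by omega) (by omega)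
                · skip
                  rcases Nat.lt_or_ge i 56775 with h9 | h9
                  · skip
                    exact allRangeF_sound _ _ (checkPointF_eq cert) 56750 25 chkP_56750 i (by omega) (by omega)
                  · skip
                    exact allRangeF_sound _ _ (checkPointF_eq cert) 56775 25 chkP_56775 i (by omega) (by omega)
          · skip
            rcases Nat.lt_or_ge i 56925 with h6 | h6
            · skip
              rcases Nat.lt_or_ge i 56850 with h7 | h7
              · skip
                rcases Nat.lt_or_ge i 56825 with h8 | h8
                · skip
                  exact allRangeF_sound _ _ (checkPointF_eq cert) 56800 25 chkP_56800 i (by omega) (by omega)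
                · skip
                  exact allRangeF_sound _ _ (checkPointF_eq cert) 56825 25 chkP_56825 i (by omega) (by omega)
              · skip
                rcases Nat.lt_or_ge i 56875 with h8 | h8
                · skip
                  exact allRangeF_sound _ _ (checkPointF_eq cert) 56850 25 chkP_56850 i (by omega) (by omega)
                · skip
                  rcases Nat.lt_or_ge i 56900 with h9 | h9
                  · skip
                    exact allRangeF_sound _ _ (checkPointF_eq cert) 56875 25 chkP_56875 i (by omega) (by omega)
                  · skip
                    exact allRangeF_sound _ _ (checkPointF_eq cert) 56900 25 chkP_56900 i (by omega) (by omega)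
            · skip
              rcases Nat.lt_or_ge i 56975 with h7 | h7
              · skip
                rcases Nat.lt_or_ge i 56950 with h8 | h8
                · skip
                  exact allRangeF_sound _ _ (checkPointF_eq cert) 56925 25 chkP_56925 i (by omega) (by omega)
                · skip
                  exact allRangeF_sound _ _ (checkPointF_eq cert) 56950 25 chkP_56950 i (by omega) (by omega)
              · skip
                rcases Nat.lt_or_ge i 57000 with h8 | h8
                · skip
                  exact allRangeF_sound _ _ (checkPointF_eq cert) 56975 25 chkP_56975 i (by omega) (by omega)
                · skip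
                  rcases Nat.lt_or_ge i 57025 with h9 | h9
                  · skip
                    exact allRangeF_sound _ _ (checkPointF_eq cert) 57000 25 chkP_57000 i (by omega) (by omega)
                  · skip
                    exact allRangeF_sound _ _ (checkPointF_eq cert) 57025 25 chkP_57025 i (by omega) (by omega)
        · skip
          rcases Nat.lt_or_ge i 57300 with h5 | h5
          · skip
            rcases Nat.lt_or_ge i 57175 with h6 | h6
            · skip
              rcases Nat.lt_or_ge i 57100 with h7 | h7
              · skip
                rcases Nat.lt_or_ge i 57075 with h8 | h8
                · skip
                  exact allRangeF_sound _ _ (checkPointF_eq cert) 57050 25 chkP_57050 i (by omega) (by omega)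
                · skip
                  exact allRangeF_sound _ _ (checkPointF_eq cert) 57075 25 chkP_57075 i (by omega) (by omega)
              · skip
                rcases Nat.lt_or_ge i 57125 with h8 | h8
                · skip
                  exact allRangeF_sound _ _ (checkPointF_eq cert) 57100 25 chkP_57100 i (by omega) (by omega)
                · skip
                  rcases Nat.lt_or_ge i 57150 with h9 | h9
                  · skip
                    exact allRangeF_sound _ _ (checkPointF_eq cert) 57125 25 chkP_57125 i (by omega) (by omega)
                  · skip
                    exact allRangeF_sound _ _ (checkPointF_eq cert) 57150 25 chkP_57150 i (by omega) (by omega)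
            · skip
              rcases Nat.lt_or_ge i 57225 with h7 | h7
              · skip
                rcases Nat.lt_or_ge i 57200 with h8 | h8
                · skip
                  exact allRangeF_sound _ _ (checkPointF_eq cert) 57175 25 chkP_57175 i (by omega) (by omega)
                · skip
                  exact allRangeF_sound _ _ (checkPointF_eq cert) 57200 25 chkP_57200 i (by omega) (by omega)
              · skip
                rcases Nat.lt_or_ge i 57250 with h8 | h8
                · skip
                  exact allRangeF_sound _ _ (checkPointF_eq cert) 57225 25 chkP_57225 i (by omega) (by omega)
                · skip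
                  rcases Nat.lt_or_ge i 57275 with h9 | h9
                  · skip
                    exact allRangeF_sound _ _ (checkPointF_eq cert) 57250 25 chkP_57250 i (by omega) (by omega)
                  · skip
                    exact allRangeF_sound _ _ (checkPointF_eq cert) 57275 25 chkP_57275 i (by omega) (by omega)
          · skip
            rcases Nat.lt_or_ge i 57425 with h6 | h6
            · skip
              rcases Nat.lt_or_ge i 57350 with h7 | h7
              · skip
                rcases Nat.lt_or_ge i 57325 with h8 | h8
                · skip
                  exact allRangeF_sound _ _ (checkPointF_eq cert) 57300 25 chkP_57300 i (by omega) (by omega)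
                · skip
                  exact allRangeF_sound _ _ (checkPointF_eq cert) 57325 25 chkP_57325 i (by omega) (by omega)
              · skip
                rcases Nat.lt_or_ge i 57375 with h8 | h8
                · skip
                  exact allRangeF_sound _ _ (checkPointF_eq cert) 57350 25 chkP_57350 i (by omega) (by omega)
                · skip
                  rcases Nat.lt_or_ge i 57400 with h9 | h9
                  · skip
                    exact allRangeF_sound _ _ (checkPointF_eq cert) 57375 25 chkP_57375 i (by omega) (by omega)
                  · skip
                    exact allRangeF_sound _ _ (checkPointF_eq cert) 57400 25 chkP_57400 i (by omega) (by omega)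
            · skip
              rcases Nat.lt_or_ge i 57475 with h7 | h7
              · skip
                rcases Nat.lt_or_ge i 57450 with h8 | h8
                · skip
                  exact allRangeF_sound _ _ (checkPointF_eq cert) 57425 25 chkP_57425 i (by omega) (by omega)
                · skip
                  exact allRangeF_sound _ _ (checkPointF_eq cert) 57450 25 chkP_57450 i (by omega) (by omega)
              · skip
                rcases Nat.lt_or_ge i 57500 with h8 | h8
                · skip
                  exact allRangeF_sound _ _ (checkPointF_eq cert) 57475 25 chkP_57475 i (by omega) (by omega)
                · skip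
                  rcases Nat.lt_or_ge i 57525 with h9 | h9
                  · skip
                    exact allRangeF_sound _ _ (checkPointF_eq cert) 57500 25 chkP_57500 i (by omega) (by omega)
                  · skip
                    exact allRangeF_sound _ _ (checkPointF_eq cert) 57525 25 chkP_57525 i (by omega) (by omega)
  · skip
    rcases Nat.lt_or_ge i 59475 with h2 | h2
    · skip
      rcases Nat.lt_or_ge i 58500 with h3 | h3
      · skip
        rcases Nat.lt_or_ge i 58025 with h4 | h4
        · skip
          rcases Nat.lt_or_ge i 57775 with h5 | h5
          · skip
            rcases Nat.lt_or_ge i 57650 with h6 | h6
            · skip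
              rcases Nat.lt_or_ge i 57600 with h7 | h7
              · skip
                rcases Nat.lt_or_ge i 57575 with h8 | h8
                · skip
                  exact allRangeF_sound _ _ (checkPointF_eq cert) 57550 25 chkP_57550 i (by omega) (by omega)
                · skip
                  exact allRangeF_sound _ _ (checkPointF_eq cert) 57575 25 chkP_57575 i (by omega) (by omega)
              · skip
                rcases Nat.lt_or_ge i 57625 with h8 | h8
                · skip
                  exact allRangeF_sound _ _ (checkPointF_eq cert) 57600 25 chkP_57600 i (by omega) (by omega)
                · skip
                  exact allRangeF_sound _ _ (checkPointF_eq cert) 57625 25 chkP_57625 i (by omega) (by omega)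
            · skip
              rcases Nat.lt_or_ge i 57700 with h7 | h7
              · skip
                rcases Nat.lt_or_ge i 57675 with h8 | h8
                · skip
                  exact allRangeF_sound _ _ (checkPointF_eq cert) 57650 25 chkP_57650 i (by omega) (by omega)
                · skip
                  exact allRangeF_sound _ _ (checkPointF_eq cert) 57675 25 chkP_57675 i (by omega) (by omega)
              · skip
                rcases Nat.lt_or_ge i 57725 with h8 | h8
                · skip
                  exact allRangeF_sound _ _ (checkPointF_eq cert) 57700 25 chkP_57700 i (by omega) (by omega)
                · skip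
                  rcases Nat.lt_or_ge i 57750 with h9 | h9
                  · skip
                    exact allRangeF_sound _ _ (checkPointF_eq cert) 57725 25 chkP_57725 i (by omega) (by omega)
                  · skip
                    exact allRangeF_sound _ _ (checkPointF_eq cert) 57750 25 chkP_57750 i (by omega) (by omega)
          · skip
            rcases Nat.lt_or_ge i 57900 with h6 | h6
            · skip
              rcases Nat.lt_or_ge i 57825 with h7 | h7
              · skip
                rcases Nat.lt_or_ge i 57800 with h8 | h8
                · skip
                  exact allRangeF_sound _ _ (checkPointF_eq cert) 57775 25 chkP_57775 i (by omega) (by omega)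
                · skip
                  exact allRangeF_sound _ _ (checkPointF_eq cert) 57800 25 chkP_57800 i (by omega) (by omega)
              · skip
                rcases Nat.lt_or_ge i 57850 with h8 | h8
                · skip
                  exact allRangeF_sound _ _ (checkPointF_eq cert) 57825 25 chkP_57825 i (by omega) (by omega)
                · skip
                  rcases Nat.lt_or_ge i 57875 with h9 | h9
                  · skip
                    exact allRangeF_sound _ _ (checkPointF_eq cert) 57850 25 chkP_57850 i (by omega) (by omega)
                  · skip
                    exact allRangeF_sound _ _ (checkPointF_eq cert) 57875 25 chkP_57875 i (by omega) (by omega)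
            · skip
              rcases Nat.lt_or_ge i 57950 with h7 | h7
              · skip
                rcases Nat.lt_or_ge i 57925 with h8 | h8
                · skip
                  exact allRangeF_sound _ _ (checkPointF_eq cert) 57900 25 chkP_57900 i (by omega) (by omega)
                · skip
                  exact allRangeF_sound _ _ (checkPointF_eq cert) 57925 25 chkP_57925 i (by omega) (by omega)
              · skip
                rcases Nat.lt_or_ge i 57975 with h8 | h8
                · skip
                  exact allRangeF_sound _ _ (checkPointF_eq cert) 57950 25 chkP_57950 i (by omega) (by omega)
                · skip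
                  rcases Nat.lt_or_ge i 58000 with h9 | h9
                  · skip
                    exact allRangeF_sound _ _ (checkPointF_eq cert) 57975 25 chkP_57975 i (by omega) (by omega)
                  · skip
                    exact allRangeF_sound _ _ (checkPointF_eq cert) 58000 25 chkP_58000 i (by omega) (by omega)
        · skip
          rcases Nat.lt_or_ge i 58250 with h5 | h5
          · skip
            rcases Nat.lt_or_ge i 58125 with h6 | h6
            · skip
              rcases Nat.lt_or_ge i 58075 with h7 | h7
              · skip
                rcases Nat.lt_or_ge i 58050 with h8 | h8
                · skip
                  exact allRangeF_sound _ _ (checkPointF_eq cert) 58025 25 chkP_58025 i (by omega) (by omega)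
                · skip
                  exact allRangeF_sound _ _ (checkPointF_eq cert) 58050 25 chkP_58050 i (by omega) (by omega)
              · skip
                rcases Nat.lt_or_ge i 58100 with h8 | h8
                · skip
                  exact allRangeF_sound _ _ (checkPointF_eq cert) 58075 25 chkP_58075 i (by omega) (by omega)
                · skip
                  exact allRangeF_sound _ _ (checkPointF_eq cert) 58100 25 chkP_58100 i (by omega) (by omega)
            · skip
              rcases Nat.lt_or_ge i 58175 with h7 | h7
              · skip
                rcases Nat.lt_or_ge i 58150 with h8 | h8
                · skip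
                  exact allRangeF_sound _ _ (checkPointF_eq cert) 58125 25 chkP_58125 i (by omega) (by omega)
                · skip
                  exact allRangeF_sound _ _ (checkPointF_eq cert) 58150 25 chkP_58150 i (by omega) (by omega)
              · skip
                rcases Nat.lt_or_ge i 58200 with h8 | h8
                · skip
                  exact allRangeF_sound _ _ (checkPointF_eq cert) 58175 25 chkP_58175 i (by omega) (by omega)
                · skip
                  rcases Nat.lt_or_ge i 58225 with h9 | h9
                  · skip
                    exact allRangeF_sound _ _ (checkPointF_eq cert) 58200 25 chkP_58200 i (by omega) (by omega)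
                  · skip
                    exact allRangeF_sound _ _ (checkPointF_eq cert) 58225 25 chkP_58225 i (by omega) (by omega)
          · skip
            rcases Nat.lt_or_ge i 58375 with h6 | h6
            · skip
              rcases Nat.lt_or_ge i 58300 with h7 | h7
              · skip
                rcases Nat.lt_or_ge i 58275 with h8 | h8
                · skip
                  exact allRangeF_sound _ _ (checkPointF_eq cert) 58250 25 chkP_58250 i (by omega) (by omega)
                · skip
                  exact allRangeF_sound _ _ (checkPointF_eq cert) 58275 25 chkP_58275 i (by omega) (by omega)
              · skip
                rcases Nat.lt_or_ge i 58325 with h8 | h8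
                · skip
                  exact allRangeF_sound _ _ (checkPointF_eq cert) 58300 25 chkP_58300 i (by omega) (by omega)
                · skip
                  rcases Nat.lt_or_ge i 58350 with h9 | h9
                  · skip
                    exact allRangeF_sound _ _ (checkPointF_eq cert) 58325 25 chkP_58325 i (by omega) (by omega)
                  · skip
                    exact allRangeF_sound _ _ (checkPointF_eq cert) 58350 25 chkP_58350 i (by omega) (by omega)
            · skip
              rcases Nat.lt_or_ge i 58425 with h7 | h7
              · skip
                rcases Nat.lt_or_ge i 58400 with h8 | h8
                · skip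
                  exact allRangeF_sound _ _ (checkPointF_eq cert) 58375 25 chkP_58375 i (by omega) (by omega)
                · skip
                  exact allRangeF_sound _ _ (checkPointF_eq cert) 58400 25 chkP_58400 i (by omega) (by omega)
              · skip
                rcases Nat.lt_or_ge i 58450 with h8 | h8
                · skip
                  exact allRangeF_sound _ _ (checkPointF_eq cert) 58425 25 chkP_58425 i (by omega) (by omega)
                · skip
                  rcases Nat.lt_or_ge i 58475 with h9 | h9
                  · skip
                    exact allRangeF_sound _ _ (checkPointF_eq cert) 58450 25 chkP_58450 i (by omega) (by omega)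
                  · skip
                    exact allRangeF_sound _ _ (checkPointF_eq cert) 58475 25 chkP_58475 i (by omega) (by omega)
      · skip
        rcases Nat.lt_or_ge i 58975 with h4 | h4
        · skip
          rcases Nat.lt_or_ge i 58725 with h5 | h5
          · skip
            rcases Nat.lt_or_ge i 58600 with h6 | h6
            · skip
              rcases Nat.lt_or_ge i 58550 with h7 | h7
              · skip
                rcases Nat.lt_or_ge i 58525 with h8 | h8
                · skip
                  exact allRangeF_sound _ _ (checkPointF_eq cert) 58500 25 chkP_58500 i (by omega) (by omega)
                · skip
                  exact allRangeF_sound _ _ (checkPointF_eq cert) 58525 25 chkP_58525 i (by omega) (by omega)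
              · skip
                rcases Nat.lt_or_ge i 58575 with h8 | h8
                · skip
                  exact allRangeF_sound _ _ (checkPointF_eq cert) 58550 25 chkP_58550 i (by omega) (by omega)
                · skip
                  exact allRangeF_sound _ _ (checkPointF_eq cert) 58575 25 chkP_58575 i (by omega) (by omega)
            · skip
              rcases Nat.lt_or_ge i 58650 with h7 | h7
              · skip
                rcases Nat.lt_or_ge i 58625 with h8 | h8
                · skip
                  exact allRangeF_sound _ _ (checkPointF_eq cert) 58600 25 chkP_58600 i (by omega) (by omega)
                · skip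
                  exact allRangeF_sound _ _ (checkPointF_eq cert) 58625 25 chkP_58625 i (by omega) (by omega)
              · skip
                rcases Nat.lt_or_ge i 58675 with h8 | h8
                · skip
                  exact allRangeF_sound _ _ (checkPointF_eq cert) 58650 25 chkP_58650 i (by omega) (by omega)
                · skip
                  rcases Nat.lt_or_ge i 58700 with h9 | h9
                  · skip
                    exact allRangeF_sound _ _ (checkPointF_eq cert) 58675 25 chkP_58675 i (by omega) (by omega)
                  · skip
                    exact allRangeF_sound _ _ (checkPointF_eq cert) 58700 25 chkP_58700 i (by omega) (by omega)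
          · skip
            rcases Nat.lt_or_ge i 58850 with h6 | h6
            · skip
              rcases Nat.lt_or_ge i 58775 with h7 | h7
              · skip
                rcases Nat.lt_or_ge i 58750 with h8 | h8
                · skip
                  exact allRangeF_sound _ _ (checkPointF_eq cert) 58725 25 chkP_58725 i (by omega) (by omega)
                · skip
                  exact allRangeF_sound _ _ (checkPointF_eq cert) 58750 25 chkP_58750 i (by omega) (by omega)
              · skip
                rcases Nat.lt_or_ge i 58800 with h8 | h8
                · skip
                  exact allRangeF_sound _ _ (checkPointF_eq cert) 58775 25 chkP_58775 i (by omega) (by omega)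
                · skip
                  rcases Nat.lt_or_ge i 58825 with h9 | h9
                  · skip
                    exact allRangeF_sound _ _ (checkPointF_eq cert) 58800 25 chkP_58800 i (by omega) (by omega)
                  · skip
                    exact allRangeF_sound _ _ (checkPointF_eq cert) 58825 25 chkP_58825 i (by omega) (by omega)
            · skip
              rcases Nat.lt_or_ge i 58900 with h7 | h7
              · skip
                rcases Nat.lt_or_ge i 58875 with h8 | h8
                · skip
                  exact allRangeF_sound _ _ (checkPointF_eq cert) 58850 25 chkP_58850 i (by omega) (by omega)
                · skip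
                  exact allRangeF_sound _ _ (checkPointF_eq cert) 58875 25 chkP_58875 i (by omega) (by omega)
              · skip
                rcases Nat.lt_or_ge i 58925 with h8 | h8
                · skip
                  exact allRangeF_sound _ _ (checkPointF_eq cert) 58900 25 chkP_58900 i (by omega) (by omega)
                · skip
                  rcases Nat.lt_or_ge i 58950 with h9 | h9
                  · skip
                    exact allRangeF_sound _ _ (checkPointF_eq cert) 58925 25 chkP_58925 i (by omega) (by omega)
                  · skip
                    exact allRangeF_sound _ _ (checkPointF_eq cert) 58950 25 chkP_58950 i (by omega) (by omega)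
        · skip
          rcases Nat.lt_or_ge i 59225 with h5 | h5
          · skip
            rcases Nat.lt_or_ge i 59100 with h6 | h6
            · skip
              rcases Nat.lt_or_ge i 59025 with h7 | h7
              · skip
                rcases Nat.lt_or_ge i 59000 with h8 | h8
                · skip
                  exact allRangeF_sound _ _ (checkPointF_eq cert) 58975 25 chkP_58975 i (by omega) (by omega)
                · skip
                  exact allRangeF_sound _ _ (checkPointF_eq cert) 59000 25 chkP_59000 i (by omega) (by omega)
              · skip
                rcases Nat.lt_or_ge i 59050 with h8 | h8
                · skip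
                  exact allRangeF_sound _ _ (checkPointF_eq cert) 59025 25 chkP_59025 i (by omega) (by omega)
                · skip
                  rcases Nat.lt_or_ge i 59075 with h9 | h9
                  · skip
                    exact allRangeF_sound _ _ (checkPointF_eq cert) 59050 25 chkP_59050 i (by omega) (by omega)
                  · skip
                    exact allRangeF_sound _ _ (checkPointF_eq cert) 59075 25 chkP_59075 i (by omega) (by omega)
            · skip
              rcases Nat.lt_or_ge i 59150 with h7 | h7
              · skip
                rcases Nat.lt_or_ge i 59125 with h8 | h8
                · skip
                  exact allRangeF_sound _ _ (checkPointF_eq cert) 59100 25 chkP_59100 i (by omega) (by omega)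
                · skip
                  exact allRangeF_sound _ _ (checkPointF_eq cert) 59125 25 chkP_59125 i (by omega) (by omega)
              · skip
                rcases Nat.lt_or_ge i 59175 with h8 | h8
                · skip
                  exact allRangeF_sound _ _ (checkPointF_eq cert) 59150 25 chkP_59150 i (by omega) (by omega)
                · skip
                  rcases Nat.lt_or_ge i 59200 with h9 | h9
                  · skip
                    exact allRangeF_sound _ _ (checkPointF_eq cert) 59175 25 chkP_59175 i (by omega) (by omega)
                  · skip
                    exact allRangeF_sound _ _ (checkPointF_eq cert) 59200 25 chkP_59200 i (by omega) (by omega)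
          · skip
            rcases Nat.lt_or_ge i 59350 with h6 | h6
            · skip
              rcases Nat.lt_or_ge i 59275 with h7 | h7
              · skip
                rcases Nat.lt_or_ge i 59250 with h8 | h8
                · skip
                  exact allRangeF_sound _ _ (checkPointF_eq cert) 59225 25 chkP_59225 i (by omega) (by omega)
                · skip
                  exact allRangeF_sound _ _ (checkPointF_eq cert) 59250 25 chkP_59250 i (by omega) (by omega)
              · skip
                rcases Nat.lt_or_ge i 59300 with h8 | h8
                · skip
                  exact allRangeF_sound _ _ (checkPointF_eq cert) 59275 25 chkP_59275 i (by omega) (by omega)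
                · skip
                  rcases Nat.lt_or_ge i 59325 with h9 | h9
                  · skip
                    exact allRangeF_sound _ _ (checkPointF_eq cert) 59300 25 chkP_59300 i (by omega) (by omega)
                  · skip
                    exact allRangeF_sound _ _ (checkPointF_eq cert) 59325 25 chkP_59325 i (by omega) (by omega)
            · skip
              rcases Nat.lt_or_ge i 59400 with h7 | h7
              · skip
                rcases Nat.lt_or_ge i 59375 with h8 | h8
                · skip
                  exact allRangeF_sound _ _ (checkPointF_eq cert) 59350 25 chkP_59350 i (by omega) (by omega)
                · skip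
                  exact allRangeF_sound _ _ (checkPointF_eq cert) 59375 25 chkP_59375 i (by omega) (by omega)
              · skip
                rcases Nat.lt_or_ge i 59425 with h8 | h8
                · skip
                  exact allRangeF_sound _ _ (checkPointF_eq cert) 59400 25 chkP_59400 i (by omega) (by omega)
                · skip
                  rcases Nat.lt_or_ge i 59450 with h9 | h9
                  · skip
                    exact allRangeF_sound _ _ (checkPointF_eq cert) 59425 25 chkP_59425 i (by omega) (by omega)
                  · skip
                    exact allRangeF_sound _ _ (checkPointF_eq cert) 59450 25 chkP_59450 i (by omega) (by omega)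
    · skip
      rcases Nat.lt_or_ge i 60425 with h3 | h3
      · skip
        rcases Nat.lt_or_ge i 59950 with h4 | h4
        · skip
          rcases Nat.lt_or_ge i 59700 with h5 | h5
          · skip
            rcases Nat.lt_or_ge i 59575 with h6 | h6
            · skip
              rcases Nat.lt_or_ge i 59525 with h7 | h7
              · skip
                rcases Nat.lt_or_ge i 59500 with h8 | h8
                · skip
                  exact allRangeF_sound _ _ (checkPointF_eq cert) 59475 25 chkP_59475 i (by omega) (by omega)
                · skip
                  exact allRangeF_sound _ _ (checkPointF_eq cert) 59500 25 chkP_59500 i (by omega) (by omega)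
              · skip
                rcases Nat.lt_or_ge i 59550 with h8 | h8
                · skip
                  exact allRangeF_sound _ _ (checkPointF_eq cert) 59525 25 chkP_59525 i (by omega) (by omega)
                · skip
                  exact allRangeF_sound _ _ (checkPointF_eq cert) 59550 25 chkP_59550 i (by omega) (by omega)
            · skip
              rcases Nat.lt_or_ge i 59625 with h7 | h7
              · skip
                rcases Nat.lt_or_ge i 59600 with h8 | h8
                · skip
                  exact allRangeF_sound _ _ (checkPointF_eq cert) 59575 25 chkP_59575 i (by omega) (by omega)
                · skip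
                  exact allRangeF_sound _ _ (checkPointF_eq cert) 59600 25 chkP_59600 i (by omega) (by omega)
              · skip
                rcases Nat.lt_or_ge i 59650 with h8 | h8
                · skip
                  exact allRangeF_sound _ _ (checkPointF_eq cert) 59625 25 chkP_59625 i (by omega) (by omega)
                · skip
                  rcases Nat.lt_or_ge i 59675 with h9 | h9
                  · skip
                    exact allRangeF_sound _ _ (checkPointF_eq cert) 59650 25 chkP_59650 i (by omega) (by omega)
                  · skip
                    exact allRangeF_sound _ _ (checkPointF_eq cert) 59675 25 chkP_59675 i (by omega) (by omega)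
          · skip
            rcases Nat.lt_or_ge i 59825 with h6 | h6
            · skip
              rcases Nat.lt_or_ge i 59750 with h7 | h7
              · skip
                rcases Nat.lt_or_ge i 59725 with h8 | h8
                · skip
                  exact allRangeF_sound _ _ (checkPointF_eq cert) 59700 25 chkP_59700 i (by omega) (by omega)
                · skip
                  exact allRangeF_sound _ _ (checkPointF_eq cert) 59725 25 chkP_59725 i (by omega) (by omega)
              · skip
                rcases Nat.lt_or_ge i 59775 with h8 | h8
                · skip
                  exact allRangeF_sound _ _ (checkPointF_eq cert) 59750 25 chkP_59750 i (by omega) (by omega)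
                · skip
                  rcases Nat.lt_or_ge i 59800 with h9 | h9
                  · skip
                    exact allRangeF_sound _ _ (checkPointF_eq cert) 59775 25 chkP_59775 i (by omega) (by omega)
                  · skip
                    exact allRangeF_sound _ _ (checkPointF_eq cert) 59800 25 chkP_59800 i (by omega) (by omega)
            · skip
              rcases Nat.lt_or_ge i 59875 with h7 | h7
              · skip
                rcases Nat.lt_or_ge i 59850 with h8 | h8
                · skip
                  exact allRangeF_sound _ _ (checkPointF_eq cert) 59825 25 chkP_59825 i (by omega) (by omega)
                · skip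
                  exact allRangeF_sound _ _ (checkPointF_eq cert) 59850 25 chkP_59850 i (by omega) (by omega)
              · skip
                rcases Nat.lt_or_ge i 59900 with h8 | h8
                · skip
                  exact allRangeF_sound _ _ (checkPointF_eq cert) 59875 25 chkP_59875 i (by omega) (by omega)
                · skip
                  rcases Nat.lt_or_ge i 59925 with h9 | h9
                  · skip
                    exact allRangeF_sound _ _ (checkPointF_eq cert) 59900 25 chkP_59900 i (by omega) (by omega)
                  · skip
                    exact allRangeF_sound _ _ (checkPointF_eq cert) 59925 25 chkP_59925 i (by omega) (by omega)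
        · skip
          rcases Nat.lt_or_ge i 60175 with h5 | h5
          · skip
            rcases Nat.lt_or_ge i 60050 with h6 | h6
            · skip
              rcases Nat.lt_or_ge i 60000 with h7 | h7
              · skip
                rcases Nat.lt_or_ge i 59975 with h8 | h8
                · skip
                  exact allRangeF_sound _ _ (checkPointF_eq cert) 59950 25 chkP_59950 i (by omega) (by omega)
                · skip
                  exact allRangeF_sound _ _ (checkPointF_eq cert) 59975 25 chkP_59975 i (by omega) (by omega)
              · skip
                rcases Nat.lt_or_ge i 60025 with h8 | h8
                · skip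
                  exact allRangeF_sound _ _ (checkPointF_eq cert) 60000 25 chkP_60000 i (by omega) (by omega)
                · skip
                  exact allRangeF_sound _ _ (checkPointF_eq cert) 60025 25 chkP_60025 i (by omega) (by omega)
            · skip
              rcases Nat.lt_or_ge i 60100 with h7 | h7
              · skip
                rcases Nat.lt_or_ge i 60075 with h8 | h8
                · skip
                  exact allRangeF_sound _ _ (checkPointF_eq cert) 60050 25 chkP_60050 i (by omega) (by omega)
                · skip
                  exact allRangeF_sound _ _ (checkPointF_eq cert) 60075 25 chkP_60075 i (by omega) (by omega)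
              · skip
                rcases Nat.lt_or_ge i 60125 with h8 | h8
                · skip
                  exact allRangeF_sound _ _ (checkPointF_eq cert) 60100 25 chkP_60100 i (by omega) (by omega)
                · skip
                  rcases Nat.lt_or_ge i 60150 with h9 | h9
                  · skip
                    exact allRangeF_sound _ _ (checkPointF_eq cert) 60125 25 chkP_60125 i (by omega) (by omega)
                  · skip
                    exact allRangeF_sound _ _ (checkPointF_eq cert) 60150 25 chkP_60150 i (by omega) (by omega)
          · skip
            rcases Nat.lt_or_ge i 60300 with h6 | h6
            · skip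
              rcases Nat.lt_or_ge i 60225 with h7 | h7
              · skip
                rcases Nat.lt_or_ge i 60200 with h8 | h8
                · skip
                  exact allRangeF_sound _ _ (checkPointF_eq cert) 60175 25 chkP_60175 i (by omega) (by omega)
                · skip
                  exact allRangeF_sound _ _ (checkPointF_eq cert) 60200 25 chkP_60200 i (by omega) (by omega)
              · skip
                rcases Nat.lt_or_ge i 60250 with h8 | h8
                · skip
                  exact allRangeF_sound _ _ (checkPointF_eq cert) 60225 25 chkP_60225 i (by omega) (by omega)
                · skip
                  rcases Nat.lt_or_ge i 60275 with h9 | h9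
                  · skip
                    exact allRangeF_sound _ _ (checkPointF_eq cert) 60250 25 chkP_60250 i (by omega) (by omega)
                  · skip
                    exact allRangeF_sound _ _ (checkPointF_eq cert) 60275 25 chkP_60275 i (by omega) (by omega)
            · skip
              rcases Nat.lt_or_ge i 60350 with h7 | h7
              · skip
                rcases Nat.lt_or_ge i 60325 with h8 | h8
                · skip
                  exact allRangeF_sound _ _ (checkPointF_eq cert) 60300 25 chkP_60300 i (by omega) (by omega)
                · skip
                  exact allRangeF_sound _ _ (checkPointF_eq cert) 60325 25 chkP_60325 i (by omega) (by omega)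
              · skip
                rcases Nat.lt_or_ge i 60375 with h8 | h8
                · skip
                  exact allRangeF_sound _ _ (checkPointF_eq cert) 60350 25 chkP_60350 i (by omega) (by omega)
                · skip
                  rcases Nat.lt_or_ge i 60400 with h9 | h9
                  · skip
                    exact allRangeF_sound _ _ (checkPointF_eq cert) 60375 25 chkP_60375 i (by omega) (by omega)
                  · skip
                    exact allRangeF_sound _ _ (checkPointF_eq cert) 60400 25 chkP_60400 i (by omega) (by omega)
      · skip
        rcases Nat.lt_or_ge i 60900 with h4 | h4
        · skip
          rcases Nat.lt_or_ge i 60650 with h5 | h5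
          · skip
            rcases Nat.lt_or_ge i 60525 with h6 | h6
            · skip
              rcases Nat.lt_or_ge i 60475 with h7 | h7
              · skip
                rcases Nat.lt_or_ge i 60450 with h8 | h8
                · skip
                  exact allRangeF_sound _ _ (checkPointF_eq cert) 60425 25 chkP_60425 i (by omega) (by omega)
                · skip
                  exact allRangeF_sound _ _ (checkPointF_eq cert) 60450 25 chkP_60450 i (by omega) (by omega)
              · skip
                rcases Nat.lt_or_ge i 60500 with h8 | h8
                · skip
                  exact allRangeF_sound _ _ (checkPointF_eq cert) 60475 25 chkP_60475 i (by omega) (by omega)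
                · skip
                  exact allRangeF_sound _ _ (checkPointF_eq cert) 60500 25 chkP_60500 i (by omega) (by omega)
            · skip
              rcases Nat.lt_or_ge i 60575 with h7 | h7
              · skip
                rcases Nat.lt_or_ge i 60550 with h8 | h8
                · skip
                  exact allRangeF_sound _ _ (checkPointF_eq cert) 60525 25 chkP_60525 i (by omega) (by omega)
                · skip
                  exact allRangeF_sound _ _ (checkPointF_eq cert) 60550 25 chkP_60550 i (by omega) (by omega)
              · skip
                rcases Nat.lt_or_ge i 60600 with h8 | h8
                · skip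
                  exact allRangeF_sound _ _ (checkPointF_eq cert) 60575 25 chkP_60575 i (by omega) (by omega)
                · skip
                  rcases Nat.lt_or_ge i 60625 with h9 | h9
                  · skip
                    exact allRangeF_sound _ _ (checkPointF_eq cert) 60600 25 chkP_60600 i (by omega) (by omega)
                  · skip
                    exact allRangeF_sound _ _ (checkPointF_eq cert) 60625 25 chkP_60625 i (by omega) (by omega)
          · skip
            rcases Nat.lt_or_ge i 60775 with h6 | h6
            · skip
              rcases Nat.lt_or_ge i 60700 with h7 | h7
              · skip
                rcases Nat.lt_or_ge i 60675 with h8 | h8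
                · skip
                  exact allRangeF_sound _ _ (checkPointF_eq cert) 60650 25 chkP_60650 i (by omega) (by omega)
                · skip
                  exact allRangeF_sound _ _ (checkPointF_eq cert) 60675 25 chkP_60675 i (by omega) (by omega)
              · skip
                rcases Nat.lt_or_ge i 60725 with h8 | h8
                · skip
                  exact allRangeF_sound _ _ (checkPointF_eq cert) 60700 25 chkP_60700 i (by omega) (by omega)
                · skip
                  rcases Nat.lt_or_ge i 60750 with h9 | h9
                  · skip
                    exact allRangeF_sound _ _ (checkPointF_eq cert) 60725 25 chkP_60725 i (by omega) (by omega)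
                  · skip
                    exact allRangeF_sound _ _ (checkPointF_eq cert) 60750 25 chkP_60750 i (by omega) (by omega)
            · skip
              rcases Nat.lt_or_ge i 60825 with h7 | h7
              · skip
                rcases Nat.lt_or_ge i 60800 with h8 | h8
                · skip
                  exact allRangeF_sound _ _ (checkPointF_eq cert) 60775 25 chkP_60775 i (by omega) (by omega)
                · skip
                  exact allRangeF_sound _ _ (checkPointF_eq cert) 60800 25 chkP_60800 i (by omega) (by omega)
              · skip
                rcases Nat.lt_or_ge i 60850 with h8 | h8
                · skip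
                  exact allRangeF_sound _ _ (checkPointF_eq cert) 60825 25 chkP_60825 i (by omega) (by omega)
                · skip
                  rcases Nat.lt_or_ge i 60875 with h9 | h9
                  · skip
                    exact allRangeF_sound _ _ (checkPointF_eq cert) 60850 25 chkP_60850 i (by omega) (by omega)
                  · skip
                    exact allRangeF_sound _ _ (checkPointF_eq cert) 60875 25 chkP_60875 i (by omega) (by omega)
        · skip
          rcases Nat.lt_or_ge i 61150 with h5 | h5
          · skip
            rcases Nat.lt_or_ge i 61025 with h6 | h6
            · skip
              rcases Nat.lt_or_ge i 60950 with h7 | h7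
              · skip
                rcases Nat.lt_or_ge i 60925 with h8 | h8
                · skip
                  exact allRangeF_sound _ _ (checkPointF_eq cert) 60900 25 chkP_60900 i (by omega) (by omega)
                · skip
                  exact allRangeF_sound _ _ (checkPointF_eq cert) 60925 25 chkP_60925 i (by omega) (by omega)
              · skip
                rcases Nat.lt_or_ge i 60975 with h8 | h8
                · skip
                  exact allRangeF_sound _ _ (checkPointF_eq cert) 60950 25 chkP_60950 i (by omega) (by omega)
                · skip
                  rcases Nat.lt_or_ge i 61000 with h9 | h9
                  · skip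
                    exact allRangeF_sound _ _ (checkPointF_eq cert) 60975 25 chkP_60975 i (by omega) (by omega)
                  · skip
                    exact allRangeF_sound _ _ (checkPointF_eq cert) 61000 25 chkP_61000 i (by omega) (by omega)
            · skip
              rcases Nat.lt_or_ge i 61075 with h7 | h7
              · skip
                rcases Nat.lt_or_ge i 61050 with h8 | h8
                · skip
                  exact allRangeF_sound _ _ (checkPointF_eq cert) 61025 25 chkP_61025 i (by omega) (by omega)
                · skip
                  exact allRangeF_sound _ _ (checkPointF_eq cert) 61050 25 chkP_61050 i (by omega) (by omega)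
              · skip
                rcases Nat.lt_or_ge i 61100 with h8 | h8
                · skip
                  exact allRangeF_sound _ _ (checkPointF_eq cert) 61075 25 chkP_61075 i (by omega) (by omega)
                · skip
                  rcases Nat.lt_or_ge i 61125 with h9 | h9
                  · skip
                    exact allRangeF_sound _ _ (checkPointF_eq cert) 61100 25 chkP_61100 i (by omega) (by omega)
                  · skip
                    exact allRangeF_sound _ _ (checkPointF_eq cert) 61125 25 chkP_61125 i (by omega) (by omega)
          · skip
            rcases Nat.lt_or_ge i 61275 with h6 | h6
            · skip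
              rcases Nat.lt_or_ge i 61200 with h7 | h7
              · skip
                rcases Nat.lt_or_ge i 61175 with h8 | h8
                · skip
                  exact allRangeF_sound _ _ (checkPointF_eq cert) 61150 25 chkP_61150 i (by omega) (by omega)
                · skip
                  exact allRangeF_sound _ _ (checkPointF_eq cert) 61175 25 chkP_61175 i (by omega) (by omega)
              · skip
                rcases Nat.lt_or_ge i 61225 with h8 | h8
                · skip
                  exact allRangeF_sound _ _ (checkPointF_eq cert) 61200 25 chkP_61200 i (by omega) (by omega)
                · skip
                  rcases Nat.lt_or_ge i 61250 with h9 | h9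
                  · skip
                    exact allRangeF_sound _ _ (checkPointF_eq cert) 61225 25 chkP_61225 i (by omega) (by omega)
                  · skip
                    exact allRangeF_sound _ _ (checkPointF_eq cert) 61250 25 chkP_61250 i (by omega) (by omega)
            · skip
              rcases Nat.lt_or_ge i 61325 with h7 | h7
              · skip
                rcases Nat.lt_or_ge i 61300 with h8 | h8
                · skip
                  exact allRangeF_sound _ _ (checkPointF_eq cert) 61275 25 chkP_61275 i (by omega) (by omega)
                · skip
                  exact allRangeF_sound _ _ (checkPointF_eq cert) 61300 25 chkP_61300 i (by omega) (by omega)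
              · skip
                rcases Nat.lt_or_ge i 61350 with h8 | h8
                · skip
                  exact allRangeF_sound _ _ (checkPointF_eq cert) 61325 25 chkP_61325 i (by omega) (by omega)
                · skip
                  rcases Nat.lt_or_ge i 61375 with h9 | h9
                  · skip
                    exact allRangeF_sound _ _ (checkPointF_eq cert) 61350 25 chkP_61350 i (by omega) (by omega)
                  · skip
                    exact allRangeF_sound _ _ (checkPointF_eq cert) 61375 25 chkP_61375 i (by omega) (by omega)

end Cfsg.Agent.Lib.Helper28.Fi24Data
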