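import Cfsg.Agent.Lib.Helper28.Fi24Data
import Cfsg.Agent.Lib.Helper28.TCFastB

set_option autoImplicit false
set_option maxRecDepth 1000000
set_option linter.all false
set_option Elab.async false

namespace Cfsg.Agent.Lib.Helper28.Fi24Data

open Cfsg.Agent.Lib.Helper28B

theorem chkP_61400 : allRangeF (checkPointF cert) (nat_lit 61400) (nat_lit 25) = true := by decide +kernel
theorem chkP_61425 : allRangeF (checkPointF cert) (nat_lit 61425) (nat_lit 25) = true := by decide +kernel
theorem chkP_61450 : allRangeF (checkPointF cert) (nat_lit 61450) (nat_lit 25) = true := by decide +kernel
theorem chkP_61475 : allRangeF (checkPointF cert) (nat_lit 61475) (nat_lit 25) = true := by decide +kernel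
theorem chkP_61500 : allRangeF (checkPointF cert) (nat_lit 61500) (nat_lit 25) = true := by decide +kernel
theorem chkP_61525 : allRangeF (checkPointF cert) (nat_lit 61525) (nat_lit 25) = true := by decide +kernel
theorem chkP_61550 : allRangeF (checkPointF cert) (nat_lit 61550) (nat_lit 25) = true := by decide +kernel
theorem chkP_61575 : allRangeF (checkPointF cert) (nat_lit 61575) (nat_lit 25) = true := by decide +kernel
theorem chkP_61600 : allRangeF (checkPointF cert) (nat_lit 61600) (nat_lit 25) = true := by decide +kernel
theorem chkP_61625 : allRangeF (checkPointF cert) (nat_lit 61625) (nat_lit 25) = true := by decide +kernel
theorem chkP_61650 : allRangeF (checkPointF cert) (nat_lit 61650) (nat_lit 25) = true := by decide +kernel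
theorem chkP_61675 : allRangeF (checkPointF cert) (nat_lit 61675) (nat_lit 25) = true := by decide +kernel
theorem chkP_61700 : allRangeF (checkPointF cert) (nat_lit 61700) (nat_lit 25) = true := by decide +kernel
theorem chkP_61725 : allRangeF (checkPointF cert) (nat_lit 61725) (nat_lit 25) = true := by decide +kernel
theorem chkP_61750 : allRangeF (checkPointF cert) (nat_lit 61750) (nat_lit 25) = true := by decide +kernel
theorem chkP_61775 : allRangeF (checkPointF cert) (nat_lit 61775) (nat_lit 25) = true := by decide +kernel
theorem chkP_61800 : allRangeF (checkPointF cert) (nat_lit 61800) (nat_lit 25) = true := by decide +kernel
theorem chkP_61825 : allRangeF (checkPointF cert) (nat_lit 61825) (nat_lit 25) = true := by decide +kernel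
theorem chkP_61850 : allRangeF (checkPointF cert) (nat_lit 61850) (nat_lit 25) = true := by decide +kernel
theorem chkP_61875 : allRangeF (checkPointF cert) (nat_lit 61875) (nat_lit 25) = true := by decide +kernel
theorem chkP_61900 : allRangeF (checkPointF cert) (nat_lit 61900) (nat_lit 25) = true := by decide +kernel
theorem chkP_61925 : allRangeF (checkPointF cert) (nat_lit 61925) (nat_lit 25) = true := by decide +kernel
theorem chkP_61950 : allRangeF (checkPointF cert) (nat_lit 61950) (nat_lit 25) = true := by decide +kernel
theorem chkP_61975 : allRangeF (checkPointF cert) (nat_lit 61975) (nat_lit 25) = true := by decide +kernel
theorem chkP_62000 : allRangeF (checkPointF cert) (nat_lit 62000) (nat_lit 25) = true := by decide +kernel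
theorem chkP_62025 : allRangeF (checkPointF cert) (nat_lit 62025) (nat_lit 25) = true := by decide +kernel
theorem chkP_62050 : allRangeF (checkPointF cert) (nat_lit 62050) (nat_lit 25) = true := by decide +kernel
theorem chkP_62075 : allRangeF (checkPointF cert) (nat_lit 62075) (nat_lit 25) = true := by decide +kernel
theorem chkP_62100 : allRangeF (checkPointF cert) (nat_lit 62100) (nat_lit 25) = true := by decide +kernel
theorem chkP_62125 : allRangeF (checkPointF cert) (nat_lit 62125) (nat_lit 25) = true := by decide +kernel
theorem chkP_62150 : allRangeF (checkPointF cert) (nat_lit 62150) (nat_lit 25) = true := by decide +kernel
theorem chkP_62175 : allRangeF (checkPointF cert) (nat_lit 62175) (nat_lit 25) = true := by decide +kernel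
theorem chkP_62200 : allRangeF (checkPointF cert) (nat_lit 62200) (nat_lit 25) = true := by decide +kernel
theorem chkP_62225 : allRangeF (checkPointF cert) (nat_lit 62225) (nat_lit 25) = true := by decide +kernel
theorem chkP_62250 : allRangeF (checkPointF cert) (nat_lit 62250) (nat_lit 25) = true := by decide +kernel
theorem chkP_62275 : allRangeF (checkPointF cert) (nat_lit 62275) (nat_lit 25) = true := by decide +kernel
theorem chkP_62300 : allRangeF (checkPointF cert) (nat_lit 62300) (nat_lit 25) = true := by decide +kernel
theorem chkP_62325 : allRangeF (checkPointF cert) (nat_lit 62325) (nat_lit 25) = true := by decide +kernel
theorem chkP_62350 : allRangeF (checkPointF cert) (nat_lit 62350) (nat_lit 25) = true := by decide +kernel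
theorem chkP_62375 : allRangeF (checkPointF cert) (nat_lit 62375) (nat_lit 25) = true := by decide +kernel
theorem chkP_62400 : allRangeF (checkPointF cert) (nat_lit 62400) (nat_lit 25) = true := by decide +kernel
theorem chkP_62425 : allRangeF (checkPointF cert) (nat_lit 62425) (nat_lit 25) = true := by decide +kernel
theorem chkP_62450 : allRangeF (checkPointF cert) (nat_lit 62450) (nat_lit 25) = true := by decide +kernel
theorem chkP_62475 : allRangeF (checkPointF cert) (nat_lit 62475) (nat_lit 25) = true := by decide +kernel
theorem chkP_62500 : allRangeF (checkPointF cert) (nat_lit 62500) (nat_lit 25) = true := by decide +kernel
theorem chkP_62525 : allRangeF (checkPointF cert) (nat_lit 62525) (nat_lit 25) = true := by decide +kernel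
theorem chkP_62550 : allRangeF (checkPointF cert) (nat_lit 62550) (nat_lit 25) = true := by decide +kernel
theorem chkP_62575 : allRangeF (checkPointF cert) (nat_lit 62575) (nat_lit 25) = true := by decide +kernel
theorem chkP_62600 : allRangeF (checkPointF cert) (nat_lit 62600) (nat_lit 25) = true := by decide +kernel
theorem chkP_62625 : allRangeF (checkPointF cert) (nat_lit 62625) (nat_lit 25) = true := by decide +kernel
theorem chkP_62650 : allRangeF (checkPointF cert) (nat_lit 62650) (nat_lit 25) = true := by decide +kernel
theorem chkP_62675 : allRangeF (checkPointF cert) (nat_lit 62675) (nat_lit 25) = true := by decide +kernel
theorem chkP_62700 : allRangeF (checkPointF cert) (nat_lit 62700) (nat_lit 25) = true := by decide +kernel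
theorem chkP_62725 : allRangeF (checkPointF cert) (nat_lit 62725) (nat_lit 25) = true := by decide +kernel
theorem chkP_62750 : allRangeF (checkPointF cert) (nat_lit 62750) (nat_lit 25) = true := by decide +kernel
theorem chkP_62775 : allRangeF (checkPointF cert) (nat_lit 62775) (nat_lit 25) = true := by decide +kernel
theorem chkP_62800 : allRangeF (checkPointF cert) (nat_lit 62800) (nat_lit 25) = true := by decide +kernel
theorem chkP_62825 : allRangeF (checkPointF cert) (nat_lit 62825) (nat_lit 25) = true := by decide +kernel
theorem chkP_62850 : allRangeF (checkPointF cert) (nat_lit 62850) (nat_lit 25) = true := by decide +kernel
theorem chkP_62875 : allRangeF (checkPointF cert) (nat_lit 62875) (nat_lit 25) = true := by decide +kernel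
theorem chkP_62900 : allRangeF (checkPointF cert) (nat_lit 62900) (nat_lit 25) = true := by decide +kernel
theorem chkP_62925 : allRangeF (checkPointF cert) (nat_lit 62925) (nat_lit 25) = true := by decide +kernel
theorem chkP_62950 : allRangeF (checkPointF cert) (nat_lit 62950) (nat_lit 25) = true := by decide +kernel
theorem chkP_62975 : allRangeF (checkPointF cert) (nat_lit 62975) (nat_lit 25) = true := by decide +kernel
theorem chkP_63000 : allRangeF (checkPointF cert) (nat_lit 63000) (nat_lit 25) = true := by decide +kernel
theorem chkP_63025 : allRangeF (checkPointF cert) (nat_lit 63025) (nat_lit 25) = true := by decide +kernel
theorem chkP_63050 : allRangeF (checkPointF cert) (nat_lit 63050) (nat_lit 25) = true := by decide +kernel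
theorem chkP_63075 : allRangeF (checkPointF cert) (nat_lit 63075) (nat_lit 25) = true := by decide +kernel
theorem chkP_63100 : allRangeF (checkPointF cert) (nat_lit 63100) (nat_lit 25) = true := by decide +kernel
theorem chkP_63125 : allRangeF (checkPointF cert) (nat_lit 63125) (nat_lit 25) = true := by decide +kernel
theorem chkP_63150 : allRangeF (checkPointF cert) (nat_lit 63150) (nat_lit 25) = true := by decide +kernel
theorem chkP_63175 : allRangeF (checkPointF cert) (nat_lit 63175) (nat_lit 25) = true := by decide +kernel
theorem chkP_63200 : allRangeF (checkPointF cert) (nat_lit 63200) (nat_lit 25) = true := by decide +kernel
theorem chkP_63225 : allRangeF (checkPointF cert) (nat_lit 63225) (nat_lit 25) = true := by decide +kernel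
theorem chkP_63250 : allRangeF (checkPointF cert) (nat_lit 63250) (nat_lit 25) = true := by decide +kernel
theorem chkP_63275 : allRangeF (checkPointF cert) (nat_lit 63275) (nat_lit 25) = true := by decide +kernel
theorem chkP_63300 : allRangeF (checkPointF cert) (nat_lit 63300) (nat_lit 25) = true := by decide +kernel
theorem chkP_63325 : allRangeF (checkPointF cert) (nat_lit 63325) (nat_lit 25) = true := by decide +kernel
theorem chkP_63350 : allRangeF (checkPointF cert) (nat_lit 63350) (nat_lit 25) = true := by decide +kernel
theorem chkP_63375 : allRangeF (checkPointF cert) (nat_lit 63375) (nat_lit 25) = true := by decide +kernel
theorem chkP_63400 : allRangeF (checkPointF cert) (nat_lit 63400) (nat_lit 25) = true := by decide +kernel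
theorem chkP_63425 : allRangeF (checkPointF cert) (nat_lit 63425) (nat_lit 25) = true := by decide +kernel
theorem chkP_63450 : allRangeF (checkPointF cert) (nat_lit 63450) (nat_lit 25) = true := by decide +kernel
theorem chkP_63475 : allRangeF (checkPointF cert) (nat_lit 63475) (nat_lit 25) = true := by decide +kernel
theorem chkP_63500 : allRangeF (checkPointF cert) (nat_lit 63500) (nat_lit 25) = true := by decide +kernel
theorem chkP_63525 : allRangeF (checkPointF cert) (nat_lit 63525) (nat_lit 25) = true := by decide +kernel
theorem chkP_63550 : allRangeF (checkPointF cert) (nat_lit 63550) (nat_lit 25) = true := by decide +kernel
theorem chkP_63575 : allRangeF (checkPointF cert) (nat_lit 63575) (nat_lit 25) = true := by decide +kernel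
theorem chkP_63600 : allRangeF (checkPointF cert) (nat_lit 63600) (nat_lit 25) = true := by decide +kernel
theorem chkP_63625 : allRangeF (checkPointF cert) (nat_lit 63625) (nat_lit 25) = true := by decide +kernel
theorem chkP_63650 : allRangeF (checkPointF cert) (nat_lit 63650) (nat_lit 25) = true := by decide +kernel
theorem chkP_63675 : allRangeF (checkPointF cert) (nat_lit 63675) (nat_lit 25) = true := by decide +kernel
theorem chkP_63700 : allRangeF (checkPointF cert) (nat_lit 63700) (nat_lit 25) = true := by decide +kernel
theorem chkP_63725 : allRangeF (checkPointF cert) (nat_lit 63725) (nat_lit 25) = true := by decide +kernel
theorem chkP_63750 : allRangeF (checkPointF cert) (nat_lit 63750) (nat_lit 25) = true := by decide +kernel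
theorem chkP_63775 : allRangeF (checkPointF cert) (nat_lit 63775) (nat_lit 25) = true := by decide +kernel
theorem chkP_63800 : allRangeF (checkPointF cert) (nat_lit 63800) (nat_lit 25) = true := by decide +kernel
theorem chkP_63825 : allRangeF (checkPointF cert) (nat_lit 63825) (nat_lit 25) = true := by decide +kernel
theorem chkP_63850 : allRangeF (checkPointF cert) (nat_lit 63850) (nat_lit 25) = true := by decide +kernel
theorem chkP_63875 : allRangeF (checkPointF cert) (nat_lit 63875) (nat_lit 25) = true := by decide +kernel
theorem chkP_63900 : allRangeF (checkPointF cert) (nat_lit 63900) (nat_lit 25) = true := by decide +kernel
theorem chkP_63925 : allRangeF (checkPointF cert) (nat_lit 63925) (nat_lit 25) = true := by decide +kernel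
theorem chkP_63950 : allRangeF (checkPointF cert) (nat_lit 63950) (nat_lit 25) = true := by decide +kernel
theorem chkP_63975 : allRangeF (checkPointF cert) (nat_lit 63975) (nat_lit 25) = true := by decide +kernel
theorem chkP_64000 : allRangeF (checkPointF cert) (nat_lit 64000) (nat_lit 25) = true := by decide +kernel
theorem chkP_64025 : allRangeF (checkPointF cert) (nat_lit 64025) (nat_lit 25) = true := by decide +kernel
theorem chkP_64050 : allRangeF (checkPointF cert) (nat_lit 64050) (nat_lit 25) = true := by decide +kernel
theorem chkP_64075 : allRangeF (checkPointF cert) (nat_lit 64075) (nat_lit 25) = true := by decide +kernel
theorem chkP_64100 : allRangeF (checkPointF cert) (nat_lit 64100) (nat_lit 25) = true := by decide +kernel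
theorem chkP_64125 : allRangeF (checkPointF cert) (nat_lit 64125) (nat_lit 25) = true := by decide +kernel
theorem chkP_64150 : allRangeF (checkPointF cert) (nat_lit 64150) (nat_lit 25) = true := by decide +kernel
theorem chkP_64175 : allRangeF (checkPointF cert) (nat_lit 64175) (nat_lit 25) = true := by decide +kernel
theorem chkP_64200 : allRangeF (checkPointF cert) (nat_lit 64200) (nat_lit 25) = true := by decide +kernel
theorem chkP_64225 : allRangeF (checkPointF cert) (nat_lit 64225) (nat_lit 25) = true := by decide +kernel
theorem chkP_64250 : allRangeF (checkPointF cert) (nat_lit 64250) (nat_lit 25) = true := by decide +kernel
theorem chkP_64275 : allRangeF (checkPointF cert) (nat_lit 64275) (nat_lit 25) = true := by decide +kernel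
theorem chkP_64300 : allRangeF (checkPointF cert) (nat_lit 64300) (nat_lit 25) = true := by decide +kernel
theorem chkP_64325 : allRangeF (checkPointF cert) (nat_lit 64325) (nat_lit 25) = true := by decide +kernel
theorem chkP_64350 : allRangeF (checkPointF cert) (nat_lit 64350) (nat_lit 25) = true := by decide +kernel
theorem chkP_64375 : allRangeF (checkPointF cert) (nat_lit 64375) (nat_lit 25) = true := by decide +kernel
theorem chkP_64400 : allRangeF (checkPointF cert) (nat_lit 64400) (nat_lit 25) = true := by decide +kernel
theorem chkP_64425 : allRangeF (checkPointF cert) (nat_lit 64425) (nat_lit 25) = true := by decide +kernel
theorem chkP_64450 : allRangeF (checkPointF cert) (nat_lit 64450) (nat_lit 25) = true := by decide +kernel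
theorem chkP_64475 : allRangeF (checkPointF cert) (nat_lit 64475) (nat_lit 25) = true := by decide +kernel
theorem chkP_64500 : allRangeF (checkPointF cert) (nat_lit 64500) (nat_lit 25) = true := by decide +kernel
theorem chkP_64525 : allRangeF (checkPointF cert) (nat_lit 64525) (nat_lit 25) = true := by decide +kernel
theorem chkP_64550 : allRangeF (checkPointF cert) (nat_lit 64550) (nat_lit 25) = true := by decide +kernel
theorem chkP_64575 : allRangeF (checkPointF cert) (nat_lit 64575) (nat_lit 25) = true := by decide +kernel
theorem chkP_64600 : allRangeF (checkPointF cert) (nat_lit 64600) (nat_lit 25) = true := by decide +kernel
theorem chkP_64625 : allRangeF (checkPointF cert) (nat_lit 64625) (nat_lit 25) = true := by decide +kernel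
theorem chkP_64650 : allRangeF (checkPointF cert) (nat_lit 64650) (nat_lit 25) = true := by decide +kernel
theorem chkP_64675 : allRangeF (checkPointF cert) (nat_lit 64675) (nat_lit 25) = true := by decide +kernel
theorem chkP_64700 : allRangeF (checkPointF cert) (nat_lit 64700) (nat_lit 25) = true := by decide +kernel
theorem chkP_64725 : allRangeF (checkPointF cert) (nat_lit 64725) (nat_lit 25) = true := by decide +kernel
theorem chkP_64750 : allRangeF (checkPointF cert) (nat_lit 64750) (nat_lit 25) = true := by decide +kernel
theorem chkP_64775 : allRangeF (checkPointF cert) (nat_lit 64775) (nat_lit 25) = true := by decide +kernel
theorem chkP_64800 : allRangeF (checkPointF cert) (nat_lit 64800) (nat_lit 25) = true := by decide +kernel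
theorem chkP_64825 : allRangeF (checkPointF cert) (nat_lit 64825) (nat_lit 25) = true := by decide +kernel
theorem chkP_64850 : allRangeF (checkPointF cert) (nat_lit 64850) (nat_lit 25) = true := by decide +kernel
theorem chkP_64875 : allRangeF (checkPointF cert) (nat_lit 64875) (nat_lit 25) = true := by decide +kernel
theorem chkP_64900 : allRangeF (checkPointF cert) (nat_lit 64900) (nat_lit 25) = true := by decide +kernel
theorem chkP_64925 : allRangeF (checkPointF cert) (nat_lit 64925) (nat_lit 25) = true := by decide +kernel
theorem chkP_64950 : allRangeF (checkPointF cert) (nat_lit 64950) (nat_lit 25) = true := by decide +kernel
theorem chkP_64975 : allRangeF (checkPointF cert) (nat_lit 64975) (nat_lit 25) = true := by decide +kernel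
theorem chkP_65000 : allRangeF (checkPointF cert) (nat_lit 65000) (nat_lit 25) = true := by decide +kernel
theorem chkP_65025 : allRangeF (checkPointF cert) (nat_lit 65025) (nat_lit 25) = true := by decide +kernel
theorem chkP_65050 : allRangeF (checkPointF cert) (nat_lit 65050) (nat_lit 25) = true := by decide +kernel
theorem chkP_65075 : allRangeF (checkPointF cert) (nat_lit 65075) (nat_lit 25) = true := by decide +kernel
theorem chkP_65100 : allRangeF (checkPointF cert) (nat_lit 65100) (nat_lit 25) = true := by decide +kernel
theorem chkP_65125 : allRangeF (checkPointF cert) (nat_lit 65125) (nat_lit 25) = true := by decide +kernel
theorem chkP_65150 : allRangeF (checkPointF cert) (nat_lit 65150) (nat_lit 25) = true := by decide +kernel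
theorem chkP_65175 : allRangeF (checkPointF cert) (nat_lit 65175) (nat_lit 25) = true := by decide +kernel
theorem chkP_65200 : allRangeF (checkPointF cert) (nat_lit 65200) (nat_lit 25) = true := by decide +kernel
theorem chkP_65225 : allRangeF (checkPointF cert) (nat_lit 65225) (nat_lit 25) = true := by decide +kernel
theorem chkP_65250 : allRangeF (checkPointF cert) (nat_lit 65250) (nat_lit 25) = true := by decide +kernel
theorem chkP_65275 : allRangeF (checkPointF cert) (nat_lit 65275) (nat_lit 25) = true := by decide +kernel
theorem chkP_65300 : allRangeF (checkPointF cert) (nat_lit 65300) (nat_lit 25) = true := by decide +kernel
theorem chkP_65325 : allRangeF (checkPointF cert) (nat_lit 65325) (nat_lit 25) = true := by decide +kernel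
theorem chkP_65350 : allRangeF (checkPointF cert) (nat_lit 65350) (nat_lit 25) = true := by decide +kernel
theorem chkP_65375 : allRangeF (checkPointF cert) (nat_lit 65375) (nat_lit 25) = true := by decide +kernel
theorem chkP_65400 : allRangeF (checkPointF cert) (nat_lit 65400) (nat_lit 25) = true := by decide +kernel
theorem chkP_65425 : allRangeF (checkPointF cert) (nat_lit 65425) (nat_lit 25) = true := by decide +kernel
theorem chkP_65450 : allRangeF (checkPointF cert) (nat_lit 65450) (nat_lit 25) = true := by decide +kernel
theorem chkP_65475 : allRangeF (checkPointF cert) (nat_lit 65475) (nat_lit 25) = true := by decide +kernel
theorem chkP_65500 : allRangeF (checkPointF cert) (nat_lit 65500) (nat_lit 25) = true := by decide +kernel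
theorem chkP_65525 : allRangeF (checkPointF cert) (nat_lit 65525) (nat_lit 25) = true := by decide +kernel
theorem chkP_65550 : allRangeF (checkPointF cert) (nat_lit 65550) (nat_lit 25) = true := by decide +kernel
theorem chkP_65575 : allRangeF (checkPointF cert) (nat_lit 65575) (nat_lit 25) = true := by decide +kernel
theorem chkP_65600 : allRangeF (checkPointF cert) (nat_lit 65600) (nat_lit 25) = true := by decide +kernel
theorem chkP_65625 : allRangeF (checkPointF cert) (nat_lit 65625) (nat_lit 25) = true := by decide +kernel
theorem chkP_65650 : allRangeF (checkPointF cert) (nat_lit 65650) (nat_lit 25) = true := by decide +kernel
theorem chkP_65675 : allRangeF (checkPointF cert) (nat_lit 65675) (nat_lit 25) = true := by decide +kernel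
theorem chkP_65700 : allRangeF (checkPointF cert) (nat_lit 65700) (nat_lit 25) = true := by decide +kernel
theorem chkP_65725 : allRangeF (checkPointF cert) (nat_lit 65725) (nat_lit 25) = true := by decide +kernel
theorem chkP_65750 : allRangeF (checkPointF cert) (nat_lit 65750) (nat_lit 25) = true := by decide +kernel
theorem chkP_65775 : allRangeF (checkPointF cert) (nat_lit 65775) (nat_lit 25) = true := by decide +kernel
theorem chkP_65800 : allRangeF (checkPointF cert) (nat_lit 65800) (nat_lit 25) = true := by decide +kernel
theorem chkP_65825 : allRangeF (checkPointF cert) (nat_lit 65825) (nat_lit 25) = true := by decide +kernel
theorem chkP_65850 : allRangeF (checkPointF cert) (nat_lit 65850) (nat_lit 25) = true := by decide +kernel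
theorem chkP_65875 : allRangeF (checkPointF cert) (nat_lit 65875) (nat_lit 25) = true := by decide +kernel
theorem chkP_65900 : allRangeF (checkPointF cert) (nat_lit 65900) (nat_lit 25) = true := by decide +kernel
theorem chkP_65925 : allRangeF (checkPointF cert) (nat_lit 65925) (nat_lit 25) = true := by decide +kernel
theorem chkP_65950 : allRangeF (checkPointF cert) (nat_lit 65950) (nat_lit 25) = true := by decide +kernel
theorem chkP_65975 : allRangeF (checkPointF cert) (nat_lit 65975) (nat_lit 25) = true := by decide +kernel
theorem chkP_66000 : allRangeF (checkPointF cert) (nat_lit 66000) (nat_lit 25) = true := by decide +kernel
theorem chkP_66025 : allRangeF (checkPointF cert) (nat_lit 66025) (nat_lit 25) = true := by decide +kernel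
theorem chkP_66050 : allRangeF (checkPointF cert) (nat_lit 66050) (nat_lit 25) = true := by decide +kernel
theorem chkP_66075 : allRangeF (checkPointF cert) (nat_lit 66075) (nat_lit 25) = true := by decide +kernel
theorem chkP_66100 : allRangeF (checkPointF cert) (nat_lit 66100) (nat_lit 25) = true := by decide +kernel
theorem chkP_66125 : allRangeF (checkPointF cert) (nat_lit 66125) (nat_lit 25) = true := by decide +kernel
theorem chkP_66150 : allRangeF (checkPointF cert) (nat_lit 66150) (nat_lit 25) = true := by decide +kernel
theorem chkP_66175 : allRangeF (checkPointF cert) (nat_lit 66175) (nat_lit 25) = true := by decide +kernel
theorem chkP_66200 : allRangeF (checkPointF cert) (nat_lit 66200) (nat_lit 25) = true := by decide +kernel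
theorem chkP_66225 : allRangeF (checkPointF cert) (nat_lit 66225) (nat_lit 25) = true := by decide +kernel
theorem chkP_66250 : allRangeF (checkPointF cert) (nat_lit 66250) (nat_lit 25) = true := by decide +kernel
theorem chkP_66275 : allRangeF (checkPointF cert) (nat_lit 66275) (nat_lit 25) = true := by decide +kernel
theorem chkP_66300 : allRangeF (checkPointF cert) (nat_lit 66300) (nat_lit 25) = true := by decide +kernel
theorem chkP_66325 : allRangeF (checkPointF cert) (nat_lit 66325) (nat_lit 25) = true := by decide +kernel
theorem chkP_66350 : allRangeF (checkPointF cert) (nat_lit 66350) (nat_lit 25) = true := by decide +kernel
theorem chkP_66375 : allRangeF (checkPointF cert) (nat_lit 66375) (nat_lit 25) = true := by decide +kernel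
theorem chkP_66400 : allRangeF (checkPointF cert) (nat_lit 66400) (nat_lit 25) = true := by decide +kernel
theorem chkP_66425 : allRangeF (checkPointF cert) (nat_lit 66425) (nat_lit 25) = true := by decide +kernel
theorem chkP_66450 : allRangeF (checkPointF cert) (nat_lit 66450) (nat_lit 25) = true := by decide +kernel
theorem chkP_66475 : allRangeF (checkPointF cert) (nat_lit 66475) (nat_lit 25) = true := by decide +kernel
theorem chkP_66500 : allRangeF (checkPointF cert) (nat_lit 66500) (nat_lit 25) = true := by decide +kernel
theorem chkP_66525 : allRangeF (checkPointF cert) (nat_lit 66525) (nat_lit 25) = true := by decide +kernel
theorem chkP_66550 : allRangeF (checkPointF cert) (nat_lit 66550) (nat_lit 25) = true := by decide +kernel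
theorem chkP_66575 : allRangeF (checkPointF cert) (nat_lit 66575) (nat_lit 25) = true := by decide +kernel
theorem chkP_66600 : allRangeF (checkPointF cert) (nat_lit 66600) (nat_lit 25) = true := by decide +kernel
theorem chkP_66625 : allRangeF (checkPointF cert) (nat_lit 66625) (nat_lit 25) = true := by decide +kernel
theorem chkP_66650 : allRangeF (checkPointF cert) (nat_lit 66650) (nat_lit 25) = true := by decide +kernel
theorem chkP_66675 : allRangeF (checkPointF cert) (nat_lit 66675) (nat_lit 25) = true := by decide +kernel
theorem chkP_66700 : allRangeF (checkPointF cert) (nat_lit 66700) (nat_lit 25) = true := by decide +kernel
theorem chkP_66725 : allRangeF (checkPointF cert) (nat_lit 66725) (nat_lit 25) = true := by decide +kernel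
theorem chkP_66750 : allRangeF (checkPointF cert) (nat_lit 66750) (nat_lit 25) = true := by decide +kernel
theorem chkP_66775 : allRangeF (checkPointF cert) (nat_lit 66775) (nat_lit 25) = true := by decide +kernel
theorem chkP_66800 : allRangeF (checkPointF cert) (nat_lit 66800) (nat_lit 25) = true := by decide +kernel
theorem chkP_66825 : allRangeF (checkPointF cert) (nat_lit 66825) (nat_lit 25) = true := by decide +kernel
theorem chkP_66850 : allRangeF (checkPointF cert) (nat_lit 66850) (nat_lit 25) = true := by decide +kernel
theorem chkP_66875 : allRangeF (checkPointF cert) (nat_lit 66875) (nat_lit 25) = true := by decide +kernel
theorem chkP_66900 : allRangeF (checkPointF cert) (nat_lit 66900) (nat_lit 25) = true := by decide +kernel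
theorem chkP_66925 : allRangeF (checkPointF cert) (nat_lit 66925) (nat_lit 25) = true := by decide +kernel
theorem chkP_66950 : allRangeF (checkPointF cert) (nat_lit 66950) (nat_lit 25) = true := by decide +kernel
theorem chkP_66975 : allRangeF (checkPointF cert) (nat_lit 66975) (nat_lit 25) = true := by decide +kernel
theorem chkP_67000 : allRangeF (checkPointF cert) (nat_lit 67000) (nat_lit 25) = true := by decide +kernel
theorem chkP_67025 : allRangeF (checkPointF cert) (nat_lit 67025) (nat_lit 25) = true := by decide +kernel
theorem chkP_67050 : allRangeF (checkPointF cert) (nat_lit 67050) (nat_lit 25) = true := by decide +kernel
theorem chkP_67075 : allRangeF (checkPointF cert) (nat_lit 67075) (nat_lit 25) = true := by decide +kernel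
theorem chkP_67100 : allRangeF (checkPointF cert) (nat_lit 67100) (nat_lit 25) = true := by decide +kernel
theorem chkP_67125 : allRangeF (checkPointF cert) (nat_lit 67125) (nat_lit 25) = true := by decide +kernel
theorem chkP_67150 : allRangeF (checkPointF cert) (nat_lit 67150) (nat_lit 25) = true := by decide +kernel
theorem chkP_67175 : allRangeF (checkPointF cert) (nat_lit 67175) (nat_lit 25) = true := by decide +kernel
theorem chkP_67200 : allRangeF (checkPointF cert) (nat_lit 67200) (nat_lit 25) = true := by decide +kernel
theorem chkP_67225 : allRangeF (checkPointF cert) (nat_lit 67225) (nat_lit 25) = true := by decide +kernel
theorem chkP_67250 : allRangeF (checkPointF cert) (nat_lit 67250) (nat_lit 25) = true := by decide +kernel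
theorem chkP_67275 : allRangeF (checkPointF cert) (nat_lit 67275) (nat_lit 25) = true := by decide +kernel
theorem chkP_67300 : allRangeF (checkPointF cert) (nat_lit 67300) (nat_lit 25) = true := by decide +kernel
theorem chkP_67325 : allRangeF (checkPointF cert) (nat_lit 67325) (nat_lit 25) = true := by decide +kernel
theorem chkP_67350 : allRangeF (checkPointF cert) (nat_lit 67350) (nat_lit 25) = true := by decide +kernel
theorem chkP_67375 : allRangeF (checkPointF cert) (nat_lit 67375) (nat_lit 25) = true := by decide +kernel
theorem chkP_67400 : allRangeF (checkPointF cert) (nat_lit 67400) (nat_lit 25) = true := by decide +kernel
theorem chkP_67425 : allRangeF (checkPointF cert) (nat_lit 67425) (nat_lit 25) = true := by decide +kernel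
theorem chkP_67450 : allRangeF (checkPointF cert) (nat_lit 67450) (nat_lit 25) = true := by decide +kernel
theorem chkP_67475 : allRangeF (checkPointF cert) (nat_lit 67475) (nat_lit 25) = true := by decide +kernel
theorem chkP_67500 : allRangeF (checkPointF cert) (nat_lit 67500) (nat_lit 25) = true := by decide +kernel
theorem chkP_67525 : allRangeF (checkPointF cert) (nat_lit 67525) (nat_lit 25) = true := by decide +kernel
theorem chkP_67550 : allRangeF (checkPointF cert) (nat_lit 67550) (nat_lit 25) = true := by decide +kernel
theorem chkP_67575 : allRangeF (checkPointF cert) (nat_lit 67575) (nat_lit 25) = true := by decide +kernel
theorem chkP_67600 : allRangeF (checkPointF cert) (nat_lit 67600) (nat_lit 25) = true := by decide +kernel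
theorem chkP_67625 : allRangeF (checkPointF cert) (nat_lit 67625) (nat_lit 25) = true := by decide +kernel
theorem chkP_67650 : allRangeF (checkPointF cert) (nat_lit 67650) (nat_lit 25) = true := by decide +kernel
theorem chkP_67675 : allRangeF (checkPointF cert) (nat_lit 67675) (nat_lit 25) = true := by decide +kernel
theorem chkP_67700 : allRangeF (checkPointF cert) (nat_lit 67700) (nat_lit 25) = true := by decide +kernel
theorem chkP_67725 : allRangeF (checkPointF cert) (nat_lit 67725) (nat_lit 25) = true := by decide +kernel
theorem chkP_67750 : allRangeF (checkPointF cert) (nat_lit 67750) (nat_lit 25) = true := by decide +kernel
theorem chkP_67775 : allRangeF (checkPointF cert) (nat_lit 67775) (nat_lit 25) = true := by decide +kernel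
theorem chkP_67800 : allRangeF (checkPointF cert) (nat_lit 67800) (nat_lit 25) = true := by decide +kernel
theorem chkP_67825 : allRangeF (checkPointF cert) (nat_lit 67825) (nat_lit 25) = true := by decide +kernel
theorem chkP_67850 : allRangeF (checkPointF cert) (nat_lit 67850) (nat_lit 25) = true := by decide +kernel
theorem chkP_67875 : allRangeF (checkPointF cert) (nat_lit 67875) (nat_lit 25) = true := by decide +kernel
theorem chkP_67900 : allRangeF (checkPointF cert) (nat_lit 67900) (nat_lit 25) = true := by decide +kernel
theorem chkP_67925 : allRangeF (checkPointF cert) (nat_lit 67925) (nat_lit 25) = true := by decide +kernel
theorem chkP_67950 : allRangeF (checkPointF cert) (nat_lit 67950) (nat_lit 25) = true := by decide +kernel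
theorem chkP_67975 : allRangeF (checkPointF cert) (nat_lit 67975) (nat_lit 25) = true := by decide +kernel
theorem chkP_68000 : allRangeF (checkPointF cert) (nat_lit 68000) (nat_lit 25) = true := by decide +kernel
theorem chkP_68025 : allRangeF (checkPointF cert) (nat_lit 68025) (nat_lit 25) = true := by decide +kernel
theorem chkP_68050 : allRangeF (checkPointF cert) (nat_lit 68050) (nat_lit 25) = true := by decide +kernel
theorem chkP_68075 : allRangeF (checkPointF cert) (nat_lit 68075) (nat_lit 25) = true := by decide +kernel
theorem chkP_68100 : allRangeF (checkPointF cert) (nat_lit 68100) (nat_lit 25) = true := by decide +kernel
theorem chkP_68125 : allRangeF (checkPointF cert) (nat_lit 68125) (nat_lit 25) = true := by decide +kernel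
theorem chkP_68150 : allRangeF (checkPointF cert) (nat_lit 68150) (nat_lit 25) = true := by decide +kernel
theorem chkP_68175 : allRangeF (checkPointF cert) (nat_lit 68175) (nat_lit 25) = true := by decide +kernel
theorem chkP_68200 : allRangeF (checkPointF cert) (nat_lit 68200) (nat_lit 25) = true := by decide +kernel
theorem chkP_68225 : allRangeF (checkPointF cert) (nat_lit 68225) (nat_lit 25) = true := by decide +kernel
theorem chkP_68250 : allRangeF (checkPointF cert) (nat_lit 68250) (nat_lit 25) = true := by decide +kernel
theorem chkP_68275 : allRangeF (checkPointF cert) (nat_lit 68275) (nat_lit 25) = true := by decide +kernel
theorem chkP_68300 : allRangeF (checkPointF cert) (nat_lit 68300) (nat_lit 25) = true := by decide +kernel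
theorem chkP_68325 : allRangeF (checkPointF cert) (nat_lit 68325) (nat_lit 25) = true := by decide +kernel
theorem chkP_68350 : allRangeF (checkPointF cert) (nat_lit 68350) (nat_lit 25) = true := by decide +kernel
theorem chkP_68375 : allRangeF (checkPointF cert) (nat_lit 68375) (nat_lit 25) = true := by decide +kernel
theorem chkP_68400 : allRangeF (checkPointF cert) (nat_lit 68400) (nat_lit 25) = true := by decide +kernel
theorem chkP_68425 : allRangeF (checkPointF cert) (nat_lit 68425) (nat_lit 25) = true := by decide +kernel
theorem chkP_68450 : allRangeF (checkPointF cert) (nat_lit 68450) (nat_lit 25) = true := by decide +kernel
theorem chkP_68475 : allRangeF (checkPointF cert) (nat_lit 68475) (nat_lit 25) = true := by decide +kernel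
theorem chkP_68500 : allRangeF (checkPointF cert) (nat_lit 68500) (nat_lit 25) = true := by decide +kernel
theorem chkP_68525 : allRangeF (checkPointF cert) (nat_lit 68525) (nat_lit 25) = true := by decide +kernel
theorem chkP_68550 : allRangeF (checkPointF cert) (nat_lit 68550) (nat_lit 25) = true := by decide +kernel
theorem chkP_68575 : allRangeF (checkPointF cert) (nat_lit 68575) (nat_lit 25) = true := by decide +kernel
theorem chkP_68600 : allRangeF (checkPointF cert) (nat_lit 68600) (nat_lit 25) = true := by decide +kernel
theorem chkP_68625 : allRangeF (checkPointF cert) (nat_lit 68625) (nat_lit 25) = true := by decide +kernel
theorem chkP_68650 : allRangeF (checkPointF cert) (nat_lit 68650) (nat_lit 25) = true := by decide +kernel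
theorem chkP_68675 : allRangeF (checkPointF cert) (nat_lit 68675) (nat_lit 25) = true := by decide +kernel
theorem chkP_68700 : allRangeF (checkPointF cert) (nat_lit 68700) (nat_lit 25) = true := by decide +kernel
theorem chkP_68725 : allRangeF (checkPointF cert) (nat_lit 68725) (nat_lit 25) = true := by decide +kernel
theorem chkP_68750 : allRangeF (checkPointF cert) (nat_lit 68750) (nat_lit 25) = true := by decide +kernel
theorem chkP_68775 : allRangeF (checkPointF cert) (nat_lit 68775) (nat_lit 25) = true := by decide +kernel
theorem chkP_68800 : allRangeF (checkPointF cert) (nat_lit 68800) (nat_lit 25) = true := by decide +kernel
theorem chkP_68825 : allRangeF (checkPointF cert) (nat_lit 68825) (nat_lit 25) = true := by decide +kernel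
theorem chkP_68850 : allRangeF (checkPointF cert) (nat_lit 68850) (nat_lit 25) = true := by decide +kernel
theorem chkP_68875 : allRangeF (checkPointF cert) (nat_lit 68875) (nat_lit 25) = true := by decide +kernel
theorem chkP_68900 : allRangeF (checkPointF cert) (nat_lit 68900) (nat_lit 25) = true := by decide +kernel
theorem chkP_68925 : allRangeF (checkPointF cert) (nat_lit 68925) (nat_lit 25) = true := by decide +kernel
theorem chkP_68950 : allRangeF (checkPointF cert) (nat_lit 68950) (nat_lit 25) = true := by decide +kernel
theorem chkP_68975 : allRangeF (checkPointF cert) (nat_lit 68975) (nat_lit 25) = true := by decide +kernel
theorem chkP_69000 : allRangeF (checkPointF cert) (nat_lit 69000) (nat_lit 25) = true := by decide +kernel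
theorem chkP_69025 : allRangeF (checkPointF cert) (nat_lit 69025) (nat_lit 25) = true := by decide +kernel
theorem chkP_69050 : allRangeF (checkPointF cert) (nat_lit 69050) (nat_lit 25) = true := by decide +kernel

theorem ptsRange_8 : ∀ i, 61400 ≤ i → i < 69075 → checkPoint cert i = true := by
  intro i hlo hhi
  rcases Nat.lt_or_ge i 65225 with h1 | h1
  · skip
    rcases Nat.lt_or_ge i 63300 with h2 | h2
    · skip
      rcases Nat.lt_or_ge i 62350 with h3 | h3
      · skip
        rcases Nat.lt_or_ge i 61875 with h4 | h4
        · skip
          rcases Nat.lt_or_ge i 61625 with h5 | h5
          · skip
            rcases Nat.lt_or_ge i 61500 with h6 | h6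
            · skip
              rcases Nat.lt_or_ge i 61450 with h7 | h7
              · skip
                rcases Nat.lt_or_ge i 61425 with h8 | h8
                · skip
                  exact allRangeF_sound _ _ (checkPointF_eq cert) 61400 25 chkP_61400 i (by omega) (by omega)
                · skip
                  exact allRangeF_sound _ _ (checkPointF_eq cert) 61425 25 chkP_61425 i (by omega) (by omega)
              · skip
                rcases Nat.lt_or_ge i 61475 with h8 | h8
                · skip
                  exact allRangeF_sound _ _ (checkPointF_eq cert) 61450 25 chkP_61450 i (by omega) (by omega)
                · skip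
                  exact allRangeF_sound _ _ (checkPointF_eq cert) 61475 25 chkP_61475 i (by omega) (by omega)
            · skip
              rcases Nat.lt_or_ge i 61550 with h7 | h7
              · skip
                rcases Nat.lt_or_ge i 61525 with h8 | h8
                · skip
                  exact allRangeF_sound _ _ (checkPointF_eq cert) 61500 25 chkP_61500 i (by omega) (by omega)
                · skip
                  exact allRangeF_sound _ _ (checkPointF_eq cert) 61525 25 chkP_61525 i (by omega) (by omega)
              · skip
                rcases Nat.lt_or_ge i 61575 with h8 | h8
                · skip
                  exact allRangeF_sound _ _ (checkPointF_eq cert) 61550 25 chkP_61550 i (by omega) (by omega)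
                · skip
                  rcases Nat.lt_or_ge i 61600 with h9 | h9
                  · skip
                    exact allRangeF_sound _ _ (checkPointF_eq cert) 61575 25 chkP_61575 i (by omega) (by omega)
                  · skip
                    exact allRangeF_sound _ _ (checkPointF_eq cert) 61600 25 chkP_61600 i (by omega) (by omega)
          · skip
            rcases Nat.lt_or_ge i 61750 with h6 | h6
            · skip
              rcases Nat.lt_or_ge i 61675 with h7 | h7
              · skip
                rcases Nat.lt_or_ge i 61650 with h8 | h8
                · skip
                  exact allRangeF_sound _ _ (checkPointF_eq cert) 61625 25 chkP_61625 i (by omega) (by omega)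
                · skip
                  exact allRangeF_sound _ _ (checkPointF_eq cert) 61650 25 chkP_61650 i (by omega) (by omega)
              · skip
                rcases Nat.lt_or_ge i 61700 with h8 | h8
                · skip
                  exact allRangeF_sound _ _ (checkPointF_eq cert) 61675 25 chkP_61675 i (by omega) (by omega)
                · skip
                  rcases Nat.lt_or_ge i 61725 with h9 | h9
                  · skip
                    exact allRangeF_sound _ _ (checkPointF_eq cert) 61700 25 chkP_61700 i (by omega) (by omega)
                  · skip
                    exact allRangeF_sound _ _ (checkPointF_eq cert) 61725 25 chkP_61725 i (by omega) (by omega)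
            · skip
              rcases Nat.lt_or_ge i 61800 with h7 | h7
              · skip
                rcases Nat.lt_or_ge i 61775 with h8 | h8
                · skip
                  exact allRangeF_sound _ _ (checkPointF_eq cert) 61750 25 chkP_61750 i (by omega) (by omega)
                · skip
                  exact allRangeF_sound _ _ (checkPointF_eq cert) 61775 25 chkP_61775 i (by omega) (by omega)
              · skip
                rcases Nat.lt_or_ge i 61825 with h8 | h8
                · skip
                  exact allRangeF_sound _ _ (checkPointF_eq cert) 61800 25 chkP_61800 i (by omega) (by omega)
                · skip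
                  rcases Nat.lt_or_ge i 61850 with h9 | h9
                  · skip
                    exact allRangeF_sound _ _ (checkPointF_eq cert) 61825 25 chkP_61825 i (by omega) (by omega)
                  · skip
                    exact allRangeF_sound _ _ (checkPointF_eq cert) 61850 25 chkP_61850 i (by omega) (by omega)
        · skip
          rcases Nat.lt_or_ge i 62100 with h5 | h5
          · skip
            rcases Nat.lt_or_ge i 61975 with h6 | h6
            · skip
              rcases Nat.lt_or_ge i 61925 with h7 | h7
              · skip
                rcases Nat.lt_or_ge i 61900 with h8 | h8
                · skip
                  exact allRangeF_sound _ _ (checkPointF_eq cert) 61875 25 chkP_61875 i (by omega) (by omega)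
                · skip
                  exact allRangeF_sound _ _ (checkPointF_eq cert) 61900 25 chkP_61900 i (by omega) (by omega)
              · skip
                rcases Nat.lt_or_ge i 61950 with h8 | h8
                · skip
                  exact allRangeF_sound _ _ (checkPointF_eq cert) 61925 25 chkP_61925 i (by omega) (by omega)
                · skip
                  exact allRangeF_sound _ _ (checkPointF_eq cert) 61950 25 chkP_61950 i (by omega) (by omega)
            · skip
              rcases Nat.lt_or_ge i 62025 with h7 | h7
              · skip
                rcases Nat.lt_or_ge i 62000 with h8 | h8
                · skip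
                  exact allRangeF_sound _ _ (checkPointF_eq cert) 61975 25 chkP_61975 i (by omega) (by omega)
                · skip
                  exact allRangeF_sound _ _ (checkPointF_eq cert) 62000 25 chkP_62000 i (by omega) (by omega)
              · skip
                rcases Nat.lt_or_ge i 62050 with h8 | h8
                · skip
                  exact allRangeF_sound _ _ (checkPointF_eq cert) 62025 25 chkP_62025 i (by omega) (by omega)
                · skip
                  rcases Nat.lt_or_ge i 62075 with h9 | h9
                  · skip
                    exact allRangeF_sound _ _ (checkPointF_eq cert) 62050 25 chkP_62050 i (by omega) (by omega)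
                  · skip
                    exact allRangeF_sound _ _ (checkPointF_eq cert) 62075 25 chkP_62075 i (by omega) (by omega)
          · skip
            rcases Nat.lt_or_ge i 62225 with h6 | h6
            · skip
              rcases Nat.lt_or_ge i 62150 with h7 | h7
              · skip
                rcases Nat.lt_or_ge i 62125 with h8 | h8
                · skip
                  exact allRangeF_sound _ _ (checkPointF_eq cert) 62100 25 chkP_62100 i (by omega) (by omega)
                · skip
                  exact allRangeF_sound _ _ (checkPointF_eq cert) 62125 25 chkP_62125 i (by omega) (by omega)
              · skip
                rcases Nat.lt_or_ge i 62175 with h8 | h8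
                · skip
                  exact allRangeF_sound _ _ (checkPointF_eq cert) 62150 25 chkP_62150 i (by omega) (by omega)
                · skip
                  rcases Nat.lt_or_ge i 62200 with h9 | h9
                  · skip
                    exact allRangeF_sound _ _ (checkPointF_eq cert) 62175 25 chkP_62175 i (by omega) (by omega)
                  · skip
                    exact allRangeF_sound _ _ (checkPointF_eq cert) 62200 25 chkP_62200 i (by omega) (by omega)
            · skip
              rcases Nat.lt_or_ge i 62275 with h7 | h7
              · skip
                rcases Nat.lt_or_ge i 62250 with h8 | h8
                · skip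
                  exact allRangeF_sound _ _ (checkPointF_eq cert) 62225 25 chkP_62225 i (by omega) (by omega)
                · skip
                  exact allRangeF_sound _ _ (checkPointF_eq cert) 62250 25 chkP_62250 i (by omega) (by omega)
              · skip
                rcases Nat.lt_or_ge i 62300 with h8 | h8
                · skip
                  exact allRangeF_sound _ _ (checkPointF_eq cert) 62275 25 chkP_62275 i (by omega) (by omega)
                · skip
                  rcases Nat.lt_or_ge i 62325 with h9 | h9
                  · skip
                    exact allRangeF_sound _ _ (checkPointF_eq cert) 62300 25 chkP_62300 i (by omega) (by omega)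
                  · skip
                    exact allRangeF_sound _ _ (checkPointF_eq cert) 62325 25 chkP_62325 i (by omega) (by omega)
      · skip
        rcases Nat.lt_or_ge i 62825 with h4 | h4
        · skip
          rcases Nat.lt_or_ge i 62575 with h5 | h5
          · skip
            rcases Nat.lt_or_ge i 62450 with h6 | h6
            · skip
              rcases Nat.lt_or_ge i 62400 with h7 | h7
              · skip
                rcases Nat.lt_or_ge i 62375 with h8 | h8
                · skip
                  exact allRangeF_sound _ _ (checkPointF_eq cert) 62350 25 chkP_62350 i (by omega) (by omega)
                · skip
                  exact allRangeF_sound _ _ (checkPointF_eq cert) 62375 25 chkP_62375 i (by omega) (by omega)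
              · skip
                rcases Nat.lt_or_ge i 62425 with h8 | h8
                · skip
                  exact allRangeF_sound _ _ (checkPointF_eq cert) 62400 25 chkP_62400 i (by omega) (by omega)
                · skip
                  exact allRangeF_sound _ _ (checkPointF_eq cert) 62425 25 chkP_62425 i (by omega) (by omega)
            · skip
              rcases Nat.lt_or_ge i 62500 with h7 | h7
              · skip
                rcases Nat.lt_or_ge i 62475 with h8 | h8
                · skip
                  exact allRangeF_sound _ _ (checkPointF_eq cert) 62450 25 chkP_62450 i (by omega) (by omega)
                · skip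
                  exact allRangeF_sound _ _ (checkPointF_eq cert) 62475 25 chkP_62475 i (by omega) (by omega)
              · skip
                rcases Nat.lt_or_ge i 62525 with h8 | h8
                · skip
                  exact allRangeF_sound _ _ (checkPointF_eq cert) 62500 25 chkP_62500 i (by omega) (by omega)
                · skip
                  rcases Nat.lt_or_ge i 62550 with h9 | h9
                  · skip
                    exact allRangeF_sound _ _ (checkPointF_eq cert) 62525 25 chkP_62525 i (by omega) (by omega)
                  · skip
                    exact allRangeF_sound _ _ (checkPointF_eq cert) 62550 25 chkP_62550 i (by omega) (by omega)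
          · skip
            rcases Nat.lt_or_ge i 62700 with h6 | h6
            · skip
              rcases Nat.lt_or_ge i 62625 with h7 | h7
              · skip
                rcases Nat.lt_or_ge i 62600 with h8 | h8
                · skip
                  exact allRangeF_sound _ _ (checkPointF_eq cert) 62575 25 chkP_62575 i (by omega) (by omega)
                · skip
                  exact allRangeF_sound _ _ (checkPointF_eq cert) 62600 25 chkP_62600 i (by omega) (by omega)
              · skip
                rcases Nat.lt_or_ge i 62650 with h8 | h8
                · skip
                  exact allRangeF_sound _ _ (checkPointF_eq cert) 62625 25 chkP_62625 i (by omega) (by omega)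
                · skip
                  rcases Nat.lt_or_ge i 62675 with h9 | h9
                  · skip
                    exact allRangeF_sound _ _ (checkPointF_eq cert) 62650 25 chkP_62650 i (by omega) (by omega)
                  · skip
                    exact allRangeF_sound _ _ (checkPointF_eq cert) 62675 25 chkP_62675 i (by omega) (by omega)
            · skip
              rcases Nat.lt_or_ge i 62750 with h7 | h7
              · skip
                rcases Nat.lt_or_ge i 62725 with h8 | h8
                · skip
                  exact allRangeF_sound _ _ (checkPointF_eq cert) 62700 25 chkP_62700 i (by omega) (by omega)
                · skip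
                  exact allRangeF_sound _ _ (checkPointF_eq cert) 62725 25 chkP_62725 i (by omega) (by omega)
              · skip
                rcases Nat.lt_or_ge i 62775 with h8 | h8
                · skip
                  exact allRangeF_sound _ _ (checkPointF_eq cert) 62750 25 chkP_62750 i (by omega) (by omega)
                · skip
                  rcases Nat.lt_or_ge i 62800 with h9 | h9
                  · skip
                    exact allRangeF_sound _ _ (checkPointF_eq cert) 62775 25 chkP_62775 i (by omega) (by omega)
                  · skip
                    exact allRangeF_sound _ _ (checkPointF_eq cert) 62800 25 chkP_62800 i (by omega) (by omega)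
        · skip
          rcases Nat.lt_or_ge i 63050 with h5 | h5
          · skip
            rcases Nat.lt_or_ge i 62925 with h6 | h6
            · skip
              rcases Nat.lt_or_ge i 62875 with h7 | h7
              · skip
                rcases Nat.lt_or_ge i 62850 with h8 | h8
                · skip
                  exact allRangeF_sound _ _ (checkPointF_eq cert) 62825 25 chkP_62825 i (by omega) (by omega)
                · skip
                  exact allRangeF_sound _ _ (checkPointF_eq cert) 62850 25 chkP_62850 i (by omega) (by omega)
              · skip
                rcases Nat.lt_or_ge i 62900 with h8 | h8
                · skip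
                  exact allRangeF_sound _ _ (checkPointF_eq cert) 62875 25 chkP_62875 i (by omega) (by omega)
                · skip
                  exact allRangeF_sound _ _ (checkPointF_eq cert) 62900 25 chkP_62900 i (by omega) (by omega)
            · skip
              rcases Nat.lt_or_ge i 62975 with h7 | h7
              · skip
                rcases Nat.lt_or_ge i 62950 with h8 | h8
                · skip
                  exact allRangeF_sound _ _ (checkPointF_eq cert) 62925 25 chkP_62925 i (by omega) (by omega)
                · skip
                  exact allRangeF_sound _ _ (checkPointF_eq cert) 62950 25 chkP_62950 i (by omega) (by omega)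
              · skip
                rcases Nat.lt_or_ge i 63000 with h8 | h8
                · skip
                  exact allRangeF_sound _ _ (checkPointF_eq cert) 62975 25 chkP_62975 i (by omega) (by omega)
                · skip
                  rcases Nat.lt_or_ge i 63025 with h9 | h9
                  · skip
                    exact allRangeF_sound _ _ (checkPointF_eq cert) 63000 25 chkP_63000 i (by omega) (by omega)
                  · skip
                    exact allRangeF_sound _ _ (checkPointF_eq cert) 63025 25 chkP_63025 i (by omega) (by omega)
          · skip
            rcases Nat.lt_or_ge i 63175 with h6 | h6
            · skip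
              rcases Nat.lt_or_ge i 63100 with h7 | h7
              · skip
                rcases Nat.lt_or_ge i 63075 with h8 | h8
                · skip
                  exact allRangeF_sound _ _ (checkPointF_eq cert) 63050 25 chkP_63050 i (by omega) (by omega)
                · skip
                  exact allRangeF_sound _ _ (checkPointF_eq cert) 63075 25 chkP_63075 i (by omega) (by omega)
              · skip
                rcases Nat.lt_or_ge i 63125 with h8 | h8
                · skip
                  exact allRangeF_sound _ _ (checkPointF_eq cert) 63100 25 chkP_63100 i (by omega) (by omega)
                · skip
                  rcases Nat.lt_or_ge i 63150 with h9 | h9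
                  · skip
                    exact allRangeF_sound _ _ (checkPointF_eq cert) 63125 25 chkP_63125 i (by omega) (by omega)
                  · skip
                    exact allRangeF_sound _ _ (checkPointF_eq cert) 63150 25 chkP_63150 i (by omega) (by omega)
            · skip
              rcases Nat.lt_or_ge i 63225 with h7 | h7
              · skip
                rcases Nat.lt_or_ge i 63200 with h8 | h8
                · skip
                  exact allRangeF_sound _ _ (checkPointF_eq cert) 63175 25 chkP_63175 i (by omega) (by omega)
                · skip
                  exact allRangeF_sound _ _ (checkPointF_eq cert) 63200 25 chkP_63200 i (by omega) (by omega)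
              · skip
                rcases Nat.lt_or_ge i 63250 with h8 | h8
                · skip
                  exact allRangeF_sound _ _ (checkPointF_eq cert) 63225 25 chkP_63225 i (by omega) (by omega)
                · skip
                  rcases Nat.lt_or_ge i 63275 with h9 | h9
                  · skip
                    exact allRangeF_sound _ _ (checkPointF_eq cert) 63250 25 chkP_63250 i (by omega) (by omega)
                  · skip
                    exact allRangeF_sound _ _ (checkPointF_eq cert) 63275 25 chkP_63275 i (by omega) (by omega)
    · skip
      rcases Nat.lt_or_ge i 64250 with h3 | h3
      · skip
        rcases Nat.lt_or_ge i 63775 with h4 | h4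
        · skip
          rcases Nat.lt_or_ge i 63525 with h5 | h5
          · skip
            rcases Nat.lt_or_ge i 63400 with h6 | h6
            · skip
              rcases Nat.lt_or_ge i 63350 with h7 | h7
              · skip
                rcases Nat.lt_or_ge i 63325 with h8 | h8
                · skip
                  exact allRangeF_sound _ _ (checkPointF_eq cert) 63300 25 chkP_63300 i (by omega) (by omega)
                · skip
                  exact allRangeF_sound _ _ (checkPointF_eq cert) 63325 25 chkP_63325 i (by omega) (by omega)
              · skip
                rcases Nat.lt_or_ge i 63375 with h8 | h8
                · skip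
                  exact allRangeF_sound _ _ (checkPointF_eq cert) 63350 25 chkP_63350 i (by omega) (by omega)
                · skip
                  exact allRangeF_sound _ _ (checkPointF_eq cert) 63375 25 chkP_63375 i (by omega) (by omega)
            · skip
              rcases Nat.lt_or_ge i 63450 with h7 | h7
              · skip
                rcases Nat.lt_or_ge i 63425 with h8 | h8
                · skip
                  exact allRangeF_sound _ _ (checkPointF_eq cert) 63400 25 chkP_63400 i (by omega) (by omega)
                · skip
                  exact allRangeF_sound _ _ (checkPointF_eq cert) 63425 25 chkP_63425 i (by omega) (by omega)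
              · skip
                rcases Nat.lt_or_ge i 63475 with h8 | h8
                · skip
                  exact allRangeF_sound _ _ (checkPointF_eq cert) 63450 25 chkP_63450 i (by omega) (by omega)
                · skip
                  rcases Nat.lt_or_ge i 63500 with h9 | h9
                  · skip
                    exact allRangeF_sound _ _ (checkPointF_eq cert) 63475 25 chkP_63475 i (by omega) (by omega)
                  · skip
                    exact allRangeF_sound _ _ (checkPointF_eq cert) 63500 25 chkP_63500 i (by omega) (by omega)
          · skip
            rcases Nat.lt_or_ge i 63650 with h6 | h6
            · skip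
              rcases Nat.lt_or_ge i 63575 with h7 | h7
              · skip
                rcases Nat.lt_or_ge i 63550 with h8 | h8
                · skip
                  exact allRangeF_sound _ _ (checkPointF_eq cert) 63525 25 chkP_63525 i (by omega) (by omega)
                · skip
                  exact allRangeF_sound _ _ (checkPointF_eq cert) 63550 25 chkP_63550 i (by omega) (by omega)
              · skip
                rcases Nat.lt_or_ge i 63600 with h8 | h8
                · skip
                  exact allRangeF_sound _ _ (checkPointF_eq cert) 63575 25 chkP_63575 i (by omega) (by omega)
                · skip
                  rcases Nat.lt_or_ge i 63625 with h9 | h9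
                  · skip
                    exact allRangeF_sound _ _ (checkPointF_eq cert) 63600 25 chkP_63600 i (by omega) (by omega)
                  · skip
                    exact allRangeF_sound _ _ (checkPointF_eq cert) 63625 25 chkP_63625 i (by omega) (by omega)
            · skip
              rcases Nat.lt_or_ge i 63700 with h7 | h7
              · skip
                rcases Nat.lt_or_ge i 63675 with h8 | h8
                · skip
                  exact allRangeF_sound _ _ (checkPointF_eq cert) 63650 25 chkP_63650 i (by omega) (by omega)
                · skip
                  exact allRangeF_sound _ _ (checkPointF_eq cert) 63675 25 chkP_63675 i (by omega) (by omega)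
              · skip
                rcases Nat.lt_or_ge i 63725 with h8 | h8
                · skip
                  exact allRangeF_sound _ _ (checkPointF_eq cert) 63700 25 chkP_63700 i (by omega) (by omega)
                · skip
                  rcases Nat.lt_or_ge i 63750 with h9 | h9
                  · skip
                    exact allRangeF_sound _ _ (checkPointF_eq cert) 63725 25 chkP_63725 i (by omega) (by omega)
                  · skip
                    exact allRangeF_sound _ _ (checkPointF_eq cert) 63750 25 chkP_63750 i (by omega) (by omega)
        · skip
          rcases Nat.lt_or_ge i 64000 with h5 | h5
          · skip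
            rcases Nat.lt_or_ge i 63875 with h6 | h6
            · skip
              rcases Nat.lt_or_ge i 63825 with h7 | h7
              · skip
                rcases Nat.lt_or_ge i 63800 with h8 | h8
                · skip
                  exact allRangeF_sound _ _ (checkPointF_eq cert) 63775 25 chkP_63775 i (by omega) (by omega)
                · skip
                  exact allRangeF_sound _ _ (checkPointF_eq cert) 63800 25 chkP_63800 i (by omega) (by omega)
              · skip
                rcases Nat.lt_or_ge i 63850 with h8 | h8
                · skip
                  exact allRangeF_sound _ _ (checkPointF_eq cert) 63825 25 chkP_63825 i (by omega) (by omega)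
                · skip
                  exact allRangeF_sound _ _ (checkPointF_eq cert) 63850 25 chkP_63850 i (by omega) (by omega)
            · skip
              rcases Nat.lt_or_ge i 63925 with h7 | h7
              · skip
                rcases Nat.lt_or_ge i 63900 with h8 | h8
                · skip
                  exact allRangeF_sound _ _ (checkPointF_eq cert) 63875 25 chkP_63875 i (by omega) (by omega)
                · skip
                  exact allRangeF_sound _ _ (checkPointF_eq cert) 63900 25 chkP_63900 i (by omega) (by omega)
              · skip
                rcases Nat.lt_or_ge i 63950 with h8 | h8
                · skip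
                  exact allRangeF_sound _ _ (checkPointF_eq cert) 63925 25 chkP_63925 i (by omega) (by omega)
                · skip
                  rcases Nat.lt_or_ge i 63975 with h9 | h9
                  · skip
                    exact allRangeF_sound _ _ (checkPointF_eq cert) 63950 25 chkP_63950 i (by omega) (by omega)
                  · skip
                    exact allRangeF_sound _ _ (checkPointF_eq cert) 63975 25 chkP_63975 i (by omega) (by omega)
          · skip
            rcases Nat.lt_or_ge i 64125 with h6 | h6
            · skip
              rcases Nat.lt_or_ge i 64050 with h7 | h7
              · skip
                rcases Nat.lt_or_ge i 64025 with h8 | h8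
                · skip
                  exact allRangeF_sound _ _ (checkPointF_eq cert) 64000 25 chkP_64000 i (by omega) (by omega)
                · skip
                  exact allRangeF_sound _ _ (checkPointF_eq cert) 64025 25 chkP_64025 i (by omega) (by omega)
              · skip
                rcases Nat.lt_or_ge i 64075 with h8 | h8
                · skip
                  exact allRangeF_sound _ _ (checkPointF_eq cert) 64050 25 chkP_64050 i (by omega) (by omega)
                · skip
                  rcases Nat.lt_or_ge i 64100 with h9 | h9
                  · skip
                    exact allRangeF_sound _ _ (checkPointF_eq cert) 64075 25 chkP_64075 i (by omega) (by omega)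
                  · skip
                    exact allRangeF_sound _ _ (checkPointF_eq cert) 64100 25 chkP_64100 i (by omega) (by omega)
            · skip
              rcases Nat.lt_or_ge i 64175 with h7 | h7
              · skip
                rcases Nat.lt_or_ge i 64150 with h8 | h8
                · skip
                  exact allRangeF_sound _ _ (checkPointF_eq cert) 64125 25 chkP_64125 i (by omega) (by omega)
                · skip
                  exact allRangeF_sound _ _ (checkPointF_eq cert) 64150 25 chkP_64150 i (by omega) (by omega)
              · skip
                rcases Nat.lt_or_ge i 64200 with h8 | h8
                · skip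
                  exact allRangeF_sound _ _ (checkPointF_eq cert) 64175 25 chkP_64175 i (by omega) (by omega)
                · skip
                  rcases Nat.lt_or_ge i 64225 with h9 | h9
                  · skip
                    exact allRangeF_sound _ _ (checkPointF_eq cert) 64200 25 chkP_64200 i (by omega) (by omega)
                  · skip
                    exact allRangeF_sound _ _ (checkPointF_eq cert) 64225 25 chkP_64225 i (by omega) (by omega)
      · skip
        rcases Nat.lt_or_ge i 64725 with h4 | h4
        · skip
          rcases Nat.lt_or_ge i 64475 with h5 | h5
          · skip
            rcases Nat.lt_or_ge i 64350 with h6 | h6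
            · skip
              rcases Nat.lt_or_ge i 64300 with h7 | h7
              · skip
                rcases Nat.lt_or_ge i 64275 with h8 | h8
                · skip
                  exact allRangeF_sound _ _ (checkPointF_eq cert) 64250 25 chkP_64250 i (by omega) (by omega)
                · skip
                  exact allRangeF_sound _ _ (checkPointF_eq cert) 64275 25 chkP_64275 i (by omega) (by omega)
              · skip
                rcases Nat.lt_or_ge i 64325 with h8 | h8
                · skip
                  exact allRangeF_sound _ _ (checkPointF_eq cert) 64300 25 chkP_64300 i (by omega) (by omega)
                · skip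
                  exact allRangeF_sound _ _ (checkPointF_eq cert) 64325 25 chkP_64325 i (by omega) (by omega)
            · skip
              rcases Nat.lt_or_ge i 64400 with h7 | h7
              · skip
                rcases Nat.lt_or_ge i 64375 with h8 | h8
                · skip
                  exact allRangeF_sound _ _ (checkPointF_eq cert) 64350 25 chkP_64350 i (by omega) (by omega)
                · skip
                  exact allRangeF_sound _ _ (checkPointF_eq cert) 64375 25 chkP_64375 i (by omega) (by omega)
              · skip
                rcases Nat.lt_or_ge i 64425 with h8 | h8
                · skip
                  exact allRangeF_sound _ _ (checkPointF_eq cert) 64400 25 chkP_64400 i (by omega) (by omega)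
                · skip
                  rcases Nat.lt_or_ge i 64450 with h9 | h9
                  · skip
                    exact allRangeF_sound _ _ (checkPointF_eq cert) 64425 25 chkP_64425 i (by omega) (by omega)
                  · skip
                    exact allRangeF_sound _ _ (checkPointF_eq cert) 64450 25 chkP_64450 i (by omega) (by omega)
          · skip
            rcases Nat.lt_or_ge i 64600 with h6 | h6
            · skip
              rcases Nat.lt_or_ge i 64525 with h7 | h7
              · skip
                rcases Nat.lt_or_ge i 64500 with h8 | h8
                · skip
                  exact allRangeF_sound _ _ (checkPointF_eq cert) 64475 25 chkP_64475 i (by omega) (by omega)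
                · skip
                  exact allRangeF_sound _ _ (checkPointF_eq cert) 64500 25 chkP_64500 i (by omega) (by omega)
              · skip
                rcases Nat.lt_or_ge i 64550 with h8 | h8
                · skip
                  exact allRangeF_sound _ _ (checkPointF_eq cert) 64525 25 chkP_64525 i (by omega) (by omega)
                · skip
                  rcases Nat.lt_or_ge i 64575 with h9 | h9
                  · skip
                    exact allRangeF_sound _ _ (checkPointF_eq cert) 64550 25 chkP_64550 i (by omega) (by omega)
                  · skip
                    exact allRangeF_sound _ _ (checkPointF_eq cert) 64575 25 chkP_64575 i (by omega) (by omega)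
            · skip
              rcases Nat.lt_or_ge i 64650 with h7 | h7
              · skip
                rcases Nat.lt_or_ge i 64625 with h8 | h8
                · skip
                  exact allRangeF_sound _ _ (checkPointF_eq cert) 64600 25 chkP_64600 i (by omega) (by omega)
                · skip
                  exact allRangeF_sound _ _ (checkPointF_eq cert) 64625 25 chkP_64625 i (by omega) (by omega)
              · skip
                rcases Nat.lt_or_ge i 64675 with h8 | h8
                · skip
                  exact allRangeF_sound _ _ (checkPointF_eq cert) 64650 25 chkP_64650 i (by omega) (by omega)
                · skip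
                  rcases Nat.lt_or_ge i 64700 with h9 | h9
                  · skip
                    exact allRangeF_sound _ _ (checkPointF_eq cert) 64675 25 chkP_64675 i (by omega) (by omega)
                  · skip
                    exact allRangeF_sound _ _ (checkPointF_eq cert) 64700 25 chkP_64700 i (by omega) (by omega)
        · skip
          rcases Nat.lt_or_ge i 64975 with h5 | h5
          · skip
            rcases Nat.lt_or_ge i 64850 with h6 | h6
            · skip
              rcases Nat.lt_or_ge i 64775 with h7 | h7
              · skip
                rcases Nat.lt_or_ge i 64750 with h8 | h8
                · skip
                  exact allRangeF_sound _ _ (checkPointF_eq cert) 64725 25 chkP_64725 i (by omega) (by omega)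
                · skip
                  exact allRangeF_sound _ _ (checkPointF_eq cert) 64750 25 chkP_64750 i (by omega) (by omega)
              · skip
                rcases Nat.lt_or_ge i 64800 with h8 | h8
                · skip
                  exact allRangeF_sound _ _ (checkPointF_eq cert) 64775 25 chkP_64775 i (by omega) (by omega)
                · skip
                  rcases Nat.lt_or_ge i 64825 with h9 | h9
                  · skip
                    exact allRangeF_sound _ _ (checkPointF_eq cert) 64800 25 chkP_64800 i (by omega) (by omega)
                  · skip
                    exact allRangeF_sound _ _ (checkPointF_eq cert) 64825 25 chkP_64825 i (by omega) (by omega)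
            · skip
              rcases Nat.lt_or_ge i 64900 with h7 | h7
              · skip
                rcases Nat.lt_or_ge i 64875 with h8 | h8
                · skip
                  exact allRangeF_sound _ _ (checkPointF_eq cert) 64850 25 chkP_64850 i (by omega) (by omega)
                · skip
                  exact allRangeF_sound _ _ (checkPointF_eq cert) 64875 25 chkP_64875 i (by omega) (by omega)
              · skip
                rcases Nat.lt_or_ge i 64925 with h8 | h8
                · skip
                  exact allRangeF_sound _ _ (checkPointF_eq cert) 64900 25 chkP_64900 i (by omega) (by omega)
                · skip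
                  rcases Nat.lt_or_ge i 64950 with h9 | h9
                  · skip
                    exact allRangeF_sound _ _ (checkPointF_eq cert) 64925 25 chkP_64925 i (by omega) (by omega)
                  · skip
                    exact allRangeF_sound _ _ (checkPointF_eq cert) 64950 25 chkP_64950 i (by omega) (by omega)
          · skip
            rcases Nat.lt_or_ge i 65100 with h6 | h6
            · skip
              rcases Nat.lt_or_ge i 65025 with h7 | h7
              · skip
                rcases Nat.lt_or_ge i 65000 with h8 | h8
                · skip
                  exact allRangeF_sound _ _ (checkPointF_eq cert) 64975 25 chkP_64975 i (by omega) (by omega)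
                · skip
                  exact allRangeF_sound _ _ (checkPointF_eq cert) 65000 25 chkP_65000 i (by omega) (by omega)
              · skip
                rcases Nat.lt_or_ge i 65050 with h8 | h8
                · skip
                  exact allRangeF_sound _ _ (checkPointF_eq cert) 65025 25 chkP_65025 i (by omega) (by omega)
                · skip
                  rcases Nat.lt_or_ge i 65075 with h9 | h9
                  · skip
                    exact allRangeF_sound _ _ (checkPointF_eq cert) 65050 25 chkP_65050 i (by omega) (by omega)
                  · skip
                    exact allRangeF_sound _ _ (checkPointF_eq cert) 65075 25 chkP_65075 i (by omega) (by omega)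
            · skip
              rcases Nat.lt_or_ge i 65150 with h7 | h7
              · skip
                rcases Nat.lt_or_ge i 65125 with h8 | h8
                · skip
                  exact allRangeF_sound _ _ (checkPointF_eq cert) 65100 25 chkP_65100 i (by omega) (by omega)
                · skip
                  exact allRangeF_sound _ _ (checkPointF_eq cert) 65125 25 chkP_65125 i (by omega) (by omega)
              · skip
                rcases Nat.lt_or_ge i 65175 with h8 | h8
                · skip
                  exact allRangeF_sound _ _ (checkPointF_eq cert) 65150 25 chkP_65150 i (by omega) (by omega)
                · skip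
                  rcases Nat.lt_or_ge i 65200 with h9 | h9
                  · skip
                    exact allRangeF_sound _ _ (checkPointF_eq cert) 65175 25 chkP_65175 i (by omega) (by omega)
                  · skip
                    exact allRangeF_sound _ _ (checkPointF_eq cert) 65200 25 chkP_65200 i (by omega) (by omega)
  · skip
    rcases Nat.lt_or_ge i 67150 with h2 | h2
    · skip
      rcases Nat.lt_or_ge i 66175 with h3 | h3
      · skip
        rcases Nat.lt_or_ge i 65700 with h4 | h4
        · skip
          rcases Nat.lt_or_ge i 65450 with h5 | h5
          · skip
            rcases Nat.lt_or_ge i 65325 with h6 | h6
            · skip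
              rcases Nat.lt_or_ge i 65275 with h7 | h7
              · skip
                rcases Nat.lt_or_ge i 65250 with h8 | h8
                · skip
                  exact allRangeF_sound _ _ (checkPointF_eq cert) 65225 25 chkP_65225 i (by omega) (by omega)
                · skip
                  exact allRangeF_sound _ _ (checkPointF_eq cert) 65250 25 chkP_65250 i (by omega) (by omega)
              · skip
                rcases Nat.lt_or_ge i 65300 with h8 | h8
                · skip
                  exact allRangeF_sound _ _ (checkPointF_eq cert) 65275 25 chkP_65275 i (by omega) (by omega)
                · skip
                  exact allRangeF_sound _ _ (checkPointF_eq cert) 65300 25 chkP_65300 i (by omega) (by omega)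
            · skip
              rcases Nat.lt_or_ge i 65375 with h7 | h7
              · skip
                rcases Nat.lt_or_ge i 65350 with h8 | h8
                · skip
                  exact allRangeF_sound _ _ (checkPointF_eq cert) 65325 25 chkP_65325 i (by omega) (by omega)
                · skip
                  exact allRangeF_sound _ _ (checkPointF_eq cert) 65350 25 chkP_65350 i (by omega) (by omega)
              · skip
                rcases Nat.lt_or_ge i 65400 with h8 | h8
                · skip
                  exact allRangeF_sound _ _ (checkPointF_eq cert) 65375 25 chkP_65375 i (by omega) (by omega)
                · skip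
                  rcases Nat.lt_or_ge i 65425 with h9 | h9
                  · skip
                    exact allRangeF_sound _ _ (checkPointF_eq cert) 65400 25 chkP_65400 i (by omega) (by omega)
                  · skip
                    exact allRangeF_sound _ _ (checkPointF_eq cert) 65425 25 chkP_65425 i (by omega) (by omega)
          · skip
            rcases Nat.lt_or_ge i 65575 with h6 | h6
            · skip
              rcases Nat.lt_or_ge i 65500 with h7 | h7
              · skip
                rcases Nat.lt_or_ge i 65475 with h8 | h8
                · skip
                  exact allRangeF_sound _ _ (checkPointF_eq cert) 65450 25 chkP_65450 i (by omega) (by omega)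
                · skip
                  exact allRangeF_sound _ _ (checkPointF_eq cert) 65475 25 chkP_65475 i (by omega) (by omega)
              · skip
                rcases Nat.lt_or_ge i 65525 with h8 | h8
                · skip
                  exact allRangeF_sound _ _ (checkPointF_eq cert) 65500 25 chkP_65500 i (by omega) (by omega)
                · skip
                  rcases Nat.lt_or_ge i 65550 with h9 | h9
                  · skip
                    exact allRangeF_sound _ _ (checkPointF_eq cert) 65525 25 chkP_65525 i (by omega) (by omega)
                  · skip
                    exact allRangeF_sound _ _ (checkPointF_eq cert) 65550 25 chkP_65550 i (by omega) (by omega)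
            · skip
              rcases Nat.lt_or_ge i 65625 with h7 | h7
              · skip
                rcases Nat.lt_or_ge i 65600 with h8 | h8
                · skip
                  exact allRangeF_sound _ _ (checkPointF_eq cert) 65575 25 chkP_65575 i (by omega) (by omega)
                · skip
                  exact allRangeF_sound _ _ (checkPointF_eq cert) 65600 25 chkP_65600 i (by omega) (by omega)
              · skip
                rcases Nat.lt_or_ge i 65650 with h8 | h8
                · skip
                  exact allRangeF_sound _ _ (checkPointF_eq cert) 65625 25 chkP_65625 i (by omega) (by omega)
                · skip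
                  rcases Nat.lt_or_ge i 65675 with h9 | h9
                  · skip
                    exact allRangeF_sound _ _ (checkPointF_eq cert) 65650 25 chkP_65650 i (by omega) (by omega)
                  · skip
                    exact allRangeF_sound _ _ (checkPointF_eq cert) 65675 25 chkP_65675 i (by omega) (by omega)
        · skip
          rcases Nat.lt_or_ge i 65925 with h5 | h5
          · skip
            rcases Nat.lt_or_ge i 65800 with h6 | h6
            · skip
              rcases Nat.lt_or_ge i 65750 with h7 | h7
              · skip
                rcases Nat.lt_or_ge i 65725 with h8 | h8
                · skip
                  exact allRangeF_sound _ _ (checkPointF_eq cert) 65700 25 chkP_65700 i (by omega) (by omega)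
                · skip
                  exact allRangeF_sound _ _ (checkPointF_eq cert) 65725 25 chkP_65725 i (by omega) (by omega)
              · skip
                rcases Nat.lt_or_ge i 65775 with h8 | h8
                · skip
                  exact allRangeF_sound _ _ (checkPointF_eq cert) 65750 25 chkP_65750 i (by omega) (by omega)
                · skip
                  exact allRangeF_sound _ _ (checkPointF_eq cert) 65775 25 chkP_65775 i (by omega) (by omega)
            · skip
              rcases Nat.lt_or_ge i 65850 with h7 | h7
              · skip
                rcases Nat.lt_or_ge i 65825 with h8 | h8
                · skip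
                  exact allRangeF_sound _ _ (checkPointF_eq cert) 65800 25 chkP_65800 i (by omega) (by omega)
                · skip
                  exact allRangeF_sound _ _ (checkPointF_eq cert) 65825 25 chkP_65825 i (by omega) (by omega)
              · skip
                rcases Nat.lt_or_ge i 65875 with h8 | h8
                · skip
                  exact allRangeF_sound _ _ (checkPointF_eq cert) 65850 25 chkP_65850 i (by omega) (by omega)
                · skip
                  rcases Nat.lt_or_ge i 65900 with h9 | h9
                  · skip
                    exact allRangeF_sound _ _ (checkPointF_eq cert) 65875 25 chkP_65875 i (by omega) (by omega)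
                  · skip
                    exact allRangeF_sound _ _ (checkPointF_eq cert) 65900 25 chkP_65900 i (by omega) (by omega)
          · skip
            rcases Nat.lt_or_ge i 66050 with h6 | h6
            · skip
              rcases Nat.lt_or_ge i 65975 with h7 | h7
              · skip
                rcases Nat.lt_or_ge i 65950 with h8 | h8
                · skip
                  exact allRangeF_sound _ _ (checkPointF_eq cert) 65925 25 chkP_65925 i (by omega) (by omega)
                · skip
                  exact allRangeF_sound _ _ (checkPointF_eq cert) 65950 25 chkP_65950 i (by omega) (by omega)
              · skip
                rcases Nat.lt_or_ge i 66000 with h8 | h8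
                · skip
                  exact allRangeF_sound _ _ (checkPointF_eq cert) 65975 25 chkP_65975 i (by omega) (by omega)
                · skip
                  rcases Nat.lt_or_ge i 66025 with h9 | h9
                  · skip
                    exact allRangeF_sound _ _ (checkPointF_eq cert) 66000 25 chkP_66000 i (by omega) (by omega)
                  · skip
                    exact allRangeF_sound _ _ (checkPointF_eq cert) 66025 25 chkP_66025 i (by omega) (by omega)
            · skip
              rcases Nat.lt_or_ge i 66100 with h7 | h7
              · skip
                rcases Nat.lt_or_ge i 66075 with h8 | h8
                · skip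
                  exact allRangeF_sound _ _ (checkPointF_eq cert) 66050 25 chkP_66050 i (by omega) (by omega)
                · skip
                  exact allRangeF_sound _ _ (checkPointF_eq cert) 66075 25 chkP_66075 i (by omega) (by omega)
              · skip
                rcases Nat.lt_or_ge i 66125 with h8 | h8
                · skip
                  exact allRangeF_sound _ _ (checkPointF_eq cert) 66100 25 chkP_66100 i (by omega) (by omega)
                · skip
                  rcases Nat.lt_or_ge i 66150 with h9 | h9
                  · skip
                    exact allRangeF_sound _ _ (checkPointF_eq cert) 66125 25 chkP_66125 i (by omega) (by omega)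
                  · skip
                    exact allRangeF_sound _ _ (checkPointF_eq cert) 66150 25 chkP_66150 i (by omega) (by omega)
      · skip
        rcases Nat.lt_or_ge i 66650 with h4 | h4
        · skip
          rcases Nat.lt_or_ge i 66400 with h5 | h5
          · skip
            rcases Nat.lt_or_ge i 66275 with h6 | h6
            · skip
              rcases Nat.lt_or_ge i 66225 with h7 | h7
              · skip
                rcases Nat.lt_or_ge i 66200 with h8 | h8
                · skip
                  exact allRangeF_sound _ _ (checkPointF_eq cert) 66175 25 chkP_66175 i (by omega) (by omega)
                · skip
                  exact allRangeF_sound _ _ (checkPointF_eq cert) 66200 25 chkP_66200 i (by omega) (by omega)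
              · skip
                rcases Nat.lt_or_ge i 66250 with h8 | h8
                · skip
                  exact allRangeF_sound _ _ (checkPointF_eq cert) 66225 25 chkP_66225 i (by omega) (by omega)
                · skip
                  exact allRangeF_sound _ _ (checkPointF_eq cert) 66250 25 chkP_66250 i (by omega) (by omega)
            · skip
              rcases Nat.lt_or_ge i 66325 with h7 | h7
              · skip
                rcases Nat.lt_or_ge i 66300 with h8 | h8
                · skip
                  exact allRangeF_sound _ _ (checkPointF_eq cert) 66275 25 chkP_66275 i (by omega) (by omega)
                · skip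
                  exact allRangeF_sound _ _ (checkPointF_eq cert) 66300 25 chkP_66300 i (by omega) (by omega)
              · skip
                rcases Nat.lt_or_ge i 66350 with h8 | h8
                · skip
                  exact allRangeF_sound _ _ (checkPointF_eq cert) 66325 25 chkP_66325 i (by omega) (by omega)
                · skip
                  rcases Nat.lt_or_ge i 66375 with h9 | h9
                  · skip
                    exact allRangeF_sound _ _ (checkPointF_eq cert) 66350 25 chkP_66350 i (by omega) (by omega)
                  · skip
                    exact allRangeF_sound _ _ (checkPointF_eq cert) 66375 25 chkP_66375 i (by omega) (by omega)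
          · skip
            rcases Nat.lt_or_ge i 66525 with h6 | h6
            · skip
              rcases Nat.lt_or_ge i 66450 with h7 | h7
              · skip
                rcases Nat.lt_or_ge i 66425 with h8 | h8
                · skip
                  exact allRangeF_sound _ _ (checkPointF_eq cert) 66400 25 chkP_66400 i (by omega) (by omega)
                · skip
                  exact allRangeF_sound _ _ (checkPointF_eq cert) 66425 25 chkP_66425 i (by omega) (by omega)
              · skip
                rcases Nat.lt_or_ge i 66475 with h8 | h8
                · skip
                  exact allRangeF_sound _ _ (checkPointF_eq cert) 66450 25 chkP_66450 i (by omega) (by omega)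
                · skip
                  rcases Nat.lt_or_ge i 66500 with h9 | h9
                  · skip
                    exact allRangeF_sound _ _ (checkPointF_eq cert) 66475 25 chkP_66475 i (by omega) (by omega)
                  · skip
                    exact allRangeF_sound _ _ (checkPointF_eq cert) 66500 25 chkP_66500 i (by omega) (by omega)
            · skip
              rcases Nat.lt_or_ge i 66575 with h7 | h7
              · skip
                rcases Nat.lt_or_ge i 66550 with h8 | h8
                · skip
                  exact allRangeF_sound _ _ (checkPointF_eq cert) 66525 25 chkP_66525 i (by omega) (by omega)
                · skip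
                  exact allRangeF_sound _ _ (checkPointF_eq cert) 66550 25 chkP_66550 i (by omega) (by omega)
              · skip
                rcases Nat.lt_or_ge i 66600 with h8 | h8
                · skip
                  exact allRangeF_sound _ _ (checkPointF_eq cert) 66575 25 chkP_66575 i (by omega) (by omega)
                · skip
                  rcases Nat.lt_or_ge i 66625 with h9 | h9
                  · skip
                    exact allRangeF_sound _ _ (checkPointF_eq cert) 66600 25 chkP_66600 i (by omega) (by omega)
                  · skip
                    exact allRangeF_sound _ _ (checkPointF_eq cert) 66625 25 chkP_66625 i (by omega) (by omega)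
        · skip
          rcases Nat.lt_or_ge i 66900 with h5 | h5
          · skip
            rcases Nat.lt_or_ge i 66775 with h6 | h6
            · skip
              rcases Nat.lt_or_ge i 66700 with h7 | h7
              · skip
                rcases Nat.lt_or_ge i 66675 with h8 | h8
                · skip
                  exact allRangeF_sound _ _ (checkPointF_eq cert) 66650 25 chkP_66650 i (by omega) (by omega)
                · skip
                  exact allRangeF_sound _ _ (checkPointF_eq cert) 66675 25 chkP_66675 i (by omega) (by omega)
              · skip
                rcases Nat.lt_or_ge i 66725 with h8 | h8
                · skip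
                  exact allRangeF_sound _ _ (checkPointF_eq cert) 66700 25 chkP_66700 i (by omega) (by omega)
                · skip
                  rcases Nat.lt_or_ge i 66750 with h9 | h9
                  · skip
                    exact allRangeF_sound _ _ (checkPointF_eq cert) 66725 25 chkP_66725 i (by omega) (by omega)
                  · skip
                    exact allRangeF_sound _ _ (checkPointF_eq cert) 66750 25 chkP_66750 i (by omega) (by omega)
            · skip
              rcases Nat.lt_or_ge i 66825 with h7 | h7
              · skip
                rcases Nat.lt_or_ge i 66800 with h8 | h8
                · skip
                  exact allRangeF_sound _ _ (checkPointF_eq cert) 66775 25 chkP_66775 i (by omega) (by omega)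
                · skip
                  exact allRangeF_sound _ _ (checkPointF_eq cert) 66800 25 chkP_66800 i (by omega) (by omega)
              · skip
                rcases Nat.lt_or_ge i 66850 with h8 | h8
                · skip
                  exact allRangeF_sound _ _ (checkPointF_eq cert) 66825 25 chkP_66825 i (by omega) (by omega)
                · skip
                  rcases Nat.lt_or_ge i 66875 with h9 | h9
                  · skip
                    exact allRangeF_sound _ _ (checkPointF_eq cert) 66850 25 chkP_66850 i (by omega) (by omega)
                  · skip
                    exact allRangeF_sound _ _ (checkPointF_eq cert) 66875 25 chkP_66875 i (by omega) (by omega)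
          · skip
            rcases Nat.lt_or_ge i 67025 with h6 | h6
            · skip
              rcases Nat.lt_or_ge i 66950 with h7 | h7
              · skip
                rcases Nat.lt_or_ge i 66925 with h8 | h8
                · skip
                  exact allRangeF_sound _ _ (checkPointF_eq cert) 66900 25 chkP_66900 i (by omega) (by omega)
                · skip
                  exact allRangeF_sound _ _ (checkPointF_eq cert) 66925 25 chkP_66925 i (by omega) (by omega)
              · skip
                rcases Nat.lt_or_ge i 66975 with h8 | h8
                · skip
                  exact allRangeF_sound _ _ (checkPointF_eq cert) 66950 25 chkP_66950 i (by omega) (by omega)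
                · skip
                  rcases Nat.lt_or_ge i 67000 with h9 | h9
                  · skip
                    exact allRangeF_sound _ _ (checkPointF_eq cert) 66975 25 chkP_66975 i (by omega) (by omega)
                  · skip
                    exact allRangeF_sound _ _ (checkPointF_eq cert) 67000 25 chkP_67000 i (by omega) (by omega)
            · skip
              rcases Nat.lt_or_ge i 67075 with h7 | h7
              · skip
                rcases Nat.lt_or_ge i 67050 with h8 | h8
                · skip
                  exact allRangeF_sound _ _ (checkPointF_eq cert) 67025 25 chkP_67025 i (by omega) (by omega)
                · skip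
                  exact allRangeF_sound _ _ (checkPointF_eq cert) 67050 25 chkP_67050 i (by omega) (by omega)
              · skip
                rcases Nat.lt_or_ge i 67100 with h8 | h8
                · skip
                  exact allRangeF_sound _ _ (checkPointF_eq cert) 67075 25 chkP_67075 i (by omega) (by omega)
                · skip
                  rcases Nat.lt_or_ge i 67125 with h9 | h9
                  · skip
                    exact allRangeF_sound _ _ (checkPointF_eq cert) 67100 25 chkP_67100 i (by omega) (by omega)
                  · skip
                    exact allRangeF_sound _ _ (checkPointF_eq cert) 67125 25 chkP_67125 i (by omega) (by omega)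
    · skip
      rcases Nat.lt_or_ge i 68100 with h3 | h3
      · skip
        rcases Nat.lt_or_ge i 67625 with h4 | h4
        · skip
          rcases Nat.lt_or_ge i 67375 with h5 | h5
          · skip
            rcases Nat.lt_or_ge i 67250 with h6 | h6
            · skip
              rcases Nat.lt_or_ge i 67200 with h7 | h7
              · skip
                rcases Nat.lt_or_ge i 67175 with h8 | h8
                · skip
                  exact allRangeF_sound _ _ (checkPointF_eq cert) 67150 25 chkP_67150 i (by omega) (by omega)
                · skip
                  exact allRangeF_sound _ _ (checkPointF_eq cert) 67175 25 chkP_67175 i (by omega) (by omega)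
              · skip
                rcases Nat.lt_or_ge i 67225 with h8 | h8
                · skip
                  exact allRangeF_sound _ _ (checkPointF_eq cert) 67200 25 chkP_67200 i (by omega) (by omega)
                · skip
                  exact allRangeF_sound _ _ (checkPointF_eq cert) 67225 25 chkP_67225 i (by omega) (by omega)
            · skip
              rcases Nat.lt_or_ge i 67300 with h7 | h7
              · skip
                rcases Nat.lt_or_ge i 67275 with h8 | h8
                · skip
                  exact allRangeF_sound _ _ (checkPointF_eq cert) 67250 25 chkP_67250 i (by omega) (by omega)
                · skip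
                  exact allRangeF_sound _ _ (checkPointF_eq cert) 67275 25 chkP_67275 i (by omega) (by omega)
              · skip
                rcases Nat.lt_or_ge i 67325 with h8 | h8
                · skip
                  exact allRangeF_sound _ _ (checkPointF_eq cert) 67300 25 chkP_67300 i (by omega) (by omega)
                · skip
                  rcases Nat.lt_or_ge i 67350 with h9 | h9
                  · skip
                    exact allRangeF_sound _ _ (checkPointF_eq cert) 67325 25 chkP_67325 i (by omega) (by omega)
                  · skip
                    exact allRangeF_sound _ _ (checkPointF_eq cert) 67350 25 chkP_67350 i (by omega) (by omega)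
          · skip
            rcases Nat.lt_or_ge i 67500 with h6 | h6
            · skip
              rcases Nat.lt_or_ge i 67425 with h7 | h7
              · skip
                rcases Nat.lt_or_ge i 67400 with h8 | h8
                · skip
                  exact allRangeF_sound _ _ (checkPointF_eq cert) 67375 25 chkP_67375 i (by omega) (by omega)
                · skip
                  exact allRangeF_sound _ _ (checkPointF_eq cert) 67400 25 chkP_67400 i (by omega) (by omega)
              · skip
                rcases Nat.lt_or_ge i 67450 with h8 | h8
                · skip
                  exact allRangeF_sound _ _ (checkPointF_eq cert) 67425 25 chkP_67425 i (by omega) (by omega)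
                · skip
                  rcases Nat.lt_or_ge i 67475 with h9 | h9
                  · skip
                    exact allRangeF_sound _ _ (checkPointF_eq cert) 67450 25 chkP_67450 i (by omega) (by omega)
                  · skip
                    exact allRangeF_sound _ _ (checkPointF_eq cert) 67475 25 chkP_67475 i (by omega) (by omega)
            · skip
              rcases Nat.lt_or_ge i 67550 with h7 | h7
              · skip
                rcases Nat.lt_or_ge i 67525 with h8 | h8
                · skip
                  exact allRangeF_sound _ _ (checkPointF_eq cert) 67500 25 chkP_67500 i (by omega) (by omega)
                · skip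
                  exact allRangeF_sound _ _ (checkPointF_eq cert) 67525 25 chkP_67525 i (by omega) (by omega)
              · skip
                rcases Nat.lt_or_ge i 67575 with h8 | h8
                · skip
                  exact allRangeF_sound _ _ (checkPointF_eq cert) 67550 25 chkP_67550 i (by omega) (by omega)
                · skip
                  rcases Nat.lt_or_ge i 67600 with h9 | h9
                  · skip
                    exact allRangeF_sound _ _ (checkPointF_eq cert) 67575 25 chkP_67575 i (by omega) (by omega)
                  · skip
                    exact allRangeF_sound _ _ (checkPointF_eq cert) 67600 25 chkP_67600 i (by omega) (by omega)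
        · skip
          rcases Nat.lt_or_ge i 67850 with h5 | h5
          · skip
            rcases Nat.lt_or_ge i 67725 with h6 | h6
            · skip
              rcases Nat.lt_or_ge i 67675 with h7 | h7
              · skip
                rcases Nat.lt_or_ge i 67650 with h8 | h8
                · skip
                  exact allRangeF_sound _ _ (checkPointF_eq cert) 67625 25 chkP_67625 i (by omega) (by omega)
                · skip
                  exact allRangeF_sound _ _ (checkPointF_eq cert) 67650 25 chkP_67650 i (by omega) (by omega)
              · skip
                rcases Nat.lt_or_ge i 67700 with h8 | h8
                · skip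
                  exact allRangeF_sound _ _ (checkPointF_eq cert) 67675 25 chkP_67675 i (by omega) (by omega)
                · skip
                  exact allRangeF_sound _ _ (checkPointF_eq cert) 67700 25 chkP_67700 i (by omega) (by omega)
            · skip
              rcases Nat.lt_or_ge i 67775 with h7 | h7
              · skip
                rcases Nat.lt_or_ge i 67750 with h8 | h8
                · skip
                  exact allRangeF_sound _ _ (checkPointF_eq cert) 67725 25 chkP_67725 i (by omega) (by omega)
                · skip
                  exact allRangeF_sound _ _ (checkPointF_eq cert) 67750 25 chkP_67750 i (by omega) (by omega)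
              · skip
                rcases Nat.lt_or_ge i 67800 with h8 | h8
                · skip
                  exact allRangeF_sound _ _ (checkPointF_eq cert) 67775 25 chkP_67775 i (by omega) (by omega)
                · skip
                  rcases Nat.lt_or_ge i 67825 with h9 | h9
                  · skip
                    exact allRangeF_sound _ _ (checkPointF_eq cert) 67800 25 chkP_67800 i (by omega) (by omega)
                  · skip
                    exact allRangeF_sound _ _ (checkPointF_eq cert) 67825 25 chkP_67825 i (by omega) (by omega)
          · skip
            rcases Nat.lt_or_ge i 67975 with h6 | h6
            · skip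
              rcases Nat.lt_or_ge i 67900 with h7 | h7
              · skip
                rcases Nat.lt_or_ge i 67875 with h8 | h8
                · skip
                  exact allRangeF_sound _ _ (checkPointF_eq cert) 67850 25 chkP_67850 i (by omega) (by omega)
                · skip
                  exact allRangeF_sound _ _ (checkPointF_eq cert) 67875 25 chkP_67875 i (by omega) (by omega)
              · skip
                rcases Nat.lt_or_ge i 67925 with h8 | h8
                · skip
                  exact allRangeF_sound _ _ (checkPointF_eq cert) 67900 25 chkP_67900 i (by omega) (by omega)
                · skip
                  rcases Nat.lt_or_ge i 67950 with h9 | h9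
                  · skip
                    exact allRangeF_sound _ _ (checkPointF_eq cert) 67925 25 chkP_67925 i (by omega) (by omega)
                  · skip
                    exact allRangeF_sound _ _ (checkPointF_eq cert) 67950 25 chkP_67950 i (by omega) (by omega)
            · skip
              rcases Nat.lt_or_ge i 68025 with h7 | h7
              · skip
                rcases Nat.lt_or_ge i 68000 with h8 | h8
                · skip
                  exact allRangeF_sound _ _ (checkPointF_eq cert) 67975 25 chkP_67975 i (by omega) (by omega)
                · skip
                  exact allRangeF_sound _ _ (checkPointF_eq cert) 68000 25 chkP_68000 i (by omega) (by omega)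
              · skip
                rcases Nat.lt_or_ge i 68050 with h8 | h8
                · skip
                  exact allRangeF_sound _ _ (checkPointF_eq cert) 68025 25 chkP_68025 i (by omega) (by omega)
                · skip
                  rcases Nat.lt_or_ge i 68075 with h9 | h9
                  · skip
                    exact allRangeF_sound _ _ (checkPointF_eq cert) 68050 25 chkP_68050 i (by omega) (by omega)
                  · skip
                    exact allRangeF_sound _ _ (checkPointF_eq cert) 68075 25 chkP_68075 i (by omega) (by omega)
      · skip
        rcases Nat.lt_or_ge i 68575 with h4 | h4
        · skip
          rcases Nat.lt_or_ge i 68325 with h5 | h5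
          · skip
            rcases Nat.lt_or_ge i 68200 with h6 | h6
            · skip
              rcases Nat.lt_or_ge i 68150 with h7 | h7
              · skip
                rcases Nat.lt_or_ge i 68125 with h8 | h8
                · skip
                  exact allRangeF_sound _ _ (checkPointF_eq cert) 68100 25 chkP_68100 i (by omega) (by omega)
                · skip
                  exact allRangeF_sound _ _ (checkPointF_eq cert) 68125 25 chkP_68125 i (by omega) (by omega)
              · skip
                rcases Nat.lt_or_ge i 68175 with h8 | h8
                · skip
                  exact allRangeF_sound _ _ (checkPointF_eq cert) 68150 25 chkP_68150 i (by omega) (by omega)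
                · skip
                  exact allRangeF_sound _ _ (checkPointF_eq cert) 68175 25 chkP_68175 i (by omega) (by omega)
            · skip
              rcases Nat.lt_or_ge i 68250 with h7 | h7
              · skip
                rcases Nat.lt_or_ge i 68225 with h8 | h8
                · skip
                  exact allRangeF_sound _ _ (checkPointF_eq cert) 68200 25 chkP_68200 i (by omega) (by omega)
                · skip
                  exact allRangeF_sound _ _ (checkPointF_eq cert) 68225 25 chkP_68225 i (by omega) (by omega)
              · skip
                rcases Nat.lt_or_ge i 68275 with h8 | h8
                · skip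
                  exact allRangeF_sound _ _ (checkPointF_eq cert) 68250 25 chkP_68250 i (by omega) (by omega)
                · skip
                  rcases Nat.lt_or_ge i 68300 with h9 | h9
                  · skip
                    exact allRangeF_sound _ _ (checkPointF_eq cert) 68275 25 chkP_68275 i (by omega) (by omega)
                  · skip
                    exact allRangeF_sound _ _ (checkPointF_eq cert) 68300 25 chkP_68300 i (by omega) (by omega)
          · skip
            rcases Nat.lt_or_ge i 68450 with h6 | h6
            · skip
              rcases Nat.lt_or_ge i 68375 with h7 | h7
              · skip
                rcases Nat.lt_or_ge i 68350 with h8 | h8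
                · skip
                  exact allRangeF_sound _ _ (checkPointF_eq cert) 68325 25 chkP_68325 i (by omega) (by omega)
                · skip
                  exact allRangeF_sound _ _ (checkPointF_eq cert) 68350 25 chkP_68350 i (by omega) (by omega)
              · skip
                rcases Nat.lt_or_ge i 68400 with h8 | h8
                · skip
                  exact allRangeF_sound _ _ (checkPointF_eq cert) 68375 25 chkP_68375 i (by omega) (by omega)
                · skip
                  rcases Nat.lt_or_ge i 68425 with h9 | h9
                  · skip
                    exact allRangeF_sound _ _ (checkPointF_eq cert) 68400 25 chkP_68400 i (by omega) (by omega)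
                  · skip
                    exact allRangeF_sound _ _ (checkPointF_eq cert) 68425 25 chkP_68425 i (by omega) (by omega)
            · skip
              rcases Nat.lt_or_ge i 68500 with h7 | h7
              · skip
                rcases Nat.lt_or_ge i 68475 with h8 | h8
                · skip
                  exact allRangeF_sound _ _ (checkPointF_eq cert) 68450 25 chkP_68450 i (by omega) (by omega)
                · skip
                  exact allRangeF_sound _ _ (checkPointF_eq cert) 68475 25 chkP_68475 i (by omega) (by omega)
              · skip
                rcases Nat.lt_or_ge i 68525 with h8 | h8
                · skip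
                  exact allRangeF_sound _ _ (checkPointF_eq cert) 68500 25 chkP_68500 i (by omega) (by omega)
                · skip
                  rcases Nat.lt_or_ge i 68550 with h9 | h9
                  · skip
                    exact allRangeF_sound _ _ (checkPointF_eq cert) 68525 25 chkP_68525 i (by omega) (by omega)
                  · skip
                    exact allRangeF_sound _ _ (checkPointF_eq cert) 68550 25 chkP_68550 i (by omega) (by omega)
        · skip
          rcases Nat.lt_or_ge i 68825 with h5 | h5
          · skip
            rcases Nat.lt_or_ge i 68700 with h6 | h6
            · skip
              rcases Nat.lt_or_ge i 68625 with h7 | h7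
              · skip
                rcases Nat.lt_or_ge i 68600 with h8 | h8
                · skip
                  exact allRangeF_sound _ _ (checkPointF_eq cert) 68575 25 chkP_68575 i (by omega) (by omega)
                · skip
                  exact allRangeF_sound _ _ (checkPointF_eq cert) 68600 25 chkP_68600 i (by omega) (by omega)
              · skip
                rcases Nat.lt_or_ge i 68650 with h8 | h8
                · skip
                  exact allRangeF_sound _ _ (checkPointF_eq cert) 68625 25 chkP_68625 i (by omega) (by omega)
                · skip
                  rcases Nat.lt_or_ge i 68675 with h9 | h9
                  · skip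
                    exact allRangeF_sound _ _ (checkPointF_eq cert) 68650 25 chkP_68650 i (by omega) (by omega)
                  · skip
                    exact allRangeF_sound _ _ (checkPointF_eq cert) 68675 25 chkP_68675 i (by omega) (by omega)
            · skip
              rcases Nat.lt_or_ge i 68750 with h7 | h7
              · skip
                rcases Nat.lt_or_ge i 68725 with h8 | h8
                · skip
                  exact allRangeF_sound _ _ (checkPointF_eq cert) 68700 25 chkP_68700 i (by omega) (by omega)
                · skip
                  exact allRangeF_sound _ _ (checkPointF_eq cert) 68725 25 chkP_68725 i (by omega) (by omega)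
              · skip
                rcases Nat.lt_or_ge i 68775 with h8 | h8
                · skip
                  exact allRangeF_sound _ _ (checkPointF_eq cert) 68750 25 chkP_68750 i (by omega) (by omega)
                · skip
                  rcases Nat.lt_or_ge i 68800 with h9 | h9
                  · skip
                    exact allRangeF_sound _ _ (checkPointF_eq cert) 68775 25 chkP_68775 i (by omega) (by omega)
                  · skip
                    exact allRangeF_sound _ _ (checkPointF_eq cert) 68800 25 chkP_68800 i (by omega) (by omega)
          · skip
            rcases Nat.lt_or_ge i 68950 with h6 | h6
            · skip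
              rcases Nat.lt_or_ge i 68875 with h7 | h7
              · skip
                rcases Nat.lt_or_ge i 68850 with h8 | h8
                · skip
                  exact allRangeF_sound _ _ (checkPointF_eq cert) 68825 25 chkP_68825 i (by omega) (by omega)
                · skip
                  exact allRangeF_sound _ _ (checkPointF_eq cert) 68850 25 chkP_68850 i (by omega) (by omega)
              · skip
                rcases Nat.lt_or_ge i 68900 with h8 | h8
                · skip
                  exact allRangeF_sound _ _ (checkPointF_eq cert) 68875 25 chkP_68875 i (by omega) (by omega)
                · skip
                  rcases Nat.lt_or_ge i 68925 with h9 | h9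
                  · skip
                    exact allRangeF_sound _ _ (checkPointF_eq cert) 68900 25 chkP_68900 i (by omega) (by omega)
                  · skip
                    exact allRangeF_sound _ _ (checkPointF_eq cert) 68925 25 chkP_68925 i (by omega) (by omega)
            · skip
              rcases Nat.lt_or_ge i 69000 with h7 | h7
              · skip
                rcases Nat.lt_or_ge i 68975 with h8 | h8
                · skip
                  exact allRangeF_sound _ _ (checkPointF_eq cert) 68950 25 chkP_68950 i (by omega) (by omega)
                · skip
                  exact allRangeF_sound _ _ (checkPointF_eq cert) 68975 25 chkP_68975 i (by omega) (by omega)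
              · skip
                rcases Nat.lt_or_ge i 69025 with h8 | h8
                · skip
                  exact allRangeF_sound _ _ (checkPointF_eq cert) 69000 25 chkP_69000 i (by omega) (by omega)
                · skip
                  rcases Nat.lt_or_ge i 69050 with h9 | h9
                  · skip
                    exact allRangeF_sound _ _ (checkPointF_eq cert) 69025 25 chkP_69025 i (by omega) (by omega)
                  · skip
                    exact allRangeF_sound _ _ (checkPointF_eq cert) 69050 25 chkP_69050 i (by omega) (by omega)

end Cfsg.Agent.Lib.Helper28.Fi24Data
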