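import Cfsg.Agent.Lib.Helper28.Fi24Data
import Cfsg.Agent.Lib.Helper28.TCFastB

set_option autoImplicit false
set_option maxRecDepth 1000000
set_option linter.all false
set_option Elab.async false

namespace Cfsg.Agent.Lib.Helper28.Fi24Data

open Cfsg.Agent.Lib.Helper28B

theorem chkP_69075 : allRangeF (checkPointF cert) (nat_lit 69075) (nat_lit 25) = true := by decide +kernel
theorem chkP_69100 : allRangeF (checkPointF cert) (nat_lit 69100) (nat_lit 25) = true := by decide +kernel
theorem chkP_69125 : allRangeF (checkPointF cert) (nat_lit 69125) (nat_lit 25) = true := by decide +kernel
theorem chkP_69150 : allRangeF (checkPointF cert) (nat_lit 69150) (nat_lit 25) = true := by decide +kernel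
theorem chkP_69175 : allRangeF (checkPointF cert) (nat_lit 69175) (nat_lit 25) = true := by decide +kernel
theorem chkP_69200 : allRangeF (checkPointF cert) (nat_lit 69200) (nat_lit 25) = true := by decide +kernel
theorem chkP_69225 : allRangeF (checkPointF cert) (nat_lit 69225) (nat_lit 25) = true := by decide +kernel
theorem chkP_69250 : allRangeF (checkPointF cert) (nat_lit 69250) (nat_lit 25) = true := by decide +kernel
theorem chkP_69275 : allRangeF (checkPointF cert) (nat_lit 69275) (nat_lit 25) = true := by decide +kernel
theorem chkP_69300 : allRangeF (checkPointF cert) (nat_lit 69300) (nat_lit 25) = true := by decide +kernel
theorem chkP_69325 : allRangeF (checkPointF cert) (nat_lit 69325) (nat_lit 25) = true := by decide +kernel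
theorem chkP_69350 : allRangeF (checkPointF cert) (nat_lit 69350) (nat_lit 25) = true := by decide +kernel
theorem chkP_69375 : allRangeF (checkPointF cert) (nat_lit 69375) (nat_lit 25) = true := by decide +kernel
theorem chkP_69400 : allRangeF (checkPointF cert) (nat_lit 69400) (nat_lit 25) = true := by decide +kernel
theorem chkP_69425 : allRangeF (checkPointF cert) (nat_lit 69425) (nat_lit 25) = true := by decide +kernel
theorem chkP_69450 : allRangeF (checkPointF cert) (nat_lit 69450) (nat_lit 25) = true := by decide +kernel
theorem chkP_69475 : allRangeF (checkPointF cert) (nat_lit 69475) (nat_lit 25) = true := by decide +kernel
theorem chkP_69500 : allRangeF (checkPointF cert) (nat_lit 69500) (nat_lit 25) = true := by decide +kernel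
theorem chkP_69525 : allRangeF (checkPointF cert) (nat_lit 69525) (nat_lit 25) = true := by decide +kernel
theorem chkP_69550 : allRangeF (checkPointF cert) (nat_lit 69550) (nat_lit 25) = true := by decide +kernel
theorem chkP_69575 : allRangeF (checkPointF cert) (nat_lit 69575) (nat_lit 25) = true := by decide +kernel
theorem chkP_69600 : allRangeF (checkPointF cert) (nat_lit 69600) (nat_lit 25) = true := by decide +kernel
theorem chkP_69625 : allRangeF (checkPointF cert) (nat_lit 69625) (nat_lit 25) = true := by decide +kernel
theorem chkP_69650 : allRangeF (checkPointF cert) (nat_lit 69650) (nat_lit 25) = true := by decide +kernel
theorem chkP_69675 : allRangeF (checkPointF cert) (nat_lit 69675) (nat_lit 25) = true := by decide +kernel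
theorem chkP_69700 : allRangeF (checkPointF cert) (nat_lit 69700) (nat_lit 25) = true := by decide +kernel
theorem chkP_69725 : allRangeF (checkPointF cert) (nat_lit 69725) (nat_lit 25) = true := by decide +kernel
theorem chkP_69750 : allRangeF (checkPointF cert) (nat_lit 69750) (nat_lit 25) = true := by decide +kernel
theorem chkP_69775 : allRangeF (checkPointF cert) (nat_lit 69775) (nat_lit 25) = true := by decide +kernel
theorem chkP_69800 : allRangeF (checkPointF cert) (nat_lit 69800) (nat_lit 25) = true := by decide +kernel
theorem chkP_69825 : allRangeF (checkPointF cert) (nat_lit 69825) (nat_lit 25) = true := by decide +kernel
theorem chkP_69850 : allRangeF (checkPointF cert) (nat_lit 69850) (nat_lit 25) = true := by decide +kernel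
theorem chkP_69875 : allRangeF (checkPointF cert) (nat_lit 69875) (nat_lit 25) = true := by decide +kernel
theorem chkP_69900 : allRangeF (checkPointF cert) (nat_lit 69900) (nat_lit 25) = true := by decide +kernel
theorem chkP_69925 : allRangeF (checkPointF cert) (nat_lit 69925) (nat_lit 25) = true := by decide +kernel
theorem chkP_69950 : allRangeF (checkPointF cert) (nat_lit 69950) (nat_lit 25) = true := by decide +kernel
theorem chkP_69975 : allRangeF (checkPointF cert) (nat_lit 69975) (nat_lit 25) = true := by decide +kernel
theorem chkP_70000 : allRangeF (checkPointF cert) (nat_lit 70000) (nat_lit 25) = true := by decide +kernel
theorem chkP_70025 : allRangeF (checkPointF cert) (nat_lit 70025) (nat_lit 25) = true := by decide +kernel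
theorem chkP_70050 : allRangeF (checkPointF cert) (nat_lit 70050) (nat_lit 25) = true := by decide +kernel
theorem chkP_70075 : allRangeF (checkPointF cert) (nat_lit 70075) (nat_lit 25) = true := by decide +kernel
theorem chkP_70100 : allRangeF (checkPointF cert) (nat_lit 70100) (nat_lit 25) = true := by decide +kernel
theorem chkP_70125 : allRangeF (checkPointF cert) (nat_lit 70125) (nat_lit 25) = true := by decide +kernel
theorem chkP_70150 : allRangeF (checkPointF cert) (nat_lit 70150) (nat_lit 25) = true := by decide +kernel
theorem chkP_70175 : allRangeF (checkPointF cert) (nat_lit 70175) (nat_lit 25) = true := by decide +kernel
theorem chkP_70200 : allRangeF (checkPointF cert) (nat_lit 70200) (nat_lit 25) = true := by decide +kernel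
theorem chkP_70225 : allRangeF (checkPointF cert) (nat_lit 70225) (nat_lit 25) = true := by decide +kernel
theorem chkP_70250 : allRangeF (checkPointF cert) (nat_lit 70250) (nat_lit 25) = true := by decide +kernel
theorem chkP_70275 : allRangeF (checkPointF cert) (nat_lit 70275) (nat_lit 25) = true := by decide +kernel
theorem chkP_70300 : allRangeF (checkPointF cert) (nat_lit 70300) (nat_lit 25) = true := by decide +kernel
theorem chkP_70325 : allRangeF (checkPointF cert) (nat_lit 70325) (nat_lit 25) = true := by decide +kernel
theorem chkP_70350 : allRangeF (checkPointF cert) (nat_lit 70350) (nat_lit 25) = true := by decide +kernel
theorem chkP_70375 : allRangeF (checkPointF cert) (nat_lit 70375) (nat_lit 25) = true := by decide +kernel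
theorem chkP_70400 : allRangeF (checkPointF cert) (nat_lit 70400) (nat_lit 25) = true := by decide +kernel
theorem chkP_70425 : allRangeF (checkPointF cert) (nat_lit 70425) (nat_lit 25) = true := by decide +kernel
theorem chkP_70450 : allRangeF (checkPointF cert) (nat_lit 70450) (nat_lit 25) = true := by decide +kernel
theorem chkP_70475 : allRangeF (checkPointF cert) (nat_lit 70475) (nat_lit 25) = true := by decide +kernel
theorem chkP_70500 : allRangeF (checkPointF cert) (nat_lit 70500) (nat_lit 25) = true := by decide +kernel
theorem chkP_70525 : allRangeF (checkPointF cert) (nat_lit 70525) (nat_lit 25) = true := by decide +kernel
theorem chkP_70550 : allRangeF (checkPointF cert) (nat_lit 70550) (nat_lit 25) = true := by decide +kernel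
theorem chkP_70575 : allRangeF (checkPointF cert) (nat_lit 70575) (nat_lit 25) = true := by decide +kernel
theorem chkP_70600 : allRangeF (checkPointF cert) (nat_lit 70600) (nat_lit 25) = true := by decide +kernel
theorem chkP_70625 : allRangeF (checkPointF cert) (nat_lit 70625) (nat_lit 25) = true := by decide +kernel
theorem chkP_70650 : allRangeF (checkPointF cert) (nat_lit 70650) (nat_lit 25) = true := by decide +kernel
theorem chkP_70675 : allRangeF (checkPointF cert) (nat_lit 70675) (nat_lit 25) = true := by decide +kernel
theorem chkP_70700 : allRangeF (checkPointF cert) (nat_lit 70700) (nat_lit 25) = true := by decide +kernel
theorem chkP_70725 : allRangeF (checkPointF cert) (nat_lit 70725) (nat_lit 25) = true := by decide +kernel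
theorem chkP_70750 : allRangeF (checkPointF cert) (nat_lit 70750) (nat_lit 25) = true := by decide +kernel
theorem chkP_70775 : allRangeF (checkPointF cert) (nat_lit 70775) (nat_lit 25) = true := by decide +kernel
theorem chkP_70800 : allRangeF (checkPointF cert) (nat_lit 70800) (nat_lit 25) = true := by decide +kernel
theorem chkP_70825 : allRangeF (checkPointF cert) (nat_lit 70825) (nat_lit 25) = true := by decide +kernel
theorem chkP_70850 : allRangeF (checkPointF cert) (nat_lit 70850) (nat_lit 25) = true := by decide +kernel
theorem chkP_70875 : allRangeF (checkPointF cert) (nat_lit 70875) (nat_lit 25) = true := by decide +kernel
theorem chkP_70900 : allRangeF (checkPointF cert) (nat_lit 70900) (nat_lit 25) = true := by decide +kernel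
theorem chkP_70925 : allRangeF (checkPointF cert) (nat_lit 70925) (nat_lit 25) = true := by decide +kernel
theorem chkP_70950 : allRangeF (checkPointF cert) (nat_lit 70950) (nat_lit 25) = true := by decide +kernel
theorem chkP_70975 : allRangeF (checkPointF cert) (nat_lit 70975) (nat_lit 25) = true := by decide +kernel
theorem chkP_71000 : allRangeF (checkPointF cert) (nat_lit 71000) (nat_lit 25) = true := by decide +kernel
theorem chkP_71025 : allRangeF (checkPointF cert) (nat_lit 71025) (nat_lit 25) = true := by decide +kernel
theorem chkP_71050 : allRangeF (checkPointF cert) (nat_lit 71050) (nat_lit 25) = true := by decide +kernel
theorem chkP_71075 : allRangeF (checkPointF cert) (nat_lit 71075) (nat_lit 25) = true := by decide +kernel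
theorem chkP_71100 : allRangeF (checkPointF cert) (nat_lit 71100) (nat_lit 25) = true := by decide +kernel
theorem chkP_71125 : allRangeF (checkPointF cert) (nat_lit 71125) (nat_lit 25) = true := by decide +kernel
theorem chkP_71150 : allRangeF (checkPointF cert) (nat_lit 71150) (nat_lit 25) = true := by decide +kernel
theorem chkP_71175 : allRangeF (checkPointF cert) (nat_lit 71175) (nat_lit 25) = true := by decide +kernel
theorem chkP_71200 : allRangeF (checkPointF cert) (nat_lit 71200) (nat_lit 25) = true := by decide +kernel
theorem chkP_71225 : allRangeF (checkPointF cert) (nat_lit 71225) (nat_lit 25) = true := by decide +kernel
theorem chkP_71250 : allRangeF (checkPointF cert) (nat_lit 71250) (nat_lit 25) = true := by decide +kernel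
theorem chkP_71275 : allRangeF (checkPointF cert) (nat_lit 71275) (nat_lit 25) = true := by decide +kernel
theorem chkP_71300 : allRangeF (checkPointF cert) (nat_lit 71300) (nat_lit 25) = true := by decide +kernel
theorem chkP_71325 : allRangeF (checkPointF cert) (nat_lit 71325) (nat_lit 25) = true := by decide +kernel
theorem chkP_71350 : allRangeF (checkPointF cert) (nat_lit 71350) (nat_lit 25) = true := by decide +kernel
theorem chkP_71375 : allRangeF (checkPointF cert) (nat_lit 71375) (nat_lit 25) = true := by decide +kernel
theorem chkP_71400 : allRangeF (checkPointF cert) (nat_lit 71400) (nat_lit 25) = true := by decide +kernel
theorem chkP_71425 : allRangeF (checkPointF cert) (nat_lit 71425) (nat_lit 25) = true := by decide +kernel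
theorem chkP_71450 : allRangeF (checkPointF cert) (nat_lit 71450) (nat_lit 25) = true := by decide +kernel
theorem chkP_71475 : allRangeF (checkPointF cert) (nat_lit 71475) (nat_lit 25) = true := by decide +kernel
theorem chkP_71500 : allRangeF (checkPointF cert) (nat_lit 71500) (nat_lit 25) = true := by decide +kernel
theorem chkP_71525 : allRangeF (checkPointF cert) (nat_lit 71525) (nat_lit 25) = true := by decide +kernel
theorem chkP_71550 : allRangeF (checkPointF cert) (nat_lit 71550) (nat_lit 25) = true := by decide +kernel
theorem chkP_71575 : allRangeF (checkPointF cert) (nat_lit 71575) (nat_lit 25) = true := by decide +kernel
theorem chkP_71600 : allRangeF (checkPointF cert) (nat_lit 71600) (nat_lit 25) = true := by decide +kernel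
theorem chkP_71625 : allRangeF (checkPointF cert) (nat_lit 71625) (nat_lit 25) = true := by decide +kernel
theorem chkP_71650 : allRangeF (checkPointF cert) (nat_lit 71650) (nat_lit 25) = true := by decide +kernel
theorem chkP_71675 : allRangeF (checkPointF cert) (nat_lit 71675) (nat_lit 25) = true := by decide +kernel
theorem chkP_71700 : allRangeF (checkPointF cert) (nat_lit 71700) (nat_lit 25) = true := by decide +kernel
theorem chkP_71725 : allRangeF (checkPointF cert) (nat_lit 71725) (nat_lit 25) = true := by decide +kernel
theorem chkP_71750 : allRangeF (checkPointF cert) (nat_lit 71750) (nat_lit 25) = true := by decide +kernel
theorem chkP_71775 : allRangeF (checkPointF cert) (nat_lit 71775) (nat_lit 25) = true := by decide +kernel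
theorem chkP_71800 : allRangeF (checkPointF cert) (nat_lit 71800) (nat_lit 25) = true := by decide +kernel
theorem chkP_71825 : allRangeF (checkPointF cert) (nat_lit 71825) (nat_lit 25) = true := by decide +kernel
theorem chkP_71850 : allRangeF (checkPointF cert) (nat_lit 71850) (nat_lit 25) = true := by decide +kernel
theorem chkP_71875 : allRangeF (checkPointF cert) (nat_lit 71875) (nat_lit 25) = true := by decide +kernel
theorem chkP_71900 : allRangeF (checkPointF cert) (nat_lit 71900) (nat_lit 25) = true := by decide +kernel
theorem chkP_71925 : allRangeF (checkPointF cert) (nat_lit 71925) (nat_lit 25) = true := by decide +kernel
theorem chkP_71950 : allRangeF (checkPointF cert) (nat_lit 71950) (nat_lit 25) = true := by decide +kernel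
theorem chkP_71975 : allRangeF (checkPointF cert) (nat_lit 71975) (nat_lit 25) = true := by decide +kernel
theorem chkP_72000 : allRangeF (checkPointF cert) (nat_lit 72000) (nat_lit 25) = true := by decide +kernel
theorem chkP_72025 : allRangeF (checkPointF cert) (nat_lit 72025) (nat_lit 25) = true := by decide +kernel
theorem chkP_72050 : allRangeF (checkPointF cert) (nat_lit 72050) (nat_lit 25) = true := by decide +kernel
theorem chkP_72075 : allRangeF (checkPointF cert) (nat_lit 72075) (nat_lit 25) = true := by decide +kernel
theorem chkP_72100 : allRangeF (checkPointF cert) (nat_lit 72100) (nat_lit 25) = true := by decide +kernel
theorem chkP_72125 : allRangeF (checkPointF cert) (nat_lit 72125) (nat_lit 25) = true := by decide +kernel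
theorem chkP_72150 : allRangeF (checkPointF cert) (nat_lit 72150) (nat_lit 25) = true := by decide +kernel
theorem chkP_72175 : allRangeF (checkPointF cert) (nat_lit 72175) (nat_lit 25) = true := by decide +kernel
theorem chkP_72200 : allRangeF (checkPointF cert) (nat_lit 72200) (nat_lit 25) = true := by decide +kernel
theorem chkP_72225 : allRangeF (checkPointF cert) (nat_lit 72225) (nat_lit 25) = true := by decide +kernel
theorem chkP_72250 : allRangeF (checkPointF cert) (nat_lit 72250) (nat_lit 25) = true := by decide +kernel
theorem chkP_72275 : allRangeF (checkPointF cert) (nat_lit 72275) (nat_lit 25) = true := by decide +kernel
theorem chkP_72300 : allRangeF (checkPointF cert) (nat_lit 72300) (nat_lit 25) = true := by decide +kernel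
theorem chkP_72325 : allRangeF (checkPointF cert) (nat_lit 72325) (nat_lit 25) = true := by decide +kernel
theorem chkP_72350 : allRangeF (checkPointF cert) (nat_lit 72350) (nat_lit 25) = true := by decide +kernel
theorem chkP_72375 : allRangeF (checkPointF cert) (nat_lit 72375) (nat_lit 25) = true := by decide +kernel
theorem chkP_72400 : allRangeF (checkPointF cert) (nat_lit 72400) (nat_lit 25) = true := by decide +kernel
theorem chkP_72425 : allRangeF (checkPointF cert) (nat_lit 72425) (nat_lit 25) = true := by decide +kernel
theorem chkP_72450 : allRangeF (checkPointF cert) (nat_lit 72450) (nat_lit 25) = true := by decide +kernel
theorem chkP_72475 : allRangeF (checkPointF cert) (nat_lit 72475) (nat_lit 25) = true := by decide +kernel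
theorem chkP_72500 : allRangeF (checkPointF cert) (nat_lit 72500) (nat_lit 25) = true := by decide +kernel
theorem chkP_72525 : allRangeF (checkPointF cert) (nat_lit 72525) (nat_lit 25) = true := by decide +kernel
theorem chkP_72550 : allRangeF (checkPointF cert) (nat_lit 72550) (nat_lit 25) = true := by decide +kernel
theorem chkP_72575 : allRangeF (checkPointF cert) (nat_lit 72575) (nat_lit 25) = true := by decide +kernel
theorem chkP_72600 : allRangeF (checkPointF cert) (nat_lit 72600) (nat_lit 25) = true := by decide +kernel
theorem chkP_72625 : allRangeF (checkPointF cert) (nat_lit 72625) (nat_lit 25) = true := by decide +kernel
theorem chkP_72650 : allRangeF (checkPointF cert) (nat_lit 72650) (nat_lit 25) = true := by decide +kernel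
theorem chkP_72675 : allRangeF (checkPointF cert) (nat_lit 72675) (nat_lit 25) = true := by decide +kernel
theorem chkP_72700 : allRangeF (checkPointF cert) (nat_lit 72700) (nat_lit 25) = true := by decide +kernel
theorem chkP_72725 : allRangeF (checkPointF cert) (nat_lit 72725) (nat_lit 25) = true := by decide +kernel
theorem chkP_72750 : allRangeF (checkPointF cert) (nat_lit 72750) (nat_lit 25) = true := by decide +kernel
theorem chkP_72775 : allRangeF (checkPointF cert) (nat_lit 72775) (nat_lit 25) = true := by decide +kernel
theorem chkP_72800 : allRangeF (checkPointF cert) (nat_lit 72800) (nat_lit 25) = true := by decide +kernel
theorem chkP_72825 : allRangeF (checkPointF cert) (nat_lit 72825) (nat_lit 25) = true := by decide +kernel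
theorem chkP_72850 : allRangeF (checkPointF cert) (nat_lit 72850) (nat_lit 25) = true := by decide +kernel
theorem chkP_72875 : allRangeF (checkPointF cert) (nat_lit 72875) (nat_lit 25) = true := by decide +kernel
theorem chkP_72900 : allRangeF (checkPointF cert) (nat_lit 72900) (nat_lit 25) = true := by decide +kernel
theorem chkP_72925 : allRangeF (checkPointF cert) (nat_lit 72925) (nat_lit 25) = true := by decide +kernel
theorem chkP_72950 : allRangeF (checkPointF cert) (nat_lit 72950) (nat_lit 25) = true := by decide +kernel
theorem chkP_72975 : allRangeF (checkPointF cert) (nat_lit 72975) (nat_lit 25) = true := by decide +kernel
theorem chkP_73000 : allRangeF (checkPointF cert) (nat_lit 73000) (nat_lit 25) = true := by decide +kernel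
theorem chkP_73025 : allRangeF (checkPointF cert) (nat_lit 73025) (nat_lit 25) = true := by decide +kernel
theorem chkP_73050 : allRangeF (checkPointF cert) (nat_lit 73050) (nat_lit 25) = true := by decide +kernel
theorem chkP_73075 : allRangeF (checkPointF cert) (nat_lit 73075) (nat_lit 25) = true := by decide +kernel
theorem chkP_73100 : allRangeF (checkPointF cert) (nat_lit 73100) (nat_lit 25) = true := by decide +kernel
theorem chkP_73125 : allRangeF (checkPointF cert) (nat_lit 73125) (nat_lit 25) = true := by decide +kernel
theorem chkP_73150 : allRangeF (checkPointF cert) (nat_lit 73150) (nat_lit 25) = true := by decide +kernel
theorem chkP_73175 : allRangeF (checkPointF cert) (nat_lit 73175) (nat_lit 25) = true := by decide +kernel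
theorem chkP_73200 : allRangeF (checkPointF cert) (nat_lit 73200) (nat_lit 25) = true := by decide +kernel
theorem chkP_73225 : allRangeF (checkPointF cert) (nat_lit 73225) (nat_lit 25) = true := by decide +kernel
theorem chkP_73250 : allRangeF (checkPointF cert) (nat_lit 73250) (nat_lit 25) = true := by decide +kernel
theorem chkP_73275 : allRangeF (checkPointF cert) (nat_lit 73275) (nat_lit 25) = true := by decide +kernel
theorem chkP_73300 : allRangeF (checkPointF cert) (nat_lit 73300) (nat_lit 25) = true := by decide +kernel
theorem chkP_73325 : allRangeF (checkPointF cert) (nat_lit 73325) (nat_lit 25) = true := by decide +kernel
theorem chkP_73350 : allRangeF (checkPointF cert) (nat_lit 73350) (nat_lit 25) = true := by decide +kernel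
theorem chkP_73375 : allRangeF (checkPointF cert) (nat_lit 73375) (nat_lit 25) = true := by decide +kernel
theorem chkP_73400 : allRangeF (checkPointF cert) (nat_lit 73400) (nat_lit 25) = true := by decide +kernel
theorem chkP_73425 : allRangeF (checkPointF cert) (nat_lit 73425) (nat_lit 25) = true := by decide +kernel
theorem chkP_73450 : allRangeF (checkPointF cert) (nat_lit 73450) (nat_lit 25) = true := by decide +kernel
theorem chkP_73475 : allRangeF (checkPointF cert) (nat_lit 73475) (nat_lit 25) = true := by decide +kernel
theorem chkP_73500 : allRangeF (checkPointF cert) (nat_lit 73500) (nat_lit 25) = true := by decide +kernel
theorem chkP_73525 : allRangeF (checkPointF cert) (nat_lit 73525) (nat_lit 25) = true := by decide +kernel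
theorem chkP_73550 : allRangeF (checkPointF cert) (nat_lit 73550) (nat_lit 25) = true := by decide +kernel
theorem chkP_73575 : allRangeF (checkPointF cert) (nat_lit 73575) (nat_lit 25) = true := by decide +kernel
theorem chkP_73600 : allRangeF (checkPointF cert) (nat_lit 73600) (nat_lit 25) = true := by decide +kernel
theorem chkP_73625 : allRangeF (checkPointF cert) (nat_lit 73625) (nat_lit 25) = true := by decide +kernel
theorem chkP_73650 : allRangeF (checkPointF cert) (nat_lit 73650) (nat_lit 25) = true := by decide +kernel
theorem chkP_73675 : allRangeF (checkPointF cert) (nat_lit 73675) (nat_lit 25) = true := by decide +kernel
theorem chkP_73700 : allRangeF (checkPointF cert) (nat_lit 73700) (nat_lit 25) = true := by decide +kernel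
theorem chkP_73725 : allRangeF (checkPointF cert) (nat_lit 73725) (nat_lit 25) = true := by decide +kernel
theorem chkP_73750 : allRangeF (checkPointF cert) (nat_lit 73750) (nat_lit 25) = true := by decide +kernel
theorem chkP_73775 : allRangeF (checkPointF cert) (nat_lit 73775) (nat_lit 25) = true := by decide +kernel
theorem chkP_73800 : allRangeF (checkPointF cert) (nat_lit 73800) (nat_lit 25) = true := by decide +kernel
theorem chkP_73825 : allRangeF (checkPointF cert) (nat_lit 73825) (nat_lit 25) = true := by decide +kernel
theorem chkP_73850 : allRangeF (checkPointF cert) (nat_lit 73850) (nat_lit 25) = true := by decide +kernel
theorem chkP_73875 : allRangeF (checkPointF cert) (nat_lit 73875) (nat_lit 25) = true := by decide +kernel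
theorem chkP_73900 : allRangeF (checkPointF cert) (nat_lit 73900) (nat_lit 25) = true := by decide +kernel
theorem chkP_73925 : allRangeF (checkPointF cert) (nat_lit 73925) (nat_lit 25) = true := by decide +kernel
theorem chkP_73950 : allRangeF (checkPointF cert) (nat_lit 73950) (nat_lit 25) = true := by decide +kernel
theorem chkP_73975 : allRangeF (checkPointF cert) (nat_lit 73975) (nat_lit 25) = true := by decide +kernel
theorem chkP_74000 : allRangeF (checkPointF cert) (nat_lit 74000) (nat_lit 25) = true := by decide +kernel
theorem chkP_74025 : allRangeF (checkPointF cert) (nat_lit 74025) (nat_lit 25) = true := by decide +kernel
theorem chkP_74050 : allRangeF (checkPointF cert) (nat_lit 74050) (nat_lit 25) = true := by decide +kernel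
theorem chkP_74075 : allRangeF (checkPointF cert) (nat_lit 74075) (nat_lit 25) = true := by decide +kernel
theorem chkP_74100 : allRangeF (checkPointF cert) (nat_lit 74100) (nat_lit 25) = true := by decide +kernel
theorem chkP_74125 : allRangeF (checkPointF cert) (nat_lit 74125) (nat_lit 25) = true := by decide +kernel
theorem chkP_74150 : allRangeF (checkPointF cert) (nat_lit 74150) (nat_lit 25) = true := by decide +kernel
theorem chkP_74175 : allRangeF (checkPointF cert) (nat_lit 74175) (nat_lit 25) = true := by decide +kernel
theorem chkP_74200 : allRangeF (checkPointF cert) (nat_lit 74200) (nat_lit 25) = true := by decide +kernel
theorem chkP_74225 : allRangeF (checkPointF cert) (nat_lit 74225) (nat_lit 25) = true := by decide +kernel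
theorem chkP_74250 : allRangeF (checkPointF cert) (nat_lit 74250) (nat_lit 25) = true := by decide +kernel
theorem chkP_74275 : allRangeF (checkPointF cert) (nat_lit 74275) (nat_lit 25) = true := by decide +kernel
theorem chkP_74300 : allRangeF (checkPointF cert) (nat_lit 74300) (nat_lit 25) = true := by decide +kernel
theorem chkP_74325 : allRangeF (checkPointF cert) (nat_lit 74325) (nat_lit 25) = true := by decide +kernel
theorem chkP_74350 : allRangeF (checkPointF cert) (nat_lit 74350) (nat_lit 25) = true := by decide +kernel
theorem chkP_74375 : allRangeF (checkPointF cert) (nat_lit 74375) (nat_lit 25) = true := by decide +kernel
theorem chkP_74400 : allRangeF (checkPointF cert) (nat_lit 74400) (nat_lit 25) = true := by decide +kernel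
theorem chkP_74425 : allRangeF (checkPointF cert) (nat_lit 74425) (nat_lit 25) = true := by decide +kernel
theorem chkP_74450 : allRangeF (checkPointF cert) (nat_lit 74450) (nat_lit 25) = true := by decide +kernel
theorem chkP_74475 : allRangeF (checkPointF cert) (nat_lit 74475) (nat_lit 25) = true := by decide +kernel
theorem chkP_74500 : allRangeF (checkPointF cert) (nat_lit 74500) (nat_lit 25) = true := by decide +kernel
theorem chkP_74525 : allRangeF (checkPointF cert) (nat_lit 74525) (nat_lit 25) = true := by decide +kernel
theorem chkP_74550 : allRangeF (checkPointF cert) (nat_lit 74550) (nat_lit 25) = true := by decide +kernel
theorem chkP_74575 : allRangeF (checkPointF cert) (nat_lit 74575) (nat_lit 25) = true := by decide +kernel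
theorem chkP_74600 : allRangeF (checkPointF cert) (nat_lit 74600) (nat_lit 25) = true := by decide +kernel
theorem chkP_74625 : allRangeF (checkPointF cert) (nat_lit 74625) (nat_lit 25) = true := by decide +kernel
theorem chkP_74650 : allRangeF (checkPointF cert) (nat_lit 74650) (nat_lit 25) = true := by decide +kernel
theorem chkP_74675 : allRangeF (checkPointF cert) (nat_lit 74675) (nat_lit 25) = true := by decide +kernel
theorem chkP_74700 : allRangeF (checkPointF cert) (nat_lit 74700) (nat_lit 25) = true := by decide +kernel
theorem chkP_74725 : allRangeF (checkPointF cert) (nat_lit 74725) (nat_lit 25) = true := by decide +kernel
theorem chkP_74750 : allRangeF (checkPointF cert) (nat_lit 74750) (nat_lit 25) = true := by decide +kernel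
theorem chkP_74775 : allRangeF (checkPointF cert) (nat_lit 74775) (nat_lit 25) = true := by decide +kernel
theorem chkP_74800 : allRangeF (checkPointF cert) (nat_lit 74800) (nat_lit 25) = true := by decide +kernel
theorem chkP_74825 : allRangeF (checkPointF cert) (nat_lit 74825) (nat_lit 25) = true := by decide +kernel
theorem chkP_74850 : allRangeF (checkPointF cert) (nat_lit 74850) (nat_lit 25) = true := by decide +kernel
theorem chkP_74875 : allRangeF (checkPointF cert) (nat_lit 74875) (nat_lit 25) = true := by decide +kernel
theorem chkP_74900 : allRangeF (checkPointF cert) (nat_lit 74900) (nat_lit 25) = true := by decide +kernel
theorem chkP_74925 : allRangeF (checkPointF cert) (nat_lit 74925) (nat_lit 25) = true := by decide +kernel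
theorem chkP_74950 : allRangeF (checkPointF cert) (nat_lit 74950) (nat_lit 25) = true := by decide +kernel
theorem chkP_74975 : allRangeF (checkPointF cert) (nat_lit 74975) (nat_lit 25) = true := by decide +kernel
theorem chkP_75000 : allRangeF (checkPointF cert) (nat_lit 75000) (nat_lit 25) = true := by decide +kernel
theorem chkP_75025 : allRangeF (checkPointF cert) (nat_lit 75025) (nat_lit 25) = true := by decide +kernel
theorem chkP_75050 : allRangeF (checkPointF cert) (nat_lit 75050) (nat_lit 25) = true := by decide +kernel
theorem chkP_75075 : allRangeF (checkPointF cert) (nat_lit 75075) (nat_lit 25) = true := by decide +kernel
theorem chkP_75100 : allRangeF (checkPointF cert) (nat_lit 75100) (nat_lit 25) = true := by decide +kernel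
theorem chkP_75125 : allRangeF (checkPointF cert) (nat_lit 75125) (nat_lit 25) = true := by decide +kernel
theorem chkP_75150 : allRangeF (checkPointF cert) (nat_lit 75150) (nat_lit 25) = true := by decide +kernel
theorem chkP_75175 : allRangeF (checkPointF cert) (nat_lit 75175) (nat_lit 25) = true := by decide +kernel
theorem chkP_75200 : allRangeF (checkPointF cert) (nat_lit 75200) (nat_lit 25) = true := by decide +kernel
theorem chkP_75225 : allRangeF (checkPointF cert) (nat_lit 75225) (nat_lit 25) = true := by decide +kernel
theorem chkP_75250 : allRangeF (checkPointF cert) (nat_lit 75250) (nat_lit 25) = true := by decide +kernel
theorem chkP_75275 : allRangeF (checkPointF cert) (nat_lit 75275) (nat_lit 25) = true := by decide +kernel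
theorem chkP_75300 : allRangeF (checkPointF cert) (nat_lit 75300) (nat_lit 25) = true := by decide +kernel
theorem chkP_75325 : allRangeF (checkPointF cert) (nat_lit 75325) (nat_lit 25) = true := by decide +kernel
theorem chkP_75350 : allRangeF (checkPointF cert) (nat_lit 75350) (nat_lit 25) = true := by decide +kernel
theorem chkP_75375 : allRangeF (checkPointF cert) (nat_lit 75375) (nat_lit 25) = true := by decide +kernel
theorem chkP_75400 : allRangeF (checkPointF cert) (nat_lit 75400) (nat_lit 25) = true := by decide +kernel
theorem chkP_75425 : allRangeF (checkPointF cert) (nat_lit 75425) (nat_lit 25) = true := by decide +kernel
theorem chkP_75450 : allRangeF (checkPointF cert) (nat_lit 75450) (nat_lit 25) = true := by decide +kernel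
theorem chkP_75475 : allRangeF (checkPointF cert) (nat_lit 75475) (nat_lit 25) = true := by decide +kernel
theorem chkP_75500 : allRangeF (checkPointF cert) (nat_lit 75500) (nat_lit 25) = true := by decide +kernel
theorem chkP_75525 : allRangeF (checkPointF cert) (nat_lit 75525) (nat_lit 25) = true := by decide +kernel
theorem chkP_75550 : allRangeF (checkPointF cert) (nat_lit 75550) (nat_lit 25) = true := by decide +kernel
theorem chkP_75575 : allRangeF (checkPointF cert) (nat_lit 75575) (nat_lit 25) = true := by decide +kernel
theorem chkP_75600 : allRangeF (checkPointF cert) (nat_lit 75600) (nat_lit 25) = true := by decide +kernel
theorem chkP_75625 : allRangeF (checkPointF cert) (nat_lit 75625) (nat_lit 25) = true := by decide +kernel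
theorem chkP_75650 : allRangeF (checkPointF cert) (nat_lit 75650) (nat_lit 25) = true := by decide +kernel
theorem chkP_75675 : allRangeF (checkPointF cert) (nat_lit 75675) (nat_lit 25) = true := by decide +kernel
theorem chkP_75700 : allRangeF (checkPointF cert) (nat_lit 75700) (nat_lit 25) = true := by decide +kernel
theorem chkP_75725 : allRangeF (checkPointF cert) (nat_lit 75725) (nat_lit 25) = true := by decide +kernel
theorem chkP_75750 : allRangeF (checkPointF cert) (nat_lit 75750) (nat_lit 25) = true := by decide +kernel
theorem chkP_75775 : allRangeF (checkPointF cert) (nat_lit 75775) (nat_lit 25) = true := by decide +kernel
theorem chkP_75800 : allRangeF (checkPointF cert) (nat_lit 75800) (nat_lit 25) = true := by decide +kernel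
theorem chkP_75825 : allRangeF (checkPointF cert) (nat_lit 75825) (nat_lit 25) = true := by decide +kernel
theorem chkP_75850 : allRangeF (checkPointF cert) (nat_lit 75850) (nat_lit 25) = true := by decide +kernel
theorem chkP_75875 : allRangeF (checkPointF cert) (nat_lit 75875) (nat_lit 25) = true := by decide +kernel
theorem chkP_75900 : allRangeF (checkPointF cert) (nat_lit 75900) (nat_lit 25) = true := by decide +kernel
theorem chkP_75925 : allRangeF (checkPointF cert) (nat_lit 75925) (nat_lit 25) = true := by decide +kernel
theorem chkP_75950 : allRangeF (checkPointF cert) (nat_lit 75950) (nat_lit 25) = true := by decide +kernel
theorem chkP_75975 : allRangeF (checkPointF cert) (nat_lit 75975) (nat_lit 25) = true := by decide +kernel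
theorem chkP_76000 : allRangeF (checkPointF cert) (nat_lit 76000) (nat_lit 25) = true := by decide +kernel
theorem chkP_76025 : allRangeF (checkPointF cert) (nat_lit 76025) (nat_lit 25) = true := by decide +kernel
theorem chkP_76050 : allRangeF (checkPointF cert) (nat_lit 76050) (nat_lit 25) = true := by decide +kernel
theorem chkP_76075 : allRangeF (checkPointF cert) (nat_lit 76075) (nat_lit 25) = true := by decide +kernel
theorem chkP_76100 : allRangeF (checkPointF cert) (nat_lit 76100) (nat_lit 25) = true := by decide +kernel
theorem chkP_76125 : allRangeF (checkPointF cert) (nat_lit 76125) (nat_lit 25) = true := by decide +kernel
theorem chkP_76150 : allRangeF (checkPointF cert) (nat_lit 76150) (nat_lit 25) = true := by decide +kernel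
theorem chkP_76175 : allRangeF (checkPointF cert) (nat_lit 76175) (nat_lit 25) = true := by decide +kernel
theorem chkP_76200 : allRangeF (checkPointF cert) (nat_lit 76200) (nat_lit 25) = true := by decide +kernel
theorem chkP_76225 : allRangeF (checkPointF cert) (nat_lit 76225) (nat_lit 25) = true := by decide +kernel
theorem chkP_76250 : allRangeF (checkPointF cert) (nat_lit 76250) (nat_lit 25) = true := by decide +kernel
theorem chkP_76275 : allRangeF (checkPointF cert) (nat_lit 76275) (nat_lit 25) = true := by decide +kernel
theorem chkP_76300 : allRangeF (checkPointF cert) (nat_lit 76300) (nat_lit 25) = true := by decide +kernel
theorem chkP_76325 : allRangeF (checkPointF cert) (nat_lit 76325) (nat_lit 25) = true := by decide +kernel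
theorem chkP_76350 : allRangeF (checkPointF cert) (nat_lit 76350) (nat_lit 25) = true := by decide +kernel
theorem chkP_76375 : allRangeF (checkPointF cert) (nat_lit 76375) (nat_lit 25) = true := by decide +kernel
theorem chkP_76400 : allRangeF (checkPointF cert) (nat_lit 76400) (nat_lit 25) = true := by decide +kernel
theorem chkP_76425 : allRangeF (checkPointF cert) (nat_lit 76425) (nat_lit 25) = true := by decide +kernel
theorem chkP_76450 : allRangeF (checkPointF cert) (nat_lit 76450) (nat_lit 25) = true := by decide +kernel
theorem chkP_76475 : allRangeF (checkPointF cert) (nat_lit 76475) (nat_lit 25) = true := by decide +kernel
theorem chkP_76500 : allRangeF (checkPointF cert) (nat_lit 76500) (nat_lit 25) = true := by decide +kernel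
theorem chkP_76525 : allRangeF (checkPointF cert) (nat_lit 76525) (nat_lit 25) = true := by decide +kernel
theorem chkP_76550 : allRangeF (checkPointF cert) (nat_lit 76550) (nat_lit 25) = true := by decide +kernel
theorem chkP_76575 : allRangeF (checkPointF cert) (nat_lit 76575) (nat_lit 25) = true := by decide +kernel
theorem chkP_76600 : allRangeF (checkPointF cert) (nat_lit 76600) (nat_lit 25) = true := by decide +kernel
theorem chkP_76625 : allRangeF (checkPointF cert) (nat_lit 76625) (nat_lit 25) = true := by decide +kernel
theorem chkP_76650 : allRangeF (checkPointF cert) (nat_lit 76650) (nat_lit 25) = true := by decide +kernel
theorem chkP_76675 : allRangeF (checkPointF cert) (nat_lit 76675) (nat_lit 25) = true := by decide +kernel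
theorem chkP_76700 : allRangeF (checkPointF cert) (nat_lit 76700) (nat_lit 25) = true := by decide +kernel
theorem chkP_76725 : allRangeF (checkPointF cert) (nat_lit 76725) (nat_lit 25) = true := by decide +kernel

theorem ptsRange_9 : ∀ i, 69075 ≤ i → i < 76750 → checkPoint cert i = true := by
  intro i hlo hhi
  rcases Nat.lt_or_ge i 72900 with h1 | h1
  · skip
    rcases Nat.lt_or_ge i 70975 with h2 | h2
    · skip
      rcases Nat.lt_or_ge i 70025 with h3 | h3
      · skip
        rcases Nat.lt_or_ge i 69550 with h4 | h4
        · skip
          rcases Nat.lt_or_ge i 69300 with h5 | h5
          · skip
            rcases Nat.lt_or_ge i 69175 with h6 | h6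
            · skip
              rcases Nat.lt_or_ge i 69125 with h7 | h7
              · skip
                rcases Nat.lt_or_ge i 69100 with h8 | h8
                · skip
                  exact allRangeF_sound _ _ (checkPointF_eq cert) 69075 25 chkP_69075 i (by omega) (by omega)
                · skip
                  exact allRangeF_sound _ _ (checkPointF_eq cert) 69100 25 chkP_69100 i (by omega) (by omega)
              · skip
                rcases Nat.lt_or_ge i 69150 with h8 | h8
                · skip
                  exact allRangeF_sound _ _ (checkPointF_eq cert) 69125 25 chkP_69125 i (by omega) (by omega)
                · skip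
                  exact allRangeF_sound _ _ (checkPointF_eq cert) 69150 25 chkP_69150 i (by omega) (by omega)
            · skip
              rcases Nat.lt_or_ge i 69225 with h7 | h7
              · skip
                rcases Nat.lt_or_ge i 69200 with h8 | h8
                · skip
                  exact allRangeF_sound _ _ (checkPointF_eq cert) 69175 25 chkP_69175 i (by omega) (by omega)
                · skip
                  exact allRangeF_sound _ _ (checkPointF_eq cert) 69200 25 chkP_69200 i (by omega) (by omega)
              · skip
                rcases Nat.lt_or_ge i 69250 with h8 | h8
                · skip
                  exact allRangeF_sound _ _ (checkPointF_eq cert) 69225 25 chkP_69225 i (by omega) (by omega)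
                · skip
                  rcases Nat.lt_or_ge i 69275 with h9 | h9
                  · skip
                    exact allRangeF_sound _ _ (checkPointF_eq cert) 69250 25 chkP_69250 i (by omega) (by omega)
                  · skip
                    exact allRangeF_sound _ _ (checkPointF_eq cert) 69275 25 chkP_69275 i (by omega) (by omega)
          · skip
            rcases Nat.lt_or_ge i 69425 with h6 | h6
            · skip
              rcases Nat.lt_or_ge i 69350 with h7 | h7
              · skip
                rcases Nat.lt_or_ge i 69325 with h8 | h8
                · skip
                  exact allRangeF_sound _ _ (checkPointF_eq cert) 69300 25 chkP_69300 i (by omega) (by omega)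
                · skip
                  exact allRangeF_sound _ _ (checkPointF_eq cert) 69325 25 chkP_69325 i (by omega) (by omega)
              · skip
                rcases Nat.lt_or_ge i 69375 with h8 | h8
                · skip
                  exact allRangeF_sound _ _ (checkPointF_eq cert) 69350 25 chkP_69350 i (by omega) (by omega)
                · skip
                  rcases Nat.lt_or_ge i 69400 with h9 | h9
                  · skip
                    exact allRangeF_sound _ _ (checkPointF_eq cert) 69375 25 chkP_69375 i (by omega) (by omega)
                  · skip
                    exact allRangeF_sound _ _ (checkPointF_eq cert) 69400 25 chkP_69400 i (by omega) (by omega)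
            · skip
              rcases Nat.lt_or_ge i 69475 with h7 | h7
              · skip
                rcases Nat.lt_or_ge i 69450 with h8 | h8
                · skip
                  exact allRangeF_sound _ _ (checkPointF_eq cert) 69425 25 chkP_69425 i (by omega) (by omega)
                · skip
                  exact allRangeF_sound _ _ (checkPointF_eq cert) 69450 25 chkP_69450 i (by omega) (by omega)
              · skip
                rcases Nat.lt_or_ge i 69500 with h8 | h8
                · skip
                  exact allRangeF_sound _ _ (checkPointF_eq cert) 69475 25 chkP_69475 i (by omega) (by omega)
                · skip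
                  rcases Nat.lt_or_ge i 69525 with h9 | h9
                  · skip
                    exact allRangeF_sound _ _ (checkPointF_eq cert) 69500 25 chkP_69500 i (by omega) (by omega)
                  · skip
                    exact allRangeF_sound _ _ (checkPointF_eq cert) 69525 25 chkP_69525 i (by omega) (by omega)
        · skip
          rcases Nat.lt_or_ge i 69775 with h5 | h5
          · skip
            rcases Nat.lt_or_ge i 69650 with h6 | h6
            · skip
              rcases Nat.lt_or_ge i 69600 with h7 | h7
              · skip
                rcases Nat.lt_or_ge i 69575 with h8 | h8
                · skip
                  exact allRangeF_sound _ _ (checkPointF_eq cert) 69550 25 chkP_69550 i (by omega) (by omega)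
                · skip
                  exact allRangeF_sound _ _ (checkPointF_eq cert) 69575 25 chkP_69575 i (by omega) (by omega)
              · skip
                rcases Nat.lt_or_ge i 69625 with h8 | h8
                · skip
                  exact allRangeF_sound _ _ (checkPointF_eq cert) 69600 25 chkP_69600 i (by omega) (by omega)
                · skip
                  exact allRangeF_sound _ _ (checkPointF_eq cert) 69625 25 chkP_69625 i (by omega) (by omega)
            · skip
              rcases Nat.lt_or_ge i 69700 with h7 | h7
              · skip
                rcases Nat.lt_or_ge i 69675 with h8 | h8
                · skip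
                  exact allRangeF_sound _ _ (checkPointF_eq cert) 69650 25 chkP_69650 i (by omega) (by omega)
                · skip
                  exact allRangeF_sound _ _ (checkPointF_eq cert) 69675 25 chkP_69675 i (by omega) (by omega)
              · skip
                rcases Nat.lt_or_ge i 69725 with h8 | h8
                · skip
                  exact allRangeF_sound _ _ (checkPointF_eq cert) 69700 25 chkP_69700 i (by omega) (by omega)
                · skip
                  rcases Nat.lt_or_ge i 69750 with h9 | h9
                  · skip
                    exact allRangeF_sound _ _ (checkPointF_eq cert) 69725 25 chkP_69725 i (by omega) (by omega)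
                  · skip
                    exact allRangeF_sound _ _ (checkPointF_eq cert) 69750 25 chkP_69750 i (by omega) (by omega)
          · skip
            rcases Nat.lt_or_ge i 69900 with h6 | h6
            · skip
              rcases Nat.lt_or_ge i 69825 with h7 | h7
              · skip
                rcases Nat.lt_or_ge i 69800 with h8 | h8
                · skip
                  exact allRangeF_sound _ _ (checkPointF_eq cert) 69775 25 chkP_69775 i (by omega) (by omega)
                · skip
                  exact allRangeF_sound _ _ (checkPointF_eq cert) 69800 25 chkP_69800 i (by omega) (by omega)
              · skip
                rcases Nat.lt_or_ge i 69850 with h8 | h8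
                · skip
                  exact allRangeF_sound _ _ (checkPointF_eq cert) 69825 25 chkP_69825 i (by omega) (by omega)
                · skip
                  rcases Nat.lt_or_ge i 69875 with h9 | h9
                  · skip
                    exact allRangeF_sound _ _ (checkPointF_eq cert) 69850 25 chkP_69850 i (by omega) (by omega)
                  · skip
                    exact allRangeF_sound _ _ (checkPointF_eq cert) 69875 25 chkP_69875 i (by omega) (by omega)
            · skip
              rcases Nat.lt_or_ge i 69950 with h7 | h7
              · skip
                rcases Nat.lt_or_ge i 69925 with h8 | h8
                · skip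
                  exact allRangeF_sound _ _ (checkPointF_eq cert) 69900 25 chkP_69900 i (by omega) (by omega)
                · skip
                  exact allRangeF_sound _ _ (checkPointF_eq cert) 69925 25 chkP_69925 i (by omega) (by omega)
              · skip
                rcases Nat.lt_or_ge i 69975 with h8 | h8
                · skip
                  exact allRangeF_sound _ _ (checkPointF_eq cert) 69950 25 chkP_69950 i (by omega) (by omega)
                · skip
                  rcases Nat.lt_or_ge i 70000 with h9 | h9
                  · skip
                    exact allRangeF_sound _ _ (checkPointF_eq cert) 69975 25 chkP_69975 i (by omega) (by omega)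
                  · skip
                    exact allRangeF_sound _ _ (checkPointF_eq cert) 70000 25 chkP_70000 i (by omega) (by omega)
      · skip
        rcases Nat.lt_or_ge i 70500 with h4 | h4
        · skip
          rcases Nat.lt_or_ge i 70250 with h5 | h5
          · skip
            rcases Nat.lt_or_ge i 70125 with h6 | h6
            · skip
              rcases Nat.lt_or_ge i 70075 with h7 | h7
              · skip
                rcases Nat.lt_or_ge i 70050 with h8 | h8
                · skip
                  exact allRangeF_sound _ _ (checkPointF_eq cert) 70025 25 chkP_70025 i (by omega) (by omega)
                · skip
                  exact allRangeF_sound _ _ (checkPointF_eq cert) 70050 25 chkP_70050 i (by omega) (by omega)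
              · skip
                rcases Nat.lt_or_ge i 70100 with h8 | h8
                · skip
                  exact allRangeF_sound _ _ (checkPointF_eq cert) 70075 25 chkP_70075 i (by omega) (by omega)
                · skip
                  exact allRangeF_sound _ _ (checkPointF_eq cert) 70100 25 chkP_70100 i (by omega) (by omega)
            · skip
              rcases Nat.lt_or_ge i 70175 with h7 | h7
              · skip
                rcases Nat.lt_or_ge i 70150 with h8 | h8
                · skip
                  exact allRangeF_sound _ _ (checkPointF_eq cert) 70125 25 chkP_70125 i (by omega) (by omega)
                · skip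
                  exact allRangeF_sound _ _ (checkPointF_eq cert) 70150 25 chkP_70150 i (by omega) (by omega)
              · skip
                rcases Nat.lt_or_ge i 70200 with h8 | h8
                · skip
                  exact allRangeF_sound _ _ (checkPointF_eq cert) 70175 25 chkP_70175 i (by omega) (by omega)
                · skip
                  rcases Nat.lt_or_ge i 70225 with h9 | h9
                  · skip
                    exact allRangeF_sound _ _ (checkPointF_eq cert) 70200 25 chkP_70200 i (by omega) (by omega)
                  · skip
                    exact allRangeF_sound _ _ (checkPointF_eq cert) 70225 25 chkP_70225 i (by omega) (by omega)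
          · skip
            rcases Nat.lt_or_ge i 70375 with h6 | h6
            · skip
              rcases Nat.lt_or_ge i 70300 with h7 | h7
              · skip
                rcases Nat.lt_or_ge i 70275 with h8 | h8
                · skip
                  exact allRangeF_sound _ _ (checkPointF_eq cert) 70250 25 chkP_70250 i (by omega) (by omega)
                · skip
                  exact allRangeF_sound _ _ (checkPointF_eq cert) 70275 25 chkP_70275 i (by omega) (by omega)
              · skip
                rcases Nat.lt_or_ge i 70325 with h8 | h8
                · skip
                  exact allRangeF_sound _ _ (checkPointF_eq cert) 70300 25 chkP_70300 i (by omega) (by omega)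
                · skip
                  rcases Nat.lt_or_ge i 70350 with h9 | h9
                  · skip
                    exact allRangeF_sound _ _ (checkPointF_eq cert) 70325 25 chkP_70325 i (by omega) (by omega)
                  · skip
                    exact allRangeF_sound _ _ (checkPointF_eq cert) 70350 25 chkP_70350 i (by omega) (by omega)
            · skip
              rcases Nat.lt_or_ge i 70425 with h7 | h7
              · skip
                rcases Nat.lt_or_ge i 70400 with h8 | h8
                · skip
                  exact allRangeF_sound _ _ (checkPointF_eq cert) 70375 25 chkP_70375 i (by omega) (by omega)
                · skip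
                  exact allRangeF_sound _ _ (checkPointF_eq cert) 70400 25 chkP_70400 i (by omega) (by omega)
              · skip
                rcases Nat.lt_or_ge i 70450 with h8 | h8
                · skip
                  exact allRangeF_sound _ _ (checkPointF_eq cert) 70425 25 chkP_70425 i (by omega) (by omega)
                · skip
                  rcases Nat.lt_or_ge i 70475 with h9 | h9
                  · skip
                    exact allRangeF_sound _ _ (checkPointF_eq cert) 70450 25 chkP_70450 i (by omega) (by omega)
                  · skip
                    exact allRangeF_sound _ _ (checkPointF_eq cert) 70475 25 chkP_70475 i (by omega) (by omega)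
        · skip
          rcases Nat.lt_or_ge i 70725 with h5 | h5
          · skip
            rcases Nat.lt_or_ge i 70600 with h6 | h6
            · skip
              rcases Nat.lt_or_ge i 70550 with h7 | h7
              · skip
                rcases Nat.lt_or_ge i 70525 with h8 | h8
                · skip
                  exact allRangeF_sound _ _ (checkPointF_eq cert) 70500 25 chkP_70500 i (by omega) (by omega)
                · skip
                  exact allRangeF_sound _ _ (checkPointF_eq cert) 70525 25 chkP_70525 i (by omega) (by omega)
              · skip
                rcases Nat.lt_or_ge i 70575 with h8 | h8
                · skip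
                  exact allRangeF_sound _ _ (checkPointF_eq cert) 70550 25 chkP_70550 i (by omega) (by omega)
                · skip
                  exact allRangeF_sound _ _ (checkPointF_eq cert) 70575 25 chkP_70575 i (by omega) (by omega)
            · skip
              rcases Nat.lt_or_ge i 70650 with h7 | h7
              · skip
                rcases Nat.lt_or_ge i 70625 with h8 | h8
                · skip
                  exact allRangeF_sound _ _ (checkPointF_eq cert) 70600 25 chkP_70600 i (by omega) (by omega)
                · skip
                  exact allRangeF_sound _ _ (checkPointF_eq cert) 70625 25 chkP_70625 i (by omega) (by omega)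
              · skip
                rcases Nat.lt_or_ge i 70675 with h8 | h8
                · skip
                  exact allRangeF_sound _ _ (checkPointF_eq cert) 70650 25 chkP_70650 i (by omega) (by omega)
                · skip
                  rcases Nat.lt_or_ge i 70700 with h9 | h9
                  · skip
                    exact allRangeF_sound _ _ (checkPointF_eq cert) 70675 25 chkP_70675 i (by omega) (by omega)
                  · skip
                    exact allRangeF_sound _ _ (checkPointF_eq cert) 70700 25 chkP_70700 i (by omega) (by omega)
          · skip
            rcases Nat.lt_or_ge i 70850 with h6 | h6
            · skip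
              rcases Nat.lt_or_ge i 70775 with h7 | h7
              · skip
                rcases Nat.lt_or_ge i 70750 with h8 | h8
                · skip
                  exact allRangeF_sound _ _ (checkPointF_eq cert) 70725 25 chkP_70725 i (by omega) (by omega)
                · skip
                  exact allRangeF_sound _ _ (checkPointF_eq cert) 70750 25 chkP_70750 i (by omega) (by omega)
              · skip
                rcases Nat.lt_or_ge i 70800 with h8 | h8
                · skip
                  exact allRangeF_sound _ _ (checkPointF_eq cert) 70775 25 chkP_70775 i (by omega) (by omega)
                · skip
                  rcases Nat.lt_or_ge i 70825 with h9 | h9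
                  · skip
                    exact allRangeF_sound _ _ (checkPointF_eq cert) 70800 25 chkP_70800 i (by omega) (by omega)
                  · skip
                    exact allRangeF_sound _ _ (checkPointF_eq cert) 70825 25 chkP_70825 i (by omega) (by omega)
            · skip
              rcases Nat.lt_or_ge i 70900 with h7 | h7
              · skip
                rcases Nat.lt_or_ge i 70875 with h8 | h8
                · skip
                  exact allRangeF_sound _ _ (checkPointF_eq cert) 70850 25 chkP_70850 i (by omega) (by omega)
                · skip
                  exact allRangeF_sound _ _ (checkPointF_eq cert) 70875 25 chkP_70875 i (by omega) (by omega)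
              · skip
                rcases Nat.lt_or_ge i 70925 with h8 | h8
                · skip
                  exact allRangeF_sound _ _ (checkPointF_eq cert) 70900 25 chkP_70900 i (by omega) (by omega)
                · skip
                  rcases Nat.lt_or_ge i 70950 with h9 | h9
                  · skip
                    exact allRangeF_sound _ _ (checkPointF_eq cert) 70925 25 chkP_70925 i (by omega) (by omega)
                  · skip
                    exact allRangeF_sound _ _ (checkPointF_eq cert) 70950 25 chkP_70950 i (by omega) (by omega)
    · skip
      rcases Nat.lt_or_ge i 71925 with h3 | h3
      · skip
        rcases Nat.lt_or_ge i 71450 with h4 | h4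
        · skip
          rcases Nat.lt_or_ge i 71200 with h5 | h5
          · skip
            rcases Nat.lt_or_ge i 71075 with h6 | h6
            · skip
              rcases Nat.lt_or_ge i 71025 with h7 | h7
              · skip
                rcases Nat.lt_or_ge i 71000 with h8 | h8
                · skip
                  exact allRangeF_sound _ _ (checkPointF_eq cert) 70975 25 chkP_70975 i (by omega) (by omega)
                · skip
                  exact allRangeF_sound _ _ (checkPointF_eq cert) 71000 25 chkP_71000 i (by omega) (by omega)
              · skip
                rcases Nat.lt_or_ge i 71050 with h8 | h8
                · skip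
                  exact allRangeF_sound _ _ (checkPointF_eq cert) 71025 25 chkP_71025 i (by omega) (by omega)
                · skip
                  exact allRangeF_sound _ _ (checkPointF_eq cert) 71050 25 chkP_71050 i (by omega) (by omega)
            · skip
              rcases Nat.lt_or_ge i 71125 with h7 | h7
              · skip
                rcases Nat.lt_or_ge i 71100 with h8 | h8
                · skip
                  exact allRangeF_sound _ _ (checkPointF_eq cert) 71075 25 chkP_71075 i (by omega) (by omega)
                · skip
                  exact allRangeF_sound _ _ (checkPointF_eq cert) 71100 25 chkP_71100 i (by omega) (by omega)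
              · skip
                rcases Nat.lt_or_ge i 71150 with h8 | h8
                · skip
                  exact allRangeF_sound _ _ (checkPointF_eq cert) 71125 25 chkP_71125 i (by omega) (by omega)
                · skip
                  rcases Nat.lt_or_ge i 71175 with h9 | h9
                  · skip
                    exact allRangeF_sound _ _ (checkPointF_eq cert) 71150 25 chkP_71150 i (by omega) (by omega)
                  · skip
                    exact allRangeF_sound _ _ (checkPointF_eq cert) 71175 25 chkP_71175 i (by omega) (by omega)
          · skip
            rcases Nat.lt_or_ge i 71325 with h6 | h6
            · skip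
              rcases Nat.lt_or_ge i 71250 with h7 | h7
              · skip
                rcases Nat.lt_or_ge i 71225 with h8 | h8
                · skip
                  exact allRangeF_sound _ _ (checkPointF_eq cert) 71200 25 chkP_71200 i (by omega) (by omega)
                · skip
                  exact allRangeF_sound _ _ (checkPointF_eq cert) 71225 25 chkP_71225 i (by omega) (by omega)
              · skip
                rcases Nat.lt_or_ge i 71275 with h8 | h8
                · skip
                  exact allRangeF_sound _ _ (checkPointF_eq cert) 71250 25 chkP_71250 i (by omega) (by omega)
                · skip
                  rcases Nat.lt_or_ge i 71300 with h9 | h9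
                  · skip
                    exact allRangeF_sound _ _ (checkPointF_eq cert) 71275 25 chkP_71275 i (by omega) (by omega)
                  · skip
                    exact allRangeF_sound _ _ (checkPointF_eq cert) 71300 25 chkP_71300 i (by omega) (by omega)
            · skip
              rcases Nat.lt_or_ge i 71375 with h7 | h7
              · skip
                rcases Nat.lt_or_ge i 71350 with h8 | h8
                · skip
                  exact allRangeF_sound _ _ (checkPointF_eq cert) 71325 25 chkP_71325 i (by omega) (by omega)
                · skip
                  exact allRangeF_sound _ _ (checkPointF_eq cert) 71350 25 chkP_71350 i (by omega) (by omega)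
              · skip
                rcases Nat.lt_or_ge i 71400 with h8 | h8
                · skip
                  exact allRangeF_sound _ _ (checkPointF_eq cert) 71375 25 chkP_71375 i (by omega) (by omega)
                · skip
                  rcases Nat.lt_or_ge i 71425 with h9 | h9
                  · skip
                    exact allRangeF_sound _ _ (checkPointF_eq cert) 71400 25 chkP_71400 i (by omega) (by omega)
                  · skip
                    exact allRangeF_sound _ _ (checkPointF_eq cert) 71425 25 chkP_71425 i (by omega) (by omega)
        · skip
          rcases Nat.lt_or_ge i 71675 with h5 | h5
          · skip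
            rcases Nat.lt_or_ge i 71550 with h6 | h6
            · skip
              rcases Nat.lt_or_ge i 71500 with h7 | h7
              · skip
                rcases Nat.lt_or_ge i 71475 with h8 | h8
                · skip
                  exact allRangeF_sound _ _ (checkPointF_eq cert) 71450 25 chkP_71450 i (by omega) (by omega)
                · skip
                  exact allRangeF_sound _ _ (checkPointF_eq cert) 71475 25 chkP_71475 i (by omega) (by omega)
              · skip
                rcases Nat.lt_or_ge i 71525 with h8 | h8
                · skip
                  exact allRangeF_sound _ _ (checkPointF_eq cert) 71500 25 chkP_71500 i (by omega) (by omega)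
                · skip
                  exact allRangeF_sound _ _ (checkPointF_eq cert) 71525 25 chkP_71525 i (by omega) (by omega)
            · skip
              rcases Nat.lt_or_ge i 71600 with h7 | h7
              · skip
                rcases Nat.lt_or_ge i 71575 with h8 | h8
                · skip
                  exact allRangeF_sound _ _ (checkPointF_eq cert) 71550 25 chkP_71550 i (by omega) (by omega)
                · skip
                  exact allRangeF_sound _ _ (checkPointF_eq cert) 71575 25 chkP_71575 i (by omega) (by omega)
              · skip
                rcases Nat.lt_or_ge i 71625 with h8 | h8
                · skip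
                  exact allRangeF_sound _ _ (checkPointF_eq cert) 71600 25 chkP_71600 i (by omega) (by omega)
                · skip
                  rcases Nat.lt_or_ge i 71650 with h9 | h9
                  · skip
                    exact allRangeF_sound _ _ (checkPointF_eq cert) 71625 25 chkP_71625 i (by omega) (by omega)
                  · skip
                    exact allRangeF_sound _ _ (checkPointF_eq cert) 71650 25 chkP_71650 i (by omega) (by omega)
          · skip
            rcases Nat.lt_or_ge i 71800 with h6 | h6
            · skip
              rcases Nat.lt_or_ge i 71725 with h7 | h7
              · skip
                rcases Nat.lt_or_ge i 71700 with h8 | h8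
                · skip
                  exact allRangeF_sound _ _ (checkPointF_eq cert) 71675 25 chkP_71675 i (by omega) (by omega)
                · skip
                  exact allRangeF_sound _ _ (checkPointF_eq cert) 71700 25 chkP_71700 i (by omega) (by omega)
              · skip
                rcases Nat.lt_or_ge i 71750 with h8 | h8
                · skip
                  exact allRangeF_sound _ _ (checkPointF_eq cert) 71725 25 chkP_71725 i (by omega) (by omega)
                · skip
                  rcases Nat.lt_or_ge i 71775 with h9 | h9
                  · skip
                    exact allRangeF_sound _ _ (checkPointF_eq cert) 71750 25 chkP_71750 i (by omega) (by omega)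
                  · skip
                    exact allRangeF_sound _ _ (checkPointF_eq cert) 71775 25 chkP_71775 i (by omega) (by omega)
            · skip
              rcases Nat.lt_or_ge i 71850 with h7 | h7
              · skip
                rcases Nat.lt_or_ge i 71825 with h8 | h8
                · skip
                  exact allRangeF_sound _ _ (checkPointF_eq cert) 71800 25 chkP_71800 i (by omega) (by omega)
                · skip
                  exact allRangeF_sound _ _ (checkPointF_eq cert) 71825 25 chkP_71825 i (by omega) (by omega)
              · skip
                rcases Nat.lt_or_ge i 71875 with h8 | h8
                · skip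
                  exact allRangeF_sound _ _ (checkPointF_eq cert) 71850 25 chkP_71850 i (by omega) (by omega)
                · skip
                  rcases Nat.lt_or_ge i 71900 with h9 | h9
                  · skip
                    exact allRangeF_sound _ _ (checkPointF_eq cert) 71875 25 chkP_71875 i (by omega) (by omega)
                  · skip
                    exact allRangeF_sound _ _ (checkPointF_eq cert) 71900 25 chkP_71900 i (by omega) (by omega)
      · skip
        rcases Nat.lt_or_ge i 72400 with h4 | h4
        · skip
          rcases Nat.lt_or_ge i 72150 with h5 | h5
          · skip
            rcases Nat.lt_or_ge i 72025 with h6 | h6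
            · skip
              rcases Nat.lt_or_ge i 71975 with h7 | h7
              · skip
                rcases Nat.lt_or_ge i 71950 with h8 | h8
                · skip
                  exact allRangeF_sound _ _ (checkPointF_eq cert) 71925 25 chkP_71925 i (by omega) (by omega)
                · skip
                  exact allRangeF_sound _ _ (checkPointF_eq cert) 71950 25 chkP_71950 i (by omega) (by omega)
              · skip
                rcases Nat.lt_or_ge i 72000 with h8 | h8
                · skip
                  exact allRangeF_sound _ _ (checkPointF_eq cert) 71975 25 chkP_71975 i (by omega) (by omega)
                · skip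
                  exact allRangeF_sound _ _ (checkPointF_eq cert) 72000 25 chkP_72000 i (by omega) (by omega)
            · skip
              rcases Nat.lt_or_ge i 72075 with h7 | h7
              · skip
                rcases Nat.lt_or_ge i 72050 with h8 | h8
                · skip
                  exact allRangeF_sound _ _ (checkPointF_eq cert) 72025 25 chkP_72025 i (by omega) (by omega)
                · skip
                  exact allRangeF_sound _ _ (checkPointF_eq cert) 72050 25 chkP_72050 i (by omega) (by omega)
              · skip
                rcases Nat.lt_or_ge i 72100 with h8 | h8
                · skip
                  exact allRangeF_sound _ _ (checkPointF_eq cert) 72075 25 chkP_72075 i (by omega) (by omega)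
                · skip
                  rcases Nat.lt_or_ge i 72125 with h9 | h9
                  · skip
                    exact allRangeF_sound _ _ (checkPointF_eq cert) 72100 25 chkP_72100 i (by omega) (by omega)
                  · skip
                    exact allRangeF_sound _ _ (checkPointF_eq cert) 72125 25 chkP_72125 i (by omega) (by omega)
          · skip
            rcases Nat.lt_or_ge i 72275 with h6 | h6
            · skip
              rcases Nat.lt_or_ge i 72200 with h7 | h7
              · skip
                rcases Nat.lt_or_ge i 72175 with h8 | h8
                · skip
                  exact allRangeF_sound _ _ (checkPointF_eq cert) 72150 25 chkP_72150 i (by omega) (by omega)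
                · skip
                  exact allRangeF_sound _ _ (checkPointF_eq cert) 72175 25 chkP_72175 i (by omega) (by omega)
              · skip
                rcases Nat.lt_or_ge i 72225 with h8 | h8
                · skip
                  exact allRangeF_sound _ _ (checkPointF_eq cert) 72200 25 chkP_72200 i (by omega) (by omega)
                · skip
                  rcases Nat.lt_or_ge i 72250 with h9 | h9
                  · skip
                    exact allRangeF_sound _ _ (checkPointF_eq cert) 72225 25 chkP_72225 i (by omega) (by omega)
                  · skip
                    exact allRangeF_sound _ _ (checkPointF_eq cert) 72250 25 chkP_72250 i (by omega) (by omega)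
            · skip
              rcases Nat.lt_or_ge i 72325 with h7 | h7
              · skip
                rcases Nat.lt_or_ge i 72300 with h8 | h8
                · skip
                  exact allRangeF_sound _ _ (checkPointF_eq cert) 72275 25 chkP_72275 i (by omega) (by omega)
                · skip
                  exact allRangeF_sound _ _ (checkPointF_eq cert) 72300 25 chkP_72300 i (by omega) (by omega)
              · skip
                rcases Nat.lt_or_ge i 72350 with h8 | h8
                · skip
                  exact allRangeF_sound _ _ (checkPointF_eq cert) 72325 25 chkP_72325 i (by omega) (by omega)
                · skip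
                  rcases Nat.lt_or_ge i 72375 with h9 | h9
                  · skip
                    exact allRangeF_sound _ _ (checkPointF_eq cert) 72350 25 chkP_72350 i (by omega) (by omega)
                  · skip
                    exact allRangeF_sound _ _ (checkPointF_eq cert) 72375 25 chkP_72375 i (by omega) (by omega)
        · skip
          rcases Nat.lt_or_ge i 72650 with h5 | h5
          · skip
            rcases Nat.lt_or_ge i 72525 with h6 | h6
            · skip
              rcases Nat.lt_or_ge i 72450 with h7 | h7
              · skip
                rcases Nat.lt_or_ge i 72425 with h8 | h8
                · skip
                  exact allRangeF_sound _ _ (checkPointF_eq cert) 72400 25 chkP_72400 i (by omega) (by omega)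
                · skip
                  exact allRangeF_sound _ _ (checkPointF_eq cert) 72425 25 chkP_72425 i (by omega) (by omega)
              · skip
                rcases Nat.lt_or_ge i 72475 with h8 | h8
                · skip
                  exact allRangeF_sound _ _ (checkPointF_eq cert) 72450 25 chkP_72450 i (by omega) (by omega)
                · skip
                  rcases Nat.lt_or_ge i 72500 with h9 | h9
                  · skip
                    exact allRangeF_sound _ _ (checkPointF_eq cert) 72475 25 chkP_72475 i (by omega) (by omega)
                  · skip
                    exact allRangeF_sound _ _ (checkPointF_eq cert) 72500 25 chkP_72500 i (by omega) (by omega)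
            · skip
              rcases Nat.lt_or_ge i 72575 with h7 | h7
              · skip
                rcases Nat.lt_or_ge i 72550 with h8 | h8
                · skip
                  exact allRangeF_sound _ _ (checkPointF_eq cert) 72525 25 chkP_72525 i (by omega) (by omega)
                · skip
                  exact allRangeF_sound _ _ (checkPointF_eq cert) 72550 25 chkP_72550 i (by omega) (by omega)
              · skip
                rcases Nat.lt_or_ge i 72600 with h8 | h8
                · skip
                  exact allRangeF_sound _ _ (checkPointF_eq cert) 72575 25 chkP_72575 i (by omega) (by omega)
                · skip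
                  rcases Nat.lt_or_ge i 72625 with h9 | h9
                  · skip
                    exact allRangeF_sound _ _ (checkPointF_eq cert) 72600 25 chkP_72600 i (by omega) (by omega)
                  · skip
                    exact allRangeF_sound _ _ (checkPointF_eq cert) 72625 25 chkP_72625 i (by omega) (by omega)
          · skip
            rcases Nat.lt_or_ge i 72775 with h6 | h6
            · skip
              rcases Nat.lt_or_ge i 72700 with h7 | h7
              · skip
                rcases Nat.lt_or_ge i 72675 with h8 | h8
                · skip
                  exact allRangeF_sound _ _ (checkPointF_eq cert) 72650 25 chkP_72650 i (by omega) (by omega)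
                · skip
                  exact allRangeF_sound _ _ (checkPointF_eq cert) 72675 25 chkP_72675 i (by omega) (by omega)
              · skip
                rcases Nat.lt_or_ge i 72725 with h8 | h8
                · skip
                  exact allRangeF_sound _ _ (checkPointF_eq cert) 72700 25 chkP_72700 i (by omega) (by omega)
                · skip
                  rcases Nat.lt_or_ge i 72750 with h9 | h9
                  · skip
                    exact allRangeF_sound _ _ (checkPointF_eq cert) 72725 25 chkP_72725 i (by omega) (by omega)
                  · skip
                    exact allRangeF_sound _ _ (checkPointF_eq cert) 72750 25 chkP_72750 i (by omega) (by omega)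
            · skip
              rcases Nat.lt_or_ge i 72825 with h7 | h7
              · skip
                rcases Nat.lt_or_ge i 72800 with h8 | h8
                · skip
                  exact allRangeF_sound _ _ (checkPointF_eq cert) 72775 25 chkP_72775 i (by omega) (by omega)
                · skip
                  exact allRangeF_sound _ _ (checkPointF_eq cert) 72800 25 chkP_72800 i (by omega) (by omega)
              · skip
                rcases Nat.lt_or_ge i 72850 with h8 | h8
                · skip
                  exact allRangeF_sound _ _ (checkPointF_eq cert) 72825 25 chkP_72825 i (by omega) (by omega)
                · skip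
                  rcases Nat.lt_or_ge i 72875 with h9 | h9
                  · skip
                    exact allRangeF_sound _ _ (checkPointF_eq cert) 72850 25 chkP_72850 i (by omega) (by omega)
                  · skip
                    exact allRangeF_sound _ _ (checkPointF_eq cert) 72875 25 chkP_72875 i (by omega) (by omega)
  · skip
    rcases Nat.lt_or_ge i 74825 with h2 | h2
    · skip
      rcases Nat.lt_or_ge i 73850 with h3 | h3
      · skip
        rcases Nat.lt_or_ge i 73375 with h4 | h4
        · skip
          rcases Nat.lt_or_ge i 73125 with h5 | h5
          · skip
            rcases Nat.lt_or_ge i 73000 with h6 | h6
            · skip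
              rcases Nat.lt_or_ge i 72950 with h7 | h7
              · skip
                rcases Nat.lt_or_ge i 72925 with h8 | h8
                · skip
                  exact allRangeF_sound _ _ (checkPointF_eq cert) 72900 25 chkP_72900 i (by omega) (by omega)
                · skip
                  exact allRangeF_sound _ _ (checkPointF_eq cert) 72925 25 chkP_72925 i (by omega) (by omega)
              · skip
                rcases Nat.lt_or_ge i 72975 with h8 | h8
                · skip
                  exact allRangeF_sound _ _ (checkPointF_eq cert) 72950 25 chkP_72950 i (by omega) (by omega)
                · skip
                  exact allRangeF_sound _ _ (checkPointF_eq cert) 72975 25 chkP_72975 i (by omega) (by omega)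
            · skip
              rcases Nat.lt_or_ge i 73050 with h7 | h7
              · skip
                rcases Nat.lt_or_ge i 73025 with h8 | h8
                · skip
                  exact allRangeF_sound _ _ (checkPointF_eq cert) 73000 25 chkP_73000 i (by omega) (by omega)
                · skip
                  exact allRangeF_sound _ _ (checkPointF_eq cert) 73025 25 chkP_73025 i (by omega) (by omega)
              · skip
                rcases Nat.lt_or_ge i 73075 with h8 | h8
                · skip
                  exact allRangeF_sound _ _ (checkPointF_eq cert) 73050 25 chkP_73050 i (by omega) (by omega)
                · skip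
                  rcases Nat.lt_or_ge i 73100 with h9 | h9
                  · skip
                    exact allRangeF_sound _ _ (checkPointF_eq cert) 73075 25 chkP_73075 i (by omega) (by omega)
                  · skip
                    exact allRangeF_sound _ _ (checkPointF_eq cert) 73100 25 chkP_73100 i (by omega) (by omega)
          · skip
            rcases Nat.lt_or_ge i 73250 with h6 | h6
            · skip
              rcases Nat.lt_or_ge i 73175 with h7 | h7
              · skip
                rcases Nat.lt_or_ge i 73150 with h8 | h8
                · skip
                  exact allRangeF_sound _ _ (checkPointF_eq cert) 73125 25 chkP_73125 i (by omega) (by omega)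
                · skip
                  exact allRangeF_sound _ _ (checkPointF_eq cert) 73150 25 chkP_73150 i (by omega) (by omega)
              · skip
                rcases Nat.lt_or_ge i 73200 with h8 | h8
                · skip
                  exact allRangeF_sound _ _ (checkPointF_eq cert) 73175 25 chkP_73175 i (by omega) (by omega)
                · skip
                  rcases Nat.lt_or_ge i 73225 with h9 | h9
                  · skip
                    exact allRangeF_sound _ _ (checkPointF_eq cert) 73200 25 chkP_73200 i (by omega) (by omega)
                  · skip
                    exact allRangeF_sound _ _ (checkPointF_eq cert) 73225 25 chkP_73225 i (by omega) (by omega)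
            · skip
              rcases Nat.lt_or_ge i 73300 with h7 | h7
              · skip
                rcases Nat.lt_or_ge i 73275 with h8 | h8
                · skip
                  exact allRangeF_sound _ _ (checkPointF_eq cert) 73250 25 chkP_73250 i (by omega) (by omega)
                · skip
                  exact allRangeF_sound _ _ (checkPointF_eq cert) 73275 25 chkP_73275 i (by omega) (by omega)
              · skip
                rcases Nat.lt_or_ge i 73325 with h8 | h8
                · skip
                  exact allRangeF_sound _ _ (checkPointF_eq cert) 73300 25 chkP_73300 i (by omega) (by omega)
                · skip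
                  rcases Nat.lt_or_ge i 73350 with h9 | h9
                  · skip
                    exact allRangeF_sound _ _ (checkPointF_eq cert) 73325 25 chkP_73325 i (by omega) (by omega)
                  · skip
                    exact allRangeF_sound _ _ (checkPointF_eq cert) 73350 25 chkP_73350 i (by omega) (by omega)
        · skip
          rcases Nat.lt_or_ge i 73600 with h5 | h5
          · skip
            rcases Nat.lt_or_ge i 73475 with h6 | h6
            · skip
              rcases Nat.lt_or_ge i 73425 with h7 | h7
              · skip
                rcases Nat.lt_or_ge i 73400 with h8 | h8
                · skip
                  exact allRangeF_sound _ _ (checkPointF_eq cert) 73375 25 chkP_73375 i (by omega) (by omega)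
                · skip
                  exact allRangeF_sound _ _ (checkPointF_eq cert) 73400 25 chkP_73400 i (by omega) (by omega)
              · skip
                rcases Nat.lt_or_ge i 73450 with h8 | h8
                · skip
                  exact allRangeF_sound _ _ (checkPointF_eq cert) 73425 25 chkP_73425 i (by omega) (by omega)
                · skip
                  exact allRangeF_sound _ _ (checkPointF_eq cert) 73450 25 chkP_73450 i (by omega) (by omega)
            · skip
              rcases Nat.lt_or_ge i 73525 with h7 | h7
              · skip
                rcases Nat.lt_or_ge i 73500 with h8 | h8
                · skip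
                  exact allRangeF_sound _ _ (checkPointF_eq cert) 73475 25 chkP_73475 i (by omega) (by omega)
                · skip
                  exact allRangeF_sound _ _ (checkPointF_eq cert) 73500 25 chkP_73500 i (by omega) (by omega)
              · skip
                rcases Nat.lt_or_ge i 73550 with h8 | h8
                · skip
                  exact allRangeF_sound _ _ (checkPointF_eq cert) 73525 25 chkP_73525 i (by omega) (by omega)
                · skip
                  rcases Nat.lt_or_ge i 73575 with h9 | h9
                  · skip
                    exact allRangeF_sound _ _ (checkPointF_eq cert) 73550 25 chkP_73550 i (by omega) (by omega)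
                  · skip
                    exact allRangeF_sound _ _ (checkPointF_eq cert) 73575 25 chkP_73575 i (by omega) (by omega)
          · skip
            rcases Nat.lt_or_ge i 73725 with h6 | h6
            · skip
              rcases Nat.lt_or_ge i 73650 with h7 | h7
              · skip
                rcases Nat.lt_or_ge i 73625 with h8 | h8
                · skip
                  exact allRangeF_sound _ _ (checkPointF_eq cert) 73600 25 chkP_73600 i (by omega) (by omega)
                · skip
                  exact allRangeF_sound _ _ (checkPointF_eq cert) 73625 25 chkP_73625 i (by omega) (by omega)
              · skip
                rcases Nat.lt_or_ge i 73675 with h8 | h8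
                · skip
                  exact allRangeF_sound _ _ (checkPointF_eq cert) 73650 25 chkP_73650 i (by omega) (by omega)
                · skip
                  rcases Nat.lt_or_ge i 73700 with h9 | h9
                  · skip
                    exact allRangeF_sound _ _ (checkPointF_eq cert) 73675 25 chkP_73675 i (by omega) (by omega)
                  · skip
                    exact allRangeF_sound _ _ (checkPointF_eq cert) 73700 25 chkP_73700 i (by omega) (by omega)
            · skip
              rcases Nat.lt_or_ge i 73775 with h7 | h7
              · skip
                rcases Nat.lt_or_ge i 73750 with h8 | h8
                · skip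
                  exact allRangeF_sound _ _ (checkPointF_eq cert) 73725 25 chkP_73725 i (by omega) (by omega)
                · skip
                  exact allRangeF_sound _ _ (checkPointF_eq cert) 73750 25 chkP_73750 i (by omega) (by omega)
              · skip
                rcases Nat.lt_or_ge i 73800 with h8 | h8
                · skip
                  exact allRangeF_sound _ _ (checkPointF_eq cert) 73775 25 chkP_73775 i (by omega) (by omega)
                · skip
                  rcases Nat.lt_or_ge i 73825 with h9 | h9
                  · skip
                    exact allRangeF_sound _ _ (checkPointF_eq cert) 73800 25 chkP_73800 i (by omega) (by omega)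
                  · skip
                    exact allRangeF_sound _ _ (checkPointF_eq cert) 73825 25 chkP_73825 i (by omega) (by omega)
      · skip
        rcases Nat.lt_or_ge i 74325 with h4 | h4
        · skip
          rcases Nat.lt_or_ge i 74075 with h5 | h5
          · skip
            rcases Nat.lt_or_ge i 73950 with h6 | h6
            · skip
              rcases Nat.lt_or_ge i 73900 with h7 | h7
              · skip
                rcases Nat.lt_or_ge i 73875 with h8 | h8
                · skip
                  exact allRangeF_sound _ _ (checkPointF_eq cert) 73850 25 chkP_73850 i (by omega) (by omega)
                · skip
                  exact allRangeF_sound _ _ (checkPointF_eq cert) 73875 25 chkP_73875 i (by omega) (by omega)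
              · skip
                rcases Nat.lt_or_ge i 73925 with h8 | h8
                · skip
                  exact allRangeF_sound _ _ (checkPointF_eq cert) 73900 25 chkP_73900 i (by omega) (by omega)
                · skip
                  exact allRangeF_sound _ _ (checkPointF_eq cert) 73925 25 chkP_73925 i (by omega) (by omega)
            · skip
              rcases Nat.lt_or_ge i 74000 with h7 | h7
              · skip
                rcases Nat.lt_or_ge i 73975 with h8 | h8
                · skip
                  exact allRangeF_sound _ _ (checkPointF_eq cert) 73950 25 chkP_73950 i (by omega) (by omega)
                · skip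
                  exact allRangeF_sound _ _ (checkPointF_eq cert) 73975 25 chkP_73975 i (by omega) (by omega)
              · skip
                rcases Nat.lt_or_ge i 74025 with h8 | h8
                · skip
                  exact allRangeF_sound _ _ (checkPointF_eq cert) 74000 25 chkP_74000 i (by omega) (by omega)
                · skip
                  rcases Nat.lt_or_ge i 74050 with h9 | h9
                  · skip
                    exact allRangeF_sound _ _ (checkPointF_eq cert) 74025 25 chkP_74025 i (by omega) (by omega)
                  · skip
                    exact allRangeF_sound _ _ (checkPointF_eq cert) 74050 25 chkP_74050 i (by omega) (by omega)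
          · skip
            rcases Nat.lt_or_ge i 74200 with h6 | h6
            · skip
              rcases Nat.lt_or_ge i 74125 with h7 | h7
              · skip
                rcases Nat.lt_or_ge i 74100 with h8 | h8
                · skip
                  exact allRangeF_sound _ _ (checkPointF_eq cert) 74075 25 chkP_74075 i (by omega) (by omega)
                · skip
                  exact allRangeF_sound _ _ (checkPointF_eq cert) 74100 25 chkP_74100 i (by omega) (by omega)
              · skip
                rcases Nat.lt_or_ge i 74150 with h8 | h8
                · skip
                  exact allRangeF_sound _ _ (checkPointF_eq cert) 74125 25 chkP_74125 i (by omega) (by omega)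
                · skip
                  rcases Nat.lt_or_ge i 74175 with h9 | h9
                  · skip
                    exact allRangeF_sound _ _ (checkPointF_eq cert) 74150 25 chkP_74150 i (by omega) (by omega)
                  · skip
                    exact allRangeF_sound _ _ (checkPointF_eq cert) 74175 25 chkP_74175 i (by omega) (by omega)
            · skip
              rcases Nat.lt_or_ge i 74250 with h7 | h7
              · skip
                rcases Nat.lt_or_ge i 74225 with h8 | h8
                · skip
                  exact allRangeF_sound _ _ (checkPointF_eq cert) 74200 25 chkP_74200 i (by omega) (by omega)
                · skip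
                  exact allRangeF_sound _ _ (checkPointF_eq cert) 74225 25 chkP_74225 i (by omega) (by omega)
              · skip
                rcases Nat.lt_or_ge i 74275 with h8 | h8
                · skip
                  exact allRangeF_sound _ _ (checkPointF_eq cert) 74250 25 chkP_74250 i (by omega) (by omega)
                · skip
                  rcases Nat.lt_or_ge i 74300 with h9 | h9
                  · skip
                    exact allRangeF_sound _ _ (checkPointF_eq cert) 74275 25 chkP_74275 i (by omega) (by omega)
                  · skip
                    exact allRangeF_sound _ _ (checkPointF_eq cert) 74300 25 chkP_74300 i (by omega) (by omega)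
        · skip
          rcases Nat.lt_or_ge i 74575 with h5 | h5
          · skip
            rcases Nat.lt_or_ge i 74450 with h6 | h6
            · skip
              rcases Nat.lt_or_ge i 74375 with h7 | h7
              · skip
                rcases Nat.lt_or_ge i 74350 with h8 | h8
                · skip
                  exact allRangeF_sound _ _ (checkPointF_eq cert) 74325 25 chkP_74325 i (by omega) (by omega)
                · skip
                  exact allRangeF_sound _ _ (checkPointF_eq cert) 74350 25 chkP_74350 i (by omega) (by omega)
              · skip
                rcases Nat.lt_or_ge i 74400 with h8 | h8
                · skip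
                  exact allRangeF_sound _ _ (checkPointF_eq cert) 74375 25 chkP_74375 i (by omega) (by omega)
                · skip
                  rcases Nat.lt_or_ge i 74425 with h9 | h9
                  · skip
                    exact allRangeF_sound _ _ (checkPointF_eq cert) 74400 25 chkP_74400 i (by omega) (by omega)
                  · skip
                    exact allRangeF_sound _ _ (checkPointF_eq cert) 74425 25 chkP_74425 i (by omega) (by omega)
            · skip
              rcases Nat.lt_or_ge i 74500 with h7 | h7
              · skip
                rcases Nat.lt_or_ge i 74475 with h8 | h8
                · skip
                  exact allRangeF_sound _ _ (checkPointF_eq cert) 74450 25 chkP_74450 i (by omega) (by omega)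
                · skip
                  exact allRangeF_sound _ _ (checkPointF_eq cert) 74475 25 chkP_74475 i (by omega) (by omega)
              · skip
                rcases Nat.lt_or_ge i 74525 with h8 | h8
                · skip
                  exact allRangeF_sound _ _ (checkPointF_eq cert) 74500 25 chkP_74500 i (by omega) (by omega)
                · skip
                  rcases Nat.lt_or_ge i 74550 with h9 | h9
                  · skip
                    exact allRangeF_sound _ _ (checkPointF_eq cert) 74525 25 chkP_74525 i (by omega) (by omega)
                  · skip
                    exact allRangeF_sound _ _ (checkPointF_eq cert) 74550 25 chkP_74550 i (by omega) (by omega)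
          · skip
            rcases Nat.lt_or_ge i 74700 with h6 | h6
            · skip
              rcases Nat.lt_or_ge i 74625 with h7 | h7
              · skip
                rcases Nat.lt_or_ge i 74600 with h8 | h8
                · skip
                  exact allRangeF_sound _ _ (checkPointF_eq cert) 74575 25 chkP_74575 i (by omega) (by omega)
                · skip
                  exact allRangeF_sound _ _ (checkPointF_eq cert) 74600 25 chkP_74600 i (by omega) (by omega)
              · skip
                rcases Nat.lt_or_ge i 74650 with h8 | h8
                · skip
                  exact allRangeF_sound _ _ (checkPointF_eq cert) 74625 25 chkP_74625 i (by omega) (by omega)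
                · skip
                  rcases Nat.lt_or_ge i 74675 with h9 | h9
                  · skip
                    exact allRangeF_sound _ _ (checkPointF_eq cert) 74650 25 chkP_74650 i (by omega) (by omega)
                  · skip
                    exact allRangeF_sound _ _ (checkPointF_eq cert) 74675 25 chkP_74675 i (by omega) (by omega)
            · skip
              rcases Nat.lt_or_ge i 74750 with h7 | h7
              · skip
                rcases Nat.lt_or_ge i 74725 with h8 | h8
                · skip
                  exact allRangeF_sound _ _ (checkPointF_eq cert) 74700 25 chkP_74700 i (by omega) (by omega)
                · skip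
                  exact allRangeF_sound _ _ (checkPointF_eq cert) 74725 25 chkP_74725 i (by omega) (by omega)
              · skip
                rcases Nat.lt_or_ge i 74775 with h8 | h8
                · skip
                  exact allRangeF_sound _ _ (checkPointF_eq cert) 74750 25 chkP_74750 i (by omega) (by omega)
                · skip
                  rcases Nat.lt_or_ge i 74800 with h9 | h9
                  · skip
                    exact allRangeF_sound _ _ (checkPointF_eq cert) 74775 25 chkP_74775 i (by omega) (by omega)
                  · skip
                    exact allRangeF_sound _ _ (checkPointF_eq cert) 74800 25 chkP_74800 i (by omega) (by omega)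
    · skip
      rcases Nat.lt_or_ge i 75775 with h3 | h3
      · skip
        rcases Nat.lt_or_ge i 75300 with h4 | h4
        · skip
          rcases Nat.lt_or_ge i 75050 with h5 | h5
          · skip
            rcases Nat.lt_or_ge i 74925 with h6 | h6
            · skip
              rcases Nat.lt_or_ge i 74875 with h7 | h7
              · skip
                rcases Nat.lt_or_ge i 74850 with h8 | h8
                · skip
                  exact allRangeF_sound _ _ (checkPointF_eq cert) 74825 25 chkP_74825 i (by omega) (by omega)
                · skip
                  exact allRangeF_sound _ _ (checkPointF_eq cert) 74850 25 chkP_74850 i (by omega) (by omega)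
              · skip
                rcases Nat.lt_or_ge i 74900 with h8 | h8
                · skip
                  exact allRangeF_sound _ _ (checkPointF_eq cert) 74875 25 chkP_74875 i (by omega) (by omega)
                · skip
                  exact allRangeF_sound _ _ (checkPointF_eq cert) 74900 25 chkP_74900 i (by omega) (by omega)
            · skip
              rcases Nat.lt_or_ge i 74975 with h7 | h7
              · skip
                rcases Nat.lt_or_ge i 74950 with h8 | h8
                · skip
                  exact allRangeF_sound _ _ (checkPointF_eq cert) 74925 25 chkP_74925 i (by omega) (by omega)
                · skip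
                  exact allRangeF_sound _ _ (checkPointF_eq cert) 74950 25 chkP_74950 i (by omega) (by omega)
              · skip
                rcases Nat.lt_or_ge i 75000 with h8 | h8
                · skip
                  exact allRangeF_sound _ _ (checkPointF_eq cert) 74975 25 chkP_74975 i (by omega) (by omega)
                · skip
                  rcases Nat.lt_or_ge i 75025 with h9 | h9
                  · skip
                    exact allRangeF_sound _ _ (checkPointF_eq cert) 75000 25 chkP_75000 i (by omega) (by omega)
                  · skip
                    exact allRangeF_sound _ _ (checkPointF_eq cert) 75025 25 chkP_75025 i (by omega) (by omega)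
          · skip
            rcases Nat.lt_or_ge i 75175 with h6 | h6
            · skip
              rcases Nat.lt_or_ge i 75100 with h7 | h7
              · skip
                rcases Nat.lt_or_ge i 75075 with h8 | h8
                · skip
                  exact allRangeF_sound _ _ (checkPointF_eq cert) 75050 25 chkP_75050 i (by omega) (by omega)
                · skip
                  exact allRangeF_sound _ _ (checkPointF_eq cert) 75075 25 chkP_75075 i (by omega) (by omega)
              · skip
                rcases Nat.lt_or_ge i 75125 with h8 | h8
                · skip
                  exact allRangeF_sound _ _ (checkPointF_eq cert) 75100 25 chkP_75100 i (by omega) (by omega)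
                · skip
                  rcases Nat.lt_or_ge i 75150 with h9 | h9
                  · skip
                    exact allRangeF_sound _ _ (checkPointF_eq cert) 75125 25 chkP_75125 i (by omega) (by omega)
                  · skip
                    exact allRangeF_sound _ _ (checkPointF_eq cert) 75150 25 chkP_75150 i (by omega) (by omega)
            · skip
              rcases Nat.lt_or_ge i 75225 with h7 | h7
              · skip
                rcases Nat.lt_or_ge i 75200 with h8 | h8
                · skip
                  exact allRangeF_sound _ _ (checkPointF_eq cert) 75175 25 chkP_75175 i (by omega) (by omega)
                · skip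
                  exact allRangeF_sound _ _ (checkPointF_eq cert) 75200 25 chkP_75200 i (by omega) (by omega)
              · skip
                rcases Nat.lt_or_ge i 75250 with h8 | h8
                · skip
                  exact allRangeF_sound _ _ (checkPointF_eq cert) 75225 25 chkP_75225 i (by omega) (by omega)
                · skip
                  rcases Nat.lt_or_ge i 75275 with h9 | h9
                  · skip
                    exact allRangeF_sound _ _ (checkPointF_eq cert) 75250 25 chkP_75250 i (by omega) (by omega)
                  · skip
                    exact allRangeF_sound _ _ (checkPointF_eq cert) 75275 25 chkP_75275 i (by omega) (by omega)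
        · skip
          rcases Nat.lt_or_ge i 75525 with h5 | h5
          · skip
            rcases Nat.lt_or_ge i 75400 with h6 | h6
            · skip
              rcases Nat.lt_or_ge i 75350 with h7 | h7
              · skip
                rcases Nat.lt_or_ge i 75325 with h8 | h8
                · skip
                  exact allRangeF_sound _ _ (checkPointF_eq cert) 75300 25 chkP_75300 i (by omega) (by omega)
                · skip
                  exact allRangeF_sound _ _ (checkPointF_eq cert) 75325 25 chkP_75325 i (by omega) (by omega)
              · skip
                rcases Nat.lt_or_ge i 75375 with h8 | h8
                · skip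
                  exact allRangeF_sound _ _ (checkPointF_eq cert) 75350 25 chkP_75350 i (by omega) (by omega)
                · skip
                  exact allRangeF_sound _ _ (checkPointF_eq cert) 75375 25 chkP_75375 i (by omega) (by omega)
            · skip
              rcases Nat.lt_or_ge i 75450 with h7 | h7
              · skip
                rcases Nat.lt_or_ge i 75425 with h8 | h8
                · skip
                  exact allRangeF_sound _ _ (checkPointF_eq cert) 75400 25 chkP_75400 i (by omega) (by omega)
                · skip
                  exact allRangeF_sound _ _ (checkPointF_eq cert) 75425 25 chkP_75425 i (by omega) (by omega)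
              · skip
                rcases Nat.lt_or_ge i 75475 with h8 | h8
                · skip
                  exact allRangeF_sound _ _ (checkPointF_eq cert) 75450 25 chkP_75450 i (by omega) (by omega)
                · skip
                  rcases Nat.lt_or_ge i 75500 with h9 | h9
                  · skip
                    exact allRangeF_sound _ _ (checkPointF_eq cert) 75475 25 chkP_75475 i (by omega) (by omega)
                  · skip
                    exact allRangeF_sound _ _ (checkPointF_eq cert) 75500 25 chkP_75500 i (by omega) (by omega)
          · skip
            rcases Nat.lt_or_ge i 75650 with h6 | h6
            · skip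
              rcases Nat.lt_or_ge i 75575 with h7 | h7
              · skip
                rcases Nat.lt_or_ge i 75550 with h8 | h8
                · skip
                  exact allRangeF_sound _ _ (checkPointF_eq cert) 75525 25 chkP_75525 i (by omega) (by omega)
                · skip
                  exact allRangeF_sound _ _ (checkPointF_eq cert) 75550 25 chkP_75550 i (by omega) (by omega)
              · skip
                rcases Nat.lt_or_ge i 75600 with h8 | h8
                · skip
                  exact allRangeF_sound _ _ (checkPointF_eq cert) 75575 25 chkP_75575 i (by omega) (by omega)
                · skip
                  rcases Nat.lt_or_ge i 75625 with h9 | h9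
                  · skip
                    exact allRangeF_sound _ _ (checkPointF_eq cert) 75600 25 chkP_75600 i (by omega) (by omega)
                  · skip
                    exact allRangeF_sound _ _ (checkPointF_eq cert) 75625 25 chkP_75625 i (by omega) (by omega)
            · skip
              rcases Nat.lt_or_ge i 75700 with h7 | h7
              · skip
                rcases Nat.lt_or_ge i 75675 with h8 | h8
                · skip
                  exact allRangeF_sound _ _ (checkPointF_eq cert) 75650 25 chkP_75650 i (by omega) (by omega)
                · skip
                  exact allRangeF_sound _ _ (checkPointF_eq cert) 75675 25 chkP_75675 i (by omega) (by omega)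
              · skip
                rcases Nat.lt_or_ge i 75725 with h8 | h8
                · skip
                  exact allRangeF_sound _ _ (checkPointF_eq cert) 75700 25 chkP_75700 i (by omega) (by omega)
                · skip
                  rcases Nat.lt_or_ge i 75750 with h9 | h9
                  · skip
                    exact allRangeF_sound _ _ (checkPointF_eq cert) 75725 25 chkP_75725 i (by omega) (by omega)
                  · skip
                    exact allRangeF_sound _ _ (checkPointF_eq cert) 75750 25 chkP_75750 i (by omega) (by omega)
      · skip
        rcases Nat.lt_or_ge i 76250 with h4 | h4
        · skip
          rcases Nat.lt_or_ge i 76000 with h5 | h5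
          · skip
            rcases Nat.lt_or_ge i 75875 with h6 | h6
            · skip
              rcases Nat.lt_or_ge i 75825 with h7 | h7
              · skip
                rcases Nat.lt_or_ge i 75800 with h8 | h8
                · skip
                  exact allRangeF_sound _ _ (checkPointF_eq cert) 75775 25 chkP_75775 i (by omega) (by omega)
                · skip
                  exact allRangeF_sound _ _ (checkPointF_eq cert) 75800 25 chkP_75800 i (by omega) (by omega)
              · skip
                rcases Nat.lt_or_ge i 75850 with h8 | h8
                · skip
                  exact allRangeF_sound _ _ (checkPointF_eq cert) 75825 25 chkP_75825 i (by omega) (by omega)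
                · skip
                  exact allRangeF_sound _ _ (checkPointF_eq cert) 75850 25 chkP_75850 i (by omega) (by omega)
            · skip
              rcases Nat.lt_or_ge i 75925 with h7 | h7
              · skip
                rcases Nat.lt_or_ge i 75900 with h8 | h8
                · skip
                  exact allRangeF_sound _ _ (checkPointF_eq cert) 75875 25 chkP_75875 i (by omega) (by omega)
                · skip
                  exact allRangeF_sound _ _ (checkPointF_eq cert) 75900 25 chkP_75900 i (by omega) (by omega)
              · skip
                rcases Nat.lt_or_ge i 75950 with h8 | h8
                · skip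
                  exact allRangeF_sound _ _ (checkPointF_eq cert) 75925 25 chkP_75925 i (by omega) (by omega)
                · skip
                  rcases Nat.lt_or_ge i 75975 with h9 | h9
                  · skip
                    exact allRangeF_sound _ _ (checkPointF_eq cert) 75950 25 chkP_75950 i (by omega) (by omega)
                  · skip
                    exact allRangeF_sound _ _ (checkPointF_eq cert) 75975 25 chkP_75975 i (by omega) (by omega)
          · skip
            rcases Nat.lt_or_ge i 76125 with h6 | h6
            · skip
              rcases Nat.lt_or_ge i 76050 with h7 | h7
              · skip
                rcases Nat.lt_or_ge i 76025 with h8 | h8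
                · skip
                  exact allRangeF_sound _ _ (checkPointF_eq cert) 76000 25 chkP_76000 i (by omega) (by omega)
                · skip
                  exact allRangeF_sound _ _ (checkPointF_eq cert) 76025 25 chkP_76025 i (by omega) (by omega)
              · skip
                rcases Nat.lt_or_ge i 76075 with h8 | h8
                · skip
                  exact allRangeF_sound _ _ (checkPointF_eq cert) 76050 25 chkP_76050 i (by omega) (by omega)
                · skip
                  rcases Nat.lt_or_ge i 76100 with h9 | h9
                  · skip
                    exact allRangeF_sound _ _ (checkPointF_eq cert) 76075 25 chkP_76075 i (by omega) (by omega)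
                  · skip
                    exact allRangeF_sound _ _ (checkPointF_eq cert) 76100 25 chkP_76100 i (by omega) (by omega)
            · skip
              rcases Nat.lt_or_ge i 76175 with h7 | h7
              · skip
                rcases Nat.lt_or_ge i 76150 with h8 | h8
                · skip
                  exact allRangeF_sound _ _ (checkPointF_eq cert) 76125 25 chkP_76125 i (by omega) (by omega)
                · skip
                  exact allRangeF_sound _ _ (checkPointF_eq cert) 76150 25 chkP_76150 i (by omega) (by omega)
              · skip
                rcases Nat.lt_or_ge i 76200 with h8 | h8
                · skip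
                  exact allRangeF_sound _ _ (checkPointF_eq cert) 76175 25 chkP_76175 i (by omega) (by omega)
                · skip
                  rcases Nat.lt_or_ge i 76225 with h9 | h9
                  · skip
                    exact allRangeF_sound _ _ (checkPointF_eq cert) 76200 25 chkP_76200 i (by omega) (by omega)
                  · skip
                    exact allRangeF_sound _ _ (checkPointF_eq cert) 76225 25 chkP_76225 i (by omega) (by omega)
        · skip
          rcases Nat.lt_or_ge i 76500 with h5 | h5
          · skip
            rcases Nat.lt_or_ge i 76375 with h6 | h6
            · skip
              rcases Nat.lt_or_ge i 76300 with h7 | h7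
              · skip
                rcases Nat.lt_or_ge i 76275 with h8 | h8
                · skip
                  exact allRangeF_sound _ _ (checkPointF_eq cert) 76250 25 chkP_76250 i (by omega) (by omega)
                · skip
                  exact allRangeF_sound _ _ (checkPointF_eq cert) 76275 25 chkP_76275 i (by omega) (by omega)
              · skip
                rcases Nat.lt_or_ge i 76325 with h8 | h8
                · skip
                  exact allRangeF_sound _ _ (checkPointF_eq cert) 76300 25 chkP_76300 i (by omega) (by omega)
                · skip
                  rcases Nat.lt_or_ge i 76350 with h9 | h9
                  · skip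
                    exact allRangeF_sound _ _ (checkPointF_eq cert) 76325 25 chkP_76325 i (by omega) (by omega)
                  · skip
                    exact allRangeF_sound _ _ (checkPointF_eq cert) 76350 25 chkP_76350 i (by omega) (by omega)
            · skip
              rcases Nat.lt_or_ge i 76425 with h7 | h7
              · skip
                rcases Nat.lt_or_ge i 76400 with h8 | h8
                · skip
                  exact allRangeF_sound _ _ (checkPointF_eq cert) 76375 25 chkP_76375 i (by omega) (by omega)
                · skip
                  exact allRangeF_sound _ _ (checkPointF_eq cert) 76400 25 chkP_76400 i (by omega) (by omega)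
              · skip
                rcases Nat.lt_or_ge i 76450 with h8 | h8
                · skip
                  exact allRangeF_sound _ _ (checkPointF_eq cert) 76425 25 chkP_76425 i (by omega) (by omega)
                · skip
                  rcases Nat.lt_or_ge i 76475 with h9 | h9
                  · skip
                    exact allRangeF_sound _ _ (checkPointF_eq cert) 76450 25 chkP_76450 i (by omega) (by omega)
                  · skip
                    exact allRangeF_sound _ _ (checkPointF_eq cert) 76475 25 chkP_76475 i (by omega) (by omega)
          · skip
            rcases Nat.lt_or_ge i 76625 with h6 | h6
            · skip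
              rcases Nat.lt_or_ge i 76550 with h7 | h7
              · skip
                rcases Nat.lt_or_ge i 76525 with h8 | h8
                · skip
                  exact allRangeF_sound _ _ (checkPointF_eq cert) 76500 25 chkP_76500 i (by omega) (by omega)
                · skip
                  exact allRangeF_sound _ _ (checkPointF_eq cert) 76525 25 chkP_76525 i (by omega) (by omega)
              · skip
                rcases Nat.lt_or_ge i 76575 with h8 | h8
                · skip
                  exact allRangeF_sound _ _ (checkPointF_eq cert) 76550 25 chkP_76550 i (by omega) (by omega)
                · skip
                  rcases Nat.lt_or_ge i 76600 with h9 | h9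
                  · skip
                    exact allRangeF_sound _ _ (checkPointF_eq cert) 76575 25 chkP_76575 i (by omega) (by omega)
                  · skip
                    exact allRangeF_sound _ _ (checkPointF_eq cert) 76600 25 chkP_76600 i (by omega) (by omega)
            · skip
              rcases Nat.lt_or_ge i 76675 with h7 | h7
              · skip
                rcases Nat.lt_or_ge i 76650 with h8 | h8
                · skip
                  exact allRangeF_sound _ _ (checkPointF_eq cert) 76625 25 chkP_76625 i (by omega) (by omega)
                · skip
                  exact allRangeF_sound _ _ (checkPointF_eq cert) 76650 25 chkP_76650 i (by omega) (by omega)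
              · skip
                rcases Nat.lt_or_ge i 76700 with h8 | h8
                · skip
                  exact allRangeF_sound _ _ (checkPointF_eq cert) 76675 25 chkP_76675 i (by omega) (by omega)
                · skip
                  rcases Nat.lt_or_ge i 76725 with h9 | h9
                  · skip
                    exact allRangeF_sound _ _ (checkPointF_eq cert) 76700 25 chkP_76700 i (by omega) (by omega)
                  · skip
                    exact allRangeF_sound _ _ (checkPointF_eq cert) 76725 25 chkP_76725 i (by omega) (by omega)

end Cfsg.Agent.Lib.Helper28.Fi24Data
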