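import Cfsg.Agent.Lib.Helper28.TCIndexB

set_option autoImplicit false

namespace Cfsg.Agent.Lib.Helper28B

section Orbit

variable {C : Cert} {G : Type*} [Group G] {H : Subgroup G} {gam : Nat → G}
  {φ : G →* Equiv.Perm ℕ}

theorem Setup.p1 (S : Setup C H gam φ) (p : Nat) (hp : p < C.n) : checkP1 C p = true := by
  have hcp := S.hpts p hp
  simp only [checkPoint, Bool.and_eq_true] at hcp
  exact hcp.1

theorem Setup.p5 (S : Setup C H gam φ) (p : Nat) (hp : p < C.n) : checkP5 C p = true := by
  have hcp := S.hpts p hp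
  simp only [checkPoint, Bool.and_eq_true] at hcp
  exact hcp.2.2.2

theorem Setup.psi_equiv (S : Setup C H gam φ) (g : G) :
    (∀ p, p < C.n → psi C H gam (rN φ p g) = ract (psi C H gam p) g) ∧
    (∀ p, p < C.n → psi C H gam (rN φ p g⁻¹) = ract (psi C H gam p) g⁻¹) := by
  have hg : g ∈ Subgroup.closure (gam '' {i | i < C.k}) := by rw [S.hgen]; trivial
  induction hg using Subgroup.closure_induction with
  | mem y hy =>
    obtain ⟨i, hi, rfl⟩ := hy
    have hi' : i < C.k := hi
    constructor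
    · intro p hp
      rw [S.hφ i hi' p hp]
      exact (gen_equiv C H gam S.facts p i hi' (S.p5 p hp)).symm
    · intro p hp
      have := rN_letter C gam φ S.hφ S.hpts (2 * i + 1) p (by omega) hp
      rw [letG_odd] at this
      rw [this]
      exact (gen_equiv_inv C H gam S.facts S.hpts p i hp hi').symm
  | one =>
    constructor
    · intro p _; rw [rN_one, ract_one]
    · intro p _; rw [inv_one, rN_one, ract_one]
  | mul a b _ _ ha hb =>
    constructor
    · intro p hp
      have h1 := (rN_invariant C gam φ S.hφ S.hpts S.hgen a).1 p hp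
      rw [rN_mul, hb.1 _ h1, ha.1 p hp, ract_mul]
    · intro p hp
      have h1 := (rN_invariant C gam φ S.hφ S.hpts S.hgen b).2 p hp
      rw [mul_inv_rev, rN_mul, ha.2 _ h1, hb.2 p hp, ract_mul]
  | inv a _ ha =>
    constructor
    · exact ha.2
    · intro p hp; rw [inv_inv]; exact ha.1 p hp

theorem Setup.psi_injOn (S : Setup C H gam φ) : Set.InjOn (psi C H gam) {p | p < C.n} := by
  apply Set.injOn_of_ncard_image_eq _ (finite_lt C.n)
  rw [image_univ C H gam S.facts S.hpts S.hglob S.hgen, Set.ncard_univ, ← Subgroup.index_eq_card,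
    S.index_eq, ncard_lt]

/-- orbit of a point under `H` (acting on the right through `φ`) -/
def Hpt (H : Subgroup G) (φ : G →* Equiv.Perm ℕ) (p : ℕ) : Set ℕ := {q | ∃ h ∈ H, q = rN φ p h}

theorem Setup.Hpt_sub (S : Setup C H gam φ) (p : ℕ) (hp : p < C.n) :
    Hpt H φ p ⊆ {q | q < C.n} := by
  rintro q ⟨h, _, rfl⟩
  exact (rN_invariant C gam φ S.hφ S.hpts S.hgen h).1 p hp

theorem Setup.orbit_eq_image (S : Setup C H gam φ) (p : ℕ) (hp : p < C.n) :
    MulAction.orbit ↥H (psi C H gam p) = psi C H gam '' Hpt H φ p := by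
  ext x
  constructor
  · rintro ⟨h, rfl⟩
    refine ⟨rN φ p (h : G)⁻¹, ⟨(h : G)⁻¹, H.inv_mem h.2, rfl⟩, ?_⟩
    rw [(S.psi_equiv (h : G)).2 p hp]
    show ((h : G)⁻¹)⁻¹ • psi C H gam p = _
    rw [inv_inv]
    rfl
  · rintro ⟨q, ⟨h, hh, rfl⟩, rfl⟩
    refine ⟨⟨h⁻¹, H.inv_mem hh⟩, ?_⟩
    rw [(S.psi_equiv h).1 p hp]
    rfl

def Lab (C : Cert) (lam : ℕ) : Set ℕ := {q | q < C.n ∧ C.ORB q = lam}

theorem Setup.letters (S : Setup C H gam φ) :
    ∀ w ∈ C.rels ++ C.subs, ∀ l ∈ w, l < 2 * C.k := by
  have hglob := S.hglob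
  simp only [checkGlobal, Bool.and_eq_true] at hglob
  obtain ⟨-, -, -, -, hlet⟩ := hglob
  intro w hw l hl
  have := allLetters_sound _ _ (allList_sound _ _ hlet w hw) l hl
  simpa [Nat.blt] using this

theorem Setup.sub_word (S : Setup C H gam φ) (w : List Nat) (hw : w ∈ C.subs) (p : ℕ)
    (hp : p < C.n) : rN φ p (evw gam w) = walkT C p w ∧ walkT C p w < C.n :=
  rN_word C gam φ S.hφ S.hpts w (S.letters w (by simp [hw])) p hp

theorem Setup.orb_pres (S : Setup C H gam φ) (horb : ∀ p, p < C.n → checkOrb C p = true)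
    (h : G) (hh : h ∈ Subgroup.closure {g | ∃ w ∈ C.subs, g = evw gam w}) :
    (∀ q, q < C.n → C.ORB (rN φ q h) = C.ORB q) ∧ (∀ q, q < C.n → C.ORB (rN φ q h⁻¹) = C.ORB q) := by
  induction hh using Subgroup.closure_induction with
  | mem y hy =>
    obtain ⟨w, hw, rfl⟩ := hy
    have key : ∀ q, q < C.n → C.ORB (rN φ q (evw gam w)) = C.ORB q := by
      intro q hq
      rw [(S.sub_word w hw q hq).1]
      have := horb q hq
      simp only [checkOrb, Bool.and_eq_true] at this
      exact Nat.eq_of_beq_eq_true (allList_sound _ _ this.1 w hw)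
    constructor
    · exact key
    · intro q hq
      have h1 := (rN_invariant C gam φ S.hφ S.hpts S.hgen (evw gam w)).2 q hq
      have := key _ h1
      rw [rN_cancel_inv] at this
      exact this.symm
  | one =>
    constructor
    · intro q _; rw [rN_one]
    · intro q _; rw [inv_one, rN_one]
  | mul a b _ _ ha hb =>
    constructor
    · intro q hq
      have h1 := (rN_invariant C gam φ S.hφ S.hpts S.hgen a).1 q hq
      rw [rN_mul, hb.1 _ h1, ha.1 q hq]
    · intro q hq
      have h1 := (rN_invariant C gam φ S.hφ S.hpts S.hgen b).2 q hq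
      rw [mul_inv_rev, rN_mul, ha.2 _ h1, hb.2 q hq]
  | inv a _ ha =>
    constructor
    · exact ha.2
    · intro q hq; rw [inv_inv]; exact ha.1 q hq

theorem Setup.Hpt_sub_Lab (S : Setup C H gam φ) (horb : ∀ p, p < C.n → checkOrb C p = true)
    (p : ℕ) (hp : p < C.n) : Hpt H φ p ⊆ Lab C (C.ORB p) := by
  rintro q ⟨h, hh, rfl⟩
  exact ⟨(rN_invariant C gam φ S.hφ S.hpts S.hgen h).1 p hp, (S.orb_pres horb h (S.hH hh)).1 p hp⟩

theorem getD_mem_of_lt (l : List (List Nat)) (j : Nat) (h : j < l.length) : l.getD j [] ∈ l := by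
  rw [List.getD_eq_getElem _ _ h]
  exact List.getElem_mem h

theorem Setup.reach_root (S : Setup C H gam φ) (horb : ∀ p, p < C.n → checkOrb C p = true) :
    ∀ (r p : ℕ), C.ORK p = r → p < C.n → ∃ h ∈ H, p = rN φ (C.ROOT (C.ORB p)) h := by
  intro r
  induction r using Nat.strong_induction_on with
  | _ r ih =>
    intro p hr hp
    have hc := horb p hp
    simp only [checkOrb, Bool.and_eq_true] at hc
    obtain ⟨ho1, hc2⟩ := hc
    by_cases h0 : Nat.beq (C.ORK p) 0 = true
    · rw [h0] at hc2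
      simp only [cond_true] at hc2
      have : p = C.ROOT (C.ORB p) := Nat.eq_of_beq_eq_true hc2
      exact ⟨1, H.one_mem, by rw [rN_one]; exact this⟩
    · have h0' : Nat.beq (C.ORK p) 0 = false := Bool.eq_false_iff.mpr h0
      rw [h0'] at hc2
      simp only [cond_false, Bool.and_eq_true] at hc2
      obtain ⟨hq, hrk, hj, hdir⟩ := hc2
      have hq' : C.OPAR p / 1024 < C.n := by simpa [Nat.blt] using hq
      have hrk' : C.ORK (C.OPAR p / 1024) < C.ORK p := by simpa [Nat.blt] using hrk
      have hj' : C.OPAR p % 1024 / 2 < C.subs.length := by simpa [Nat.blt] using hj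
      have hw := getD_mem_of_lt C.subs _ hj'
      have hwH := S.hsubs _ hw
      obtain ⟨h', hh', hq_eq⟩ := ih _ (by omega) (C.OPAR p / 1024) rfl hq'
      have hcq := horb _ hq'
      simp only [checkOrb, Bool.and_eq_true] at hcq
      by_cases hd : Nat.beq (C.OPAR p % 2) 0 = true
      · rw [hd] at hdir
        simp only [cond_true] at hdir
        have hwalk : walkT C (C.OPAR p / 1024) (C.subs.getD (C.OPAR p % 1024 / 2) []) = p :=
          Nat.eq_of_beq_eq_true hdir
        have hsw := (S.sub_word _ hw _ hq').1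
        rw [hwalk] at hsw
        have horbq : C.ORB p = C.ORB (C.OPAR p / 1024) := by
          have := Nat.eq_of_beq_eq_true (allList_sound _ _ hcq.1 _ hw)
          rw [hwalk] at this
          exact this
        refine ⟨h' * evw gam (C.subs.getD (C.OPAR p % 1024 / 2) []), H.mul_mem hh' hwH, ?_⟩
        rw [rN_mul, horbq, ← hq_eq, hsw]
      · have hd' : Nat.beq (C.OPAR p % 2) 0 = false := Bool.eq_false_iff.mpr hd
        rw [hd'] at hdir
        simp only [cond_false] at hdir
        have hwalk : walkT C p (C.subs.getD (C.OPAR p % 1024 / 2) []) = C.OPAR p / 1024 :=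
          Nat.eq_of_beq_eq_true hdir
        have hsw := (S.sub_word _ hw _ hp).1
        rw [hwalk] at hsw
        have horbq : C.ORB (C.OPAR p / 1024) = C.ORB p := by
          have := Nat.eq_of_beq_eq_true (allList_sound _ _ ho1 _ hw)
          rw [hwalk] at this
          exact this
        refine ⟨h' * (evw gam (C.subs.getD (C.OPAR p % 1024 / 2) []))⁻¹,
          H.mul_mem hh' (H.inv_mem hwH), ?_⟩
        rw [rN_mul, ← horbq, ← hq_eq, ← hsw, rN_inv_cancel]

theorem Setup.Hpt_eq_Lab (S : Setup C H gam φ) (horb : ∀ p, p < C.n → checkOrb C p = true)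
    (r : ℕ) (hr : r < C.n) (hroot : C.ORK r = 0) : Hpt H φ r = Lab C (C.ORB r) := by
  apply Set.Subset.antisymm (S.Hpt_sub_Lab horb r hr)
  rintro p ⟨hp, hlab⟩
  obtain ⟨h, hh, hp_eq⟩ := S.reach_root horb _ p rfl hp
  have hrr : C.ROOT (C.ORB r) = r := by
    have hc := horb r hr
    simp only [checkOrb, Bool.and_eq_true] at hc
    have h0 : Nat.beq (C.ORK r) 0 = true := by rw [hroot]; rfl
    rw [h0] at hc
    simp only [cond_true] at hc
    exact (Nat.eq_of_beq_eq_true hc.2).symm
  refine ⟨h, hh, ?_⟩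
  rw [hp_eq, hlab, hrr]

theorem countLab_eq (ORB : Nat → Nat) (lam n : Nat) :
    countLab ORB lam n = ((Finset.range n).filter (fun q => ORB q = lam)).card := by
  induction n with
  | zero => simp [countLab]
  | succ n ih =>
    rw [countLab, ih, Finset.range_add_one, Finset.filter_insert]
    by_cases h : ORB n = lam
    · have hb : Nat.beq (ORB n) lam = true := by rw [h]; exact Nat.beq_refl lam
      rw [hb]
      simp only [cond_true, h, if_true]
      rw [Finset.card_insert_of_notMem (by simp)]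
    · have hb : Nat.beq (ORB n) lam = false := by
        apply Bool.eq_false_iff.mpr
        intro hb
        exact h (Nat.eq_of_beq_eq_true hb)
      rw [hb]
      simp [h]

theorem Lab_ncard (C : Cert) (lam : ℕ) : (Lab C lam).ncard = countLab C.ORB lam C.n := by
  have : Lab C lam = ↑((Finset.range C.n).filter (fun q => C.ORB q = lam)) := by
    ext q; simp [Lab]
  rw [this, Set.ncard_coe_finset, countLab_eq]

theorem Setup.orbit_ncard (S : Setup C H gam φ) (horb : ∀ p, p < C.n → checkOrb C p = true)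
    (r : ℕ) (hr : r < C.n) (hroot : C.ORK r = 0) :
    (MulAction.orbit ↥H (psi C H gam r)).ncard = countLab C.ORB (C.ORB r) C.n := by
  rw [S.orbit_eq_image r hr, (S.psi_injOn.mono (S.Hpt_sub r hr)).ncard_image,
    S.Hpt_eq_Lab horb r hr hroot, Lab_ncard]

theorem Setup.orbit_ne (S : Setup C H gam φ) (horb : ∀ p, p < C.n → checkOrb C p = true)
    (r1 r2 : ℕ) (hr1 : r1 < C.n) (hr2 : r2 < C.n) (hne : C.ORB r1 ≠ C.ORB r2) :
    MulAction.orbit ↥H (psi C H gam r1) ≠ MulAction.orbit ↥H (psi C H gam r2) := by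
  intro heq
  have h1 : psi C H gam r1 ∈ MulAction.orbit ↥H (psi C H gam r1) := MulAction.mem_orbit_self _
  rw [heq, S.orbit_eq_image r2 hr2] at h1
  obtain ⟨q, hq, hqe⟩ := h1
  have hq2 := S.Hpt_sub_Lab horb r2 hr2 hq
  have := S.psi_injOn hq2.1 hr1 hqe
  rw [this] at hq2
  exact hne hq2.2

end Orbit

end Cfsg.Agent.Lib.Helper28B
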