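import Cfsg.Agent.Lib.Helper28.Fi24ChkP0
import Cfsg.Agent.Lib.Helper28.Fi24ChkP1
import Cfsg.Agent.Lib.Helper28.Fi24ChkP2
import Cfsg.Agent.Lib.Helper28.Fi24ChkP3
import Cfsg.Agent.Lib.Helper28.Fi24ChkP4
import Cfsg.Agent.Lib.Helper28.Fi24ChkP5
import Cfsg.Agent.Lib.Helper28.Fi24ChkP6
import Cfsg.Agent.Lib.Helper28.Fi24ChkP7
import Cfsg.Agent.Lib.Helper28.Fi24ChkP8
import Cfsg.Agent.Lib.Helper28.Fi24ChkP9
import Cfsg.Agent.Lib.Helper28.Fi24ChkP10
import Cfsg.Agent.Lib.Helper28.Fi24ChkP11
import Cfsg.Agent.Lib.Helper28.Fi24ChkP12
import Cfsg.Agent.Lib.Helper28.Fi24ChkP13
import Cfsg.Agent.Lib.Helper28.Fi24ChkP14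
import Cfsg.Agent.Lib.Helper28.Fi24ChkP15
import Cfsg.Agent.Lib.Helper28.Fi24ChkP16
import Cfsg.Agent.Lib.Helper28.Fi24ChkP17
import Cfsg.Agent.Lib.Helper28.Fi24ChkP18
import Cfsg.Agent.Lib.Helper28.Fi24ChkP19
import Cfsg.Agent.Lib.Helper28.Fi24ChkP20
import Cfsg.Agent.Lib.Helper28.Fi24ChkP21
import Cfsg.Agent.Lib.Helper28.Fi24ChkP22
import Cfsg.Agent.Lib.Helper28.Fi24ChkP23
import Cfsg.Agent.Lib.Helper28.Fi24ChkP24
import Cfsg.Agent.Lib.Helper28.Fi24ChkP25
import Cfsg.Agent.Lib.Helper28.Fi24ChkP26
import Cfsg.Agent.Lib.Helper28.Fi24ChkP27
import Cfsg.Agent.Lib.Helper28.Fi24ChkP28
import Cfsg.Agent.Lib.Helper28.Fi24ChkP29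
import Cfsg.Agent.Lib.Helper28.Fi24ChkP30
import Cfsg.Agent.Lib.Helper28.Fi24ChkP31
import Cfsg.Agent.Lib.Helper28.Fi24ChkP32
import Cfsg.Agent.Lib.Helper28.Fi24ChkP33
import Cfsg.Agent.Lib.Helper28.Fi24ChkP34
import Cfsg.Agent.Lib.Helper28.Fi24ChkP35
import Cfsg.Agent.Lib.Helper28.Fi24ChkP36
import Cfsg.Agent.Lib.Helper28.Fi24ChkP37
import Cfsg.Agent.Lib.Helper28.Fi24ChkP38
import Cfsg.Agent.Lib.Helper28.Fi24ChkP39
import Cfsg.Agent.Lib.Helper28.Fi24ChkF0
import Cfsg.Agent.Lib.Helper28.Fi24ChkF1
import Cfsg.Agent.Lib.Helper28.Fi24ChkF2
import Cfsg.Agent.Lib.Helper28.Fi24ChkF3
import Cfsg.Agent.Lib.Helper28.Fi24ChkF4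
import Cfsg.Agent.Lib.Helper28.Fi24ChkF5
import Cfsg.Agent.Lib.Helper28.Fi24ChkF6
import Cfsg.Agent.Lib.Helper28.Fi24ChkF7
import Cfsg.Agent.Lib.Helper28.Fi24ChkF8
import Cfsg.Agent.Lib.Helper28.Fi24ChkF9
import Cfsg.Agent.Lib.Helper28.Fi24ChkF10
import Cfsg.Agent.Lib.Helper28.Fi24ChkF11
import Cfsg.Agent.Lib.Helper28.Fi24ChkF12
import Cfsg.Agent.Lib.Helper28.Fi24ChkF13
import Cfsg.Agent.Lib.Helper28.Fi24ChkF14
import Cfsg.Agent.Lib.Helper28.Fi24ChkF15
import Cfsg.Agent.Lib.Helper28.Fi24ChkF16
import Cfsg.Agent.Lib.Helper28.Fi24ChkF17
import Cfsg.Agent.Lib.Helper28.Fi24ChkF18
import Cfsg.Agent.Lib.Helper28.Fi24ChkF19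
import Cfsg.Agent.Lib.Helper28.Fi24ChkF20
import Cfsg.Agent.Lib.Helper28.Fi24ChkF21
import Cfsg.Agent.Lib.Helper28.Fi24ChkF22
import Cfsg.Agent.Lib.Helper28.Fi24ChkF23
import Cfsg.Agent.Lib.Helper28.Fi24ChkF24
import Cfsg.Agent.Lib.Helper28.Fi24ChkF25
import Cfsg.Agent.Lib.Helper28.Fi24ChkF26
import Cfsg.Agent.Lib.Helper28.Fi24ChkF27
import Cfsg.Agent.Lib.Helper28.Fi24ChkF28
import Cfsg.Agent.Lib.Helper28.Fi24ChkF29
import Cfsg.Agent.Lib.Helper28.Fi24ChkF30
import Cfsg.Agent.Lib.Helper28.Fi24ChkF31
import Cfsg.Agent.Lib.Helper28.Fi24ChkF32
import Cfsg.Agent.Lib.Helper28.Fi24ChkF33
import Cfsg.Agent.Lib.Helper28.Fi24ChkF34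
import Cfsg.Agent.Lib.Helper28.Fi24ChkF35
import Cfsg.Agent.Lib.Helper28.Fi24ChkF36
import Cfsg.Agent.Lib.Helper28.Fi24ChkF37
import Cfsg.Agent.Lib.Helper28.Fi24ChkF38
import Cfsg.Agent.Lib.Helper28.Fi24ChkF39
import Cfsg.Agent.Lib.Helper28.TCOrbitB

set_option autoImplicit false
set_option maxRecDepth 1000000
set_option linter.all false
set_option Elab.async false

namespace Cfsg.Agent.Lib.Helper28.Fi24Data

open Cfsg.Agent.Lib.Helper28B

theorem chkG : checkGlobal cert = true := by decide +kernel

theorem chkR2 : checkRels2 cert = true := by decide +kernel

theorem facts_ok : ∀ i, i < cert.nF → checkFact cert i = true := by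
  intro i hi
  have hn : cert.nF = 3944575 := rfl
  rw [hn] at hi
  rcases Nat.lt_or_ge i 1980000 with h1 | h1
  · skip
    rcases Nat.lt_or_ge i 990000 with h2 | h2
    · skip
      rcases Nat.lt_or_ge i 495000 with h3 | h3
      · skip
        rcases Nat.lt_or_ge i 198000 with h4 | h4
        · skip
          rcases Nat.lt_or_ge i 99000 with h5 | h5
          · skip
            exact factsRange_0 i (by omega) (by omega)
          · skip
            exact factsRange_1 i (by omega) (by omega)
        · skip
          rcases Nat.lt_or_ge i 297000 with h5 | h5
          · skip
            exact factsRange_2 i (by omega) (by omega)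
          · skip
            rcases Nat.lt_or_ge i 396000 with h6 | h6
            · skip
              exact factsRange_3 i (by omega) (by omega)
            · skip
              exact factsRange_4 i (by omega) (by omega)
      · skip
        rcases Nat.lt_or_ge i 693000 with h4 | h4
        · skip
          rcases Nat.lt_or_ge i 594000 with h5 | h5
          · skip
            exact factsRange_5 i (by omega) (by omega)
          · skip
            exact factsRange_6 i (by omega) (by omega)
        · skip
          rcases Nat.lt_or_ge i 792000 with h5 | h5
          · skip
            exact factsRange_7 i (by omega) (by omega)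
          · skip
            rcases Nat.lt_or_ge i 891000 with h6 | h6
            · skip
              exact factsRange_8 i (by omega) (by omega)
            · skip
              exact factsRange_9 i (by omega) (by omega)
    · skip
      rcases Nat.lt_or_ge i 1485000 with h3 | h3
      · skip
        rcases Nat.lt_or_ge i 1188000 with h4 | h4
        · skip
          rcases Nat.lt_or_ge i 1089000 with h5 | h5
          · skip
            exact factsRange_10 i (by omega) (by omega)
          · skip
            exact factsRange_11 i (by omega) (by omega)
        · skip
          rcases Nat.lt_or_ge i 1287000 with h5 | h5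
          · skip
            exact factsRange_12 i (by omega) (by omega)
          · skip
            rcases Nat.lt_or_ge i 1386000 with h6 | h6
            · skip
              exact factsRange_13 i (by omega) (by omega)
            · skip
              exact factsRange_14 i (by omega) (by omega)
      · skip
        rcases Nat.lt_or_ge i 1683000 with h4 | h4
        · skip
          rcases Nat.lt_or_ge i 1584000 with h5 | h5
          · skip
            exact factsRange_15 i (by omega) (by omega)
          · skip
            exact factsRange_16 i (by omega) (by omega)
        · skip
          rcases Nat.lt_or_ge i 1782000 with h5 | h5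
          · skip
            exact factsRange_17 i (by omega) (by omega)
          · skip
            rcases Nat.lt_or_ge i 1881000 with h6 | h6
            · skip
              exact factsRange_18 i (by omega) (by omega)
            · skip
              exact factsRange_19 i (by omega) (by omega)
  · skip
    rcases Nat.lt_or_ge i 2970000 with h2 | h2
    · skip
      rcases Nat.lt_or_ge i 2475000 with h3 | h3
      · skip
        rcases Nat.lt_or_ge i 2178000 with h4 | h4
        · skip
          rcases Nat.lt_or_ge i 2079000 with h5 | h5
          · skip
            exact factsRange_20 i (by omega) (by omega)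
          · skip
            exact factsRange_21 i (by omega) (by omega)
        · skip
          rcases Nat.lt_or_ge i 2277000 with h5 | h5
          · skip
            exact factsRange_22 i (by omega) (by omega)
          · skip
            rcases Nat.lt_or_ge i 2376000 with h6 | h6
            · skip
              exact factsRange_23 i (by omega) (by omega)
            · skip
              exact factsRange_24 i (by omega) (by omega)
      · skip
        rcases Nat.lt_or_ge i 2673000 with h4 | h4
        · skip
          rcases Nat.lt_or_ge i 2574000 with h5 | h5
          · skip
            exact factsRange_25 i (by omega) (by omega)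
          · skip
            exact factsRange_26 i (by omega) (by omega)
        · skip
          rcases Nat.lt_or_ge i 2772000 with h5 | h5
          · skip
            exact factsRange_27 i (by omega) (by omega)
          · skip
            rcases Nat.lt_or_ge i 2871000 with h6 | h6
            · skip
              exact factsRange_28 i (by omega) (by omega)
            · skip
              exact factsRange_29 i (by omega) (by omega)
    · skip
      rcases Nat.lt_or_ge i 3465000 with h3 | h3
      · skip
        rcases Nat.lt_or_ge i 3168000 with h4 | h4
        · skip
          rcases Nat.lt_or_ge i 3069000 with h5 | h5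
          · skip
            exact factsRange_30 i (by omega) (by omega)
          · skip
            exact factsRange_31 i (by omega) (by omega)
        · skip
          rcases Nat.lt_or_ge i 3267000 with h5 | h5
          · skip
            exact factsRange_32 i (by omega) (by omega)
          · skip
            rcases Nat.lt_or_ge i 3366000 with h6 | h6
            · skip
              exact factsRange_33 i (by omega) (by omega)
            · skip
              exact factsRange_34 i (by omega) (by omega)
      · skip
        rcases Nat.lt_or_ge i 3663000 with h4 | h4
        · skip
          rcases Nat.lt_or_ge i 3564000 with h5 | h5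
          · skip
            exact factsRange_35 i (by omega) (by omega)
          · skip
            exact factsRange_36 i (by omega) (by omega)
        · skip
          rcases Nat.lt_or_ge i 3762000 with h5 | h5
          · skip
            exact factsRange_37 i (by omega) (by omega)
          · skip
            rcases Nat.lt_or_ge i 3861000 with h6 | h6
            · skip
              exact factsRange_38 i (by omega) (by omega)
            · skip
              exact factsRange_39 i (by omega) (by omega)

theorem pts_ok : ∀ p, p < cert.n → checkPoint cert p = true := by
  intro i hi
  have hn : cert.n = 306936 := rfl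
  rw [hn] at hi
  rcases Nat.lt_or_ge i 153500 with h1 | h1
  · skip
    rcases Nat.lt_or_ge i 76750 with h2 | h2
    · skip
      rcases Nat.lt_or_ge i 38375 with h3 | h3
      · skip
        rcases Nat.lt_or_ge i 15350 with h4 | h4
        · skip
          rcases Nat.lt_or_ge i 7675 with h5 | h5
          · skip
            exact ptsRange_0 i (by omega) (by omega)
          · skip
            exact ptsRange_1 i (by omega) (by omega)
        · skip
          rcases Nat.lt_or_ge i 23025 with h5 | h5
          · skip
            exact ptsRange_2 i (by omega) (by omega)
          · skip
            rcases Nat.lt_or_ge i 30700 with h6 | h6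
            · skip
              exact ptsRange_3 i (by omega) (by omega)
            · skip
              exact ptsRange_4 i (by omega) (by omega)
      · skip
        rcases Nat.lt_or_ge i 53725 with h4 | h4
        · skip
          rcases Nat.lt_or_ge i 46050 with h5 | h5
          · skip
            exact ptsRange_5 i (by omega) (by omega)
          · skip
            exact ptsRange_6 i (by omega) (by omega)
        · skip
          rcases Nat.lt_or_ge i 61400 with h5 | h5
          · skip
            exact ptsRange_7 i (by omega) (by omega)
          · skip
            rcases Nat.lt_or_ge i 69075 with h6 | h6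
            · skip
              exact ptsRange_8 i (by omega) (by omega)
            · skip
              exact ptsRange_9 i (by omega) (by omega)
    · skip
      rcases Nat.lt_or_ge i 115125 with h3 | h3
      · skip
        rcases Nat.lt_or_ge i 92100 with h4 | h4
        · skip
          rcases Nat.lt_or_ge i 84425 with h5 | h5
          · skip
            exact ptsRange_10 i (by omega) (by omega)
          · skip
            exact ptsRange_11 i (by omega) (by omega)
        · skip
          rcases Nat.lt_or_ge i 99775 with h5 | h5
          · skip
            exact ptsRange_12 i (by omega) (by omega)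
          · skip
            rcases Nat.lt_or_ge i 107450 with h6 | h6
            · skip
              exact ptsRange_13 i (by omega) (by omega)
            · skip
              exact ptsRange_14 i (by omega) (by omega)
      · skip
        rcases Nat.lt_or_ge i 130475 with h4 | h4
        · skip
          rcases Nat.lt_or_ge i 122800 with h5 | h5
          · skip
            exact ptsRange_15 i (by omega) (by omega)
          · skip
            exact ptsRange_16 i (by omega) (by omega)
        · skip
          rcases Nat.lt_or_ge i 138150 with h5 | h5
          · skip
            exact ptsRange_17 i (by omega) (by omega)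
          · skip
            rcases Nat.lt_or_ge i 145825 with h6 | h6
            · skip
              exact ptsRange_18 i (by omega) (by omega)
            · skip
              exact ptsRange_19 i (by omega) (by omega)
  · skip
    rcases Nat.lt_or_ge i 230250 with h2 | h2
    · skip
      rcases Nat.lt_or_ge i 191875 with h3 | h3
      · skip
        rcases Nat.lt_or_ge i 168850 with h4 | h4
        · skip
          rcases Nat.lt_or_ge i 161175 with h5 | h5
          · skip
            exact ptsRange_20 i (by omega) (by omega)
          · skip
            exact ptsRange_21 i (by omega) (by omega)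
        · skip
          rcases Nat.lt_or_ge i 176525 with h5 | h5
          · skip
            exact ptsRange_22 i (by omega) (by omega)
          · skip
            rcases Nat.lt_or_ge i 184200 with h6 | h6
            · skip
              exact ptsRange_23 i (by omega) (by omega)
            · skip
              exact ptsRange_24 i (by omega) (by omega)
      · skip
        rcases Nat.lt_or_ge i 207225 with h4 | h4
        · skip
          rcases Nat.lt_or_ge i 199550 with h5 | h5
          · skip
            exact ptsRange_25 i (by omega) (by omega)
          · skip
            exact ptsRange_26 i (by omega) (by omega)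
        · skip
          rcases Nat.lt_or_ge i 214900 with h5 | h5
          · skip
            exact ptsRange_27 i (by omega) (by omega)
          · skip
            rcases Nat.lt_or_ge i 222575 with h6 | h6
            · skip
              exact ptsRange_28 i (by omega) (by omega)
            · skip
              exact ptsRange_29 i (by omega) (by omega)
    · skip
      rcases Nat.lt_or_ge i 268625 with h3 | h3
      · skip
        rcases Nat.lt_or_ge i 245600 with h4 | h4
        · skip
          rcases Nat.lt_or_ge i 237925 with h5 | h5
          · skip
            exact ptsRange_30 i (by omega) (by omega)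
          · skip
            exact ptsRange_31 i (by omega) (by omega)
        · skip
          rcases Nat.lt_or_ge i 253275 with h5 | h5
          · skip
            exact ptsRange_32 i (by omega) (by omega)
          · skip
            rcases Nat.lt_or_ge i 260950 with h6 | h6
            · skip
              exact ptsRange_33 i (by omega) (by omega)
            · skip
              exact ptsRange_34 i (by omega) (by omega)
      · skip
        rcases Nat.lt_or_ge i 283975 with h4 | h4
        · skip
          rcases Nat.lt_or_ge i 276300 with h5 | h5
          · skip
            exact ptsRange_35 i (by omega) (by omega)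
          · skip
            exact ptsRange_36 i (by omega) (by omega)
        · skip
          rcases Nat.lt_or_ge i 291650 with h5 | h5
          · skip
            exact ptsRange_37 i (by omega) (by omega)
          · skip
            rcases Nat.lt_or_ge i 299325 with h6 | h6
            · skip
              exact ptsRange_38 i (by omega) (by omega)
            · skip
              exact ptsRange_39 i (by omega) (by omega)


end Cfsg.Agent.Lib.Helper28.Fi24Data
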