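import Cfsg.Agent.Lib.Helper28.Fi24Data
import Cfsg.Agent.Lib.Helper28.TCFastFB

set_option autoImplicit false
set_option maxRecDepth 1000000
set_option linter.all false
set_option Elab.async false

namespace Cfsg.Agent.Lib.Helper28.Fi24Data

open Cfsg.Agent.Lib.Helper28B

theorem chkF_1881000 : allRangeF (checkFactF cert) (nat_lit 1881000) (nat_lit 1000) = true := by decide +kernel
theorem chkF_1882000 : allRangeF (checkFactF cert) (nat_lit 1882000) (nat_lit 1000) = true := by decide +kernel
theorem chkF_1883000 : allRangeF (checkFactF cert) (nat_lit 1883000) (nat_lit 1000) = true := by decide +kernel
theorem chkF_1884000 : allRangeF (checkFactF cert) (nat_lit 1884000) (nat_lit 1000) = true := by decide +kernel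
theorem chkF_1885000 : allRangeF (checkFactF cert) (nat_lit 1885000) (nat_lit 1000) = true := by decide +kernel
theorem chkF_1886000 : allRangeF (checkFactF cert) (nat_lit 1886000) (nat_lit 1000) = true := by decide +kernel
theorem chkF_1887000 : allRangeF (checkFactF cert) (nat_lit 1887000) (nat_lit 1000) = true := by decide +kernel
theorem chkF_1888000 : allRangeF (checkFactF cert) (nat_lit 1888000) (nat_lit 1000) = true := by decide +kernel
theorem chkF_1889000 : allRangeF (checkFactF cert) (nat_lit 1889000) (nat_lit 1000) = true := by decide +kernel
theorem chkF_1890000 : allRangeF (checkFactF cert) (nat_lit 1890000) (nat_lit 1000) = true := by decide +kernel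
theorem chkF_1891000 : allRangeF (checkFactF cert) (nat_lit 1891000) (nat_lit 1000) = true := by decide +kernel
theorem chkF_1892000 : allRangeF (checkFactF cert) (nat_lit 1892000) (nat_lit 1000) = true := by decide +kernel
theorem chkF_1893000 : allRangeF (checkFactF cert) (nat_lit 1893000) (nat_lit 1000) = true := by decide +kernel
theorem chkF_1894000 : allRangeF (checkFactF cert) (nat_lit 1894000) (nat_lit 1000) = true := by decide +kernel
theorem chkF_1895000 : allRangeF (checkFactF cert) (nat_lit 1895000) (nat_lit 1000) = true := by decide +kernel
theorem chkF_1896000 : allRangeF (checkFactF cert) (nat_lit 1896000) (nat_lit 1000) = true := by decide +kernel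
theorem chkF_1897000 : allRangeF (checkFactF cert) (nat_lit 1897000) (nat_lit 1000) = true := by decide +kernel
theorem chkF_1898000 : allRangeF (checkFactF cert) (nat_lit 1898000) (nat_lit 1000) = true := by decide +kernel
theorem chkF_1899000 : allRangeF (checkFactF cert) (nat_lit 1899000) (nat_lit 1000) = true := by decide +kernel
theorem chkF_1900000 : allRangeF (checkFactF cert) (nat_lit 1900000) (nat_lit 1000) = true := by decide +kernel
theorem chkF_1901000 : allRangeF (checkFactF cert) (nat_lit 1901000) (nat_lit 1000) = true := by decide +kernel
theorem chkF_1902000 : allRangeF (checkFactF cert) (nat_lit 1902000) (nat_lit 1000) = true := by decide +kernel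
theorem chkF_1903000 : allRangeF (checkFactF cert) (nat_lit 1903000) (nat_lit 1000) = true := by decide +kernel
theorem chkF_1904000 : allRangeF (checkFactF cert) (nat_lit 1904000) (nat_lit 1000) = true := by decide +kernel
theorem chkF_1905000 : allRangeF (checkFactF cert) (nat_lit 1905000) (nat_lit 1000) = true := by decide +kernel
theorem chkF_1906000 : allRangeF (checkFactF cert) (nat_lit 1906000) (nat_lit 1000) = true := by decide +kernel
theorem chkF_1907000 : allRangeF (checkFactF cert) (nat_lit 1907000) (nat_lit 1000) = true := by decide +kernel
theorem chkF_1908000 : allRangeF (checkFactF cert) (nat_lit 1908000) (nat_lit 1000) = true := by decide +kernel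
theorem chkF_1909000 : allRangeF (checkFactF cert) (nat_lit 1909000) (nat_lit 1000) = true := by decide +kernel
theorem chkF_1910000 : allRangeF (checkFactF cert) (nat_lit 1910000) (nat_lit 1000) = true := by decide +kernel
theorem chkF_1911000 : allRangeF (checkFactF cert) (nat_lit 1911000) (nat_lit 1000) = true := by decide +kernel
theorem chkF_1912000 : allRangeF (checkFactF cert) (nat_lit 1912000) (nat_lit 1000) = true := by decide +kernel
theorem chkF_1913000 : allRangeF (checkFactF cert) (nat_lit 1913000) (nat_lit 1000) = true := by decide +kernel
theorem chkF_1914000 : allRangeF (checkFactF cert) (nat_lit 1914000) (nat_lit 1000) = true := by decide +kernel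
theorem chkF_1915000 : allRangeF (checkFactF cert) (nat_lit 1915000) (nat_lit 1000) = true := by decide +kernel
theorem chkF_1916000 : allRangeF (checkFactF cert) (nat_lit 1916000) (nat_lit 1000) = true := by decide +kernel
theorem chkF_1917000 : allRangeF (checkFactF cert) (nat_lit 1917000) (nat_lit 1000) = true := by decide +kernel
theorem chkF_1918000 : allRangeF (checkFactF cert) (nat_lit 1918000) (nat_lit 1000) = true := by decide +kernel
theorem chkF_1919000 : allRangeF (checkFactF cert) (nat_lit 1919000) (nat_lit 1000) = true := by decide +kernel
theorem chkF_1920000 : allRangeF (checkFactF cert) (nat_lit 1920000) (nat_lit 1000) = true := by decide +kernel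
theorem chkF_1921000 : allRangeF (checkFactF cert) (nat_lit 1921000) (nat_lit 1000) = true := by decide +kernel
theorem chkF_1922000 : allRangeF (checkFactF cert) (nat_lit 1922000) (nat_lit 1000) = true := by decide +kernel
theorem chkF_1923000 : allRangeF (checkFactF cert) (nat_lit 1923000) (nat_lit 1000) = true := by decide +kernel
theorem chkF_1924000 : allRangeF (checkFactF cert) (nat_lit 1924000) (nat_lit 1000) = true := by decide +kernel
theorem chkF_1925000 : allRangeF (checkFactF cert) (nat_lit 1925000) (nat_lit 1000) = true := by decide +kernel
theorem chkF_1926000 : allRangeF (checkFactF cert) (nat_lit 1926000) (nat_lit 1000) = true := by decide +kernel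
theorem chkF_1927000 : allRangeF (checkFactF cert) (nat_lit 1927000) (nat_lit 1000) = true := by decide +kernel
theorem chkF_1928000 : allRangeF (checkFactF cert) (nat_lit 1928000) (nat_lit 1000) = true := by decide +kernel
theorem chkF_1929000 : allRangeF (checkFactF cert) (nat_lit 1929000) (nat_lit 1000) = true := by decide +kernel
theorem chkF_1930000 : allRangeF (checkFactF cert) (nat_lit 1930000) (nat_lit 1000) = true := by decide +kernel
theorem chkF_1931000 : allRangeF (checkFactF cert) (nat_lit 1931000) (nat_lit 1000) = true := by decide +kernel
theorem chkF_1932000 : allRangeF (checkFactF cert) (nat_lit 1932000) (nat_lit 1000) = true := by decide +kernel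
theorem chkF_1933000 : allRangeF (checkFactF cert) (nat_lit 1933000) (nat_lit 1000) = true := by decide +kernel
theorem chkF_1934000 : allRangeF (checkFactF cert) (nat_lit 1934000) (nat_lit 1000) = true := by decide +kernel
theorem chkF_1935000 : allRangeF (checkFactF cert) (nat_lit 1935000) (nat_lit 1000) = true := by decide +kernel
theorem chkF_1936000 : allRangeF (checkFactF cert) (nat_lit 1936000) (nat_lit 1000) = true := by decide +kernel
theorem chkF_1937000 : allRangeF (checkFactF cert) (nat_lit 1937000) (nat_lit 1000) = true := by decide +kernel
theorem chkF_1938000 : allRangeF (checkFactF cert) (nat_lit 1938000) (nat_lit 1000) = true := by decide +kernel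
theorem chkF_1939000 : allRangeF (checkFactF cert) (nat_lit 1939000) (nat_lit 1000) = true := by decide +kernel
theorem chkF_1940000 : allRangeF (checkFactF cert) (nat_lit 1940000) (nat_lit 1000) = true := by decide +kernel
theorem chkF_1941000 : allRangeF (checkFactF cert) (nat_lit 1941000) (nat_lit 1000) = true := by decide +kernel
theorem chkF_1942000 : allRangeF (checkFactF cert) (nat_lit 1942000) (nat_lit 1000) = true := by decide +kernel
theorem chkF_1943000 : allRangeF (checkFactF cert) (nat_lit 1943000) (nat_lit 1000) = true := by decide +kernel
theorem chkF_1944000 : allRangeF (checkFactF cert) (nat_lit 1944000) (nat_lit 1000) = true := by decide +kernel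
theorem chkF_1945000 : allRangeF (checkFactF cert) (nat_lit 1945000) (nat_lit 1000) = true := by decide +kernel
theorem chkF_1946000 : allRangeF (checkFactF cert) (nat_lit 1946000) (nat_lit 1000) = true := by decide +kernel
theorem chkF_1947000 : allRangeF (checkFactF cert) (nat_lit 1947000) (nat_lit 1000) = true := by decide +kernel
theorem chkF_1948000 : allRangeF (checkFactF cert) (nat_lit 1948000) (nat_lit 1000) = true := by decide +kernel
theorem chkF_1949000 : allRangeF (checkFactF cert) (nat_lit 1949000) (nat_lit 1000) = true := by decide +kernel
theorem chkF_1950000 : allRangeF (checkFactF cert) (nat_lit 1950000) (nat_lit 1000) = true := by decide +kernel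
theorem chkF_1951000 : allRangeF (checkFactF cert) (nat_lit 1951000) (nat_lit 1000) = true := by decide +kernel
theorem chkF_1952000 : allRangeF (checkFactF cert) (nat_lit 1952000) (nat_lit 1000) = true := by decide +kernel
theorem chkF_1953000 : allRangeF (checkFactF cert) (nat_lit 1953000) (nat_lit 1000) = true := by decide +kernel
theorem chkF_1954000 : allRangeF (checkFactF cert) (nat_lit 1954000) (nat_lit 1000) = true := by decide +kernel
theorem chkF_1955000 : allRangeF (checkFactF cert) (nat_lit 1955000) (nat_lit 1000) = true := by decide +kernel
theorem chkF_1956000 : allRangeF (checkFactF cert) (nat_lit 1956000) (nat_lit 1000) = true := by decide +kernel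
theorem chkF_1957000 : allRangeF (checkFactF cert) (nat_lit 1957000) (nat_lit 1000) = true := by decide +kernel
theorem chkF_1958000 : allRangeF (checkFactF cert) (nat_lit 1958000) (nat_lit 1000) = true := by decide +kernel
theorem chkF_1959000 : allRangeF (checkFactF cert) (nat_lit 1959000) (nat_lit 1000) = true := by decide +kernel
theorem chkF_1960000 : allRangeF (checkFactF cert) (nat_lit 1960000) (nat_lit 1000) = true := by decide +kernel
theorem chkF_1961000 : allRangeF (checkFactF cert) (nat_lit 1961000) (nat_lit 1000) = true := by decide +kernel
theorem chkF_1962000 : allRangeF (checkFactF cert) (nat_lit 1962000) (nat_lit 1000) = true := by decide +kernel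
theorem chkF_1963000 : allRangeF (checkFactF cert) (nat_lit 1963000) (nat_lit 1000) = true := by decide +kernel
theorem chkF_1964000 : allRangeF (checkFactF cert) (nat_lit 1964000) (nat_lit 1000) = true := by decide +kernel
theorem chkF_1965000 : allRangeF (checkFactF cert) (nat_lit 1965000) (nat_lit 1000) = true := by decide +kernel
theorem chkF_1966000 : allRangeF (checkFactF cert) (nat_lit 1966000) (nat_lit 1000) = true := by decide +kernel
theorem chkF_1967000 : allRangeF (checkFactF cert) (nat_lit 1967000) (nat_lit 1000) = true := by decide +kernel
theorem chkF_1968000 : allRangeF (checkFactF cert) (nat_lit 1968000) (nat_lit 1000) = true := by decide +kernel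
theorem chkF_1969000 : allRangeF (checkFactF cert) (nat_lit 1969000) (nat_lit 1000) = true := by decide +kernel
theorem chkF_1970000 : allRangeF (checkFactF cert) (nat_lit 1970000) (nat_lit 1000) = true := by decide +kernel
theorem chkF_1971000 : allRangeF (checkFactF cert) (nat_lit 1971000) (nat_lit 1000) = true := by decide +kernel
theorem chkF_1972000 : allRangeF (checkFactF cert) (nat_lit 1972000) (nat_lit 1000) = true := by decide +kernel
theorem chkF_1973000 : allRangeF (checkFactF cert) (nat_lit 1973000) (nat_lit 1000) = true := by decide +kernel
theorem chkF_1974000 : allRangeF (checkFactF cert) (nat_lit 1974000) (nat_lit 1000) = true := by decide +kernel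
theorem chkF_1975000 : allRangeF (checkFactF cert) (nat_lit 1975000) (nat_lit 1000) = true := by decide +kernel
theorem chkF_1976000 : allRangeF (checkFactF cert) (nat_lit 1976000) (nat_lit 1000) = true := by decide +kernel
theorem chkF_1977000 : allRangeF (checkFactF cert) (nat_lit 1977000) (nat_lit 1000) = true := by decide +kernel
theorem chkF_1978000 : allRangeF (checkFactF cert) (nat_lit 1978000) (nat_lit 1000) = true := by decide +kernel
theorem chkF_1979000 : allRangeF (checkFactF cert) (nat_lit 1979000) (nat_lit 1000) = true := by decide +kernel

theorem factsRange_19 : ∀ i, 1881000 ≤ i → i < 1980000 → checkFact cert i = true := by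
  intro i hlo hhi
  rcases Nat.lt_or_ge i 1930000 with h1 | h1
  · skip
    rcases Nat.lt_or_ge i 1905000 with h2 | h2
    · skip
      rcases Nat.lt_or_ge i 1893000 with h3 | h3
      · skip
        rcases Nat.lt_or_ge i 1887000 with h4 | h4
        · skip
          rcases Nat.lt_or_ge i 1884000 with h5 | h5
          · skip
            rcases Nat.lt_or_ge i 1882000 with h6 | h6
            · skip
              exact allRangeF_sound _ _ (checkFactF_eq cert) 1881000 1000 chkF_1881000 i (by omega) (by omega)
            · skip
              rcases Nat.lt_or_ge i 1883000 with h7 | h7
              · skip
                exact allRangeF_sound _ _ (checkFactF_eq cert) 1882000 1000 chkF_1882000 i (by omega) (by omega)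
              · skip
                exact allRangeF_sound _ _ (checkFactF_eq cert) 1883000 1000 chkF_1883000 i (by omega) (by omega)
          · skip
            rcases Nat.lt_or_ge i 1885000 with h6 | h6
            · skip
              exact allRangeF_sound _ _ (checkFactF_eq cert) 1884000 1000 chkF_1884000 i (by omega) (by omega)
            · skip
              rcases Nat.lt_or_ge i 1886000 with h7 | h7
              · skip
                exact allRangeF_sound _ _ (checkFactF_eq cert) 1885000 1000 chkF_1885000 i (by omega) (by omega)
              · skip
                exact allRangeF_sound _ _ (checkFactF_eq cert) 1886000 1000 chkF_1886000 i (by omega) (by omega)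
        · skip
          rcases Nat.lt_or_ge i 1890000 with h5 | h5
          · skip
            rcases Nat.lt_or_ge i 1888000 with h6 | h6
            · skip
              exact allRangeF_sound _ _ (checkFactF_eq cert) 1887000 1000 chkF_1887000 i (by omega) (by omega)
            · skip
              rcases Nat.lt_or_ge i 1889000 with h7 | h7
              · skip
                exact allRangeF_sound _ _ (checkFactF_eq cert) 1888000 1000 chkF_1888000 i (by omega) (by omega)
              · skip
                exact allRangeF_sound _ _ (checkFactF_eq cert) 1889000 1000 chkF_1889000 i (by omega) (by omega)
          · skip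
            rcases Nat.lt_or_ge i 1891000 with h6 | h6
            · skip
              exact allRangeF_sound _ _ (checkFactF_eq cert) 1890000 1000 chkF_1890000 i (by omega) (by omega)
            · skip
              rcases Nat.lt_or_ge i 1892000 with h7 | h7
              · skip
                exact allRangeF_sound _ _ (checkFactF_eq cert) 1891000 1000 chkF_1891000 i (by omega) (by omega)
              · skip
                exact allRangeF_sound _ _ (checkFactF_eq cert) 1892000 1000 chkF_1892000 i (by omega) (by omega)
      · skip
        rcases Nat.lt_or_ge i 1899000 with h4 | h4
        · skip
          rcases Nat.lt_or_ge i 1896000 with h5 | h5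
          · skip
            rcases Nat.lt_or_ge i 1894000 with h6 | h6
            · skip
              exact allRangeF_sound _ _ (checkFactF_eq cert) 1893000 1000 chkF_1893000 i (by omega) (by omega)
            · skip
              rcases Nat.lt_or_ge i 1895000 with h7 | h7
              · skip
                exact allRangeF_sound _ _ (checkFactF_eq cert) 1894000 1000 chkF_1894000 i (by omega) (by omega)
              · skip
                exact allRangeF_sound _ _ (checkFactF_eq cert) 1895000 1000 chkF_1895000 i (by omega) (by omega)
          · skip
            rcases Nat.lt_or_ge i 1897000 with h6 | h6
            · skip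
              exact allRangeF_sound _ _ (checkFactF_eq cert) 1896000 1000 chkF_1896000 i (by omega) (by omega)
            · skip
              rcases Nat.lt_or_ge i 1898000 with h7 | h7
              · skip
                exact allRangeF_sound _ _ (checkFactF_eq cert) 1897000 1000 chkF_1897000 i (by omega) (by omega)
              · skip
                exact allRangeF_sound _ _ (checkFactF_eq cert) 1898000 1000 chkF_1898000 i (by omega) (by omega)
        · skip
          rcases Nat.lt_or_ge i 1902000 with h5 | h5
          · skip
            rcases Nat.lt_or_ge i 1900000 with h6 | h6
            · skip
              exact allRangeF_sound _ _ (checkFactF_eq cert) 1899000 1000 chkF_1899000 i (by omega) (by omega)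
            · skip
              rcases Nat.lt_or_ge i 1901000 with h7 | h7
              · skip
                exact allRangeF_sound _ _ (checkFactF_eq cert) 1900000 1000 chkF_1900000 i (by omega) (by omega)
              · skip
                exact allRangeF_sound _ _ (checkFactF_eq cert) 1901000 1000 chkF_1901000 i (by omega) (by omega)
          · skip
            rcases Nat.lt_or_ge i 1903000 with h6 | h6
            · skip
              exact allRangeF_sound _ _ (checkFactF_eq cert) 1902000 1000 chkF_1902000 i (by omega) (by omega)
            · skip
              rcases Nat.lt_or_ge i 1904000 with h7 | h7
              · skip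
                exact allRangeF_sound _ _ (checkFactF_eq cert) 1903000 1000 chkF_1903000 i (by omega) (by omega)
              · skip
                exact allRangeF_sound _ _ (checkFactF_eq cert) 1904000 1000 chkF_1904000 i (by omega) (by omega)
    · skip
      rcases Nat.lt_or_ge i 1917000 with h3 | h3
      · skip
        rcases Nat.lt_or_ge i 1911000 with h4 | h4
        · skip
          rcases Nat.lt_or_ge i 1908000 with h5 | h5
          · skip
            rcases Nat.lt_or_ge i 1906000 with h6 | h6
            · skip
              exact allRangeF_sound _ _ (checkFactF_eq cert) 1905000 1000 chkF_1905000 i (by omega) (by omega)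
            · skip
              rcases Nat.lt_or_ge i 1907000 with h7 | h7
              · skip
                exact allRangeF_sound _ _ (checkFactF_eq cert) 1906000 1000 chkF_1906000 i (by omega) (by omega)
              · skip
                exact allRangeF_sound _ _ (checkFactF_eq cert) 1907000 1000 chkF_1907000 i (by omega) (by omega)
          · skip
            rcases Nat.lt_or_ge i 1909000 with h6 | h6
            · skip
              exact allRangeF_sound _ _ (checkFactF_eq cert) 1908000 1000 chkF_1908000 i (by omega) (by omega)
            · skip
              rcases Nat.lt_or_ge i 1910000 with h7 | h7
              · skip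
                exact allRangeF_sound _ _ (checkFactF_eq cert) 1909000 1000 chkF_1909000 i (by omega) (by omega)
              · skip
                exact allRangeF_sound _ _ (checkFactF_eq cert) 1910000 1000 chkF_1910000 i (by omega) (by omega)
        · skip
          rcases Nat.lt_or_ge i 1914000 with h5 | h5
          · skip
            rcases Nat.lt_or_ge i 1912000 with h6 | h6
            · skip
              exact allRangeF_sound _ _ (checkFactF_eq cert) 1911000 1000 chkF_1911000 i (by omega) (by omega)
            · skip
              rcases Nat.lt_or_ge i 1913000 with h7 | h7
              · skip
                exact allRangeF_sound _ _ (checkFactF_eq cert) 1912000 1000 chkF_1912000 i (by omega) (by omega)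
              · skip
                exact allRangeF_sound _ _ (checkFactF_eq cert) 1913000 1000 chkF_1913000 i (by omega) (by omega)
          · skip
            rcases Nat.lt_or_ge i 1915000 with h6 | h6
            · skip
              exact allRangeF_sound _ _ (checkFactF_eq cert) 1914000 1000 chkF_1914000 i (by omega) (by omega)
            · skip
              rcases Nat.lt_or_ge i 1916000 with h7 | h7
              · skip
                exact allRangeF_sound _ _ (checkFactF_eq cert) 1915000 1000 chkF_1915000 i (by omega) (by omega)
              · skip
                exact allRangeF_sound _ _ (checkFactF_eq cert) 1916000 1000 chkF_1916000 i (by omega) (by omega)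
      · skip
        rcases Nat.lt_or_ge i 1923000 with h4 | h4
        · skip
          rcases Nat.lt_or_ge i 1920000 with h5 | h5
          · skip
            rcases Nat.lt_or_ge i 1918000 with h6 | h6
            · skip
              exact allRangeF_sound _ _ (checkFactF_eq cert) 1917000 1000 chkF_1917000 i (by omega) (by omega)
            · skip
              rcases Nat.lt_or_ge i 1919000 with h7 | h7
              · skip
                exact allRangeF_sound _ _ (checkFactF_eq cert) 1918000 1000 chkF_1918000 i (by omega) (by omega)
              · skip
                exact allRangeF_sound _ _ (checkFactF_eq cert) 1919000 1000 chkF_1919000 i (by omega) (by omega)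
          · skip
            rcases Nat.lt_or_ge i 1921000 with h6 | h6
            · skip
              exact allRangeF_sound _ _ (checkFactF_eq cert) 1920000 1000 chkF_1920000 i (by omega) (by omega)
            · skip
              rcases Nat.lt_or_ge i 1922000 with h7 | h7
              · skip
                exact allRangeF_sound _ _ (checkFactF_eq cert) 1921000 1000 chkF_1921000 i (by omega) (by omega)
              · skip
                exact allRangeF_sound _ _ (checkFactF_eq cert) 1922000 1000 chkF_1922000 i (by omega) (by omega)
        · skip
          rcases Nat.lt_or_ge i 1926000 with h5 | h5
          · skip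
            rcases Nat.lt_or_ge i 1924000 with h6 | h6
            · skip
              exact allRangeF_sound _ _ (checkFactF_eq cert) 1923000 1000 chkF_1923000 i (by omega) (by omega)
            · skip
              rcases Nat.lt_or_ge i 1925000 with h7 | h7
              · skip
                exact allRangeF_sound _ _ (checkFactF_eq cert) 1924000 1000 chkF_1924000 i (by omega) (by omega)
              · skip
                exact allRangeF_sound _ _ (checkFactF_eq cert) 1925000 1000 chkF_1925000 i (by omega) (by omega)
          · skip
            rcases Nat.lt_or_ge i 1928000 with h6 | h6
            · skip
              rcases Nat.lt_or_ge i 1927000 with h7 | h7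
              · skip
                exact allRangeF_sound _ _ (checkFactF_eq cert) 1926000 1000 chkF_1926000 i (by omega) (by omega)
              · skip
                exact allRangeF_sound _ _ (checkFactF_eq cert) 1927000 1000 chkF_1927000 i (by omega) (by omega)
            · skip
              rcases Nat.lt_or_ge i 1929000 with h7 | h7
              · skip
                exact allRangeF_sound _ _ (checkFactF_eq cert) 1928000 1000 chkF_1928000 i (by omega) (by omega)
              · skip
                exact allRangeF_sound _ _ (checkFactF_eq cert) 1929000 1000 chkF_1929000 i (by omega) (by omega)
  · skip
    rcases Nat.lt_or_ge i 1955000 with h2 | h2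
    · skip
      rcases Nat.lt_or_ge i 1942000 with h3 | h3
      · skip
        rcases Nat.lt_or_ge i 1936000 with h4 | h4
        · skip
          rcases Nat.lt_or_ge i 1933000 with h5 | h5
          · skip
            rcases Nat.lt_or_ge i 1931000 with h6 | h6
            · skip
              exact allRangeF_sound _ _ (checkFactF_eq cert) 1930000 1000 chkF_1930000 i (by omega) (by omega)
            · skip
              rcases Nat.lt_or_ge i 1932000 with h7 | h7
              · skip
                exact allRangeF_sound _ _ (checkFactF_eq cert) 1931000 1000 chkF_1931000 i (by omega) (by omega)
              · skip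
                exact allRangeF_sound _ _ (checkFactF_eq cert) 1932000 1000 chkF_1932000 i (by omega) (by omega)
          · skip
            rcases Nat.lt_or_ge i 1934000 with h6 | h6
            · skip
              exact allRangeF_sound _ _ (checkFactF_eq cert) 1933000 1000 chkF_1933000 i (by omega) (by omega)
            · skip
              rcases Nat.lt_or_ge i 1935000 with h7 | h7
              · skip
                exact allRangeF_sound _ _ (checkFactF_eq cert) 1934000 1000 chkF_1934000 i (by omega) (by omega)
              · skip
                exact allRangeF_sound _ _ (checkFactF_eq cert) 1935000 1000 chkF_1935000 i (by omega) (by omega)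
        · skip
          rcases Nat.lt_or_ge i 1939000 with h5 | h5
          · skip
            rcases Nat.lt_or_ge i 1937000 with h6 | h6
            · skip
              exact allRangeF_sound _ _ (checkFactF_eq cert) 1936000 1000 chkF_1936000 i (by omega) (by omega)
            · skip
              rcases Nat.lt_or_ge i 1938000 with h7 | h7
              · skip
                exact allRangeF_sound _ _ (checkFactF_eq cert) 1937000 1000 chkF_1937000 i (by omega) (by omega)
              · skip
                exact allRangeF_sound _ _ (checkFactF_eq cert) 1938000 1000 chkF_1938000 i (by omega) (by omega)
          · skip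
            rcases Nat.lt_or_ge i 1940000 with h6 | h6
            · skip
              exact allRangeF_sound _ _ (checkFactF_eq cert) 1939000 1000 chkF_1939000 i (by omega) (by omega)
            · skip
              rcases Nat.lt_or_ge i 1941000 with h7 | h7
              · skip
                exact allRangeF_sound _ _ (checkFactF_eq cert) 1940000 1000 chkF_1940000 i (by omega) (by omega)
              · skip
                exact allRangeF_sound _ _ (checkFactF_eq cert) 1941000 1000 chkF_1941000 i (by omega) (by omega)
      · skip
        rcases Nat.lt_or_ge i 1948000 with h4 | h4
        · skip
          rcases Nat.lt_or_ge i 1945000 with h5 | h5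
          · skip
            rcases Nat.lt_or_ge i 1943000 with h6 | h6
            · skip
              exact allRangeF_sound _ _ (checkFactF_eq cert) 1942000 1000 chkF_1942000 i (by omega) (by omega)
            · skip
              rcases Nat.lt_or_ge i 1944000 with h7 | h7
              · skip
                exact allRangeF_sound _ _ (checkFactF_eq cert) 1943000 1000 chkF_1943000 i (by omega) (by omega)
              · skip
                exact allRangeF_sound _ _ (checkFactF_eq cert) 1944000 1000 chkF_1944000 i (by omega) (by omega)
          · skip
            rcases Nat.lt_or_ge i 1946000 with h6 | h6
            · skip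
              exact allRangeF_sound _ _ (checkFactF_eq cert) 1945000 1000 chkF_1945000 i (by omega) (by omega)
            · skip
              rcases Nat.lt_or_ge i 1947000 with h7 | h7
              · skip
                exact allRangeF_sound _ _ (checkFactF_eq cert) 1946000 1000 chkF_1946000 i (by omega) (by omega)
              · skip
                exact allRangeF_sound _ _ (checkFactF_eq cert) 1947000 1000 chkF_1947000 i (by omega) (by omega)
        · skip
          rcases Nat.lt_or_ge i 1951000 with h5 | h5
          · skip
            rcases Nat.lt_or_ge i 1949000 with h6 | h6
            · skip
              exact allRangeF_sound _ _ (checkFactF_eq cert) 1948000 1000 chkF_1948000 i (by omega) (by omega)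
            · skip
              rcases Nat.lt_or_ge i 1950000 with h7 | h7
              · skip
                exact allRangeF_sound _ _ (checkFactF_eq cert) 1949000 1000 chkF_1949000 i (by omega) (by omega)
              · skip
                exact allRangeF_sound _ _ (checkFactF_eq cert) 1950000 1000 chkF_1950000 i (by omega) (by omega)
          · skip
            rcases Nat.lt_or_ge i 1953000 with h6 | h6
            · skip
              rcases Nat.lt_or_ge i 1952000 with h7 | h7
              · skip
                exact allRangeF_sound _ _ (checkFactF_eq cert) 1951000 1000 chkF_1951000 i (by omega) (by omega)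
              · skip
                exact allRangeF_sound _ _ (checkFactF_eq cert) 1952000 1000 chkF_1952000 i (by omega) (by omega)
            · skip
              rcases Nat.lt_or_ge i 1954000 with h7 | h7
              · skip
                exact allRangeF_sound _ _ (checkFactF_eq cert) 1953000 1000 chkF_1953000 i (by omega) (by omega)
              · skip
                exact allRangeF_sound _ _ (checkFactF_eq cert) 1954000 1000 chkF_1954000 i (by omega) (by omega)
    · skip
      rcases Nat.lt_or_ge i 1967000 with h3 | h3
      · skip
        rcases Nat.lt_or_ge i 1961000 with h4 | h4
        · skip
          rcases Nat.lt_or_ge i 1958000 with h5 | h5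
          · skip
            rcases Nat.lt_or_ge i 1956000 with h6 | h6
            · skip
              exact allRangeF_sound _ _ (checkFactF_eq cert) 1955000 1000 chkF_1955000 i (by omega) (by omega)
            · skip
              rcases Nat.lt_or_ge i 1957000 with h7 | h7
              · skip
                exact allRangeF_sound _ _ (checkFactF_eq cert) 1956000 1000 chkF_1956000 i (by omega) (by omega)
              · skip
                exact allRangeF_sound _ _ (checkFactF_eq cert) 1957000 1000 chkF_1957000 i (by omega) (by omega)
          · skip
            rcases Nat.lt_or_ge i 1959000 with h6 | h6
            · skip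
              exact allRangeF_sound _ _ (checkFactF_eq cert) 1958000 1000 chkF_1958000 i (by omega) (by omega)
            · skip
              rcases Nat.lt_or_ge i 1960000 with h7 | h7
              · skip
                exact allRangeF_sound _ _ (checkFactF_eq cert) 1959000 1000 chkF_1959000 i (by omega) (by omega)
              · skip
                exact allRangeF_sound _ _ (checkFactF_eq cert) 1960000 1000 chkF_1960000 i (by omega) (by omega)
        · skip
          rcases Nat.lt_or_ge i 1964000 with h5 | h5
          · skip
            rcases Nat.lt_or_ge i 1962000 with h6 | h6
            · skip
              exact allRangeF_sound _ _ (checkFactF_eq cert) 1961000 1000 chkF_1961000 i (by omega) (by omega)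
            · skip
              rcases Nat.lt_or_ge i 1963000 with h7 | h7
              · skip
                exact allRangeF_sound _ _ (checkFactF_eq cert) 1962000 1000 chkF_1962000 i (by omega) (by omega)
              · skip
                exact allRangeF_sound _ _ (checkFactF_eq cert) 1963000 1000 chkF_1963000 i (by omega) (by omega)
          · skip
            rcases Nat.lt_or_ge i 1965000 with h6 | h6
            · skip
              exact allRangeF_sound _ _ (checkFactF_eq cert) 1964000 1000 chkF_1964000 i (by omega) (by omega)
            · skip
              rcases Nat.lt_or_ge i 1966000 with h7 | h7
              · skip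
                exact allRangeF_sound _ _ (checkFactF_eq cert) 1965000 1000 chkF_1965000 i (by omega) (by omega)
              · skip
                exact allRangeF_sound _ _ (checkFactF_eq cert) 1966000 1000 chkF_1966000 i (by omega) (by omega)
      · skip
        rcases Nat.lt_or_ge i 1973000 with h4 | h4
        · skip
          rcases Nat.lt_or_ge i 1970000 with h5 | h5
          · skip
            rcases Nat.lt_or_ge i 1968000 with h6 | h6
            · skip
              exact allRangeF_sound _ _ (checkFactF_eq cert) 1967000 1000 chkF_1967000 i (by omega) (by omega)
            · skip
              rcases Nat.lt_or_ge i 1969000 with h7 | h7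
              · skip
                exact allRangeF_sound _ _ (checkFactF_eq cert) 1968000 1000 chkF_1968000 i (by omega) (by omega)
              · skip
                exact allRangeF_sound _ _ (checkFactF_eq cert) 1969000 1000 chkF_1969000 i (by omega) (by omega)
          · skip
            rcases Nat.lt_or_ge i 1971000 with h6 | h6
            · skip
              exact allRangeF_sound _ _ (checkFactF_eq cert) 1970000 1000 chkF_1970000 i (by omega) (by omega)
            · skip
              rcases Nat.lt_or_ge i 1972000 with h7 | h7
              · skip
                exact allRangeF_sound _ _ (checkFactF_eq cert) 1971000 1000 chkF_1971000 i (by omega) (by omega)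
              · skip
                exact allRangeF_sound _ _ (checkFactF_eq cert) 1972000 1000 chkF_1972000 i (by omega) (by omega)
        · skip
          rcases Nat.lt_or_ge i 1976000 with h5 | h5
          · skip
            rcases Nat.lt_or_ge i 1974000 with h6 | h6
            · skip
              exact allRangeF_sound _ _ (checkFactF_eq cert) 1973000 1000 chkF_1973000 i (by omega) (by omega)
            · skip
              rcases Nat.lt_or_ge i 1975000 with h7 | h7
              · skip
                exact allRangeF_sound _ _ (checkFactF_eq cert) 1974000 1000 chkF_1974000 i (by omega) (by omega)
              · skip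
                exact allRangeF_sound _ _ (checkFactF_eq cert) 1975000 1000 chkF_1975000 i (by omega) (by omega)
          · skip
            rcases Nat.lt_or_ge i 1978000 with h6 | h6
            · skip
              rcases Nat.lt_or_ge i 1977000 with h7 | h7
              · skip
                exact allRangeF_sound _ _ (checkFactF_eq cert) 1976000 1000 chkF_1976000 i (by omega) (by omega)
              · skip
                exact allRangeF_sound _ _ (checkFactF_eq cert) 1977000 1000 chkF_1977000 i (by omega) (by omega)
            · skip
              rcases Nat.lt_or_ge i 1979000 with h7 | h7
              · skip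
                exact allRangeF_sound _ _ (checkFactF_eq cert) 1978000 1000 chkF_1978000 i (by omega) (by omega)
              · skip
                exact allRangeF_sound _ _ (checkFactF_eq cert) 1979000 1000 chkF_1979000 i (by omega) (by omega)

end Cfsg.Agent.Lib.Helper28.Fi24Data
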