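import Cfsg.Agent.Lib.Helper28.Fi24Data
import Cfsg.Agent.Lib.Helper28.TCFastFB

set_option autoImplicit false
set_option maxRecDepth 1000000
set_option linter.all false
set_option Elab.async false

namespace Cfsg.Agent.Lib.Helper28.Fi24Data

open Cfsg.Agent.Lib.Helper28B

theorem chkF_3366000 : allRangeF (checkFactF cert) (nat_lit 3366000) (nat_lit 1000) = true := by decide +kernel
theorem chkF_3367000 : allRangeF (checkFactF cert) (nat_lit 3367000) (nat_lit 1000) = true := by decide +kernel
theorem chkF_3368000 : allRangeF (checkFactF cert) (nat_lit 3368000) (nat_lit 1000) = true := by decide +kernel
theorem chkF_3369000 : allRangeF (checkFactF cert) (nat_lit 3369000) (nat_lit 1000) = true := by decide +kernel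
theorem chkF_3370000 : allRangeF (checkFactF cert) (nat_lit 3370000) (nat_lit 1000) = true := by decide +kernel
theorem chkF_3371000 : allRangeF (checkFactF cert) (nat_lit 3371000) (nat_lit 1000) = true := by decide +kernel
theorem chkF_3372000 : allRangeF (checkFactF cert) (nat_lit 3372000) (nat_lit 1000) = true := by decide +kernel
theorem chkF_3373000 : allRangeF (checkFactF cert) (nat_lit 3373000) (nat_lit 1000) = true := by decide +kernel
theorem chkF_3374000 : allRangeF (checkFactF cert) (nat_lit 3374000) (nat_lit 1000) = true := by decide +kernel
theorem chkF_3375000 : allRangeF (checkFactF cert) (nat_lit 3375000) (nat_lit 1000) = true := by decide +kernel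
theorem chkF_3376000 : allRangeF (checkFactF cert) (nat_lit 3376000) (nat_lit 1000) = true := by decide +kernel
theorem chkF_3377000 : allRangeF (checkFactF cert) (nat_lit 3377000) (nat_lit 1000) = true := by decide +kernel
theorem chkF_3378000 : allRangeF (checkFactF cert) (nat_lit 3378000) (nat_lit 1000) = true := by decide +kernel
theorem chkF_3379000 : allRangeF (checkFactF cert) (nat_lit 3379000) (nat_lit 1000) = true := by decide +kernel
theorem chkF_3380000 : allRangeF (checkFactF cert) (nat_lit 3380000) (nat_lit 1000) = true := by decide +kernel
theorem chkF_3381000 : allRangeF (checkFactF cert) (nat_lit 3381000) (nat_lit 1000) = true := by decide +kernel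
theorem chkF_3382000 : allRangeF (checkFactF cert) (nat_lit 3382000) (nat_lit 1000) = true := by decide +kernel
theorem chkF_3383000 : allRangeF (checkFactF cert) (nat_lit 3383000) (nat_lit 1000) = true := by decide +kernel
theorem chkF_3384000 : allRangeF (checkFactF cert) (nat_lit 3384000) (nat_lit 1000) = true := by decide +kernel
theorem chkF_3385000 : allRangeF (checkFactF cert) (nat_lit 3385000) (nat_lit 1000) = true := by decide +kernel
theorem chkF_3386000 : allRangeF (checkFactF cert) (nat_lit 3386000) (nat_lit 1000) = true := by decide +kernel
theorem chkF_3387000 : allRangeF (checkFactF cert) (nat_lit 3387000) (nat_lit 1000) = true := by decide +kernel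
theorem chkF_3388000 : allRangeF (checkFactF cert) (nat_lit 3388000) (nat_lit 1000) = true := by decide +kernel
theorem chkF_3389000 : allRangeF (checkFactF cert) (nat_lit 3389000) (nat_lit 1000) = true := by decide +kernel
theorem chkF_3390000 : allRangeF (checkFactF cert) (nat_lit 3390000) (nat_lit 1000) = true := by decide +kernel
theorem chkF_3391000 : allRangeF (checkFactF cert) (nat_lit 3391000) (nat_lit 1000) = true := by decide +kernel
theorem chkF_3392000 : allRangeF (checkFactF cert) (nat_lit 3392000) (nat_lit 1000) = true := by decide +kernel
theorem chkF_3393000 : allRangeF (checkFactF cert) (nat_lit 3393000) (nat_lit 1000) = true := by decide +kernel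
theorem chkF_3394000 : allRangeF (checkFactF cert) (nat_lit 3394000) (nat_lit 1000) = true := by decide +kernel
theorem chkF_3395000 : allRangeF (checkFactF cert) (nat_lit 3395000) (nat_lit 1000) = true := by decide +kernel
theorem chkF_3396000 : allRangeF (checkFactF cert) (nat_lit 3396000) (nat_lit 1000) = true := by decide +kernel
theorem chkF_3397000 : allRangeF (checkFactF cert) (nat_lit 3397000) (nat_lit 1000) = true := by decide +kernel
theorem chkF_3398000 : allRangeF (checkFactF cert) (nat_lit 3398000) (nat_lit 1000) = true := by decide +kernel
theorem chkF_3399000 : allRangeF (checkFactF cert) (nat_lit 3399000) (nat_lit 1000) = true := by decide +kernel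
theorem chkF_3400000 : allRangeF (checkFactF cert) (nat_lit 3400000) (nat_lit 1000) = true := by decide +kernel
theorem chkF_3401000 : allRangeF (checkFactF cert) (nat_lit 3401000) (nat_lit 1000) = true := by decide +kernel
theorem chkF_3402000 : allRangeF (checkFactF cert) (nat_lit 3402000) (nat_lit 1000) = true := by decide +kernel
theorem chkF_3403000 : allRangeF (checkFactF cert) (nat_lit 3403000) (nat_lit 1000) = true := by decide +kernel
theorem chkF_3404000 : allRangeF (checkFactF cert) (nat_lit 3404000) (nat_lit 1000) = true := by decide +kernel
theorem chkF_3405000 : allRangeF (checkFactF cert) (nat_lit 3405000) (nat_lit 1000) = true := by decide +kernel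
theorem chkF_3406000 : allRangeF (checkFactF cert) (nat_lit 3406000) (nat_lit 1000) = true := by decide +kernel
theorem chkF_3407000 : allRangeF (checkFactF cert) (nat_lit 3407000) (nat_lit 1000) = true := by decide +kernel
theorem chkF_3408000 : allRangeF (checkFactF cert) (nat_lit 3408000) (nat_lit 1000) = true := by decide +kernel
theorem chkF_3409000 : allRangeF (checkFactF cert) (nat_lit 3409000) (nat_lit 1000) = true := by decide +kernel
theorem chkF_3410000 : allRangeF (checkFactF cert) (nat_lit 3410000) (nat_lit 1000) = true := by decide +kernel
theorem chkF_3411000 : allRangeF (checkFactF cert) (nat_lit 3411000) (nat_lit 1000) = true := by decide +kernel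
theorem chkF_3412000 : allRangeF (checkFactF cert) (nat_lit 3412000) (nat_lit 1000) = true := by decide +kernel
theorem chkF_3413000 : allRangeF (checkFactF cert) (nat_lit 3413000) (nat_lit 1000) = true := by decide +kernel
theorem chkF_3414000 : allRangeF (checkFactF cert) (nat_lit 3414000) (nat_lit 1000) = true := by decide +kernel
theorem chkF_3415000 : allRangeF (checkFactF cert) (nat_lit 3415000) (nat_lit 1000) = true := by decide +kernel
theorem chkF_3416000 : allRangeF (checkFactF cert) (nat_lit 3416000) (nat_lit 1000) = true := by decide +kernel
theorem chkF_3417000 : allRangeF (checkFactF cert) (nat_lit 3417000) (nat_lit 1000) = true := by decide +kernel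
theorem chkF_3418000 : allRangeF (checkFactF cert) (nat_lit 3418000) (nat_lit 1000) = true := by decide +kernel
theorem chkF_3419000 : allRangeF (checkFactF cert) (nat_lit 3419000) (nat_lit 1000) = true := by decide +kernel
theorem chkF_3420000 : allRangeF (checkFactF cert) (nat_lit 3420000) (nat_lit 1000) = true := by decide +kernel
theorem chkF_3421000 : allRangeF (checkFactF cert) (nat_lit 3421000) (nat_lit 1000) = true := by decide +kernel
theorem chkF_3422000 : allRangeF (checkFactF cert) (nat_lit 3422000) (nat_lit 1000) = true := by decide +kernel
theorem chkF_3423000 : allRangeF (checkFactF cert) (nat_lit 3423000) (nat_lit 1000) = true := by decide +kernel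
theorem chkF_3424000 : allRangeF (checkFactF cert) (nat_lit 3424000) (nat_lit 1000) = true := by decide +kernel
theorem chkF_3425000 : allRangeF (checkFactF cert) (nat_lit 3425000) (nat_lit 1000) = true := by decide +kernel
theorem chkF_3426000 : allRangeF (checkFactF cert) (nat_lit 3426000) (nat_lit 1000) = true := by decide +kernel
theorem chkF_3427000 : allRangeF (checkFactF cert) (nat_lit 3427000) (nat_lit 1000) = true := by decide +kernel
theorem chkF_3428000 : allRangeF (checkFactF cert) (nat_lit 3428000) (nat_lit 1000) = true := by decide +kernel
theorem chkF_3429000 : allRangeF (checkFactF cert) (nat_lit 3429000) (nat_lit 1000) = true := by decide +kernel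
theorem chkF_3430000 : allRangeF (checkFactF cert) (nat_lit 3430000) (nat_lit 1000) = true := by decide +kernel
theorem chkF_3431000 : allRangeF (checkFactF cert) (nat_lit 3431000) (nat_lit 1000) = true := by decide +kernel
theorem chkF_3432000 : allRangeF (checkFactF cert) (nat_lit 3432000) (nat_lit 1000) = true := by decide +kernel
theorem chkF_3433000 : allRangeF (checkFactF cert) (nat_lit 3433000) (nat_lit 1000) = true := by decide +kernel
theorem chkF_3434000 : allRangeF (checkFactF cert) (nat_lit 3434000) (nat_lit 1000) = true := by decide +kernel
theorem chkF_3435000 : allRangeF (checkFactF cert) (nat_lit 3435000) (nat_lit 1000) = true := by decide +kernel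
theorem chkF_3436000 : allRangeF (checkFactF cert) (nat_lit 3436000) (nat_lit 1000) = true := by decide +kernel
theorem chkF_3437000 : allRangeF (checkFactF cert) (nat_lit 3437000) (nat_lit 1000) = true := by decide +kernel
theorem chkF_3438000 : allRangeF (checkFactF cert) (nat_lit 3438000) (nat_lit 1000) = true := by decide +kernel
theorem chkF_3439000 : allRangeF (checkFactF cert) (nat_lit 3439000) (nat_lit 1000) = true := by decide +kernel
theorem chkF_3440000 : allRangeF (checkFactF cert) (nat_lit 3440000) (nat_lit 1000) = true := by decide +kernel
theorem chkF_3441000 : allRangeF (checkFactF cert) (nat_lit 3441000) (nat_lit 1000) = true := by decide +kernel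
theorem chkF_3442000 : allRangeF (checkFactF cert) (nat_lit 3442000) (nat_lit 1000) = true := by decide +kernel
theorem chkF_3443000 : allRangeF (checkFactF cert) (nat_lit 3443000) (nat_lit 1000) = true := by decide +kernel
theorem chkF_3444000 : allRangeF (checkFactF cert) (nat_lit 3444000) (nat_lit 1000) = true := by decide +kernel
theorem chkF_3445000 : allRangeF (checkFactF cert) (nat_lit 3445000) (nat_lit 1000) = true := by decide +kernel
theorem chkF_3446000 : allRangeF (checkFactF cert) (nat_lit 3446000) (nat_lit 1000) = true := by decide +kernel
theorem chkF_3447000 : allRangeF (checkFactF cert) (nat_lit 3447000) (nat_lit 1000) = true := by decide +kernel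
theorem chkF_3448000 : allRangeF (checkFactF cert) (nat_lit 3448000) (nat_lit 1000) = true := by decide +kernel
theorem chkF_3449000 : allRangeF (checkFactF cert) (nat_lit 3449000) (nat_lit 1000) = true := by decide +kernel
theorem chkF_3450000 : allRangeF (checkFactF cert) (nat_lit 3450000) (nat_lit 1000) = true := by decide +kernel
theorem chkF_3451000 : allRangeF (checkFactF cert) (nat_lit 3451000) (nat_lit 1000) = true := by decide +kernel
theorem chkF_3452000 : allRangeF (checkFactF cert) (nat_lit 3452000) (nat_lit 1000) = true := by decide +kernel
theorem chkF_3453000 : allRangeF (checkFactF cert) (nat_lit 3453000) (nat_lit 1000) = true := by decide +kernel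
theorem chkF_3454000 : allRangeF (checkFactF cert) (nat_lit 3454000) (nat_lit 1000) = true := by decide +kernel
theorem chkF_3455000 : allRangeF (checkFactF cert) (nat_lit 3455000) (nat_lit 1000) = true := by decide +kernel
theorem chkF_3456000 : allRangeF (checkFactF cert) (nat_lit 3456000) (nat_lit 1000) = true := by decide +kernel
theorem chkF_3457000 : allRangeF (checkFactF cert) (nat_lit 3457000) (nat_lit 1000) = true := by decide +kernel
theorem chkF_3458000 : allRangeF (checkFactF cert) (nat_lit 3458000) (nat_lit 1000) = true := by decide +kernel
theorem chkF_3459000 : allRangeF (checkFactF cert) (nat_lit 3459000) (nat_lit 1000) = true := by decide +kernel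
theorem chkF_3460000 : allRangeF (checkFactF cert) (nat_lit 3460000) (nat_lit 1000) = true := by decide +kernel
theorem chkF_3461000 : allRangeF (checkFactF cert) (nat_lit 3461000) (nat_lit 1000) = true := by decide +kernel
theorem chkF_3462000 : allRangeF (checkFactF cert) (nat_lit 3462000) (nat_lit 1000) = true := by decide +kernel
theorem chkF_3463000 : allRangeF (checkFactF cert) (nat_lit 3463000) (nat_lit 1000) = true := by decide +kernel
theorem chkF_3464000 : allRangeF (checkFactF cert) (nat_lit 3464000) (nat_lit 1000) = true := by decide +kernel

theorem factsRange_34 : ∀ i, 3366000 ≤ i → i < 3465000 → checkFact cert i = true := by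
  intro i hlo hhi
  rcases Nat.lt_or_ge i 3415000 with h1 | h1
  · skip
    rcases Nat.lt_or_ge i 3390000 with h2 | h2
    · skip
      rcases Nat.lt_or_ge i 3378000 with h3 | h3
      · skip
        rcases Nat.lt_or_ge i 3372000 with h4 | h4
        · skip
          rcases Nat.lt_or_ge i 3369000 with h5 | h5
          · skip
            rcases Nat.lt_or_ge i 3367000 with h6 | h6
            · skip
              exact allRangeF_sound _ _ (checkFactF_eq cert) 3366000 1000 chkF_3366000 i (by omega) (by omega)
            · skip
              rcases Nat.lt_or_ge i 3368000 with h7 | h7
              · skip
                exact allRangeF_sound _ _ (checkFactF_eq cert) 3367000 1000 chkF_3367000 i (by omega) (by omega)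
              · skip
                exact allRangeF_sound _ _ (checkFactF_eq cert) 3368000 1000 chkF_3368000 i (by omega) (by omega)
          · skip
            rcases Nat.lt_or_ge i 3370000 with h6 | h6
            · skip
              exact allRangeF_sound _ _ (checkFactF_eq cert) 3369000 1000 chkF_3369000 i (by omega) (by omega)
            · skip
              rcases Nat.lt_or_ge i 3371000 with h7 | h7
              · skip
                exact allRangeF_sound _ _ (checkFactF_eq cert) 3370000 1000 chkF_3370000 i (by omega) (by omega)
              · skip
                exact allRangeF_sound _ _ (checkFactF_eq cert) 3371000 1000 chkF_3371000 i (by omega) (by omega)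
        · skip
          rcases Nat.lt_or_ge i 3375000 with h5 | h5
          · skip
            rcases Nat.lt_or_ge i 3373000 with h6 | h6
            · skip
              exact allRangeF_sound _ _ (checkFactF_eq cert) 3372000 1000 chkF_3372000 i (by omega) (by omega)
            · skip
              rcases Nat.lt_or_ge i 3374000 with h7 | h7
              · skip
                exact allRangeF_sound _ _ (checkFactF_eq cert) 3373000 1000 chkF_3373000 i (by omega) (by omega)
              · skip
                exact allRangeF_sound _ _ (checkFactF_eq cert) 3374000 1000 chkF_3374000 i (by omega) (by omega)
          · skip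
            rcases Nat.lt_or_ge i 3376000 with h6 | h6
            · skip
              exact allRangeF_sound _ _ (checkFactF_eq cert) 3375000 1000 chkF_3375000 i (by omega) (by omega)
            · skip
              rcases Nat.lt_or_ge i 3377000 with h7 | h7
              · skip
                exact allRangeF_sound _ _ (checkFactF_eq cert) 3376000 1000 chkF_3376000 i (by omega) (by omega)
              · skip
                exact allRangeF_sound _ _ (checkFactF_eq cert) 3377000 1000 chkF_3377000 i (by omega) (by omega)
      · skip
        rcases Nat.lt_or_ge i 3384000 with h4 | h4
        · skip
          rcases Nat.lt_or_ge i 3381000 with h5 | h5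
          · skip
            rcases Nat.lt_or_ge i 3379000 with h6 | h6
            · skip
              exact allRangeF_sound _ _ (checkFactF_eq cert) 3378000 1000 chkF_3378000 i (by omega) (by omega)
            · skip
              rcases Nat.lt_or_ge i 3380000 with h7 | h7
              · skip
                exact allRangeF_sound _ _ (checkFactF_eq cert) 3379000 1000 chkF_3379000 i (by omega) (by omega)
              · skip
                exact allRangeF_sound _ _ (checkFactF_eq cert) 3380000 1000 chkF_3380000 i (by omega) (by omega)
          · skip
            rcases Nat.lt_or_ge i 3382000 with h6 | h6
            · skip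
              exact allRangeF_sound _ _ (checkFactF_eq cert) 3381000 1000 chkF_3381000 i (by omega) (by omega)
            · skip
              rcases Nat.lt_or_ge i 3383000 with h7 | h7
              · skip
                exact allRangeF_sound _ _ (checkFactF_eq cert) 3382000 1000 chkF_3382000 i (by omega) (by omega)
              · skip
                exact allRangeF_sound _ _ (checkFactF_eq cert) 3383000 1000 chkF_3383000 i (by omega) (by omega)
        · skip
          rcases Nat.lt_or_ge i 3387000 with h5 | h5
          · skip
            rcases Nat.lt_or_ge i 3385000 with h6 | h6
            · skip
              exact allRangeF_sound _ _ (checkFactF_eq cert) 3384000 1000 chkF_3384000 i (by omega) (by omega)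
            · skip
              rcases Nat.lt_or_ge i 3386000 with h7 | h7
              · skip
                exact allRangeF_sound _ _ (checkFactF_eq cert) 3385000 1000 chkF_3385000 i (by omega) (by omega)
              · skip
                exact allRangeF_sound _ _ (checkFactF_eq cert) 3386000 1000 chkF_3386000 i (by omega) (by omega)
          · skip
            rcases Nat.lt_or_ge i 3388000 with h6 | h6
            · skip
              exact allRangeF_sound _ _ (checkFactF_eq cert) 3387000 1000 chkF_3387000 i (by omega) (by omega)
            · skip
              rcases Nat.lt_or_ge i 3389000 with h7 | h7
              · skip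
                exact allRangeF_sound _ _ (checkFactF_eq cert) 3388000 1000 chkF_3388000 i (by omega) (by omega)
              · skip
                exact allRangeF_sound _ _ (checkFactF_eq cert) 3389000 1000 chkF_3389000 i (by omega) (by omega)
    · skip
      rcases Nat.lt_or_ge i 3402000 with h3 | h3
      · skip
        rcases Nat.lt_or_ge i 3396000 with h4 | h4
        · skip
          rcases Nat.lt_or_ge i 3393000 with h5 | h5
          · skip
            rcases Nat.lt_or_ge i 3391000 with h6 | h6
            · skip
              exact allRangeF_sound _ _ (checkFactF_eq cert) 3390000 1000 chkF_3390000 i (by omega) (by omega)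
            · skip
              rcases Nat.lt_or_ge i 3392000 with h7 | h7
              · skip
                exact allRangeF_sound _ _ (checkFactF_eq cert) 3391000 1000 chkF_3391000 i (by omega) (by omega)
              · skip
                exact allRangeF_sound _ _ (checkFactF_eq cert) 3392000 1000 chkF_3392000 i (by omega) (by omega)
          · skip
            rcases Nat.lt_or_ge i 3394000 with h6 | h6
            · skip
              exact allRangeF_sound _ _ (checkFactF_eq cert) 3393000 1000 chkF_3393000 i (by omega) (by omega)
            · skip
              rcases Nat.lt_or_ge i 3395000 with h7 | h7
              · skip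
                exact allRangeF_sound _ _ (checkFactF_eq cert) 3394000 1000 chkF_3394000 i (by omega) (by omega)
              · skip
                exact allRangeF_sound _ _ (checkFactF_eq cert) 3395000 1000 chkF_3395000 i (by omega) (by omega)
        · skip
          rcases Nat.lt_or_ge i 3399000 with h5 | h5
          · skip
            rcases Nat.lt_or_ge i 3397000 with h6 | h6
            · skip
              exact allRangeF_sound _ _ (checkFactF_eq cert) 3396000 1000 chkF_3396000 i (by omega) (by omega)
            · skip
              rcases Nat.lt_or_ge i 3398000 with h7 | h7
              · skip
                exact allRangeF_sound _ _ (checkFactF_eq cert) 3397000 1000 chkF_3397000 i (by omega) (by omega)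
              · skip
                exact allRangeF_sound _ _ (checkFactF_eq cert) 3398000 1000 chkF_3398000 i (by omega) (by omega)
          · skip
            rcases Nat.lt_or_ge i 3400000 with h6 | h6
            · skip
              exact allRangeF_sound _ _ (checkFactF_eq cert) 3399000 1000 chkF_3399000 i (by omega) (by omega)
            · skip
              rcases Nat.lt_or_ge i 3401000 with h7 | h7
              · skip
                exact allRangeF_sound _ _ (checkFactF_eq cert) 3400000 1000 chkF_3400000 i (by omega) (by omega)
              · skip
                exact allRangeF_sound _ _ (checkFactF_eq cert) 3401000 1000 chkF_3401000 i (by omega) (by omega)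
      · skip
        rcases Nat.lt_or_ge i 3408000 with h4 | h4
        · skip
          rcases Nat.lt_or_ge i 3405000 with h5 | h5
          · skip
            rcases Nat.lt_or_ge i 3403000 with h6 | h6
            · skip
              exact allRangeF_sound _ _ (checkFactF_eq cert) 3402000 1000 chkF_3402000 i (by omega) (by omega)
            · skip
              rcases Nat.lt_or_ge i 3404000 with h7 | h7
              · skip
                exact allRangeF_sound _ _ (checkFactF_eq cert) 3403000 1000 chkF_3403000 i (by omega) (by omega)
              · skip
                exact allRangeF_sound _ _ (checkFactF_eq cert) 3404000 1000 chkF_3404000 i (by omega) (by omega)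
          · skip
            rcases Nat.lt_or_ge i 3406000 with h6 | h6
            · skip
              exact allRangeF_sound _ _ (checkFactF_eq cert) 3405000 1000 chkF_3405000 i (by omega) (by omega)
            · skip
              rcases Nat.lt_or_ge i 3407000 with h7 | h7
              · skip
                exact allRangeF_sound _ _ (checkFactF_eq cert) 3406000 1000 chkF_3406000 i (by omega) (by omega)
              · skip
                exact allRangeF_sound _ _ (checkFactF_eq cert) 3407000 1000 chkF_3407000 i (by omega) (by omega)
        · skip
          rcases Nat.lt_or_ge i 3411000 with h5 | h5
          · skip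
            rcases Nat.lt_or_ge i 3409000 with h6 | h6
            · skip
              exact allRangeF_sound _ _ (checkFactF_eq cert) 3408000 1000 chkF_3408000 i (by omega) (by omega)
            · skip
              rcases Nat.lt_or_ge i 3410000 with h7 | h7
              · skip
                exact allRangeF_sound _ _ (checkFactF_eq cert) 3409000 1000 chkF_3409000 i (by omega) (by omega)
              · skip
                exact allRangeF_sound _ _ (checkFactF_eq cert) 3410000 1000 chkF_3410000 i (by omega) (by omega)
          · skip
            rcases Nat.lt_or_ge i 3413000 with h6 | h6
            · skip
              rcases Nat.lt_or_ge i 3412000 with h7 | h7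
              · skip
                exact allRangeF_sound _ _ (checkFactF_eq cert) 3411000 1000 chkF_3411000 i (by omega) (by omega)
              · skip
                exact allRangeF_sound _ _ (checkFactF_eq cert) 3412000 1000 chkF_3412000 i (by omega) (by omega)
            · skip
              rcases Nat.lt_or_ge i 3414000 with h7 | h7
              · skip
                exact allRangeF_sound _ _ (checkFactF_eq cert) 3413000 1000 chkF_3413000 i (by omega) (by omega)
              · skip
                exact allRangeF_sound _ _ (checkFactF_eq cert) 3414000 1000 chkF_3414000 i (by omega) (by omega)
  · skip
    rcases Nat.lt_or_ge i 3440000 with h2 | h2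
    · skip
      rcases Nat.lt_or_ge i 3427000 with h3 | h3
      · skip
        rcases Nat.lt_or_ge i 3421000 with h4 | h4
        · skip
          rcases Nat.lt_or_ge i 3418000 with h5 | h5
          · skip
            rcases Nat.lt_or_ge i 3416000 with h6 | h6
            · skip
              exact allRangeF_sound _ _ (checkFactF_eq cert) 3415000 1000 chkF_3415000 i (by omega) (by omega)
            · skip
              rcases Nat.lt_or_ge i 3417000 with h7 | h7
              · skip
                exact allRangeF_sound _ _ (checkFactF_eq cert) 3416000 1000 chkF_3416000 i (by omega) (by omega)
              · skip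
                exact allRangeF_sound _ _ (checkFactF_eq cert) 3417000 1000 chkF_3417000 i (by omega) (by omega)
          · skip
            rcases Nat.lt_or_ge i 3419000 with h6 | h6
            · skip
              exact allRangeF_sound _ _ (checkFactF_eq cert) 3418000 1000 chkF_3418000 i (by omega) (by omega)
            · skip
              rcases Nat.lt_or_ge i 3420000 with h7 | h7
              · skip
                exact allRangeF_sound _ _ (checkFactF_eq cert) 3419000 1000 chkF_3419000 i (by omega) (by omega)
              · skip
                exact allRangeF_sound _ _ (checkFactF_eq cert) 3420000 1000 chkF_3420000 i (by omega) (by omega)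
        · skip
          rcases Nat.lt_or_ge i 3424000 with h5 | h5
          · skip
            rcases Nat.lt_or_ge i 3422000 with h6 | h6
            · skip
              exact allRangeF_sound _ _ (checkFactF_eq cert) 3421000 1000 chkF_3421000 i (by omega) (by omega)
            · skip
              rcases Nat.lt_or_ge i 3423000 with h7 | h7
              · skip
                exact allRangeF_sound _ _ (checkFactF_eq cert) 3422000 1000 chkF_3422000 i (by omega) (by omega)
              · skip
                exact allRangeF_sound _ _ (checkFactF_eq cert) 3423000 1000 chkF_3423000 i (by omega) (by omega)
          · skip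
            rcases Nat.lt_or_ge i 3425000 with h6 | h6
            · skip
              exact allRangeF_sound _ _ (checkFactF_eq cert) 3424000 1000 chkF_3424000 i (by omega) (by omega)
            · skip
              rcases Nat.lt_or_ge i 3426000 with h7 | h7
              · skip
                exact allRangeF_sound _ _ (checkFactF_eq cert) 3425000 1000 chkF_3425000 i (by omega) (by omega)
              · skip
                exact allRangeF_sound _ _ (checkFactF_eq cert) 3426000 1000 chkF_3426000 i (by omega) (by omega)
      · skip
        rcases Nat.lt_or_ge i 3433000 with h4 | h4
        · skip
          rcases Nat.lt_or_ge i 3430000 with h5 | h5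
          · skip
            rcases Nat.lt_or_ge i 3428000 with h6 | h6
            · skip
              exact allRangeF_sound _ _ (checkFactF_eq cert) 3427000 1000 chkF_3427000 i (by omega) (by omega)
            · skip
              rcases Nat.lt_or_ge i 3429000 with h7 | h7
              · skip
                exact allRangeF_sound _ _ (checkFactF_eq cert) 3428000 1000 chkF_3428000 i (by omega) (by omega)
              · skip
                exact allRangeF_sound _ _ (checkFactF_eq cert) 3429000 1000 chkF_3429000 i (by omega) (by omega)
          · skip
            rcases Nat.lt_or_ge i 3431000 with h6 | h6
            · skip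
              exact allRangeF_sound _ _ (checkFactF_eq cert) 3430000 1000 chkF_3430000 i (by omega) (by omega)
            · skip
              rcases Nat.lt_or_ge i 3432000 with h7 | h7
              · skip
                exact allRangeF_sound _ _ (checkFactF_eq cert) 3431000 1000 chkF_3431000 i (by omega) (by omega)
              · skip
                exact allRangeF_sound _ _ (checkFactF_eq cert) 3432000 1000 chkF_3432000 i (by omega) (by omega)
        · skip
          rcases Nat.lt_or_ge i 3436000 with h5 | h5
          · skip
            rcases Nat.lt_or_ge i 3434000 with h6 | h6
            · skip
              exact allRangeF_sound _ _ (checkFactF_eq cert) 3433000 1000 chkF_3433000 i (by omega) (by omega)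
            · skip
              rcases Nat.lt_or_ge i 3435000 with h7 | h7
              · skip
                exact allRangeF_sound _ _ (checkFactF_eq cert) 3434000 1000 chkF_3434000 i (by omega) (by omega)
              · skip
                exact allRangeF_sound _ _ (checkFactF_eq cert) 3435000 1000 chkF_3435000 i (by omega) (by omega)
          · skip
            rcases Nat.lt_or_ge i 3438000 with h6 | h6
            · skip
              rcases Nat.lt_or_ge i 3437000 with h7 | h7
              · skip
                exact allRangeF_sound _ _ (checkFactF_eq cert) 3436000 1000 chkF_3436000 i (by omega) (by omega)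
              · skip
                exact allRangeF_sound _ _ (checkFactF_eq cert) 3437000 1000 chkF_3437000 i (by omega) (by omega)
            · skip
              rcases Nat.lt_or_ge i 3439000 with h7 | h7
              · skip
                exact allRangeF_sound _ _ (checkFactF_eq cert) 3438000 1000 chkF_3438000 i (by omega) (by omega)
              · skip
                exact allRangeF_sound _ _ (checkFactF_eq cert) 3439000 1000 chkF_3439000 i (by omega) (by omega)
    · skip
      rcases Nat.lt_or_ge i 3452000 with h3 | h3
      · skip
        rcases Nat.lt_or_ge i 3446000 with h4 | h4
        · skip
          rcases Nat.lt_or_ge i 3443000 with h5 | h5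
          · skip
            rcases Nat.lt_or_ge i 3441000 with h6 | h6
            · skip
              exact allRangeF_sound _ _ (checkFactF_eq cert) 3440000 1000 chkF_3440000 i (by omega) (by omega)
            · skip
              rcases Nat.lt_or_ge i 3442000 with h7 | h7
              · skip
                exact allRangeF_sound _ _ (checkFactF_eq cert) 3441000 1000 chkF_3441000 i (by omega) (by omega)
              · skip
                exact allRangeF_sound _ _ (checkFactF_eq cert) 3442000 1000 chkF_3442000 i (by omega) (by omega)
          · skip
            rcases Nat.lt_or_ge i 3444000 with h6 | h6
            · skip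
              exact allRangeF_sound _ _ (checkFactF_eq cert) 3443000 1000 chkF_3443000 i (by omega) (by omega)
            · skip
              rcases Nat.lt_or_ge i 3445000 with h7 | h7
              · skip
                exact allRangeF_sound _ _ (checkFactF_eq cert) 3444000 1000 chkF_3444000 i (by omega) (by omega)
              · skip
                exact allRangeF_sound _ _ (checkFactF_eq cert) 3445000 1000 chkF_3445000 i (by omega) (by omega)
        · skip
          rcases Nat.lt_or_ge i 3449000 with h5 | h5
          · skip
            rcases Nat.lt_or_ge i 3447000 with h6 | h6
            · skip
              exact allRangeF_sound _ _ (checkFactF_eq cert) 3446000 1000 chkF_3446000 i (by omega) (by omega)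
            · skip
              rcases Nat.lt_or_ge i 3448000 with h7 | h7
              · skip
                exact allRangeF_sound _ _ (checkFactF_eq cert) 3447000 1000 chkF_3447000 i (by omega) (by omega)
              · skip
                exact allRangeF_sound _ _ (checkFactF_eq cert) 3448000 1000 chkF_3448000 i (by omega) (by omega)
          · skip
            rcases Nat.lt_or_ge i 3450000 with h6 | h6
            · skip
              exact allRangeF_sound _ _ (checkFactF_eq cert) 3449000 1000 chkF_3449000 i (by omega) (by omega)
            · skip
              rcases Nat.lt_or_ge i 3451000 with h7 | h7
              · skip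
                exact allRangeF_sound _ _ (checkFactF_eq cert) 3450000 1000 chkF_3450000 i (by omega) (by omega)
              · skip
                exact allRangeF_sound _ _ (checkFactF_eq cert) 3451000 1000 chkF_3451000 i (by omega) (by omega)
      · skip
        rcases Nat.lt_or_ge i 3458000 with h4 | h4
        · skip
          rcases Nat.lt_or_ge i 3455000 with h5 | h5
          · skip
            rcases Nat.lt_or_ge i 3453000 with h6 | h6
            · skip
              exact allRangeF_sound _ _ (checkFactF_eq cert) 3452000 1000 chkF_3452000 i (by omega) (by omega)
            · skip
              rcases Nat.lt_or_ge i 3454000 with h7 | h7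
              · skip
                exact allRangeF_sound _ _ (checkFactF_eq cert) 3453000 1000 chkF_3453000 i (by omega) (by omega)
              · skip
                exact allRangeF_sound _ _ (checkFactF_eq cert) 3454000 1000 chkF_3454000 i (by omega) (by omega)
          · skip
            rcases Nat.lt_or_ge i 3456000 with h6 | h6
            · skip
              exact allRangeF_sound _ _ (checkFactF_eq cert) 3455000 1000 chkF_3455000 i (by omega) (by omega)
            · skip
              rcases Nat.lt_or_ge i 3457000 with h7 | h7
              · skip
                exact allRangeF_sound _ _ (checkFactF_eq cert) 3456000 1000 chkF_3456000 i (by omega) (by omega)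
              · skip
                exact allRangeF_sound _ _ (checkFactF_eq cert) 3457000 1000 chkF_3457000 i (by omega) (by omega)
        · skip
          rcases Nat.lt_or_ge i 3461000 with h5 | h5
          · skip
            rcases Nat.lt_or_ge i 3459000 with h6 | h6
            · skip
              exact allRangeF_sound _ _ (checkFactF_eq cert) 3458000 1000 chkF_3458000 i (by omega) (by omega)
            · skip
              rcases Nat.lt_or_ge i 3460000 with h7 | h7
              · skip
                exact allRangeF_sound _ _ (checkFactF_eq cert) 3459000 1000 chkF_3459000 i (by omega) (by omega)
              · skip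
                exact allRangeF_sound _ _ (checkFactF_eq cert) 3460000 1000 chkF_3460000 i (by omega) (by omega)
          · skip
            rcases Nat.lt_or_ge i 3463000 with h6 | h6
            · skip
              rcases Nat.lt_or_ge i 3462000 with h7 | h7
              · skip
                exact allRangeF_sound _ _ (checkFactF_eq cert) 3461000 1000 chkF_3461000 i (by omega) (by omega)
              · skip
                exact allRangeF_sound _ _ (checkFactF_eq cert) 3462000 1000 chkF_3462000 i (by omega) (by omega)
            · skip
              rcases Nat.lt_or_ge i 3464000 with h7 | h7
              · skip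
                exact allRangeF_sound _ _ (checkFactF_eq cert) 3463000 1000 chkF_3463000 i (by omega) (by omega)
              · skip
                exact allRangeF_sound _ _ (checkFactF_eq cert) 3464000 1000 chkF_3464000 i (by omega) (by omega)

end Cfsg.Agent.Lib.Helper28.Fi24Data
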