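import Cfsg.Agent.Lib.Helper28.Fi24Data
import Cfsg.Agent.Lib.Helper28.TCFastFB

set_option autoImplicit false
set_option maxRecDepth 1000000
set_option linter.all false
set_option Elab.async false

namespace Cfsg.Agent.Lib.Helper28.Fi24Data

open Cfsg.Agent.Lib.Helper28B

theorem chkF_396000 : allRangeF (checkFactF cert) (nat_lit 396000) (nat_lit 1000) = true := by decide +kernel
theorem chkF_397000 : allRangeF (checkFactF cert) (nat_lit 397000) (nat_lit 1000) = true := by decide +kernel
theorem chkF_398000 : allRangeF (checkFactF cert) (nat_lit 398000) (nat_lit 1000) = true := by decide +kernel
theorem chkF_399000 : allRangeF (checkFactF cert) (nat_lit 399000) (nat_lit 1000) = true := by decide +kernel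
theorem chkF_400000 : allRangeF (checkFactF cert) (nat_lit 400000) (nat_lit 1000) = true := by decide +kernel
theorem chkF_401000 : allRangeF (checkFactF cert) (nat_lit 401000) (nat_lit 1000) = true := by decide +kernel
theorem chkF_402000 : allRangeF (checkFactF cert) (nat_lit 402000) (nat_lit 1000) = true := by decide +kernel
theorem chkF_403000 : allRangeF (checkFactF cert) (nat_lit 403000) (nat_lit 1000) = true := by decide +kernel
theorem chkF_404000 : allRangeF (checkFactF cert) (nat_lit 404000) (nat_lit 1000) = true := by decide +kernel
theorem chkF_405000 : allRangeF (checkFactF cert) (nat_lit 405000) (nat_lit 1000) = true := by decide +kernel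
theorem chkF_406000 : allRangeF (checkFactF cert) (nat_lit 406000) (nat_lit 1000) = true := by decide +kernel
theorem chkF_407000 : allRangeF (checkFactF cert) (nat_lit 407000) (nat_lit 1000) = true := by decide +kernel
theorem chkF_408000 : allRangeF (checkFactF cert) (nat_lit 408000) (nat_lit 1000) = true := by decide +kernel
theorem chkF_409000 : allRangeF (checkFactF cert) (nat_lit 409000) (nat_lit 1000) = true := by decide +kernel
theorem chkF_410000 : allRangeF (checkFactF cert) (nat_lit 410000) (nat_lit 1000) = true := by decide +kernel
theorem chkF_411000 : allRangeF (checkFactF cert) (nat_lit 411000) (nat_lit 1000) = true := by decide +kernel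
theorem chkF_412000 : allRangeF (checkFactF cert) (nat_lit 412000) (nat_lit 1000) = true := by decide +kernel
theorem chkF_413000 : allRangeF (checkFactF cert) (nat_lit 413000) (nat_lit 1000) = true := by decide +kernel
theorem chkF_414000 : allRangeF (checkFactF cert) (nat_lit 414000) (nat_lit 1000) = true := by decide +kernel
theorem chkF_415000 : allRangeF (checkFactF cert) (nat_lit 415000) (nat_lit 1000) = true := by decide +kernel
theorem chkF_416000 : allRangeF (checkFactF cert) (nat_lit 416000) (nat_lit 1000) = true := by decide +kernel
theorem chkF_417000 : allRangeF (checkFactF cert) (nat_lit 417000) (nat_lit 1000) = true := by decide +kernel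
theorem chkF_418000 : allRangeF (checkFactF cert) (nat_lit 418000) (nat_lit 1000) = true := by decide +kernel
theorem chkF_419000 : allRangeF (checkFactF cert) (nat_lit 419000) (nat_lit 1000) = true := by decide +kernel
theorem chkF_420000 : allRangeF (checkFactF cert) (nat_lit 420000) (nat_lit 1000) = true := by decide +kernel
theorem chkF_421000 : allRangeF (checkFactF cert) (nat_lit 421000) (nat_lit 1000) = true := by decide +kernel
theorem chkF_422000 : allRangeF (checkFactF cert) (nat_lit 422000) (nat_lit 1000) = true := by decide +kernel
theorem chkF_423000 : allRangeF (checkFactF cert) (nat_lit 423000) (nat_lit 1000) = true := by decide +kernel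
theorem chkF_424000 : allRangeF (checkFactF cert) (nat_lit 424000) (nat_lit 1000) = true := by decide +kernel
theorem chkF_425000 : allRangeF (checkFactF cert) (nat_lit 425000) (nat_lit 1000) = true := by decide +kernel
theorem chkF_426000 : allRangeF (checkFactF cert) (nat_lit 426000) (nat_lit 1000) = true := by decide +kernel
theorem chkF_427000 : allRangeF (checkFactF cert) (nat_lit 427000) (nat_lit 1000) = true := by decide +kernel
theorem chkF_428000 : allRangeF (checkFactF cert) (nat_lit 428000) (nat_lit 1000) = true := by decide +kernel
theorem chkF_429000 : allRangeF (checkFactF cert) (nat_lit 429000) (nat_lit 1000) = true := by decide +kernel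
theorem chkF_430000 : allRangeF (checkFactF cert) (nat_lit 430000) (nat_lit 1000) = true := by decide +kernel
theorem chkF_431000 : allRangeF (checkFactF cert) (nat_lit 431000) (nat_lit 1000) = true := by decide +kernel
theorem chkF_432000 : allRangeF (checkFactF cert) (nat_lit 432000) (nat_lit 1000) = true := by decide +kernel
theorem chkF_433000 : allRangeF (checkFactF cert) (nat_lit 433000) (nat_lit 1000) = true := by decide +kernel
theorem chkF_434000 : allRangeF (checkFactF cert) (nat_lit 434000) (nat_lit 1000) = true := by decide +kernel
theorem chkF_435000 : allRangeF (checkFactF cert) (nat_lit 435000) (nat_lit 1000) = true := by decide +kernel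
theorem chkF_436000 : allRangeF (checkFactF cert) (nat_lit 436000) (nat_lit 1000) = true := by decide +kernel
theorem chkF_437000 : allRangeF (checkFactF cert) (nat_lit 437000) (nat_lit 1000) = true := by decide +kernel
theorem chkF_438000 : allRangeF (checkFactF cert) (nat_lit 438000) (nat_lit 1000) = true := by decide +kernel
theorem chkF_439000 : allRangeF (checkFactF cert) (nat_lit 439000) (nat_lit 1000) = true := by decide +kernel
theorem chkF_440000 : allRangeF (checkFactF cert) (nat_lit 440000) (nat_lit 1000) = true := by decide +kernel
theorem chkF_441000 : allRangeF (checkFactF cert) (nat_lit 441000) (nat_lit 1000) = true := by decide +kernel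
theorem chkF_442000 : allRangeF (checkFactF cert) (nat_lit 442000) (nat_lit 1000) = true := by decide +kernel
theorem chkF_443000 : allRangeF (checkFactF cert) (nat_lit 443000) (nat_lit 1000) = true := by decide +kernel
theorem chkF_444000 : allRangeF (checkFactF cert) (nat_lit 444000) (nat_lit 1000) = true := by decide +kernel
theorem chkF_445000 : allRangeF (checkFactF cert) (nat_lit 445000) (nat_lit 1000) = true := by decide +kernel
theorem chkF_446000 : allRangeF (checkFactF cert) (nat_lit 446000) (nat_lit 1000) = true := by decide +kernel
theorem chkF_447000 : allRangeF (checkFactF cert) (nat_lit 447000) (nat_lit 1000) = true := by decide +kernel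
theorem chkF_448000 : allRangeF (checkFactF cert) (nat_lit 448000) (nat_lit 1000) = true := by decide +kernel
theorem chkF_449000 : allRangeF (checkFactF cert) (nat_lit 449000) (nat_lit 1000) = true := by decide +kernel
theorem chkF_450000 : allRangeF (checkFactF cert) (nat_lit 450000) (nat_lit 1000) = true := by decide +kernel
theorem chkF_451000 : allRangeF (checkFactF cert) (nat_lit 451000) (nat_lit 1000) = true := by decide +kernel
theorem chkF_452000 : allRangeF (checkFactF cert) (nat_lit 452000) (nat_lit 1000) = true := by decide +kernel
theorem chkF_453000 : allRangeF (checkFactF cert) (nat_lit 453000) (nat_lit 1000) = true := by decide +kernel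
theorem chkF_454000 : allRangeF (checkFactF cert) (nat_lit 454000) (nat_lit 1000) = true := by decide +kernel
theorem chkF_455000 : allRangeF (checkFactF cert) (nat_lit 455000) (nat_lit 1000) = true := by decide +kernel
theorem chkF_456000 : allRangeF (checkFactF cert) (nat_lit 456000) (nat_lit 1000) = true := by decide +kernel
theorem chkF_457000 : allRangeF (checkFactF cert) (nat_lit 457000) (nat_lit 1000) = true := by decide +kernel
theorem chkF_458000 : allRangeF (checkFactF cert) (nat_lit 458000) (nat_lit 1000) = true := by decide +kernel
theorem chkF_459000 : allRangeF (checkFactF cert) (nat_lit 459000) (nat_lit 1000) = true := by decide +kernel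
theorem chkF_460000 : allRangeF (checkFactF cert) (nat_lit 460000) (nat_lit 1000) = true := by decide +kernel
theorem chkF_461000 : allRangeF (checkFactF cert) (nat_lit 461000) (nat_lit 1000) = true := by decide +kernel
theorem chkF_462000 : allRangeF (checkFactF cert) (nat_lit 462000) (nat_lit 1000) = true := by decide +kernel
theorem chkF_463000 : allRangeF (checkFactF cert) (nat_lit 463000) (nat_lit 1000) = true := by decide +kernel
theorem chkF_464000 : allRangeF (checkFactF cert) (nat_lit 464000) (nat_lit 1000) = true := by decide +kernel
theorem chkF_465000 : allRangeF (checkFactF cert) (nat_lit 465000) (nat_lit 1000) = true := by decide +kernel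
theorem chkF_466000 : allRangeF (checkFactF cert) (nat_lit 466000) (nat_lit 1000) = true := by decide +kernel
theorem chkF_467000 : allRangeF (checkFactF cert) (nat_lit 467000) (nat_lit 1000) = true := by decide +kernel
theorem chkF_468000 : allRangeF (checkFactF cert) (nat_lit 468000) (nat_lit 1000) = true := by decide +kernel
theorem chkF_469000 : allRangeF (checkFactF cert) (nat_lit 469000) (nat_lit 1000) = true := by decide +kernel
theorem chkF_470000 : allRangeF (checkFactF cert) (nat_lit 470000) (nat_lit 1000) = true := by decide +kernel
theorem chkF_471000 : allRangeF (checkFactF cert) (nat_lit 471000) (nat_lit 1000) = true := by decide +kernel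
theorem chkF_472000 : allRangeF (checkFactF cert) (nat_lit 472000) (nat_lit 1000) = true := by decide +kernel
theorem chkF_473000 : allRangeF (checkFactF cert) (nat_lit 473000) (nat_lit 1000) = true := by decide +kernel
theorem chkF_474000 : allRangeF (checkFactF cert) (nat_lit 474000) (nat_lit 1000) = true := by decide +kernel
theorem chkF_475000 : allRangeF (checkFactF cert) (nat_lit 475000) (nat_lit 1000) = true := by decide +kernel
theorem chkF_476000 : allRangeF (checkFactF cert) (nat_lit 476000) (nat_lit 1000) = true := by decide +kernel
theorem chkF_477000 : allRangeF (checkFactF cert) (nat_lit 477000) (nat_lit 1000) = true := by decide +kernel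
theorem chkF_478000 : allRangeF (checkFactF cert) (nat_lit 478000) (nat_lit 1000) = true := by decide +kernel
theorem chkF_479000 : allRangeF (checkFactF cert) (nat_lit 479000) (nat_lit 1000) = true := by decide +kernel
theorem chkF_480000 : allRangeF (checkFactF cert) (nat_lit 480000) (nat_lit 1000) = true := by decide +kernel
theorem chkF_481000 : allRangeF (checkFactF cert) (nat_lit 481000) (nat_lit 1000) = true := by decide +kernel
theorem chkF_482000 : allRangeF (checkFactF cert) (nat_lit 482000) (nat_lit 1000) = true := by decide +kernel
theorem chkF_483000 : allRangeF (checkFactF cert) (nat_lit 483000) (nat_lit 1000) = true := by decide +kernel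
theorem chkF_484000 : allRangeF (checkFactF cert) (nat_lit 484000) (nat_lit 1000) = true := by decide +kernel
theorem chkF_485000 : allRangeF (checkFactF cert) (nat_lit 485000) (nat_lit 1000) = true := by decide +kernel
theorem chkF_486000 : allRangeF (checkFactF cert) (nat_lit 486000) (nat_lit 1000) = true := by decide +kernel
theorem chkF_487000 : allRangeF (checkFactF cert) (nat_lit 487000) (nat_lit 1000) = true := by decide +kernel
theorem chkF_488000 : allRangeF (checkFactF cert) (nat_lit 488000) (nat_lit 1000) = true := by decide +kernel
theorem chkF_489000 : allRangeF (checkFactF cert) (nat_lit 489000) (nat_lit 1000) = true := by decide +kernel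
theorem chkF_490000 : allRangeF (checkFactF cert) (nat_lit 490000) (nat_lit 1000) = true := by decide +kernel
theorem chkF_491000 : allRangeF (checkFactF cert) (nat_lit 491000) (nat_lit 1000) = true := by decide +kernel
theorem chkF_492000 : allRangeF (checkFactF cert) (nat_lit 492000) (nat_lit 1000) = true := by decide +kernel
theorem chkF_493000 : allRangeF (checkFactF cert) (nat_lit 493000) (nat_lit 1000) = true := by decide +kernel
theorem chkF_494000 : allRangeF (checkFactF cert) (nat_lit 494000) (nat_lit 1000) = true := by decide +kernel

theorem factsRange_4 : ∀ i, 396000 ≤ i → i < 495000 → checkFact cert i = true := by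
  intro i hlo hhi
  rcases Nat.lt_or_ge i 445000 with h1 | h1
  · skip
    rcases Nat.lt_or_ge i 420000 with h2 | h2
    · skip
      rcases Nat.lt_or_ge i 408000 with h3 | h3
      · skip
        rcases Nat.lt_or_ge i 402000 with h4 | h4
        · skip
          rcases Nat.lt_or_ge i 399000 with h5 | h5
          · skip
            rcases Nat.lt_or_ge i 397000 with h6 | h6
            · skip
              exact allRangeF_sound _ _ (checkFactF_eq cert) 396000 1000 chkF_396000 i (by omega) (by omega)
            · skip
              rcases Nat.lt_or_ge i 398000 with h7 | h7
              · skip
                exact allRangeF_sound _ _ (checkFactF_eq cert) 397000 1000 chkF_397000 i (by omega) (by omega)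
              · skip
                exact allRangeF_sound _ _ (checkFactF_eq cert) 398000 1000 chkF_398000 i (by omega) (by omega)
          · skip
            rcases Nat.lt_or_ge i 400000 with h6 | h6
            · skip
              exact allRangeF_sound _ _ (checkFactF_eq cert) 399000 1000 chkF_399000 i (by omega) (by omega)
            · skip
              rcases Nat.lt_or_ge i 401000 with h7 | h7
              · skip
                exact allRangeF_sound _ _ (checkFactF_eq cert) 400000 1000 chkF_400000 i (by omega) (by omega)
              · skip
                exact allRangeF_sound _ _ (checkFactF_eq cert) 401000 1000 chkF_401000 i (by omega) (by omega)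
        · skip
          rcases Nat.lt_or_ge i 405000 with h5 | h5
          · skip
            rcases Nat.lt_or_ge i 403000 with h6 | h6
            · skip
              exact allRangeF_sound _ _ (checkFactF_eq cert) 402000 1000 chkF_402000 i (by omega) (by omega)
            · skip
              rcases Nat.lt_or_ge i 404000 with h7 | h7
              · skip
                exact allRangeF_sound _ _ (checkFactF_eq cert) 403000 1000 chkF_403000 i (by omega) (by omega)
              · skip
                exact allRangeF_sound _ _ (checkFactF_eq cert) 404000 1000 chkF_404000 i (by omega) (by omega)
          · skip
            rcases Nat.lt_or_ge i 406000 with h6 | h6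
            · skip
              exact allRangeF_sound _ _ (checkFactF_eq cert) 405000 1000 chkF_405000 i (by omega) (by omega)
            · skip
              rcases Nat.lt_or_ge i 407000 with h7 | h7
              · skip
                exact allRangeF_sound _ _ (checkFactF_eq cert) 406000 1000 chkF_406000 i (by omega) (by omega)
              · skip
                exact allRangeF_sound _ _ (checkFactF_eq cert) 407000 1000 chkF_407000 i (by omega) (by omega)
      · skip
        rcases Nat.lt_or_ge i 414000 with h4 | h4
        · skip
          rcases Nat.lt_or_ge i 411000 with h5 | h5
          · skip
            rcases Nat.lt_or_ge i 409000 with h6 | h6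
            · skip
              exact allRangeF_sound _ _ (checkFactF_eq cert) 408000 1000 chkF_408000 i (by omega) (by omega)
            · skip
              rcases Nat.lt_or_ge i 410000 with h7 | h7
              · skip
                exact allRangeF_sound _ _ (checkFactF_eq cert) 409000 1000 chkF_409000 i (by omega) (by omega)
              · skip
                exact allRangeF_sound _ _ (checkFactF_eq cert) 410000 1000 chkF_410000 i (by omega) (by omega)
          · skip
            rcases Nat.lt_or_ge i 412000 with h6 | h6
            · skip
              exact allRangeF_sound _ _ (checkFactF_eq cert) 411000 1000 chkF_411000 i (by omega) (by omega)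
            · skip
              rcases Nat.lt_or_ge i 413000 with h7 | h7
              · skip
                exact allRangeF_sound _ _ (checkFactF_eq cert) 412000 1000 chkF_412000 i (by omega) (by omega)
              · skip
                exact allRangeF_sound _ _ (checkFactF_eq cert) 413000 1000 chkF_413000 i (by omega) (by omega)
        · skip
          rcases Nat.lt_or_ge i 417000 with h5 | h5
          · skip
            rcases Nat.lt_or_ge i 415000 with h6 | h6
            · skip
              exact allRangeF_sound _ _ (checkFactF_eq cert) 414000 1000 chkF_414000 i (by omega) (by omega)
            · skip
              rcases Nat.lt_or_ge i 416000 with h7 | h7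
              · skip
                exact allRangeF_sound _ _ (checkFactF_eq cert) 415000 1000 chkF_415000 i (by omega) (by omega)
              · skip
                exact allRangeF_sound _ _ (checkFactF_eq cert) 416000 1000 chkF_416000 i (by omega) (by omega)
          · skip
            rcases Nat.lt_or_ge i 418000 with h6 | h6
            · skip
              exact allRangeF_sound _ _ (checkFactF_eq cert) 417000 1000 chkF_417000 i (by omega) (by omega)
            · skip
              rcases Nat.lt_or_ge i 419000 with h7 | h7
              · skip
                exact allRangeF_sound _ _ (checkFactF_eq cert) 418000 1000 chkF_418000 i (by omega) (by omega)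
              · skip
                exact allRangeF_sound _ _ (checkFactF_eq cert) 419000 1000 chkF_419000 i (by omega) (by omega)
    · skip
      rcases Nat.lt_or_ge i 432000 with h3 | h3
      · skip
        rcases Nat.lt_or_ge i 426000 with h4 | h4
        · skip
          rcases Nat.lt_or_ge i 423000 with h5 | h5
          · skip
            rcases Nat.lt_or_ge i 421000 with h6 | h6
            · skip
              exact allRangeF_sound _ _ (checkFactF_eq cert) 420000 1000 chkF_420000 i (by omega) (by omega)
            · skip
              rcases Nat.lt_or_ge i 422000 with h7 | h7
              · skip
                exact allRangeF_sound _ _ (checkFactF_eq cert) 421000 1000 chkF_421000 i (by omega) (by omega)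
              · skip
                exact allRangeF_sound _ _ (checkFactF_eq cert) 422000 1000 chkF_422000 i (by omega) (by omega)
          · skip
            rcases Nat.lt_or_ge i 424000 with h6 | h6
            · skip
              exact allRangeF_sound _ _ (checkFactF_eq cert) 423000 1000 chkF_423000 i (by omega) (by omega)
            · skip
              rcases Nat.lt_or_ge i 425000 with h7 | h7
              · skip
                exact allRangeF_sound _ _ (checkFactF_eq cert) 424000 1000 chkF_424000 i (by omega) (by omega)
              · skip
                exact allRangeF_sound _ _ (checkFactF_eq cert) 425000 1000 chkF_425000 i (by omega) (by omega)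
        · skip
          rcases Nat.lt_or_ge i 429000 with h5 | h5
          · skip
            rcases Nat.lt_or_ge i 427000 with h6 | h6
            · skip
              exact allRangeF_sound _ _ (checkFactF_eq cert) 426000 1000 chkF_426000 i (by omega) (by omega)
            · skip
              rcases Nat.lt_or_ge i 428000 with h7 | h7
              · skip
                exact allRangeF_sound _ _ (checkFactF_eq cert) 427000 1000 chkF_427000 i (by omega) (by omega)
              · skip
                exact allRangeF_sound _ _ (checkFactF_eq cert) 428000 1000 chkF_428000 i (by omega) (by omega)
          · skip
            rcases Nat.lt_or_ge i 430000 with h6 | h6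
            · skip
              exact allRangeF_sound _ _ (checkFactF_eq cert) 429000 1000 chkF_429000 i (by omega) (by omega)
            · skip
              rcases Nat.lt_or_ge i 431000 with h7 | h7
              · skip
                exact allRangeF_sound _ _ (checkFactF_eq cert) 430000 1000 chkF_430000 i (by omega) (by omega)
              · skip
                exact allRangeF_sound _ _ (checkFactF_eq cert) 431000 1000 chkF_431000 i (by omega) (by omega)
      · skip
        rcases Nat.lt_or_ge i 438000 with h4 | h4
        · skip
          rcases Nat.lt_or_ge i 435000 with h5 | h5
          · skip
            rcases Nat.lt_or_ge i 433000 with h6 | h6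
            · skip
              exact allRangeF_sound _ _ (checkFactF_eq cert) 432000 1000 chkF_432000 i (by omega) (by omega)
            · skip
              rcases Nat.lt_or_ge i 434000 with h7 | h7
              · skip
                exact allRangeF_sound _ _ (checkFactF_eq cert) 433000 1000 chkF_433000 i (by omega) (by omega)
              · skip
                exact allRangeF_sound _ _ (checkFactF_eq cert) 434000 1000 chkF_434000 i (by omega) (by omega)
          · skip
            rcases Nat.lt_or_ge i 436000 with h6 | h6
            · skip
              exact allRangeF_sound _ _ (checkFactF_eq cert) 435000 1000 chkF_435000 i (by omega) (by omega)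
            · skip
              rcases Nat.lt_or_ge i 437000 with h7 | h7
              · skip
                exact allRangeF_sound _ _ (checkFactF_eq cert) 436000 1000 chkF_436000 i (by omega) (by omega)
              · skip
                exact allRangeF_sound _ _ (checkFactF_eq cert) 437000 1000 chkF_437000 i (by omega) (by omega)
        · skip
          rcases Nat.lt_or_ge i 441000 with h5 | h5
          · skip
            rcases Nat.lt_or_ge i 439000 with h6 | h6
            · skip
              exact allRangeF_sound _ _ (checkFactF_eq cert) 438000 1000 chkF_438000 i (by omega) (by omega)
            · skip
              rcases Nat.lt_or_ge i 440000 with h7 | h7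
              · skip
                exact allRangeF_sound _ _ (checkFactF_eq cert) 439000 1000 chkF_439000 i (by omega) (by omega)
              · skip
                exact allRangeF_sound _ _ (checkFactF_eq cert) 440000 1000 chkF_440000 i (by omega) (by omega)
          · skip
            rcases Nat.lt_or_ge i 443000 with h6 | h6
            · skip
              rcases Nat.lt_or_ge i 442000 with h7 | h7
              · skip
                exact allRangeF_sound _ _ (checkFactF_eq cert) 441000 1000 chkF_441000 i (by omega) (by omega)
              · skip
                exact allRangeF_sound _ _ (checkFactF_eq cert) 442000 1000 chkF_442000 i (by omega) (by omega)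
            · skip
              rcases Nat.lt_or_ge i 444000 with h7 | h7
              · skip
                exact allRangeF_sound _ _ (checkFactF_eq cert) 443000 1000 chkF_443000 i (by omega) (by omega)
              · skip
                exact allRangeF_sound _ _ (checkFactF_eq cert) 444000 1000 chkF_444000 i (by omega) (by omega)
  · skip
    rcases Nat.lt_or_ge i 470000 with h2 | h2
    · skip
      rcases Nat.lt_or_ge i 457000 with h3 | h3
      · skip
        rcases Nat.lt_or_ge i 451000 with h4 | h4
        · skip
          rcases Nat.lt_or_ge i 448000 with h5 | h5
          · skip
            rcases Nat.lt_or_ge i 446000 with h6 | h6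
            · skip
              exact allRangeF_sound _ _ (checkFactF_eq cert) 445000 1000 chkF_445000 i (by omega) (by omega)
            · skip
              rcases Nat.lt_or_ge i 447000 with h7 | h7
              · skip
                exact allRangeF_sound _ _ (checkFactF_eq cert) 446000 1000 chkF_446000 i (by omega) (by omega)
              · skip
                exact allRangeF_sound _ _ (checkFactF_eq cert) 447000 1000 chkF_447000 i (by omega) (by omega)
          · skip
            rcases Nat.lt_or_ge i 449000 with h6 | h6
            · skip
              exact allRangeF_sound _ _ (checkFactF_eq cert) 448000 1000 chkF_448000 i (by omega) (by omega)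
            · skip
              rcases Nat.lt_or_ge i 450000 with h7 | h7
              · skip
                exact allRangeF_sound _ _ (checkFactF_eq cert) 449000 1000 chkF_449000 i (by omega) (by omega)
              · skip
                exact allRangeF_sound _ _ (checkFactF_eq cert) 450000 1000 chkF_450000 i (by omega) (by omega)
        · skip
          rcases Nat.lt_or_ge i 454000 with h5 | h5
          · skip
            rcases Nat.lt_or_ge i 452000 with h6 | h6
            · skip
              exact allRangeF_sound _ _ (checkFactF_eq cert) 451000 1000 chkF_451000 i (by omega) (by omega)
            · skip
              rcases Nat.lt_or_ge i 453000 with h7 | h7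
              · skip
                exact allRangeF_sound _ _ (checkFactF_eq cert) 452000 1000 chkF_452000 i (by omega) (by omega)
              · skip
                exact allRangeF_sound _ _ (checkFactF_eq cert) 453000 1000 chkF_453000 i (by omega) (by omega)
          · skip
            rcases Nat.lt_or_ge i 455000 with h6 | h6
            · skip
              exact allRangeF_sound _ _ (checkFactF_eq cert) 454000 1000 chkF_454000 i (by omega) (by omega)
            · skip
              rcases Nat.lt_or_ge i 456000 with h7 | h7
              · skip
                exact allRangeF_sound _ _ (checkFactF_eq cert) 455000 1000 chkF_455000 i (by omega) (by omega)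
              · skip
                exact allRangeF_sound _ _ (checkFactF_eq cert) 456000 1000 chkF_456000 i (by omega) (by omega)
      · skip
        rcases Nat.lt_or_ge i 463000 with h4 | h4
        · skip
          rcases Nat.lt_or_ge i 460000 with h5 | h5
          · skip
            rcases Nat.lt_or_ge i 458000 with h6 | h6
            · skip
              exact allRangeF_sound _ _ (checkFactF_eq cert) 457000 1000 chkF_457000 i (by omega) (by omega)
            · skip
              rcases Nat.lt_or_ge i 459000 with h7 | h7
              · skip
                exact allRangeF_sound _ _ (checkFactF_eq cert) 458000 1000 chkF_458000 i (by omega) (by omega)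
              · skip
                exact allRangeF_sound _ _ (checkFactF_eq cert) 459000 1000 chkF_459000 i (by omega) (by omega)
          · skip
            rcases Nat.lt_or_ge i 461000 with h6 | h6
            · skip
              exact allRangeF_sound _ _ (checkFactF_eq cert) 460000 1000 chkF_460000 i (by omega) (by omega)
            · skip
              rcases Nat.lt_or_ge i 462000 with h7 | h7
              · skip
                exact allRangeF_sound _ _ (checkFactF_eq cert) 461000 1000 chkF_461000 i (by omega) (by omega)
              · skip
                exact allRangeF_sound _ _ (checkFactF_eq cert) 462000 1000 chkF_462000 i (by omega) (by omega)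
        · skip
          rcases Nat.lt_or_ge i 466000 with h5 | h5
          · skip
            rcases Nat.lt_or_ge i 464000 with h6 | h6
            · skip
              exact allRangeF_sound _ _ (checkFactF_eq cert) 463000 1000 chkF_463000 i (by omega) (by omega)
            · skip
              rcases Nat.lt_or_ge i 465000 with h7 | h7
              · skip
                exact allRangeF_sound _ _ (checkFactF_eq cert) 464000 1000 chkF_464000 i (by omega) (by omega)
              · skip
                exact allRangeF_sound _ _ (checkFactF_eq cert) 465000 1000 chkF_465000 i (by omega) (by omega)
          · skip
            rcases Nat.lt_or_ge i 468000 with h6 | h6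
            · skip
              rcases Nat.lt_or_ge i 467000 with h7 | h7
              · skip
                exact allRangeF_sound _ _ (checkFactF_eq cert) 466000 1000 chkF_466000 i (by omega) (by omega)
              · skip
                exact allRangeF_sound _ _ (checkFactF_eq cert) 467000 1000 chkF_467000 i (by omega) (by omega)
            · skip
              rcases Nat.lt_or_ge i 469000 with h7 | h7
              · skip
                exact allRangeF_sound _ _ (checkFactF_eq cert) 468000 1000 chkF_468000 i (by omega) (by omega)
              · skip
                exact allRangeF_sound _ _ (checkFactF_eq cert) 469000 1000 chkF_469000 i (by omega) (by omega)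
    · skip
      rcases Nat.lt_or_ge i 482000 with h3 | h3
      · skip
        rcases Nat.lt_or_ge i 476000 with h4 | h4
        · skip
          rcases Nat.lt_or_ge i 473000 with h5 | h5
          · skip
            rcases Nat.lt_or_ge i 471000 with h6 | h6
            · skip
              exact allRangeF_sound _ _ (checkFactF_eq cert) 470000 1000 chkF_470000 i (by omega) (by omega)
            · skip
              rcases Nat.lt_or_ge i 472000 with h7 | h7
              · skip
                exact allRangeF_sound _ _ (checkFactF_eq cert) 471000 1000 chkF_471000 i (by omega) (by omega)
              · skip
                exact allRangeF_sound _ _ (checkFactF_eq cert) 472000 1000 chkF_472000 i (by omega) (by omega)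
          · skip
            rcases Nat.lt_or_ge i 474000 with h6 | h6
            · skip
              exact allRangeF_sound _ _ (checkFactF_eq cert) 473000 1000 chkF_473000 i (by omega) (by omega)
            · skip
              rcases Nat.lt_or_ge i 475000 with h7 | h7
              · skip
                exact allRangeF_sound _ _ (checkFactF_eq cert) 474000 1000 chkF_474000 i (by omega) (by omega)
              · skip
                exact allRangeF_sound _ _ (checkFactF_eq cert) 475000 1000 chkF_475000 i (by omega) (by omega)
        · skip
          rcases Nat.lt_or_ge i 479000 with h5 | h5
          · skip
            rcases Nat.lt_or_ge i 477000 with h6 | h6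
            · skip
              exact allRangeF_sound _ _ (checkFactF_eq cert) 476000 1000 chkF_476000 i (by omega) (by omega)
            · skip
              rcases Nat.lt_or_ge i 478000 with h7 | h7
              · skip
                exact allRangeF_sound _ _ (checkFactF_eq cert) 477000 1000 chkF_477000 i (by omega) (by omega)
              · skip
                exact allRangeF_sound _ _ (checkFactF_eq cert) 478000 1000 chkF_478000 i (by omega) (by omega)
          · skip
            rcases Nat.lt_or_ge i 480000 with h6 | h6
            · skip
              exact allRangeF_sound _ _ (checkFactF_eq cert) 479000 1000 chkF_479000 i (by omega) (by omega)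
            · skip
              rcases Nat.lt_or_ge i 481000 with h7 | h7
              · skip
                exact allRangeF_sound _ _ (checkFactF_eq cert) 480000 1000 chkF_480000 i (by omega) (by omega)
              · skip
                exact allRangeF_sound _ _ (checkFactF_eq cert) 481000 1000 chkF_481000 i (by omega) (by omega)
      · skip
        rcases Nat.lt_or_ge i 488000 with h4 | h4
        · skip
          rcases Nat.lt_or_ge i 485000 with h5 | h5
          · skip
            rcases Nat.lt_or_ge i 483000 with h6 | h6
            · skip
              exact allRangeF_sound _ _ (checkFactF_eq cert) 482000 1000 chkF_482000 i (by omega) (by omega)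
            · skip
              rcases Nat.lt_or_ge i 484000 with h7 | h7
              · skip
                exact allRangeF_sound _ _ (checkFactF_eq cert) 483000 1000 chkF_483000 i (by omega) (by omega)
              · skip
                exact allRangeF_sound _ _ (checkFactF_eq cert) 484000 1000 chkF_484000 i (by omega) (by omega)
          · skip
            rcases Nat.lt_or_ge i 486000 with h6 | h6
            · skip
              exact allRangeF_sound _ _ (checkFactF_eq cert) 485000 1000 chkF_485000 i (by omega) (by omega)
            · skip
              rcases Nat.lt_or_ge i 487000 with h7 | h7
              · skip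
                exact allRangeF_sound _ _ (checkFactF_eq cert) 486000 1000 chkF_486000 i (by omega) (by omega)
              · skip
                exact allRangeF_sound _ _ (checkFactF_eq cert) 487000 1000 chkF_487000 i (by omega) (by omega)
        · skip
          rcases Nat.lt_or_ge i 491000 with h5 | h5
          · skip
            rcases Nat.lt_or_ge i 489000 with h6 | h6
            · skip
              exact allRangeF_sound _ _ (checkFactF_eq cert) 488000 1000 chkF_488000 i (by omega) (by omega)
            · skip
              rcases Nat.lt_or_ge i 490000 with h7 | h7
              · skip
                exact allRangeF_sound _ _ (checkFactF_eq cert) 489000 1000 chkF_489000 i (by omega) (by omega)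
              · skip
                exact allRangeF_sound _ _ (checkFactF_eq cert) 490000 1000 chkF_490000 i (by omega) (by omega)
          · skip
            rcases Nat.lt_or_ge i 493000 with h6 | h6
            · skip
              rcases Nat.lt_or_ge i 492000 with h7 | h7
              · skip
                exact allRangeF_sound _ _ (checkFactF_eq cert) 491000 1000 chkF_491000 i (by omega) (by omega)
              · skip
                exact allRangeF_sound _ _ (checkFactF_eq cert) 492000 1000 chkF_492000 i (by omega) (by omega)
            · skip
              rcases Nat.lt_or_ge i 494000 with h7 | h7
              · skip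
                exact allRangeF_sound _ _ (checkFactF_eq cert) 493000 1000 chkF_493000 i (by omega) (by omega)
              · skip
                exact allRangeF_sound _ _ (checkFactF_eq cert) 494000 1000 chkF_494000 i (by omega) (by omega)

end Cfsg.Agent.Lib.Helper28.Fi24Data
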