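import Cfsg.Agent.Lib.Helper28.Fi24Data
import Cfsg.Agent.Lib.Helper28.TCFastB

set_option autoImplicit false
set_option maxRecDepth 1000000
set_option linter.all false
set_option Elab.async false

namespace Cfsg.Agent.Lib.Helper28.Fi24Data

open Cfsg.Agent.Lib.Helper28B

theorem chkP_0 : allRangeF (checkPointF cert) (nat_lit 0) (nat_lit 25) = true := by decide +kernel
theorem chkP_25 : allRangeF (checkPointF cert) (nat_lit 25) (nat_lit 25) = true := by decide +kernel
theorem chkP_50 : allRangeF (checkPointF cert) (nat_lit 50) (nat_lit 25) = true := by decide +kernel
theorem chkP_75 : allRangeF (checkPointF cert) (nat_lit 75) (nat_lit 25) = true := by decide +kernel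
theorem chkP_100 : allRangeF (checkPointF cert) (nat_lit 100) (nat_lit 25) = true := by decide +kernel
theorem chkP_125 : allRangeF (checkPointF cert) (nat_lit 125) (nat_lit 25) = true := by decide +kernel
theorem chkP_150 : allRangeF (checkPointF cert) (nat_lit 150) (nat_lit 25) = true := by decide +kernel
theorem chkP_175 : allRangeF (checkPointF cert) (nat_lit 175) (nat_lit 25) = true := by decide +kernel
theorem chkP_200 : allRangeF (checkPointF cert) (nat_lit 200) (nat_lit 25) = true := by decide +kernel
theorem chkP_225 : allRangeF (checkPointF cert) (nat_lit 225) (nat_lit 25) = true := by decide +kernel
theorem chkP_250 : allRangeF (checkPointF cert) (nat_lit 250) (nat_lit 25) = true := by decide +kernel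
theorem chkP_275 : allRangeF (checkPointF cert) (nat_lit 275) (nat_lit 25) = true := by decide +kernel
theorem chkP_300 : allRangeF (checkPointF cert) (nat_lit 300) (nat_lit 25) = true := by decide +kernel
theorem chkP_325 : allRangeF (checkPointF cert) (nat_lit 325) (nat_lit 25) = true := by decide +kernel
theorem chkP_350 : allRangeF (checkPointF cert) (nat_lit 350) (nat_lit 25) = true := by decide +kernel
theorem chkP_375 : allRangeF (checkPointF cert) (nat_lit 375) (nat_lit 25) = true := by decide +kernel
theorem chkP_400 : allRangeF (checkPointF cert) (nat_lit 400) (nat_lit 25) = true := by decide +kernel
theorem chkP_425 : allRangeF (checkPointF cert) (nat_lit 425) (nat_lit 25) = true := by decide +kernel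
theorem chkP_450 : allRangeF (checkPointF cert) (nat_lit 450) (nat_lit 25) = true := by decide +kernel
theorem chkP_475 : allRangeF (checkPointF cert) (nat_lit 475) (nat_lit 25) = true := by decide +kernel
theorem chkP_500 : allRangeF (checkPointF cert) (nat_lit 500) (nat_lit 25) = true := by decide +kernel
theorem chkP_525 : allRangeF (checkPointF cert) (nat_lit 525) (nat_lit 25) = true := by decide +kernel
theorem chkP_550 : allRangeF (checkPointF cert) (nat_lit 550) (nat_lit 25) = true := by decide +kernel
theorem chkP_575 : allRangeF (checkPointF cert) (nat_lit 575) (nat_lit 25) = true := by decide +kernel
theorem chkP_600 : allRangeF (checkPointF cert) (nat_lit 600) (nat_lit 25) = true := by decide +kernel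
theorem chkP_625 : allRangeF (checkPointF cert) (nat_lit 625) (nat_lit 25) = true := by decide +kernel
theorem chkP_650 : allRangeF (checkPointF cert) (nat_lit 650) (nat_lit 25) = true := by decide +kernel
theorem chkP_675 : allRangeF (checkPointF cert) (nat_lit 675) (nat_lit 25) = true := by decide +kernel
theorem chkP_700 : allRangeF (checkPointF cert) (nat_lit 700) (nat_lit 25) = true := by decide +kernel
theorem chkP_725 : allRangeF (checkPointF cert) (nat_lit 725) (nat_lit 25) = true := by decide +kernel
theorem chkP_750 : allRangeF (checkPointF cert) (nat_lit 750) (nat_lit 25) = true := by decide +kernel
theorem chkP_775 : allRangeF (checkPointF cert) (nat_lit 775) (nat_lit 25) = true := by decide +kernel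
theorem chkP_800 : allRangeF (checkPointF cert) (nat_lit 800) (nat_lit 25) = true := by decide +kernel
theorem chkP_825 : allRangeF (checkPointF cert) (nat_lit 825) (nat_lit 25) = true := by decide +kernel
theorem chkP_850 : allRangeF (checkPointF cert) (nat_lit 850) (nat_lit 25) = true := by decide +kernel
theorem chkP_875 : allRangeF (checkPointF cert) (nat_lit 875) (nat_lit 25) = true := by decide +kernel
theorem chkP_900 : allRangeF (checkPointF cert) (nat_lit 900) (nat_lit 25) = true := by decide +kernel
theorem chkP_925 : allRangeF (checkPointF cert) (nat_lit 925) (nat_lit 25) = true := by decide +kernel
theorem chkP_950 : allRangeF (checkPointF cert) (nat_lit 950) (nat_lit 25) = true := by decide +kernel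
theorem chkP_975 : allRangeF (checkPointF cert) (nat_lit 975) (nat_lit 25) = true := by decide +kernel
theorem chkP_1000 : allRangeF (checkPointF cert) (nat_lit 1000) (nat_lit 25) = true := by decide +kernel
theorem chkP_1025 : allRangeF (checkPointF cert) (nat_lit 1025) (nat_lit 25) = true := by decide +kernel
theorem chkP_1050 : allRangeF (checkPointF cert) (nat_lit 1050) (nat_lit 25) = true := by decide +kernel
theorem chkP_1075 : allRangeF (checkPointF cert) (nat_lit 1075) (nat_lit 25) = true := by decide +kernel
theorem chkP_1100 : allRangeF (checkPointF cert) (nat_lit 1100) (nat_lit 25) = true := by decide +kernel
theorem chkP_1125 : allRangeF (checkPointF cert) (nat_lit 1125) (nat_lit 25) = true := by decide +kernel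
theorem chkP_1150 : allRangeF (checkPointF cert) (nat_lit 1150) (nat_lit 25) = true := by decide +kernel
theorem chkP_1175 : allRangeF (checkPointF cert) (nat_lit 1175) (nat_lit 25) = true := by decide +kernel
theorem chkP_1200 : allRangeF (checkPointF cert) (nat_lit 1200) (nat_lit 25) = true := by decide +kernel
theorem chkP_1225 : allRangeF (checkPointF cert) (nat_lit 1225) (nat_lit 25) = true := by decide +kernel
theorem chkP_1250 : allRangeF (checkPointF cert) (nat_lit 1250) (nat_lit 25) = true := by decide +kernel
theorem chkP_1275 : allRangeF (checkPointF cert) (nat_lit 1275) (nat_lit 25) = true := by decide +kernel
theorem chkP_1300 : allRangeF (checkPointF cert) (nat_lit 1300) (nat_lit 25) = true := by decide +kernel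
theorem chkP_1325 : allRangeF (checkPointF cert) (nat_lit 1325) (nat_lit 25) = true := by decide +kernel
theorem chkP_1350 : allRangeF (checkPointF cert) (nat_lit 1350) (nat_lit 25) = true := by decide +kernel
theorem chkP_1375 : allRangeF (checkPointF cert) (nat_lit 1375) (nat_lit 25) = true := by decide +kernel
theorem chkP_1400 : allRangeF (checkPointF cert) (nat_lit 1400) (nat_lit 25) = true := by decide +kernel
theorem chkP_1425 : allRangeF (checkPointF cert) (nat_lit 1425) (nat_lit 25) = true := by decide +kernel
theorem chkP_1450 : allRangeF (checkPointF cert) (nat_lit 1450) (nat_lit 25) = true := by decide +kernel
theorem chkP_1475 : allRangeF (checkPointF cert) (nat_lit 1475) (nat_lit 25) = true := by decide +kernel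
theorem chkP_1500 : allRangeF (checkPointF cert) (nat_lit 1500) (nat_lit 25) = true := by decide +kernel
theorem chkP_1525 : allRangeF (checkPointF cert) (nat_lit 1525) (nat_lit 25) = true := by decide +kernel
theorem chkP_1550 : allRangeF (checkPointF cert) (nat_lit 1550) (nat_lit 25) = true := by decide +kernel
theorem chkP_1575 : allRangeF (checkPointF cert) (nat_lit 1575) (nat_lit 25) = true := by decide +kernel
theorem chkP_1600 : allRangeF (checkPointF cert) (nat_lit 1600) (nat_lit 25) = true := by decide +kernel
theorem chkP_1625 : allRangeF (checkPointF cert) (nat_lit 1625) (nat_lit 25) = true := by decide +kernel
theorem chkP_1650 : allRangeF (checkPointF cert) (nat_lit 1650) (nat_lit 25) = true := by decide +kernel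
theorem chkP_1675 : allRangeF (checkPointF cert) (nat_lit 1675) (nat_lit 25) = true := by decide +kernel
theorem chkP_1700 : allRangeF (checkPointF cert) (nat_lit 1700) (nat_lit 25) = true := by decide +kernel
theorem chkP_1725 : allRangeF (checkPointF cert) (nat_lit 1725) (nat_lit 25) = true := by decide +kernel
theorem chkP_1750 : allRangeF (checkPointF cert) (nat_lit 1750) (nat_lit 25) = true := by decide +kernel
theorem chkP_1775 : allRangeF (checkPointF cert) (nat_lit 1775) (nat_lit 25) = true := by decide +kernel
theorem chkP_1800 : allRangeF (checkPointF cert) (nat_lit 1800) (nat_lit 25) = true := by decide +kernel
theorem chkP_1825 : allRangeF (checkPointF cert) (nat_lit 1825) (nat_lit 25) = true := by decide +kernel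
theorem chkP_1850 : allRangeF (checkPointF cert) (nat_lit 1850) (nat_lit 25) = true := by decide +kernel
theorem chkP_1875 : allRangeF (checkPointF cert) (nat_lit 1875) (nat_lit 25) = true := by decide +kernel
theorem chkP_1900 : allRangeF (checkPointF cert) (nat_lit 1900) (nat_lit 25) = true := by decide +kernel
theorem chkP_1925 : allRangeF (checkPointF cert) (nat_lit 1925) (nat_lit 25) = true := by decide +kernel
theorem chkP_1950 : allRangeF (checkPointF cert) (nat_lit 1950) (nat_lit 25) = true := by decide +kernel
theorem chkP_1975 : allRangeF (checkPointF cert) (nat_lit 1975) (nat_lit 25) = true := by decide +kernel
theorem chkP_2000 : allRangeF (checkPointF cert) (nat_lit 2000) (nat_lit 25) = true := by decide +kernel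
theorem chkP_2025 : allRangeF (checkPointF cert) (nat_lit 2025) (nat_lit 25) = true := by decide +kernel
theorem chkP_2050 : allRangeF (checkPointF cert) (nat_lit 2050) (nat_lit 25) = true := by decide +kernel
theorem chkP_2075 : allRangeF (checkPointF cert) (nat_lit 2075) (nat_lit 25) = true := by decide +kernel
theorem chkP_2100 : allRangeF (checkPointF cert) (nat_lit 2100) (nat_lit 25) = true := by decide +kernel
theorem chkP_2125 : allRangeF (checkPointF cert) (nat_lit 2125) (nat_lit 25) = true := by decide +kernel
theorem chkP_2150 : allRangeF (checkPointF cert) (nat_lit 2150) (nat_lit 25) = true := by decide +kernel
theorem chkP_2175 : allRangeF (checkPointF cert) (nat_lit 2175) (nat_lit 25) = true := by decide +kernel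
theorem chkP_2200 : allRangeF (checkPointF cert) (nat_lit 2200) (nat_lit 25) = true := by decide +kernel
theorem chkP_2225 : allRangeF (checkPointF cert) (nat_lit 2225) (nat_lit 25) = true := by decide +kernel
theorem chkP_2250 : allRangeF (checkPointF cert) (nat_lit 2250) (nat_lit 25) = true := by decide +kernel
theorem chkP_2275 : allRangeF (checkPointF cert) (nat_lit 2275) (nat_lit 25) = true := by decide +kernel
theorem chkP_2300 : allRangeF (checkPointF cert) (nat_lit 2300) (nat_lit 25) = true := by decide +kernel
theorem chkP_2325 : allRangeF (checkPointF cert) (nat_lit 2325) (nat_lit 25) = true := by decide +kernel
theorem chkP_2350 : allRangeF (checkPointF cert) (nat_lit 2350) (nat_lit 25) = true := by decide +kernel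
theorem chkP_2375 : allRangeF (checkPointF cert) (nat_lit 2375) (nat_lit 25) = true := by decide +kernel
theorem chkP_2400 : allRangeF (checkPointF cert) (nat_lit 2400) (nat_lit 25) = true := by decide +kernel
theorem chkP_2425 : allRangeF (checkPointF cert) (nat_lit 2425) (nat_lit 25) = true := by decide +kernel
theorem chkP_2450 : allRangeF (checkPointF cert) (nat_lit 2450) (nat_lit 25) = true := by decide +kernel
theorem chkP_2475 : allRangeF (checkPointF cert) (nat_lit 2475) (nat_lit 25) = true := by decide +kernel
theorem chkP_2500 : allRangeF (checkPointF cert) (nat_lit 2500) (nat_lit 25) = true := by decide +kernel
theorem chkP_2525 : allRangeF (checkPointF cert) (nat_lit 2525) (nat_lit 25) = true := by decide +kernel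
theorem chkP_2550 : allRangeF (checkPointF cert) (nat_lit 2550) (nat_lit 25) = true := by decide +kernel
theorem chkP_2575 : allRangeF (checkPointF cert) (nat_lit 2575) (nat_lit 25) = true := by decide +kernel
theorem chkP_2600 : allRangeF (checkPointF cert) (nat_lit 2600) (nat_lit 25) = true := by decide +kernel
theorem chkP_2625 : allRangeF (checkPointF cert) (nat_lit 2625) (nat_lit 25) = true := by decide +kernel
theorem chkP_2650 : allRangeF (checkPointF cert) (nat_lit 2650) (nat_lit 25) = true := by decide +kernel
theorem chkP_2675 : allRangeF (checkPointF cert) (nat_lit 2675) (nat_lit 25) = true := by decide +kernel
theorem chkP_2700 : allRangeF (checkPointF cert) (nat_lit 2700) (nat_lit 25) = true := by decide +kernel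
theorem chkP_2725 : allRangeF (checkPointF cert) (nat_lit 2725) (nat_lit 25) = true := by decide +kernel
theorem chkP_2750 : allRangeF (checkPointF cert) (nat_lit 2750) (nat_lit 25) = true := by decide +kernel
theorem chkP_2775 : allRangeF (checkPointF cert) (nat_lit 2775) (nat_lit 25) = true := by decide +kernel
theorem chkP_2800 : allRangeF (checkPointF cert) (nat_lit 2800) (nat_lit 25) = true := by decide +kernel
theorem chkP_2825 : allRangeF (checkPointF cert) (nat_lit 2825) (nat_lit 25) = true := by decide +kernel
theorem chkP_2850 : allRangeF (checkPointF cert) (nat_lit 2850) (nat_lit 25) = true := by decide +kernel
theorem chkP_2875 : allRangeF (checkPointF cert) (nat_lit 2875) (nat_lit 25) = true := by decide +kernel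
theorem chkP_2900 : allRangeF (checkPointF cert) (nat_lit 2900) (nat_lit 25) = true := by decide +kernel
theorem chkP_2925 : allRangeF (checkPointF cert) (nat_lit 2925) (nat_lit 25) = true := by decide +kernel
theorem chkP_2950 : allRangeF (checkPointF cert) (nat_lit 2950) (nat_lit 25) = true := by decide +kernel
theorem chkP_2975 : allRangeF (checkPointF cert) (nat_lit 2975) (nat_lit 25) = true := by decide +kernel
theorem chkP_3000 : allRangeF (checkPointF cert) (nat_lit 3000) (nat_lit 25) = true := by decide +kernel
theorem chkP_3025 : allRangeF (checkPointF cert) (nat_lit 3025) (nat_lit 25) = true := by decide +kernel
theorem chkP_3050 : allRangeF (checkPointF cert) (nat_lit 3050) (nat_lit 25) = true := by decide +kernel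
theorem chkP_3075 : allRangeF (checkPointF cert) (nat_lit 3075) (nat_lit 25) = true := by decide +kernel
theorem chkP_3100 : allRangeF (checkPointF cert) (nat_lit 3100) (nat_lit 25) = true := by decide +kernel
theorem chkP_3125 : allRangeF (checkPointF cert) (nat_lit 3125) (nat_lit 25) = true := by decide +kernel
theorem chkP_3150 : allRangeF (checkPointF cert) (nat_lit 3150) (nat_lit 25) = true := by decide +kernel
theorem chkP_3175 : allRangeF (checkPointF cert) (nat_lit 3175) (nat_lit 25) = true := by decide +kernel
theorem chkP_3200 : allRangeF (checkPointF cert) (nat_lit 3200) (nat_lit 25) = true := by decide +kernel
theorem chkP_3225 : allRangeF (checkPointF cert) (nat_lit 3225) (nat_lit 25) = true := by decide +kernel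
theorem chkP_3250 : allRangeF (checkPointF cert) (nat_lit 3250) (nat_lit 25) = true := by decide +kernel
theorem chkP_3275 : allRangeF (checkPointF cert) (nat_lit 3275) (nat_lit 25) = true := by decide +kernel
theorem chkP_3300 : allRangeF (checkPointF cert) (nat_lit 3300) (nat_lit 25) = true := by decide +kernel
theorem chkP_3325 : allRangeF (checkPointF cert) (nat_lit 3325) (nat_lit 25) = true := by decide +kernel
theorem chkP_3350 : allRangeF (checkPointF cert) (nat_lit 3350) (nat_lit 25) = true := by decide +kernel
theorem chkP_3375 : allRangeF (checkPointF cert) (nat_lit 3375) (nat_lit 25) = true := by decide +kernel
theorem chkP_3400 : allRangeF (checkPointF cert) (nat_lit 3400) (nat_lit 25) = true := by decide +kernel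
theorem chkP_3425 : allRangeF (checkPointF cert) (nat_lit 3425) (nat_lit 25) = true := by decide +kernel
theorem chkP_3450 : allRangeF (checkPointF cert) (nat_lit 3450) (nat_lit 25) = true := by decide +kernel
theorem chkP_3475 : allRangeF (checkPointF cert) (nat_lit 3475) (nat_lit 25) = true := by decide +kernel
theorem chkP_3500 : allRangeF (checkPointF cert) (nat_lit 3500) (nat_lit 25) = true := by decide +kernel
theorem chkP_3525 : allRangeF (checkPointF cert) (nat_lit 3525) (nat_lit 25) = true := by decide +kernel
theorem chkP_3550 : allRangeF (checkPointF cert) (nat_lit 3550) (nat_lit 25) = true := by decide +kernel
theorem chkP_3575 : allRangeF (checkPointF cert) (nat_lit 3575) (nat_lit 25) = true := by decide +kernel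
theorem chkP_3600 : allRangeF (checkPointF cert) (nat_lit 3600) (nat_lit 25) = true := by decide +kernel
theorem chkP_3625 : allRangeF (checkPointF cert) (nat_lit 3625) (nat_lit 25) = true := by decide +kernel
theorem chkP_3650 : allRangeF (checkPointF cert) (nat_lit 3650) (nat_lit 25) = true := by decide +kernel
theorem chkP_3675 : allRangeF (checkPointF cert) (nat_lit 3675) (nat_lit 25) = true := by decide +kernel
theorem chkP_3700 : allRangeF (checkPointF cert) (nat_lit 3700) (nat_lit 25) = true := by decide +kernel
theorem chkP_3725 : allRangeF (checkPointF cert) (nat_lit 3725) (nat_lit 25) = true := by decide +kernel
theorem chkP_3750 : allRangeF (checkPointF cert) (nat_lit 3750) (nat_lit 25) = true := by decide +kernel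
theorem chkP_3775 : allRangeF (checkPointF cert) (nat_lit 3775) (nat_lit 25) = true := by decide +kernel
theorem chkP_3800 : allRangeF (checkPointF cert) (nat_lit 3800) (nat_lit 25) = true := by decide +kernel
theorem chkP_3825 : allRangeF (checkPointF cert) (nat_lit 3825) (nat_lit 25) = true := by decide +kernel
theorem chkP_3850 : allRangeF (checkPointF cert) (nat_lit 3850) (nat_lit 25) = true := by decide +kernel
theorem chkP_3875 : allRangeF (checkPointF cert) (nat_lit 3875) (nat_lit 25) = true := by decide +kernel
theorem chkP_3900 : allRangeF (checkPointF cert) (nat_lit 3900) (nat_lit 25) = true := by decide +kernel
theorem chkP_3925 : allRangeF (checkPointF cert) (nat_lit 3925) (nat_lit 25) = true := by decide +kernel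
theorem chkP_3950 : allRangeF (checkPointF cert) (nat_lit 3950) (nat_lit 25) = true := by decide +kernel
theorem chkP_3975 : allRangeF (checkPointF cert) (nat_lit 3975) (nat_lit 25) = true := by decide +kernel
theorem chkP_4000 : allRangeF (checkPointF cert) (nat_lit 4000) (nat_lit 25) = true := by decide +kernel
theorem chkP_4025 : allRangeF (checkPointF cert) (nat_lit 4025) (nat_lit 25) = true := by decide +kernel
theorem chkP_4050 : allRangeF (checkPointF cert) (nat_lit 4050) (nat_lit 25) = true := by decide +kernel
theorem chkP_4075 : allRangeF (checkPointF cert) (nat_lit 4075) (nat_lit 25) = true := by decide +kernel
theorem chkP_4100 : allRangeF (checkPointF cert) (nat_lit 4100) (nat_lit 25) = true := by decide +kernel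
theorem chkP_4125 : allRangeF (checkPointF cert) (nat_lit 4125) (nat_lit 25) = true := by decide +kernel
theorem chkP_4150 : allRangeF (checkPointF cert) (nat_lit 4150) (nat_lit 25) = true := by decide +kernel
theorem chkP_4175 : allRangeF (checkPointF cert) (nat_lit 4175) (nat_lit 25) = true := by decide +kernel
theorem chkP_4200 : allRangeF (checkPointF cert) (nat_lit 4200) (nat_lit 25) = true := by decide +kernel
theorem chkP_4225 : allRangeF (checkPointF cert) (nat_lit 4225) (nat_lit 25) = true := by decide +kernel
theorem chkP_4250 : allRangeF (checkPointF cert) (nat_lit 4250) (nat_lit 25) = true := by decide +kernel
theorem chkP_4275 : allRangeF (checkPointF cert) (nat_lit 4275) (nat_lit 25) = true := by decide +kernel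
theorem chkP_4300 : allRangeF (checkPointF cert) (nat_lit 4300) (nat_lit 25) = true := by decide +kernel
theorem chkP_4325 : allRangeF (checkPointF cert) (nat_lit 4325) (nat_lit 25) = true := by decide +kernel
theorem chkP_4350 : allRangeF (checkPointF cert) (nat_lit 4350) (nat_lit 25) = true := by decide +kernel
theorem chkP_4375 : allRangeF (checkPointF cert) (nat_lit 4375) (nat_lit 25) = true := by decide +kernel
theorem chkP_4400 : allRangeF (checkPointF cert) (nat_lit 4400) (nat_lit 25) = true := by decide +kernel
theorem chkP_4425 : allRangeF (checkPointF cert) (nat_lit 4425) (nat_lit 25) = true := by decide +kernel
theorem chkP_4450 : allRangeF (checkPointF cert) (nat_lit 4450) (nat_lit 25) = true := by decide +kernel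
theorem chkP_4475 : allRangeF (checkPointF cert) (nat_lit 4475) (nat_lit 25) = true := by decide +kernel
theorem chkP_4500 : allRangeF (checkPointF cert) (nat_lit 4500) (nat_lit 25) = true := by decide +kernel
theorem chkP_4525 : allRangeF (checkPointF cert) (nat_lit 4525) (nat_lit 25) = true := by decide +kernel
theorem chkP_4550 : allRangeF (checkPointF cert) (nat_lit 4550) (nat_lit 25) = true := by decide +kernel
theorem chkP_4575 : allRangeF (checkPointF cert) (nat_lit 4575) (nat_lit 25) = true := by decide +kernel
theorem chkP_4600 : allRangeF (checkPointF cert) (nat_lit 4600) (nat_lit 25) = true := by decide +kernel
theorem chkP_4625 : allRangeF (checkPointF cert) (nat_lit 4625) (nat_lit 25) = true := by decide +kernel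
theorem chkP_4650 : allRangeF (checkPointF cert) (nat_lit 4650) (nat_lit 25) = true := by decide +kernel
theorem chkP_4675 : allRangeF (checkPointF cert) (nat_lit 4675) (nat_lit 25) = true := by decide +kernel
theorem chkP_4700 : allRangeF (checkPointF cert) (nat_lit 4700) (nat_lit 25) = true := by decide +kernel
theorem chkP_4725 : allRangeF (checkPointF cert) (nat_lit 4725) (nat_lit 25) = true := by decide +kernel
theorem chkP_4750 : allRangeF (checkPointF cert) (nat_lit 4750) (nat_lit 25) = true := by decide +kernel
theorem chkP_4775 : allRangeF (checkPointF cert) (nat_lit 4775) (nat_lit 25) = true := by decide +kernel
theorem chkP_4800 : allRangeF (checkPointF cert) (nat_lit 4800) (nat_lit 25) = true := by decide +kernel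
theorem chkP_4825 : allRangeF (checkPointF cert) (nat_lit 4825) (nat_lit 25) = true := by decide +kernel
theorem chkP_4850 : allRangeF (checkPointF cert) (nat_lit 4850) (nat_lit 25) = true := by decide +kernel
theorem chkP_4875 : allRangeF (checkPointF cert) (nat_lit 4875) (nat_lit 25) = true := by decide +kernel
theorem chkP_4900 : allRangeF (checkPointF cert) (nat_lit 4900) (nat_lit 25) = true := by decide +kernel
theorem chkP_4925 : allRangeF (checkPointF cert) (nat_lit 4925) (nat_lit 25) = true := by decide +kernel
theorem chkP_4950 : allRangeF (checkPointF cert) (nat_lit 4950) (nat_lit 25) = true := by decide +kernel
theorem chkP_4975 : allRangeF (checkPointF cert) (nat_lit 4975) (nat_lit 25) = true := by decide +kernel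
theorem chkP_5000 : allRangeF (checkPointF cert) (nat_lit 5000) (nat_lit 25) = true := by decide +kernel
theorem chkP_5025 : allRangeF (checkPointF cert) (nat_lit 5025) (nat_lit 25) = true := by decide +kernel
theorem chkP_5050 : allRangeF (checkPointF cert) (nat_lit 5050) (nat_lit 25) = true := by decide +kernel
theorem chkP_5075 : allRangeF (checkPointF cert) (nat_lit 5075) (nat_lit 25) = true := by decide +kernel
theorem chkP_5100 : allRangeF (checkPointF cert) (nat_lit 5100) (nat_lit 25) = true := by decide +kernel
theorem chkP_5125 : allRangeF (checkPointF cert) (nat_lit 5125) (nat_lit 25) = true := by decide +kernel
theorem chkP_5150 : allRangeF (checkPointF cert) (nat_lit 5150) (nat_lit 25) = true := by decide +kernel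
theorem chkP_5175 : allRangeF (checkPointF cert) (nat_lit 5175) (nat_lit 25) = true := by decide +kernel
theorem chkP_5200 : allRangeF (checkPointF cert) (nat_lit 5200) (nat_lit 25) = true := by decide +kernel
theorem chkP_5225 : allRangeF (checkPointF cert) (nat_lit 5225) (nat_lit 25) = true := by decide +kernel
theorem chkP_5250 : allRangeF (checkPointF cert) (nat_lit 5250) (nat_lit 25) = true := by decide +kernel
theorem chkP_5275 : allRangeF (checkPointF cert) (nat_lit 5275) (nat_lit 25) = true := by decide +kernel
theorem chkP_5300 : allRangeF (checkPointF cert) (nat_lit 5300) (nat_lit 25) = true := by decide +kernel
theorem chkP_5325 : allRangeF (checkPointF cert) (nat_lit 5325) (nat_lit 25) = true := by decide +kernel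
theorem chkP_5350 : allRangeF (checkPointF cert) (nat_lit 5350) (nat_lit 25) = true := by decide +kernel
theorem chkP_5375 : allRangeF (checkPointF cert) (nat_lit 5375) (nat_lit 25) = true := by decide +kernel
theorem chkP_5400 : allRangeF (checkPointF cert) (nat_lit 5400) (nat_lit 25) = true := by decide +kernel
theorem chkP_5425 : allRangeF (checkPointF cert) (nat_lit 5425) (nat_lit 25) = true := by decide +kernel
theorem chkP_5450 : allRangeF (checkPointF cert) (nat_lit 5450) (nat_lit 25) = true := by decide +kernel
theorem chkP_5475 : allRangeF (checkPointF cert) (nat_lit 5475) (nat_lit 25) = true := by decide +kernel
theorem chkP_5500 : allRangeF (checkPointF cert) (nat_lit 5500) (nat_lit 25) = true := by decide +kernel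
theorem chkP_5525 : allRangeF (checkPointF cert) (nat_lit 5525) (nat_lit 25) = true := by decide +kernel
theorem chkP_5550 : allRangeF (checkPointF cert) (nat_lit 5550) (nat_lit 25) = true := by decide +kernel
theorem chkP_5575 : allRangeF (checkPointF cert) (nat_lit 5575) (nat_lit 25) = true := by decide +kernel
theorem chkP_5600 : allRangeF (checkPointF cert) (nat_lit 5600) (nat_lit 25) = true := by decide +kernel
theorem chkP_5625 : allRangeF (checkPointF cert) (nat_lit 5625) (nat_lit 25) = true := by decide +kernel
theorem chkP_5650 : allRangeF (checkPointF cert) (nat_lit 5650) (nat_lit 25) = true := by decide +kernel
theorem chkP_5675 : allRangeF (checkPointF cert) (nat_lit 5675) (nat_lit 25) = true := by decide +kernel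
theorem chkP_5700 : allRangeF (checkPointF cert) (nat_lit 5700) (nat_lit 25) = true := by decide +kernel
theorem chkP_5725 : allRangeF (checkPointF cert) (nat_lit 5725) (nat_lit 25) = true := by decide +kernel
theorem chkP_5750 : allRangeF (checkPointF cert) (nat_lit 5750) (nat_lit 25) = true := by decide +kernel
theorem chkP_5775 : allRangeF (checkPointF cert) (nat_lit 5775) (nat_lit 25) = true := by decide +kernel
theorem chkP_5800 : allRangeF (checkPointF cert) (nat_lit 5800) (nat_lit 25) = true := by decide +kernel
theorem chkP_5825 : allRangeF (checkPointF cert) (nat_lit 5825) (nat_lit 25) = true := by decide +kernel
theorem chkP_5850 : allRangeF (checkPointF cert) (nat_lit 5850) (nat_lit 25) = true := by decide +kernel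
theorem chkP_5875 : allRangeF (checkPointF cert) (nat_lit 5875) (nat_lit 25) = true := by decide +kernel
theorem chkP_5900 : allRangeF (checkPointF cert) (nat_lit 5900) (nat_lit 25) = true := by decide +kernel
theorem chkP_5925 : allRangeF (checkPointF cert) (nat_lit 5925) (nat_lit 25) = true := by decide +kernel
theorem chkP_5950 : allRangeF (checkPointF cert) (nat_lit 5950) (nat_lit 25) = true := by decide +kernel
theorem chkP_5975 : allRangeF (checkPointF cert) (nat_lit 5975) (nat_lit 25) = true := by decide +kernel
theorem chkP_6000 : allRangeF (checkPointF cert) (nat_lit 6000) (nat_lit 25) = true := by decide +kernel
theorem chkP_6025 : allRangeF (checkPointF cert) (nat_lit 6025) (nat_lit 25) = true := by decide +kernel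
theorem chkP_6050 : allRangeF (checkPointF cert) (nat_lit 6050) (nat_lit 25) = true := by decide +kernel
theorem chkP_6075 : allRangeF (checkPointF cert) (nat_lit 6075) (nat_lit 25) = true := by decide +kernel
theorem chkP_6100 : allRangeF (checkPointF cert) (nat_lit 6100) (nat_lit 25) = true := by decide +kernel
theorem chkP_6125 : allRangeF (checkPointF cert) (nat_lit 6125) (nat_lit 25) = true := by decide +kernel
theorem chkP_6150 : allRangeF (checkPointF cert) (nat_lit 6150) (nat_lit 25) = true := by decide +kernel
theorem chkP_6175 : allRangeF (checkPointF cert) (nat_lit 6175) (nat_lit 25) = true := by decide +kernel
theorem chkP_6200 : allRangeF (checkPointF cert) (nat_lit 6200) (nat_lit 25) = true := by decide +kernel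
theorem chkP_6225 : allRangeF (checkPointF cert) (nat_lit 6225) (nat_lit 25) = true := by decide +kernel
theorem chkP_6250 : allRangeF (checkPointF cert) (nat_lit 6250) (nat_lit 25) = true := by decide +kernel
theorem chkP_6275 : allRangeF (checkPointF cert) (nat_lit 6275) (nat_lit 25) = true := by decide +kernel
theorem chkP_6300 : allRangeF (checkPointF cert) (nat_lit 6300) (nat_lit 25) = true := by decide +kernel
theorem chkP_6325 : allRangeF (checkPointF cert) (nat_lit 6325) (nat_lit 25) = true := by decide +kernel
theorem chkP_6350 : allRangeF (checkPointF cert) (nat_lit 6350) (nat_lit 25) = true := by decide +kernel
theorem chkP_6375 : allRangeF (checkPointF cert) (nat_lit 6375) (nat_lit 25) = true := by decide +kernel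
theorem chkP_6400 : allRangeF (checkPointF cert) (nat_lit 6400) (nat_lit 25) = true := by decide +kernel
theorem chkP_6425 : allRangeF (checkPointF cert) (nat_lit 6425) (nat_lit 25) = true := by decide +kernel
theorem chkP_6450 : allRangeF (checkPointF cert) (nat_lit 6450) (nat_lit 25) = true := by decide +kernel
theorem chkP_6475 : allRangeF (checkPointF cert) (nat_lit 6475) (nat_lit 25) = true := by decide +kernel
theorem chkP_6500 : allRangeF (checkPointF cert) (nat_lit 6500) (nat_lit 25) = true := by decide +kernel
theorem chkP_6525 : allRangeF (checkPointF cert) (nat_lit 6525) (nat_lit 25) = true := by decide +kernel
theorem chkP_6550 : allRangeF (checkPointF cert) (nat_lit 6550) (nat_lit 25) = true := by decide +kernel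
theorem chkP_6575 : allRangeF (checkPointF cert) (nat_lit 6575) (nat_lit 25) = true := by decide +kernel
theorem chkP_6600 : allRangeF (checkPointF cert) (nat_lit 6600) (nat_lit 25) = true := by decide +kernel
theorem chkP_6625 : allRangeF (checkPointF cert) (nat_lit 6625) (nat_lit 25) = true := by decide +kernel
theorem chkP_6650 : allRangeF (checkPointF cert) (nat_lit 6650) (nat_lit 25) = true := by decide +kernel
theorem chkP_6675 : allRangeF (checkPointF cert) (nat_lit 6675) (nat_lit 25) = true := by decide +kernel
theorem chkP_6700 : allRangeF (checkPointF cert) (nat_lit 6700) (nat_lit 25) = true := by decide +kernel
theorem chkP_6725 : allRangeF (checkPointF cert) (nat_lit 6725) (nat_lit 25) = true := by decide +kernel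
theorem chkP_6750 : allRangeF (checkPointF cert) (nat_lit 6750) (nat_lit 25) = true := by decide +kernel
theorem chkP_6775 : allRangeF (checkPointF cert) (nat_lit 6775) (nat_lit 25) = true := by decide +kernel
theorem chkP_6800 : allRangeF (checkPointF cert) (nat_lit 6800) (nat_lit 25) = true := by decide +kernel
theorem chkP_6825 : allRangeF (checkPointF cert) (nat_lit 6825) (nat_lit 25) = true := by decide +kernel
theorem chkP_6850 : allRangeF (checkPointF cert) (nat_lit 6850) (nat_lit 25) = true := by decide +kernel
theorem chkP_6875 : allRangeF (checkPointF cert) (nat_lit 6875) (nat_lit 25) = true := by decide +kernel
theorem chkP_6900 : allRangeF (checkPointF cert) (nat_lit 6900) (nat_lit 25) = true := by decide +kernel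
theorem chkP_6925 : allRangeF (checkPointF cert) (nat_lit 6925) (nat_lit 25) = true := by decide +kernel
theorem chkP_6950 : allRangeF (checkPointF cert) (nat_lit 6950) (nat_lit 25) = true := by decide +kernel
theorem chkP_6975 : allRangeF (checkPointF cert) (nat_lit 6975) (nat_lit 25) = true := by decide +kernel
theorem chkP_7000 : allRangeF (checkPointF cert) (nat_lit 7000) (nat_lit 25) = true := by decide +kernel
theorem chkP_7025 : allRangeF (checkPointF cert) (nat_lit 7025) (nat_lit 25) = true := by decide +kernel
theorem chkP_7050 : allRangeF (checkPointF cert) (nat_lit 7050) (nat_lit 25) = true := by decide +kernel
theorem chkP_7075 : allRangeF (checkPointF cert) (nat_lit 7075) (nat_lit 25) = true := by decide +kernel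
theorem chkP_7100 : allRangeF (checkPointF cert) (nat_lit 7100) (nat_lit 25) = true := by decide +kernel
theorem chkP_7125 : allRangeF (checkPointF cert) (nat_lit 7125) (nat_lit 25) = true := by decide +kernel
theorem chkP_7150 : allRangeF (checkPointF cert) (nat_lit 7150) (nat_lit 25) = true := by decide +kernel
theorem chkP_7175 : allRangeF (checkPointF cert) (nat_lit 7175) (nat_lit 25) = true := by decide +kernel
theorem chkP_7200 : allRangeF (checkPointF cert) (nat_lit 7200) (nat_lit 25) = true := by decide +kernel
theorem chkP_7225 : allRangeF (checkPointF cert) (nat_lit 7225) (nat_lit 25) = true := by decide +kernel
theorem chkP_7250 : allRangeF (checkPointF cert) (nat_lit 7250) (nat_lit 25) = true := by decide +kernel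
theorem chkP_7275 : allRangeF (checkPointF cert) (nat_lit 7275) (nat_lit 25) = true := by decide +kernel
theorem chkP_7300 : allRangeF (checkPointF cert) (nat_lit 7300) (nat_lit 25) = true := by decide +kernel
theorem chkP_7325 : allRangeF (checkPointF cert) (nat_lit 7325) (nat_lit 25) = true := by decide +kernel
theorem chkP_7350 : allRangeF (checkPointF cert) (nat_lit 7350) (nat_lit 25) = true := by decide +kernel
theorem chkP_7375 : allRangeF (checkPointF cert) (nat_lit 7375) (nat_lit 25) = true := by decide +kernel
theorem chkP_7400 : allRangeF (checkPointF cert) (nat_lit 7400) (nat_lit 25) = true := by decide +kernel
theorem chkP_7425 : allRangeF (checkPointF cert) (nat_lit 7425) (nat_lit 25) = true := by decide +kernel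
theorem chkP_7450 : allRangeF (checkPointF cert) (nat_lit 7450) (nat_lit 25) = true := by decide +kernel
theorem chkP_7475 : allRangeF (checkPointF cert) (nat_lit 7475) (nat_lit 25) = true := by decide +kernel
theorem chkP_7500 : allRangeF (checkPointF cert) (nat_lit 7500) (nat_lit 25) = true := by decide +kernel
theorem chkP_7525 : allRangeF (checkPointF cert) (nat_lit 7525) (nat_lit 25) = true := by decide +kernel
theorem chkP_7550 : allRangeF (checkPointF cert) (nat_lit 7550) (nat_lit 25) = true := by decide +kernel
theorem chkP_7575 : allRangeF (checkPointF cert) (nat_lit 7575) (nat_lit 25) = true := by decide +kernel
theorem chkP_7600 : allRangeF (checkPointF cert) (nat_lit 7600) (nat_lit 25) = true := by decide +kernel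
theorem chkP_7625 : allRangeF (checkPointF cert) (nat_lit 7625) (nat_lit 25) = true := by decide +kernel
theorem chkP_7650 : allRangeF (checkPointF cert) (nat_lit 7650) (nat_lit 25) = true := by decide +kernel

theorem ptsRange_0 : ∀ i, 0 ≤ i → i < 7675 → checkPoint cert i = true := by
  intro i hlo hhi
  rcases Nat.lt_or_ge i 3825 with h1 | h1
  · skip
    rcases Nat.lt_or_ge i 1900 with h2 | h2
    · skip
      rcases Nat.lt_or_ge i 950 with h3 | h3
      · skip
        rcases Nat.lt_or_ge i 475 with h4 | h4
        · skip
          rcases Nat.lt_or_ge i 225 with h5 | h5
          · skip
            rcases Nat.lt_or_ge i 100 with h6 | h6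
            · skip
              rcases Nat.lt_or_ge i 50 with h7 | h7
              · skip
                rcases Nat.lt_or_ge i 25 with h8 | h8
                · skip
                  exact allRangeF_sound _ _ (checkPointF_eq cert) 0 25 chkP_0 i (by omega) (by omega)
                · skip
                  exact allRangeF_sound _ _ (checkPointF_eq cert) 25 25 chkP_25 i (by omega) (by omega)
              · skip
                rcases Nat.lt_or_ge i 75 with h8 | h8
                · skip
                  exact allRangeF_sound _ _ (checkPointF_eq cert) 50 25 chkP_50 i (by omega) (by omega)
                · skip
                  exact allRangeF_sound _ _ (checkPointF_eq cert) 75 25 chkP_75 i (by omega) (by omega)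
            · skip
              rcases Nat.lt_or_ge i 150 with h7 | h7
              · skip
                rcases Nat.lt_or_ge i 125 with h8 | h8
                · skip
                  exact allRangeF_sound _ _ (checkPointF_eq cert) 100 25 chkP_100 i (by omega) (by omega)
                · skip
                  exact allRangeF_sound _ _ (checkPointF_eq cert) 125 25 chkP_125 i (by omega) (by omega)
              · skip
                rcases Nat.lt_or_ge i 175 with h8 | h8
                · skip
                  exact allRangeF_sound _ _ (checkPointF_eq cert) 150 25 chkP_150 i (by omega) (by omega)
                · skip
                  rcases Nat.lt_or_ge i 200 with h9 | h9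
                  · skip
                    exact allRangeF_sound _ _ (checkPointF_eq cert) 175 25 chkP_175 i (by omega) (by omega)
                  · skip
                    exact allRangeF_sound _ _ (checkPointF_eq cert) 200 25 chkP_200 i (by omega) (by omega)
          · skip
            rcases Nat.lt_or_ge i 350 with h6 | h6
            · skip
              rcases Nat.lt_or_ge i 275 with h7 | h7
              · skip
                rcases Nat.lt_or_ge i 250 with h8 | h8
                · skip
                  exact allRangeF_sound _ _ (checkPointF_eq cert) 225 25 chkP_225 i (by omega) (by omega)
                · skip
                  exact allRangeF_sound _ _ (checkPointF_eq cert) 250 25 chkP_250 i (by omega) (by omega)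
              · skip
                rcases Nat.lt_or_ge i 300 with h8 | h8
                · skip
                  exact allRangeF_sound _ _ (checkPointF_eq cert) 275 25 chkP_275 i (by omega) (by omega)
                · skip
                  rcases Nat.lt_or_ge i 325 with h9 | h9
                  · skip
                    exact allRangeF_sound _ _ (checkPointF_eq cert) 300 25 chkP_300 i (by omega) (by omega)
                  · skip
                    exact allRangeF_sound _ _ (checkPointF_eq cert) 325 25 chkP_325 i (by omega) (by omega)
            · skip
              rcases Nat.lt_or_ge i 400 with h7 | h7
              · skip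
                rcases Nat.lt_or_ge i 375 with h8 | h8
                · skip
                  exact allRangeF_sound _ _ (checkPointF_eq cert) 350 25 chkP_350 i (by omega) (by omega)
                · skip
                  exact allRangeF_sound _ _ (checkPointF_eq cert) 375 25 chkP_375 i (by omega) (by omega)
              · skip
                rcases Nat.lt_or_ge i 425 with h8 | h8
                · skip
                  exact allRangeF_sound _ _ (checkPointF_eq cert) 400 25 chkP_400 i (by omega) (by omega)
                · skip
                  rcases Nat.lt_or_ge i 450 with h9 | h9
                  · skip
                    exact allRangeF_sound _ _ (checkPointF_eq cert) 425 25 chkP_425 i (by omega) (by omega)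
                  · skip
                    exact allRangeF_sound _ _ (checkPointF_eq cert) 450 25 chkP_450 i (by omega) (by omega)
        · skip
          rcases Nat.lt_or_ge i 700 with h5 | h5
          · skip
            rcases Nat.lt_or_ge i 575 with h6 | h6
            · skip
              rcases Nat.lt_or_ge i 525 with h7 | h7
              · skip
                rcases Nat.lt_or_ge i 500 with h8 | h8
                · skip
                  exact allRangeF_sound _ _ (checkPointF_eq cert) 475 25 chkP_475 i (by omega) (by omega)
                · skip
                  exact allRangeF_sound _ _ (checkPointF_eq cert) 500 25 chkP_500 i (by omega) (by omega)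
              · skip
                rcases Nat.lt_or_ge i 550 with h8 | h8
                · skip
                  exact allRangeF_sound _ _ (checkPointF_eq cert) 525 25 chkP_525 i (by omega) (by omega)
                · skip
                  exact allRangeF_sound _ _ (checkPointF_eq cert) 550 25 chkP_550 i (by omega) (by omega)
            · skip
              rcases Nat.lt_or_ge i 625 with h7 | h7
              · skip
                rcases Nat.lt_or_ge i 600 with h8 | h8
                · skip
                  exact allRangeF_sound _ _ (checkPointF_eq cert) 575 25 chkP_575 i (by omega) (by omega)
                · skip
                  exact allRangeF_sound _ _ (checkPointF_eq cert) 600 25 chkP_600 i (by omega) (by omega)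
              · skip
                rcases Nat.lt_or_ge i 650 with h8 | h8
                · skip
                  exact allRangeF_sound _ _ (checkPointF_eq cert) 625 25 chkP_625 i (by omega) (by omega)
                · skip
                  rcases Nat.lt_or_ge i 675 with h9 | h9
                  · skip
                    exact allRangeF_sound _ _ (checkPointF_eq cert) 650 25 chkP_650 i (by omega) (by omega)
                  · skip
                    exact allRangeF_sound _ _ (checkPointF_eq cert) 675 25 chkP_675 i (by omega) (by omega)
          · skip
            rcases Nat.lt_or_ge i 825 with h6 | h6
            · skip
              rcases Nat.lt_or_ge i 750 with h7 | h7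
              · skip
                rcases Nat.lt_or_ge i 725 with h8 | h8
                · skip
                  exact allRangeF_sound _ _ (checkPointF_eq cert) 700 25 chkP_700 i (by omega) (by omega)
                · skip
                  exact allRangeF_sound _ _ (checkPointF_eq cert) 725 25 chkP_725 i (by omega) (by omega)
              · skip
                rcases Nat.lt_or_ge i 775 with h8 | h8
                · skip
                  exact allRangeF_sound _ _ (checkPointF_eq cert) 750 25 chkP_750 i (by omega) (by omega)
                · skip
                  rcases Nat.lt_or_ge i 800 with h9 | h9
                  · skip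
                    exact allRangeF_sound _ _ (checkPointF_eq cert) 775 25 chkP_775 i (by omega) (by omega)
                  · skip
                    exact allRangeF_sound _ _ (checkPointF_eq cert) 800 25 chkP_800 i (by omega) (by omega)
            · skip
              rcases Nat.lt_or_ge i 875 with h7 | h7
              · skip
                rcases Nat.lt_or_ge i 850 with h8 | h8
                · skip
                  exact allRangeF_sound _ _ (checkPointF_eq cert) 825 25 chkP_825 i (by omega) (by omega)
                · skip
                  exact allRangeF_sound _ _ (checkPointF_eq cert) 850 25 chkP_850 i (by omega) (by omega)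
              · skip
                rcases Nat.lt_or_ge i 900 with h8 | h8
                · skip
                  exact allRangeF_sound _ _ (checkPointF_eq cert) 875 25 chkP_875 i (by omega) (by omega)
                · skip
                  rcases Nat.lt_or_ge i 925 with h9 | h9
                  · skip
                    exact allRangeF_sound _ _ (checkPointF_eq cert) 900 25 chkP_900 i (by omega) (by omega)
                  · skip
                    exact allRangeF_sound _ _ (checkPointF_eq cert) 925 25 chkP_925 i (by omega) (by omega)
      · skip
        rcases Nat.lt_or_ge i 1425 with h4 | h4
        · skip
          rcases Nat.lt_or_ge i 1175 with h5 | h5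
          · skip
            rcases Nat.lt_or_ge i 1050 with h6 | h6
            · skip
              rcases Nat.lt_or_ge i 1000 with h7 | h7
              · skip
                rcases Nat.lt_or_ge i 975 with h8 | h8
                · skip
                  exact allRangeF_sound _ _ (checkPointF_eq cert) 950 25 chkP_950 i (by omega) (by omega)
                · skip
                  exact allRangeF_sound _ _ (checkPointF_eq cert) 975 25 chkP_975 i (by omega) (by omega)
              · skip
                rcases Nat.lt_or_ge i 1025 with h8 | h8
                · skip
                  exact allRangeF_sound _ _ (checkPointF_eq cert) 1000 25 chkP_1000 i (by omega) (by omega)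
                · skip
                  exact allRangeF_sound _ _ (checkPointF_eq cert) 1025 25 chkP_1025 i (by omega) (by omega)
            · skip
              rcases Nat.lt_or_ge i 1100 with h7 | h7
              · skip
                rcases Nat.lt_or_ge i 1075 with h8 | h8
                · skip
                  exact allRangeF_sound _ _ (checkPointF_eq cert) 1050 25 chkP_1050 i (by omega) (by omega)
                · skip
                  exact allRangeF_sound _ _ (checkPointF_eq cert) 1075 25 chkP_1075 i (by omega) (by omega)
              · skip
                rcases Nat.lt_or_ge i 1125 with h8 | h8
                · skip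
                  exact allRangeF_sound _ _ (checkPointF_eq cert) 1100 25 chkP_1100 i (by omega) (by omega)
                · skip
                  rcases Nat.lt_or_ge i 1150 with h9 | h9
                  · skip
                    exact allRangeF_sound _ _ (checkPointF_eq cert) 1125 25 chkP_1125 i (by omega) (by omega)
                  · skip
                    exact allRangeF_sound _ _ (checkPointF_eq cert) 1150 25 chkP_1150 i (by omega) (by omega)
          · skip
            rcases Nat.lt_or_ge i 1300 with h6 | h6
            · skip
              rcases Nat.lt_or_ge i 1225 with h7 | h7
              · skip
                rcases Nat.lt_or_ge i 1200 with h8 | h8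
                · skip
                  exact allRangeF_sound _ _ (checkPointF_eq cert) 1175 25 chkP_1175 i (by omega) (by omega)
                · skip
                  exact allRangeF_sound _ _ (checkPointF_eq cert) 1200 25 chkP_1200 i (by omega) (by omega)
              · skip
                rcases Nat.lt_or_ge i 1250 with h8 | h8
                · skip
                  exact allRangeF_sound _ _ (checkPointF_eq cert) 1225 25 chkP_1225 i (by omega) (by omega)
                · skip
                  rcases Nat.lt_or_ge i 1275 with h9 | h9
                  · skip
                    exact allRangeF_sound _ _ (checkPointF_eq cert) 1250 25 chkP_1250 i (by omega) (by omega)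
                  · skip
                    exact allRangeF_sound _ _ (checkPointF_eq cert) 1275 25 chkP_1275 i (by omega) (by omega)
            · skip
              rcases Nat.lt_or_ge i 1350 with h7 | h7
              · skip
                rcases Nat.lt_or_ge i 1325 with h8 | h8
                · skip
                  exact allRangeF_sound _ _ (checkPointF_eq cert) 1300 25 chkP_1300 i (by omega) (by omega)
                · skip
                  exact allRangeF_sound _ _ (checkPointF_eq cert) 1325 25 chkP_1325 i (by omega) (by omega)
              · skip
                rcases Nat.lt_or_ge i 1375 with h8 | h8
                · skip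
                  exact allRangeF_sound _ _ (checkPointF_eq cert) 1350 25 chkP_1350 i (by omega) (by omega)
                · skip
                  rcases Nat.lt_or_ge i 1400 with h9 | h9
                  · skip
                    exact allRangeF_sound _ _ (checkPointF_eq cert) 1375 25 chkP_1375 i (by omega) (by omega)
                  · skip
                    exact allRangeF_sound _ _ (checkPointF_eq cert) 1400 25 chkP_1400 i (by omega) (by omega)
        · skip
          rcases Nat.lt_or_ge i 1650 with h5 | h5
          · skip
            rcases Nat.lt_or_ge i 1525 with h6 | h6
            · skip
              rcases Nat.lt_or_ge i 1475 with h7 | h7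
              · skip
                rcases Nat.lt_or_ge i 1450 with h8 | h8
                · skip
                  exact allRangeF_sound _ _ (checkPointF_eq cert) 1425 25 chkP_1425 i (by omega) (by omega)
                · skip
                  exact allRangeF_sound _ _ (checkPointF_eq cert) 1450 25 chkP_1450 i (by omega) (by omega)
              · skip
                rcases Nat.lt_or_ge i 1500 with h8 | h8
                · skip
                  exact allRangeF_sound _ _ (checkPointF_eq cert) 1475 25 chkP_1475 i (by omega) (by omega)
                · skip
                  exact allRangeF_sound _ _ (checkPointF_eq cert) 1500 25 chkP_1500 i (by omega) (by omega)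
            · skip
              rcases Nat.lt_or_ge i 1575 with h7 | h7
              · skip
                rcases Nat.lt_or_ge i 1550 with h8 | h8
                · skip
                  exact allRangeF_sound _ _ (checkPointF_eq cert) 1525 25 chkP_1525 i (by omega) (by omega)
                · skip
                  exact allRangeF_sound _ _ (checkPointF_eq cert) 1550 25 chkP_1550 i (by omega) (by omega)
              · skip
                rcases Nat.lt_or_ge i 1600 with h8 | h8
                · skip
                  exact allRangeF_sound _ _ (checkPointF_eq cert) 1575 25 chkP_1575 i (by omega) (by omega)
                · skip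
                  rcases Nat.lt_or_ge i 1625 with h9 | h9
                  · skip
                    exact allRangeF_sound _ _ (checkPointF_eq cert) 1600 25 chkP_1600 i (by omega) (by omega)
                  · skip
                    exact allRangeF_sound _ _ (checkPointF_eq cert) 1625 25 chkP_1625 i (by omega) (by omega)
          · skip
            rcases Nat.lt_or_ge i 1775 with h6 | h6
            · skip
              rcases Nat.lt_or_ge i 1700 with h7 | h7
              · skip
                rcases Nat.lt_or_ge i 1675 with h8 | h8
                · skip
                  exact allRangeF_sound _ _ (checkPointF_eq cert) 1650 25 chkP_1650 i (by omega) (by omega)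
                · skip
                  exact allRangeF_sound _ _ (checkPointF_eq cert) 1675 25 chkP_1675 i (by omega) (by omega)
              · skip
                rcases Nat.lt_or_ge i 1725 with h8 | h8
                · skip
                  exact allRangeF_sound _ _ (checkPointF_eq cert) 1700 25 chkP_1700 i (by omega) (by omega)
                · skip
                  rcases Nat.lt_or_ge i 1750 with h9 | h9
                  · skip
                    exact allRangeF_sound _ _ (checkPointF_eq cert) 1725 25 chkP_1725 i (by omega) (by omega)
                  · skip
                    exact allRangeF_sound _ _ (checkPointF_eq cert) 1750 25 chkP_1750 i (by omega) (by omega)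
            · skip
              rcases Nat.lt_or_ge i 1825 with h7 | h7
              · skip
                rcases Nat.lt_or_ge i 1800 with h8 | h8
                · skip
                  exact allRangeF_sound _ _ (checkPointF_eq cert) 1775 25 chkP_1775 i (by omega) (by omega)
                · skip
                  exact allRangeF_sound _ _ (checkPointF_eq cert) 1800 25 chkP_1800 i (by omega) (by omega)
              · skip
                rcases Nat.lt_or_ge i 1850 with h8 | h8
                · skip
                  exact allRangeF_sound _ _ (checkPointF_eq cert) 1825 25 chkP_1825 i (by omega) (by omega)
                · skip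
                  rcases Nat.lt_or_ge i 1875 with h9 | h9
                  · skip
                    exact allRangeF_sound _ _ (checkPointF_eq cert) 1850 25 chkP_1850 i (by omega) (by omega)
                  · skip
                    exact allRangeF_sound _ _ (checkPointF_eq cert) 1875 25 chkP_1875 i (by omega) (by omega)
    · skip
      rcases Nat.lt_or_ge i 2850 with h3 | h3
      · skip
        rcases Nat.lt_or_ge i 2375 with h4 | h4
        · skip
          rcases Nat.lt_or_ge i 2125 with h5 | h5
          · skip
            rcases Nat.lt_or_ge i 2000 with h6 | h6
            · skip
              rcases Nat.lt_or_ge i 1950 with h7 | h7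
              · skip
                rcases Nat.lt_or_ge i 1925 with h8 | h8
                · skip
                  exact allRangeF_sound _ _ (checkPointF_eq cert) 1900 25 chkP_1900 i (by omega) (by omega)
                · skip
                  exact allRangeF_sound _ _ (checkPointF_eq cert) 1925 25 chkP_1925 i (by omega) (by omega)
              · skip
                rcases Nat.lt_or_ge i 1975 with h8 | h8
                · skip
                  exact allRangeF_sound _ _ (checkPointF_eq cert) 1950 25 chkP_1950 i (by omega) (by omega)
                · skip
                  exact allRangeF_sound _ _ (checkPointF_eq cert) 1975 25 chkP_1975 i (by omega) (by omega)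
            · skip
              rcases Nat.lt_or_ge i 2050 with h7 | h7
              · skip
                rcases Nat.lt_or_ge i 2025 with h8 | h8
                · skip
                  exact allRangeF_sound _ _ (checkPointF_eq cert) 2000 25 chkP_2000 i (by omega) (by omega)
                · skip
                  exact allRangeF_sound _ _ (checkPointF_eq cert) 2025 25 chkP_2025 i (by omega) (by omega)
              · skip
                rcases Nat.lt_or_ge i 2075 with h8 | h8
                · skip
                  exact allRangeF_sound _ _ (checkPointF_eq cert) 2050 25 chkP_2050 i (by omega) (by omega)
                · skip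
                  rcases Nat.lt_or_ge i 2100 with h9 | h9
                  · skip
                    exact allRangeF_sound _ _ (checkPointF_eq cert) 2075 25 chkP_2075 i (by omega) (by omega)
                  · skip
                    exact allRangeF_sound _ _ (checkPointF_eq cert) 2100 25 chkP_2100 i (by omega) (by omega)
          · skip
            rcases Nat.lt_or_ge i 2250 with h6 | h6
            · skip
              rcases Nat.lt_or_ge i 2175 with h7 | h7
              · skip
                rcases Nat.lt_or_ge i 2150 with h8 | h8
                · skip
                  exact allRangeF_sound _ _ (checkPointF_eq cert) 2125 25 chkP_2125 i (by omega) (by omega)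
                · skip
                  exact allRangeF_sound _ _ (checkPointF_eq cert) 2150 25 chkP_2150 i (by omega) (by omega)
              · skip
                rcases Nat.lt_or_ge i 2200 with h8 | h8
                · skip
                  exact allRangeF_sound _ _ (checkPointF_eq cert) 2175 25 chkP_2175 i (by omega) (by omega)
                · skip
                  rcases Nat.lt_or_ge i 2225 with h9 | h9
                  · skip
                    exact allRangeF_sound _ _ (checkPointF_eq cert) 2200 25 chkP_2200 i (by omega) (by omega)
                  · skip
                    exact allRangeF_sound _ _ (checkPointF_eq cert) 2225 25 chkP_2225 i (by omega) (by omega)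
            · skip
              rcases Nat.lt_or_ge i 2300 with h7 | h7
              · skip
                rcases Nat.lt_or_ge i 2275 with h8 | h8
                · skip
                  exact allRangeF_sound _ _ (checkPointF_eq cert) 2250 25 chkP_2250 i (by omega) (by omega)
                · skip
                  exact allRangeF_sound _ _ (checkPointF_eq cert) 2275 25 chkP_2275 i (by omega) (by omega)
              · skip
                rcases Nat.lt_or_ge i 2325 with h8 | h8
                · skip
                  exact allRangeF_sound _ _ (checkPointF_eq cert) 2300 25 chkP_2300 i (by omega) (by omega)
                · skip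
                  rcases Nat.lt_or_ge i 2350 with h9 | h9
                  · skip
                    exact allRangeF_sound _ _ (checkPointF_eq cert) 2325 25 chkP_2325 i (by omega) (by omega)
                  · skip
                    exact allRangeF_sound _ _ (checkPointF_eq cert) 2350 25 chkP_2350 i (by omega) (by omega)
        · skip
          rcases Nat.lt_or_ge i 2600 with h5 | h5
          · skip
            rcases Nat.lt_or_ge i 2475 with h6 | h6
            · skip
              rcases Nat.lt_or_ge i 2425 with h7 | h7
              · skip
                rcases Nat.lt_or_ge i 2400 with h8 | h8
                · skip
                  exact allRangeF_sound _ _ (checkPointF_eq cert) 2375 25 chkP_2375 i (by omega) (by omega)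
                · skip
                  exact allRangeF_sound _ _ (checkPointF_eq cert) 2400 25 chkP_2400 i (by omega) (by omega)
              · skip
                rcases Nat.lt_or_ge i 2450 with h8 | h8
                · skip
                  exact allRangeF_sound _ _ (checkPointF_eq cert) 2425 25 chkP_2425 i (by omega) (by omega)
                · skip
                  exact allRangeF_sound _ _ (checkPointF_eq cert) 2450 25 chkP_2450 i (by omega) (by omega)
            · skip
              rcases Nat.lt_or_ge i 2525 with h7 | h7
              · skip
                rcases Nat.lt_or_ge i 2500 with h8 | h8
                · skip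
                  exact allRangeF_sound _ _ (checkPointF_eq cert) 2475 25 chkP_2475 i (by omega) (by omega)
                · skip
                  exact allRangeF_sound _ _ (checkPointF_eq cert) 2500 25 chkP_2500 i (by omega) (by omega)
              · skip
                rcases Nat.lt_or_ge i 2550 with h8 | h8
                · skip
                  exact allRangeF_sound _ _ (checkPointF_eq cert) 2525 25 chkP_2525 i (by omega) (by omega)
                · skip
                  rcases Nat.lt_or_ge i 2575 with h9 | h9
                  · skip
                    exact allRangeF_sound _ _ (checkPointF_eq cert) 2550 25 chkP_2550 i (by omega) (by omega)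
                  · skip
                    exact allRangeF_sound _ _ (checkPointF_eq cert) 2575 25 chkP_2575 i (by omega) (by omega)
          · skip
            rcases Nat.lt_or_ge i 2725 with h6 | h6
            · skip
              rcases Nat.lt_or_ge i 2650 with h7 | h7
              · skip
                rcases Nat.lt_or_ge i 2625 with h8 | h8
                · skip
                  exact allRangeF_sound _ _ (checkPointF_eq cert) 2600 25 chkP_2600 i (by omega) (by omega)
                · skip
                  exact allRangeF_sound _ _ (checkPointF_eq cert) 2625 25 chkP_2625 i (by omega) (by omega)
              · skip
                rcases Nat.lt_or_ge i 2675 with h8 | h8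
                · skip
                  exact allRangeF_sound _ _ (checkPointF_eq cert) 2650 25 chkP_2650 i (by omega) (by omega)
                · skip
                  rcases Nat.lt_or_ge i 2700 with h9 | h9
                  · skip
                    exact allRangeF_sound _ _ (checkPointF_eq cert) 2675 25 chkP_2675 i (by omega) (by omega)
                  · skip
                    exact allRangeF_sound _ _ (checkPointF_eq cert) 2700 25 chkP_2700 i (by omega) (by omega)
            · skip
              rcases Nat.lt_or_ge i 2775 with h7 | h7
              · skip
                rcases Nat.lt_or_ge i 2750 with h8 | h8
                · skip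
                  exact allRangeF_sound _ _ (checkPointF_eq cert) 2725 25 chkP_2725 i (by omega) (by omega)
                · skip
                  exact allRangeF_sound _ _ (checkPointF_eq cert) 2750 25 chkP_2750 i (by omega) (by omega)
              · skip
                rcases Nat.lt_or_ge i 2800 with h8 | h8
                · skip
                  exact allRangeF_sound _ _ (checkPointF_eq cert) 2775 25 chkP_2775 i (by omega) (by omega)
                · skip
                  rcases Nat.lt_or_ge i 2825 with h9 | h9
                  · skip
                    exact allRangeF_sound _ _ (checkPointF_eq cert) 2800 25 chkP_2800 i (by omega) (by omega)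
                  · skip
                    exact allRangeF_sound _ _ (checkPointF_eq cert) 2825 25 chkP_2825 i (by omega) (by omega)
      · skip
        rcases Nat.lt_or_ge i 3325 with h4 | h4
        · skip
          rcases Nat.lt_or_ge i 3075 with h5 | h5
          · skip
            rcases Nat.lt_or_ge i 2950 with h6 | h6
            · skip
              rcases Nat.lt_or_ge i 2900 with h7 | h7
              · skip
                rcases Nat.lt_or_ge i 2875 with h8 | h8
                · skip
                  exact allRangeF_sound _ _ (checkPointF_eq cert) 2850 25 chkP_2850 i (by omega) (by omega)
                · skip
                  exact allRangeF_sound _ _ (checkPointF_eq cert) 2875 25 chkP_2875 i (by omega) (by omega)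
              · skip
                rcases Nat.lt_or_ge i 2925 with h8 | h8
                · skip
                  exact allRangeF_sound _ _ (checkPointF_eq cert) 2900 25 chkP_2900 i (by omega) (by omega)
                · skip
                  exact allRangeF_sound _ _ (checkPointF_eq cert) 2925 25 chkP_2925 i (by omega) (by omega)
            · skip
              rcases Nat.lt_or_ge i 3000 with h7 | h7
              · skip
                rcases Nat.lt_or_ge i 2975 with h8 | h8
                · skip
                  exact allRangeF_sound _ _ (checkPointF_eq cert) 2950 25 chkP_2950 i (by omega) (by omega)
                · skip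
                  exact allRangeF_sound _ _ (checkPointF_eq cert) 2975 25 chkP_2975 i (by omega) (by omega)
              · skip
                rcases Nat.lt_or_ge i 3025 with h8 | h8
                · skip
                  exact allRangeF_sound _ _ (checkPointF_eq cert) 3000 25 chkP_3000 i (by omega) (by omega)
                · skip
                  rcases Nat.lt_or_ge i 3050 with h9 | h9
                  · skip
                    exact allRangeF_sound _ _ (checkPointF_eq cert) 3025 25 chkP_3025 i (by omega) (by omega)
                  · skip
                    exact allRangeF_sound _ _ (checkPointF_eq cert) 3050 25 chkP_3050 i (by omega) (by omega)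
          · skip
            rcases Nat.lt_or_ge i 3200 with h6 | h6
            · skip
              rcases Nat.lt_or_ge i 3125 with h7 | h7
              · skip
                rcases Nat.lt_or_ge i 3100 with h8 | h8
                · skip
                  exact allRangeF_sound _ _ (checkPointF_eq cert) 3075 25 chkP_3075 i (by omega) (by omega)
                · skip
                  exact allRangeF_sound _ _ (checkPointF_eq cert) 3100 25 chkP_3100 i (by omega) (by omega)
              · skip
                rcases Nat.lt_or_ge i 3150 with h8 | h8
                · skip
                  exact allRangeF_sound _ _ (checkPointF_eq cert) 3125 25 chkP_3125 i (by omega) (by omega)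
                · skip
                  rcases Nat.lt_or_ge i 3175 with h9 | h9
                  · skip
                    exact allRangeF_sound _ _ (checkPointF_eq cert) 3150 25 chkP_3150 i (by omega) (by omega)
                  · skip
                    exact allRangeF_sound _ _ (checkPointF_eq cert) 3175 25 chkP_3175 i (by omega) (by omega)
            · skip
              rcases Nat.lt_or_ge i 3250 with h7 | h7
              · skip
                rcases Nat.lt_or_ge i 3225 with h8 | h8
                · skip
                  exact allRangeF_sound _ _ (checkPointF_eq cert) 3200 25 chkP_3200 i (by omega) (by omega)
                · skip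
                  exact allRangeF_sound _ _ (checkPointF_eq cert) 3225 25 chkP_3225 i (by omega) (by omega)
              · skip
                rcases Nat.lt_or_ge i 3275 with h8 | h8
                · skip
                  exact allRangeF_sound _ _ (checkPointF_eq cert) 3250 25 chkP_3250 i (by omega) (by omega)
                · skip
                  rcases Nat.lt_or_ge i 3300 with h9 | h9
                  · skip
                    exact allRangeF_sound _ _ (checkPointF_eq cert) 3275 25 chkP_3275 i (by omega) (by omega)
                  · skip
                    exact allRangeF_sound _ _ (checkPointF_eq cert) 3300 25 chkP_3300 i (by omega) (by omega)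
        · skip
          rcases Nat.lt_or_ge i 3575 with h5 | h5
          · skip
            rcases Nat.lt_or_ge i 3450 with h6 | h6
            · skip
              rcases Nat.lt_or_ge i 3375 with h7 | h7
              · skip
                rcases Nat.lt_or_ge i 3350 with h8 | h8
                · skip
                  exact allRangeF_sound _ _ (checkPointF_eq cert) 3325 25 chkP_3325 i (by omega) (by omega)
                · skip
                  exact allRangeF_sound _ _ (checkPointF_eq cert) 3350 25 chkP_3350 i (by omega) (by omega)
              · skip
                rcases Nat.lt_or_ge i 3400 with h8 | h8
                · skip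
                  exact allRangeF_sound _ _ (checkPointF_eq cert) 3375 25 chkP_3375 i (by omega) (by omega)
                · skip
                  rcases Nat.lt_or_ge i 3425 with h9 | h9
                  · skip
                    exact allRangeF_sound _ _ (checkPointF_eq cert) 3400 25 chkP_3400 i (by omega) (by omega)
                  · skip
                    exact allRangeF_sound _ _ (checkPointF_eq cert) 3425 25 chkP_3425 i (by omega) (by omega)
            · skip
              rcases Nat.lt_or_ge i 3500 with h7 | h7
              · skip
                rcases Nat.lt_or_ge i 3475 with h8 | h8
                · skip
                  exact allRangeF_sound _ _ (checkPointF_eq cert) 3450 25 chkP_3450 i (by omega) (by omega)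
                · skip
                  exact allRangeF_sound _ _ (checkPointF_eq cert) 3475 25 chkP_3475 i (by omega) (by omega)
              · skip
                rcases Nat.lt_or_ge i 3525 with h8 | h8
                · skip
                  exact allRangeF_sound _ _ (checkPointF_eq cert) 3500 25 chkP_3500 i (by omega) (by omega)
                · skip
                  rcases Nat.lt_or_ge i 3550 with h9 | h9
                  · skip
                    exact allRangeF_sound _ _ (checkPointF_eq cert) 3525 25 chkP_3525 i (by omega) (by omega)
                  · skip
                    exact allRangeF_sound _ _ (checkPointF_eq cert) 3550 25 chkP_3550 i (by omega) (by omega)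
          · skip
            rcases Nat.lt_or_ge i 3700 with h6 | h6
            · skip
              rcases Nat.lt_or_ge i 3625 with h7 | h7
              · skip
                rcases Nat.lt_or_ge i 3600 with h8 | h8
                · skip
                  exact allRangeF_sound _ _ (checkPointF_eq cert) 3575 25 chkP_3575 i (by omega) (by omega)
                · skip
                  exact allRangeF_sound _ _ (checkPointF_eq cert) 3600 25 chkP_3600 i (by omega) (by omega)
              · skip
                rcases Nat.lt_or_ge i 3650 with h8 | h8
                · skip
                  exact allRangeF_sound _ _ (checkPointF_eq cert) 3625 25 chkP_3625 i (by omega) (by omega)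
                · skip
                  rcases Nat.lt_or_ge i 3675 with h9 | h9
                  · skip
                    exact allRangeF_sound _ _ (checkPointF_eq cert) 3650 25 chkP_3650 i (by omega) (by omega)
                  · skip
                    exact allRangeF_sound _ _ (checkPointF_eq cert) 3675 25 chkP_3675 i (by omega) (by omega)
            · skip
              rcases Nat.lt_or_ge i 3750 with h7 | h7
              · skip
                rcases Nat.lt_or_ge i 3725 with h8 | h8
                · skip
                  exact allRangeF_sound _ _ (checkPointF_eq cert) 3700 25 chkP_3700 i (by omega) (by omega)
                · skip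
                  exact allRangeF_sound _ _ (checkPointF_eq cert) 3725 25 chkP_3725 i (by omega) (by omega)
              · skip
                rcases Nat.lt_or_ge i 3775 with h8 | h8
                · skip
                  exact allRangeF_sound _ _ (checkPointF_eq cert) 3750 25 chkP_3750 i (by omega) (by omega)
                · skip
                  rcases Nat.lt_or_ge i 3800 with h9 | h9
                  · skip
                    exact allRangeF_sound _ _ (checkPointF_eq cert) 3775 25 chkP_3775 i (by omega) (by omega)
                  · skip
                    exact allRangeF_sound _ _ (checkPointF_eq cert) 3800 25 chkP_3800 i (by omega) (by omega)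
  · skip
    rcases Nat.lt_or_ge i 5750 with h2 | h2
    · skip
      rcases Nat.lt_or_ge i 4775 with h3 | h3
      · skip
        rcases Nat.lt_or_ge i 4300 with h4 | h4
        · skip
          rcases Nat.lt_or_ge i 4050 with h5 | h5
          · skip
            rcases Nat.lt_or_ge i 3925 with h6 | h6
            · skip
              rcases Nat.lt_or_ge i 3875 with h7 | h7
              · skip
                rcases Nat.lt_or_ge i 3850 with h8 | h8
                · skip
                  exact allRangeF_sound _ _ (checkPointF_eq cert) 3825 25 chkP_3825 i (by omega) (by omega)
                · skip
                  exact allRangeF_sound _ _ (checkPointF_eq cert) 3850 25 chkP_3850 i (by omega) (by omega)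
              · skip
                rcases Nat.lt_or_ge i 3900 with h8 | h8
                · skip
                  exact allRangeF_sound _ _ (checkPointF_eq cert) 3875 25 chkP_3875 i (by omega) (by omega)
                · skip
                  exact allRangeF_sound _ _ (checkPointF_eq cert) 3900 25 chkP_3900 i (by omega) (by omega)
            · skip
              rcases Nat.lt_or_ge i 3975 with h7 | h7
              · skip
                rcases Nat.lt_or_ge i 3950 with h8 | h8
                · skip
                  exact allRangeF_sound _ _ (checkPointF_eq cert) 3925 25 chkP_3925 i (by omega) (by omega)
                · skip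
                  exact allRangeF_sound _ _ (checkPointF_eq cert) 3950 25 chkP_3950 i (by omega) (by omega)
              · skip
                rcases Nat.lt_or_ge i 4000 with h8 | h8
                · skip
                  exact allRangeF_sound _ _ (checkPointF_eq cert) 3975 25 chkP_3975 i (by omega) (by omega)
                · skip
                  rcases Nat.lt_or_ge i 4025 with h9 | h9
                  · skip
                    exact allRangeF_sound _ _ (checkPointF_eq cert) 4000 25 chkP_4000 i (by omega) (by omega)
                  · skip
                    exact allRangeF_sound _ _ (checkPointF_eq cert) 4025 25 chkP_4025 i (by omega) (by omega)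
          · skip
            rcases Nat.lt_or_ge i 4175 with h6 | h6
            · skip
              rcases Nat.lt_or_ge i 4100 with h7 | h7
              · skip
                rcases Nat.lt_or_ge i 4075 with h8 | h8
                · skip
                  exact allRangeF_sound _ _ (checkPointF_eq cert) 4050 25 chkP_4050 i (by omega) (by omega)
                · skip
                  exact allRangeF_sound _ _ (checkPointF_eq cert) 4075 25 chkP_4075 i (by omega) (by omega)
              · skip
                rcases Nat.lt_or_ge i 4125 with h8 | h8
                · skip
                  exact allRangeF_sound _ _ (checkPointF_eq cert) 4100 25 chkP_4100 i (by omega) (by omega)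
                · skip
                  rcases Nat.lt_or_ge i 4150 with h9 | h9
                  · skip
                    exact allRangeF_sound _ _ (checkPointF_eq cert) 4125 25 chkP_4125 i (by omega) (by omega)
                  · skip
                    exact allRangeF_sound _ _ (checkPointF_eq cert) 4150 25 chkP_4150 i (by omega) (by omega)
            · skip
              rcases Nat.lt_or_ge i 4225 with h7 | h7
              · skip
                rcases Nat.lt_or_ge i 4200 with h8 | h8
                · skip
                  exact allRangeF_sound _ _ (checkPointF_eq cert) 4175 25 chkP_4175 i (by omega) (by omega)
                · skip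
                  exact allRangeF_sound _ _ (checkPointF_eq cert) 4200 25 chkP_4200 i (by omega) (by omega)
              · skip
                rcases Nat.lt_or_ge i 4250 with h8 | h8
                · skip
                  exact allRangeF_sound _ _ (checkPointF_eq cert) 4225 25 chkP_4225 i (by omega) (by omega)
                · skip
                  rcases Nat.lt_or_ge i 4275 with h9 | h9
                  · skip
                    exact allRangeF_sound _ _ (checkPointF_eq cert) 4250 25 chkP_4250 i (by omega) (by omega)
                  · skip
                    exact allRangeF_sound _ _ (checkPointF_eq cert) 4275 25 chkP_4275 i (by omega) (by omega)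
        · skip
          rcases Nat.lt_or_ge i 4525 with h5 | h5
          · skip
            rcases Nat.lt_or_ge i 4400 with h6 | h6
            · skip
              rcases Nat.lt_or_ge i 4350 with h7 | h7
              · skip
                rcases Nat.lt_or_ge i 4325 with h8 | h8
                · skip
                  exact allRangeF_sound _ _ (checkPointF_eq cert) 4300 25 chkP_4300 i (by omega) (by omega)
                · skip
                  exact allRangeF_sound _ _ (checkPointF_eq cert) 4325 25 chkP_4325 i (by omega) (by omega)
              · skip
                rcases Nat.lt_or_ge i 4375 with h8 | h8
                · skip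
                  exact allRangeF_sound _ _ (checkPointF_eq cert) 4350 25 chkP_4350 i (by omega) (by omega)
                · skip
                  exact allRangeF_sound _ _ (checkPointF_eq cert) 4375 25 chkP_4375 i (by omega) (by omega)
            · skip
              rcases Nat.lt_or_ge i 4450 with h7 | h7
              · skip
                rcases Nat.lt_or_ge i 4425 with h8 | h8
                · skip
                  exact allRangeF_sound _ _ (checkPointF_eq cert) 4400 25 chkP_4400 i (by omega) (by omega)
                · skip
                  exact allRangeF_sound _ _ (checkPointF_eq cert) 4425 25 chkP_4425 i (by omega) (by omega)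
              · skip
                rcases Nat.lt_or_ge i 4475 with h8 | h8
                · skip
                  exact allRangeF_sound _ _ (checkPointF_eq cert) 4450 25 chkP_4450 i (by omega) (by omega)
                · skip
                  rcases Nat.lt_or_ge i 4500 with h9 | h9
                  · skip
                    exact allRangeF_sound _ _ (checkPointF_eq cert) 4475 25 chkP_4475 i (by omega) (by omega)
                  · skip
                    exact allRangeF_sound _ _ (checkPointF_eq cert) 4500 25 chkP_4500 i (by omega) (by omega)
          · skip
            rcases Nat.lt_or_ge i 4650 with h6 | h6
            · skip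
              rcases Nat.lt_or_ge i 4575 with h7 | h7
              · skip
                rcases Nat.lt_or_ge i 4550 with h8 | h8
                · skip
                  exact allRangeF_sound _ _ (checkPointF_eq cert) 4525 25 chkP_4525 i (by omega) (by omega)
                · skip
                  exact allRangeF_sound _ _ (checkPointF_eq cert) 4550 25 chkP_4550 i (by omega) (by omega)
              · skip
                rcases Nat.lt_or_ge i 4600 with h8 | h8
                · skip
                  exact allRangeF_sound _ _ (checkPointF_eq cert) 4575 25 chkP_4575 i (by omega) (by omega)
                · skip
                  rcases Nat.lt_or_ge i 4625 with h9 | h9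
                  · skip
                    exact allRangeF_sound _ _ (checkPointF_eq cert) 4600 25 chkP_4600 i (by omega) (by omega)
                  · skip
                    exact allRangeF_sound _ _ (checkPointF_eq cert) 4625 25 chkP_4625 i (by omega) (by omega)
            · skip
              rcases Nat.lt_or_ge i 4700 with h7 | h7
              · skip
                rcases Nat.lt_or_ge i 4675 with h8 | h8
                · skip
                  exact allRangeF_sound _ _ (checkPointF_eq cert) 4650 25 chkP_4650 i (by omega) (by omega)
                · skip
                  exact allRangeF_sound _ _ (checkPointF_eq cert) 4675 25 chkP_4675 i (by omega) (by omega)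
              · skip
                rcases Nat.lt_or_ge i 4725 with h8 | h8
                · skip
                  exact allRangeF_sound _ _ (checkPointF_eq cert) 4700 25 chkP_4700 i (by omega) (by omega)
                · skip
                  rcases Nat.lt_or_ge i 4750 with h9 | h9
                  · skip
                    exact allRangeF_sound _ _ (checkPointF_eq cert) 4725 25 chkP_4725 i (by omega) (by omega)
                  · skip
                    exact allRangeF_sound _ _ (checkPointF_eq cert) 4750 25 chkP_4750 i (by omega) (by omega)
      · skip
        rcases Nat.lt_or_ge i 5250 with h4 | h4
        · skip
          rcases Nat.lt_or_ge i 5000 with h5 | h5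
          · skip
            rcases Nat.lt_or_ge i 4875 with h6 | h6
            · skip
              rcases Nat.lt_or_ge i 4825 with h7 | h7
              · skip
                rcases Nat.lt_or_ge i 4800 with h8 | h8
                · skip
                  exact allRangeF_sound _ _ (checkPointF_eq cert) 4775 25 chkP_4775 i (by omega) (by omega)
                · skip
                  exact allRangeF_sound _ _ (checkPointF_eq cert) 4800 25 chkP_4800 i (by omega) (by omega)
              · skip
                rcases Nat.lt_or_ge i 4850 with h8 | h8
                · skip
                  exact allRangeF_sound _ _ (checkPointF_eq cert) 4825 25 chkP_4825 i (by omega) (by omega)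
                · skip
                  exact allRangeF_sound _ _ (checkPointF_eq cert) 4850 25 chkP_4850 i (by omega) (by omega)
            · skip
              rcases Nat.lt_or_ge i 4925 with h7 | h7
              · skip
                rcases Nat.lt_or_ge i 4900 with h8 | h8
                · skip
                  exact allRangeF_sound _ _ (checkPointF_eq cert) 4875 25 chkP_4875 i (by omega) (by omega)
                · skip
                  exact allRangeF_sound _ _ (checkPointF_eq cert) 4900 25 chkP_4900 i (by omega) (by omega)
              · skip
                rcases Nat.lt_or_ge i 4950 with h8 | h8
                · skip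
                  exact allRangeF_sound _ _ (checkPointF_eq cert) 4925 25 chkP_4925 i (by omega) (by omega)
                · skip
                  rcases Nat.lt_or_ge i 4975 with h9 | h9
                  · skip
                    exact allRangeF_sound _ _ (checkPointF_eq cert) 4950 25 chkP_4950 i (by omega) (by omega)
                  · skip
                    exact allRangeF_sound _ _ (checkPointF_eq cert) 4975 25 chkP_4975 i (by omega) (by omega)
          · skip
            rcases Nat.lt_or_ge i 5125 with h6 | h6
            · skip
              rcases Nat.lt_or_ge i 5050 with h7 | h7
              · skip
                rcases Nat.lt_or_ge i 5025 with h8 | h8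
                · skip
                  exact allRangeF_sound _ _ (checkPointF_eq cert) 5000 25 chkP_5000 i (by omega) (by omega)
                · skip
                  exact allRangeF_sound _ _ (checkPointF_eq cert) 5025 25 chkP_5025 i (by omega) (by omega)
              · skip
                rcases Nat.lt_or_ge i 5075 with h8 | h8
                · skip
                  exact allRangeF_sound _ _ (checkPointF_eq cert) 5050 25 chkP_5050 i (by omega) (by omega)
                · skip
                  rcases Nat.lt_or_ge i 5100 with h9 | h9
                  · skip
                    exact allRangeF_sound _ _ (checkPointF_eq cert) 5075 25 chkP_5075 i (by omega) (by omega)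
                  · skip
                    exact allRangeF_sound _ _ (checkPointF_eq cert) 5100 25 chkP_5100 i (by omega) (by omega)
            · skip
              rcases Nat.lt_or_ge i 5175 with h7 | h7
              · skip
                rcases Nat.lt_or_ge i 5150 with h8 | h8
                · skip
                  exact allRangeF_sound _ _ (checkPointF_eq cert) 5125 25 chkP_5125 i (by omega) (by omega)
                · skip
                  exact allRangeF_sound _ _ (checkPointF_eq cert) 5150 25 chkP_5150 i (by omega) (by omega)
              · skip
                rcases Nat.lt_or_ge i 5200 with h8 | h8
                · skip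
                  exact allRangeF_sound _ _ (checkPointF_eq cert) 5175 25 chkP_5175 i (by omega) (by omega)
                · skip
                  rcases Nat.lt_or_ge i 5225 with h9 | h9
                  · skip
                    exact allRangeF_sound _ _ (checkPointF_eq cert) 5200 25 chkP_5200 i (by omega) (by omega)
                  · skip
                    exact allRangeF_sound _ _ (checkPointF_eq cert) 5225 25 chkP_5225 i (by omega) (by omega)
        · skip
          rcases Nat.lt_or_ge i 5500 with h5 | h5
          · skip
            rcases Nat.lt_or_ge i 5375 with h6 | h6
            · skip
              rcases Nat.lt_or_ge i 5300 with h7 | h7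
              · skip
                rcases Nat.lt_or_ge i 5275 with h8 | h8
                · skip
                  exact allRangeF_sound _ _ (checkPointF_eq cert) 5250 25 chkP_5250 i (by omega) (by omega)
                · skip
                  exact allRangeF_sound _ _ (checkPointF_eq cert) 5275 25 chkP_5275 i (by omega) (by omega)
              · skip
                rcases Nat.lt_or_ge i 5325 with h8 | h8
                · skip
                  exact allRangeF_sound _ _ (checkPointF_eq cert) 5300 25 chkP_5300 i (by omega) (by omega)
                · skip
                  rcases Nat.lt_or_ge i 5350 with h9 | h9
                  · skip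
                    exact allRangeF_sound _ _ (checkPointF_eq cert) 5325 25 chkP_5325 i (by omega) (by omega)
                  · skip
                    exact allRangeF_sound _ _ (checkPointF_eq cert) 5350 25 chkP_5350 i (by omega) (by omega)
            · skip
              rcases Nat.lt_or_ge i 5425 with h7 | h7
              · skip
                rcases Nat.lt_or_ge i 5400 with h8 | h8
                · skip
                  exact allRangeF_sound _ _ (checkPointF_eq cert) 5375 25 chkP_5375 i (by omega) (by omega)
                · skip
                  exact allRangeF_sound _ _ (checkPointF_eq cert) 5400 25 chkP_5400 i (by omega) (by omega)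
              · skip
                rcases Nat.lt_or_ge i 5450 with h8 | h8
                · skip
                  exact allRangeF_sound _ _ (checkPointF_eq cert) 5425 25 chkP_5425 i (by omega) (by omega)
                · skip
                  rcases Nat.lt_or_ge i 5475 with h9 | h9
                  · skip
                    exact allRangeF_sound _ _ (checkPointF_eq cert) 5450 25 chkP_5450 i (by omega) (by omega)
                  · skip
                    exact allRangeF_sound _ _ (checkPointF_eq cert) 5475 25 chkP_5475 i (by omega) (by omega)
          · skip
            rcases Nat.lt_or_ge i 5625 with h6 | h6
            · skip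
              rcases Nat.lt_or_ge i 5550 with h7 | h7
              · skip
                rcases Nat.lt_or_ge i 5525 with h8 | h8
                · skip
                  exact allRangeF_sound _ _ (checkPointF_eq cert) 5500 25 chkP_5500 i (by omega) (by omega)
                · skip
                  exact allRangeF_sound _ _ (checkPointF_eq cert) 5525 25 chkP_5525 i (by omega) (by omega)
              · skip
                rcases Nat.lt_or_ge i 5575 with h8 | h8
                · skip
                  exact allRangeF_sound _ _ (checkPointF_eq cert) 5550 25 chkP_5550 i (by omega) (by omega)
                · skip
                  rcases Nat.lt_or_ge i 5600 with h9 | h9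
                  · skip
                    exact allRangeF_sound _ _ (checkPointF_eq cert) 5575 25 chkP_5575 i (by omega) (by omega)
                  · skip
                    exact allRangeF_sound _ _ (checkPointF_eq cert) 5600 25 chkP_5600 i (by omega) (by omega)
            · skip
              rcases Nat.lt_or_ge i 5675 with h7 | h7
              · skip
                rcases Nat.lt_or_ge i 5650 with h8 | h8
                · skip
                  exact allRangeF_sound _ _ (checkPointF_eq cert) 5625 25 chkP_5625 i (by omega) (by omega)
                · skip
                  exact allRangeF_sound _ _ (checkPointF_eq cert) 5650 25 chkP_5650 i (by omega) (by omega)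
              · skip
                rcases Nat.lt_or_ge i 5700 with h8 | h8
                · skip
                  exact allRangeF_sound _ _ (checkPointF_eq cert) 5675 25 chkP_5675 i (by omega) (by omega)
                · skip
                  rcases Nat.lt_or_ge i 5725 with h9 | h9
                  · skip
                    exact allRangeF_sound _ _ (checkPointF_eq cert) 5700 25 chkP_5700 i (by omega) (by omega)
                  · skip
                    exact allRangeF_sound _ _ (checkPointF_eq cert) 5725 25 chkP_5725 i (by omega) (by omega)
    · skip
      rcases Nat.lt_or_ge i 6700 with h3 | h3
      · skip
        rcases Nat.lt_or_ge i 6225 with h4 | h4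
        · skip
          rcases Nat.lt_or_ge i 5975 with h5 | h5
          · skip
            rcases Nat.lt_or_ge i 5850 with h6 | h6
            · skip
              rcases Nat.lt_or_ge i 5800 with h7 | h7
              · skip
                rcases Nat.lt_or_ge i 5775 with h8 | h8
                · skip
                  exact allRangeF_sound _ _ (checkPointF_eq cert) 5750 25 chkP_5750 i (by omega) (by omega)
                · skip
                  exact allRangeF_sound _ _ (checkPointF_eq cert) 5775 25 chkP_5775 i (by omega) (by omega)
              · skip
                rcases Nat.lt_or_ge i 5825 with h8 | h8
                · skip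
                  exact allRangeF_sound _ _ (checkPointF_eq cert) 5800 25 chkP_5800 i (by omega) (by omega)
                · skip
                  exact allRangeF_sound _ _ (checkPointF_eq cert) 5825 25 chkP_5825 i (by omega) (by omega)
            · skip
              rcases Nat.lt_or_ge i 5900 with h7 | h7
              · skip
                rcases Nat.lt_or_ge i 5875 with h8 | h8
                · skip
                  exact allRangeF_sound _ _ (checkPointF_eq cert) 5850 25 chkP_5850 i (by omega) (by omega)
                · skip
                  exact allRangeF_sound _ _ (checkPointF_eq cert) 5875 25 chkP_5875 i (by omega) (by omega)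
              · skip
                rcases Nat.lt_or_ge i 5925 with h8 | h8
                · skip
                  exact allRangeF_sound _ _ (checkPointF_eq cert) 5900 25 chkP_5900 i (by omega) (by omega)
                · skip
                  rcases Nat.lt_or_ge i 5950 with h9 | h9
                  · skip
                    exact allRangeF_sound _ _ (checkPointF_eq cert) 5925 25 chkP_5925 i (by omega) (by omega)
                  · skip
                    exact allRangeF_sound _ _ (checkPointF_eq cert) 5950 25 chkP_5950 i (by omega) (by omega)
          · skip
            rcases Nat.lt_or_ge i 6100 with h6 | h6
            · skip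
              rcases Nat.lt_or_ge i 6025 with h7 | h7
              · skip
                rcases Nat.lt_or_ge i 6000 with h8 | h8
                · skip
                  exact allRangeF_sound _ _ (checkPointF_eq cert) 5975 25 chkP_5975 i (by omega) (by omega)
                · skip
                  exact allRangeF_sound _ _ (checkPointF_eq cert) 6000 25 chkP_6000 i (by omega) (by omega)
              · skip
                rcases Nat.lt_or_ge i 6050 with h8 | h8
                · skip
                  exact allRangeF_sound _ _ (checkPointF_eq cert) 6025 25 chkP_6025 i (by omega) (by omega)
                · skip
                  rcases Nat.lt_or_ge i 6075 with h9 | h9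
                  · skip
                    exact allRangeF_sound _ _ (checkPointF_eq cert) 6050 25 chkP_6050 i (by omega) (by omega)
                  · skip
                    exact allRangeF_sound _ _ (checkPointF_eq cert) 6075 25 chkP_6075 i (by omega) (by omega)
            · skip
              rcases Nat.lt_or_ge i 6150 with h7 | h7
              · skip
                rcases Nat.lt_or_ge i 6125 with h8 | h8
                · skip
                  exact allRangeF_sound _ _ (checkPointF_eq cert) 6100 25 chkP_6100 i (by omega) (by omega)
                · skip
                  exact allRangeF_sound _ _ (checkPointF_eq cert) 6125 25 chkP_6125 i (by omega) (by omega)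
              · skip
                rcases Nat.lt_or_ge i 6175 with h8 | h8
                · skip
                  exact allRangeF_sound _ _ (checkPointF_eq cert) 6150 25 chkP_6150 i (by omega) (by omega)
                · skip
                  rcases Nat.lt_or_ge i 6200 with h9 | h9
                  · skip
                    exact allRangeF_sound _ _ (checkPointF_eq cert) 6175 25 chkP_6175 i (by omega) (by omega)
                  · skip
                    exact allRangeF_sound _ _ (checkPointF_eq cert) 6200 25 chkP_6200 i (by omega) (by omega)
        · skip
          rcases Nat.lt_or_ge i 6450 with h5 | h5
          · skip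
            rcases Nat.lt_or_ge i 6325 with h6 | h6
            · skip
              rcases Nat.lt_or_ge i 6275 with h7 | h7
              · skip
                rcases Nat.lt_or_ge i 6250 with h8 | h8
                · skip
                  exact allRangeF_sound _ _ (checkPointF_eq cert) 6225 25 chkP_6225 i (by omega) (by omega)
                · skip
                  exact allRangeF_sound _ _ (checkPointF_eq cert) 6250 25 chkP_6250 i (by omega) (by omega)
              · skip
                rcases Nat.lt_or_ge i 6300 with h8 | h8
                · skip
                  exact allRangeF_sound _ _ (checkPointF_eq cert) 6275 25 chkP_6275 i (by omega) (by omega)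
                · skip
                  exact allRangeF_sound _ _ (checkPointF_eq cert) 6300 25 chkP_6300 i (by omega) (by omega)
            · skip
              rcases Nat.lt_or_ge i 6375 with h7 | h7
              · skip
                rcases Nat.lt_or_ge i 6350 with h8 | h8
                · skip
                  exact allRangeF_sound _ _ (checkPointF_eq cert) 6325 25 chkP_6325 i (by omega) (by omega)
                · skip
                  exact allRangeF_sound _ _ (checkPointF_eq cert) 6350 25 chkP_6350 i (by omega) (by omega)
              · skip
                rcases Nat.lt_or_ge i 6400 with h8 | h8
                · skip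
                  exact allRangeF_sound _ _ (checkPointF_eq cert) 6375 25 chkP_6375 i (by omega) (by omega)
                · skip
                  rcases Nat.lt_or_ge i 6425 with h9 | h9
                  · skip
                    exact allRangeF_sound _ _ (checkPointF_eq cert) 6400 25 chkP_6400 i (by omega) (by omega)
                  · skip
                    exact allRangeF_sound _ _ (checkPointF_eq cert) 6425 25 chkP_6425 i (by omega) (by omega)
          · skip
            rcases Nat.lt_or_ge i 6575 with h6 | h6
            · skip
              rcases Nat.lt_or_ge i 6500 with h7 | h7
              · skip
                rcases Nat.lt_or_ge i 6475 with h8 | h8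
                · skip
                  exact allRangeF_sound _ _ (checkPointF_eq cert) 6450 25 chkP_6450 i (by omega) (by omega)
                · skip
                  exact allRangeF_sound _ _ (checkPointF_eq cert) 6475 25 chkP_6475 i (by omega) (by omega)
              · skip
                rcases Nat.lt_or_ge i 6525 with h8 | h8
                · skip
                  exact allRangeF_sound _ _ (checkPointF_eq cert) 6500 25 chkP_6500 i (by omega) (by omega)
                · skip
                  rcases Nat.lt_or_ge i 6550 with h9 | h9
                  · skip
                    exact allRangeF_sound _ _ (checkPointF_eq cert) 6525 25 chkP_6525 i (by omega) (by omega)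
                  · skip
                    exact allRangeF_sound _ _ (checkPointF_eq cert) 6550 25 chkP_6550 i (by omega) (by omega)
            · skip
              rcases Nat.lt_or_ge i 6625 with h7 | h7
              · skip
                rcases Nat.lt_or_ge i 6600 with h8 | h8
                · skip
                  exact allRangeF_sound _ _ (checkPointF_eq cert) 6575 25 chkP_6575 i (by omega) (by omega)
                · skip
                  exact allRangeF_sound _ _ (checkPointF_eq cert) 6600 25 chkP_6600 i (by omega) (by omega)
              · skip
                rcases Nat.lt_or_ge i 6650 with h8 | h8
                · skip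
                  exact allRangeF_sound _ _ (checkPointF_eq cert) 6625 25 chkP_6625 i (by omega) (by omega)
                · skip
                  rcases Nat.lt_or_ge i 6675 with h9 | h9
                  · skip
                    exact allRangeF_sound _ _ (checkPointF_eq cert) 6650 25 chkP_6650 i (by omega) (by omega)
                  · skip
                    exact allRangeF_sound _ _ (checkPointF_eq cert) 6675 25 chkP_6675 i (by omega) (by omega)
      · skip
        rcases Nat.lt_or_ge i 7175 with h4 | h4
        · skip
          rcases Nat.lt_or_ge i 6925 with h5 | h5
          · skip
            rcases Nat.lt_or_ge i 6800 with h6 | h6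
            · skip
              rcases Nat.lt_or_ge i 6750 with h7 | h7
              · skip
                rcases Nat.lt_or_ge i 6725 with h8 | h8
                · skip
                  exact allRangeF_sound _ _ (checkPointF_eq cert) 6700 25 chkP_6700 i (by omega) (by omega)
                · skip
                  exact allRangeF_sound _ _ (checkPointF_eq cert) 6725 25 chkP_6725 i (by omega) (by omega)
              · skip
                rcases Nat.lt_or_ge i 6775 with h8 | h8
                · skip
                  exact allRangeF_sound _ _ (checkPointF_eq cert) 6750 25 chkP_6750 i (by omega) (by omega)
                · skip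
                  exact allRangeF_sound _ _ (checkPointF_eq cert) 6775 25 chkP_6775 i (by omega) (by omega)
            · skip
              rcases Nat.lt_or_ge i 6850 with h7 | h7
              · skip
                rcases Nat.lt_or_ge i 6825 with h8 | h8
                · skip
                  exact allRangeF_sound _ _ (checkPointF_eq cert) 6800 25 chkP_6800 i (by omega) (by omega)
                · skip
                  exact allRangeF_sound _ _ (checkPointF_eq cert) 6825 25 chkP_6825 i (by omega) (by omega)
              · skip
                rcases Nat.lt_or_ge i 6875 with h8 | h8
                · skip
                  exact allRangeF_sound _ _ (checkPointF_eq cert) 6850 25 chkP_6850 i (by omega) (by omega)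
                · skip
                  rcases Nat.lt_or_ge i 6900 with h9 | h9
                  · skip
                    exact allRangeF_sound _ _ (checkPointF_eq cert) 6875 25 chkP_6875 i (by omega) (by omega)
                  · skip
                    exact allRangeF_sound _ _ (checkPointF_eq cert) 6900 25 chkP_6900 i (by omega) (by omega)
          · skip
            rcases Nat.lt_or_ge i 7050 with h6 | h6
            · skip
              rcases Nat.lt_or_ge i 6975 with h7 | h7
              · skip
                rcases Nat.lt_or_ge i 6950 with h8 | h8
                · skip
                  exact allRangeF_sound _ _ (checkPointF_eq cert) 6925 25 chkP_6925 i (by omega) (by omega)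
                · skip
                  exact allRangeF_sound _ _ (checkPointF_eq cert) 6950 25 chkP_6950 i (by omega) (by omega)
              · skip
                rcases Nat.lt_or_ge i 7000 with h8 | h8
                · skip
                  exact allRangeF_sound _ _ (checkPointF_eq cert) 6975 25 chkP_6975 i (by omega) (by omega)
                · skip
                  rcases Nat.lt_or_ge i 7025 with h9 | h9
                  · skip
                    exact allRangeF_sound _ _ (checkPointF_eq cert) 7000 25 chkP_7000 i (by omega) (by omega)
                  · skip
                    exact allRangeF_sound _ _ (checkPointF_eq cert) 7025 25 chkP_7025 i (by omega) (by omega)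
            · skip
              rcases Nat.lt_or_ge i 7100 with h7 | h7
              · skip
                rcases Nat.lt_or_ge i 7075 with h8 | h8
                · skip
                  exact allRangeF_sound _ _ (checkPointF_eq cert) 7050 25 chkP_7050 i (by omega) (by omega)
                · skip
                  exact allRangeF_sound _ _ (checkPointF_eq cert) 7075 25 chkP_7075 i (by omega) (by omega)
              · skip
                rcases Nat.lt_or_ge i 7125 with h8 | h8
                · skip
                  exact allRangeF_sound _ _ (checkPointF_eq cert) 7100 25 chkP_7100 i (by omega) (by omega)
                · skip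
                  rcases Nat.lt_or_ge i 7150 with h9 | h9
                  · skip
                    exact allRangeF_sound _ _ (checkPointF_eq cert) 7125 25 chkP_7125 i (by omega) (by omega)
                  · skip
                    exact allRangeF_sound _ _ (checkPointF_eq cert) 7150 25 chkP_7150 i (by omega) (by omega)
        · skip
          rcases Nat.lt_or_ge i 7425 with h5 | h5
          · skip
            rcases Nat.lt_or_ge i 7300 with h6 | h6
            · skip
              rcases Nat.lt_or_ge i 7225 with h7 | h7
              · skip
                rcases Nat.lt_or_ge i 7200 with h8 | h8
                · skip
                  exact allRangeF_sound _ _ (checkPointF_eq cert) 7175 25 chkP_7175 i (by omega) (by omega)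
                · skip
                  exact allRangeF_sound _ _ (checkPointF_eq cert) 7200 25 chkP_7200 i (by omega) (by omega)
              · skip
                rcases Nat.lt_or_ge i 7250 with h8 | h8
                · skip
                  exact allRangeF_sound _ _ (checkPointF_eq cert) 7225 25 chkP_7225 i (by omega) (by omega)
                · skip
                  rcases Nat.lt_or_ge i 7275 with h9 | h9
                  · skip
                    exact allRangeF_sound _ _ (checkPointF_eq cert) 7250 25 chkP_7250 i (by omega) (by omega)
                  · skip
                    exact allRangeF_sound _ _ (checkPointF_eq cert) 7275 25 chkP_7275 i (by omega) (by omega)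
            · skip
              rcases Nat.lt_or_ge i 7350 with h7 | h7
              · skip
                rcases Nat.lt_or_ge i 7325 with h8 | h8
                · skip
                  exact allRangeF_sound _ _ (checkPointF_eq cert) 7300 25 chkP_7300 i (by omega) (by omega)
                · skip
                  exact allRangeF_sound _ _ (checkPointF_eq cert) 7325 25 chkP_7325 i (by omega) (by omega)
              · skip
                rcases Nat.lt_or_ge i 7375 with h8 | h8
                · skip
                  exact allRangeF_sound _ _ (checkPointF_eq cert) 7350 25 chkP_7350 i (by omega) (by omega)
                · skip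
                  rcases Nat.lt_or_ge i 7400 with h9 | h9
                  · skip
                    exact allRangeF_sound _ _ (checkPointF_eq cert) 7375 25 chkP_7375 i (by omega) (by omega)
                  · skip
                    exact allRangeF_sound _ _ (checkPointF_eq cert) 7400 25 chkP_7400 i (by omega) (by omega)
          · skip
            rcases Nat.lt_or_ge i 7550 with h6 | h6
            · skip
              rcases Nat.lt_or_ge i 7475 with h7 | h7
              · skip
                rcases Nat.lt_or_ge i 7450 with h8 | h8
                · skip
                  exact allRangeF_sound _ _ (checkPointF_eq cert) 7425 25 chkP_7425 i (by omega) (by omega)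
                · skip
                  exact allRangeF_sound _ _ (checkPointF_eq cert) 7450 25 chkP_7450 i (by omega) (by omega)
              · skip
                rcases Nat.lt_or_ge i 7500 with h8 | h8
                · skip
                  exact allRangeF_sound _ _ (checkPointF_eq cert) 7475 25 chkP_7475 i (by omega) (by omega)
                · skip
                  rcases Nat.lt_or_ge i 7525 with h9 | h9
                  · skip
                    exact allRangeF_sound _ _ (checkPointF_eq cert) 7500 25 chkP_7500 i (by omega) (by omega)
                  · skip
                    exact allRangeF_sound _ _ (checkPointF_eq cert) 7525 25 chkP_7525 i (by omega) (by omega)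
            · skip
              rcases Nat.lt_or_ge i 7600 with h7 | h7
              · skip
                rcases Nat.lt_or_ge i 7575 with h8 | h8
                · skip
                  exact allRangeF_sound _ _ (checkPointF_eq cert) 7550 25 chkP_7550 i (by omega) (by omega)
                · skip
                  exact allRangeF_sound _ _ (checkPointF_eq cert) 7575 25 chkP_7575 i (by omega) (by omega)
              · skip
                rcases Nat.lt_or_ge i 7625 with h8 | h8
                · skip
                  exact allRangeF_sound _ _ (checkPointF_eq cert) 7600 25 chkP_7600 i (by omega) (by omega)
                · skip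
                  rcases Nat.lt_or_ge i 7650 with h9 | h9
                  · skip
                    exact allRangeF_sound _ _ (checkPointF_eq cert) 7625 25 chkP_7625 i (by omega) (by omega)
                  · skip
                    exact allRangeF_sound _ _ (checkPointF_eq cert) 7650 25 chkP_7650 i (by omega) (by omega)

end Cfsg.Agent.Lib.Helper28.Fi24Data
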