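import Cfsg.Agent.Lib.Helper28.Fi24Data
import Cfsg.Agent.Lib.Helper28.TCFastB

set_option autoImplicit false
set_option maxRecDepth 1000000
set_option linter.all false
set_option Elab.async false

namespace Cfsg.Agent.Lib.Helper28.Fi24Data

open Cfsg.Agent.Lib.Helper28B

theorem chkP_107450 : allRangeF (checkPointF cert) (nat_lit 107450) (nat_lit 25) = true := by decide +kernel
theorem chkP_107475 : allRangeF (checkPointF cert) (nat_lit 107475) (nat_lit 25) = true := by decide +kernel
theorem chkP_107500 : allRangeF (checkPointF cert) (nat_lit 107500) (nat_lit 25) = true := by decide +kernel
theorem chkP_107525 : allRangeF (checkPointF cert) (nat_lit 107525) (nat_lit 25) = true := by decide +kernel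
theorem chkP_107550 : allRangeF (checkPointF cert) (nat_lit 107550) (nat_lit 25) = true := by decide +kernel
theorem chkP_107575 : allRangeF (checkPointF cert) (nat_lit 107575) (nat_lit 25) = true := by decide +kernel
theorem chkP_107600 : allRangeF (checkPointF cert) (nat_lit 107600) (nat_lit 25) = true := by decide +kernel
theorem chkP_107625 : allRangeF (checkPointF cert) (nat_lit 107625) (nat_lit 25) = true := by decide +kernel
theorem chkP_107650 : allRangeF (checkPointF cert) (nat_lit 107650) (nat_lit 25) = true := by decide +kernel
theorem chkP_107675 : allRangeF (checkPointF cert) (nat_lit 107675) (nat_lit 25) = true := by decide +kernel
theorem chkP_107700 : allRangeF (checkPointF cert) (nat_lit 107700) (nat_lit 25) = true := by decide +kernel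
theorem chkP_107725 : allRangeF (checkPointF cert) (nat_lit 107725) (nat_lit 25) = true := by decide +kernel
theorem chkP_107750 : allRangeF (checkPointF cert) (nat_lit 107750) (nat_lit 25) = true := by decide +kernel
theorem chkP_107775 : allRangeF (checkPointF cert) (nat_lit 107775) (nat_lit 25) = true := by decide +kernel
theorem chkP_107800 : allRangeF (checkPointF cert) (nat_lit 107800) (nat_lit 25) = true := by decide +kernel
theorem chkP_107825 : allRangeF (checkPointF cert) (nat_lit 107825) (nat_lit 25) = true := by decide +kernel
theorem chkP_107850 : allRangeF (checkPointF cert) (nat_lit 107850) (nat_lit 25) = true := by decide +kernel
theorem chkP_107875 : allRangeF (checkPointF cert) (nat_lit 107875) (nat_lit 25) = true := by decide +kernel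
theorem chkP_107900 : allRangeF (checkPointF cert) (nat_lit 107900) (nat_lit 25) = true := by decide +kernel
theorem chkP_107925 : allRangeF (checkPointF cert) (nat_lit 107925) (nat_lit 25) = true := by decide +kernel
theorem chkP_107950 : allRangeF (checkPointF cert) (nat_lit 107950) (nat_lit 25) = true := by decide +kernel
theorem chkP_107975 : allRangeF (checkPointF cert) (nat_lit 107975) (nat_lit 25) = true := by decide +kernel
theorem chkP_108000 : allRangeF (checkPointF cert) (nat_lit 108000) (nat_lit 25) = true := by decide +kernel
theorem chkP_108025 : allRangeF (checkPointF cert) (nat_lit 108025) (nat_lit 25) = true := by decide +kernel
theorem chkP_108050 : allRangeF (checkPointF cert) (nat_lit 108050) (nat_lit 25) = true := by decide +kernel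
theorem chkP_108075 : allRangeF (checkPointF cert) (nat_lit 108075) (nat_lit 25) = true := by decide +kernel
theorem chkP_108100 : allRangeF (checkPointF cert) (nat_lit 108100) (nat_lit 25) = true := by decide +kernel
theorem chkP_108125 : allRangeF (checkPointF cert) (nat_lit 108125) (nat_lit 25) = true := by decide +kernel
theorem chkP_108150 : allRangeF (checkPointF cert) (nat_lit 108150) (nat_lit 25) = true := by decide +kernel
theorem chkP_108175 : allRangeF (checkPointF cert) (nat_lit 108175) (nat_lit 25) = true := by decide +kernel
theorem chkP_108200 : allRangeF (checkPointF cert) (nat_lit 108200) (nat_lit 25) = true := by decide +kernel
theorem chkP_108225 : allRangeF (checkPointF cert) (nat_lit 108225) (nat_lit 25) = true := by decide +kernel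
theorem chkP_108250 : allRangeF (checkPointF cert) (nat_lit 108250) (nat_lit 25) = true := by decide +kernel
theorem chkP_108275 : allRangeF (checkPointF cert) (nat_lit 108275) (nat_lit 25) = true := by decide +kernel
theorem chkP_108300 : allRangeF (checkPointF cert) (nat_lit 108300) (nat_lit 25) = true := by decide +kernel
theorem chkP_108325 : allRangeF (checkPointF cert) (nat_lit 108325) (nat_lit 25) = true := by decide +kernel
theorem chkP_108350 : allRangeF (checkPointF cert) (nat_lit 108350) (nat_lit 25) = true := by decide +kernel
theorem chkP_108375 : allRangeF (checkPointF cert) (nat_lit 108375) (nat_lit 25) = true := by decide +kernel
theorem chkP_108400 : allRangeF (checkPointF cert) (nat_lit 108400) (nat_lit 25) = true := by decide +kernel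
theorem chkP_108425 : allRangeF (checkPointF cert) (nat_lit 108425) (nat_lit 25) = true := by decide +kernel
theorem chkP_108450 : allRangeF (checkPointF cert) (nat_lit 108450) (nat_lit 25) = true := by decide +kernel
theorem chkP_108475 : allRangeF (checkPointF cert) (nat_lit 108475) (nat_lit 25) = true := by decide +kernel
theorem chkP_108500 : allRangeF (checkPointF cert) (nat_lit 108500) (nat_lit 25) = true := by decide +kernel
theorem chkP_108525 : allRangeF (checkPointF cert) (nat_lit 108525) (nat_lit 25) = true := by decide +kernel
theorem chkP_108550 : allRangeF (checkPointF cert) (nat_lit 108550) (nat_lit 25) = true := by decide +kernel
theorem chkP_108575 : allRangeF (checkPointF cert) (nat_lit 108575) (nat_lit 25) = true := by decide +kernel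
theorem chkP_108600 : allRangeF (checkPointF cert) (nat_lit 108600) (nat_lit 25) = true := by decide +kernel
theorem chkP_108625 : allRangeF (checkPointF cert) (nat_lit 108625) (nat_lit 25) = true := by decide +kernel
theorem chkP_108650 : allRangeF (checkPointF cert) (nat_lit 108650) (nat_lit 25) = true := by decide +kernel
theorem chkP_108675 : allRangeF (checkPointF cert) (nat_lit 108675) (nat_lit 25) = true := by decide +kernel
theorem chkP_108700 : allRangeF (checkPointF cert) (nat_lit 108700) (nat_lit 25) = true := by decide +kernel
theorem chkP_108725 : allRangeF (checkPointF cert) (nat_lit 108725) (nat_lit 25) = true := by decide +kernel
theorem chkP_108750 : allRangeF (checkPointF cert) (nat_lit 108750) (nat_lit 25) = true := by decide +kernel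
theorem chkP_108775 : allRangeF (checkPointF cert) (nat_lit 108775) (nat_lit 25) = true := by decide +kernel
theorem chkP_108800 : allRangeF (checkPointF cert) (nat_lit 108800) (nat_lit 25) = true := by decide +kernel
theorem chkP_108825 : allRangeF (checkPointF cert) (nat_lit 108825) (nat_lit 25) = true := by decide +kernel
theorem chkP_108850 : allRangeF (checkPointF cert) (nat_lit 108850) (nat_lit 25) = true := by decide +kernel
theorem chkP_108875 : allRangeF (checkPointF cert) (nat_lit 108875) (nat_lit 25) = true := by decide +kernel
theorem chkP_108900 : allRangeF (checkPointF cert) (nat_lit 108900) (nat_lit 25) = true := by decide +kernel
theorem chkP_108925 : allRangeF (checkPointF cert) (nat_lit 108925) (nat_lit 25) = true := by decide +kernel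
theorem chkP_108950 : allRangeF (checkPointF cert) (nat_lit 108950) (nat_lit 25) = true := by decide +kernel
theorem chkP_108975 : allRangeF (checkPointF cert) (nat_lit 108975) (nat_lit 25) = true := by decide +kernel
theorem chkP_109000 : allRangeF (checkPointF cert) (nat_lit 109000) (nat_lit 25) = true := by decide +kernel
theorem chkP_109025 : allRangeF (checkPointF cert) (nat_lit 109025) (nat_lit 25) = true := by decide +kernel
theorem chkP_109050 : allRangeF (checkPointF cert) (nat_lit 109050) (nat_lit 25) = true := by decide +kernel
theorem chkP_109075 : allRangeF (checkPointF cert) (nat_lit 109075) (nat_lit 25) = true := by decide +kernel
theorem chkP_109100 : allRangeF (checkPointF cert) (nat_lit 109100) (nat_lit 25) = true := by decide +kernel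
theorem chkP_109125 : allRangeF (checkPointF cert) (nat_lit 109125) (nat_lit 25) = true := by decide +kernel
theorem chkP_109150 : allRangeF (checkPointF cert) (nat_lit 109150) (nat_lit 25) = true := by decide +kernel
theorem chkP_109175 : allRangeF (checkPointF cert) (nat_lit 109175) (nat_lit 25) = true := by decide +kernel
theorem chkP_109200 : allRangeF (checkPointF cert) (nat_lit 109200) (nat_lit 25) = true := by decide +kernel
theorem chkP_109225 : allRangeF (checkPointF cert) (nat_lit 109225) (nat_lit 25) = true := by decide +kernel
theorem chkP_109250 : allRangeF (checkPointF cert) (nat_lit 109250) (nat_lit 25) = true := by decide +kernel
theorem chkP_109275 : allRangeF (checkPointF cert) (nat_lit 109275) (nat_lit 25) = true := by decide +kernel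
theorem chkP_109300 : allRangeF (checkPointF cert) (nat_lit 109300) (nat_lit 25) = true := by decide +kernel
theorem chkP_109325 : allRangeF (checkPointF cert) (nat_lit 109325) (nat_lit 25) = true := by decide +kernel
theorem chkP_109350 : allRangeF (checkPointF cert) (nat_lit 109350) (nat_lit 25) = true := by decide +kernel
theorem chkP_109375 : allRangeF (checkPointF cert) (nat_lit 109375) (nat_lit 25) = true := by decide +kernel
theorem chkP_109400 : allRangeF (checkPointF cert) (nat_lit 109400) (nat_lit 25) = true := by decide +kernel
theorem chkP_109425 : allRangeF (checkPointF cert) (nat_lit 109425) (nat_lit 25) = true := by decide +kernel
theorem chkP_109450 : allRangeF (checkPointF cert) (nat_lit 109450) (nat_lit 25) = true := by decide +kernel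
theorem chkP_109475 : allRangeF (checkPointF cert) (nat_lit 109475) (nat_lit 25) = true := by decide +kernel
theorem chkP_109500 : allRangeF (checkPointF cert) (nat_lit 109500) (nat_lit 25) = true := by decide +kernel
theorem chkP_109525 : allRangeF (checkPointF cert) (nat_lit 109525) (nat_lit 25) = true := by decide +kernel
theorem chkP_109550 : allRangeF (checkPointF cert) (nat_lit 109550) (nat_lit 25) = true := by decide +kernel
theorem chkP_109575 : allRangeF (checkPointF cert) (nat_lit 109575) (nat_lit 25) = true := by decide +kernel
theorem chkP_109600 : allRangeF (checkPointF cert) (nat_lit 109600) (nat_lit 25) = true := by decide +kernel
theorem chkP_109625 : allRangeF (checkPointF cert) (nat_lit 109625) (nat_lit 25) = true := by decide +kernel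
theorem chkP_109650 : allRangeF (checkPointF cert) (nat_lit 109650) (nat_lit 25) = true := by decide +kernel
theorem chkP_109675 : allRangeF (checkPointF cert) (nat_lit 109675) (nat_lit 25) = true := by decide +kernel
theorem chkP_109700 : allRangeF (checkPointF cert) (nat_lit 109700) (nat_lit 25) = true := by decide +kernel
theorem chkP_109725 : allRangeF (checkPointF cert) (nat_lit 109725) (nat_lit 25) = true := by decide +kernel
theorem chkP_109750 : allRangeF (checkPointF cert) (nat_lit 109750) (nat_lit 25) = true := by decide +kernel
theorem chkP_109775 : allRangeF (checkPointF cert) (nat_lit 109775) (nat_lit 25) = true := by decide +kernel
theorem chkP_109800 : allRangeF (checkPointF cert) (nat_lit 109800) (nat_lit 25) = true := by decide +kernel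
theorem chkP_109825 : allRangeF (checkPointF cert) (nat_lit 109825) (nat_lit 25) = true := by decide +kernel
theorem chkP_109850 : allRangeF (checkPointF cert) (nat_lit 109850) (nat_lit 25) = true := by decide +kernel
theorem chkP_109875 : allRangeF (checkPointF cert) (nat_lit 109875) (nat_lit 25) = true := by decide +kernel
theorem chkP_109900 : allRangeF (checkPointF cert) (nat_lit 109900) (nat_lit 25) = true := by decide +kernel
theorem chkP_109925 : allRangeF (checkPointF cert) (nat_lit 109925) (nat_lit 25) = true := by decide +kernel
theorem chkP_109950 : allRangeF (checkPointF cert) (nat_lit 109950) (nat_lit 25) = true := by decide +kernel
theorem chkP_109975 : allRangeF (checkPointF cert) (nat_lit 109975) (nat_lit 25) = true := by decide +kernel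
theorem chkP_110000 : allRangeF (checkPointF cert) (nat_lit 110000) (nat_lit 25) = true := by decide +kernel
theorem chkP_110025 : allRangeF (checkPointF cert) (nat_lit 110025) (nat_lit 25) = true := by decide +kernel
theorem chkP_110050 : allRangeF (checkPointF cert) (nat_lit 110050) (nat_lit 25) = true := by decide +kernel
theorem chkP_110075 : allRangeF (checkPointF cert) (nat_lit 110075) (nat_lit 25) = true := by decide +kernel
theorem chkP_110100 : allRangeF (checkPointF cert) (nat_lit 110100) (nat_lit 25) = true := by decide +kernel
theorem chkP_110125 : allRangeF (checkPointF cert) (nat_lit 110125) (nat_lit 25) = true := by decide +kernel
theorem chkP_110150 : allRangeF (checkPointF cert) (nat_lit 110150) (nat_lit 25) = true := by decide +kernel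
theorem chkP_110175 : allRangeF (checkPointF cert) (nat_lit 110175) (nat_lit 25) = true := by decide +kernel
theorem chkP_110200 : allRangeF (checkPointF cert) (nat_lit 110200) (nat_lit 25) = true := by decide +kernel
theorem chkP_110225 : allRangeF (checkPointF cert) (nat_lit 110225) (nat_lit 25) = true := by decide +kernel
theorem chkP_110250 : allRangeF (checkPointF cert) (nat_lit 110250) (nat_lit 25) = true := by decide +kernel
theorem chkP_110275 : allRangeF (checkPointF cert) (nat_lit 110275) (nat_lit 25) = true := by decide +kernel
theorem chkP_110300 : allRangeF (checkPointF cert) (nat_lit 110300) (nat_lit 25) = true := by decide +kernel
theorem chkP_110325 : allRangeF (checkPointF cert) (nat_lit 110325) (nat_lit 25) = true := by decide +kernel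
theorem chkP_110350 : allRangeF (checkPointF cert) (nat_lit 110350) (nat_lit 25) = true := by decide +kernel
theorem chkP_110375 : allRangeF (checkPointF cert) (nat_lit 110375) (nat_lit 25) = true := by decide +kernel
theorem chkP_110400 : allRangeF (checkPointF cert) (nat_lit 110400) (nat_lit 25) = true := by decide +kernel
theorem chkP_110425 : allRangeF (checkPointF cert) (nat_lit 110425) (nat_lit 25) = true := by decide +kernel
theorem chkP_110450 : allRangeF (checkPointF cert) (nat_lit 110450) (nat_lit 25) = true := by decide +kernel
theorem chkP_110475 : allRangeF (checkPointF cert) (nat_lit 110475) (nat_lit 25) = true := by decide +kernel
theorem chkP_110500 : allRangeF (checkPointF cert) (nat_lit 110500) (nat_lit 25) = true := by decide +kernel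
theorem chkP_110525 : allRangeF (checkPointF cert) (nat_lit 110525) (nat_lit 25) = true := by decide +kernel
theorem chkP_110550 : allRangeF (checkPointF cert) (nat_lit 110550) (nat_lit 25) = true := by decide +kernel
theorem chkP_110575 : allRangeF (checkPointF cert) (nat_lit 110575) (nat_lit 25) = true := by decide +kernel
theorem chkP_110600 : allRangeF (checkPointF cert) (nat_lit 110600) (nat_lit 25) = true := by decide +kernel
theorem chkP_110625 : allRangeF (checkPointF cert) (nat_lit 110625) (nat_lit 25) = true := by decide +kernel
theorem chkP_110650 : allRangeF (checkPointF cert) (nat_lit 110650) (nat_lit 25) = true := by decide +kernel
theorem chkP_110675 : allRangeF (checkPointF cert) (nat_lit 110675) (nat_lit 25) = true := by decide +kernel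
theorem chkP_110700 : allRangeF (checkPointF cert) (nat_lit 110700) (nat_lit 25) = true := by decide +kernel
theorem chkP_110725 : allRangeF (checkPointF cert) (nat_lit 110725) (nat_lit 25) = true := by decide +kernel
theorem chkP_110750 : allRangeF (checkPointF cert) (nat_lit 110750) (nat_lit 25) = true := by decide +kernel
theorem chkP_110775 : allRangeF (checkPointF cert) (nat_lit 110775) (nat_lit 25) = true := by decide +kernel
theorem chkP_110800 : allRangeF (checkPointF cert) (nat_lit 110800) (nat_lit 25) = true := by decide +kernel
theorem chkP_110825 : allRangeF (checkPointF cert) (nat_lit 110825) (nat_lit 25) = true := by decide +kernel
theorem chkP_110850 : allRangeF (checkPointF cert) (nat_lit 110850) (nat_lit 25) = true := by decide +kernel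
theorem chkP_110875 : allRangeF (checkPointF cert) (nat_lit 110875) (nat_lit 25) = true := by decide +kernel
theorem chkP_110900 : allRangeF (checkPointF cert) (nat_lit 110900) (nat_lit 25) = true := by decide +kernel
theorem chkP_110925 : allRangeF (checkPointF cert) (nat_lit 110925) (nat_lit 25) = true := by decide +kernel
theorem chkP_110950 : allRangeF (checkPointF cert) (nat_lit 110950) (nat_lit 25) = true := by decide +kernel
theorem chkP_110975 : allRangeF (checkPointF cert) (nat_lit 110975) (nat_lit 25) = true := by decide +kernel
theorem chkP_111000 : allRangeF (checkPointF cert) (nat_lit 111000) (nat_lit 25) = true := by decide +kernel
theorem chkP_111025 : allRangeF (checkPointF cert) (nat_lit 111025) (nat_lit 25) = true := by decide +kernel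
theorem chkP_111050 : allRangeF (checkPointF cert) (nat_lit 111050) (nat_lit 25) = true := by decide +kernel
theorem chkP_111075 : allRangeF (checkPointF cert) (nat_lit 111075) (nat_lit 25) = true := by decide +kernel
theorem chkP_111100 : allRangeF (checkPointF cert) (nat_lit 111100) (nat_lit 25) = true := by decide +kernel
theorem chkP_111125 : allRangeF (checkPointF cert) (nat_lit 111125) (nat_lit 25) = true := by decide +kernel
theorem chkP_111150 : allRangeF (checkPointF cert) (nat_lit 111150) (nat_lit 25) = true := by decide +kernel
theorem chkP_111175 : allRangeF (checkPointF cert) (nat_lit 111175) (nat_lit 25) = true := by decide +kernel
theorem chkP_111200 : allRangeF (checkPointF cert) (nat_lit 111200) (nat_lit 25) = true := by decide +kernel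
theorem chkP_111225 : allRangeF (checkPointF cert) (nat_lit 111225) (nat_lit 25) = true := by decide +kernel
theorem chkP_111250 : allRangeF (checkPointF cert) (nat_lit 111250) (nat_lit 25) = true := by decide +kernel
theorem chkP_111275 : allRangeF (checkPointF cert) (nat_lit 111275) (nat_lit 25) = true := by decide +kernel
theorem chkP_111300 : allRangeF (checkPointF cert) (nat_lit 111300) (nat_lit 25) = true := by decide +kernel
theorem chkP_111325 : allRangeF (checkPointF cert) (nat_lit 111325) (nat_lit 25) = true := by decide +kernel
theorem chkP_111350 : allRangeF (checkPointF cert) (nat_lit 111350) (nat_lit 25) = true := by decide +kernel
theorem chkP_111375 : allRangeF (checkPointF cert) (nat_lit 111375) (nat_lit 25) = true := by decide +kernel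
theorem chkP_111400 : allRangeF (checkPointF cert) (nat_lit 111400) (nat_lit 25) = true := by decide +kernel
theorem chkP_111425 : allRangeF (checkPointF cert) (nat_lit 111425) (nat_lit 25) = true := by decide +kernel
theorem chkP_111450 : allRangeF (checkPointF cert) (nat_lit 111450) (nat_lit 25) = true := by decide +kernel
theorem chkP_111475 : allRangeF (checkPointF cert) (nat_lit 111475) (nat_lit 25) = true := by decide +kernel
theorem chkP_111500 : allRangeF (checkPointF cert) (nat_lit 111500) (nat_lit 25) = true := by decide +kernel
theorem chkP_111525 : allRangeF (checkPointF cert) (nat_lit 111525) (nat_lit 25) = true := by decide +kernel
theorem chkP_111550 : allRangeF (checkPointF cert) (nat_lit 111550) (nat_lit 25) = true := by decide +kernel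
theorem chkP_111575 : allRangeF (checkPointF cert) (nat_lit 111575) (nat_lit 25) = true := by decide +kernel
theorem chkP_111600 : allRangeF (checkPointF cert) (nat_lit 111600) (nat_lit 25) = true := by decide +kernel
theorem chkP_111625 : allRangeF (checkPointF cert) (nat_lit 111625) (nat_lit 25) = true := by decide +kernel
theorem chkP_111650 : allRangeF (checkPointF cert) (nat_lit 111650) (nat_lit 25) = true := by decide +kernel
theorem chkP_111675 : allRangeF (checkPointF cert) (nat_lit 111675) (nat_lit 25) = true := by decide +kernel
theorem chkP_111700 : allRangeF (checkPointF cert) (nat_lit 111700) (nat_lit 25) = true := by decide +kernel
theorem chkP_111725 : allRangeF (checkPointF cert) (nat_lit 111725) (nat_lit 25) = true := by decide +kernel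
theorem chkP_111750 : allRangeF (checkPointF cert) (nat_lit 111750) (nat_lit 25) = true := by decide +kernel
theorem chkP_111775 : allRangeF (checkPointF cert) (nat_lit 111775) (nat_lit 25) = true := by decide +kernel
theorem chkP_111800 : allRangeF (checkPointF cert) (nat_lit 111800) (nat_lit 25) = true := by decide +kernel
theorem chkP_111825 : allRangeF (checkPointF cert) (nat_lit 111825) (nat_lit 25) = true := by decide +kernel
theorem chkP_111850 : allRangeF (checkPointF cert) (nat_lit 111850) (nat_lit 25) = true := by decide +kernel
theorem chkP_111875 : allRangeF (checkPointF cert) (nat_lit 111875) (nat_lit 25) = true := by decide +kernel
theorem chkP_111900 : allRangeF (checkPointF cert) (nat_lit 111900) (nat_lit 25) = true := by decide +kernel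
theorem chkP_111925 : allRangeF (checkPointF cert) (nat_lit 111925) (nat_lit 25) = true := by decide +kernel
theorem chkP_111950 : allRangeF (checkPointF cert) (nat_lit 111950) (nat_lit 25) = true := by decide +kernel
theorem chkP_111975 : allRangeF (checkPointF cert) (nat_lit 111975) (nat_lit 25) = true := by decide +kernel
theorem chkP_112000 : allRangeF (checkPointF cert) (nat_lit 112000) (nat_lit 25) = true := by decide +kernel
theorem chkP_112025 : allRangeF (checkPointF cert) (nat_lit 112025) (nat_lit 25) = true := by decide +kernel
theorem chkP_112050 : allRangeF (checkPointF cert) (nat_lit 112050) (nat_lit 25) = true := by decide +kernel
theorem chkP_112075 : allRangeF (checkPointF cert) (nat_lit 112075) (nat_lit 25) = true := by decide +kernel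
theorem chkP_112100 : allRangeF (checkPointF cert) (nat_lit 112100) (nat_lit 25) = true := by decide +kernel
theorem chkP_112125 : allRangeF (checkPointF cert) (nat_lit 112125) (nat_lit 25) = true := by decide +kernel
theorem chkP_112150 : allRangeF (checkPointF cert) (nat_lit 112150) (nat_lit 25) = true := by decide +kernel
theorem chkP_112175 : allRangeF (checkPointF cert) (nat_lit 112175) (nat_lit 25) = true := by decide +kernel
theorem chkP_112200 : allRangeF (checkPointF cert) (nat_lit 112200) (nat_lit 25) = true := by decide +kernel
theorem chkP_112225 : allRangeF (checkPointF cert) (nat_lit 112225) (nat_lit 25) = true := by decide +kernel
theorem chkP_112250 : allRangeF (checkPointF cert) (nat_lit 112250) (nat_lit 25) = true := by decide +kernel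
theorem chkP_112275 : allRangeF (checkPointF cert) (nat_lit 112275) (nat_lit 25) = true := by decide +kernel
theorem chkP_112300 : allRangeF (checkPointF cert) (nat_lit 112300) (nat_lit 25) = true := by decide +kernel
theorem chkP_112325 : allRangeF (checkPointF cert) (nat_lit 112325) (nat_lit 25) = true := by decide +kernel
theorem chkP_112350 : allRangeF (checkPointF cert) (nat_lit 112350) (nat_lit 25) = true := by decide +kernel
theorem chkP_112375 : allRangeF (checkPointF cert) (nat_lit 112375) (nat_lit 25) = true := by decide +kernel
theorem chkP_112400 : allRangeF (checkPointF cert) (nat_lit 112400) (nat_lit 25) = true := by decide +kernel
theorem chkP_112425 : allRangeF (checkPointF cert) (nat_lit 112425) (nat_lit 25) = true := by decide +kernel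
theorem chkP_112450 : allRangeF (checkPointF cert) (nat_lit 112450) (nat_lit 25) = true := by decide +kernel
theorem chkP_112475 : allRangeF (checkPointF cert) (nat_lit 112475) (nat_lit 25) = true := by decide +kernel
theorem chkP_112500 : allRangeF (checkPointF cert) (nat_lit 112500) (nat_lit 25) = true := by decide +kernel
theorem chkP_112525 : allRangeF (checkPointF cert) (nat_lit 112525) (nat_lit 25) = true := by decide +kernel
theorem chkP_112550 : allRangeF (checkPointF cert) (nat_lit 112550) (nat_lit 25) = true := by decide +kernel
theorem chkP_112575 : allRangeF (checkPointF cert) (nat_lit 112575) (nat_lit 25) = true := by decide +kernel
theorem chkP_112600 : allRangeF (checkPointF cert) (nat_lit 112600) (nat_lit 25) = true := by decide +kernel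
theorem chkP_112625 : allRangeF (checkPointF cert) (nat_lit 112625) (nat_lit 25) = true := by decide +kernel
theorem chkP_112650 : allRangeF (checkPointF cert) (nat_lit 112650) (nat_lit 25) = true := by decide +kernel
theorem chkP_112675 : allRangeF (checkPointF cert) (nat_lit 112675) (nat_lit 25) = true := by decide +kernel
theorem chkP_112700 : allRangeF (checkPointF cert) (nat_lit 112700) (nat_lit 25) = true := by decide +kernel
theorem chkP_112725 : allRangeF (checkPointF cert) (nat_lit 112725) (nat_lit 25) = true := by decide +kernel
theorem chkP_112750 : allRangeF (checkPointF cert) (nat_lit 112750) (nat_lit 25) = true := by decide +kernel
theorem chkP_112775 : allRangeF (checkPointF cert) (nat_lit 112775) (nat_lit 25) = true := by decide +kernel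
theorem chkP_112800 : allRangeF (checkPointF cert) (nat_lit 112800) (nat_lit 25) = true := by decide +kernel
theorem chkP_112825 : allRangeF (checkPointF cert) (nat_lit 112825) (nat_lit 25) = true := by decide +kernel
theorem chkP_112850 : allRangeF (checkPointF cert) (nat_lit 112850) (nat_lit 25) = true := by decide +kernel
theorem chkP_112875 : allRangeF (checkPointF cert) (nat_lit 112875) (nat_lit 25) = true := by decide +kernel
theorem chkP_112900 : allRangeF (checkPointF cert) (nat_lit 112900) (nat_lit 25) = true := by decide +kernel
theorem chkP_112925 : allRangeF (checkPointF cert) (nat_lit 112925) (nat_lit 25) = true := by decide +kernel
theorem chkP_112950 : allRangeF (checkPointF cert) (nat_lit 112950) (nat_lit 25) = true := by decide +kernel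
theorem chkP_112975 : allRangeF (checkPointF cert) (nat_lit 112975) (nat_lit 25) = true := by decide +kernel
theorem chkP_113000 : allRangeF (checkPointF cert) (nat_lit 113000) (nat_lit 25) = true := by decide +kernel
theorem chkP_113025 : allRangeF (checkPointF cert) (nat_lit 113025) (nat_lit 25) = true := by decide +kernel
theorem chkP_113050 : allRangeF (checkPointF cert) (nat_lit 113050) (nat_lit 25) = true := by decide +kernel
theorem chkP_113075 : allRangeF (checkPointF cert) (nat_lit 113075) (nat_lit 25) = true := by decide +kernel
theorem chkP_113100 : allRangeF (checkPointF cert) (nat_lit 113100) (nat_lit 25) = true := by decide +kernel
theorem chkP_113125 : allRangeF (checkPointF cert) (nat_lit 113125) (nat_lit 25) = true := by decide +kernel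
theorem chkP_113150 : allRangeF (checkPointF cert) (nat_lit 113150) (nat_lit 25) = true := by decide +kernel
theorem chkP_113175 : allRangeF (checkPointF cert) (nat_lit 113175) (nat_lit 25) = true := by decide +kernel
theorem chkP_113200 : allRangeF (checkPointF cert) (nat_lit 113200) (nat_lit 25) = true := by decide +kernel
theorem chkP_113225 : allRangeF (checkPointF cert) (nat_lit 113225) (nat_lit 25) = true := by decide +kernel
theorem chkP_113250 : allRangeF (checkPointF cert) (nat_lit 113250) (nat_lit 25) = true := by decide +kernel
theorem chkP_113275 : allRangeF (checkPointF cert) (nat_lit 113275) (nat_lit 25) = true := by decide +kernel
theorem chkP_113300 : allRangeF (checkPointF cert) (nat_lit 113300) (nat_lit 25) = true := by decide +kernel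
theorem chkP_113325 : allRangeF (checkPointF cert) (nat_lit 113325) (nat_lit 25) = true := by decide +kernel
theorem chkP_113350 : allRangeF (checkPointF cert) (nat_lit 113350) (nat_lit 25) = true := by decide +kernel
theorem chkP_113375 : allRangeF (checkPointF cert) (nat_lit 113375) (nat_lit 25) = true := by decide +kernel
theorem chkP_113400 : allRangeF (checkPointF cert) (nat_lit 113400) (nat_lit 25) = true := by decide +kernel
theorem chkP_113425 : allRangeF (checkPointF cert) (nat_lit 113425) (nat_lit 25) = true := by decide +kernel
theorem chkP_113450 : allRangeF (checkPointF cert) (nat_lit 113450) (nat_lit 25) = true := by decide +kernel
theorem chkP_113475 : allRangeF (checkPointF cert) (nat_lit 113475) (nat_lit 25) = true := by decide +kernel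
theorem chkP_113500 : allRangeF (checkPointF cert) (nat_lit 113500) (nat_lit 25) = true := by decide +kernel
theorem chkP_113525 : allRangeF (checkPointF cert) (nat_lit 113525) (nat_lit 25) = true := by decide +kernel
theorem chkP_113550 : allRangeF (checkPointF cert) (nat_lit 113550) (nat_lit 25) = true := by decide +kernel
theorem chkP_113575 : allRangeF (checkPointF cert) (nat_lit 113575) (nat_lit 25) = true := by decide +kernel
theorem chkP_113600 : allRangeF (checkPointF cert) (nat_lit 113600) (nat_lit 25) = true := by decide +kernel
theorem chkP_113625 : allRangeF (checkPointF cert) (nat_lit 113625) (nat_lit 25) = true := by decide +kernel
theorem chkP_113650 : allRangeF (checkPointF cert) (nat_lit 113650) (nat_lit 25) = true := by decide +kernel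
theorem chkP_113675 : allRangeF (checkPointF cert) (nat_lit 113675) (nat_lit 25) = true := by decide +kernel
theorem chkP_113700 : allRangeF (checkPointF cert) (nat_lit 113700) (nat_lit 25) = true := by decide +kernel
theorem chkP_113725 : allRangeF (checkPointF cert) (nat_lit 113725) (nat_lit 25) = true := by decide +kernel
theorem chkP_113750 : allRangeF (checkPointF cert) (nat_lit 113750) (nat_lit 25) = true := by decide +kernel
theorem chkP_113775 : allRangeF (checkPointF cert) (nat_lit 113775) (nat_lit 25) = true := by decide +kernel
theorem chkP_113800 : allRangeF (checkPointF cert) (nat_lit 113800) (nat_lit 25) = true := by decide +kernel
theorem chkP_113825 : allRangeF (checkPointF cert) (nat_lit 113825) (nat_lit 25) = true := by decide +kernel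
theorem chkP_113850 : allRangeF (checkPointF cert) (nat_lit 113850) (nat_lit 25) = true := by decide +kernel
theorem chkP_113875 : allRangeF (checkPointF cert) (nat_lit 113875) (nat_lit 25) = true := by decide +kernel
theorem chkP_113900 : allRangeF (checkPointF cert) (nat_lit 113900) (nat_lit 25) = true := by decide +kernel
theorem chkP_113925 : allRangeF (checkPointF cert) (nat_lit 113925) (nat_lit 25) = true := by decide +kernel
theorem chkP_113950 : allRangeF (checkPointF cert) (nat_lit 113950) (nat_lit 25) = true := by decide +kernel
theorem chkP_113975 : allRangeF (checkPointF cert) (nat_lit 113975) (nat_lit 25) = true := by decide +kernel
theorem chkP_114000 : allRangeF (checkPointF cert) (nat_lit 114000) (nat_lit 25) = true := by decide +kernel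
theorem chkP_114025 : allRangeF (checkPointF cert) (nat_lit 114025) (nat_lit 25) = true := by decide +kernel
theorem chkP_114050 : allRangeF (checkPointF cert) (nat_lit 114050) (nat_lit 25) = true := by decide +kernel
theorem chkP_114075 : allRangeF (checkPointF cert) (nat_lit 114075) (nat_lit 25) = true := by decide +kernel
theorem chkP_114100 : allRangeF (checkPointF cert) (nat_lit 114100) (nat_lit 25) = true := by decide +kernel
theorem chkP_114125 : allRangeF (checkPointF cert) (nat_lit 114125) (nat_lit 25) = true := by decide +kernel
theorem chkP_114150 : allRangeF (checkPointF cert) (nat_lit 114150) (nat_lit 25) = true := by decide +kernel
theorem chkP_114175 : allRangeF (checkPointF cert) (nat_lit 114175) (nat_lit 25) = true := by decide +kernel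
theorem chkP_114200 : allRangeF (checkPointF cert) (nat_lit 114200) (nat_lit 25) = true := by decide +kernel
theorem chkP_114225 : allRangeF (checkPointF cert) (nat_lit 114225) (nat_lit 25) = true := by decide +kernel
theorem chkP_114250 : allRangeF (checkPointF cert) (nat_lit 114250) (nat_lit 25) = true := by decide +kernel
theorem chkP_114275 : allRangeF (checkPointF cert) (nat_lit 114275) (nat_lit 25) = true := by decide +kernel
theorem chkP_114300 : allRangeF (checkPointF cert) (nat_lit 114300) (nat_lit 25) = true := by decide +kernel
theorem chkP_114325 : allRangeF (checkPointF cert) (nat_lit 114325) (nat_lit 25) = true := by decide +kernel
theorem chkP_114350 : allRangeF (checkPointF cert) (nat_lit 114350) (nat_lit 25) = true := by decide +kernel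
theorem chkP_114375 : allRangeF (checkPointF cert) (nat_lit 114375) (nat_lit 25) = true := by decide +kernel
theorem chkP_114400 : allRangeF (checkPointF cert) (nat_lit 114400) (nat_lit 25) = true := by decide +kernel
theorem chkP_114425 : allRangeF (checkPointF cert) (nat_lit 114425) (nat_lit 25) = true := by decide +kernel
theorem chkP_114450 : allRangeF (checkPointF cert) (nat_lit 114450) (nat_lit 25) = true := by decide +kernel
theorem chkP_114475 : allRangeF (checkPointF cert) (nat_lit 114475) (nat_lit 25) = true := by decide +kernel
theorem chkP_114500 : allRangeF (checkPointF cert) (nat_lit 114500) (nat_lit 25) = true := by decide +kernel
theorem chkP_114525 : allRangeF (checkPointF cert) (nat_lit 114525) (nat_lit 25) = true := by decide +kernel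
theorem chkP_114550 : allRangeF (checkPointF cert) (nat_lit 114550) (nat_lit 25) = true := by decide +kernel
theorem chkP_114575 : allRangeF (checkPointF cert) (nat_lit 114575) (nat_lit 25) = true := by decide +kernel
theorem chkP_114600 : allRangeF (checkPointF cert) (nat_lit 114600) (nat_lit 25) = true := by decide +kernel
theorem chkP_114625 : allRangeF (checkPointF cert) (nat_lit 114625) (nat_lit 25) = true := by decide +kernel
theorem chkP_114650 : allRangeF (checkPointF cert) (nat_lit 114650) (nat_lit 25) = true := by decide +kernel
theorem chkP_114675 : allRangeF (checkPointF cert) (nat_lit 114675) (nat_lit 25) = true := by decide +kernel
theorem chkP_114700 : allRangeF (checkPointF cert) (nat_lit 114700) (nat_lit 25) = true := by decide +kernel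
theorem chkP_114725 : allRangeF (checkPointF cert) (nat_lit 114725) (nat_lit 25) = true := by decide +kernel
theorem chkP_114750 : allRangeF (checkPointF cert) (nat_lit 114750) (nat_lit 25) = true := by decide +kernel
theorem chkP_114775 : allRangeF (checkPointF cert) (nat_lit 114775) (nat_lit 25) = true := by decide +kernel
theorem chkP_114800 : allRangeF (checkPointF cert) (nat_lit 114800) (nat_lit 25) = true := by decide +kernel
theorem chkP_114825 : allRangeF (checkPointF cert) (nat_lit 114825) (nat_lit 25) = true := by decide +kernel
theorem chkP_114850 : allRangeF (checkPointF cert) (nat_lit 114850) (nat_lit 25) = true := by decide +kernel
theorem chkP_114875 : allRangeF (checkPointF cert) (nat_lit 114875) (nat_lit 25) = true := by decide +kernel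
theorem chkP_114900 : allRangeF (checkPointF cert) (nat_lit 114900) (nat_lit 25) = true := by decide +kernel
theorem chkP_114925 : allRangeF (checkPointF cert) (nat_lit 114925) (nat_lit 25) = true := by decide +kernel
theorem chkP_114950 : allRangeF (checkPointF cert) (nat_lit 114950) (nat_lit 25) = true := by decide +kernel
theorem chkP_114975 : allRangeF (checkPointF cert) (nat_lit 114975) (nat_lit 25) = true := by decide +kernel
theorem chkP_115000 : allRangeF (checkPointF cert) (nat_lit 115000) (nat_lit 25) = true := by decide +kernel
theorem chkP_115025 : allRangeF (checkPointF cert) (nat_lit 115025) (nat_lit 25) = true := by decide +kernel
theorem chkP_115050 : allRangeF (checkPointF cert) (nat_lit 115050) (nat_lit 25) = true := by decide +kernel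
theorem chkP_115075 : allRangeF (checkPointF cert) (nat_lit 115075) (nat_lit 25) = true := by decide +kernel
theorem chkP_115100 : allRangeF (checkPointF cert) (nat_lit 115100) (nat_lit 25) = true := by decide +kernel

theorem ptsRange_14 : ∀ i, 107450 ≤ i → i < 115125 → checkPoint cert i = true := by
  intro i hlo hhi
  rcases Nat.lt_or_ge i 111275 with h1 | h1
  · skip
    rcases Nat.lt_or_ge i 109350 with h2 | h2
    · skip
      rcases Nat.lt_or_ge i 108400 with h3 | h3
      · skip
        rcases Nat.lt_or_ge i 107925 with h4 | h4
        · skip
          rcases Nat.lt_or_ge i 107675 with h5 | h5
          · skip
            rcases Nat.lt_or_ge i 107550 with h6 | h6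
            · skip
              rcases Nat.lt_or_ge i 107500 with h7 | h7
              · skip
                rcases Nat.lt_or_ge i 107475 with h8 | h8
                · skip
                  exact allRangeF_sound _ _ (checkPointF_eq cert) 107450 25 chkP_107450 i (by omega) (by omega)
                · skip
                  exact allRangeF_sound _ _ (checkPointF_eq cert) 107475 25 chkP_107475 i (by omega) (by omega)
              · skip
                rcases Nat.lt_or_ge i 107525 with h8 | h8
                · skip
                  exact allRangeF_sound _ _ (checkPointF_eq cert) 107500 25 chkP_107500 i (by omega) (by omega)
                · skip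
                  exact allRangeF_sound _ _ (checkPointF_eq cert) 107525 25 chkP_107525 i (by omega) (by omega)
            · skip
              rcases Nat.lt_or_ge i 107600 with h7 | h7
              · skip
                rcases Nat.lt_or_ge i 107575 with h8 | h8
                · skip
                  exact allRangeF_sound _ _ (checkPointF_eq cert) 107550 25 chkP_107550 i (by omega) (by omega)
                · skip
                  exact allRangeF_sound _ _ (checkPointF_eq cert) 107575 25 chkP_107575 i (by omega) (by omega)
              · skip
                rcases Nat.lt_or_ge i 107625 with h8 | h8
                · skip
                  exact allRangeF_sound _ _ (checkPointF_eq cert) 107600 25 chkP_107600 i (by omega) (by omega)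
                · skip
                  rcases Nat.lt_or_ge i 107650 with h9 | h9
                  · skip
                    exact allRangeF_sound _ _ (checkPointF_eq cert) 107625 25 chkP_107625 i (by omega) (by omega)
                  · skip
                    exact allRangeF_sound _ _ (checkPointF_eq cert) 107650 25 chkP_107650 i (by omega) (by omega)
          · skip
            rcases Nat.lt_or_ge i 107800 with h6 | h6
            · skip
              rcases Nat.lt_or_ge i 107725 with h7 | h7
              · skip
                rcases Nat.lt_or_ge i 107700 with h8 | h8
                · skip
                  exact allRangeF_sound _ _ (checkPointF_eq cert) 107675 25 chkP_107675 i (by omega) (by omega)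
                · skip
                  exact allRangeF_sound _ _ (checkPointF_eq cert) 107700 25 chkP_107700 i (by omega) (by omega)
              · skip
                rcases Nat.lt_or_ge i 107750 with h8 | h8
                · skip
                  exact allRangeF_sound _ _ (checkPointF_eq cert) 107725 25 chkP_107725 i (by omega) (by omega)
                · skip
                  rcases Nat.lt_or_ge i 107775 with h9 | h9
                  · skip
                    exact allRangeF_sound _ _ (checkPointF_eq cert) 107750 25 chkP_107750 i (by omega) (by omega)
                  · skip
                    exact allRangeF_sound _ _ (checkPointF_eq cert) 107775 25 chkP_107775 i (by omega) (by omega)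
            · skip
              rcases Nat.lt_or_ge i 107850 with h7 | h7
              · skip
                rcases Nat.lt_or_ge i 107825 with h8 | h8
                · skip
                  exact allRangeF_sound _ _ (checkPointF_eq cert) 107800 25 chkP_107800 i (by omega) (by omega)
                · skip
                  exact allRangeF_sound _ _ (checkPointF_eq cert) 107825 25 chkP_107825 i (by omega) (by omega)
              · skip
                rcases Nat.lt_or_ge i 107875 with h8 | h8
                · skip
                  exact allRangeF_sound _ _ (checkPointF_eq cert) 107850 25 chkP_107850 i (by omega) (by omega)
                · skip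
                  rcases Nat.lt_or_ge i 107900 with h9 | h9
                  · skip
                    exact allRangeF_sound _ _ (checkPointF_eq cert) 107875 25 chkP_107875 i (by omega) (by omega)
                  · skip
                    exact allRangeF_sound _ _ (checkPointF_eq cert) 107900 25 chkP_107900 i (by omega) (by omega)
        · skip
          rcases Nat.lt_or_ge i 108150 with h5 | h5
          · skip
            rcases Nat.lt_or_ge i 108025 with h6 | h6
            · skip
              rcases Nat.lt_or_ge i 107975 with h7 | h7
              · skip
                rcases Nat.lt_or_ge i 107950 with h8 | h8
                · skip
                  exact allRangeF_sound _ _ (checkPointF_eq cert) 107925 25 chkP_107925 i (by omega) (by omega)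
                · skip
                  exact allRangeF_sound _ _ (checkPointF_eq cert) 107950 25 chkP_107950 i (by omega) (by omega)
              · skip
                rcases Nat.lt_or_ge i 108000 with h8 | h8
                · skip
                  exact allRangeF_sound _ _ (checkPointF_eq cert) 107975 25 chkP_107975 i (by omega) (by omega)
                · skip
                  exact allRangeF_sound _ _ (checkPointF_eq cert) 108000 25 chkP_108000 i (by omega) (by omega)
            · skip
              rcases Nat.lt_or_ge i 108075 with h7 | h7
              · skip
                rcases Nat.lt_or_ge i 108050 with h8 | h8
                · skip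
                  exact allRangeF_sound _ _ (checkPointF_eq cert) 108025 25 chkP_108025 i (by omega) (by omega)
                · skip
                  exact allRangeF_sound _ _ (checkPointF_eq cert) 108050 25 chkP_108050 i (by omega) (by omega)
              · skip
                rcases Nat.lt_or_ge i 108100 with h8 | h8
                · skip
                  exact allRangeF_sound _ _ (checkPointF_eq cert) 108075 25 chkP_108075 i (by omega) (by omega)
                · skip
                  rcases Nat.lt_or_ge i 108125 with h9 | h9
                  · skip
                    exact allRangeF_sound _ _ (checkPointF_eq cert) 108100 25 chkP_108100 i (by omega) (by omega)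
                  · skip
                    exact allRangeF_sound _ _ (checkPointF_eq cert) 108125 25 chkP_108125 i (by omega) (by omega)
          · skip
            rcases Nat.lt_or_ge i 108275 with h6 | h6
            · skip
              rcases Nat.lt_or_ge i 108200 with h7 | h7
              · skip
                rcases Nat.lt_or_ge i 108175 with h8 | h8
                · skip
                  exact allRangeF_sound _ _ (checkPointF_eq cert) 108150 25 chkP_108150 i (by omega) (by omega)
                · skip
                  exact allRangeF_sound _ _ (checkPointF_eq cert) 108175 25 chkP_108175 i (by omega) (by omega)
              · skip
                rcases Nat.lt_or_ge i 108225 with h8 | h8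
                · skip
                  exact allRangeF_sound _ _ (checkPointF_eq cert) 108200 25 chkP_108200 i (by omega) (by omega)
                · skip
                  rcases Nat.lt_or_ge i 108250 with h9 | h9
                  · skip
                    exact allRangeF_sound _ _ (checkPointF_eq cert) 108225 25 chkP_108225 i (by omega) (by omega)
                  · skip
                    exact allRangeF_sound _ _ (checkPointF_eq cert) 108250 25 chkP_108250 i (by omega) (by omega)
            · skip
              rcases Nat.lt_or_ge i 108325 with h7 | h7
              · skip
                rcases Nat.lt_or_ge i 108300 with h8 | h8
                · skip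
                  exact allRangeF_sound _ _ (checkPointF_eq cert) 108275 25 chkP_108275 i (by omega) (by omega)
                · skip
                  exact allRangeF_sound _ _ (checkPointF_eq cert) 108300 25 chkP_108300 i (by omega) (by omega)
              · skip
                rcases Nat.lt_or_ge i 108350 with h8 | h8
                · skip
                  exact allRangeF_sound _ _ (checkPointF_eq cert) 108325 25 chkP_108325 i (by omega) (by omega)
                · skip
                  rcases Nat.lt_or_ge i 108375 with h9 | h9
                  · skip
                    exact allRangeF_sound _ _ (checkPointF_eq cert) 108350 25 chkP_108350 i (by omega) (by omega)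
                  · skip
                    exact allRangeF_sound _ _ (checkPointF_eq cert) 108375 25 chkP_108375 i (by omega) (by omega)
      · skip
        rcases Nat.lt_or_ge i 108875 with h4 | h4
        · skip
          rcases Nat.lt_or_ge i 108625 with h5 | h5
          · skip
            rcases Nat.lt_or_ge i 108500 with h6 | h6
            · skip
              rcases Nat.lt_or_ge i 108450 with h7 | h7
              · skip
                rcases Nat.lt_or_ge i 108425 with h8 | h8
                · skip
                  exact allRangeF_sound _ _ (checkPointF_eq cert) 108400 25 chkP_108400 i (by omega) (by omega)
                · skip
                  exact allRangeF_sound _ _ (checkPointF_eq cert) 108425 25 chkP_108425 i (by omega) (by omega)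
              · skip
                rcases Nat.lt_or_ge i 108475 with h8 | h8
                · skip
                  exact allRangeF_sound _ _ (checkPointF_eq cert) 108450 25 chkP_108450 i (by omega) (by omega)
                · skip
                  exact allRangeF_sound _ _ (checkPointF_eq cert) 108475 25 chkP_108475 i (by omega) (by omega)
            · skip
              rcases Nat.lt_or_ge i 108550 with h7 | h7
              · skip
                rcases Nat.lt_or_ge i 108525 with h8 | h8
                · skip
                  exact allRangeF_sound _ _ (checkPointF_eq cert) 108500 25 chkP_108500 i (by omega) (by omega)
                · skip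
                  exact allRangeF_sound _ _ (checkPointF_eq cert) 108525 25 chkP_108525 i (by omega) (by omega)
              · skip
                rcases Nat.lt_or_ge i 108575 with h8 | h8
                · skip
                  exact allRangeF_sound _ _ (checkPointF_eq cert) 108550 25 chkP_108550 i (by omega) (by omega)
                · skip
                  rcases Nat.lt_or_ge i 108600 with h9 | h9
                  · skip
                    exact allRangeF_sound _ _ (checkPointF_eq cert) 108575 25 chkP_108575 i (by omega) (by omega)
                  · skip
                    exact allRangeF_sound _ _ (checkPointF_eq cert) 108600 25 chkP_108600 i (by omega) (by omega)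
          · skip
            rcases Nat.lt_or_ge i 108750 with h6 | h6
            · skip
              rcases Nat.lt_or_ge i 108675 with h7 | h7
              · skip
                rcases Nat.lt_or_ge i 108650 with h8 | h8
                · skip
                  exact allRangeF_sound _ _ (checkPointF_eq cert) 108625 25 chkP_108625 i (by omega) (by omega)
                · skip
                  exact allRangeF_sound _ _ (checkPointF_eq cert) 108650 25 chkP_108650 i (by omega) (by omega)
              · skip
                rcases Nat.lt_or_ge i 108700 with h8 | h8
                · skip
                  exact allRangeF_sound _ _ (checkPointF_eq cert) 108675 25 chkP_108675 i (by omega) (by omega)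
                · skip
                  rcases Nat.lt_or_ge i 108725 with h9 | h9
                  · skip
                    exact allRangeF_sound _ _ (checkPointF_eq cert) 108700 25 chkP_108700 i (by omega) (by omega)
                  · skip
                    exact allRangeF_sound _ _ (checkPointF_eq cert) 108725 25 chkP_108725 i (by omega) (by omega)
            · skip
              rcases Nat.lt_or_ge i 108800 with h7 | h7
              · skip
                rcases Nat.lt_or_ge i 108775 with h8 | h8
                · skip
                  exact allRangeF_sound _ _ (checkPointF_eq cert) 108750 25 chkP_108750 i (by omega) (by omega)
                · skip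
                  exact allRangeF_sound _ _ (checkPointF_eq cert) 108775 25 chkP_108775 i (by omega) (by omega)
              · skip
                rcases Nat.lt_or_ge i 108825 with h8 | h8
                · skip
                  exact allRangeF_sound _ _ (checkPointF_eq cert) 108800 25 chkP_108800 i (by omega) (by omega)
                · skip
                  rcases Nat.lt_or_ge i 108850 with h9 | h9
                  · skip
                    exact allRangeF_sound _ _ (checkPointF_eq cert) 108825 25 chkP_108825 i (by omega) (by omega)
                  · skip
                    exact allRangeF_sound _ _ (checkPointF_eq cert) 108850 25 chkP_108850 i (by omega) (by omega)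
        · skip
          rcases Nat.lt_or_ge i 109100 with h5 | h5
          · skip
            rcases Nat.lt_or_ge i 108975 with h6 | h6
            · skip
              rcases Nat.lt_or_ge i 108925 with h7 | h7
              · skip
                rcases Nat.lt_or_ge i 108900 with h8 | h8
                · skip
                  exact allRangeF_sound _ _ (checkPointF_eq cert) 108875 25 chkP_108875 i (by omega) (by omega)
                · skip
                  exact allRangeF_sound _ _ (checkPointF_eq cert) 108900 25 chkP_108900 i (by omega) (by omega)
              · skip
                rcases Nat.lt_or_ge i 108950 with h8 | h8
                · skip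
                  exact allRangeF_sound _ _ (checkPointF_eq cert) 108925 25 chkP_108925 i (by omega) (by omega)
                · skip
                  exact allRangeF_sound _ _ (checkPointF_eq cert) 108950 25 chkP_108950 i (by omega) (by omega)
            · skip
              rcases Nat.lt_or_ge i 109025 with h7 | h7
              · skip
                rcases Nat.lt_or_ge i 109000 with h8 | h8
                · skip
                  exact allRangeF_sound _ _ (checkPointF_eq cert) 108975 25 chkP_108975 i (by omega) (by omega)
                · skip
                  exact allRangeF_sound _ _ (checkPointF_eq cert) 109000 25 chkP_109000 i (by omega) (by omega)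
              · skip
                rcases Nat.lt_or_ge i 109050 with h8 | h8
                · skip
                  exact allRangeF_sound _ _ (checkPointF_eq cert) 109025 25 chkP_109025 i (by omega) (by omega)
                · skip
                  rcases Nat.lt_or_ge i 109075 with h9 | h9
                  · skip
                    exact allRangeF_sound _ _ (checkPointF_eq cert) 109050 25 chkP_109050 i (by omega) (by omega)
                  · skip
                    exact allRangeF_sound _ _ (checkPointF_eq cert) 109075 25 chkP_109075 i (by omega) (by omega)
          · skip
            rcases Nat.lt_or_ge i 109225 with h6 | h6
            · skip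
              rcases Nat.lt_or_ge i 109150 with h7 | h7
              · skip
                rcases Nat.lt_or_ge i 109125 with h8 | h8
                · skip
                  exact allRangeF_sound _ _ (checkPointF_eq cert) 109100 25 chkP_109100 i (by omega) (by omega)
                · skip
                  exact allRangeF_sound _ _ (checkPointF_eq cert) 109125 25 chkP_109125 i (by omega) (by omega)
              · skip
                rcases Nat.lt_or_ge i 109175 with h8 | h8
                · skip
                  exact allRangeF_sound _ _ (checkPointF_eq cert) 109150 25 chkP_109150 i (by omega) (by omega)
                · skip
                  rcases Nat.lt_or_ge i 109200 with h9 | h9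
                  · skip
                    exact allRangeF_sound _ _ (checkPointF_eq cert) 109175 25 chkP_109175 i (by omega) (by omega)
                  · skip
                    exact allRangeF_sound _ _ (checkPointF_eq cert) 109200 25 chkP_109200 i (by omega) (by omega)
            · skip
              rcases Nat.lt_or_ge i 109275 with h7 | h7
              · skip
                rcases Nat.lt_or_ge i 109250 with h8 | h8
                · skip
                  exact allRangeF_sound _ _ (checkPointF_eq cert) 109225 25 chkP_109225 i (by omega) (by omega)
                · skip
                  exact allRangeF_sound _ _ (checkPointF_eq cert) 109250 25 chkP_109250 i (by omega) (by omega)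
              · skip
                rcases Nat.lt_or_ge i 109300 with h8 | h8
                · skip
                  exact allRangeF_sound _ _ (checkPointF_eq cert) 109275 25 chkP_109275 i (by omega) (by omega)
                · skip
                  rcases Nat.lt_or_ge i 109325 with h9 | h9
                  · skip
                    exact allRangeF_sound _ _ (checkPointF_eq cert) 109300 25 chkP_109300 i (by omega) (by omega)
                  · skip
                    exact allRangeF_sound _ _ (checkPointF_eq cert) 109325 25 chkP_109325 i (by omega) (by omega)
    · skip
      rcases Nat.lt_or_ge i 110300 with h3 | h3
      · skip
        rcases Nat.lt_or_ge i 109825 with h4 | h4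
        · skip
          rcases Nat.lt_or_ge i 109575 with h5 | h5
          · skip
            rcases Nat.lt_or_ge i 109450 with h6 | h6
            · skip
              rcases Nat.lt_or_ge i 109400 with h7 | h7
              · skip
                rcases Nat.lt_or_ge i 109375 with h8 | h8
                · skip
                  exact allRangeF_sound _ _ (checkPointF_eq cert) 109350 25 chkP_109350 i (by omega) (by omega)
                · skip
                  exact allRangeF_sound _ _ (checkPointF_eq cert) 109375 25 chkP_109375 i (by omega) (by omega)
              · skip
                rcases Nat.lt_or_ge i 109425 with h8 | h8
                · skip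
                  exact allRangeF_sound _ _ (checkPointF_eq cert) 109400 25 chkP_109400 i (by omega) (by omega)
                · skip
                  exact allRangeF_sound _ _ (checkPointF_eq cert) 109425 25 chkP_109425 i (by omega) (by omega)
            · skip
              rcases Nat.lt_or_ge i 109500 with h7 | h7
              · skip
                rcases Nat.lt_or_ge i 109475 with h8 | h8
                · skip
                  exact allRangeF_sound _ _ (checkPointF_eq cert) 109450 25 chkP_109450 i (by omega) (by omega)
                · skip
                  exact allRangeF_sound _ _ (checkPointF_eq cert) 109475 25 chkP_109475 i (by omega) (by omega)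
              · skip
                rcases Nat.lt_or_ge i 109525 with h8 | h8
                · skip
                  exact allRangeF_sound _ _ (checkPointF_eq cert) 109500 25 chkP_109500 i (by omega) (by omega)
                · skip
                  rcases Nat.lt_or_ge i 109550 with h9 | h9
                  · skip
                    exact allRangeF_sound _ _ (checkPointF_eq cert) 109525 25 chkP_109525 i (by omega) (by omega)
                  · skip
                    exact allRangeF_sound _ _ (checkPointF_eq cert) 109550 25 chkP_109550 i (by omega) (by omega)
          · skip
            rcases Nat.lt_or_ge i 109700 with h6 | h6
            · skip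
              rcases Nat.lt_or_ge i 109625 with h7 | h7
              · skip
                rcases Nat.lt_or_ge i 109600 with h8 | h8
                · skip
                  exact allRangeF_sound _ _ (checkPointF_eq cert) 109575 25 chkP_109575 i (by omega) (by omega)
                · skip
                  exact allRangeF_sound _ _ (checkPointF_eq cert) 109600 25 chkP_109600 i (by omega) (by omega)
              · skip
                rcases Nat.lt_or_ge i 109650 with h8 | h8
                · skip
                  exact allRangeF_sound _ _ (checkPointF_eq cert) 109625 25 chkP_109625 i (by omega) (by omega)
                · skip
                  rcases Nat.lt_or_ge i 109675 with h9 | h9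
                  · skip
                    exact allRangeF_sound _ _ (checkPointF_eq cert) 109650 25 chkP_109650 i (by omega) (by omega)
                  · skip
                    exact allRangeF_sound _ _ (checkPointF_eq cert) 109675 25 chkP_109675 i (by omega) (by omega)
            · skip
              rcases Nat.lt_or_ge i 109750 with h7 | h7
              · skip
                rcases Nat.lt_or_ge i 109725 with h8 | h8
                · skip
                  exact allRangeF_sound _ _ (checkPointF_eq cert) 109700 25 chkP_109700 i (by omega) (by omega)
                · skip
                  exact allRangeF_sound _ _ (checkPointF_eq cert) 109725 25 chkP_109725 i (by omega) (by omega)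
              · skip
                rcases Nat.lt_or_ge i 109775 with h8 | h8
                · skip
                  exact allRangeF_sound _ _ (checkPointF_eq cert) 109750 25 chkP_109750 i (by omega) (by omega)
                · skip
                  rcases Nat.lt_or_ge i 109800 with h9 | h9
                  · skip
                    exact allRangeF_sound _ _ (checkPointF_eq cert) 109775 25 chkP_109775 i (by omega) (by omega)
                  · skip
                    exact allRangeF_sound _ _ (checkPointF_eq cert) 109800 25 chkP_109800 i (by omega) (by omega)
        · skip
          rcases Nat.lt_or_ge i 110050 with h5 | h5
          · skip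
            rcases Nat.lt_or_ge i 109925 with h6 | h6
            · skip
              rcases Nat.lt_or_ge i 109875 with h7 | h7
              · skip
                rcases Nat.lt_or_ge i 109850 with h8 | h8
                · skip
                  exact allRangeF_sound _ _ (checkPointF_eq cert) 109825 25 chkP_109825 i (by omega) (by omega)
                · skip
                  exact allRangeF_sound _ _ (checkPointF_eq cert) 109850 25 chkP_109850 i (by omega) (by omega)
              · skip
                rcases Nat.lt_or_ge i 109900 with h8 | h8
                · skip
                  exact allRangeF_sound _ _ (checkPointF_eq cert) 109875 25 chkP_109875 i (by omega) (by omega)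
                · skip
                  exact allRangeF_sound _ _ (checkPointF_eq cert) 109900 25 chkP_109900 i (by omega) (by omega)
            · skip
              rcases Nat.lt_or_ge i 109975 with h7 | h7
              · skip
                rcases Nat.lt_or_ge i 109950 with h8 | h8
                · skip
                  exact allRangeF_sound _ _ (checkPointF_eq cert) 109925 25 chkP_109925 i (by omega) (by omega)
                · skip
                  exact allRangeF_sound _ _ (checkPointF_eq cert) 109950 25 chkP_109950 i (by omega) (by omega)
              · skip
                rcases Nat.lt_or_ge i 110000 with h8 | h8
                · skip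
                  exact allRangeF_sound _ _ (checkPointF_eq cert) 109975 25 chkP_109975 i (by omega) (by omega)
                · skip
                  rcases Nat.lt_or_ge i 110025 with h9 | h9
                  · skip
                    exact allRangeF_sound _ _ (checkPointF_eq cert) 110000 25 chkP_110000 i (by omega) (by omega)
                  · skip
                    exact allRangeF_sound _ _ (checkPointF_eq cert) 110025 25 chkP_110025 i (by omega) (by omega)
          · skip
            rcases Nat.lt_or_ge i 110175 with h6 | h6
            · skip
              rcases Nat.lt_or_ge i 110100 with h7 | h7
              · skip
                rcases Nat.lt_or_ge i 110075 with h8 | h8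
                · skip
                  exact allRangeF_sound _ _ (checkPointF_eq cert) 110050 25 chkP_110050 i (by omega) (by omega)
                · skip
                  exact allRangeF_sound _ _ (checkPointF_eq cert) 110075 25 chkP_110075 i (by omega) (by omega)
              · skip
                rcases Nat.lt_or_ge i 110125 with h8 | h8
                · skip
                  exact allRangeF_sound _ _ (checkPointF_eq cert) 110100 25 chkP_110100 i (by omega) (by omega)
                · skip
                  rcases Nat.lt_or_ge i 110150 with h9 | h9
                  · skip
                    exact allRangeF_sound _ _ (checkPointF_eq cert) 110125 25 chkP_110125 i (by omega) (by omega)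
                  · skip
                    exact allRangeF_sound _ _ (checkPointF_eq cert) 110150 25 chkP_110150 i (by omega) (by omega)
            · skip
              rcases Nat.lt_or_ge i 110225 with h7 | h7
              · skip
                rcases Nat.lt_or_ge i 110200 with h8 | h8
                · skip
                  exact allRangeF_sound _ _ (checkPointF_eq cert) 110175 25 chkP_110175 i (by omega) (by omega)
                · skip
                  exact allRangeF_sound _ _ (checkPointF_eq cert) 110200 25 chkP_110200 i (by omega) (by omega)
              · skip
                rcases Nat.lt_or_ge i 110250 with h8 | h8
                · skip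
                  exact allRangeF_sound _ _ (checkPointF_eq cert) 110225 25 chkP_110225 i (by omega) (by omega)
                · skip
                  rcases Nat.lt_or_ge i 110275 with h9 | h9
                  · skip
                    exact allRangeF_sound _ _ (checkPointF_eq cert) 110250 25 chkP_110250 i (by omega) (by omega)
                  · skip
                    exact allRangeF_sound _ _ (checkPointF_eq cert) 110275 25 chkP_110275 i (by omega) (by omega)
      · skip
        rcases Nat.lt_or_ge i 110775 with h4 | h4
        · skip
          rcases Nat.lt_or_ge i 110525 with h5 | h5
          · skip
            rcases Nat.lt_or_ge i 110400 with h6 | h6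
            · skip
              rcases Nat.lt_or_ge i 110350 with h7 | h7
              · skip
                rcases Nat.lt_or_ge i 110325 with h8 | h8
                · skip
                  exact allRangeF_sound _ _ (checkPointF_eq cert) 110300 25 chkP_110300 i (by omega) (by omega)
                · skip
                  exact allRangeF_sound _ _ (checkPointF_eq cert) 110325 25 chkP_110325 i (by omega) (by omega)
              · skip
                rcases Nat.lt_or_ge i 110375 with h8 | h8
                · skip
                  exact allRangeF_sound _ _ (checkPointF_eq cert) 110350 25 chkP_110350 i (by omega) (by omega)
                · skip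
                  exact allRangeF_sound _ _ (checkPointF_eq cert) 110375 25 chkP_110375 i (by omega) (by omega)
            · skip
              rcases Nat.lt_or_ge i 110450 with h7 | h7
              · skip
                rcases Nat.lt_or_ge i 110425 with h8 | h8
                · skip
                  exact allRangeF_sound _ _ (checkPointF_eq cert) 110400 25 chkP_110400 i (by omega) (by omega)
                · skip
                  exact allRangeF_sound _ _ (checkPointF_eq cert) 110425 25 chkP_110425 i (by omega) (by omega)
              · skip
                rcases Nat.lt_or_ge i 110475 with h8 | h8
                · skip
                  exact allRangeF_sound _ _ (checkPointF_eq cert) 110450 25 chkP_110450 i (by omega) (by omega)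
                · skip
                  rcases Nat.lt_or_ge i 110500 with h9 | h9
                  · skip
                    exact allRangeF_sound _ _ (checkPointF_eq cert) 110475 25 chkP_110475 i (by omega) (by omega)
                  · skip
                    exact allRangeF_sound _ _ (checkPointF_eq cert) 110500 25 chkP_110500 i (by omega) (by omega)
          · skip
            rcases Nat.lt_or_ge i 110650 with h6 | h6
            · skip
              rcases Nat.lt_or_ge i 110575 with h7 | h7
              · skip
                rcases Nat.lt_or_ge i 110550 with h8 | h8
                · skip
                  exact allRangeF_sound _ _ (checkPointF_eq cert) 110525 25 chkP_110525 i (by omega) (by omega)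
                · skip
                  exact allRangeF_sound _ _ (checkPointF_eq cert) 110550 25 chkP_110550 i (by omega) (by omega)
              · skip
                rcases Nat.lt_or_ge i 110600 with h8 | h8
                · skip
                  exact allRangeF_sound _ _ (checkPointF_eq cert) 110575 25 chkP_110575 i (by omega) (by omega)
                · skip
                  rcases Nat.lt_or_ge i 110625 with h9 | h9
                  · skip
                    exact allRangeF_sound _ _ (checkPointF_eq cert) 110600 25 chkP_110600 i (by omega) (by omega)
                  · skip
                    exact allRangeF_sound _ _ (checkPointF_eq cert) 110625 25 chkP_110625 i (by omega) (by omega)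
            · skip
              rcases Nat.lt_or_ge i 110700 with h7 | h7
              · skip
                rcases Nat.lt_or_ge i 110675 with h8 | h8
                · skip
                  exact allRangeF_sound _ _ (checkPointF_eq cert) 110650 25 chkP_110650 i (by omega) (by omega)
                · skip
                  exact allRangeF_sound _ _ (checkPointF_eq cert) 110675 25 chkP_110675 i (by omega) (by omega)
              · skip
                rcases Nat.lt_or_ge i 110725 with h8 | h8
                · skip
                  exact allRangeF_sound _ _ (checkPointF_eq cert) 110700 25 chkP_110700 i (by omega) (by omega)
                · skip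
                  rcases Nat.lt_or_ge i 110750 with h9 | h9
                  · skip
                    exact allRangeF_sound _ _ (checkPointF_eq cert) 110725 25 chkP_110725 i (by omega) (by omega)
                  · skip
                    exact allRangeF_sound _ _ (checkPointF_eq cert) 110750 25 chkP_110750 i (by omega) (by omega)
        · skip
          rcases Nat.lt_or_ge i 111025 with h5 | h5
          · skip
            rcases Nat.lt_or_ge i 110900 with h6 | h6
            · skip
              rcases Nat.lt_or_ge i 110825 with h7 | h7
              · skip
                rcases Nat.lt_or_ge i 110800 with h8 | h8
                · skip
                  exact allRangeF_sound _ _ (checkPointF_eq cert) 110775 25 chkP_110775 i (by omega) (by omega)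
                · skip
                  exact allRangeF_sound _ _ (checkPointF_eq cert) 110800 25 chkP_110800 i (by omega) (by omega)
              · skip
                rcases Nat.lt_or_ge i 110850 with h8 | h8
                · skip
                  exact allRangeF_sound _ _ (checkPointF_eq cert) 110825 25 chkP_110825 i (by omega) (by omega)
                · skip
                  rcases Nat.lt_or_ge i 110875 with h9 | h9
                  · skip
                    exact allRangeF_sound _ _ (checkPointF_eq cert) 110850 25 chkP_110850 i (by omega) (by omega)
                  · skip
                    exact allRangeF_sound _ _ (checkPointF_eq cert) 110875 25 chkP_110875 i (by omega) (by omega)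
            · skip
              rcases Nat.lt_or_ge i 110950 with h7 | h7
              · skip
                rcases Nat.lt_or_ge i 110925 with h8 | h8
                · skip
                  exact allRangeF_sound _ _ (checkPointF_eq cert) 110900 25 chkP_110900 i (by omega) (by omega)
                · skip
                  exact allRangeF_sound _ _ (checkPointF_eq cert) 110925 25 chkP_110925 i (by omega) (by omega)
              · skip
                rcases Nat.lt_or_ge i 110975 with h8 | h8
                · skip
                  exact allRangeF_sound _ _ (checkPointF_eq cert) 110950 25 chkP_110950 i (by omega) (by omega)
                · skip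
                  rcases Nat.lt_or_ge i 111000 with h9 | h9
                  · skip
                    exact allRangeF_sound _ _ (checkPointF_eq cert) 110975 25 chkP_110975 i (by omega) (by omega)
                  · skip
                    exact allRangeF_sound _ _ (checkPointF_eq cert) 111000 25 chkP_111000 i (by omega) (by omega)
          · skip
            rcases Nat.lt_or_ge i 111150 with h6 | h6
            · skip
              rcases Nat.lt_or_ge i 111075 with h7 | h7
              · skip
                rcases Nat.lt_or_ge i 111050 with h8 | h8
                · skip
                  exact allRangeF_sound _ _ (checkPointF_eq cert) 111025 25 chkP_111025 i (by omega) (by omega)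
                · skip
                  exact allRangeF_sound _ _ (checkPointF_eq cert) 111050 25 chkP_111050 i (by omega) (by omega)
              · skip
                rcases Nat.lt_or_ge i 111100 with h8 | h8
                · skip
                  exact allRangeF_sound _ _ (checkPointF_eq cert) 111075 25 chkP_111075 i (by omega) (by omega)
                · skip
                  rcases Nat.lt_or_ge i 111125 with h9 | h9
                  · skip
                    exact allRangeF_sound _ _ (checkPointF_eq cert) 111100 25 chkP_111100 i (by omega) (by omega)
                  · skip
                    exact allRangeF_sound _ _ (checkPointF_eq cert) 111125 25 chkP_111125 i (by omega) (by omega)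
            · skip
              rcases Nat.lt_or_ge i 111200 with h7 | h7
              · skip
                rcases Nat.lt_or_ge i 111175 with h8 | h8
                · skip
                  exact allRangeF_sound _ _ (checkPointF_eq cert) 111150 25 chkP_111150 i (by omega) (by omega)
                · skip
                  exact allRangeF_sound _ _ (checkPointF_eq cert) 111175 25 chkP_111175 i (by omega) (by omega)
              · skip
                rcases Nat.lt_or_ge i 111225 with h8 | h8
                · skip
                  exact allRangeF_sound _ _ (checkPointF_eq cert) 111200 25 chkP_111200 i (by omega) (by omega)
                · skip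
                  rcases Nat.lt_or_ge i 111250 with h9 | h9
                  · skip
                    exact allRangeF_sound _ _ (checkPointF_eq cert) 111225 25 chkP_111225 i (by omega) (by omega)
                  · skip
                    exact allRangeF_sound _ _ (checkPointF_eq cert) 111250 25 chkP_111250 i (by omega) (by omega)
  · skip
    rcases Nat.lt_or_ge i 113200 with h2 | h2
    · skip
      rcases Nat.lt_or_ge i 112225 with h3 | h3
      · skip
        rcases Nat.lt_or_ge i 111750 with h4 | h4
        · skip
          rcases Nat.lt_or_ge i 111500 with h5 | h5
          · skip
            rcases Nat.lt_or_ge i 111375 with h6 | h6
            · skip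
              rcases Nat.lt_or_ge i 111325 with h7 | h7
              · skip
                rcases Nat.lt_or_ge i 111300 with h8 | h8
                · skip
                  exact allRangeF_sound _ _ (checkPointF_eq cert) 111275 25 chkP_111275 i (by omega) (by omega)
                · skip
                  exact allRangeF_sound _ _ (checkPointF_eq cert) 111300 25 chkP_111300 i (by omega) (by omega)
              · skip
                rcases Nat.lt_or_ge i 111350 with h8 | h8
                · skip
                  exact allRangeF_sound _ _ (checkPointF_eq cert) 111325 25 chkP_111325 i (by omega) (by omega)
                · skip
                  exact allRangeF_sound _ _ (checkPointF_eq cert) 111350 25 chkP_111350 i (by omega) (by omega)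
            · skip
              rcases Nat.lt_or_ge i 111425 with h7 | h7
              · skip
                rcases Nat.lt_or_ge i 111400 with h8 | h8
                · skip
                  exact allRangeF_sound _ _ (checkPointF_eq cert) 111375 25 chkP_111375 i (by omega) (by omega)
                · skip
                  exact allRangeF_sound _ _ (checkPointF_eq cert) 111400 25 chkP_111400 i (by omega) (by omega)
              · skip
                rcases Nat.lt_or_ge i 111450 with h8 | h8
                · skip
                  exact allRangeF_sound _ _ (checkPointF_eq cert) 111425 25 chkP_111425 i (by omega) (by omega)
                · skip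
                  rcases Nat.lt_or_ge i 111475 with h9 | h9
                  · skip
                    exact allRangeF_sound _ _ (checkPointF_eq cert) 111450 25 chkP_111450 i (by omega) (by omega)
                  · skip
                    exact allRangeF_sound _ _ (checkPointF_eq cert) 111475 25 chkP_111475 i (by omega) (by omega)
          · skip
            rcases Nat.lt_or_ge i 111625 with h6 | h6
            · skip
              rcases Nat.lt_or_ge i 111550 with h7 | h7
              · skip
                rcases Nat.lt_or_ge i 111525 with h8 | h8
                · skip
                  exact allRangeF_sound _ _ (checkPointF_eq cert) 111500 25 chkP_111500 i (by omega) (by omega)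
                · skip
                  exact allRangeF_sound _ _ (checkPointF_eq cert) 111525 25 chkP_111525 i (by omega) (by omega)
              · skip
                rcases Nat.lt_or_ge i 111575 with h8 | h8
                · skip
                  exact allRangeF_sound _ _ (checkPointF_eq cert) 111550 25 chkP_111550 i (by omega) (by omega)
                · skip
                  rcases Nat.lt_or_ge i 111600 with h9 | h9
                  · skip
                    exact allRangeF_sound _ _ (checkPointF_eq cert) 111575 25 chkP_111575 i (by omega) (by omega)
                  · skip
                    exact allRangeF_sound _ _ (checkPointF_eq cert) 111600 25 chkP_111600 i (by omega) (by omega)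
            · skip
              rcases Nat.lt_or_ge i 111675 with h7 | h7
              · skip
                rcases Nat.lt_or_ge i 111650 with h8 | h8
                · skip
                  exact allRangeF_sound _ _ (checkPointF_eq cert) 111625 25 chkP_111625 i (by omega) (by omega)
                · skip
                  exact allRangeF_sound _ _ (checkPointF_eq cert) 111650 25 chkP_111650 i (by omega) (by omega)
              · skip
                rcases Nat.lt_or_ge i 111700 with h8 | h8
                · skip
                  exact allRangeF_sound _ _ (checkPointF_eq cert) 111675 25 chkP_111675 i (by omega) (by omega)
                · skip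
                  rcases Nat.lt_or_ge i 111725 with h9 | h9
                  · skip
                    exact allRangeF_sound _ _ (checkPointF_eq cert) 111700 25 chkP_111700 i (by omega) (by omega)
                  · skip
                    exact allRangeF_sound _ _ (checkPointF_eq cert) 111725 25 chkP_111725 i (by omega) (by omega)
        · skip
          rcases Nat.lt_or_ge i 111975 with h5 | h5
          · skip
            rcases Nat.lt_or_ge i 111850 with h6 | h6
            · skip
              rcases Nat.lt_or_ge i 111800 with h7 | h7
              · skip
                rcases Nat.lt_or_ge i 111775 with h8 | h8
                · skip
                  exact allRangeF_sound _ _ (checkPointF_eq cert) 111750 25 chkP_111750 i (by omega) (by omega)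
                · skip
                  exact allRangeF_sound _ _ (checkPointF_eq cert) 111775 25 chkP_111775 i (by omega) (by omega)
              · skip
                rcases Nat.lt_or_ge i 111825 with h8 | h8
                · skip
                  exact allRangeF_sound _ _ (checkPointF_eq cert) 111800 25 chkP_111800 i (by omega) (by omega)
                · skip
                  exact allRangeF_sound _ _ (checkPointF_eq cert) 111825 25 chkP_111825 i (by omega) (by omega)
            · skip
              rcases Nat.lt_or_ge i 111900 with h7 | h7
              · skip
                rcases Nat.lt_or_ge i 111875 with h8 | h8
                · skip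
                  exact allRangeF_sound _ _ (checkPointF_eq cert) 111850 25 chkP_111850 i (by omega) (by omega)
                · skip
                  exact allRangeF_sound _ _ (checkPointF_eq cert) 111875 25 chkP_111875 i (by omega) (by omega)
              · skip
                rcases Nat.lt_or_ge i 111925 with h8 | h8
                · skip
                  exact allRangeF_sound _ _ (checkPointF_eq cert) 111900 25 chkP_111900 i (by omega) (by omega)
                · skip
                  rcases Nat.lt_or_ge i 111950 with h9 | h9
                  · skip
                    exact allRangeF_sound _ _ (checkPointF_eq cert) 111925 25 chkP_111925 i (by omega) (by omega)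
                  · skip
                    exact allRangeF_sound _ _ (checkPointF_eq cert) 111950 25 chkP_111950 i (by omega) (by omega)
          · skip
            rcases Nat.lt_or_ge i 112100 with h6 | h6
            · skip
              rcases Nat.lt_or_ge i 112025 with h7 | h7
              · skip
                rcases Nat.lt_or_ge i 112000 with h8 | h8
                · skip
                  exact allRangeF_sound _ _ (checkPointF_eq cert) 111975 25 chkP_111975 i (by omega) (by omega)
                · skip
                  exact allRangeF_sound _ _ (checkPointF_eq cert) 112000 25 chkP_112000 i (by omega) (by omega)
              · skip
                rcases Nat.lt_or_ge i 112050 with h8 | h8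
                · skip
                  exact allRangeF_sound _ _ (checkPointF_eq cert) 112025 25 chkP_112025 i (by omega) (by omega)
                · skip
                  rcases Nat.lt_or_ge i 112075 with h9 | h9
                  · skip
                    exact allRangeF_sound _ _ (checkPointF_eq cert) 112050 25 chkP_112050 i (by omega) (by omega)
                  · skip
                    exact allRangeF_sound _ _ (checkPointF_eq cert) 112075 25 chkP_112075 i (by omega) (by omega)
            · skip
              rcases Nat.lt_or_ge i 112150 with h7 | h7
              · skip
                rcases Nat.lt_or_ge i 112125 with h8 | h8
                · skip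
                  exact allRangeF_sound _ _ (checkPointF_eq cert) 112100 25 chkP_112100 i (by omega) (by omega)
                · skip
                  exact allRangeF_sound _ _ (checkPointF_eq cert) 112125 25 chkP_112125 i (by omega) (by omega)
              · skip
                rcases Nat.lt_or_ge i 112175 with h8 | h8
                · skip
                  exact allRangeF_sound _ _ (checkPointF_eq cert) 112150 25 chkP_112150 i (by omega) (by omega)
                · skip
                  rcases Nat.lt_or_ge i 112200 with h9 | h9
                  · skip
                    exact allRangeF_sound _ _ (checkPointF_eq cert) 112175 25 chkP_112175 i (by omega) (by omega)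
                  · skip
                    exact allRangeF_sound _ _ (checkPointF_eq cert) 112200 25 chkP_112200 i (by omega) (by omega)
      · skip
        rcases Nat.lt_or_ge i 112700 with h4 | h4
        · skip
          rcases Nat.lt_or_ge i 112450 with h5 | h5
          · skip
            rcases Nat.lt_or_ge i 112325 with h6 | h6
            · skip
              rcases Nat.lt_or_ge i 112275 with h7 | h7
              · skip
                rcases Nat.lt_or_ge i 112250 with h8 | h8
                · skip
                  exact allRangeF_sound _ _ (checkPointF_eq cert) 112225 25 chkP_112225 i (by omega) (by omega)
                · skip
                  exact allRangeF_sound _ _ (checkPointF_eq cert) 112250 25 chkP_112250 i (by omega) (by omega)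
              · skip
                rcases Nat.lt_or_ge i 112300 with h8 | h8
                · skip
                  exact allRangeF_sound _ _ (checkPointF_eq cert) 112275 25 chkP_112275 i (by omega) (by omega)
                · skip
                  exact allRangeF_sound _ _ (checkPointF_eq cert) 112300 25 chkP_112300 i (by omega) (by omega)
            · skip
              rcases Nat.lt_or_ge i 112375 with h7 | h7
              · skip
                rcases Nat.lt_or_ge i 112350 with h8 | h8
                · skip
                  exact allRangeF_sound _ _ (checkPointF_eq cert) 112325 25 chkP_112325 i (by omega) (by omega)
                · skip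
                  exact allRangeF_sound _ _ (checkPointF_eq cert) 112350 25 chkP_112350 i (by omega) (by omega)
              · skip
                rcases Nat.lt_or_ge i 112400 with h8 | h8
                · skip
                  exact allRangeF_sound _ _ (checkPointF_eq cert) 112375 25 chkP_112375 i (by omega) (by omega)
                · skip
                  rcases Nat.lt_or_ge i 112425 with h9 | h9
                  · skip
                    exact allRangeF_sound _ _ (checkPointF_eq cert) 112400 25 chkP_112400 i (by omega) (by omega)
                  · skip
                    exact allRangeF_sound _ _ (checkPointF_eq cert) 112425 25 chkP_112425 i (by omega) (by omega)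
          · skip
            rcases Nat.lt_or_ge i 112575 with h6 | h6
            · skip
              rcases Nat.lt_or_ge i 112500 with h7 | h7
              · skip
                rcases Nat.lt_or_ge i 112475 with h8 | h8
                · skip
                  exact allRangeF_sound _ _ (checkPointF_eq cert) 112450 25 chkP_112450 i (by omega) (by omega)
                · skip
                  exact allRangeF_sound _ _ (checkPointF_eq cert) 112475 25 chkP_112475 i (by omega) (by omega)
              · skip
                rcases Nat.lt_or_ge i 112525 with h8 | h8
                · skip
                  exact allRangeF_sound _ _ (checkPointF_eq cert) 112500 25 chkP_112500 i (by omega) (by omega)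
                · skip
                  rcases Nat.lt_or_ge i 112550 with h9 | h9
                  · skip
                    exact allRangeF_sound _ _ (checkPointF_eq cert) 112525 25 chkP_112525 i (by omega) (by omega)
                  · skip
                    exact allRangeF_sound _ _ (checkPointF_eq cert) 112550 25 chkP_112550 i (by omega) (by omega)
            · skip
              rcases Nat.lt_or_ge i 112625 with h7 | h7
              · skip
                rcases Nat.lt_or_ge i 112600 with h8 | h8
                · skip
                  exact allRangeF_sound _ _ (checkPointF_eq cert) 112575 25 chkP_112575 i (by omega) (by omega)
                · skip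
                  exact allRangeF_sound _ _ (checkPointF_eq cert) 112600 25 chkP_112600 i (by omega) (by omega)
              · skip
                rcases Nat.lt_or_ge i 112650 with h8 | h8
                · skip
                  exact allRangeF_sound _ _ (checkPointF_eq cert) 112625 25 chkP_112625 i (by omega) (by omega)
                · skip
                  rcases Nat.lt_or_ge i 112675 with h9 | h9
                  · skip
                    exact allRangeF_sound _ _ (checkPointF_eq cert) 112650 25 chkP_112650 i (by omega) (by omega)
                  · skip
                    exact allRangeF_sound _ _ (checkPointF_eq cert) 112675 25 chkP_112675 i (by omega) (by omega)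
        · skip
          rcases Nat.lt_or_ge i 112950 with h5 | h5
          · skip
            rcases Nat.lt_or_ge i 112825 with h6 | h6
            · skip
              rcases Nat.lt_or_ge i 112750 with h7 | h7
              · skip
                rcases Nat.lt_or_ge i 112725 with h8 | h8
                · skip
                  exact allRangeF_sound _ _ (checkPointF_eq cert) 112700 25 chkP_112700 i (by omega) (by omega)
                · skip
                  exact allRangeF_sound _ _ (checkPointF_eq cert) 112725 25 chkP_112725 i (by omega) (by omega)
              · skip
                rcases Nat.lt_or_ge i 112775 with h8 | h8
                · skip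
                  exact allRangeF_sound _ _ (checkPointF_eq cert) 112750 25 chkP_112750 i (by omega) (by omega)
                · skip
                  rcases Nat.lt_or_ge i 112800 with h9 | h9
                  · skip
                    exact allRangeF_sound _ _ (checkPointF_eq cert) 112775 25 chkP_112775 i (by omega) (by omega)
                  · skip
                    exact allRangeF_sound _ _ (checkPointF_eq cert) 112800 25 chkP_112800 i (by omega) (by omega)
            · skip
              rcases Nat.lt_or_ge i 112875 with h7 | h7
              · skip
                rcases Nat.lt_or_ge i 112850 with h8 | h8
                · skip
                  exact allRangeF_sound _ _ (checkPointF_eq cert) 112825 25 chkP_112825 i (by omega) (by omega)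
                · skip
                  exact allRangeF_sound _ _ (checkPointF_eq cert) 112850 25 chkP_112850 i (by omega) (by omega)
              · skip
                rcases Nat.lt_or_ge i 112900 with h8 | h8
                · skip
                  exact allRangeF_sound _ _ (checkPointF_eq cert) 112875 25 chkP_112875 i (by omega) (by omega)
                · skip
                  rcases Nat.lt_or_ge i 112925 with h9 | h9
                  · skip
                    exact allRangeF_sound _ _ (checkPointF_eq cert) 112900 25 chkP_112900 i (by omega) (by omega)
                  · skip
                    exact allRangeF_sound _ _ (checkPointF_eq cert) 112925 25 chkP_112925 i (by omega) (by omega)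
          · skip
            rcases Nat.lt_or_ge i 113075 with h6 | h6
            · skip
              rcases Nat.lt_or_ge i 113000 with h7 | h7
              · skip
                rcases Nat.lt_or_ge i 112975 with h8 | h8
                · skip
                  exact allRangeF_sound _ _ (checkPointF_eq cert) 112950 25 chkP_112950 i (by omega) (by omega)
                · skip
                  exact allRangeF_sound _ _ (checkPointF_eq cert) 112975 25 chkP_112975 i (by omega) (by omega)
              · skip
                rcases Nat.lt_or_ge i 113025 with h8 | h8
                · skip
                  exact allRangeF_sound _ _ (checkPointF_eq cert) 113000 25 chkP_113000 i (by omega) (by omega)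
                · skip
                  rcases Nat.lt_or_ge i 113050 with h9 | h9
                  · skip
                    exact allRangeF_sound _ _ (checkPointF_eq cert) 113025 25 chkP_113025 i (by omega) (by omega)
                  · skip
                    exact allRangeF_sound _ _ (checkPointF_eq cert) 113050 25 chkP_113050 i (by omega) (by omega)
            · skip
              rcases Nat.lt_or_ge i 113125 with h7 | h7
              · skip
                rcases Nat.lt_or_ge i 113100 with h8 | h8
                · skip
                  exact allRangeF_sound _ _ (checkPointF_eq cert) 113075 25 chkP_113075 i (by omega) (by omega)
                · skip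
                  exact allRangeF_sound _ _ (checkPointF_eq cert) 113100 25 chkP_113100 i (by omega) (by omega)
              · skip
                rcases Nat.lt_or_ge i 113150 with h8 | h8
                · skip
                  exact allRangeF_sound _ _ (checkPointF_eq cert) 113125 25 chkP_113125 i (by omega) (by omega)
                · skip
                  rcases Nat.lt_or_ge i 113175 with h9 | h9
                  · skip
                    exact allRangeF_sound _ _ (checkPointF_eq cert) 113150 25 chkP_113150 i (by omega) (by omega)
                  · skip
                    exact allRangeF_sound _ _ (checkPointF_eq cert) 113175 25 chkP_113175 i (by omega) (by omega)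
    · skip
      rcases Nat.lt_or_ge i 114150 with h3 | h3
      · skip
        rcases Nat.lt_or_ge i 113675 with h4 | h4
        · skip
          rcases Nat.lt_or_ge i 113425 with h5 | h5
          · skip
            rcases Nat.lt_or_ge i 113300 with h6 | h6
            · skip
              rcases Nat.lt_or_ge i 113250 with h7 | h7
              · skip
                rcases Nat.lt_or_ge i 113225 with h8 | h8
                · skip
                  exact allRangeF_sound _ _ (checkPointF_eq cert) 113200 25 chkP_113200 i (by omega) (by omega)
                · skip
                  exact allRangeF_sound _ _ (checkPointF_eq cert) 113225 25 chkP_113225 i (by omega) (by omega)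
              · skip
                rcases Nat.lt_or_ge i 113275 with h8 | h8
                · skip
                  exact allRangeF_sound _ _ (checkPointF_eq cert) 113250 25 chkP_113250 i (by omega) (by omega)
                · skip
                  exact allRangeF_sound _ _ (checkPointF_eq cert) 113275 25 chkP_113275 i (by omega) (by omega)
            · skip
              rcases Nat.lt_or_ge i 113350 with h7 | h7
              · skip
                rcases Nat.lt_or_ge i 113325 with h8 | h8
                · skip
                  exact allRangeF_sound _ _ (checkPointF_eq cert) 113300 25 chkP_113300 i (by omega) (by omega)
                · skip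
                  exact allRangeF_sound _ _ (checkPointF_eq cert) 113325 25 chkP_113325 i (by omega) (by omega)
              · skip
                rcases Nat.lt_or_ge i 113375 with h8 | h8
                · skip
                  exact allRangeF_sound _ _ (checkPointF_eq cert) 113350 25 chkP_113350 i (by omega) (by omega)
                · skip
                  rcases Nat.lt_or_ge i 113400 with h9 | h9
                  · skip
                    exact allRangeF_sound _ _ (checkPointF_eq cert) 113375 25 chkP_113375 i (by omega) (by omega)
                  · skip
                    exact allRangeF_sound _ _ (checkPointF_eq cert) 113400 25 chkP_113400 i (by omega) (by omega)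
          · skip
            rcases Nat.lt_or_ge i 113550 with h6 | h6
            · skip
              rcases Nat.lt_or_ge i 113475 with h7 | h7
              · skip
                rcases Nat.lt_or_ge i 113450 with h8 | h8
                · skip
                  exact allRangeF_sound _ _ (checkPointF_eq cert) 113425 25 chkP_113425 i (by omega) (by omega)
                · skip
                  exact allRangeF_sound _ _ (checkPointF_eq cert) 113450 25 chkP_113450 i (by omega) (by omega)
              · skip
                rcases Nat.lt_or_ge i 113500 with h8 | h8
                · skip
                  exact allRangeF_sound _ _ (checkPointF_eq cert) 113475 25 chkP_113475 i (by omega) (by omega)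
                · skip
                  rcases Nat.lt_or_ge i 113525 with h9 | h9
                  · skip
                    exact allRangeF_sound _ _ (checkPointF_eq cert) 113500 25 chkP_113500 i (by omega) (by omega)
                  · skip
                    exact allRangeF_sound _ _ (checkPointF_eq cert) 113525 25 chkP_113525 i (by omega) (by omega)
            · skip
              rcases Nat.lt_or_ge i 113600 with h7 | h7
              · skip
                rcases Nat.lt_or_ge i 113575 with h8 | h8
                · skip
                  exact allRangeF_sound _ _ (checkPointF_eq cert) 113550 25 chkP_113550 i (by omega) (by omega)
                · skip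
                  exact allRangeF_sound _ _ (checkPointF_eq cert) 113575 25 chkP_113575 i (by omega) (by omega)
              · skip
                rcases Nat.lt_or_ge i 113625 with h8 | h8
                · skip
                  exact allRangeF_sound _ _ (checkPointF_eq cert) 113600 25 chkP_113600 i (by omega) (by omega)
                · skip
                  rcases Nat.lt_or_ge i 113650 with h9 | h9
                  · skip
                    exact allRangeF_sound _ _ (checkPointF_eq cert) 113625 25 chkP_113625 i (by omega) (by omega)
                  · skip
                    exact allRangeF_sound _ _ (checkPointF_eq cert) 113650 25 chkP_113650 i (by omega) (by omega)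
        · skip
          rcases Nat.lt_or_ge i 113900 with h5 | h5
          · skip
            rcases Nat.lt_or_ge i 113775 with h6 | h6
            · skip
              rcases Nat.lt_or_ge i 113725 with h7 | h7
              · skip
                rcases Nat.lt_or_ge i 113700 with h8 | h8
                · skip
                  exact allRangeF_sound _ _ (checkPointF_eq cert) 113675 25 chkP_113675 i (by omega) (by omega)
                · skip
                  exact allRangeF_sound _ _ (checkPointF_eq cert) 113700 25 chkP_113700 i (by omega) (by omega)
              · skip
                rcases Nat.lt_or_ge i 113750 with h8 | h8
                · skip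
                  exact allRangeF_sound _ _ (checkPointF_eq cert) 113725 25 chkP_113725 i (by omega) (by omega)
                · skip
                  exact allRangeF_sound _ _ (checkPointF_eq cert) 113750 25 chkP_113750 i (by omega) (by omega)
            · skip
              rcases Nat.lt_or_ge i 113825 with h7 | h7
              · skip
                rcases Nat.lt_or_ge i 113800 with h8 | h8
                · skip
                  exact allRangeF_sound _ _ (checkPointF_eq cert) 113775 25 chkP_113775 i (by omega) (by omega)
                · skip
                  exact allRangeF_sound _ _ (checkPointF_eq cert) 113800 25 chkP_113800 i (by omega) (by omega)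
              · skip
                rcases Nat.lt_or_ge i 113850 with h8 | h8
                · skip
                  exact allRangeF_sound _ _ (checkPointF_eq cert) 113825 25 chkP_113825 i (by omega) (by omega)
                · skip
                  rcases Nat.lt_or_ge i 113875 with h9 | h9
                  · skip
                    exact allRangeF_sound _ _ (checkPointF_eq cert) 113850 25 chkP_113850 i (by omega) (by omega)
                  · skip
                    exact allRangeF_sound _ _ (checkPointF_eq cert) 113875 25 chkP_113875 i (by omega) (by omega)
          · skip
            rcases Nat.lt_or_ge i 114025 with h6 | h6
            · skip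
              rcases Nat.lt_or_ge i 113950 with h7 | h7
              · skip
                rcases Nat.lt_or_ge i 113925 with h8 | h8
                · skip
                  exact allRangeF_sound _ _ (checkPointF_eq cert) 113900 25 chkP_113900 i (by omega) (by omega)
                · skip
                  exact allRangeF_sound _ _ (checkPointF_eq cert) 113925 25 chkP_113925 i (by omega) (by omega)
              · skip
                rcases Nat.lt_or_ge i 113975 with h8 | h8
                · skip
                  exact allRangeF_sound _ _ (checkPointF_eq cert) 113950 25 chkP_113950 i (by omega) (by omega)
                · skip
                  rcases Nat.lt_or_ge i 114000 with h9 | h9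
                  · skip
                    exact allRangeF_sound _ _ (checkPointF_eq cert) 113975 25 chkP_113975 i (by omega) (by omega)
                  · skip
                    exact allRangeF_sound _ _ (checkPointF_eq cert) 114000 25 chkP_114000 i (by omega) (by omega)
            · skip
              rcases Nat.lt_or_ge i 114075 with h7 | h7
              · skip
                rcases Nat.lt_or_ge i 114050 with h8 | h8
                · skip
                  exact allRangeF_sound _ _ (checkPointF_eq cert) 114025 25 chkP_114025 i (by omega) (by omega)
                · skip
                  exact allRangeF_sound _ _ (checkPointF_eq cert) 114050 25 chkP_114050 i (by omega) (by omega)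
              · skip
                rcases Nat.lt_or_ge i 114100 with h8 | h8
                · skip
                  exact allRangeF_sound _ _ (checkPointF_eq cert) 114075 25 chkP_114075 i (by omega) (by omega)
                · skip
                  rcases Nat.lt_or_ge i 114125 with h9 | h9
                  · skip
                    exact allRangeF_sound _ _ (checkPointF_eq cert) 114100 25 chkP_114100 i (by omega) (by omega)
                  · skip
                    exact allRangeF_sound _ _ (checkPointF_eq cert) 114125 25 chkP_114125 i (by omega) (by omega)
      · skip
        rcases Nat.lt_or_ge i 114625 with h4 | h4
        · skip
          rcases Nat.lt_or_ge i 114375 with h5 | h5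
          · skip
            rcases Nat.lt_or_ge i 114250 with h6 | h6
            · skip
              rcases Nat.lt_or_ge i 114200 with h7 | h7
              · skip
                rcases Nat.lt_or_ge i 114175 with h8 | h8
                · skip
                  exact allRangeF_sound _ _ (checkPointF_eq cert) 114150 25 chkP_114150 i (by omega) (by omega)
                · skip
                  exact allRangeF_sound _ _ (checkPointF_eq cert) 114175 25 chkP_114175 i (by omega) (by omega)
              · skip
                rcases Nat.lt_or_ge i 114225 with h8 | h8
                · skip
                  exact allRangeF_sound _ _ (checkPointF_eq cert) 114200 25 chkP_114200 i (by omega) (by omega)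
                · skip
                  exact allRangeF_sound _ _ (checkPointF_eq cert) 114225 25 chkP_114225 i (by omega) (by omega)
            · skip
              rcases Nat.lt_or_ge i 114300 with h7 | h7
              · skip
                rcases Nat.lt_or_ge i 114275 with h8 | h8
                · skip
                  exact allRangeF_sound _ _ (checkPointF_eq cert) 114250 25 chkP_114250 i (by omega) (by omega)
                · skip
                  exact allRangeF_sound _ _ (checkPointF_eq cert) 114275 25 chkP_114275 i (by omega) (by omega)
              · skip
                rcases Nat.lt_or_ge i 114325 with h8 | h8
                · skip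
                  exact allRangeF_sound _ _ (checkPointF_eq cert) 114300 25 chkP_114300 i (by omega) (by omega)
                · skip
                  rcases Nat.lt_or_ge i 114350 with h9 | h9
                  · skip
                    exact allRangeF_sound _ _ (checkPointF_eq cert) 114325 25 chkP_114325 i (by omega) (by omega)
                  · skip
                    exact allRangeF_sound _ _ (checkPointF_eq cert) 114350 25 chkP_114350 i (by omega) (by omega)
          · skip
            rcases Nat.lt_or_ge i 114500 with h6 | h6
            · skip
              rcases Nat.lt_or_ge i 114425 with h7 | h7
              · skip
                rcases Nat.lt_or_ge i 114400 with h8 | h8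
                · skip
                  exact allRangeF_sound _ _ (checkPointF_eq cert) 114375 25 chkP_114375 i (by omega) (by omega)
                · skip
                  exact allRangeF_sound _ _ (checkPointF_eq cert) 114400 25 chkP_114400 i (by omega) (by omega)
              · skip
                rcases Nat.lt_or_ge i 114450 with h8 | h8
                · skip
                  exact allRangeF_sound _ _ (checkPointF_eq cert) 114425 25 chkP_114425 i (by omega) (by omega)
                · skip
                  rcases Nat.lt_or_ge i 114475 with h9 | h9
                  · skip
                    exact allRangeF_sound _ _ (checkPointF_eq cert) 114450 25 chkP_114450 i (by omega) (by omega)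
                  · skip
                    exact allRangeF_sound _ _ (checkPointF_eq cert) 114475 25 chkP_114475 i (by omega) (by omega)
            · skip
              rcases Nat.lt_or_ge i 114550 with h7 | h7
              · skip
                rcases Nat.lt_or_ge i 114525 with h8 | h8
                · skip
                  exact allRangeF_sound _ _ (checkPointF_eq cert) 114500 25 chkP_114500 i (by omega) (by omega)
                · skip
                  exact allRangeF_sound _ _ (checkPointF_eq cert) 114525 25 chkP_114525 i (by omega) (by omega)
              · skip
                rcases Nat.lt_or_ge i 114575 with h8 | h8
                · skip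
                  exact allRangeF_sound _ _ (checkPointF_eq cert) 114550 25 chkP_114550 i (by omega) (by omega)
                · skip
                  rcases Nat.lt_or_ge i 114600 with h9 | h9
                  · skip
                    exact allRangeF_sound _ _ (checkPointF_eq cert) 114575 25 chkP_114575 i (by omega) (by omega)
                  · skip
                    exact allRangeF_sound _ _ (checkPointF_eq cert) 114600 25 chkP_114600 i (by omega) (by omega)
        · skip
          rcases Nat.lt_or_ge i 114875 with h5 | h5
          · skip
            rcases Nat.lt_or_ge i 114750 with h6 | h6
            · skip
              rcases Nat.lt_or_ge i 114675 with h7 | h7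
              · skip
                rcases Nat.lt_or_ge i 114650 with h8 | h8
                · skip
                  exact allRangeF_sound _ _ (checkPointF_eq cert) 114625 25 chkP_114625 i (by omega) (by omega)
                · skip
                  exact allRangeF_sound _ _ (checkPointF_eq cert) 114650 25 chkP_114650 i (by omega) (by omega)
              · skip
                rcases Nat.lt_or_ge i 114700 with h8 | h8
                · skip
                  exact allRangeF_sound _ _ (checkPointF_eq cert) 114675 25 chkP_114675 i (by omega) (by omega)
                · skip
                  rcases Nat.lt_or_ge i 114725 with h9 | h9
                  · skip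
                    exact allRangeF_sound _ _ (checkPointF_eq cert) 114700 25 chkP_114700 i (by omega) (by omega)
                  · skip
                    exact allRangeF_sound _ _ (checkPointF_eq cert) 114725 25 chkP_114725 i (by omega) (by omega)
            · skip
              rcases Nat.lt_or_ge i 114800 with h7 | h7
              · skip
                rcases Nat.lt_or_ge i 114775 with h8 | h8
                · skip
                  exact allRangeF_sound _ _ (checkPointF_eq cert) 114750 25 chkP_114750 i (by omega) (by omega)
                · skip
                  exact allRangeF_sound _ _ (checkPointF_eq cert) 114775 25 chkP_114775 i (by omega) (by omega)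
              · skip
                rcases Nat.lt_or_ge i 114825 with h8 | h8
                · skip
                  exact allRangeF_sound _ _ (checkPointF_eq cert) 114800 25 chkP_114800 i (by omega) (by omega)
                · skip
                  rcases Nat.lt_or_ge i 114850 with h9 | h9
                  · skip
                    exact allRangeF_sound _ _ (checkPointF_eq cert) 114825 25 chkP_114825 i (by omega) (by omega)
                  · skip
                    exact allRangeF_sound _ _ (checkPointF_eq cert) 114850 25 chkP_114850 i (by omega) (by omega)
          · skip
            rcases Nat.lt_or_ge i 115000 with h6 | h6
            · skip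
              rcases Nat.lt_or_ge i 114925 with h7 | h7
              · skip
                rcases Nat.lt_or_ge i 114900 with h8 | h8
                · skip
                  exact allRangeF_sound _ _ (checkPointF_eq cert) 114875 25 chkP_114875 i (by omega) (by omega)
                · skip
                  exact allRangeF_sound _ _ (checkPointF_eq cert) 114900 25 chkP_114900 i (by omega) (by omega)
              · skip
                rcases Nat.lt_or_ge i 114950 with h8 | h8
                · skip
                  exact allRangeF_sound _ _ (checkPointF_eq cert) 114925 25 chkP_114925 i (by omega) (by omega)
                · skip
                  rcases Nat.lt_or_ge i 114975 with h9 | h9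
                  · skip
                    exact allRangeF_sound _ _ (checkPointF_eq cert) 114950 25 chkP_114950 i (by omega) (by omega)
                  · skip
                    exact allRangeF_sound _ _ (checkPointF_eq cert) 114975 25 chkP_114975 i (by omega) (by omega)
            · skip
              rcases Nat.lt_or_ge i 115050 with h7 | h7
              · skip
                rcases Nat.lt_or_ge i 115025 with h8 | h8
                · skip
                  exact allRangeF_sound _ _ (checkPointF_eq cert) 115000 25 chkP_115000 i (by omega) (by omega)
                · skip
                  exact allRangeF_sound _ _ (checkPointF_eq cert) 115025 25 chkP_115025 i (by omega) (by omega)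
              · skip
                rcases Nat.lt_or_ge i 115075 with h8 | h8
                · skip
                  exact allRangeF_sound _ _ (checkPointF_eq cert) 115050 25 chkP_115050 i (by omega) (by omega)
                · skip
                  rcases Nat.lt_or_ge i 115100 with h9 | h9
                  · skip
                    exact allRangeF_sound _ _ (checkPointF_eq cert) 115075 25 chkP_115075 i (by omega) (by omega)
                  · skip
                    exact allRangeF_sound _ _ (checkPointF_eq cert) 115100 25 chkP_115100 i (by omega) (by omega)

end Cfsg.Agent.Lib.Helper28.Fi24Data
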