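import Cfsg.Agent.Lib.Helper28.Fi24Data
import Cfsg.Agent.Lib.Helper28.TCFastB

set_option autoImplicit false
set_option maxRecDepth 1000000
set_option linter.all false
set_option Elab.async false

namespace Cfsg.Agent.Lib.Helper28.Fi24Data

open Cfsg.Agent.Lib.Helper28B

theorem chkP_222575 : allRangeF (checkPointF cert) (nat_lit 222575) (nat_lit 25) = true := by decide +kernel
theorem chkP_222600 : allRangeF (checkPointF cert) (nat_lit 222600) (nat_lit 25) = true := by decide +kernel
theorem chkP_222625 : allRangeF (checkPointF cert) (nat_lit 222625) (nat_lit 25) = true := by decide +kernel
theorem chkP_222650 : allRangeF (checkPointF cert) (nat_lit 222650) (nat_lit 25) = true := by decide +kernel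
theorem chkP_222675 : allRangeF (checkPointF cert) (nat_lit 222675) (nat_lit 25) = true := by decide +kernel
theorem chkP_222700 : allRangeF (checkPointF cert) (nat_lit 222700) (nat_lit 25) = true := by decide +kernel
theorem chkP_222725 : allRangeF (checkPointF cert) (nat_lit 222725) (nat_lit 25) = true := by decide +kernel
theorem chkP_222750 : allRangeF (checkPointF cert) (nat_lit 222750) (nat_lit 25) = true := by decide +kernel
theorem chkP_222775 : allRangeF (checkPointF cert) (nat_lit 222775) (nat_lit 25) = true := by decide +kernel
theorem chkP_222800 : allRangeF (checkPointF cert) (nat_lit 222800) (nat_lit 25) = true := by decide +kernel
theorem chkP_222825 : allRangeF (checkPointF cert) (nat_lit 222825) (nat_lit 25) = true := by decide +kernel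
theorem chkP_222850 : allRangeF (checkPointF cert) (nat_lit 222850) (nat_lit 25) = true := by decide +kernel
theorem chkP_222875 : allRangeF (checkPointF cert) (nat_lit 222875) (nat_lit 25) = true := by decide +kernel
theorem chkP_222900 : allRangeF (checkPointF cert) (nat_lit 222900) (nat_lit 25) = true := by decide +kernel
theorem chkP_222925 : allRangeF (checkPointF cert) (nat_lit 222925) (nat_lit 25) = true := by decide +kernel
theorem chkP_222950 : allRangeF (checkPointF cert) (nat_lit 222950) (nat_lit 25) = true := by decide +kernel
theorem chkP_222975 : allRangeF (checkPointF cert) (nat_lit 222975) (nat_lit 25) = true := by decide +kernel
theorem chkP_223000 : allRangeF (checkPointF cert) (nat_lit 223000) (nat_lit 25) = true := by decide +kernel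
theorem chkP_223025 : allRangeF (checkPointF cert) (nat_lit 223025) (nat_lit 25) = true := by decide +kernel
theorem chkP_223050 : allRangeF (checkPointF cert) (nat_lit 223050) (nat_lit 25) = true := by decide +kernel
theorem chkP_223075 : allRangeF (checkPointF cert) (nat_lit 223075) (nat_lit 25) = true := by decide +kernel
theorem chkP_223100 : allRangeF (checkPointF cert) (nat_lit 223100) (nat_lit 25) = true := by decide +kernel
theorem chkP_223125 : allRangeF (checkPointF cert) (nat_lit 223125) (nat_lit 25) = true := by decide +kernel
theorem chkP_223150 : allRangeF (checkPointF cert) (nat_lit 223150) (nat_lit 25) = true := by decide +kernel
theorem chkP_223175 : allRangeF (checkPointF cert) (nat_lit 223175) (nat_lit 25) = true := by decide +kernel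
theorem chkP_223200 : allRangeF (checkPointF cert) (nat_lit 223200) (nat_lit 25) = true := by decide +kernel
theorem chkP_223225 : allRangeF (checkPointF cert) (nat_lit 223225) (nat_lit 25) = true := by decide +kernel
theorem chkP_223250 : allRangeF (checkPointF cert) (nat_lit 223250) (nat_lit 25) = true := by decide +kernel
theorem chkP_223275 : allRangeF (checkPointF cert) (nat_lit 223275) (nat_lit 25) = true := by decide +kernel
theorem chkP_223300 : allRangeF (checkPointF cert) (nat_lit 223300) (nat_lit 25) = true := by decide +kernel
theorem chkP_223325 : allRangeF (checkPointF cert) (nat_lit 223325) (nat_lit 25) = true := by decide +kernel
theorem chkP_223350 : allRangeF (checkPointF cert) (nat_lit 223350) (nat_lit 25) = true := by decide +kernel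
theorem chkP_223375 : allRangeF (checkPointF cert) (nat_lit 223375) (nat_lit 25) = true := by decide +kernel
theorem chkP_223400 : allRangeF (checkPointF cert) (nat_lit 223400) (nat_lit 25) = true := by decide +kernel
theorem chkP_223425 : allRangeF (checkPointF cert) (nat_lit 223425) (nat_lit 25) = true := by decide +kernel
theorem chkP_223450 : allRangeF (checkPointF cert) (nat_lit 223450) (nat_lit 25) = true := by decide +kernel
theorem chkP_223475 : allRangeF (checkPointF cert) (nat_lit 223475) (nat_lit 25) = true := by decide +kernel
theorem chkP_223500 : allRangeF (checkPointF cert) (nat_lit 223500) (nat_lit 25) = true := by decide +kernel
theorem chkP_223525 : allRangeF (checkPointF cert) (nat_lit 223525) (nat_lit 25) = true := by decide +kernel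
theorem chkP_223550 : allRangeF (checkPointF cert) (nat_lit 223550) (nat_lit 25) = true := by decide +kernel
theorem chkP_223575 : allRangeF (checkPointF cert) (nat_lit 223575) (nat_lit 25) = true := by decide +kernel
theorem chkP_223600 : allRangeF (checkPointF cert) (nat_lit 223600) (nat_lit 25) = true := by decide +kernel
theorem chkP_223625 : allRangeF (checkPointF cert) (nat_lit 223625) (nat_lit 25) = true := by decide +kernel
theorem chkP_223650 : allRangeF (checkPointF cert) (nat_lit 223650) (nat_lit 25) = true := by decide +kernel
theorem chkP_223675 : allRangeF (checkPointF cert) (nat_lit 223675) (nat_lit 25) = true := by decide +kernel
theorem chkP_223700 : allRangeF (checkPointF cert) (nat_lit 223700) (nat_lit 25) = true := by decide +kernel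
theorem chkP_223725 : allRangeF (checkPointF cert) (nat_lit 223725) (nat_lit 25) = true := by decide +kernel
theorem chkP_223750 : allRangeF (checkPointF cert) (nat_lit 223750) (nat_lit 25) = true := by decide +kernel
theorem chkP_223775 : allRangeF (checkPointF cert) (nat_lit 223775) (nat_lit 25) = true := by decide +kernel
theorem chkP_223800 : allRangeF (checkPointF cert) (nat_lit 223800) (nat_lit 25) = true := by decide +kernel
theorem chkP_223825 : allRangeF (checkPointF cert) (nat_lit 223825) (nat_lit 25) = true := by decide +kernel
theorem chkP_223850 : allRangeF (checkPointF cert) (nat_lit 223850) (nat_lit 25) = true := by decide +kernel
theorem chkP_223875 : allRangeF (checkPointF cert) (nat_lit 223875) (nat_lit 25) = true := by decide +kernel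
theorem chkP_223900 : allRangeF (checkPointF cert) (nat_lit 223900) (nat_lit 25) = true := by decide +kernel
theorem chkP_223925 : allRangeF (checkPointF cert) (nat_lit 223925) (nat_lit 25) = true := by decide +kernel
theorem chkP_223950 : allRangeF (checkPointF cert) (nat_lit 223950) (nat_lit 25) = true := by decide +kernel
theorem chkP_223975 : allRangeF (checkPointF cert) (nat_lit 223975) (nat_lit 25) = true := by decide +kernel
theorem chkP_224000 : allRangeF (checkPointF cert) (nat_lit 224000) (nat_lit 25) = true := by decide +kernel
theorem chkP_224025 : allRangeF (checkPointF cert) (nat_lit 224025) (nat_lit 25) = true := by decide +kernel
theorem chkP_224050 : allRangeF (checkPointF cert) (nat_lit 224050) (nat_lit 25) = true := by decide +kernel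
theorem chkP_224075 : allRangeF (checkPointF cert) (nat_lit 224075) (nat_lit 25) = true := by decide +kernel
theorem chkP_224100 : allRangeF (checkPointF cert) (nat_lit 224100) (nat_lit 25) = true := by decide +kernel
theorem chkP_224125 : allRangeF (checkPointF cert) (nat_lit 224125) (nat_lit 25) = true := by decide +kernel
theorem chkP_224150 : allRangeF (checkPointF cert) (nat_lit 224150) (nat_lit 25) = true := by decide +kernel
theorem chkP_224175 : allRangeF (checkPointF cert) (nat_lit 224175) (nat_lit 25) = true := by decide +kernel
theorem chkP_224200 : allRangeF (checkPointF cert) (nat_lit 224200) (nat_lit 25) = true := by decide +kernel
theorem chkP_224225 : allRangeF (checkPointF cert) (nat_lit 224225) (nat_lit 25) = true := by decide +kernel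
theorem chkP_224250 : allRangeF (checkPointF cert) (nat_lit 224250) (nat_lit 25) = true := by decide +kernel
theorem chkP_224275 : allRangeF (checkPointF cert) (nat_lit 224275) (nat_lit 25) = true := by decide +kernel
theorem chkP_224300 : allRangeF (checkPointF cert) (nat_lit 224300) (nat_lit 25) = true := by decide +kernel
theorem chkP_224325 : allRangeF (checkPointF cert) (nat_lit 224325) (nat_lit 25) = true := by decide +kernel
theorem chkP_224350 : allRangeF (checkPointF cert) (nat_lit 224350) (nat_lit 25) = true := by decide +kernel
theorem chkP_224375 : allRangeF (checkPointF cert) (nat_lit 224375) (nat_lit 25) = true := by decide +kernel
theorem chkP_224400 : allRangeF (checkPointF cert) (nat_lit 224400) (nat_lit 25) = true := by decide +kernel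
theorem chkP_224425 : allRangeF (checkPointF cert) (nat_lit 224425) (nat_lit 25) = true := by decide +kernel
theorem chkP_224450 : allRangeF (checkPointF cert) (nat_lit 224450) (nat_lit 25) = true := by decide +kernel
theorem chkP_224475 : allRangeF (checkPointF cert) (nat_lit 224475) (nat_lit 25) = true := by decide +kernel
theorem chkP_224500 : allRangeF (checkPointF cert) (nat_lit 224500) (nat_lit 25) = true := by decide +kernel
theorem chkP_224525 : allRangeF (checkPointF cert) (nat_lit 224525) (nat_lit 25) = true := by decide +kernel
theorem chkP_224550 : allRangeF (checkPointF cert) (nat_lit 224550) (nat_lit 25) = true := by decide +kernel
theorem chkP_224575 : allRangeF (checkPointF cert) (nat_lit 224575) (nat_lit 25) = true := by decide +kernel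
theorem chkP_224600 : allRangeF (checkPointF cert) (nat_lit 224600) (nat_lit 25) = true := by decide +kernel
theorem chkP_224625 : allRangeF (checkPointF cert) (nat_lit 224625) (nat_lit 25) = true := by decide +kernel
theorem chkP_224650 : allRangeF (checkPointF cert) (nat_lit 224650) (nat_lit 25) = true := by decide +kernel
theorem chkP_224675 : allRangeF (checkPointF cert) (nat_lit 224675) (nat_lit 25) = true := by decide +kernel
theorem chkP_224700 : allRangeF (checkPointF cert) (nat_lit 224700) (nat_lit 25) = true := by decide +kernel
theorem chkP_224725 : allRangeF (checkPointF cert) (nat_lit 224725) (nat_lit 25) = true := by decide +kernel
theorem chkP_224750 : allRangeF (checkPointF cert) (nat_lit 224750) (nat_lit 25) = true := by decide +kernel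
theorem chkP_224775 : allRangeF (checkPointF cert) (nat_lit 224775) (nat_lit 25) = true := by decide +kernel
theorem chkP_224800 : allRangeF (checkPointF cert) (nat_lit 224800) (nat_lit 25) = true := by decide +kernel
theorem chkP_224825 : allRangeF (checkPointF cert) (nat_lit 224825) (nat_lit 25) = true := by decide +kernel
theorem chkP_224850 : allRangeF (checkPointF cert) (nat_lit 224850) (nat_lit 25) = true := by decide +kernel
theorem chkP_224875 : allRangeF (checkPointF cert) (nat_lit 224875) (nat_lit 25) = true := by decide +kernel
theorem chkP_224900 : allRangeF (checkPointF cert) (nat_lit 224900) (nat_lit 25) = true := by decide +kernel
theorem chkP_224925 : allRangeF (checkPointF cert) (nat_lit 224925) (nat_lit 25) = true := by decide +kernel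
theorem chkP_224950 : allRangeF (checkPointF cert) (nat_lit 224950) (nat_lit 25) = true := by decide +kernel
theorem chkP_224975 : allRangeF (checkPointF cert) (nat_lit 224975) (nat_lit 25) = true := by decide +kernel
theorem chkP_225000 : allRangeF (checkPointF cert) (nat_lit 225000) (nat_lit 25) = true := by decide +kernel
theorem chkP_225025 : allRangeF (checkPointF cert) (nat_lit 225025) (nat_lit 25) = true := by decide +kernel
theorem chkP_225050 : allRangeF (checkPointF cert) (nat_lit 225050) (nat_lit 25) = true := by decide +kernel
theorem chkP_225075 : allRangeF (checkPointF cert) (nat_lit 225075) (nat_lit 25) = true := by decide +kernel
theorem chkP_225100 : allRangeF (checkPointF cert) (nat_lit 225100) (nat_lit 25) = true := by decide +kernel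
theorem chkP_225125 : allRangeF (checkPointF cert) (nat_lit 225125) (nat_lit 25) = true := by decide +kernel
theorem chkP_225150 : allRangeF (checkPointF cert) (nat_lit 225150) (nat_lit 25) = true := by decide +kernel
theorem chkP_225175 : allRangeF (checkPointF cert) (nat_lit 225175) (nat_lit 25) = true := by decide +kernel
theorem chkP_225200 : allRangeF (checkPointF cert) (nat_lit 225200) (nat_lit 25) = true := by decide +kernel
theorem chkP_225225 : allRangeF (checkPointF cert) (nat_lit 225225) (nat_lit 25) = true := by decide +kernel
theorem chkP_225250 : allRangeF (checkPointF cert) (nat_lit 225250) (nat_lit 25) = true := by decide +kernel
theorem chkP_225275 : allRangeF (checkPointF cert) (nat_lit 225275) (nat_lit 25) = true := by decide +kernel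
theorem chkP_225300 : allRangeF (checkPointF cert) (nat_lit 225300) (nat_lit 25) = true := by decide +kernel
theorem chkP_225325 : allRangeF (checkPointF cert) (nat_lit 225325) (nat_lit 25) = true := by decide +kernel
theorem chkP_225350 : allRangeF (checkPointF cert) (nat_lit 225350) (nat_lit 25) = true := by decide +kernel
theorem chkP_225375 : allRangeF (checkPointF cert) (nat_lit 225375) (nat_lit 25) = true := by decide +kernel
theorem chkP_225400 : allRangeF (checkPointF cert) (nat_lit 225400) (nat_lit 25) = true := by decide +kernel
theorem chkP_225425 : allRangeF (checkPointF cert) (nat_lit 225425) (nat_lit 25) = true := by decide +kernel
theorem chkP_225450 : allRangeF (checkPointF cert) (nat_lit 225450) (nat_lit 25) = true := by decide +kernel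
theorem chkP_225475 : allRangeF (checkPointF cert) (nat_lit 225475) (nat_lit 25) = true := by decide +kernel
theorem chkP_225500 : allRangeF (checkPointF cert) (nat_lit 225500) (nat_lit 25) = true := by decide +kernel
theorem chkP_225525 : allRangeF (checkPointF cert) (nat_lit 225525) (nat_lit 25) = true := by decide +kernel
theorem chkP_225550 : allRangeF (checkPointF cert) (nat_lit 225550) (nat_lit 25) = true := by decide +kernel
theorem chkP_225575 : allRangeF (checkPointF cert) (nat_lit 225575) (nat_lit 25) = true := by decide +kernel
theorem chkP_225600 : allRangeF (checkPointF cert) (nat_lit 225600) (nat_lit 25) = true := by decide +kernel
theorem chkP_225625 : allRangeF (checkPointF cert) (nat_lit 225625) (nat_lit 25) = true := by decide +kernel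
theorem chkP_225650 : allRangeF (checkPointF cert) (nat_lit 225650) (nat_lit 25) = true := by decide +kernel
theorem chkP_225675 : allRangeF (checkPointF cert) (nat_lit 225675) (nat_lit 25) = true := by decide +kernel
theorem chkP_225700 : allRangeF (checkPointF cert) (nat_lit 225700) (nat_lit 25) = true := by decide +kernel
theorem chkP_225725 : allRangeF (checkPointF cert) (nat_lit 225725) (nat_lit 25) = true := by decide +kernel
theorem chkP_225750 : allRangeF (checkPointF cert) (nat_lit 225750) (nat_lit 25) = true := by decide +kernel
theorem chkP_225775 : allRangeF (checkPointF cert) (nat_lit 225775) (nat_lit 25) = true := by decide +kernel
theorem chkP_225800 : allRangeF (checkPointF cert) (nat_lit 225800) (nat_lit 25) = true := by decide +kernel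
theorem chkP_225825 : allRangeF (checkPointF cert) (nat_lit 225825) (nat_lit 25) = true := by decide +kernel
theorem chkP_225850 : allRangeF (checkPointF cert) (nat_lit 225850) (nat_lit 25) = true := by decide +kernel
theorem chkP_225875 : allRangeF (checkPointF cert) (nat_lit 225875) (nat_lit 25) = true := by decide +kernel
theorem chkP_225900 : allRangeF (checkPointF cert) (nat_lit 225900) (nat_lit 25) = true := by decide +kernel
theorem chkP_225925 : allRangeF (checkPointF cert) (nat_lit 225925) (nat_lit 25) = true := by decide +kernel
theorem chkP_225950 : allRangeF (checkPointF cert) (nat_lit 225950) (nat_lit 25) = true := by decide +kernel
theorem chkP_225975 : allRangeF (checkPointF cert) (nat_lit 225975) (nat_lit 25) = true := by decide +kernel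
theorem chkP_226000 : allRangeF (checkPointF cert) (nat_lit 226000) (nat_lit 25) = true := by decide +kernel
theorem chkP_226025 : allRangeF (checkPointF cert) (nat_lit 226025) (nat_lit 25) = true := by decide +kernel
theorem chkP_226050 : allRangeF (checkPointF cert) (nat_lit 226050) (nat_lit 25) = true := by decide +kernel
theorem chkP_226075 : allRangeF (checkPointF cert) (nat_lit 226075) (nat_lit 25) = true := by decide +kernel
theorem chkP_226100 : allRangeF (checkPointF cert) (nat_lit 226100) (nat_lit 25) = true := by decide +kernel
theorem chkP_226125 : allRangeF (checkPointF cert) (nat_lit 226125) (nat_lit 25) = true := by decide +kernel
theorem chkP_226150 : allRangeF (checkPointF cert) (nat_lit 226150) (nat_lit 25) = true := by decide +kernel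
theorem chkP_226175 : allRangeF (checkPointF cert) (nat_lit 226175) (nat_lit 25) = true := by decide +kernel
theorem chkP_226200 : allRangeF (checkPointF cert) (nat_lit 226200) (nat_lit 25) = true := by decide +kernel
theorem chkP_226225 : allRangeF (checkPointF cert) (nat_lit 226225) (nat_lit 25) = true := by decide +kernel
theorem chkP_226250 : allRangeF (checkPointF cert) (nat_lit 226250) (nat_lit 25) = true := by decide +kernel
theorem chkP_226275 : allRangeF (checkPointF cert) (nat_lit 226275) (nat_lit 25) = true := by decide +kernel
theorem chkP_226300 : allRangeF (checkPointF cert) (nat_lit 226300) (nat_lit 25) = true := by decide +kernel
theorem chkP_226325 : allRangeF (checkPointF cert) (nat_lit 226325) (nat_lit 25) = true := by decide +kernel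
theorem chkP_226350 : allRangeF (checkPointF cert) (nat_lit 226350) (nat_lit 25) = true := by decide +kernel
theorem chkP_226375 : allRangeF (checkPointF cert) (nat_lit 226375) (nat_lit 25) = true := by decide +kernel
theorem chkP_226400 : allRangeF (checkPointF cert) (nat_lit 226400) (nat_lit 25) = true := by decide +kernel
theorem chkP_226425 : allRangeF (checkPointF cert) (nat_lit 226425) (nat_lit 25) = true := by decide +kernel
theorem chkP_226450 : allRangeF (checkPointF cert) (nat_lit 226450) (nat_lit 25) = true := by decide +kernel
theorem chkP_226475 : allRangeF (checkPointF cert) (nat_lit 226475) (nat_lit 25) = true := by decide +kernel
theorem chkP_226500 : allRangeF (checkPointF cert) (nat_lit 226500) (nat_lit 25) = true := by decide +kernel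
theorem chkP_226525 : allRangeF (checkPointF cert) (nat_lit 226525) (nat_lit 25) = true := by decide +kernel
theorem chkP_226550 : allRangeF (checkPointF cert) (nat_lit 226550) (nat_lit 25) = true := by decide +kernel
theorem chkP_226575 : allRangeF (checkPointF cert) (nat_lit 226575) (nat_lit 25) = true := by decide +kernel
theorem chkP_226600 : allRangeF (checkPointF cert) (nat_lit 226600) (nat_lit 25) = true := by decide +kernel
theorem chkP_226625 : allRangeF (checkPointF cert) (nat_lit 226625) (nat_lit 25) = true := by decide +kernel
theorem chkP_226650 : allRangeF (checkPointF cert) (nat_lit 226650) (nat_lit 25) = true := by decide +kernel
theorem chkP_226675 : allRangeF (checkPointF cert) (nat_lit 226675) (nat_lit 25) = true := by decide +kernel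
theorem chkP_226700 : allRangeF (checkPointF cert) (nat_lit 226700) (nat_lit 25) = true := by decide +kernel
theorem chkP_226725 : allRangeF (checkPointF cert) (nat_lit 226725) (nat_lit 25) = true := by decide +kernel
theorem chkP_226750 : allRangeF (checkPointF cert) (nat_lit 226750) (nat_lit 25) = true := by decide +kernel
theorem chkP_226775 : allRangeF (checkPointF cert) (nat_lit 226775) (nat_lit 25) = true := by decide +kernel
theorem chkP_226800 : allRangeF (checkPointF cert) (nat_lit 226800) (nat_lit 25) = true := by decide +kernel
theorem chkP_226825 : allRangeF (checkPointF cert) (nat_lit 226825) (nat_lit 25) = true := by decide +kernel
theorem chkP_226850 : allRangeF (checkPointF cert) (nat_lit 226850) (nat_lit 25) = true := by decide +kernel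
theorem chkP_226875 : allRangeF (checkPointF cert) (nat_lit 226875) (nat_lit 25) = true := by decide +kernel
theorem chkP_226900 : allRangeF (checkPointF cert) (nat_lit 226900) (nat_lit 25) = true := by decide +kernel
theorem chkP_226925 : allRangeF (checkPointF cert) (nat_lit 226925) (nat_lit 25) = true := by decide +kernel
theorem chkP_226950 : allRangeF (checkPointF cert) (nat_lit 226950) (nat_lit 25) = true := by decide +kernel
theorem chkP_226975 : allRangeF (checkPointF cert) (nat_lit 226975) (nat_lit 25) = true := by decide +kernel
theorem chkP_227000 : allRangeF (checkPointF cert) (nat_lit 227000) (nat_lit 25) = true := by decide +kernel
theorem chkP_227025 : allRangeF (checkPointF cert) (nat_lit 227025) (nat_lit 25) = true := by decide +kernel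
theorem chkP_227050 : allRangeF (checkPointF cert) (nat_lit 227050) (nat_lit 25) = true := by decide +kernel
theorem chkP_227075 : allRangeF (checkPointF cert) (nat_lit 227075) (nat_lit 25) = true := by decide +kernel
theorem chkP_227100 : allRangeF (checkPointF cert) (nat_lit 227100) (nat_lit 25) = true := by decide +kernel
theorem chkP_227125 : allRangeF (checkPointF cert) (nat_lit 227125) (nat_lit 25) = true := by decide +kernel
theorem chkP_227150 : allRangeF (checkPointF cert) (nat_lit 227150) (nat_lit 25) = true := by decide +kernel
theorem chkP_227175 : allRangeF (checkPointF cert) (nat_lit 227175) (nat_lit 25) = true := by decide +kernel
theorem chkP_227200 : allRangeF (checkPointF cert) (nat_lit 227200) (nat_lit 25) = true := by decide +kernel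
theorem chkP_227225 : allRangeF (checkPointF cert) (nat_lit 227225) (nat_lit 25) = true := by decide +kernel
theorem chkP_227250 : allRangeF (checkPointF cert) (nat_lit 227250) (nat_lit 25) = true := by decide +kernel
theorem chkP_227275 : allRangeF (checkPointF cert) (nat_lit 227275) (nat_lit 25) = true := by decide +kernel
theorem chkP_227300 : allRangeF (checkPointF cert) (nat_lit 227300) (nat_lit 25) = true := by decide +kernel
theorem chkP_227325 : allRangeF (checkPointF cert) (nat_lit 227325) (nat_lit 25) = true := by decide +kernel
theorem chkP_227350 : allRangeF (checkPointF cert) (nat_lit 227350) (nat_lit 25) = true := by decide +kernel
theorem chkP_227375 : allRangeF (checkPointF cert) (nat_lit 227375) (nat_lit 25) = true := by decide +kernel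
theorem chkP_227400 : allRangeF (checkPointF cert) (nat_lit 227400) (nat_lit 25) = true := by decide +kernel
theorem chkP_227425 : allRangeF (checkPointF cert) (nat_lit 227425) (nat_lit 25) = true := by decide +kernel
theorem chkP_227450 : allRangeF (checkPointF cert) (nat_lit 227450) (nat_lit 25) = true := by decide +kernel
theorem chkP_227475 : allRangeF (checkPointF cert) (nat_lit 227475) (nat_lit 25) = true := by decide +kernel
theorem chkP_227500 : allRangeF (checkPointF cert) (nat_lit 227500) (nat_lit 25) = true := by decide +kernel
theorem chkP_227525 : allRangeF (checkPointF cert) (nat_lit 227525) (nat_lit 25) = true := by decide +kernel
theorem chkP_227550 : allRangeF (checkPointF cert) (nat_lit 227550) (nat_lit 25) = true := by decide +kernel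
theorem chkP_227575 : allRangeF (checkPointF cert) (nat_lit 227575) (nat_lit 25) = true := by decide +kernel
theorem chkP_227600 : allRangeF (checkPointF cert) (nat_lit 227600) (nat_lit 25) = true := by decide +kernel
theorem chkP_227625 : allRangeF (checkPointF cert) (nat_lit 227625) (nat_lit 25) = true := by decide +kernel
theorem chkP_227650 : allRangeF (checkPointF cert) (nat_lit 227650) (nat_lit 25) = true := by decide +kernel
theorem chkP_227675 : allRangeF (checkPointF cert) (nat_lit 227675) (nat_lit 25) = true := by decide +kernel
theorem chkP_227700 : allRangeF (checkPointF cert) (nat_lit 227700) (nat_lit 25) = true := by decide +kernel
theorem chkP_227725 : allRangeF (checkPointF cert) (nat_lit 227725) (nat_lit 25) = true := by decide +kernel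
theorem chkP_227750 : allRangeF (checkPointF cert) (nat_lit 227750) (nat_lit 25) = true := by decide +kernel
theorem chkP_227775 : allRangeF (checkPointF cert) (nat_lit 227775) (nat_lit 25) = true := by decide +kernel
theorem chkP_227800 : allRangeF (checkPointF cert) (nat_lit 227800) (nat_lit 25) = true := by decide +kernel
theorem chkP_227825 : allRangeF (checkPointF cert) (nat_lit 227825) (nat_lit 25) = true := by decide +kernel
theorem chkP_227850 : allRangeF (checkPointF cert) (nat_lit 227850) (nat_lit 25) = true := by decide +kernel
theorem chkP_227875 : allRangeF (checkPointF cert) (nat_lit 227875) (nat_lit 25) = true := by decide +kernel
theorem chkP_227900 : allRangeF (checkPointF cert) (nat_lit 227900) (nat_lit 25) = true := by decide +kernel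
theorem chkP_227925 : allRangeF (checkPointF cert) (nat_lit 227925) (nat_lit 25) = true := by decide +kernel
theorem chkP_227950 : allRangeF (checkPointF cert) (nat_lit 227950) (nat_lit 25) = true := by decide +kernel
theorem chkP_227975 : allRangeF (checkPointF cert) (nat_lit 227975) (nat_lit 25) = true := by decide +kernel
theorem chkP_228000 : allRangeF (checkPointF cert) (nat_lit 228000) (nat_lit 25) = true := by decide +kernel
theorem chkP_228025 : allRangeF (checkPointF cert) (nat_lit 228025) (nat_lit 25) = true := by decide +kernel
theorem chkP_228050 : allRangeF (checkPointF cert) (nat_lit 228050) (nat_lit 25) = true := by decide +kernel
theorem chkP_228075 : allRangeF (checkPointF cert) (nat_lit 228075) (nat_lit 25) = true := by decide +kernel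
theorem chkP_228100 : allRangeF (checkPointF cert) (nat_lit 228100) (nat_lit 25) = true := by decide +kernel
theorem chkP_228125 : allRangeF (checkPointF cert) (nat_lit 228125) (nat_lit 25) = true := by decide +kernel
theorem chkP_228150 : allRangeF (checkPointF cert) (nat_lit 228150) (nat_lit 25) = true := by decide +kernel
theorem chkP_228175 : allRangeF (checkPointF cert) (nat_lit 228175) (nat_lit 25) = true := by decide +kernel
theorem chkP_228200 : allRangeF (checkPointF cert) (nat_lit 228200) (nat_lit 25) = true := by decide +kernel
theorem chkP_228225 : allRangeF (checkPointF cert) (nat_lit 228225) (nat_lit 25) = true := by decide +kernel
theorem chkP_228250 : allRangeF (checkPointF cert) (nat_lit 228250) (nat_lit 25) = true := by decide +kernel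
theorem chkP_228275 : allRangeF (checkPointF cert) (nat_lit 228275) (nat_lit 25) = true := by decide +kernel
theorem chkP_228300 : allRangeF (checkPointF cert) (nat_lit 228300) (nat_lit 25) = true := by decide +kernel
theorem chkP_228325 : allRangeF (checkPointF cert) (nat_lit 228325) (nat_lit 25) = true := by decide +kernel
theorem chkP_228350 : allRangeF (checkPointF cert) (nat_lit 228350) (nat_lit 25) = true := by decide +kernel
theorem chkP_228375 : allRangeF (checkPointF cert) (nat_lit 228375) (nat_lit 25) = true := by decide +kernel
theorem chkP_228400 : allRangeF (checkPointF cert) (nat_lit 228400) (nat_lit 25) = true := by decide +kernel
theorem chkP_228425 : allRangeF (checkPointF cert) (nat_lit 228425) (nat_lit 25) = true := by decide +kernel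
theorem chkP_228450 : allRangeF (checkPointF cert) (nat_lit 228450) (nat_lit 25) = true := by decide +kernel
theorem chkP_228475 : allRangeF (checkPointF cert) (nat_lit 228475) (nat_lit 25) = true := by decide +kernel
theorem chkP_228500 : allRangeF (checkPointF cert) (nat_lit 228500) (nat_lit 25) = true := by decide +kernel
theorem chkP_228525 : allRangeF (checkPointF cert) (nat_lit 228525) (nat_lit 25) = true := by decide +kernel
theorem chkP_228550 : allRangeF (checkPointF cert) (nat_lit 228550) (nat_lit 25) = true := by decide +kernel
theorem chkP_228575 : allRangeF (checkPointF cert) (nat_lit 228575) (nat_lit 25) = true := by decide +kernel
theorem chkP_228600 : allRangeF (checkPointF cert) (nat_lit 228600) (nat_lit 25) = true := by decide +kernel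
theorem chkP_228625 : allRangeF (checkPointF cert) (nat_lit 228625) (nat_lit 25) = true := by decide +kernel
theorem chkP_228650 : allRangeF (checkPointF cert) (nat_lit 228650) (nat_lit 25) = true := by decide +kernel
theorem chkP_228675 : allRangeF (checkPointF cert) (nat_lit 228675) (nat_lit 25) = true := by decide +kernel
theorem chkP_228700 : allRangeF (checkPointF cert) (nat_lit 228700) (nat_lit 25) = true := by decide +kernel
theorem chkP_228725 : allRangeF (checkPointF cert) (nat_lit 228725) (nat_lit 25) = true := by decide +kernel
theorem chkP_228750 : allRangeF (checkPointF cert) (nat_lit 228750) (nat_lit 25) = true := by decide +kernel
theorem chkP_228775 : allRangeF (checkPointF cert) (nat_lit 228775) (nat_lit 25) = true := by decide +kernel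
theorem chkP_228800 : allRangeF (checkPointF cert) (nat_lit 228800) (nat_lit 25) = true := by decide +kernel
theorem chkP_228825 : allRangeF (checkPointF cert) (nat_lit 228825) (nat_lit 25) = true := by decide +kernel
theorem chkP_228850 : allRangeF (checkPointF cert) (nat_lit 228850) (nat_lit 25) = true := by decide +kernel
theorem chkP_228875 : allRangeF (checkPointF cert) (nat_lit 228875) (nat_lit 25) = true := by decide +kernel
theorem chkP_228900 : allRangeF (checkPointF cert) (nat_lit 228900) (nat_lit 25) = true := by decide +kernel
theorem chkP_228925 : allRangeF (checkPointF cert) (nat_lit 228925) (nat_lit 25) = true := by decide +kernel
theorem chkP_228950 : allRangeF (checkPointF cert) (nat_lit 228950) (nat_lit 25) = true := by decide +kernel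
theorem chkP_228975 : allRangeF (checkPointF cert) (nat_lit 228975) (nat_lit 25) = true := by decide +kernel
theorem chkP_229000 : allRangeF (checkPointF cert) (nat_lit 229000) (nat_lit 25) = true := by decide +kernel
theorem chkP_229025 : allRangeF (checkPointF cert) (nat_lit 229025) (nat_lit 25) = true := by decide +kernel
theorem chkP_229050 : allRangeF (checkPointF cert) (nat_lit 229050) (nat_lit 25) = true := by decide +kernel
theorem chkP_229075 : allRangeF (checkPointF cert) (nat_lit 229075) (nat_lit 25) = true := by decide +kernel
theorem chkP_229100 : allRangeF (checkPointF cert) (nat_lit 229100) (nat_lit 25) = true := by decide +kernel
theorem chkP_229125 : allRangeF (checkPointF cert) (nat_lit 229125) (nat_lit 25) = true := by decide +kernel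
theorem chkP_229150 : allRangeF (checkPointF cert) (nat_lit 229150) (nat_lit 25) = true := by decide +kernel
theorem chkP_229175 : allRangeF (checkPointF cert) (nat_lit 229175) (nat_lit 25) = true := by decide +kernel
theorem chkP_229200 : allRangeF (checkPointF cert) (nat_lit 229200) (nat_lit 25) = true := by decide +kernel
theorem chkP_229225 : allRangeF (checkPointF cert) (nat_lit 229225) (nat_lit 25) = true := by decide +kernel
theorem chkP_229250 : allRangeF (checkPointF cert) (nat_lit 229250) (nat_lit 25) = true := by decide +kernel
theorem chkP_229275 : allRangeF (checkPointF cert) (nat_lit 229275) (nat_lit 25) = true := by decide +kernel
theorem chkP_229300 : allRangeF (checkPointF cert) (nat_lit 229300) (nat_lit 25) = true := by decide +kernel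
theorem chkP_229325 : allRangeF (checkPointF cert) (nat_lit 229325) (nat_lit 25) = true := by decide +kernel
theorem chkP_229350 : allRangeF (checkPointF cert) (nat_lit 229350) (nat_lit 25) = true := by decide +kernel
theorem chkP_229375 : allRangeF (checkPointF cert) (nat_lit 229375) (nat_lit 25) = true := by decide +kernel
theorem chkP_229400 : allRangeF (checkPointF cert) (nat_lit 229400) (nat_lit 25) = true := by decide +kernel
theorem chkP_229425 : allRangeF (checkPointF cert) (nat_lit 229425) (nat_lit 25) = true := by decide +kernel
theorem chkP_229450 : allRangeF (checkPointF cert) (nat_lit 229450) (nat_lit 25) = true := by decide +kernel
theorem chkP_229475 : allRangeF (checkPointF cert) (nat_lit 229475) (nat_lit 25) = true := by decide +kernel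
theorem chkP_229500 : allRangeF (checkPointF cert) (nat_lit 229500) (nat_lit 25) = true := by decide +kernel
theorem chkP_229525 : allRangeF (checkPointF cert) (nat_lit 229525) (nat_lit 25) = true := by decide +kernel
theorem chkP_229550 : allRangeF (checkPointF cert) (nat_lit 229550) (nat_lit 25) = true := by decide +kernel
theorem chkP_229575 : allRangeF (checkPointF cert) (nat_lit 229575) (nat_lit 25) = true := by decide +kernel
theorem chkP_229600 : allRangeF (checkPointF cert) (nat_lit 229600) (nat_lit 25) = true := by decide +kernel
theorem chkP_229625 : allRangeF (checkPointF cert) (nat_lit 229625) (nat_lit 25) = true := by decide +kernel
theorem chkP_229650 : allRangeF (checkPointF cert) (nat_lit 229650) (nat_lit 25) = true := by decide +kernel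
theorem chkP_229675 : allRangeF (checkPointF cert) (nat_lit 229675) (nat_lit 25) = true := by decide +kernel
theorem chkP_229700 : allRangeF (checkPointF cert) (nat_lit 229700) (nat_lit 25) = true := by decide +kernel
theorem chkP_229725 : allRangeF (checkPointF cert) (nat_lit 229725) (nat_lit 25) = true := by decide +kernel
theorem chkP_229750 : allRangeF (checkPointF cert) (nat_lit 229750) (nat_lit 25) = true := by decide +kernel
theorem chkP_229775 : allRangeF (checkPointF cert) (nat_lit 229775) (nat_lit 25) = true := by decide +kernel
theorem chkP_229800 : allRangeF (checkPointF cert) (nat_lit 229800) (nat_lit 25) = true := by decide +kernel
theorem chkP_229825 : allRangeF (checkPointF cert) (nat_lit 229825) (nat_lit 25) = true := by decide +kernel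
theorem chkP_229850 : allRangeF (checkPointF cert) (nat_lit 229850) (nat_lit 25) = true := by decide +kernel
theorem chkP_229875 : allRangeF (checkPointF cert) (nat_lit 229875) (nat_lit 25) = true := by decide +kernel
theorem chkP_229900 : allRangeF (checkPointF cert) (nat_lit 229900) (nat_lit 25) = true := by decide +kernel
theorem chkP_229925 : allRangeF (checkPointF cert) (nat_lit 229925) (nat_lit 25) = true := by decide +kernel
theorem chkP_229950 : allRangeF (checkPointF cert) (nat_lit 229950) (nat_lit 25) = true := by decide +kernel
theorem chkP_229975 : allRangeF (checkPointF cert) (nat_lit 229975) (nat_lit 25) = true := by decide +kernel
theorem chkP_230000 : allRangeF (checkPointF cert) (nat_lit 230000) (nat_lit 25) = true := by decide +kernel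
theorem chkP_230025 : allRangeF (checkPointF cert) (nat_lit 230025) (nat_lit 25) = true := by decide +kernel
theorem chkP_230050 : allRangeF (checkPointF cert) (nat_lit 230050) (nat_lit 25) = true := by decide +kernel
theorem chkP_230075 : allRangeF (checkPointF cert) (nat_lit 230075) (nat_lit 25) = true := by decide +kernel
theorem chkP_230100 : allRangeF (checkPointF cert) (nat_lit 230100) (nat_lit 25) = true := by decide +kernel
theorem chkP_230125 : allRangeF (checkPointF cert) (nat_lit 230125) (nat_lit 25) = true := by decide +kernel
theorem chkP_230150 : allRangeF (checkPointF cert) (nat_lit 230150) (nat_lit 25) = true := by decide +kernel
theorem chkP_230175 : allRangeF (checkPointF cert) (nat_lit 230175) (nat_lit 25) = true := by decide +kernel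
theorem chkP_230200 : allRangeF (checkPointF cert) (nat_lit 230200) (nat_lit 25) = true := by decide +kernel
theorem chkP_230225 : allRangeF (checkPointF cert) (nat_lit 230225) (nat_lit 25) = true := by decide +kernel

theorem ptsRange_29 : ∀ i, 222575 ≤ i → i < 230250 → checkPoint cert i = true := by
  intro i hlo hhi
  rcases Nat.lt_or_ge i 226400 with h1 | h1
  · skip
    rcases Nat.lt_or_ge i 224475 with h2 | h2
    · skip
      rcases Nat.lt_or_ge i 223525 with h3 | h3
      · skip
        rcases Nat.lt_or_ge i 223050 with h4 | h4
        · skip
          rcases Nat.lt_or_ge i 222800 with h5 | h5
          · skip
            rcases Nat.lt_or_ge i 222675 with h6 | h6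
            · skip
              rcases Nat.lt_or_ge i 222625 with h7 | h7
              · skip
                rcases Nat.lt_or_ge i 222600 with h8 | h8
                · skip
                  exact allRangeF_sound _ _ (checkPointF_eq cert) 222575 25 chkP_222575 i (by omega) (by omega)
                · skip
                  exact allRangeF_sound _ _ (checkPointF_eq cert) 222600 25 chkP_222600 i (by omega) (by omega)
              · skip
                rcases Nat.lt_or_ge i 222650 with h8 | h8
                · skip
                  exact allRangeF_sound _ _ (checkPointF_eq cert) 222625 25 chkP_222625 i (by omega) (by omega)
                · skip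
                  exact allRangeF_sound _ _ (checkPointF_eq cert) 222650 25 chkP_222650 i (by omega) (by omega)
            · skip
              rcases Nat.lt_or_ge i 222725 with h7 | h7
              · skip
                rcases Nat.lt_or_ge i 222700 with h8 | h8
                · skip
                  exact allRangeF_sound _ _ (checkPointF_eq cert) 222675 25 chkP_222675 i (by omega) (by omega)
                · skip
                  exact allRangeF_sound _ _ (checkPointF_eq cert) 222700 25 chkP_222700 i (by omega) (by omega)
              · skip
                rcases Nat.lt_or_ge i 222750 with h8 | h8
                · skip
                  exact allRangeF_sound _ _ (checkPointF_eq cert) 222725 25 chkP_222725 i (by omega) (by omega)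
                · skip
                  rcases Nat.lt_or_ge i 222775 with h9 | h9
                  · skip
                    exact allRangeF_sound _ _ (checkPointF_eq cert) 222750 25 chkP_222750 i (by omega) (by omega)
                  · skip
                    exact allRangeF_sound _ _ (checkPointF_eq cert) 222775 25 chkP_222775 i (by omega) (by omega)
          · skip
            rcases Nat.lt_or_ge i 222925 with h6 | h6
            · skip
              rcases Nat.lt_or_ge i 222850 with h7 | h7
              · skip
                rcases Nat.lt_or_ge i 222825 with h8 | h8
                · skip
                  exact allRangeF_sound _ _ (checkPointF_eq cert) 222800 25 chkP_222800 i (by omega) (by omega)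
                · skip
                  exact allRangeF_sound _ _ (checkPointF_eq cert) 222825 25 chkP_222825 i (by omega) (by omega)
              · skip
                rcases Nat.lt_or_ge i 222875 with h8 | h8
                · skip
                  exact allRangeF_sound _ _ (checkPointF_eq cert) 222850 25 chkP_222850 i (by omega) (by omega)
                · skip
                  rcases Nat.lt_or_ge i 222900 with h9 | h9
                  · skip
                    exact allRangeF_sound _ _ (checkPointF_eq cert) 222875 25 chkP_222875 i (by omega) (by omega)
                  · skip
                    exact allRangeF_sound _ _ (checkPointF_eq cert) 222900 25 chkP_222900 i (by omega) (by omega)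
            · skip
              rcases Nat.lt_or_ge i 222975 with h7 | h7
              · skip
                rcases Nat.lt_or_ge i 222950 with h8 | h8
                · skip
                  exact allRangeF_sound _ _ (checkPointF_eq cert) 222925 25 chkP_222925 i (by omega) (by omega)
                · skip
                  exact allRangeF_sound _ _ (checkPointF_eq cert) 222950 25 chkP_222950 i (by omega) (by omega)
              · skip
                rcases Nat.lt_or_ge i 223000 with h8 | h8
                · skip
                  exact allRangeF_sound _ _ (checkPointF_eq cert) 222975 25 chkP_222975 i (by omega) (by omega)
                · skip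
                  rcases Nat.lt_or_ge i 223025 with h9 | h9
                  · skip
                    exact allRangeF_sound _ _ (checkPointF_eq cert) 223000 25 chkP_223000 i (by omega) (by omega)
                  · skip
                    exact allRangeF_sound _ _ (checkPointF_eq cert) 223025 25 chkP_223025 i (by omega) (by omega)
        · skip
          rcases Nat.lt_or_ge i 223275 with h5 | h5
          · skip
            rcases Nat.lt_or_ge i 223150 with h6 | h6
            · skip
              rcases Nat.lt_or_ge i 223100 with h7 | h7
              · skip
                rcases Nat.lt_or_ge i 223075 with h8 | h8
                · skip
                  exact allRangeF_sound _ _ (checkPointF_eq cert) 223050 25 chkP_223050 i (by omega) (by omega)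
                · skip
                  exact allRangeF_sound _ _ (checkPointF_eq cert) 223075 25 chkP_223075 i (by omega) (by omega)
              · skip
                rcases Nat.lt_or_ge i 223125 with h8 | h8
                · skip
                  exact allRangeF_sound _ _ (checkPointF_eq cert) 223100 25 chkP_223100 i (by omega) (by omega)
                · skip
                  exact allRangeF_sound _ _ (checkPointF_eq cert) 223125 25 chkP_223125 i (by omega) (by omega)
            · skip
              rcases Nat.lt_or_ge i 223200 with h7 | h7
              · skip
                rcases Nat.lt_or_ge i 223175 with h8 | h8
                · skip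
                  exact allRangeF_sound _ _ (checkPointF_eq cert) 223150 25 chkP_223150 i (by omega) (by omega)
                · skip
                  exact allRangeF_sound _ _ (checkPointF_eq cert) 223175 25 chkP_223175 i (by omega) (by omega)
              · skip
                rcases Nat.lt_or_ge i 223225 with h8 | h8
                · skip
                  exact allRangeF_sound _ _ (checkPointF_eq cert) 223200 25 chkP_223200 i (by omega) (by omega)
                · skip
                  rcases Nat.lt_or_ge i 223250 with h9 | h9
                  · skip
                    exact allRangeF_sound _ _ (checkPointF_eq cert) 223225 25 chkP_223225 i (by omega) (by omega)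
                  · skip
                    exact allRangeF_sound _ _ (checkPointF_eq cert) 223250 25 chkP_223250 i (by omega) (by omega)
          · skip
            rcases Nat.lt_or_ge i 223400 with h6 | h6
            · skip
              rcases Nat.lt_or_ge i 223325 with h7 | h7
              · skip
                rcases Nat.lt_or_ge i 223300 with h8 | h8
                · skip
                  exact allRangeF_sound _ _ (checkPointF_eq cert) 223275 25 chkP_223275 i (by omega) (by omega)
                · skip
                  exact allRangeF_sound _ _ (checkPointF_eq cert) 223300 25 chkP_223300 i (by omega) (by omega)
              · skip
                rcases Nat.lt_or_ge i 223350 with h8 | h8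
                · skip
                  exact allRangeF_sound _ _ (checkPointF_eq cert) 223325 25 chkP_223325 i (by omega) (by omega)
                · skip
                  rcases Nat.lt_or_ge i 223375 with h9 | h9
                  · skip
                    exact allRangeF_sound _ _ (checkPointF_eq cert) 223350 25 chkP_223350 i (by omega) (by omega)
                  · skip
                    exact allRangeF_sound _ _ (checkPointF_eq cert) 223375 25 chkP_223375 i (by omega) (by omega)
            · skip
              rcases Nat.lt_or_ge i 223450 with h7 | h7
              · skip
                rcases Nat.lt_or_ge i 223425 with h8 | h8
                · skip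
                  exact allRangeF_sound _ _ (checkPointF_eq cert) 223400 25 chkP_223400 i (by omega) (by omega)
                · skip
                  exact allRangeF_sound _ _ (checkPointF_eq cert) 223425 25 chkP_223425 i (by omega) (by omega)
              · skip
                rcases Nat.lt_or_ge i 223475 with h8 | h8
                · skip
                  exact allRangeF_sound _ _ (checkPointF_eq cert) 223450 25 chkP_223450 i (by omega) (by omega)
                · skip
                  rcases Nat.lt_or_ge i 223500 with h9 | h9
                  · skip
                    exact allRangeF_sound _ _ (checkPointF_eq cert) 223475 25 chkP_223475 i (by omega) (by omega)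
                  · skip
                    exact allRangeF_sound _ _ (checkPointF_eq cert) 223500 25 chkP_223500 i (by omega) (by omega)
      · skip
        rcases Nat.lt_or_ge i 224000 with h4 | h4
        · skip
          rcases Nat.lt_or_ge i 223750 with h5 | h5
          · skip
            rcases Nat.lt_or_ge i 223625 with h6 | h6
            · skip
              rcases Nat.lt_or_ge i 223575 with h7 | h7
              · skip
                rcases Nat.lt_or_ge i 223550 with h8 | h8
                · skip
                  exact allRangeF_sound _ _ (checkPointF_eq cert) 223525 25 chkP_223525 i (by omega) (by omega)
                · skip
                  exact allRangeF_sound _ _ (checkPointF_eq cert) 223550 25 chkP_223550 i (by omega) (by omega)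
              · skip
                rcases Nat.lt_or_ge i 223600 with h8 | h8
                · skip
                  exact allRangeF_sound _ _ (checkPointF_eq cert) 223575 25 chkP_223575 i (by omega) (by omega)
                · skip
                  exact allRangeF_sound _ _ (checkPointF_eq cert) 223600 25 chkP_223600 i (by omega) (by omega)
            · skip
              rcases Nat.lt_or_ge i 223675 with h7 | h7
              · skip
                rcases Nat.lt_or_ge i 223650 with h8 | h8
                · skip
                  exact allRangeF_sound _ _ (checkPointF_eq cert) 223625 25 chkP_223625 i (by omega) (by omega)
                · skip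
                  exact allRangeF_sound _ _ (checkPointF_eq cert) 223650 25 chkP_223650 i (by omega) (by omega)
              · skip
                rcases Nat.lt_or_ge i 223700 with h8 | h8
                · skip
                  exact allRangeF_sound _ _ (checkPointF_eq cert) 223675 25 chkP_223675 i (by omega) (by omega)
                · skip
                  rcases Nat.lt_or_ge i 223725 with h9 | h9
                  · skip
                    exact allRangeF_sound _ _ (checkPointF_eq cert) 223700 25 chkP_223700 i (by omega) (by omega)
                  · skip
                    exact allRangeF_sound _ _ (checkPointF_eq cert) 223725 25 chkP_223725 i (by omega) (by omega)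
          · skip
            rcases Nat.lt_or_ge i 223875 with h6 | h6
            · skip
              rcases Nat.lt_or_ge i 223800 with h7 | h7
              · skip
                rcases Nat.lt_or_ge i 223775 with h8 | h8
                · skip
                  exact allRangeF_sound _ _ (checkPointF_eq cert) 223750 25 chkP_223750 i (by omega) (by omega)
                · skip
                  exact allRangeF_sound _ _ (checkPointF_eq cert) 223775 25 chkP_223775 i (by omega) (by omega)
              · skip
                rcases Nat.lt_or_ge i 223825 with h8 | h8
                · skip
                  exact allRangeF_sound _ _ (checkPointF_eq cert) 223800 25 chkP_223800 i (by omega) (by omega)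
                · skip
                  rcases Nat.lt_or_ge i 223850 with h9 | h9
                  · skip
                    exact allRangeF_sound _ _ (checkPointF_eq cert) 223825 25 chkP_223825 i (by omega) (by omega)
                  · skip
                    exact allRangeF_sound _ _ (checkPointF_eq cert) 223850 25 chkP_223850 i (by omega) (by omega)
            · skip
              rcases Nat.lt_or_ge i 223925 with h7 | h7
              · skip
                rcases Nat.lt_or_ge i 223900 with h8 | h8
                · skip
                  exact allRangeF_sound _ _ (checkPointF_eq cert) 223875 25 chkP_223875 i (by omega) (by omega)
                · skip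
                  exact allRangeF_sound _ _ (checkPointF_eq cert) 223900 25 chkP_223900 i (by omega) (by omega)
              · skip
                rcases Nat.lt_or_ge i 223950 with h8 | h8
                · skip
                  exact allRangeF_sound _ _ (checkPointF_eq cert) 223925 25 chkP_223925 i (by omega) (by omega)
                · skip
                  rcases Nat.lt_or_ge i 223975 with h9 | h9
                  · skip
                    exact allRangeF_sound _ _ (checkPointF_eq cert) 223950 25 chkP_223950 i (by omega) (by omega)
                  · skip
                    exact allRangeF_sound _ _ (checkPointF_eq cert) 223975 25 chkP_223975 i (by omega) (by omega)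
        · skip
          rcases Nat.lt_or_ge i 224225 with h5 | h5
          · skip
            rcases Nat.lt_or_ge i 224100 with h6 | h6
            · skip
              rcases Nat.lt_or_ge i 224050 with h7 | h7
              · skip
                rcases Nat.lt_or_ge i 224025 with h8 | h8
                · skip
                  exact allRangeF_sound _ _ (checkPointF_eq cert) 224000 25 chkP_224000 i (by omega) (by omega)
                · skip
                  exact allRangeF_sound _ _ (checkPointF_eq cert) 224025 25 chkP_224025 i (by omega) (by omega)
              · skip
                rcases Nat.lt_or_ge i 224075 with h8 | h8
                · skip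
                  exact allRangeF_sound _ _ (checkPointF_eq cert) 224050 25 chkP_224050 i (by omega) (by omega)
                · skip
                  exact allRangeF_sound _ _ (checkPointF_eq cert) 224075 25 chkP_224075 i (by omega) (by omega)
            · skip
              rcases Nat.lt_or_ge i 224150 with h7 | h7
              · skip
                rcases Nat.lt_or_ge i 224125 with h8 | h8
                · skip
                  exact allRangeF_sound _ _ (checkPointF_eq cert) 224100 25 chkP_224100 i (by omega) (by omega)
                · skip
                  exact allRangeF_sound _ _ (checkPointF_eq cert) 224125 25 chkP_224125 i (by omega) (by omega)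
              · skip
                rcases Nat.lt_or_ge i 224175 with h8 | h8
                · skip
                  exact allRangeF_sound _ _ (checkPointF_eq cert) 224150 25 chkP_224150 i (by omega) (by omega)
                · skip
                  rcases Nat.lt_or_ge i 224200 with h9 | h9
                  · skip
                    exact allRangeF_sound _ _ (checkPointF_eq cert) 224175 25 chkP_224175 i (by omega) (by omega)
                  · skip
                    exact allRangeF_sound _ _ (checkPointF_eq cert) 224200 25 chkP_224200 i (by omega) (by omega)
          · skip
            rcases Nat.lt_or_ge i 224350 with h6 | h6
            · skip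
              rcases Nat.lt_or_ge i 224275 with h7 | h7
              · skip
                rcases Nat.lt_or_ge i 224250 with h8 | h8
                · skip
                  exact allRangeF_sound _ _ (checkPointF_eq cert) 224225 25 chkP_224225 i (by omega) (by omega)
                · skip
                  exact allRangeF_sound _ _ (checkPointF_eq cert) 224250 25 chkP_224250 i (by omega) (by omega)
              · skip
                rcases Nat.lt_or_ge i 224300 with h8 | h8
                · skip
                  exact allRangeF_sound _ _ (checkPointF_eq cert) 224275 25 chkP_224275 i (by omega) (by omega)
                · skip
                  rcases Nat.lt_or_ge i 224325 with h9 | h9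
                  · skip
                    exact allRangeF_sound _ _ (checkPointF_eq cert) 224300 25 chkP_224300 i (by omega) (by omega)
                  · skip
                    exact allRangeF_sound _ _ (checkPointF_eq cert) 224325 25 chkP_224325 i (by omega) (by omega)
            · skip
              rcases Nat.lt_or_ge i 224400 with h7 | h7
              · skip
                rcases Nat.lt_or_ge i 224375 with h8 | h8
                · skip
                  exact allRangeF_sound _ _ (checkPointF_eq cert) 224350 25 chkP_224350 i (by omega) (by omega)
                · skip
                  exact allRangeF_sound _ _ (checkPointF_eq cert) 224375 25 chkP_224375 i (by omega) (by omega)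
              · skip
                rcases Nat.lt_or_ge i 224425 with h8 | h8
                · skip
                  exact allRangeF_sound _ _ (checkPointF_eq cert) 224400 25 chkP_224400 i (by omega) (by omega)
                · skip
                  rcases Nat.lt_or_ge i 224450 with h9 | h9
                  · skip
                    exact allRangeF_sound _ _ (checkPointF_eq cert) 224425 25 chkP_224425 i (by omega) (by omega)
                  · skip
                    exact allRangeF_sound _ _ (checkPointF_eq cert) 224450 25 chkP_224450 i (by omega) (by omega)
    · skip
      rcases Nat.lt_or_ge i 225425 with h3 | h3
      · skip
        rcases Nat.lt_or_ge i 224950 with h4 | h4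
        · skip
          rcases Nat.lt_or_ge i 224700 with h5 | h5
          · skip
            rcases Nat.lt_or_ge i 224575 with h6 | h6
            · skip
              rcases Nat.lt_or_ge i 224525 with h7 | h7
              · skip
                rcases Nat.lt_or_ge i 224500 with h8 | h8
                · skip
                  exact allRangeF_sound _ _ (checkPointF_eq cert) 224475 25 chkP_224475 i (by omega) (by omega)
                · skip
                  exact allRangeF_sound _ _ (checkPointF_eq cert) 224500 25 chkP_224500 i (by omega) (by omega)
              · skip
                rcases Nat.lt_or_ge i 224550 with h8 | h8
                · skip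
                  exact allRangeF_sound _ _ (checkPointF_eq cert) 224525 25 chkP_224525 i (by omega) (by omega)
                · skip
                  exact allRangeF_sound _ _ (checkPointF_eq cert) 224550 25 chkP_224550 i (by omega) (by omega)
            · skip
              rcases Nat.lt_or_ge i 224625 with h7 | h7
              · skip
                rcases Nat.lt_or_ge i 224600 with h8 | h8
                · skip
                  exact allRangeF_sound _ _ (checkPointF_eq cert) 224575 25 chkP_224575 i (by omega) (by omega)
                · skip
                  exact allRangeF_sound _ _ (checkPointF_eq cert) 224600 25 chkP_224600 i (by omega) (by omega)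
              · skip
                rcases Nat.lt_or_ge i 224650 with h8 | h8
                · skip
                  exact allRangeF_sound _ _ (checkPointF_eq cert) 224625 25 chkP_224625 i (by omega) (by omega)
                · skip
                  rcases Nat.lt_or_ge i 224675 with h9 | h9
                  · skip
                    exact allRangeF_sound _ _ (checkPointF_eq cert) 224650 25 chkP_224650 i (by omega) (by omega)
                  · skip
                    exact allRangeF_sound _ _ (checkPointF_eq cert) 224675 25 chkP_224675 i (by omega) (by omega)
          · skip
            rcases Nat.lt_or_ge i 224825 with h6 | h6
            · skip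
              rcases Nat.lt_or_ge i 224750 with h7 | h7
              · skip
                rcases Nat.lt_or_ge i 224725 with h8 | h8
                · skip
                  exact allRangeF_sound _ _ (checkPointF_eq cert) 224700 25 chkP_224700 i (by omega) (by omega)
                · skip
                  exact allRangeF_sound _ _ (checkPointF_eq cert) 224725 25 chkP_224725 i (by omega) (by omega)
              · skip
                rcases Nat.lt_or_ge i 224775 with h8 | h8
                · skip
                  exact allRangeF_sound _ _ (checkPointF_eq cert) 224750 25 chkP_224750 i (by omega) (by omega)
                · skip
                  rcases Nat.lt_or_ge i 224800 with h9 | h9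
                  · skip
                    exact allRangeF_sound _ _ (checkPointF_eq cert) 224775 25 chkP_224775 i (by omega) (by omega)
                  · skip
                    exact allRangeF_sound _ _ (checkPointF_eq cert) 224800 25 chkP_224800 i (by omega) (by omega)
            · skip
              rcases Nat.lt_or_ge i 224875 with h7 | h7
              · skip
                rcases Nat.lt_or_ge i 224850 with h8 | h8
                · skip
                  exact allRangeF_sound _ _ (checkPointF_eq cert) 224825 25 chkP_224825 i (by omega) (by omega)
                · skip
                  exact allRangeF_sound _ _ (checkPointF_eq cert) 224850 25 chkP_224850 i (by omega) (by omega)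
              · skip
                rcases Nat.lt_or_ge i 224900 with h8 | h8
                · skip
                  exact allRangeF_sound _ _ (checkPointF_eq cert) 224875 25 chkP_224875 i (by omega) (by omega)
                · skip
                  rcases Nat.lt_or_ge i 224925 with h9 | h9
                  · skip
                    exact allRangeF_sound _ _ (checkPointF_eq cert) 224900 25 chkP_224900 i (by omega) (by omega)
                  · skip
                    exact allRangeF_sound _ _ (checkPointF_eq cert) 224925 25 chkP_224925 i (by omega) (by omega)
        · skip
          rcases Nat.lt_or_ge i 225175 with h5 | h5
          · skip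
            rcases Nat.lt_or_ge i 225050 with h6 | h6
            · skip
              rcases Nat.lt_or_ge i 225000 with h7 | h7
              · skip
                rcases Nat.lt_or_ge i 224975 with h8 | h8
                · skip
                  exact allRangeF_sound _ _ (checkPointF_eq cert) 224950 25 chkP_224950 i (by omega) (by omega)
                · skip
                  exact allRangeF_sound _ _ (checkPointF_eq cert) 224975 25 chkP_224975 i (by omega) (by omega)
              · skip
                rcases Nat.lt_or_ge i 225025 with h8 | h8
                · skip
                  exact allRangeF_sound _ _ (checkPointF_eq cert) 225000 25 chkP_225000 i (by omega) (by omega)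
                · skip
                  exact allRangeF_sound _ _ (checkPointF_eq cert) 225025 25 chkP_225025 i (by omega) (by omega)
            · skip
              rcases Nat.lt_or_ge i 225100 with h7 | h7
              · skip
                rcases Nat.lt_or_ge i 225075 with h8 | h8
                · skip
                  exact allRangeF_sound _ _ (checkPointF_eq cert) 225050 25 chkP_225050 i (by omega) (by omega)
                · skip
                  exact allRangeF_sound _ _ (checkPointF_eq cert) 225075 25 chkP_225075 i (by omega) (by omega)
              · skip
                rcases Nat.lt_or_ge i 225125 with h8 | h8
                · skip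
                  exact allRangeF_sound _ _ (checkPointF_eq cert) 225100 25 chkP_225100 i (by omega) (by omega)
                · skip
                  rcases Nat.lt_or_ge i 225150 with h9 | h9
                  · skip
                    exact allRangeF_sound _ _ (checkPointF_eq cert) 225125 25 chkP_225125 i (by omega) (by omega)
                  · skip
                    exact allRangeF_sound _ _ (checkPointF_eq cert) 225150 25 chkP_225150 i (by omega) (by omega)
          · skip
            rcases Nat.lt_or_ge i 225300 with h6 | h6
            · skip
              rcases Nat.lt_or_ge i 225225 with h7 | h7
              · skip
                rcases Nat.lt_or_ge i 225200 with h8 | h8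
                · skip
                  exact allRangeF_sound _ _ (checkPointF_eq cert) 225175 25 chkP_225175 i (by omega) (by omega)
                · skip
                  exact allRangeF_sound _ _ (checkPointF_eq cert) 225200 25 chkP_225200 i (by omega) (by omega)
              · skip
                rcases Nat.lt_or_ge i 225250 with h8 | h8
                · skip
                  exact allRangeF_sound _ _ (checkPointF_eq cert) 225225 25 chkP_225225 i (by omega) (by omega)
                · skip
                  rcases Nat.lt_or_ge i 225275 with h9 | h9
                  · skip
                    exact allRangeF_sound _ _ (checkPointF_eq cert) 225250 25 chkP_225250 i (by omega) (by omega)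
                  · skip
                    exact allRangeF_sound _ _ (checkPointF_eq cert) 225275 25 chkP_225275 i (by omega) (by omega)
            · skip
              rcases Nat.lt_or_ge i 225350 with h7 | h7
              · skip
                rcases Nat.lt_or_ge i 225325 with h8 | h8
                · skip
                  exact allRangeF_sound _ _ (checkPointF_eq cert) 225300 25 chkP_225300 i (by omega) (by omega)
                · skip
                  exact allRangeF_sound _ _ (checkPointF_eq cert) 225325 25 chkP_225325 i (by omega) (by omega)
              · skip
                rcases Nat.lt_or_ge i 225375 with h8 | h8
                · skip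
                  exact allRangeF_sound _ _ (checkPointF_eq cert) 225350 25 chkP_225350 i (by omega) (by omega)
                · skip
                  rcases Nat.lt_or_ge i 225400 with h9 | h9
                  · skip
                    exact allRangeF_sound _ _ (checkPointF_eq cert) 225375 25 chkP_225375 i (by omega) (by omega)
                  · skip
                    exact allRangeF_sound _ _ (checkPointF_eq cert) 225400 25 chkP_225400 i (by omega) (by omega)
      · skip
        rcases Nat.lt_or_ge i 225900 with h4 | h4
        · skip
          rcases Nat.lt_or_ge i 225650 with h5 | h5
          · skip
            rcases Nat.lt_or_ge i 225525 with h6 | h6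
            · skip
              rcases Nat.lt_or_ge i 225475 with h7 | h7
              · skip
                rcases Nat.lt_or_ge i 225450 with h8 | h8
                · skip
                  exact allRangeF_sound _ _ (checkPointF_eq cert) 225425 25 chkP_225425 i (by omega) (by omega)
                · skip
                  exact allRangeF_sound _ _ (checkPointF_eq cert) 225450 25 chkP_225450 i (by omega) (by omega)
              · skip
                rcases Nat.lt_or_ge i 225500 with h8 | h8
                · skip
                  exact allRangeF_sound _ _ (checkPointF_eq cert) 225475 25 chkP_225475 i (by omega) (by omega)
                · skip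
                  exact allRangeF_sound _ _ (checkPointF_eq cert) 225500 25 chkP_225500 i (by omega) (by omega)
            · skip
              rcases Nat.lt_or_ge i 225575 with h7 | h7
              · skip
                rcases Nat.lt_or_ge i 225550 with h8 | h8
                · skip
                  exact allRangeF_sound _ _ (checkPointF_eq cert) 225525 25 chkP_225525 i (by omega) (by omega)
                · skip
                  exact allRangeF_sound _ _ (checkPointF_eq cert) 225550 25 chkP_225550 i (by omega) (by omega)
              · skip
                rcases Nat.lt_or_ge i 225600 with h8 | h8
                · skip
                  exact allRangeF_sound _ _ (checkPointF_eq cert) 225575 25 chkP_225575 i (by omega) (by omega)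
                · skip
                  rcases Nat.lt_or_ge i 225625 with h9 | h9
                  · skip
                    exact allRangeF_sound _ _ (checkPointF_eq cert) 225600 25 chkP_225600 i (by omega) (by omega)
                  · skip
                    exact allRangeF_sound _ _ (checkPointF_eq cert) 225625 25 chkP_225625 i (by omega) (by omega)
          · skip
            rcases Nat.lt_or_ge i 225775 with h6 | h6
            · skip
              rcases Nat.lt_or_ge i 225700 with h7 | h7
              · skip
                rcases Nat.lt_or_ge i 225675 with h8 | h8
                · skip
                  exact allRangeF_sound _ _ (checkPointF_eq cert) 225650 25 chkP_225650 i (by omega) (by omega)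
                · skip
                  exact allRangeF_sound _ _ (checkPointF_eq cert) 225675 25 chkP_225675 i (by omega) (by omega)
              · skip
                rcases Nat.lt_or_ge i 225725 with h8 | h8
                · skip
                  exact allRangeF_sound _ _ (checkPointF_eq cert) 225700 25 chkP_225700 i (by omega) (by omega)
                · skip
                  rcases Nat.lt_or_ge i 225750 with h9 | h9
                  · skip
                    exact allRangeF_sound _ _ (checkPointF_eq cert) 225725 25 chkP_225725 i (by omega) (by omega)
                  · skip
                    exact allRangeF_sound _ _ (checkPointF_eq cert) 225750 25 chkP_225750 i (by omega) (by omega)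
            · skip
              rcases Nat.lt_or_ge i 225825 with h7 | h7
              · skip
                rcases Nat.lt_or_ge i 225800 with h8 | h8
                · skip
                  exact allRangeF_sound _ _ (checkPointF_eq cert) 225775 25 chkP_225775 i (by omega) (by omega)
                · skip
                  exact allRangeF_sound _ _ (checkPointF_eq cert) 225800 25 chkP_225800 i (by omega) (by omega)
              · skip
                rcases Nat.lt_or_ge i 225850 with h8 | h8
                · skip
                  exact allRangeF_sound _ _ (checkPointF_eq cert) 225825 25 chkP_225825 i (by omega) (by omega)
                · skip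
                  rcases Nat.lt_or_ge i 225875 with h9 | h9
                  · skip
                    exact allRangeF_sound _ _ (checkPointF_eq cert) 225850 25 chkP_225850 i (by omega) (by omega)
                  · skip
                    exact allRangeF_sound _ _ (checkPointF_eq cert) 225875 25 chkP_225875 i (by omega) (by omega)
        · skip
          rcases Nat.lt_or_ge i 226150 with h5 | h5
          · skip
            rcases Nat.lt_or_ge i 226025 with h6 | h6
            · skip
              rcases Nat.lt_or_ge i 225950 with h7 | h7
              · skip
                rcases Nat.lt_or_ge i 225925 with h8 | h8
                · skip
                  exact allRangeF_sound _ _ (checkPointF_eq cert) 225900 25 chkP_225900 i (by omega) (by omega)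
                · skip
                  exact allRangeF_sound _ _ (checkPointF_eq cert) 225925 25 chkP_225925 i (by omega) (by omega)
              · skip
                rcases Nat.lt_or_ge i 225975 with h8 | h8
                · skip
                  exact allRangeF_sound _ _ (checkPointF_eq cert) 225950 25 chkP_225950 i (by omega) (by omega)
                · skip
                  rcases Nat.lt_or_ge i 226000 with h9 | h9
                  · skip
                    exact allRangeF_sound _ _ (checkPointF_eq cert) 225975 25 chkP_225975 i (by omega) (by omega)
                  · skip
                    exact allRangeF_sound _ _ (checkPointF_eq cert) 226000 25 chkP_226000 i (by omega) (by omega)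
            · skip
              rcases Nat.lt_or_ge i 226075 with h7 | h7
              · skip
                rcases Nat.lt_or_ge i 226050 with h8 | h8
                · skip
                  exact allRangeF_sound _ _ (checkPointF_eq cert) 226025 25 chkP_226025 i (by omega) (by omega)
                · skip
                  exact allRangeF_sound _ _ (checkPointF_eq cert) 226050 25 chkP_226050 i (by omega) (by omega)
              · skip
                rcases Nat.lt_or_ge i 226100 with h8 | h8
                · skip
                  exact allRangeF_sound _ _ (checkPointF_eq cert) 226075 25 chkP_226075 i (by omega) (by omega)
                · skip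
                  rcases Nat.lt_or_ge i 226125 with h9 | h9
                  · skip
                    exact allRangeF_sound _ _ (checkPointF_eq cert) 226100 25 chkP_226100 i (by omega) (by omega)
                  · skip
                    exact allRangeF_sound _ _ (checkPointF_eq cert) 226125 25 chkP_226125 i (by omega) (by omega)
          · skip
            rcases Nat.lt_or_ge i 226275 with h6 | h6
            · skip
              rcases Nat.lt_or_ge i 226200 with h7 | h7
              · skip
                rcases Nat.lt_or_ge i 226175 with h8 | h8
                · skip
                  exact allRangeF_sound _ _ (checkPointF_eq cert) 226150 25 chkP_226150 i (by omega) (by omega)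
                · skip
                  exact allRangeF_sound _ _ (checkPointF_eq cert) 226175 25 chkP_226175 i (by omega) (by omega)
              · skip
                rcases Nat.lt_or_ge i 226225 with h8 | h8
                · skip
                  exact allRangeF_sound _ _ (checkPointF_eq cert) 226200 25 chkP_226200 i (by omega) (by omega)
                · skip
                  rcases Nat.lt_or_ge i 226250 with h9 | h9
                  · skip
                    exact allRangeF_sound _ _ (checkPointF_eq cert) 226225 25 chkP_226225 i (by omega) (by omega)
                  · skip
                    exact allRangeF_sound _ _ (checkPointF_eq cert) 226250 25 chkP_226250 i (by omega) (by omega)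
            · skip
              rcases Nat.lt_or_ge i 226325 with h7 | h7
              · skip
                rcases Nat.lt_or_ge i 226300 with h8 | h8
                · skip
                  exact allRangeF_sound _ _ (checkPointF_eq cert) 226275 25 chkP_226275 i (by omega) (by omega)
                · skip
                  exact allRangeF_sound _ _ (checkPointF_eq cert) 226300 25 chkP_226300 i (by omega) (by omega)
              · skip
                rcases Nat.lt_or_ge i 226350 with h8 | h8
                · skip
                  exact allRangeF_sound _ _ (checkPointF_eq cert) 226325 25 chkP_226325 i (by omega) (by omega)
                · skip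
                  rcases Nat.lt_or_ge i 226375 with h9 | h9
                  · skip
                    exact allRangeF_sound _ _ (checkPointF_eq cert) 226350 25 chkP_226350 i (by omega) (by omega)
                  · skip
                    exact allRangeF_sound _ _ (checkPointF_eq cert) 226375 25 chkP_226375 i (by omega) (by omega)
  · skip
    rcases Nat.lt_or_ge i 228325 with h2 | h2
    · skip
      rcases Nat.lt_or_ge i 227350 with h3 | h3
      · skip
        rcases Nat.lt_or_ge i 226875 with h4 | h4
        · skip
          rcases Nat.lt_or_ge i 226625 with h5 | h5
          · skip
            rcases Nat.lt_or_ge i 226500 with h6 | h6
            · skip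
              rcases Nat.lt_or_ge i 226450 with h7 | h7
              · skip
                rcases Nat.lt_or_ge i 226425 with h8 | h8
                · skip
                  exact allRangeF_sound _ _ (checkPointF_eq cert) 226400 25 chkP_226400 i (by omega) (by omega)
                · skip
                  exact allRangeF_sound _ _ (checkPointF_eq cert) 226425 25 chkP_226425 i (by omega) (by omega)
              · skip
                rcases Nat.lt_or_ge i 226475 with h8 | h8
                · skip
                  exact allRangeF_sound _ _ (checkPointF_eq cert) 226450 25 chkP_226450 i (by omega) (by omega)
                · skip
                  exact allRangeF_sound _ _ (checkPointF_eq cert) 226475 25 chkP_226475 i (by omega) (by omega)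
            · skip
              rcases Nat.lt_or_ge i 226550 with h7 | h7
              · skip
                rcases Nat.lt_or_ge i 226525 with h8 | h8
                · skip
                  exact allRangeF_sound _ _ (checkPointF_eq cert) 226500 25 chkP_226500 i (by omega) (by omega)
                · skip
                  exact allRangeF_sound _ _ (checkPointF_eq cert) 226525 25 chkP_226525 i (by omega) (by omega)
              · skip
                rcases Nat.lt_or_ge i 226575 with h8 | h8
                · skip
                  exact allRangeF_sound _ _ (checkPointF_eq cert) 226550 25 chkP_226550 i (by omega) (by omega)
                · skip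
                  rcases Nat.lt_or_ge i 226600 with h9 | h9
                  · skip
                    exact allRangeF_sound _ _ (checkPointF_eq cert) 226575 25 chkP_226575 i (by omega) (by omega)
                  · skip
                    exact allRangeF_sound _ _ (checkPointF_eq cert) 226600 25 chkP_226600 i (by omega) (by omega)
          · skip
            rcases Nat.lt_or_ge i 226750 with h6 | h6
            · skip
              rcases Nat.lt_or_ge i 226675 with h7 | h7
              · skip
                rcases Nat.lt_or_ge i 226650 with h8 | h8
                · skip
                  exact allRangeF_sound _ _ (checkPointF_eq cert) 226625 25 chkP_226625 i (by omega) (by omega)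
                · skip
                  exact allRangeF_sound _ _ (checkPointF_eq cert) 226650 25 chkP_226650 i (by omega) (by omega)
              · skip
                rcases Nat.lt_or_ge i 226700 with h8 | h8
                · skip
                  exact allRangeF_sound _ _ (checkPointF_eq cert) 226675 25 chkP_226675 i (by omega) (by omega)
                · skip
                  rcases Nat.lt_or_ge i 226725 with h9 | h9
                  · skip
                    exact allRangeF_sound _ _ (checkPointF_eq cert) 226700 25 chkP_226700 i (by omega) (by omega)
                  · skip
                    exact allRangeF_sound _ _ (checkPointF_eq cert) 226725 25 chkP_226725 i (by omega) (by omega)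
            · skip
              rcases Nat.lt_or_ge i 226800 with h7 | h7
              · skip
                rcases Nat.lt_or_ge i 226775 with h8 | h8
                · skip
                  exact allRangeF_sound _ _ (checkPointF_eq cert) 226750 25 chkP_226750 i (by omega) (by omega)
                · skip
                  exact allRangeF_sound _ _ (checkPointF_eq cert) 226775 25 chkP_226775 i (by omega) (by omega)
              · skip
                rcases Nat.lt_or_ge i 226825 with h8 | h8
                · skip
                  exact allRangeF_sound _ _ (checkPointF_eq cert) 226800 25 chkP_226800 i (by omega) (by omega)
                · skip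
                  rcases Nat.lt_or_ge i 226850 with h9 | h9
                  · skip
                    exact allRangeF_sound _ _ (checkPointF_eq cert) 226825 25 chkP_226825 i (by omega) (by omega)
                  · skip
                    exact allRangeF_sound _ _ (checkPointF_eq cert) 226850 25 chkP_226850 i (by omega) (by omega)
        · skip
          rcases Nat.lt_or_ge i 227100 with h5 | h5
          · skip
            rcases Nat.lt_or_ge i 226975 with h6 | h6
            · skip
              rcases Nat.lt_or_ge i 226925 with h7 | h7
              · skip
                rcases Nat.lt_or_ge i 226900 with h8 | h8
                · skip
                  exact allRangeF_sound _ _ (checkPointF_eq cert) 226875 25 chkP_226875 i (by omega) (by omega)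
                · skip
                  exact allRangeF_sound _ _ (checkPointF_eq cert) 226900 25 chkP_226900 i (by omega) (by omega)
              · skip
                rcases Nat.lt_or_ge i 226950 with h8 | h8
                · skip
                  exact allRangeF_sound _ _ (checkPointF_eq cert) 226925 25 chkP_226925 i (by omega) (by omega)
                · skip
                  exact allRangeF_sound _ _ (checkPointF_eq cert) 226950 25 chkP_226950 i (by omega) (by omega)
            · skip
              rcases Nat.lt_or_ge i 227025 with h7 | h7
              · skip
                rcases Nat.lt_or_ge i 227000 with h8 | h8
                · skip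
                  exact allRangeF_sound _ _ (checkPointF_eq cert) 226975 25 chkP_226975 i (by omega) (by omega)
                · skip
                  exact allRangeF_sound _ _ (checkPointF_eq cert) 227000 25 chkP_227000 i (by omega) (by omega)
              · skip
                rcases Nat.lt_or_ge i 227050 with h8 | h8
                · skip
                  exact allRangeF_sound _ _ (checkPointF_eq cert) 227025 25 chkP_227025 i (by omega) (by omega)
                · skip
                  rcases Nat.lt_or_ge i 227075 with h9 | h9
                  · skip
                    exact allRangeF_sound _ _ (checkPointF_eq cert) 227050 25 chkP_227050 i (by omega) (by omega)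
                  · skip
                    exact allRangeF_sound _ _ (checkPointF_eq cert) 227075 25 chkP_227075 i (by omega) (by omega)
          · skip
            rcases Nat.lt_or_ge i 227225 with h6 | h6
            · skip
              rcases Nat.lt_or_ge i 227150 with h7 | h7
              · skip
                rcases Nat.lt_or_ge i 227125 with h8 | h8
                · skip
                  exact allRangeF_sound _ _ (checkPointF_eq cert) 227100 25 chkP_227100 i (by omega) (by omega)
                · skip
                  exact allRangeF_sound _ _ (checkPointF_eq cert) 227125 25 chkP_227125 i (by omega) (by omega)
              · skip
                rcases Nat.lt_or_ge i 227175 with h8 | h8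
                · skip
                  exact allRangeF_sound _ _ (checkPointF_eq cert) 227150 25 chkP_227150 i (by omega) (by omega)
                · skip
                  rcases Nat.lt_or_ge i 227200 with h9 | h9
                  · skip
                    exact allRangeF_sound _ _ (checkPointF_eq cert) 227175 25 chkP_227175 i (by omega) (by omega)
                  · skip
                    exact allRangeF_sound _ _ (checkPointF_eq cert) 227200 25 chkP_227200 i (by omega) (by omega)
            · skip
              rcases Nat.lt_or_ge i 227275 with h7 | h7
              · skip
                rcases Nat.lt_or_ge i 227250 with h8 | h8
                · skip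
                  exact allRangeF_sound _ _ (checkPointF_eq cert) 227225 25 chkP_227225 i (by omega) (by omega)
                · skip
                  exact allRangeF_sound _ _ (checkPointF_eq cert) 227250 25 chkP_227250 i (by omega) (by omega)
              · skip
                rcases Nat.lt_or_ge i 227300 with h8 | h8
                · skip
                  exact allRangeF_sound _ _ (checkPointF_eq cert) 227275 25 chkP_227275 i (by omega) (by omega)
                · skip
                  rcases Nat.lt_or_ge i 227325 with h9 | h9
                  · skip
                    exact allRangeF_sound _ _ (checkPointF_eq cert) 227300 25 chkP_227300 i (by omega) (by omega)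
                  · skip
                    exact allRangeF_sound _ _ (checkPointF_eq cert) 227325 25 chkP_227325 i (by omega) (by omega)
      · skip
        rcases Nat.lt_or_ge i 227825 with h4 | h4
        · skip
          rcases Nat.lt_or_ge i 227575 with h5 | h5
          · skip
            rcases Nat.lt_or_ge i 227450 with h6 | h6
            · skip
              rcases Nat.lt_or_ge i 227400 with h7 | h7
              · skip
                rcases Nat.lt_or_ge i 227375 with h8 | h8
                · skip
                  exact allRangeF_sound _ _ (checkPointF_eq cert) 227350 25 chkP_227350 i (by omega) (by omega)
                · skip
                  exact allRangeF_sound _ _ (checkPointF_eq cert) 227375 25 chkP_227375 i (by omega) (by omega)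
              · skip
                rcases Nat.lt_or_ge i 227425 with h8 | h8
                · skip
                  exact allRangeF_sound _ _ (checkPointF_eq cert) 227400 25 chkP_227400 i (by omega) (by omega)
                · skip
                  exact allRangeF_sound _ _ (checkPointF_eq cert) 227425 25 chkP_227425 i (by omega) (by omega)
            · skip
              rcases Nat.lt_or_ge i 227500 with h7 | h7
              · skip
                rcases Nat.lt_or_ge i 227475 with h8 | h8
                · skip
                  exact allRangeF_sound _ _ (checkPointF_eq cert) 227450 25 chkP_227450 i (by omega) (by omega)
                · skip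
                  exact allRangeF_sound _ _ (checkPointF_eq cert) 227475 25 chkP_227475 i (by omega) (by omega)
              · skip
                rcases Nat.lt_or_ge i 227525 with h8 | h8
                · skip
                  exact allRangeF_sound _ _ (checkPointF_eq cert) 227500 25 chkP_227500 i (by omega) (by omega)
                · skip
                  rcases Nat.lt_or_ge i 227550 with h9 | h9
                  · skip
                    exact allRangeF_sound _ _ (checkPointF_eq cert) 227525 25 chkP_227525 i (by omega) (by omega)
                  · skip
                    exact allRangeF_sound _ _ (checkPointF_eq cert) 227550 25 chkP_227550 i (by omega) (by omega)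
          · skip
            rcases Nat.lt_or_ge i 227700 with h6 | h6
            · skip
              rcases Nat.lt_or_ge i 227625 with h7 | h7
              · skip
                rcases Nat.lt_or_ge i 227600 with h8 | h8
                · skip
                  exact allRangeF_sound _ _ (checkPointF_eq cert) 227575 25 chkP_227575 i (by omega) (by omega)
                · skip
                  exact allRangeF_sound _ _ (checkPointF_eq cert) 227600 25 chkP_227600 i (by omega) (by omega)
              · skip
                rcases Nat.lt_or_ge i 227650 with h8 | h8
                · skip
                  exact allRangeF_sound _ _ (checkPointF_eq cert) 227625 25 chkP_227625 i (by omega) (by omega)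
                · skip
                  rcases Nat.lt_or_ge i 227675 with h9 | h9
                  · skip
                    exact allRangeF_sound _ _ (checkPointF_eq cert) 227650 25 chkP_227650 i (by omega) (by omega)
                  · skip
                    exact allRangeF_sound _ _ (checkPointF_eq cert) 227675 25 chkP_227675 i (by omega) (by omega)
            · skip
              rcases Nat.lt_or_ge i 227750 with h7 | h7
              · skip
                rcases Nat.lt_or_ge i 227725 with h8 | h8
                · skip
                  exact allRangeF_sound _ _ (checkPointF_eq cert) 227700 25 chkP_227700 i (by omega) (by omega)
                · skip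
                  exact allRangeF_sound _ _ (checkPointF_eq cert) 227725 25 chkP_227725 i (by omega) (by omega)
              · skip
                rcases Nat.lt_or_ge i 227775 with h8 | h8
                · skip
                  exact allRangeF_sound _ _ (checkPointF_eq cert) 227750 25 chkP_227750 i (by omega) (by omega)
                · skip
                  rcases Nat.lt_or_ge i 227800 with h9 | h9
                  · skip
                    exact allRangeF_sound _ _ (checkPointF_eq cert) 227775 25 chkP_227775 i (by omega) (by omega)
                  · skip
                    exact allRangeF_sound _ _ (checkPointF_eq cert) 227800 25 chkP_227800 i (by omega) (by omega)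
        · skip
          rcases Nat.lt_or_ge i 228075 with h5 | h5
          · skip
            rcases Nat.lt_or_ge i 227950 with h6 | h6
            · skip
              rcases Nat.lt_or_ge i 227875 with h7 | h7
              · skip
                rcases Nat.lt_or_ge i 227850 with h8 | h8
                · skip
                  exact allRangeF_sound _ _ (checkPointF_eq cert) 227825 25 chkP_227825 i (by omega) (by omega)
                · skip
                  exact allRangeF_sound _ _ (checkPointF_eq cert) 227850 25 chkP_227850 i (by omega) (by omega)
              · skip
                rcases Nat.lt_or_ge i 227900 with h8 | h8
                · skip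
                  exact allRangeF_sound _ _ (checkPointF_eq cert) 227875 25 chkP_227875 i (by omega) (by omega)
                · skip
                  rcases Nat.lt_or_ge i 227925 with h9 | h9
                  · skip
                    exact allRangeF_sound _ _ (checkPointF_eq cert) 227900 25 chkP_227900 i (by omega) (by omega)
                  · skip
                    exact allRangeF_sound _ _ (checkPointF_eq cert) 227925 25 chkP_227925 i (by omega) (by omega)
            · skip
              rcases Nat.lt_or_ge i 228000 with h7 | h7
              · skip
                rcases Nat.lt_or_ge i 227975 with h8 | h8
                · skip
                  exact allRangeF_sound _ _ (checkPointF_eq cert) 227950 25 chkP_227950 i (by omega) (by omega)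
                · skip
                  exact allRangeF_sound _ _ (checkPointF_eq cert) 227975 25 chkP_227975 i (by omega) (by omega)
              · skip
                rcases Nat.lt_or_ge i 228025 with h8 | h8
                · skip
                  exact allRangeF_sound _ _ (checkPointF_eq cert) 228000 25 chkP_228000 i (by omega) (by omega)
                · skip
                  rcases Nat.lt_or_ge i 228050 with h9 | h9
                  · skip
                    exact allRangeF_sound _ _ (checkPointF_eq cert) 228025 25 chkP_228025 i (by omega) (by omega)
                  · skip
                    exact allRangeF_sound _ _ (checkPointF_eq cert) 228050 25 chkP_228050 i (by omega) (by omega)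
          · skip
            rcases Nat.lt_or_ge i 228200 with h6 | h6
            · skip
              rcases Nat.lt_or_ge i 228125 with h7 | h7
              · skip
                rcases Nat.lt_or_ge i 228100 with h8 | h8
                · skip
                  exact allRangeF_sound _ _ (checkPointF_eq cert) 228075 25 chkP_228075 i (by omega) (by omega)
                · skip
                  exact allRangeF_sound _ _ (checkPointF_eq cert) 228100 25 chkP_228100 i (by omega) (by omega)
              · skip
                rcases Nat.lt_or_ge i 228150 with h8 | h8
                · skip
                  exact allRangeF_sound _ _ (checkPointF_eq cert) 228125 25 chkP_228125 i (by omega) (by omega)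
                · skip
                  rcases Nat.lt_or_ge i 228175 with h9 | h9
                  · skip
                    exact allRangeF_sound _ _ (checkPointF_eq cert) 228150 25 chkP_228150 i (by omega) (by omega)
                  · skip
                    exact allRangeF_sound _ _ (checkPointF_eq cert) 228175 25 chkP_228175 i (by omega) (by omega)
            · skip
              rcases Nat.lt_or_ge i 228250 with h7 | h7
              · skip
                rcases Nat.lt_or_ge i 228225 with h8 | h8
                · skip
                  exact allRangeF_sound _ _ (checkPointF_eq cert) 228200 25 chkP_228200 i (by omega) (by omega)
                · skip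
                  exact allRangeF_sound _ _ (checkPointF_eq cert) 228225 25 chkP_228225 i (by omega) (by omega)
              · skip
                rcases Nat.lt_or_ge i 228275 with h8 | h8
                · skip
                  exact allRangeF_sound _ _ (checkPointF_eq cert) 228250 25 chkP_228250 i (by omega) (by omega)
                · skip
                  rcases Nat.lt_or_ge i 228300 with h9 | h9
                  · skip
                    exact allRangeF_sound _ _ (checkPointF_eq cert) 228275 25 chkP_228275 i (by omega) (by omega)
                  · skip
                    exact allRangeF_sound _ _ (checkPointF_eq cert) 228300 25 chkP_228300 i (by omega) (by omega)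
    · skip
      rcases Nat.lt_or_ge i 229275 with h3 | h3
      · skip
        rcases Nat.lt_or_ge i 228800 with h4 | h4
        · skip
          rcases Nat.lt_or_ge i 228550 with h5 | h5
          · skip
            rcases Nat.lt_or_ge i 228425 with h6 | h6
            · skip
              rcases Nat.lt_or_ge i 228375 with h7 | h7
              · skip
                rcases Nat.lt_or_ge i 228350 with h8 | h8
                · skip
                  exact allRangeF_sound _ _ (checkPointF_eq cert) 228325 25 chkP_228325 i (by omega) (by omega)
                · skip
                  exact allRangeF_sound _ _ (checkPointF_eq cert) 228350 25 chkP_228350 i (by omega) (by omega)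
              · skip
                rcases Nat.lt_or_ge i 228400 with h8 | h8
                · skip
                  exact allRangeF_sound _ _ (checkPointF_eq cert) 228375 25 chkP_228375 i (by omega) (by omega)
                · skip
                  exact allRangeF_sound _ _ (checkPointF_eq cert) 228400 25 chkP_228400 i (by omega) (by omega)
            · skip
              rcases Nat.lt_or_ge i 228475 with h7 | h7
              · skip
                rcases Nat.lt_or_ge i 228450 with h8 | h8
                · skip
                  exact allRangeF_sound _ _ (checkPointF_eq cert) 228425 25 chkP_228425 i (by omega) (by omega)
                · skip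
                  exact allRangeF_sound _ _ (checkPointF_eq cert) 228450 25 chkP_228450 i (by omega) (by omega)
              · skip
                rcases Nat.lt_or_ge i 228500 with h8 | h8
                · skip
                  exact allRangeF_sound _ _ (checkPointF_eq cert) 228475 25 chkP_228475 i (by omega) (by omega)
                · skip
                  rcases Nat.lt_or_ge i 228525 with h9 | h9
                  · skip
                    exact allRangeF_sound _ _ (checkPointF_eq cert) 228500 25 chkP_228500 i (by omega) (by omega)
                  · skip
                    exact allRangeF_sound _ _ (checkPointF_eq cert) 228525 25 chkP_228525 i (by omega) (by omega)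
          · skip
            rcases Nat.lt_or_ge i 228675 with h6 | h6
            · skip
              rcases Nat.lt_or_ge i 228600 with h7 | h7
              · skip
                rcases Nat.lt_or_ge i 228575 with h8 | h8
                · skip
                  exact allRangeF_sound _ _ (checkPointF_eq cert) 228550 25 chkP_228550 i (by omega) (by omega)
                · skip
                  exact allRangeF_sound _ _ (checkPointF_eq cert) 228575 25 chkP_228575 i (by omega) (by omega)
              · skip
                rcases Nat.lt_or_ge i 228625 with h8 | h8
                · skip
                  exact allRangeF_sound _ _ (checkPointF_eq cert) 228600 25 chkP_228600 i (by omega) (by omega)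
                · skip
                  rcases Nat.lt_or_ge i 228650 with h9 | h9
                  · skip
                    exact allRangeF_sound _ _ (checkPointF_eq cert) 228625 25 chkP_228625 i (by omega) (by omega)
                  · skip
                    exact allRangeF_sound _ _ (checkPointF_eq cert) 228650 25 chkP_228650 i (by omega) (by omega)
            · skip
              rcases Nat.lt_or_ge i 228725 with h7 | h7
              · skip
                rcases Nat.lt_or_ge i 228700 with h8 | h8
                · skip
                  exact allRangeF_sound _ _ (checkPointF_eq cert) 228675 25 chkP_228675 i (by omega) (by omega)
                · skip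
                  exact allRangeF_sound _ _ (checkPointF_eq cert) 228700 25 chkP_228700 i (by omega) (by omega)
              · skip
                rcases Nat.lt_or_ge i 228750 with h8 | h8
                · skip
                  exact allRangeF_sound _ _ (checkPointF_eq cert) 228725 25 chkP_228725 i (by omega) (by omega)
                · skip
                  rcases Nat.lt_or_ge i 228775 with h9 | h9
                  · skip
                    exact allRangeF_sound _ _ (checkPointF_eq cert) 228750 25 chkP_228750 i (by omega) (by omega)
                  · skip
                    exact allRangeF_sound _ _ (checkPointF_eq cert) 228775 25 chkP_228775 i (by omega) (by omega)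
        · skip
          rcases Nat.lt_or_ge i 229025 with h5 | h5
          · skip
            rcases Nat.lt_or_ge i 228900 with h6 | h6
            · skip
              rcases Nat.lt_or_ge i 228850 with h7 | h7
              · skip
                rcases Nat.lt_or_ge i 228825 with h8 | h8
                · skip
                  exact allRangeF_sound _ _ (checkPointF_eq cert) 228800 25 chkP_228800 i (by omega) (by omega)
                · skip
                  exact allRangeF_sound _ _ (checkPointF_eq cert) 228825 25 chkP_228825 i (by omega) (by omega)
              · skip
                rcases Nat.lt_or_ge i 228875 with h8 | h8
                · skip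
                  exact allRangeF_sound _ _ (checkPointF_eq cert) 228850 25 chkP_228850 i (by omega) (by omega)
                · skip
                  exact allRangeF_sound _ _ (checkPointF_eq cert) 228875 25 chkP_228875 i (by omega) (by omega)
            · skip
              rcases Nat.lt_or_ge i 228950 with h7 | h7
              · skip
                rcases Nat.lt_or_ge i 228925 with h8 | h8
                · skip
                  exact allRangeF_sound _ _ (checkPointF_eq cert) 228900 25 chkP_228900 i (by omega) (by omega)
                · skip
                  exact allRangeF_sound _ _ (checkPointF_eq cert) 228925 25 chkP_228925 i (by omega) (by omega)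
              · skip
                rcases Nat.lt_or_ge i 228975 with h8 | h8
                · skip
                  exact allRangeF_sound _ _ (checkPointF_eq cert) 228950 25 chkP_228950 i (by omega) (by omega)
                · skip
                  rcases Nat.lt_or_ge i 229000 with h9 | h9
                  · skip
                    exact allRangeF_sound _ _ (checkPointF_eq cert) 228975 25 chkP_228975 i (by omega) (by omega)
                  · skip
                    exact allRangeF_sound _ _ (checkPointF_eq cert) 229000 25 chkP_229000 i (by omega) (by omega)
          · skip
            rcases Nat.lt_or_ge i 229150 with h6 | h6
            · skip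
              rcases Nat.lt_or_ge i 229075 with h7 | h7
              · skip
                rcases Nat.lt_or_ge i 229050 with h8 | h8
                · skip
                  exact allRangeF_sound _ _ (checkPointF_eq cert) 229025 25 chkP_229025 i (by omega) (by omega)
                · skip
                  exact allRangeF_sound _ _ (checkPointF_eq cert) 229050 25 chkP_229050 i (by omega) (by omega)
              · skip
                rcases Nat.lt_or_ge i 229100 with h8 | h8
                · skip
                  exact allRangeF_sound _ _ (checkPointF_eq cert) 229075 25 chkP_229075 i (by omega) (by omega)
                · skip
                  rcases Nat.lt_or_ge i 229125 with h9 | h9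
                  · skip
                    exact allRangeF_sound _ _ (checkPointF_eq cert) 229100 25 chkP_229100 i (by omega) (by omega)
                  · skip
                    exact allRangeF_sound _ _ (checkPointF_eq cert) 229125 25 chkP_229125 i (by omega) (by omega)
            · skip
              rcases Nat.lt_or_ge i 229200 with h7 | h7
              · skip
                rcases Nat.lt_or_ge i 229175 with h8 | h8
                · skip
                  exact allRangeF_sound _ _ (checkPointF_eq cert) 229150 25 chkP_229150 i (by omega) (by omega)
                · skip
                  exact allRangeF_sound _ _ (checkPointF_eq cert) 229175 25 chkP_229175 i (by omega) (by omega)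
              · skip
                rcases Nat.lt_or_ge i 229225 with h8 | h8
                · skip
                  exact allRangeF_sound _ _ (checkPointF_eq cert) 229200 25 chkP_229200 i (by omega) (by omega)
                · skip
                  rcases Nat.lt_or_ge i 229250 with h9 | h9
                  · skip
                    exact allRangeF_sound _ _ (checkPointF_eq cert) 229225 25 chkP_229225 i (by omega) (by omega)
                  · skip
                    exact allRangeF_sound _ _ (checkPointF_eq cert) 229250 25 chkP_229250 i (by omega) (by omega)
      · skip
        rcases Nat.lt_or_ge i 229750 with h4 | h4
        · skip
          rcases Nat.lt_or_ge i 229500 with h5 | h5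
          · skip
            rcases Nat.lt_or_ge i 229375 with h6 | h6
            · skip
              rcases Nat.lt_or_ge i 229325 with h7 | h7
              · skip
                rcases Nat.lt_or_ge i 229300 with h8 | h8
                · skip
                  exact allRangeF_sound _ _ (checkPointF_eq cert) 229275 25 chkP_229275 i (by omega) (by omega)
                · skip
                  exact allRangeF_sound _ _ (checkPointF_eq cert) 229300 25 chkP_229300 i (by omega) (by omega)
              · skip
                rcases Nat.lt_or_ge i 229350 with h8 | h8
                · skip
                  exact allRangeF_sound _ _ (checkPointF_eq cert) 229325 25 chkP_229325 i (by omega) (by omega)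
                · skip
                  exact allRangeF_sound _ _ (checkPointF_eq cert) 229350 25 chkP_229350 i (by omega) (by omega)
            · skip
              rcases Nat.lt_or_ge i 229425 with h7 | h7
              · skip
                rcases Nat.lt_or_ge i 229400 with h8 | h8
                · skip
                  exact allRangeF_sound _ _ (checkPointF_eq cert) 229375 25 chkP_229375 i (by omega) (by omega)
                · skip
                  exact allRangeF_sound _ _ (checkPointF_eq cert) 229400 25 chkP_229400 i (by omega) (by omega)
              · skip
                rcases Nat.lt_or_ge i 229450 with h8 | h8
                · skip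
                  exact allRangeF_sound _ _ (checkPointF_eq cert) 229425 25 chkP_229425 i (by omega) (by omega)
                · skip
                  rcases Nat.lt_or_ge i 229475 with h9 | h9
                  · skip
                    exact allRangeF_sound _ _ (checkPointF_eq cert) 229450 25 chkP_229450 i (by omega) (by omega)
                  · skip
                    exact allRangeF_sound _ _ (checkPointF_eq cert) 229475 25 chkP_229475 i (by omega) (by omega)
          · skip
            rcases Nat.lt_or_ge i 229625 with h6 | h6
            · skip
              rcases Nat.lt_or_ge i 229550 with h7 | h7
              · skip
                rcases Nat.lt_or_ge i 229525 with h8 | h8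
                · skip
                  exact allRangeF_sound _ _ (checkPointF_eq cert) 229500 25 chkP_229500 i (by omega) (by omega)
                · skip
                  exact allRangeF_sound _ _ (checkPointF_eq cert) 229525 25 chkP_229525 i (by omega) (by omega)
              · skip
                rcases Nat.lt_or_ge i 229575 with h8 | h8
                · skip
                  exact allRangeF_sound _ _ (checkPointF_eq cert) 229550 25 chkP_229550 i (by omega) (by omega)
                · skip
                  rcases Nat.lt_or_ge i 229600 with h9 | h9
                  · skip
                    exact allRangeF_sound _ _ (checkPointF_eq cert) 229575 25 chkP_229575 i (by omega) (by omega)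
                  · skip
                    exact allRangeF_sound _ _ (checkPointF_eq cert) 229600 25 chkP_229600 i (by omega) (by omega)
            · skip
              rcases Nat.lt_or_ge i 229675 with h7 | h7
              · skip
                rcases Nat.lt_or_ge i 229650 with h8 | h8
                · skip
                  exact allRangeF_sound _ _ (checkPointF_eq cert) 229625 25 chkP_229625 i (by omega) (by omega)
                · skip
                  exact allRangeF_sound _ _ (checkPointF_eq cert) 229650 25 chkP_229650 i (by omega) (by omega)
              · skip
                rcases Nat.lt_or_ge i 229700 with h8 | h8
                · skip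
                  exact allRangeF_sound _ _ (checkPointF_eq cert) 229675 25 chkP_229675 i (by omega) (by omega)
                · skip
                  rcases Nat.lt_or_ge i 229725 with h9 | h9
                  · skip
                    exact allRangeF_sound _ _ (checkPointF_eq cert) 229700 25 chkP_229700 i (by omega) (by omega)
                  · skip
                    exact allRangeF_sound _ _ (checkPointF_eq cert) 229725 25 chkP_229725 i (by omega) (by omega)
        · skip
          rcases Nat.lt_or_ge i 230000 with h5 | h5
          · skip
            rcases Nat.lt_or_ge i 229875 with h6 | h6
            · skip
              rcases Nat.lt_or_ge i 229800 with h7 | h7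
              · skip
                rcases Nat.lt_or_ge i 229775 with h8 | h8
                · skip
                  exact allRangeF_sound _ _ (checkPointF_eq cert) 229750 25 chkP_229750 i (by omega) (by omega)
                · skip
                  exact allRangeF_sound _ _ (checkPointF_eq cert) 229775 25 chkP_229775 i (by omega) (by omega)
              · skip
                rcases Nat.lt_or_ge i 229825 with h8 | h8
                · skip
                  exact allRangeF_sound _ _ (checkPointF_eq cert) 229800 25 chkP_229800 i (by omega) (by omega)
                · skip
                  rcases Nat.lt_or_ge i 229850 with h9 | h9
                  · skip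
                    exact allRangeF_sound _ _ (checkPointF_eq cert) 229825 25 chkP_229825 i (by omega) (by omega)
                  · skip
                    exact allRangeF_sound _ _ (checkPointF_eq cert) 229850 25 chkP_229850 i (by omega) (by omega)
            · skip
              rcases Nat.lt_or_ge i 229925 with h7 | h7
              · skip
                rcases Nat.lt_or_ge i 229900 with h8 | h8
                · skip
                  exact allRangeF_sound _ _ (checkPointF_eq cert) 229875 25 chkP_229875 i (by omega) (by omega)
                · skip
                  exact allRangeF_sound _ _ (checkPointF_eq cert) 229900 25 chkP_229900 i (by omega) (by omega)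
              · skip
                rcases Nat.lt_or_ge i 229950 with h8 | h8
                · skip
                  exact allRangeF_sound _ _ (checkPointF_eq cert) 229925 25 chkP_229925 i (by omega) (by omega)
                · skip
                  rcases Nat.lt_or_ge i 229975 with h9 | h9
                  · skip
                    exact allRangeF_sound _ _ (checkPointF_eq cert) 229950 25 chkP_229950 i (by omega) (by omega)
                  · skip
                    exact allRangeF_sound _ _ (checkPointF_eq cert) 229975 25 chkP_229975 i (by omega) (by omega)
          · skip
            rcases Nat.lt_or_ge i 230125 with h6 | h6
            · skip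
              rcases Nat.lt_or_ge i 230050 with h7 | h7
              · skip
                rcases Nat.lt_or_ge i 230025 with h8 | h8
                · skip
                  exact allRangeF_sound _ _ (checkPointF_eq cert) 230000 25 chkP_230000 i (by omega) (by omega)
                · skip
                  exact allRangeF_sound _ _ (checkPointF_eq cert) 230025 25 chkP_230025 i (by omega) (by omega)
              · skip
                rcases Nat.lt_or_ge i 230075 with h8 | h8
                · skip
                  exact allRangeF_sound _ _ (checkPointF_eq cert) 230050 25 chkP_230050 i (by omega) (by omega)
                · skip
                  rcases Nat.lt_or_ge i 230100 with h9 | h9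
                  · skip
                    exact allRangeF_sound _ _ (checkPointF_eq cert) 230075 25 chkP_230075 i (by omega) (by omega)
                  · skip
                    exact allRangeF_sound _ _ (checkPointF_eq cert) 230100 25 chkP_230100 i (by omega) (by omega)
            · skip
              rcases Nat.lt_or_ge i 230175 with h7 | h7
              · skip
                rcases Nat.lt_or_ge i 230150 with h8 | h8
                · skip
                  exact allRangeF_sound _ _ (checkPointF_eq cert) 230125 25 chkP_230125 i (by omega) (by omega)
                · skip
                  exact allRangeF_sound _ _ (checkPointF_eq cert) 230150 25 chkP_230150 i (by omega) (by omega)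
              · skip
                rcases Nat.lt_or_ge i 230200 with h8 | h8
                · skip
                  exact allRangeF_sound _ _ (checkPointF_eq cert) 230175 25 chkP_230175 i (by omega) (by omega)
                · skip
                  rcases Nat.lt_or_ge i 230225 with h9 | h9
                  · skip
                    exact allRangeF_sound _ _ (checkPointF_eq cert) 230200 25 chkP_230200 i (by omega) (by omega)
                  · skip
                    exact allRangeF_sound _ _ (checkPointF_eq cert) 230225 25 chkP_230225 i (by omega) (by omega)

end Cfsg.Agent.Lib.Helper28.Fi24Data
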