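import Cfsg.Agent.Lib.Helper28.TCDefsB
import Cfsg.Agent.Lib.Helper28.Fi24DataP0
import Cfsg.Agent.Lib.Helper28.Fi24DataP1
import Cfsg.Agent.Lib.Helper28.Fi24DataP2
import Cfsg.Agent.Lib.Helper28.Fi24DataP3
import Cfsg.Agent.Lib.Helper28.Fi24DataP4
import Cfsg.Agent.Lib.Helper28.Fi24DataP5
import Cfsg.Agent.Lib.Helper28.Fi24DataP6
import Cfsg.Agent.Lib.Helper28.Fi24DataP7
import Cfsg.Agent.Lib.Helper28.Fi24DataP8
import Cfsg.Agent.Lib.Helper28.Fi24DataP9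
import Cfsg.Agent.Lib.Helper28.Fi24DataP10
import Cfsg.Agent.Lib.Helper28.Fi24DataP11
import Cfsg.Agent.Lib.Helper28.Fi24DataP12
import Cfsg.Agent.Lib.Helper28.Fi24DataP13
import Cfsg.Agent.Lib.Helper28.Fi24DataP14
import Cfsg.Agent.Lib.Helper28.Fi24DataP15
import Cfsg.Agent.Lib.Helper28.Fi24DataP16
import Cfsg.Agent.Lib.Helper28.Fi24DataP17
import Cfsg.Agent.Lib.Helper28.Fi24DataP18
import Cfsg.Agent.Lib.Helper28.Fi24DataP19
import Cfsg.Agent.Lib.Helper28.Fi24DataP20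
import Cfsg.Agent.Lib.Helper28.Fi24DataP21
import Cfsg.Agent.Lib.Helper28.Fi24DataP22
import Cfsg.Agent.Lib.Helper28.Fi24DataP23
import Cfsg.Agent.Lib.Helper28.Fi24DataP24
import Cfsg.Agent.Lib.Helper28.Fi24DataP25
import Cfsg.Agent.Lib.Helper28.Fi24DataP26
import Cfsg.Agent.Lib.Helper28.Fi24DataP27

set_option autoImplicit false
set_option maxRecDepth 100000
set_option linter.all false

namespace Cfsg.Agent.Lib.Helper28.Fi24Data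

open Cfsg.Agent.Lib.Helper28B

noncomputable def tF_s0_3 (j : Nat) : Nat := @Bool.rec (fun _ => Nat) tF_L0 (@Bool.rec (fun _ => Nat) tF_L1 tF_L2 (Nat.ble (nat_lit 2) j)) (Nat.ble (nat_lit 1) j)
noncomputable def tF_s3_7 (j : Nat) : Nat := @Bool.rec (fun _ => Nat) (@Bool.rec (fun _ => Nat) tF_L3 tF_L4 (Nat.ble (nat_lit 4) j)) (@Bool.rec (fun _ => Nat) tF_L5 tF_L6 (Nat.ble (nat_lit 6) j)) (Nat.ble (nat_lit 5) j)
noncomputable def tF_s7_11 (j : Nat) : Nat := @Bool.rec (fun _ => Nat) (@Bool.rec (fun _ => Nat) tF_L7 tF_L8 (Nat.ble (nat_lit 8) j)) (@Bool.rec (fun _ => Nat) tF_L9 tF_L10 (Nat.ble (nat_lit 10) j)) (Nat.ble (nat_lit 9) j)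
noncomputable def tF_s11_15 (j : Nat) : Nat := @Bool.rec (fun _ => Nat) (@Bool.rec (fun _ => Nat) tF_L11 tF_L12 (Nat.ble (nat_lit 12) j)) (@Bool.rec (fun _ => Nat) tF_L13 tF_L14 (Nat.ble (nat_lit 14) j)) (Nat.ble (nat_lit 13) j)
noncomputable def tF_s15_18 (j : Nat) : Nat := @Bool.rec (fun _ => Nat) tF_L15 (@Bool.rec (fun _ => Nat) tF_L16 tF_L17 (Nat.ble (nat_lit 17) j)) (Nat.ble (nat_lit 16) j)
noncomputable def tF_s18_22 (j : Nat) : Nat := @Bool.rec (fun _ => Nat) (@Bool.rec (fun _ => Nat) tF_L18 tF_L19 (Nat.ble (nat_lit 19) j)) (@Bool.rec (fun _ => Nat) tF_L20 tF_L21 (Nat.ble (nat_lit 21) j)) (Nat.ble (nat_lit 20) j)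
noncomputable def tF_s22_26 (j : Nat) : Nat := @Bool.rec (fun _ => Nat) (@Bool.rec (fun _ => Nat) tF_L22 tF_L23 (Nat.ble (nat_lit 23) j)) (@Bool.rec (fun _ => Nat) tF_L24 tF_L25 (Nat.ble (nat_lit 25) j)) (Nat.ble (nat_lit 24) j)
noncomputable def tF_s26_30 (j : Nat) : Nat := @Bool.rec (fun _ => Nat) (@Bool.rec (fun _ => Nat) tF_L26 tF_L27 (Nat.ble (nat_lit 27) j)) (@Bool.rec (fun _ => Nat) tF_L28 tF_L29 (Nat.ble (nat_lit 29) j)) (Nat.ble (nat_lit 28) j)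
noncomputable def tF_s0_30 (j : Nat) : Nat := @Bool.rec (fun _ => Nat) (@Bool.rec (fun _ => Nat) (@Bool.rec (fun _ => Nat) (tF_s0_3 j) (tF_s3_7 j) (Nat.ble (nat_lit 3) j)) (@Bool.rec (fun _ => Nat) (tF_s7_11 j) (tF_s11_15 j) (Nat.ble (nat_lit 11) j)) (Nat.ble (nat_lit 7) j)) (@Bool.rec (fun _ => Nat) (@Bool.rec (fun _ => Nat) (tF_s15_18 j) (tF_s18_22 j) (Nat.ble (nat_lit 18) j)) (@Bool.rec (fun _ => Nat) (tF_s22_26 j) (tF_s26_30 j) (Nat.ble (nat_lit 26) j)) (Nat.ble (nat_lit 22) j)) (Nat.ble (nat_lit 15) j)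
noncomputable def tF_s30_33 (j : Nat) : Nat := @Bool.rec (fun _ => Nat) tF_L30 (@Bool.rec (fun _ => Nat) tF_L31 tF_L32 (Nat.ble (nat_lit 32) j)) (Nat.ble (nat_lit 31) j)
noncomputable def tF_s33_37 (j : Nat) : Nat := @Bool.rec (fun _ => Nat) (@Bool.rec (fun _ => Nat) tF_L33 tF_L34 (Nat.ble (nat_lit 34) j)) (@Bool.rec (fun _ => Nat) tF_L35 tF_L36 (Nat.ble (nat_lit 36) j)) (Nat.ble (nat_lit 35) j)
noncomputable def tF_s37_41 (j : Nat) : Nat := @Bool.rec (fun _ => Nat) (@Bool.rec (fun _ => Nat) tF_L37 tF_L38 (Nat.ble (nat_lit 38) j)) (@Bool.rec (fun _ => Nat) tF_L39 tF_L40 (Nat.ble (nat_lit 40) j)) (Nat.ble (nat_lit 39) j)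
noncomputable def tF_s41_45 (j : Nat) : Nat := @Bool.rec (fun _ => Nat) (@Bool.rec (fun _ => Nat) tF_L41 tF_L42 (Nat.ble (nat_lit 42) j)) (@Bool.rec (fun _ => Nat) tF_L43 tF_L44 (Nat.ble (nat_lit 44) j)) (Nat.ble (nat_lit 43) j)
noncomputable def tF_s45_48 (j : Nat) : Nat := @Bool.rec (fun _ => Nat) tF_L45 (@Bool.rec (fun _ => Nat) tF_L46 tF_L47 (Nat.ble (nat_lit 47) j)) (Nat.ble (nat_lit 46) j)
noncomputable def tF_s48_52 (j : Nat) : Nat := @Bool.rec (fun _ => Nat) (@Bool.rec (fun _ => Nat) tF_L48 tF_L49 (Nat.ble (nat_lit 49) j)) (@Bool.rec (fun _ => Nat) tF_L50 tF_L51 (Nat.ble (nat_lit 51) j)) (Nat.ble (nat_lit 50) j)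
noncomputable def tF_s52_56 (j : Nat) : Nat := @Bool.rec (fun _ => Nat) (@Bool.rec (fun _ => Nat) tF_L52 tF_L53 (Nat.ble (nat_lit 53) j)) (@Bool.rec (fun _ => Nat) tF_L54 tF_L55 (Nat.ble (nat_lit 55) j)) (Nat.ble (nat_lit 54) j)
noncomputable def tF_s56_60 (j : Nat) : Nat := @Bool.rec (fun _ => Nat) (@Bool.rec (fun _ => Nat) tF_L56 tF_L57 (Nat.ble (nat_lit 57) j)) (@Bool.rec (fun _ => Nat) tF_L58 tF_L59 (Nat.ble (nat_lit 59) j)) (Nat.ble (nat_lit 58) j)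
noncomputable def tF_s30_60 (j : Nat) : Nat := @Bool.rec (fun _ => Nat) (@Bool.rec (fun _ => Nat) (@Bool.rec (fun _ => Nat) (tF_s30_33 j) (tF_s33_37 j) (Nat.ble (nat_lit 33) j)) (@Bool.rec (fun _ => Nat) (tF_s37_41 j) (tF_s41_45 j) (Nat.ble (nat_lit 41) j)) (Nat.ble (nat_lit 37) j)) (@Bool.rec (fun _ => Nat) (@Bool.rec (fun _ => Nat) (tF_s45_48 j) (tF_s48_52 j) (Nat.ble (nat_lit 48) j)) (@Bool.rec (fun _ => Nat) (tF_s52_56 j) (tF_s56_60 j) (Nat.ble (nat_lit 56) j)) (Nat.ble (nat_lit 52) j)) (Nat.ble (nat_lit 45) j)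
noncomputable def tF_s60_63 (j : Nat) : Nat := @Bool.rec (fun _ => Nat) tF_L60 (@Bool.rec (fun _ => Nat) tF_L61 tF_L62 (Nat.ble (nat_lit 62) j)) (Nat.ble (nat_lit 61) j)
noncomputable def tF_s63_67 (j : Nat) : Nat := @Bool.rec (fun _ => Nat) (@Bool.rec (fun _ => Nat) tF_L63 tF_L64 (Nat.ble (nat_lit 64) j)) (@Bool.rec (fun _ => Nat) tF_L65 tF_L66 (Nat.ble (nat_lit 66) j)) (Nat.ble (nat_lit 65) j)
noncomputable def tF_s67_71 (j : Nat) : Nat := @Bool.rec (fun _ => Nat) (@Bool.rec (fun _ => Nat) tF_L67 tF_L68 (Nat.ble (nat_lit 68) j)) (@Bool.rec (fun _ => Nat) tF_L69 tF_L70 (Nat.ble (nat_lit 70) j)) (Nat.ble (nat_lit 69) j)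
noncomputable def tF_s71_75 (j : Nat) : Nat := @Bool.rec (fun _ => Nat) (@Bool.rec (fun _ => Nat) tF_L71 tF_L72 (Nat.ble (nat_lit 72) j)) (@Bool.rec (fun _ => Nat) tF_L73 tF_L74 (Nat.ble (nat_lit 74) j)) (Nat.ble (nat_lit 73) j)
noncomputable def tF_s75_78 (j : Nat) : Nat := @Bool.rec (fun _ => Nat) tF_L75 (@Bool.rec (fun _ => Nat) tF_L76 tF_L77 (Nat.ble (nat_lit 77) j)) (Nat.ble (nat_lit 76) j)
noncomputable def tF_s78_82 (j : Nat) : Nat := @Bool.rec (fun _ => Nat) (@Bool.rec (fun _ => Nat) tF_L78 tF_L79 (Nat.ble (nat_lit 79) j)) (@Bool.rec (fun _ => Nat) tF_L80 tF_L81 (Nat.ble (nat_lit 81) j)) (Nat.ble (nat_lit 80) j)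
noncomputable def tF_s82_86 (j : Nat) : Nat := @Bool.rec (fun _ => Nat) (@Bool.rec (fun _ => Nat) tF_L82 tF_L83 (Nat.ble (nat_lit 83) j)) (@Bool.rec (fun _ => Nat) tF_L84 tF_L85 (Nat.ble (nat_lit 85) j)) (Nat.ble (nat_lit 84) j)
noncomputable def tF_s86_90 (j : Nat) : Nat := @Bool.rec (fun _ => Nat) (@Bool.rec (fun _ => Nat) tF_L86 tF_L87 (Nat.ble (nat_lit 87) j)) (@Bool.rec (fun _ => Nat) tF_L88 tF_L89 (Nat.ble (nat_lit 89) j)) (Nat.ble (nat_lit 88) j)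
noncomputable def tF_s60_90 (j : Nat) : Nat := @Bool.rec (fun _ => Nat) (@Bool.rec (fun _ => Nat) (@Bool.rec (fun _ => Nat) (tF_s60_63 j) (tF_s63_67 j) (Nat.ble (nat_lit 63) j)) (@Bool.rec (fun _ => Nat) (tF_s67_71 j) (tF_s71_75 j) (Nat.ble (nat_lit 71) j)) (Nat.ble (nat_lit 67) j)) (@Bool.rec (fun _ => Nat) (@Bool.rec (fun _ => Nat) (tF_s75_78 j) (tF_s78_82 j) (Nat.ble (nat_lit 78) j)) (@Bool.rec (fun _ => Nat) (tF_s82_86 j) (tF_s86_90 j) (Nat.ble (nat_lit 86) j)) (Nat.ble (nat_lit 82) j)) (Nat.ble (nat_lit 75) j)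
noncomputable def tF_s90_93 (j : Nat) : Nat := @Bool.rec (fun _ => Nat) tF_L90 (@Bool.rec (fun _ => Nat) tF_L91 tF_L92 (Nat.ble (nat_lit 92) j)) (Nat.ble (nat_lit 91) j)
noncomputable def tF_s93_97 (j : Nat) : Nat := @Bool.rec (fun _ => Nat) (@Bool.rec (fun _ => Nat) tF_L93 tF_L94 (Nat.ble (nat_lit 94) j)) (@Bool.rec (fun _ => Nat) tF_L95 tF_L96 (Nat.ble (nat_lit 96) j)) (Nat.ble (nat_lit 95) j)
noncomputable def tF_s97_101 (j : Nat) : Nat := @Bool.rec (fun _ => Nat) (@Bool.rec (fun _ => Nat) tF_L97 tF_L98 (Nat.ble (nat_lit 98) j)) (@Bool.rec (fun _ => Nat) tF_L99 tF_L100 (Nat.ble (nat_lit 100) j)) (Nat.ble (nat_lit 99) j)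
noncomputable def tF_s101_105 (j : Nat) : Nat := @Bool.rec (fun _ => Nat) (@Bool.rec (fun _ => Nat) tF_L101 tF_L102 (Nat.ble (nat_lit 102) j)) (@Bool.rec (fun _ => Nat) tF_L103 tF_L104 (Nat.ble (nat_lit 104) j)) (Nat.ble (nat_lit 103) j)
noncomputable def tF_s105_109 (j : Nat) : Nat := @Bool.rec (fun _ => Nat) (@Bool.rec (fun _ => Nat) tF_L105 tF_L106 (Nat.ble (nat_lit 106) j)) (@Bool.rec (fun _ => Nat) tF_L107 tF_L108 (Nat.ble (nat_lit 108) j)) (Nat.ble (nat_lit 107) j)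
noncomputable def tF_s109_113 (j : Nat) : Nat := @Bool.rec (fun _ => Nat) (@Bool.rec (fun _ => Nat) tF_L109 tF_L110 (Nat.ble (nat_lit 110) j)) (@Bool.rec (fun _ => Nat) tF_L111 tF_L112 (Nat.ble (nat_lit 112) j)) (Nat.ble (nat_lit 111) j)
noncomputable def tF_s113_117 (j : Nat) : Nat := @Bool.rec (fun _ => Nat) (@Bool.rec (fun _ => Nat) tF_L113 tF_L114 (Nat.ble (nat_lit 114) j)) (@Bool.rec (fun _ => Nat) tF_L115 tF_L116 (Nat.ble (nat_lit 116) j)) (Nat.ble (nat_lit 115) j)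
noncomputable def tF_s117_121 (j : Nat) : Nat := @Bool.rec (fun _ => Nat) (@Bool.rec (fun _ => Nat) tF_L117 tF_L118 (Nat.ble (nat_lit 118) j)) (@Bool.rec (fun _ => Nat) tF_L119 tF_L120 (Nat.ble (nat_lit 120) j)) (Nat.ble (nat_lit 119) j)
noncomputable def tF_s90_121 (j : Nat) : Nat := @Bool.rec (fun _ => Nat) (@Bool.rec (fun _ => Nat) (@Bool.rec (fun _ => Nat) (tF_s90_93 j) (tF_s93_97 j) (Nat.ble (nat_lit 93) j)) (@Bool.rec (fun _ => Nat) (tF_s97_101 j) (tF_s101_105 j) (Nat.ble (nat_lit 101) j)) (Nat.ble (nat_lit 97) j)) (@Bool.rec (fun _ => Nat) (@Bool.rec (fun _ => Nat) (tF_s105_109 j) (tF_s109_113 j) (Nat.ble (nat_lit 109) j)) (@Bool.rec (fun _ => Nat) (tF_s113_117 j) (tF_s117_121 j) (Nat.ble (nat_lit 117) j)) (Nat.ble (nat_lit 113) j)) (Nat.ble (nat_lit 105) j)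
noncomputable def tF_s121_124 (j : Nat) : Nat := @Bool.rec (fun _ => Nat) tF_L121 (@Bool.rec (fun _ => Nat) tF_L122 tF_L123 (Nat.ble (nat_lit 123) j)) (Nat.ble (nat_lit 122) j)
noncomputable def tF_s124_128 (j : Nat) : Nat := @Bool.rec (fun _ => Nat) (@Bool.rec (fun _ => Nat) tF_L124 tF_L125 (Nat.ble (nat_lit 125) j)) (@Bool.rec (fun _ => Nat) tF_L126 tF_L127 (Nat.ble (nat_lit 127) j)) (Nat.ble (nat_lit 126) j)
noncomputable def tF_s128_132 (j : Nat) : Nat := @Bool.rec (fun _ => Nat) (@Bool.rec (fun _ => Nat) tF_L128 tF_L129 (Nat.ble (nat_lit 129) j)) (@Bool.rec (fun _ => Nat) tF_L130 tF_L131 (Nat.ble (nat_lit 131) j)) (Nat.ble (nat_lit 130) j)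
noncomputable def tF_s132_136 (j : Nat) : Nat := @Bool.rec (fun _ => Nat) (@Bool.rec (fun _ => Nat) tF_L132 tF_L133 (Nat.ble (nat_lit 133) j)) (@Bool.rec (fun _ => Nat) tF_L134 tF_L135 (Nat.ble (nat_lit 135) j)) (Nat.ble (nat_lit 134) j)
noncomputable def tF_s136_139 (j : Nat) : Nat := @Bool.rec (fun _ => Nat) tF_L136 (@Bool.rec (fun _ => Nat) tF_L137 tF_L138 (Nat.ble (nat_lit 138) j)) (Nat.ble (nat_lit 137) j)
noncomputable def tF_s139_143 (j : Nat) : Nat := @Bool.rec (fun _ => Nat) (@Bool.rec (fun _ => Nat) tF_L139 tF_L140 (Nat.ble (nat_lit 140) j)) (@Bool.rec (fun _ => Nat) tF_L141 tF_L142 (Nat.ble (nat_lit 142) j)) (Nat.ble (nat_lit 141) j)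
noncomputable def tF_s143_147 (j : Nat) : Nat := @Bool.rec (fun _ => Nat) (@Bool.rec (fun _ => Nat) tF_L143 tF_L144 (Nat.ble (nat_lit 144) j)) (@Bool.rec (fun _ => Nat) tF_L145 tF_L146 (Nat.ble (nat_lit 146) j)) (Nat.ble (nat_lit 145) j)
noncomputable def tF_s147_151 (j : Nat) : Nat := @Bool.rec (fun _ => Nat) (@Bool.rec (fun _ => Nat) tF_L147 tF_L148 (Nat.ble (nat_lit 148) j)) (@Bool.rec (fun _ => Nat) tF_L149 tF_L150 (Nat.ble (nat_lit 150) j)) (Nat.ble (nat_lit 149) j)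
noncomputable def tF_s121_151 (j : Nat) : Nat := @Bool.rec (fun _ => Nat) (@Bool.rec (fun _ => Nat) (@Bool.rec (fun _ => Nat) (tF_s121_124 j) (tF_s124_128 j) (Nat.ble (nat_lit 124) j)) (@Bool.rec (fun _ => Nat) (tF_s128_132 j) (tF_s132_136 j) (Nat.ble (nat_lit 132) j)) (Nat.ble (nat_lit 128) j)) (@Bool.rec (fun _ => Nat) (@Bool.rec (fun _ => Nat) (tF_s136_139 j) (tF_s139_143 j) (Nat.ble (nat_lit 139) j)) (@Bool.rec (fun _ => Nat) (tF_s143_147 j) (tF_s147_151 j) (Nat.ble (nat_lit 147) j)) (Nat.ble (nat_lit 143) j)) (Nat.ble (nat_lit 136) j)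
noncomputable def tF_s151_154 (j : Nat) : Nat := @Bool.rec (fun _ => Nat) tF_L151 (@Bool.rec (fun _ => Nat) tF_L152 tF_L153 (Nat.ble (nat_lit 153) j)) (Nat.ble (nat_lit 152) j)
noncomputable def tF_s154_158 (j : Nat) : Nat := @Bool.rec (fun _ => Nat) (@Bool.rec (fun _ => Nat) tF_L154 tF_L155 (Nat.ble (nat_lit 155) j)) (@Bool.rec (fun _ => Nat) tF_L156 tF_L157 (Nat.ble (nat_lit 157) j)) (Nat.ble (nat_lit 156) j)
noncomputable def tF_s158_162 (j : Nat) : Nat := @Bool.rec (fun _ => Nat) (@Bool.rec (fun _ => Nat) tF_L158 tF_L159 (Nat.ble (nat_lit 159) j)) (@Bool.rec (fun _ => Nat) tF_L160 tF_L161 (Nat.ble (nat_lit 161) j)) (Nat.ble (nat_lit 160) j)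
noncomputable def tF_s162_166 (j : Nat) : Nat := @Bool.rec (fun _ => Nat) (@Bool.rec (fun _ => Nat) tF_L162 tF_L163 (Nat.ble (nat_lit 163) j)) (@Bool.rec (fun _ => Nat) tF_L164 tF_L165 (Nat.ble (nat_lit 165) j)) (Nat.ble (nat_lit 164) j)
noncomputable def tF_s166_169 (j : Nat) : Nat := @Bool.rec (fun _ => Nat) tF_L166 (@Bool.rec (fun _ => Nat) tF_L167 tF_L168 (Nat.ble (nat_lit 168) j)) (Nat.ble (nat_lit 167) j)
noncomputable def tF_s169_173 (j : Nat) : Nat := @Bool.rec (fun _ => Nat) (@Bool.rec (fun _ => Nat) tF_L169 tF_L170 (Nat.ble (nat_lit 170) j)) (@Bool.rec (fun _ => Nat) tF_L171 tF_L172 (Nat.ble (nat_lit 172) j)) (Nat.ble (nat_lit 171) j)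
noncomputable def tF_s173_177 (j : Nat) : Nat := @Bool.rec (fun _ => Nat) (@Bool.rec (fun _ => Nat) tF_L173 tF_L174 (Nat.ble (nat_lit 174) j)) (@Bool.rec (fun _ => Nat) tF_L175 tF_L176 (Nat.ble (nat_lit 176) j)) (Nat.ble (nat_lit 175) j)
noncomputable def tF_s177_181 (j : Nat) : Nat := @Bool.rec (fun _ => Nat) (@Bool.rec (fun _ => Nat) tF_L177 tF_L178 (Nat.ble (nat_lit 178) j)) (@Bool.rec (fun _ => Nat) tF_L179 tF_L180 (Nat.ble (nat_lit 180) j)) (Nat.ble (nat_lit 179) j)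
noncomputable def tF_s151_181 (j : Nat) : Nat := @Bool.rec (fun _ => Nat) (@Bool.rec (fun _ => Nat) (@Bool.rec (fun _ => Nat) (tF_s151_154 j) (tF_s154_158 j) (Nat.ble (nat_lit 154) j)) (@Bool.rec (fun _ => Nat) (tF_s158_162 j) (tF_s162_166 j) (Nat.ble (nat_lit 162) j)) (Nat.ble (nat_lit 158) j)) (@Bool.rec (fun _ => Nat) (@Bool.rec (fun _ => Nat) (tF_s166_169 j) (tF_s169_173 j) (Nat.ble (nat_lit 169) j)) (@Bool.rec (fun _ => Nat) (tF_s173_177 j) (tF_s177_181 j) (Nat.ble (nat_lit 177) j)) (Nat.ble (nat_lit 173) j)) (Nat.ble (nat_lit 166) j)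
noncomputable def tF_s181_184 (j : Nat) : Nat := @Bool.rec (fun _ => Nat) tF_L181 (@Bool.rec (fun _ => Nat) tF_L182 tF_L183 (Nat.ble (nat_lit 183) j)) (Nat.ble (nat_lit 182) j)
noncomputable def tF_s184_188 (j : Nat) : Nat := @Bool.rec (fun _ => Nat) (@Bool.rec (fun _ => Nat) tF_L184 tF_L185 (Nat.ble (nat_lit 185) j)) (@Bool.rec (fun _ => Nat) tF_L186 tF_L187 (Nat.ble (nat_lit 187) j)) (Nat.ble (nat_lit 186) j)
noncomputable def tF_s188_192 (j : Nat) : Nat := @Bool.rec (fun _ => Nat) (@Bool.rec (fun _ => Nat) tF_L188 tF_L189 (Nat.ble (nat_lit 189) j)) (@Bool.rec (fun _ => Nat) tF_L190 tF_L191 (Nat.ble (nat_lit 191) j)) (Nat.ble (nat_lit 190) j)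
noncomputable def tF_s192_196 (j : Nat) : Nat := @Bool.rec (fun _ => Nat) (@Bool.rec (fun _ => Nat) tF_L192 tF_L193 (Nat.ble (nat_lit 193) j)) (@Bool.rec (fun _ => Nat) tF_L194 tF_L195 (Nat.ble (nat_lit 195) j)) (Nat.ble (nat_lit 194) j)
noncomputable def tF_s196_199 (j : Nat) : Nat := @Bool.rec (fun _ => Nat) tF_L196 (@Bool.rec (fun _ => Nat) tF_L197 tF_L198 (Nat.ble (nat_lit 198) j)) (Nat.ble (nat_lit 197) j)
noncomputable def tF_s199_203 (j : Nat) : Nat := @Bool.rec (fun _ => Nat) (@Bool.rec (fun _ => Nat) tF_L199 tF_L200 (Nat.ble (nat_lit 200) j)) (@Bool.rec (fun _ => Nat) tF_L201 tF_L202 (Nat.ble (nat_lit 202) j)) (Nat.ble (nat_lit 201) j)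
noncomputable def tF_s203_207 (j : Nat) : Nat := @Bool.rec (fun _ => Nat) (@Bool.rec (fun _ => Nat) tF_L203 tF_L204 (Nat.ble (nat_lit 204) j)) (@Bool.rec (fun _ => Nat) tF_L205 tF_L206 (Nat.ble (nat_lit 206) j)) (Nat.ble (nat_lit 205) j)
noncomputable def tF_s207_211 (j : Nat) : Nat := @Bool.rec (fun _ => Nat) (@Bool.rec (fun _ => Nat) tF_L207 tF_L208 (Nat.ble (nat_lit 208) j)) (@Bool.rec (fun _ => Nat) tF_L209 tF_L210 (Nat.ble (nat_lit 210) j)) (Nat.ble (nat_lit 209) j)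
noncomputable def tF_s181_211 (j : Nat) : Nat := @Bool.rec (fun _ => Nat) (@Bool.rec (fun _ => Nat) (@Bool.rec (fun _ => Nat) (tF_s181_184 j) (tF_s184_188 j) (Nat.ble (nat_lit 184) j)) (@Bool.rec (fun _ => Nat) (tF_s188_192 j) (tF_s192_196 j) (Nat.ble (nat_lit 192) j)) (Nat.ble (nat_lit 188) j)) (@Bool.rec (fun _ => Nat) (@Bool.rec (fun _ => Nat) (tF_s196_199 j) (tF_s199_203 j) (Nat.ble (nat_lit 199) j)) (@Bool.rec (fun _ => Nat) (tF_s203_207 j) (tF_s207_211 j) (Nat.ble (nat_lit 207) j)) (Nat.ble (nat_lit 203) j)) (Nat.ble (nat_lit 196) j)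
noncomputable def tF_s211_214 (j : Nat) : Nat := @Bool.rec (fun _ => Nat) tF_L211 (@Bool.rec (fun _ => Nat) tF_L212 tF_L213 (Nat.ble (nat_lit 213) j)) (Nat.ble (nat_lit 212) j)
noncomputable def tF_s214_218 (j : Nat) : Nat := @Bool.rec (fun _ => Nat) (@Bool.rec (fun _ => Nat) tF_L214 tF_L215 (Nat.ble (nat_lit 215) j)) (@Bool.rec (fun _ => Nat) tF_L216 tF_L217 (Nat.ble (nat_lit 217) j)) (Nat.ble (nat_lit 216) j)
noncomputable def tF_s218_222 (j : Nat) : Nat := @Bool.rec (fun _ => Nat) (@Bool.rec (fun _ => Nat) tF_L218 tF_L219 (Nat.ble (nat_lit 219) j)) (@Bool.rec (fun _ => Nat) tF_L220 tF_L221 (Nat.ble (nat_lit 221) j)) (Nat.ble (nat_lit 220) j)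
noncomputable def tF_s222_226 (j : Nat) : Nat := @Bool.rec (fun _ => Nat) (@Bool.rec (fun _ => Nat) tF_L222 tF_L223 (Nat.ble (nat_lit 223) j)) (@Bool.rec (fun _ => Nat) tF_L224 tF_L225 (Nat.ble (nat_lit 225) j)) (Nat.ble (nat_lit 224) j)
noncomputable def tF_s226_230 (j : Nat) : Nat := @Bool.rec (fun _ => Nat) (@Bool.rec (fun _ => Nat) tF_L226 tF_L227 (Nat.ble (nat_lit 227) j)) (@Bool.rec (fun _ => Nat) tF_L228 tF_L229 (Nat.ble (nat_lit 229) j)) (Nat.ble (nat_lit 228) j)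
noncomputable def tF_s230_234 (j : Nat) : Nat := @Bool.rec (fun _ => Nat) (@Bool.rec (fun _ => Nat) tF_L230 tF_L231 (Nat.ble (nat_lit 231) j)) (@Bool.rec (fun _ => Nat) tF_L232 tF_L233 (Nat.ble (nat_lit 233) j)) (Nat.ble (nat_lit 232) j)
noncomputable def tF_s234_238 (j : Nat) : Nat := @Bool.rec (fun _ => Nat) (@Bool.rec (fun _ => Nat) tF_L234 tF_L235 (Nat.ble (nat_lit 235) j)) (@Bool.rec (fun _ => Nat) tF_L236 tF_L237 (Nat.ble (nat_lit 237) j)) (Nat.ble (nat_lit 236) j)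
noncomputable def tF_s238_242 (j : Nat) : Nat := @Bool.rec (fun _ => Nat) (@Bool.rec (fun _ => Nat) tF_L238 tF_L239 (Nat.ble (nat_lit 239) j)) (@Bool.rec (fun _ => Nat) tF_L240 tF_L241 (Nat.ble (nat_lit 241) j)) (Nat.ble (nat_lit 240) j)
noncomputable def tF_s211_242 (j : Nat) : Nat := @Bool.rec (fun _ => Nat) (@Bool.rec (fun _ => Nat) (@Bool.rec (fun _ => Nat) (tF_s211_214 j) (tF_s214_218 j) (Nat.ble (nat_lit 214) j)) (@Bool.rec (fun _ => Nat) (tF_s218_222 j) (tF_s222_226 j) (Nat.ble (nat_lit 222) j)) (Nat.ble (nat_lit 218) j)) (@Bool.rec (fun _ => Nat) (@Bool.rec (fun _ => Nat) (tF_s226_230 j) (tF_s230_234 j) (Nat.ble (nat_lit 230) j)) (@Bool.rec (fun _ => Nat) (tF_s234_238 j) (tF_s238_242 j) (Nat.ble (nat_lit 238) j)) (Nat.ble (nat_lit 234) j)) (Nat.ble (nat_lit 226) j)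
noncomputable def tF_s0_242 (j : Nat) : Nat := @Bool.rec (fun _ => Nat) (@Bool.rec (fun _ => Nat) (@Bool.rec (fun _ => Nat) (tF_s0_30 j) (tF_s30_60 j) (Nat.ble (nat_lit 30) j)) (@Bool.rec (fun _ => Nat) (tF_s60_90 j) (tF_s90_121 j) (Nat.ble (nat_lit 90) j)) (Nat.ble (nat_lit 60) j)) (@Bool.rec (fun _ => Nat) (@Bool.rec (fun _ => Nat) (tF_s121_151 j) (tF_s151_181 j) (Nat.ble (nat_lit 151) j)) (@Bool.rec (fun _ => Nat) (tF_s181_211 j) (tF_s211_242 j) (Nat.ble (nat_lit 211) j)) (Nat.ble (nat_lit 181) j)) (Nat.ble (nat_lit 121) j)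
noncomputable def tF (i : Nat) : Nat := Nat.land (Nat.shiftRight (tF_s0_242 (Nat.div i (nat_lit 16326))) (Nat.mul (nat_lit 49) (Nat.mod i (nat_lit 16326)))) (nat_lit 562949953421311)
noncomputable def tD_s1_3 (j : Nat) : Nat := @Bool.rec (fun _ => Nat) tD_L1 tD_L2 (Nat.ble (nat_lit 2) j)
noncomputable def tD_s4_6 (j : Nat) : Nat := @Bool.rec (fun _ => Nat) tD_L4 tD_L5 (Nat.ble (nat_lit 5) j)
noncomputable def tD_s7_9 (j : Nat) : Nat := @Bool.rec (fun _ => Nat) tD_L7 tD_L8 (Nat.ble (nat_lit 8) j)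
noncomputable def tD_s10_12 (j : Nat) : Nat := @Bool.rec (fun _ => Nat) tD_L10 tD_L11 (Nat.ble (nat_lit 11) j)
noncomputable def tD_s0_12 (j : Nat) : Nat := @Bool.rec (fun _ => Nat) (@Bool.rec (fun _ => Nat) (@Bool.rec (fun _ => Nat) tD_L0 (tD_s1_3 j) (Nat.ble (nat_lit 1) j)) (@Bool.rec (fun _ => Nat) tD_L3 (tD_s4_6 j) (Nat.ble (nat_lit 4) j)) (Nat.ble (nat_lit 3) j)) (@Bool.rec (fun _ => Nat) (@Bool.rec (fun _ => Nat) tD_L6 (tD_s7_9 j) (Nat.ble (nat_lit 7) j)) (@Bool.rec (fun _ => Nat) tD_L9 (tD_s10_12 j) (Nat.ble (nat_lit 10) j)) (Nat.ble (nat_lit 9) j)) (Nat.ble (nat_lit 6) j)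
noncomputable def tD (i : Nat) : Nat := Nat.land (Nat.shiftRight (tD_s0_12 (Nat.div i (nat_lit 29629))) (Nat.mul (nat_lit 27) (Nat.mod i (nat_lit 29629)))) (nat_lit 134217727)
noncomputable def tT_s0_2 (j : Nat) : Nat := @Bool.rec (fun _ => Nat) tT_L0 tT_L1 (Nat.ble (nat_lit 1) j)
noncomputable def tT_s2_5 (j : Nat) : Nat := @Bool.rec (fun _ => Nat) tT_L2 (@Bool.rec (fun _ => Nat) tT_L3 tT_L4 (Nat.ble (nat_lit 4) j)) (Nat.ble (nat_lit 3) j)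
noncomputable def tT_s5_7 (j : Nat) : Nat := @Bool.rec (fun _ => Nat) tT_L5 tT_L6 (Nat.ble (nat_lit 6) j)
noncomputable def tT_s7_10 (j : Nat) : Nat := @Bool.rec (fun _ => Nat) tT_L7 (@Bool.rec (fun _ => Nat) tT_L8 tT_L9 (Nat.ble (nat_lit 9) j)) (Nat.ble (nat_lit 8) j)
noncomputable def tT_s10_12 (j : Nat) : Nat := @Bool.rec (fun _ => Nat) tT_L10 tT_L11 (Nat.ble (nat_lit 11) j)
noncomputable def tT_s12_15 (j : Nat) : Nat := @Bool.rec (fun _ => Nat) tT_L12 (@Bool.rec (fun _ => Nat) tT_L13 tT_L14 (Nat.ble (nat_lit 14) j)) (Nat.ble (nat_lit 13) j)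
noncomputable def tT_s15_18 (j : Nat) : Nat := @Bool.rec (fun _ => Nat) tT_L15 (@Bool.rec (fun _ => Nat) tT_L16 tT_L17 (Nat.ble (nat_lit 17) j)) (Nat.ble (nat_lit 16) j)
noncomputable def tT_s18_21 (j : Nat) : Nat := @Bool.rec (fun _ => Nat) tT_L18 (@Bool.rec (fun _ => Nat) tT_L19 tT_L20 (Nat.ble (nat_lit 20) j)) (Nat.ble (nat_lit 19) j)
noncomputable def tT_s0_21 (j : Nat) : Nat := @Bool.rec (fun _ => Nat) (@Bool.rec (fun _ => Nat) (@Bool.rec (fun _ => Nat) (tT_s0_2 j) (tT_s2_5 j) (Nat.ble (nat_lit 2) j)) (@Bool.rec (fun _ => Nat) (tT_s5_7 j) (tT_s7_10 j) (Nat.ble (nat_lit 7) j)) (Nat.ble (nat_lit 5) j)) (@Bool.rec (fun _ => Nat) (@Bool.rec (fun _ => Nat) (tT_s10_12 j) (tT_s12_15 j) (Nat.ble (nat_lit 12) j)) (@Bool.rec (fun _ => Nat) (tT_s15_18 j) (tT_s18_21 j) (Nat.ble (nat_lit 18) j)) (Nat.ble (nat_lit 15) j)) (Nat.ble (nat_lit 10) j)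
noncomputable def tT_s21_23 (j : Nat) : Nat := @Bool.rec (fun _ => Nat) tT_L21 tT_L22 (Nat.ble (nat_lit 22) j)
noncomputable def tT_s23_26 (j : Nat) : Nat := @Bool.rec (fun _ => Nat) tT_L23 (@Bool.rec (fun _ => Nat) tT_L24 tT_L25 (Nat.ble (nat_lit 25) j)) (Nat.ble (nat_lit 24) j)
noncomputable def tT_s26_29 (j : Nat) : Nat := @Bool.rec (fun _ => Nat) tT_L26 (@Bool.rec (fun _ => Nat) tT_L27 tT_L28 (Nat.ble (nat_lit 28) j)) (Nat.ble (nat_lit 27) j)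
noncomputable def tT_s29_32 (j : Nat) : Nat := @Bool.rec (fun _ => Nat) tT_L29 (@Bool.rec (fun _ => Nat) tT_L30 tT_L31 (Nat.ble (nat_lit 31) j)) (Nat.ble (nat_lit 30) j)
noncomputable def tT_s32_34 (j : Nat) : Nat := @Bool.rec (fun _ => Nat) tT_L32 tT_L33 (Nat.ble (nat_lit 33) j)
noncomputable def tT_s34_37 (j : Nat) : Nat := @Bool.rec (fun _ => Nat) tT_L34 (@Bool.rec (fun _ => Nat) tT_L35 tT_L36 (Nat.ble (nat_lit 36) j)) (Nat.ble (nat_lit 35) j)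
noncomputable def tT_s37_40 (j : Nat) : Nat := @Bool.rec (fun _ => Nat) tT_L37 (@Bool.rec (fun _ => Nat) tT_L38 tT_L39 (Nat.ble (nat_lit 39) j)) (Nat.ble (nat_lit 38) j)
noncomputable def tT_s40_43 (j : Nat) : Nat := @Bool.rec (fun _ => Nat) tT_L40 (@Bool.rec (fun _ => Nat) tT_L41 tT_L42 (Nat.ble (nat_lit 42) j)) (Nat.ble (nat_lit 41) j)
noncomputable def tT_s21_43 (j : Nat) : Nat := @Bool.rec (fun _ => Nat) (@Bool.rec (fun _ => Nat) (@Bool.rec (fun _ => Nat) (tT_s21_23 j) (tT_s23_26 j) (Nat.ble (nat_lit 23) j)) (@Bool.rec (fun _ => Nat) (tT_s26_29 j) (tT_s29_32 j) (Nat.ble (nat_lit 29) j)) (Nat.ble (nat_lit 26) j)) (@Bool.rec (fun _ => Nat) (@Bool.rec (fun _ => Nat) (tT_s32_34 j) (tT_s34_37 j) (Nat.ble (nat_lit 34) j)) (@Bool.rec (fun _ => Nat) (tT_s37_40 j) (tT_s40_43 j) (Nat.ble (nat_lit 40) j)) (Nat.ble (nat_lit 37) j)) (Nat.ble (nat_lit 32) j)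
noncomputable def tT_s43_45 (j : Nat) : Nat := @Bool.rec (fun _ => Nat) tT_L43 tT_L44 (Nat.ble (nat_lit 44) j)
noncomputable def tT_s45_48 (j : Nat) : Nat := @Bool.rec (fun _ => Nat) tT_L45 (@Bool.rec (fun _ => Nat) tT_L46 tT_L47 (Nat.ble (nat_lit 47) j)) (Nat.ble (nat_lit 46) j)
noncomputable def tT_s48_51 (j : Nat) : Nat := @Bool.rec (fun _ => Nat) tT_L48 (@Bool.rec (fun _ => Nat) tT_L49 tT_L50 (Nat.ble (nat_lit 50) j)) (Nat.ble (nat_lit 49) j)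
noncomputable def tT_s51_54 (j : Nat) : Nat := @Bool.rec (fun _ => Nat) tT_L51 (@Bool.rec (fun _ => Nat) tT_L52 tT_L53 (Nat.ble (nat_lit 53) j)) (Nat.ble (nat_lit 52) j)
noncomputable def tT_s54_56 (j : Nat) : Nat := @Bool.rec (fun _ => Nat) tT_L54 tT_L55 (Nat.ble (nat_lit 55) j)
noncomputable def tT_s56_59 (j : Nat) : Nat := @Bool.rec (fun _ => Nat) tT_L56 (@Bool.rec (fun _ => Nat) tT_L57 tT_L58 (Nat.ble (nat_lit 58) j)) (Nat.ble (nat_lit 57) j)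
noncomputable def tT_s59_62 (j : Nat) : Nat := @Bool.rec (fun _ => Nat) tT_L59 (@Bool.rec (fun _ => Nat) tT_L60 tT_L61 (Nat.ble (nat_lit 61) j)) (Nat.ble (nat_lit 60) j)
noncomputable def tT_s62_65 (j : Nat) : Nat := @Bool.rec (fun _ => Nat) tT_L62 (@Bool.rec (fun _ => Nat) tT_L63 tT_L64 (Nat.ble (nat_lit 64) j)) (Nat.ble (nat_lit 63) j)
noncomputable def tT_s43_65 (j : Nat) : Nat := @Bool.rec (fun _ => Nat) (@Bool.rec (fun _ => Nat) (@Bool.rec (fun _ => Nat) (tT_s43_45 j) (tT_s45_48 j) (Nat.ble (nat_lit 45) j)) (@Bool.rec (fun _ => Nat) (tT_s48_51 j) (tT_s51_54 j) (Nat.ble (nat_lit 51) j)) (Nat.ble (nat_lit 48) j)) (@Bool.rec (fun _ => Nat) (@Bool.rec (fun _ => Nat) (tT_s54_56 j) (tT_s56_59 j) (Nat.ble (nat_lit 56) j)) (@Bool.rec (fun _ => Nat) (tT_s59_62 j) (tT_s62_65 j) (Nat.ble (nat_lit 62) j)) (Nat.ble (nat_lit 59) j)) (Nat.ble (nat_lit 54) j)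
noncomputable def tT_s65_67 (j : Nat) : Nat := @Bool.rec (fun _ => Nat) tT_L65 tT_L66 (Nat.ble (nat_lit 66) j)
noncomputable def tT_s67_70 (j : Nat) : Nat := @Bool.rec (fun _ => Nat) tT_L67 (@Bool.rec (fun _ => Nat) tT_L68 tT_L69 (Nat.ble (nat_lit 69) j)) (Nat.ble (nat_lit 68) j)
noncomputable def tT_s70_73 (j : Nat) : Nat := @Bool.rec (fun _ => Nat) tT_L70 (@Bool.rec (fun _ => Nat) tT_L71 tT_L72 (Nat.ble (nat_lit 72) j)) (Nat.ble (nat_lit 71) j)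
noncomputable def tT_s73_76 (j : Nat) : Nat := @Bool.rec (fun _ => Nat) tT_L73 (@Bool.rec (fun _ => Nat) tT_L74 tT_L75 (Nat.ble (nat_lit 75) j)) (Nat.ble (nat_lit 74) j)
noncomputable def tT_s76_78 (j : Nat) : Nat := @Bool.rec (fun _ => Nat) tT_L76 tT_L77 (Nat.ble (nat_lit 77) j)
noncomputable def tT_s78_81 (j : Nat) : Nat := @Bool.rec (fun _ => Nat) tT_L78 (@Bool.rec (fun _ => Nat) tT_L79 tT_L80 (Nat.ble (nat_lit 80) j)) (Nat.ble (nat_lit 79) j)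
noncomputable def tT_s81_84 (j : Nat) : Nat := @Bool.rec (fun _ => Nat) tT_L81 (@Bool.rec (fun _ => Nat) tT_L82 tT_L83 (Nat.ble (nat_lit 83) j)) (Nat.ble (nat_lit 82) j)
noncomputable def tT_s84_87 (j : Nat) : Nat := @Bool.rec (fun _ => Nat) tT_L84 (@Bool.rec (fun _ => Nat) tT_L85 tT_L86 (Nat.ble (nat_lit 86) j)) (Nat.ble (nat_lit 85) j)
noncomputable def tT_s65_87 (j : Nat) : Nat := @Bool.rec (fun _ => Nat) (@Bool.rec (fun _ => Nat) (@Bool.rec (fun _ => Nat) (tT_s65_67 j) (tT_s67_70 j) (Nat.ble (nat_lit 67) j)) (@Bool.rec (fun _ => Nat) (tT_s70_73 j) (tT_s73_76 j) (Nat.ble (nat_lit 73) j)) (Nat.ble (nat_lit 70) j)) (@Bool.rec (fun _ => Nat) (@Bool.rec (fun _ => Nat) (tT_s76_78 j) (tT_s78_81 j) (Nat.ble (nat_lit 78) j)) (@Bool.rec (fun _ => Nat) (tT_s81_84 j) (tT_s84_87 j) (Nat.ble (nat_lit 84) j)) (Nat.ble (nat_lit 81) j)) (Nat.ble (nat_lit 76) j)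
noncomputable def tT_s87_89 (j : Nat) : Nat := @Bool.rec (fun _ => Nat) tT_L87 tT_L88 (Nat.ble (nat_lit 88) j)
noncomputable def tT_s89_92 (j : Nat) : Nat := @Bool.rec (fun _ => Nat) tT_L89 (@Bool.rec (fun _ => Nat) tT_L90 tT_L91 (Nat.ble (nat_lit 91) j)) (Nat.ble (nat_lit 90) j)
noncomputable def tT_s92_95 (j : Nat) : Nat := @Bool.rec (fun _ => Nat) tT_L92 (@Bool.rec (fun _ => Nat) tT_L93 tT_L94 (Nat.ble (nat_lit 94) j)) (Nat.ble (nat_lit 93) j)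
noncomputable def tT_s95_98 (j : Nat) : Nat := @Bool.rec (fun _ => Nat) tT_L95 (@Bool.rec (fun _ => Nat) tT_L96 tT_L97 (Nat.ble (nat_lit 97) j)) (Nat.ble (nat_lit 96) j)
noncomputable def tT_s98_100 (j : Nat) : Nat := @Bool.rec (fun _ => Nat) tT_L98 tT_L99 (Nat.ble (nat_lit 99) j)
noncomputable def tT_s100_103 (j : Nat) : Nat := @Bool.rec (fun _ => Nat) tT_L100 (@Bool.rec (fun _ => Nat) tT_L101 tT_L102 (Nat.ble (nat_lit 102) j)) (Nat.ble (nat_lit 101) j)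
noncomputable def tT_s103_106 (j : Nat) : Nat := @Bool.rec (fun _ => Nat) tT_L103 (@Bool.rec (fun _ => Nat) tT_L104 tT_L105 (Nat.ble (nat_lit 105) j)) (Nat.ble (nat_lit 104) j)
noncomputable def tT_s106_109 (j : Nat) : Nat := @Bool.rec (fun _ => Nat) tT_L106 (@Bool.rec (fun _ => Nat) tT_L107 tT_L108 (Nat.ble (nat_lit 108) j)) (Nat.ble (nat_lit 107) j)
noncomputable def tT_s87_109 (j : Nat) : Nat := @Bool.rec (fun _ => Nat) (@Bool.rec (fun _ => Nat) (@Bool.rec (fun _ => Nat) (tT_s87_89 j) (tT_s89_92 j) (Nat.ble (nat_lit 89) j)) (@Bool.rec (fun _ => Nat) (tT_s92_95 j) (tT_s95_98 j) (Nat.ble (nat_lit 95) j)) (Nat.ble (nat_lit 92) j)) (@Bool.rec (fun _ => Nat) (@Bool.rec (fun _ => Nat) (tT_s98_100 j) (tT_s100_103 j) (Nat.ble (nat_lit 100) j)) (@Bool.rec (fun _ => Nat) (tT_s103_106 j) (tT_s106_109 j) (Nat.ble (nat_lit 106) j)) (Nat.ble (nat_lit 103) j))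 (Nat.ble (nat_lit 98) j)
noncomputable def tT_s109_111 (j : Nat) : Nat := @Bool.rec (fun _ => Nat) tT_L109 tT_L110 (Nat.ble (nat_lit 110) j)
noncomputable def tT_s111_114 (j : Nat) : Nat := @Bool.rec (fun _ => Nat) tT_L111 (@Bool.rec (fun _ => Nat) tT_L112 tT_L113 (Nat.ble (nat_lit 113) j)) (Nat.ble (nat_lit 112) j)
noncomputable def tT_s114_117 (j : Nat) : Nat := @Bool.rec (fun _ => Nat) tT_L114 (@Bool.rec (fun _ => Nat) tT_L115 tT_L116 (Nat.ble (nat_lit 116) j)) (Nat.ble (nat_lit 115) j)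
noncomputable def tT_s117_120 (j : Nat) : Nat := @Bool.rec (fun _ => Nat) tT_L117 (@Bool.rec (fun _ => Nat) tT_L118 tT_L119 (Nat.ble (nat_lit 119) j)) (Nat.ble (nat_lit 118) j)
noncomputable def tT_s120_122 (j : Nat) : Nat := @Bool.rec (fun _ => Nat) tT_L120 tT_L121 (Nat.ble (nat_lit 121) j)
noncomputable def tT_s122_125 (j : Nat) : Nat := @Bool.rec (fun _ => Nat) tT_L122 (@Bool.rec (fun _ => Nat) tT_L123 tT_L124 (Nat.ble (nat_lit 124) j)) (Nat.ble (nat_lit 123) j)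
noncomputable def tT_s125_128 (j : Nat) : Nat := @Bool.rec (fun _ => Nat) tT_L125 (@Bool.rec (fun _ => Nat) tT_L126 tT_L127 (Nat.ble (nat_lit 127) j)) (Nat.ble (nat_lit 126) j)
noncomputable def tT_s128_131 (j : Nat) : Nat := @Bool.rec (fun _ => Nat) tT_L128 (@Bool.rec (fun _ => Nat) tT_L129 tT_L130 (Nat.ble (nat_lit 130) j)) (Nat.ble (nat_lit 129) j)
noncomputable def tT_s109_131 (j : Nat) : Nat := @Bool.rec (fun _ => Nat) (@Bool.rec (fun _ => Nat) (@Bool.rec (fun _ => Nat) (tT_s109_111 j) (tT_s111_114 j) (Nat.ble (nat_lit 111) j)) (@Bool.rec (fun _ => Nat) (tT_s114_117 j) (tT_s117_120 j) (Nat.ble (nat_lit 117) j)) (Nat.ble (nat_lit 114) j)) (@Bool.rec (fun _ => Nat) (@Bool.rec (fun _ => Nat) (tT_s120_122 j) (tT_s122_125 j) (Nat.ble (nat_lit 122) j)) (@Bool.rec (fun _ => Nat) (tT_s125_128 j) (tT_s128_131 j) (Nat.ble (nat_lit 128) j)) (Nat.ble (nat_lit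 125) j)) (Nat.ble (nat_lit 120) j)
noncomputable def tT_s131_133 (j : Nat) : Nat := @Bool.rec (fun _ => Nat) tT_L131 tT_L132 (Nat.ble (nat_lit 132) j)
noncomputable def tT_s133_136 (j : Nat) : Nat := @Bool.rec (fun _ => Nat) tT_L133 (@Bool.rec (fun _ => Nat) tT_L134 tT_L135 (Nat.ble (nat_lit 135) j)) (Nat.ble (nat_lit 134) j)
noncomputable def tT_s136_139 (j : Nat) : Nat := @Bool.rec (fun _ => Nat) tT_L136 (@Bool.rec (fun _ => Nat) tT_L137 tT_L138 (Nat.ble (nat_lit 138) j)) (Nat.ble (nat_lit 137) j)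
noncomputable def tT_s139_142 (j : Nat) : Nat := @Bool.rec (fun _ => Nat) tT_L139 (@Bool.rec (fun _ => Nat) tT_L140 tT_L141 (Nat.ble (nat_lit 141) j)) (Nat.ble (nat_lit 140) j)
noncomputable def tT_s142_144 (j : Nat) : Nat := @Bool.rec (fun _ => Nat) tT_L142 tT_L143 (Nat.ble (nat_lit 143) j)
noncomputable def tT_s144_147 (j : Nat) : Nat := @Bool.rec (fun _ => Nat) tT_L144 (@Bool.rec (fun _ => Nat) tT_L145 tT_L146 (Nat.ble (nat_lit 146) j)) (Nat.ble (nat_lit 145) j)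
noncomputable def tT_s147_150 (j : Nat) : Nat := @Bool.rec (fun _ => Nat) tT_L147 (@Bool.rec (fun _ => Nat) tT_L148 tT_L149 (Nat.ble (nat_lit 149) j)) (Nat.ble (nat_lit 148) j)
noncomputable def tT_s150_153 (j : Nat) : Nat := @Bool.rec (fun _ => Nat) tT_L150 (@Bool.rec (fun _ => Nat) tT_L151 tT_L152 (Nat.ble (nat_lit 152) j)) (Nat.ble (nat_lit 151) j)
noncomputable def tT_s131_153 (j : Nat) : Nat := @Bool.rec (fun _ => Nat) (@Bool.rec (fun _ => Nat) (@Bool.rec (fun _ => Nat) (tT_s131_133 j) (tT_s133_136 j) (Nat.ble (nat_lit 133) j)) (@Bool.rec (fun _ => Nat) (tT_s136_139 j) (tT_s139_142 j) (Nat.ble (nat_lit 139) j)) (Nat.ble (nat_lit 136) j)) (@Bool.rec (fun _ => Nat) (@Bool.rec (fun _ => Nat) (tT_s142_144 j) (tT_s144_147 j) (Nat.ble (nat_lit 144) j)) (@Bool.rec (fun _ => Nat) (tT_s147_150 j) (tT_s150_153 j) (Nat.ble (nat_lit 150) j)) (Nat.ble (nat_lit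 147) j)) (Nat.ble (nat_lit 142) j)
noncomputable def tT_s153_155 (j : Nat) : Nat := @Bool.rec (fun _ => Nat) tT_L153 tT_L154 (Nat.ble (nat_lit 154) j)
noncomputable def tT_s155_158 (j : Nat) : Nat := @Bool.rec (fun _ => Nat) tT_L155 (@Bool.rec (fun _ => Nat) tT_L156 tT_L157 (Nat.ble (nat_lit 157) j)) (Nat.ble (nat_lit 156) j)
noncomputable def tT_s158_161 (j : Nat) : Nat := @Bool.rec (fun _ => Nat) tT_L158 (@Bool.rec (fun _ => Nat) tT_L159 tT_L160 (Nat.ble (nat_lit 160) j)) (Nat.ble (nat_lit 159) j)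
noncomputable def tT_s161_164 (j : Nat) : Nat := @Bool.rec (fun _ => Nat) tT_L161 (@Bool.rec (fun _ => Nat) tT_L162 tT_L163 (Nat.ble (nat_lit 163) j)) (Nat.ble (nat_lit 162) j)
noncomputable def tT_s164_166 (j : Nat) : Nat := @Bool.rec (fun _ => Nat) tT_L164 tT_L165 (Nat.ble (nat_lit 165) j)
noncomputable def tT_s166_169 (j : Nat) : Nat := @Bool.rec (fun _ => Nat) tT_L166 (@Bool.rec (fun _ => Nat) tT_L167 tT_L168 (Nat.ble (nat_lit 168) j)) (Nat.ble (nat_lit 167) j)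
noncomputable def tT_s169_172 (j : Nat) : Nat := @Bool.rec (fun _ => Nat) tT_L169 (@Bool.rec (fun _ => Nat) tT_L170 tT_L171 (Nat.ble (nat_lit 171) j)) (Nat.ble (nat_lit 170) j)
noncomputable def tT_s172_175 (j : Nat) : Nat := @Bool.rec (fun _ => Nat) tT_L172 (@Bool.rec (fun _ => Nat) tT_L173 tT_L174 (Nat.ble (nat_lit 174) j)) (Nat.ble (nat_lit 173) j)
noncomputable def tT_s153_175 (j : Nat) : Nat := @Bool.rec (fun _ => Nat) (@Bool.rec (fun _ => Nat) (@Bool.rec (fun _ => Nat) (tT_s153_155 j) (tT_s155_158 j) (Nat.ble (nat_lit 155) j)) (@Bool.rec (fun _ => Nat) (tT_s158_161 j) (tT_s161_164 j) (Nat.ble (nat_lit 161) j)) (Nat.ble (nat_lit 158) j)) (@Bool.rec (fun _ => Nat) (@Bool.rec (fun _ => Nat) (tT_s164_166 j) (tT_s166_169 j) (Nat.ble (nat_lit 166) j)) (@Bool.rec (fun _ => Nat) (tT_s169_172 j) (tT_s172_175 j) (Nat.ble (nat_lit 172) j)) (Nat.ble (nat_lit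 169) j)) (Nat.ble (nat_lit 164) j)
noncomputable def tT_s0_175 (j : Nat) : Nat := @Bool.rec (fun _ => Nat) (@Bool.rec (fun _ => Nat) (@Bool.rec (fun _ => Nat) (tT_s0_21 j) (tT_s21_43 j) (Nat.ble (nat_lit 21) j)) (@Bool.rec (fun _ => Nat) (tT_s43_65 j) (tT_s65_87 j) (Nat.ble (nat_lit 65) j)) (Nat.ble (nat_lit 43) j)) (@Bool.rec (fun _ => Nat) (@Bool.rec (fun _ => Nat) (tT_s87_109 j) (tT_s109_131 j) (Nat.ble (nat_lit 109) j)) (@Bool.rec (fun _ => Nat) (tT_s131_153 j) (tT_s153_175 j) (Nat.ble (nat_lit 153) j)) (Nat.ble (nat_lit 131) j)) (Nat.ble (nat_lit 87) j)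
noncomputable def tT (i : Nat) : Nat := Nat.land (Nat.shiftRight (tT_s0_175 (Nat.div i (nat_lit 42105))) (Nat.mul (nat_lit 19) (Nat.mod i (nat_lit 42105)))) (nat_lit 524287)
noncomputable def tPP_s7_9 (j : Nat) : Nat := @Bool.rec (fun _ => Nat) tPP_L7 tPP_L8 (Nat.ble (nat_lit 8) j)
noncomputable def tPP_s0_9 (j : Nat) : Nat := @Bool.rec (fun _ => Nat) (@Bool.rec (fun _ => Nat) (@Bool.rec (fun _ => Nat) tPP_L0 tPP_L1 (Nat.ble (nat_lit 1) j)) (@Bool.rec (fun _ => Nat) tPP_L2 tPP_L3 (Nat.ble (nat_lit 3) j)) (Nat.ble (nat_lit 2) j)) (@Bool.rec (fun _ => Nat) (@Bool.rec (fun _ => Nat) tPP_L4 tPP_L5 (Nat.ble (nat_lit 5) j)) (@Bool.rec (fun _ => Nat) tPP_L6 (tPP_s7_9 j) (Nat.ble (nat_lit 7) j)) (Nat.ble (nat_lit 6) j)) (Nat.ble (nat_lit 4) j)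
noncomputable def tPP (i : Nat) : Nat := Nat.land (Nat.shiftRight (tPP_s0_9 (Nat.div i (nat_lit 34782))) (Nat.mul (nat_lit 23) (Nat.mod i (nat_lit 34782)))) (nat_lit 8388607)
noncomputable def tNO_s0_8 (j : Nat) : Nat := @Bool.rec (fun _ => Nat) (@Bool.rec (fun _ => Nat) (@Bool.rec (fun _ => Nat) tNO_L0 tNO_L1 (Nat.ble (nat_lit 1) j)) (@Bool.rec (fun _ => Nat) tNO_L2 tNO_L3 (Nat.ble (nat_lit 3) j)) (Nat.ble (nat_lit 2) j)) (@Bool.rec (fun _ => Nat) (@Bool.rec (fun _ => Nat) tNO_L4 tNO_L5 (Nat.ble (nat_lit 5) j)) (@Bool.rec (fun _ => Nat) tNO_L6 tNO_L7 (Nat.ble (nat_lit 7) j)) (Nat.ble (nat_lit 6) j)) (Nat.ble (nat_lit 4) j)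
noncomputable def tNO (i : Nat) : Nat := Nat.land (Nat.shiftRight (tNO_s0_8 (Nat.div i (nat_lit 42105))) (Nat.mul (nat_lit 19) (Nat.mod i (nat_lit 42105)))) (nat_lit 524287)
noncomputable def tTAB_s1_3 (j : Nat) : Nat := @Bool.rec (fun _ => Nat) tTAB_L1 tTAB_L2 (Nat.ble (nat_lit 2) j)
noncomputable def tTAB_s4_6 (j : Nat) : Nat := @Bool.rec (fun _ => Nat) tTAB_L4 tTAB_L5 (Nat.ble (nat_lit 5) j)
noncomputable def tTAB_s7_9 (j : Nat) : Nat := @Bool.rec (fun _ => Nat) tTAB_L7 tTAB_L8 (Nat.ble (nat_lit 8) j)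
noncomputable def tTAB_s10_12 (j : Nat) : Nat := @Bool.rec (fun _ => Nat) tTAB_L10 tTAB_L11 (Nat.ble (nat_lit 11) j)
noncomputable def tTAB_s0_12 (j : Nat) : Nat := @Bool.rec (fun _ => Nat) (@Bool.rec (fun _ => Nat) (@Bool.rec (fun _ => Nat) tTAB_L0 (tTAB_s1_3 j) (Nat.ble (nat_lit 1) j)) (@Bool.rec (fun _ => Nat) tTAB_L3 (tTAB_s4_6 j) (Nat.ble (nat_lit 4) j)) (Nat.ble (nat_lit 3) j)) (@Bool.rec (fun _ => Nat) (@Bool.rec (fun _ => Nat) tTAB_L6 (tTAB_s7_9 j) (Nat.ble (nat_lit 7) j)) (@Bool.rec (fun _ => Nat) tTAB_L9 (tTAB_s10_12 j) (Nat.ble (nat_lit 10) j)) (Nat.ble (nat_lit 9) j)) (Nat.ble (nat_lit 6) j)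
noncomputable def tTAB_s13_15 (j : Nat) : Nat := @Bool.rec (fun _ => Nat) tTAB_L13 tTAB_L14 (Nat.ble (nat_lit 14) j)
noncomputable def tTAB_s16_18 (j : Nat) : Nat := @Bool.rec (fun _ => Nat) tTAB_L16 tTAB_L17 (Nat.ble (nat_lit 17) j)
noncomputable def tTAB_s19_21 (j : Nat) : Nat := @Bool.rec (fun _ => Nat) tTAB_L19 tTAB_L20 (Nat.ble (nat_lit 20) j)
noncomputable def tTAB_s21_23 (j : Nat) : Nat := @Bool.rec (fun _ => Nat) tTAB_L21 tTAB_L22 (Nat.ble (nat_lit 22) j)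
noncomputable def tTAB_s23_25 (j : Nat) : Nat := @Bool.rec (fun _ => Nat) tTAB_L23 tTAB_L24 (Nat.ble (nat_lit 24) j)
noncomputable def tTAB_s12_25 (j : Nat) : Nat := @Bool.rec (fun _ => Nat) (@Bool.rec (fun _ => Nat) (@Bool.rec (fun _ => Nat) tTAB_L12 (tTAB_s13_15 j) (Nat.ble (nat_lit 13) j)) (@Bool.rec (fun _ => Nat) tTAB_L15 (tTAB_s16_18 j) (Nat.ble (nat_lit 16) j)) (Nat.ble (nat_lit 15) j)) (@Bool.rec (fun _ => Nat) (@Bool.rec (fun _ => Nat) tTAB_L18 (tTAB_s19_21 j) (Nat.ble (nat_lit 19) j)) (@Bool.rec (fun _ => Nat) (tTAB_s21_23 j) (tTAB_s23_25 j) (Nat.ble (nat_lit 23) j)) (Nat.ble (nat_lit 21) j)) (Nat.ble (nat_lit 18) j)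
noncomputable def tTAB_s26_28 (j : Nat) : Nat := @Bool.rec (fun _ => Nat) tTAB_L26 tTAB_L27 (Nat.ble (nat_lit 27) j)
noncomputable def tTAB_s29_31 (j : Nat) : Nat := @Bool.rec (fun _ => Nat) tTAB_L29 tTAB_L30 (Nat.ble (nat_lit 30) j)
noncomputable def tTAB_s32_34 (j : Nat) : Nat := @Bool.rec (fun _ => Nat) tTAB_L32 tTAB_L33 (Nat.ble (nat_lit 33) j)
noncomputable def tTAB_s34_36 (j : Nat) : Nat := @Bool.rec (fun _ => Nat) tTAB_L34 tTAB_L35 (Nat.ble (nat_lit 35) j)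
noncomputable def tTAB_s36_38 (j : Nat) : Nat := @Bool.rec (fun _ => Nat) tTAB_L36 tTAB_L37 (Nat.ble (nat_lit 37) j)
noncomputable def tTAB_s25_38 (j : Nat) : Nat := @Bool.rec (fun _ => Nat) (@Bool.rec (fun _ => Nat) (@Bool.rec (fun _ => Nat) tTAB_L25 (tTAB_s26_28 j) (Nat.ble (nat_lit 26) j)) (@Bool.rec (fun _ => Nat) tTAB_L28 (tTAB_s29_31 j) (Nat.ble (nat_lit 29) j)) (Nat.ble (nat_lit 28) j)) (@Bool.rec (fun _ => Nat) (@Bool.rec (fun _ => Nat) tTAB_L31 (tTAB_s32_34 j) (Nat.ble (nat_lit 32) j)) (@Bool.rec (fun _ => Nat) (tTAB_s34_36 j) (tTAB_s36_38 j) (Nat.ble (nat_lit 36) j)) (Nat.ble (nat_lit 34) j)) (Nat.ble (nat_lit 31) j)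
noncomputable def tTAB_s39_41 (j : Nat) : Nat := @Bool.rec (fun _ => Nat) tTAB_L39 tTAB_L40 (Nat.ble (nat_lit 40) j)
noncomputable def tTAB_s42_44 (j : Nat) : Nat := @Bool.rec (fun _ => Nat) tTAB_L42 tTAB_L43 (Nat.ble (nat_lit 43) j)
noncomputable def tTAB_s45_47 (j : Nat) : Nat := @Bool.rec (fun _ => Nat) tTAB_L45 tTAB_L46 (Nat.ble (nat_lit 46) j)
noncomputable def tTAB_s47_49 (j : Nat) : Nat := @Bool.rec (fun _ => Nat) tTAB_L47 tTAB_L48 (Nat.ble (nat_lit 48) j)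
noncomputable def tTAB_s49_51 (j : Nat) : Nat := @Bool.rec (fun _ => Nat) tTAB_L49 tTAB_L50 (Nat.ble (nat_lit 50) j)
noncomputable def tTAB_s38_51 (j : Nat) : Nat := @Bool.rec (fun _ => Nat) (@Bool.rec (fun _ => Nat) (@Bool.rec (fun _ => Nat) tTAB_L38 (tTAB_s39_41 j) (Nat.ble (nat_lit 39) j)) (@Bool.rec (fun _ => Nat) tTAB_L41 (tTAB_s42_44 j) (Nat.ble (nat_lit 42) j)) (Nat.ble (nat_lit 41) j)) (@Bool.rec (fun _ => Nat) (@Bool.rec (fun _ => Nat) tTAB_L44 (tTAB_s45_47 j) (Nat.ble (nat_lit 45) j)) (@Bool.rec (fun _ => Nat) (tTAB_s47_49 j) (tTAB_s49_51 j) (Nat.ble (nat_lit 49) j)) (Nat.ble (nat_lit 47) j)) (Nat.ble (nat_lit 44) j)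
noncomputable def tTAB_s52_54 (j : Nat) : Nat := @Bool.rec (fun _ => Nat) tTAB_L52 tTAB_L53 (Nat.ble (nat_lit 53) j)
noncomputable def tTAB_s55_57 (j : Nat) : Nat := @Bool.rec (fun _ => Nat) tTAB_L55 tTAB_L56 (Nat.ble (nat_lit 56) j)
noncomputable def tTAB_s58_60 (j : Nat) : Nat := @Bool.rec (fun _ => Nat) tTAB_L58 tTAB_L59 (Nat.ble (nat_lit 59) j)
noncomputable def tTAB_s61_63 (j : Nat) : Nat := @Bool.rec (fun _ => Nat) tTAB_L61 tTAB_L62 (Nat.ble (nat_lit 62) j)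
noncomputable def tTAB_s51_63 (j : Nat) : Nat := @Bool.rec (fun _ => Nat) (@Bool.rec (fun _ => Nat) (@Bool.rec (fun _ => Nat) tTAB_L51 (tTAB_s52_54 j) (Nat.ble (nat_lit 52) j)) (@Bool.rec (fun _ => Nat) tTAB_L54 (tTAB_s55_57 j) (Nat.ble (nat_lit 55) j)) (Nat.ble (nat_lit 54) j)) (@Bool.rec (fun _ => Nat) (@Bool.rec (fun _ => Nat) tTAB_L57 (tTAB_s58_60 j) (Nat.ble (nat_lit 58) j)) (@Bool.rec (fun _ => Nat) tTAB_L60 (tTAB_s61_63 j) (Nat.ble (nat_lit 61) j)) (Nat.ble (nat_lit 60) j)) (Nat.ble (nat_lit 57) j)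
noncomputable def tTAB_s64_66 (j : Nat) : Nat := @Bool.rec (fun _ => Nat) tTAB_L64 tTAB_L65 (Nat.ble (nat_lit 65) j)
noncomputable def tTAB_s67_69 (j : Nat) : Nat := @Bool.rec (fun _ => Nat) tTAB_L67 tTAB_L68 (Nat.ble (nat_lit 68) j)
noncomputable def tTAB_s70_72 (j : Nat) : Nat := @Bool.rec (fun _ => Nat) tTAB_L70 tTAB_L71 (Nat.ble (nat_lit 71) j)
noncomputable def tTAB_s72_74 (j : Nat) : Nat := @Bool.rec (fun _ => Nat) tTAB_L72 tTAB_L73 (Nat.ble (nat_lit 73) j)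
noncomputable def tTAB_s74_76 (j : Nat) : Nat := @Bool.rec (fun _ => Nat) tTAB_L74 tTAB_L75 (Nat.ble (nat_lit 75) j)
noncomputable def tTAB_s63_76 (j : Nat) : Nat := @Bool.rec (fun _ => Nat) (@Bool.rec (fun _ => Nat) (@Bool.rec (fun _ => Nat) tTAB_L63 (tTAB_s64_66 j) (Nat.ble (nat_lit 64) j)) (@Bool.rec (fun _ => Nat) tTAB_L66 (tTAB_s67_69 j) (Nat.ble (nat_lit 67) j)) (Nat.ble (nat_lit 66) j)) (@Bool.rec (fun _ => Nat) (@Bool.rec (fun _ => Nat) tTAB_L69 (tTAB_s70_72 j) (Nat.ble (nat_lit 70) j)) (@Bool.rec (fun _ => Nat) (tTAB_s72_74 j) (tTAB_s74_76 j) (Nat.ble (nat_lit 74) j)) (Nat.ble (nat_lit 72) j)) (Nat.ble (nat_lit 69) j)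
noncomputable def tTAB_s77_79 (j : Nat) : Nat := @Bool.rec (fun _ => Nat) tTAB_L77 tTAB_L78 (Nat.ble (nat_lit 78) j)
noncomputable def tTAB_s80_82 (j : Nat) : Nat := @Bool.rec (fun _ => Nat) tTAB_L80 tTAB_L81 (Nat.ble (nat_lit 81) j)
noncomputable def tTAB_s83_85 (j : Nat) : Nat := @Bool.rec (fun _ => Nat) tTAB_L83 tTAB_L84 (Nat.ble (nat_lit 84) j)
noncomputable def tTAB_s85_87 (j : Nat) : Nat := @Bool.rec (fun _ => Nat) tTAB_L85 tTAB_L86 (Nat.ble (nat_lit 86) j)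
noncomputable def tTAB_s87_89 (j : Nat) : Nat := @Bool.rec (fun _ => Nat) tTAB_L87 tTAB_L88 (Nat.ble (nat_lit 88) j)
noncomputable def tTAB_s76_89 (j : Nat) : Nat := @Bool.rec (fun _ => Nat) (@Bool.rec (fun _ => Nat) (@Bool.rec (fun _ => Nat) tTAB_L76 (tTAB_s77_79 j) (Nat.ble (nat_lit 77) j)) (@Bool.rec (fun _ => Nat) tTAB_L79 (tTAB_s80_82 j) (Nat.ble (nat_lit 80) j)) (Nat.ble (nat_lit 79) j)) (@Bool.rec (fun _ => Nat) (@Bool.rec (fun _ => Nat) tTAB_L82 (tTAB_s83_85 j) (Nat.ble (nat_lit 83) j)) (@Bool.rec (fun _ => Nat) (tTAB_s85_87 j) (tTAB_s87_89 j) (Nat.ble (nat_lit 87) j)) (Nat.ble (nat_lit 85) j)) (Nat.ble (nat_lit 82) j)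
noncomputable def tTAB_s90_92 (j : Nat) : Nat := @Bool.rec (fun _ => Nat) tTAB_L90 tTAB_L91 (Nat.ble (nat_lit 91) j)
noncomputable def tTAB_s93_95 (j : Nat) : Nat := @Bool.rec (fun _ => Nat) tTAB_L93 tTAB_L94 (Nat.ble (nat_lit 94) j)
noncomputable def tTAB_s96_98 (j : Nat) : Nat := @Bool.rec (fun _ => Nat) tTAB_L96 tTAB_L97 (Nat.ble (nat_lit 97) j)
noncomputable def tTAB_s98_100 (j : Nat) : Nat := @Bool.rec (fun _ => Nat) tTAB_L98 tTAB_L99 (Nat.ble (nat_lit 99) j)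
noncomputable def tTAB_s100_102 (j : Nat) : Nat := @Bool.rec (fun _ => Nat) tTAB_L100 tTAB_L101 (Nat.ble (nat_lit 101) j)
noncomputable def tTAB_s89_102 (j : Nat) : Nat := @Bool.rec (fun _ => Nat) (@Bool.rec (fun _ => Nat) (@Bool.rec (fun _ => Nat) tTAB_L89 (tTAB_s90_92 j) (Nat.ble (nat_lit 90) j)) (@Bool.rec (fun _ => Nat) tTAB_L92 (tTAB_s93_95 j) (Nat.ble (nat_lit 93) j)) (Nat.ble (nat_lit 92) j)) (@Bool.rec (fun _ => Nat) (@Bool.rec (fun _ => Nat) tTAB_L95 (tTAB_s96_98 j) (Nat.ble (nat_lit 96) j)) (@Bool.rec (fun _ => Nat) (tTAB_s98_100 j) (tTAB_s100_102 j) (Nat.ble (nat_lit 100) j)) (Nat.ble (nat_lit 98) j)) (Nat.ble (nat_lit 95) j)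
noncomputable def tTAB_s0_102 (j : Nat) : Nat := @Bool.rec (fun _ => Nat) (@Bool.rec (fun _ => Nat) (@Bool.rec (fun _ => Nat) (tTAB_s0_12 j) (tTAB_s12_25 j) (Nat.ble (nat_lit 12) j)) (@Bool.rec (fun _ => Nat) (tTAB_s25_38 j) (tTAB_s38_51 j) (Nat.ble (nat_lit 38) j)) (Nat.ble (nat_lit 25) j)) (@Bool.rec (fun _ => Nat) (@Bool.rec (fun _ => Nat) (tTAB_s51_63 j) (tTAB_s63_76 j) (Nat.ble (nat_lit 63) j)) (@Bool.rec (fun _ => Nat) (tTAB_s76_89 j) (tTAB_s89_102 j) (Nat.ble (nat_lit 89) j)) (Nat.ble (nat_lit 76) j)) (Nat.ble (nat_lit 51) j)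
noncomputable def tTAB (i : Nat) : Nat := Nat.land (Nat.shiftRight (tTAB_s0_102 (Nat.div i (nat_lit 36363))) (Nat.mul (nat_lit 22) (Nat.mod i (nat_lit 36363)))) (nat_lit 4194303)
noncomputable def tORB (i : Nat) : Nat := Nat.land (Nat.shiftRight tORB_L0 (Nat.mul (nat_lit 2) i)) (nat_lit 3)
noncomputable def tORK_s0_3 (j : Nat) : Nat := @Bool.rec (fun _ => Nat) tORK_L0 (@Bool.rec (fun _ => Nat) tORK_L1 tORK_L2 (Nat.ble (nat_lit 2) j)) (Nat.ble (nat_lit 1) j)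
noncomputable def tORK (i : Nat) : Nat := Nat.land (Nat.shiftRight (tORK_s0_3 (Nat.div i (nat_lit 133333))) (Nat.mul (nat_lit 6) (Nat.mod i (nat_lit 133333)))) (nat_lit 63)
noncomputable def tOPAR_s1_3 (j : Nat) : Nat := @Bool.rec (fun _ => Nat) tOPAR_L1 tOPAR_L2 (Nat.ble (nat_lit 2) j)
noncomputable def tOPAR_s4_6 (j : Nat) : Nat := @Bool.rec (fun _ => Nat) tOPAR_L4 tOPAR_L5 (Nat.ble (nat_lit 5) j)
noncomputable def tOPAR_s7_9 (j : Nat) : Nat := @Bool.rec (fun _ => Nat) tOPAR_L7 tOPAR_L8 (Nat.ble (nat_lit 8) j)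
noncomputable def tOPAR_s10_12 (j : Nat) : Nat := @Bool.rec (fun _ => Nat) tOPAR_L10 tOPAR_L11 (Nat.ble (nat_lit 11) j)
noncomputable def tOPAR_s0_12 (j : Nat) : Nat := @Bool.rec (fun _ => Nat) (@Bool.rec (fun _ => Nat) (@Bool.rec (fun _ => Nat) tOPAR_L0 (tOPAR_s1_3 j) (Nat.ble (nat_lit 1) j)) (@Bool.rec (fun _ => Nat) tOPAR_L3 (tOPAR_s4_6 j) (Nat.ble (nat_lit 4) j)) (Nat.ble (nat_lit 3) j)) (@Bool.rec (fun _ => Nat) (@Bool.rec (fun _ => Nat) tOPAR_L6 (tOPAR_s7_9 j) (Nat.ble (nat_lit 7) j)) (@Bool.rec (fun _ => Nat) tOPAR_L9 (tOPAR_s10_12 j) (Nat.ble (nat_lit 10) j)) (Nat.ble (nat_lit 9) j)) (Nat.ble (nat_lit 6) j)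
noncomputable def tOPAR (i : Nat) : Nat := Nat.land (Nat.shiftRight (tOPAR_s0_12 (Nat.div i (nat_lit 27586))) (Nat.mul (nat_lit 29) (Nat.mod i (nat_lit 27586)))) (nat_lit 536870911)
noncomputable def tROOT (i : Nat) : Nat := Nat.land (Nat.shiftRight tROOT_L0 (Nat.mul (nat_lit 3) i)) (nat_lit 7)
noncomputable def tJ_O_s3_5 (j : Nat) : Nat := @Bool.rec (fun _ => Nat) tJ_O_L3 tJ_O_L4 (Nat.ble (nat_lit 4) j)
noncomputable def tJ_O_s6_8 (j : Nat) : Nat := @Bool.rec (fun _ => Nat) tJ_O_L6 tJ_O_L7 (Nat.ble (nat_lit 7) j)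
noncomputable def tJ_O_s9_11 (j : Nat) : Nat := @Bool.rec (fun _ => Nat) tJ_O_L9 tJ_O_L10 (Nat.ble (nat_lit 10) j)
noncomputable def tJ_O_s0_11 (j : Nat) : Nat := @Bool.rec (fun _ => Nat) (@Bool.rec (fun _ => Nat) (@Bool.rec (fun _ => Nat) tJ_O_L0 tJ_O_L1 (Nat.ble (nat_lit 1) j)) (@Bool.rec (fun _ => Nat) tJ_O_L2 (tJ_O_s3_5 j) (Nat.ble (nat_lit 3) j)) (Nat.ble (nat_lit 2) j)) (@Bool.rec (fun _ => Nat) (@Bool.rec (fun _ => Nat) tJ_O_L5 (tJ_O_s6_8 j) (Nat.ble (nat_lit 6) j)) (@Bool.rec (fun _ => Nat) tJ_O_L8 (tJ_O_s9_11 j) (Nat.ble (nat_lit 9) j)) (Nat.ble (nat_lit 8) j)) (Nat.ble (nat_lit 5) j)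
noncomputable def tJ_O_s12_14 (j : Nat) : Nat := @Bool.rec (fun _ => Nat) tJ_O_L12 tJ_O_L13 (Nat.ble (nat_lit 13) j)
noncomputable def tJ_O_s15_17 (j : Nat) : Nat := @Bool.rec (fun _ => Nat) tJ_O_L15 tJ_O_L16 (Nat.ble (nat_lit 16) j)
noncomputable def tJ_O_s18_20 (j : Nat) : Nat := @Bool.rec (fun _ => Nat) tJ_O_L18 tJ_O_L19 (Nat.ble (nat_lit 19) j)
noncomputable def tJ_O_s21_23 (j : Nat) : Nat := @Bool.rec (fun _ => Nat) tJ_O_L21 tJ_O_L22 (Nat.ble (nat_lit 22) j)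
noncomputable def tJ_O_s11_23 (j : Nat) : Nat := @Bool.rec (fun _ => Nat) (@Bool.rec (fun _ => Nat) (@Bool.rec (fun _ => Nat) tJ_O_L11 (tJ_O_s12_14 j) (Nat.ble (nat_lit 12) j)) (@Bool.rec (fun _ => Nat) tJ_O_L14 (tJ_O_s15_17 j) (Nat.ble (nat_lit 15) j)) (Nat.ble (nat_lit 14) j)) (@Bool.rec (fun _ => Nat) (@Bool.rec (fun _ => Nat) tJ_O_L17 (tJ_O_s18_20 j) (Nat.ble (nat_lit 18) j)) (@Bool.rec (fun _ => Nat) tJ_O_L20 (tJ_O_s21_23 j) (Nat.ble (nat_lit 21) j)) (Nat.ble (nat_lit 20) j)) (Nat.ble (nat_lit 17) j)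
noncomputable def tJ_O_s24_26 (j : Nat) : Nat := @Bool.rec (fun _ => Nat) tJ_O_L24 tJ_O_L25 (Nat.ble (nat_lit 25) j)
noncomputable def tJ_O_s27_29 (j : Nat) : Nat := @Bool.rec (fun _ => Nat) tJ_O_L27 tJ_O_L28 (Nat.ble (nat_lit 28) j)
noncomputable def tJ_O_s30_32 (j : Nat) : Nat := @Bool.rec (fun _ => Nat) tJ_O_L30 tJ_O_L31 (Nat.ble (nat_lit 31) j)
noncomputable def tJ_O_s33_35 (j : Nat) : Nat := @Bool.rec (fun _ => Nat) tJ_O_L33 tJ_O_L34 (Nat.ble (nat_lit 34) j)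
noncomputable def tJ_O_s23_35 (j : Nat) : Nat := @Bool.rec (fun _ => Nat) (@Bool.rec (fun _ => Nat) (@Bool.rec (fun _ => Nat) tJ_O_L23 (tJ_O_s24_26 j) (Nat.ble (nat_lit 24) j)) (@Bool.rec (fun _ => Nat) tJ_O_L26 (tJ_O_s27_29 j) (Nat.ble (nat_lit 27) j)) (Nat.ble (nat_lit 26) j)) (@Bool.rec (fun _ => Nat) (@Bool.rec (fun _ => Nat) tJ_O_L29 (tJ_O_s30_32 j) (Nat.ble (nat_lit 30) j)) (@Bool.rec (fun _ => Nat) tJ_O_L32 (tJ_O_s33_35 j) (Nat.ble (nat_lit 33) j)) (Nat.ble (nat_lit 32) j)) (Nat.ble (nat_lit 29) j)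
noncomputable def tJ_O_s36_38 (j : Nat) : Nat := @Bool.rec (fun _ => Nat) tJ_O_L36 tJ_O_L37 (Nat.ble (nat_lit 37) j)
noncomputable def tJ_O_s39_41 (j : Nat) : Nat := @Bool.rec (fun _ => Nat) tJ_O_L39 tJ_O_L40 (Nat.ble (nat_lit 40) j)
noncomputable def tJ_O_s42_44 (j : Nat) : Nat := @Bool.rec (fun _ => Nat) tJ_O_L42 tJ_O_L43 (Nat.ble (nat_lit 43) j)
noncomputable def tJ_O_s45_47 (j : Nat) : Nat := @Bool.rec (fun _ => Nat) tJ_O_L45 tJ_O_L46 (Nat.ble (nat_lit 46) j)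
noncomputable def tJ_O_s35_47 (j : Nat) : Nat := @Bool.rec (fun _ => Nat) (@Bool.rec (fun _ => Nat) (@Bool.rec (fun _ => Nat) tJ_O_L35 (tJ_O_s36_38 j) (Nat.ble (nat_lit 36) j)) (@Bool.rec (fun _ => Nat) tJ_O_L38 (tJ_O_s39_41 j) (Nat.ble (nat_lit 39) j)) (Nat.ble (nat_lit 38) j)) (@Bool.rec (fun _ => Nat) (@Bool.rec (fun _ => Nat) tJ_O_L41 (tJ_O_s42_44 j) (Nat.ble (nat_lit 42) j)) (@Bool.rec (fun _ => Nat) tJ_O_L44 (tJ_O_s45_47 j) (Nat.ble (nat_lit 45) j)) (Nat.ble (nat_lit 44) j)) (Nat.ble (nat_lit 41) j)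
noncomputable def tJ_O_s50_52 (j : Nat) : Nat := @Bool.rec (fun _ => Nat) tJ_O_L50 tJ_O_L51 (Nat.ble (nat_lit 51) j)
noncomputable def tJ_O_s53_55 (j : Nat) : Nat := @Bool.rec (fun _ => Nat) tJ_O_L53 tJ_O_L54 (Nat.ble (nat_lit 54) j)
noncomputable def tJ_O_s56_58 (j : Nat) : Nat := @Bool.rec (fun _ => Nat) tJ_O_L56 tJ_O_L57 (Nat.ble (nat_lit 57) j)
noncomputable def tJ_O_s47_58 (j : Nat) : Nat := @Bool.rec (fun _ => Nat) (@Bool.rec (fun _ => Nat) (@Bool.rec (fun _ => Nat) tJ_O_L47 tJ_O_L48 (Nat.ble (nat_lit 48) j)) (@Bool.rec (fun _ => Nat) tJ_O_L49 (tJ_O_s50_52 j) (Nat.ble (nat_lit 50) j)) (Nat.ble (nat_lit 49) j)) (@Bool.rec (fun _ => Nat) (@Bool.rec (fun _ => Nat) tJ_O_L52 (tJ_O_s53_55 j) (Nat.ble (nat_lit 53) j)) (@Bool.rec (fun _ => Nat) tJ_O_L55 (tJ_O_s56_58 j) (Nat.ble (nat_lit 56) j)) (Nat.ble (nat_lit 55) j)) (Nat.ble (nat_lit 52) j)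
noncomputable def tJ_O_s59_61 (j : Nat) : Nat := @Bool.rec (fun _ => Nat) tJ_O_L59 tJ_O_L60 (Nat.ble (nat_lit 60) j)
noncomputable def tJ_O_s62_64 (j : Nat) : Nat := @Bool.rec (fun _ => Nat) tJ_O_L62 tJ_O_L63 (Nat.ble (nat_lit 63) j)
noncomputable def tJ_O_s65_67 (j : Nat) : Nat := @Bool.rec (fun _ => Nat) tJ_O_L65 tJ_O_L66 (Nat.ble (nat_lit 66) j)
noncomputable def tJ_O_s68_70 (j : Nat) : Nat := @Bool.rec (fun _ => Nat) tJ_O_L68 tJ_O_L69 (Nat.ble (nat_lit 69) j)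
noncomputable def tJ_O_s58_70 (j : Nat) : Nat := @Bool.rec (fun _ => Nat) (@Bool.rec (fun _ => Nat) (@Bool.rec (fun _ => Nat) tJ_O_L58 (tJ_O_s59_61 j) (Nat.ble (nat_lit 59) j)) (@Bool.rec (fun _ => Nat) tJ_O_L61 (tJ_O_s62_64 j) (Nat.ble (nat_lit 62) j)) (Nat.ble (nat_lit 61) j)) (@Bool.rec (fun _ => Nat) (@Bool.rec (fun _ => Nat) tJ_O_L64 (tJ_O_s65_67 j) (Nat.ble (nat_lit 65) j)) (@Bool.rec (fun _ => Nat) tJ_O_L67 (tJ_O_s68_70 j) (Nat.ble (nat_lit 68) j)) (Nat.ble (nat_lit 67) j)) (Nat.ble (nat_lit 64) j)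
noncomputable def tJ_O_s71_73 (j : Nat) : Nat := @Bool.rec (fun _ => Nat) tJ_O_L71 tJ_O_L72 (Nat.ble (nat_lit 72) j)
noncomputable def tJ_O_s74_76 (j : Nat) : Nat := @Bool.rec (fun _ => Nat) tJ_O_L74 tJ_O_L75 (Nat.ble (nat_lit 75) j)
noncomputable def tJ_O_s77_79 (j : Nat) : Nat := @Bool.rec (fun _ => Nat) tJ_O_L77 tJ_O_L78 (Nat.ble (nat_lit 78) j)
noncomputable def tJ_O_s80_82 (j : Nat) : Nat := @Bool.rec (fun _ => Nat) tJ_O_L80 tJ_O_L81 (Nat.ble (nat_lit 81) j)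
noncomputable def tJ_O_s70_82 (j : Nat) : Nat := @Bool.rec (fun _ => Nat) (@Bool.rec (fun _ => Nat) (@Bool.rec (fun _ => Nat) tJ_O_L70 (tJ_O_s71_73 j) (Nat.ble (nat_lit 71) j)) (@Bool.rec (fun _ => Nat) tJ_O_L73 (tJ_O_s74_76 j) (Nat.ble (nat_lit 74) j)) (Nat.ble (nat_lit 73) j)) (@Bool.rec (fun _ => Nat) (@Bool.rec (fun _ => Nat) tJ_O_L76 (tJ_O_s77_79 j) (Nat.ble (nat_lit 77) j)) (@Bool.rec (fun _ => Nat) tJ_O_L79 (tJ_O_s80_82 j) (Nat.ble (nat_lit 80) j)) (Nat.ble (nat_lit 79) j)) (Nat.ble (nat_lit 76) j)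
noncomputable def tJ_O_s83_85 (j : Nat) : Nat := @Bool.rec (fun _ => Nat) tJ_O_L83 tJ_O_L84 (Nat.ble (nat_lit 84) j)
noncomputable def tJ_O_s86_88 (j : Nat) : Nat := @Bool.rec (fun _ => Nat) tJ_O_L86 tJ_O_L87 (Nat.ble (nat_lit 87) j)
noncomputable def tJ_O_s89_91 (j : Nat) : Nat := @Bool.rec (fun _ => Nat) tJ_O_L89 tJ_O_L90 (Nat.ble (nat_lit 90) j)
noncomputable def tJ_O_s92_94 (j : Nat) : Nat := @Bool.rec (fun _ => Nat) tJ_O_L92 tJ_O_L93 (Nat.ble (nat_lit 93) j)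
noncomputable def tJ_O_s82_94 (j : Nat) : Nat := @Bool.rec (fun _ => Nat) (@Bool.rec (fun _ => Nat) (@Bool.rec (fun _ => Nat) tJ_O_L82 (tJ_O_s83_85 j) (Nat.ble (nat_lit 83) j)) (@Bool.rec (fun _ => Nat) tJ_O_L85 (tJ_O_s86_88 j) (Nat.ble (nat_lit 86) j)) (Nat.ble (nat_lit 85) j)) (@Bool.rec (fun _ => Nat) (@Bool.rec (fun _ => Nat) tJ_O_L88 (tJ_O_s89_91 j) (Nat.ble (nat_lit 89) j)) (@Bool.rec (fun _ => Nat) tJ_O_L91 (tJ_O_s92_94 j) (Nat.ble (nat_lit 92) j)) (Nat.ble (nat_lit 91) j)) (Nat.ble (nat_lit 88) j)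
noncomputable def tJ_O_s0_94 (j : Nat) : Nat := @Bool.rec (fun _ => Nat) (@Bool.rec (fun _ => Nat) (@Bool.rec (fun _ => Nat) (tJ_O_s0_11 j) (tJ_O_s11_23 j) (Nat.ble (nat_lit 11) j)) (@Bool.rec (fun _ => Nat) (tJ_O_s23_35 j) (tJ_O_s35_47 j) (Nat.ble (nat_lit 35) j)) (Nat.ble (nat_lit 23) j)) (@Bool.rec (fun _ => Nat) (@Bool.rec (fun _ => Nat) (tJ_O_s47_58 j) (tJ_O_s58_70 j) (Nat.ble (nat_lit 58) j)) (@Bool.rec (fun _ => Nat) (tJ_O_s70_82 j) (tJ_O_s82_94 j) (Nat.ble (nat_lit 82) j)) (Nat.ble (nat_lit 70) j)) (Nat.ble (nat_lit 47) j)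
noncomputable def tJ_O (i : Nat) : Nat := Nat.land (Nat.shiftRight (tJ_O_s0_94 (Nat.div i (nat_lit 42105))) (Nat.mul (nat_lit 19) (Nat.mod i (nat_lit 42105)))) (nat_lit 524287)
noncomputable def tJ_s0_3 (j : Nat) : Nat := @Bool.rec (fun _ => Nat) tJ_P0 (@Bool.rec (fun _ => Nat) tJ_P1 tJ_P2 (Nat.ble (nat_lit 2) j)) (Nat.ble (nat_lit 1) j)
noncomputable def tJ_s3_7 (j : Nat) : Nat := @Bool.rec (fun _ => Nat) (@Bool.rec (fun _ => Nat) tJ_P3 tJ_P4 (Nat.ble (nat_lit 4) j)) (@Bool.rec (fun _ => Nat) tJ_P5 tJ_P6 (Nat.ble (nat_lit 6) j)) (Nat.ble (nat_lit 5) j)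
noncomputable def tJ_s7_11 (j : Nat) : Nat := @Bool.rec (fun _ => Nat) (@Bool.rec (fun _ => Nat) tJ_P7 tJ_P8 (Nat.ble (nat_lit 8) j)) (@Bool.rec (fun _ => Nat) tJ_P9 tJ_P10 (Nat.ble (nat_lit 10) j)) (Nat.ble (nat_lit 9) j)
noncomputable def tJ_s11_15 (j : Nat) : Nat := @Bool.rec (fun _ => Nat) (@Bool.rec (fun _ => Nat) tJ_P11 tJ_P12 (Nat.ble (nat_lit 12) j)) (@Bool.rec (fun _ => Nat) tJ_P13 tJ_P14 (Nat.ble (nat_lit 14) j)) (Nat.ble (nat_lit 13) j)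
noncomputable def tJ_s15_18 (j : Nat) : Nat := @Bool.rec (fun _ => Nat) tJ_P15 (@Bool.rec (fun _ => Nat) tJ_P16 tJ_P17 (Nat.ble (nat_lit 17) j)) (Nat.ble (nat_lit 16) j)
noncomputable def tJ_s18_22 (j : Nat) : Nat := @Bool.rec (fun _ => Nat) (@Bool.rec (fun _ => Nat) tJ_P18 tJ_P19 (Nat.ble (nat_lit 19) j)) (@Bool.rec (fun _ => Nat) tJ_P20 tJ_P21 (Nat.ble (nat_lit 21) j)) (Nat.ble (nat_lit 20) j)
noncomputable def tJ_s22_26 (j : Nat) : Nat := @Bool.rec (fun _ => Nat) (@Bool.rec (fun _ => Nat) tJ_P22 tJ_P23 (Nat.ble (nat_lit 23) j)) (@Bool.rec (fun _ => Nat) tJ_P24 tJ_P25 (Nat.ble (nat_lit 25) j)) (Nat.ble (nat_lit 24) j)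
noncomputable def tJ_s26_30 (j : Nat) : Nat := @Bool.rec (fun _ => Nat) (@Bool.rec (fun _ => Nat) tJ_P26 tJ_P27 (Nat.ble (nat_lit 27) j)) (@Bool.rec (fun _ => Nat) tJ_P28 tJ_P29 (Nat.ble (nat_lit 29) j)) (Nat.ble (nat_lit 28) j)
noncomputable def tJ_s0_30 (j : Nat) : Nat := @Bool.rec (fun _ => Nat) (@Bool.rec (fun _ => Nat) (@Bool.rec (fun _ => Nat) (tJ_s0_3 j) (tJ_s3_7 j) (Nat.ble (nat_lit 3) j)) (@Bool.rec (fun _ => Nat) (tJ_s7_11 j) (tJ_s11_15 j) (Nat.ble (nat_lit 11) j)) (Nat.ble (nat_lit 7) j)) (@Bool.rec (fun _ => Nat) (@Bool.rec (fun _ => Nat) (tJ_s15_18 j) (tJ_s18_22 j) (Nat.ble (nat_lit 18) j)) (@Bool.rec (fun _ => Nat) (tJ_s22_26 j) (tJ_s26_30 j) (Nat.ble (nat_lit 26) j)) (Nat.ble (nat_lit 22) j)) (Nat.ble (nat_lit 15) j)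
noncomputable def tJ_s30_33 (j : Nat) : Nat := @Bool.rec (fun _ => Nat) tJ_P30 (@Bool.rec (fun _ => Nat) tJ_P31 tJ_P32 (Nat.ble (nat_lit 32) j)) (Nat.ble (nat_lit 31) j)
noncomputable def tJ_s33_37 (j : Nat) : Nat := @Bool.rec (fun _ => Nat) (@Bool.rec (fun _ => Nat) tJ_P33 tJ_P34 (Nat.ble (nat_lit 34) j)) (@Bool.rec (fun _ => Nat) tJ_P35 tJ_P36 (Nat.ble (nat_lit 36) j)) (Nat.ble (nat_lit 35) j)
noncomputable def tJ_s37_41 (j : Nat) : Nat := @Bool.rec (fun _ => Nat) (@Bool.rec (fun _ => Nat) tJ_P37 tJ_P38 (Nat.ble (nat_lit 38) j)) (@Bool.rec (fun _ => Nat) tJ_P39 tJ_P40 (Nat.ble (nat_lit 40) j)) (Nat.ble (nat_lit 39) j)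
noncomputable def tJ_s41_45 (j : Nat) : Nat := @Bool.rec (fun _ => Nat) (@Bool.rec (fun _ => Nat) tJ_P41 tJ_P42 (Nat.ble (nat_lit 42) j)) (@Bool.rec (fun _ => Nat) tJ_P43 tJ_P44 (Nat.ble (nat_lit 44) j)) (Nat.ble (nat_lit 43) j)
noncomputable def tJ_s45_48 (j : Nat) : Nat := @Bool.rec (fun _ => Nat) tJ_P45 (@Bool.rec (fun _ => Nat) tJ_P46 tJ_P47 (Nat.ble (nat_lit 47) j)) (Nat.ble (nat_lit 46) j)
noncomputable def tJ_s48_52 (j : Nat) : Nat := @Bool.rec (fun _ => Nat) (@Bool.rec (fun _ => Nat) tJ_P48 tJ_P49 (Nat.ble (nat_lit 49) j)) (@Bool.rec (fun _ => Nat) tJ_P50 tJ_P51 (Nat.ble (nat_lit 51) j)) (Nat.ble (nat_lit 50) j)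
noncomputable def tJ_s52_56 (j : Nat) : Nat := @Bool.rec (fun _ => Nat) (@Bool.rec (fun _ => Nat) tJ_P52 tJ_P53 (Nat.ble (nat_lit 53) j)) (@Bool.rec (fun _ => Nat) tJ_P54 tJ_P55 (Nat.ble (nat_lit 55) j)) (Nat.ble (nat_lit 54) j)
noncomputable def tJ_s56_60 (j : Nat) : Nat := @Bool.rec (fun _ => Nat) (@Bool.rec (fun _ => Nat) tJ_P56 tJ_P57 (Nat.ble (nat_lit 57) j)) (@Bool.rec (fun _ => Nat) tJ_P58 tJ_P59 (Nat.ble (nat_lit 59) j)) (Nat.ble (nat_lit 58) j)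
noncomputable def tJ_s30_60 (j : Nat) : Nat := @Bool.rec (fun _ => Nat) (@Bool.rec (fun _ => Nat) (@Bool.rec (fun _ => Nat) (tJ_s30_33 j) (tJ_s33_37 j) (Nat.ble (nat_lit 33) j)) (@Bool.rec (fun _ => Nat) (tJ_s37_41 j) (tJ_s41_45 j) (Nat.ble (nat_lit 41) j)) (Nat.ble (nat_lit 37) j)) (@Bool.rec (fun _ => Nat) (@Bool.rec (fun _ => Nat) (tJ_s45_48 j) (tJ_s48_52 j) (Nat.ble (nat_lit 48) j)) (@Bool.rec (fun _ => Nat) (tJ_s52_56 j) (tJ_s56_60 j) (Nat.ble (nat_lit 56) j)) (Nat.ble (nat_lit 52) j)) (Nat.ble (nat_lit 45) j)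
noncomputable def tJ_s60_63 (j : Nat) : Nat := @Bool.rec (fun _ => Nat) tJ_P60 (@Bool.rec (fun _ => Nat) tJ_P61 tJ_P62 (Nat.ble (nat_lit 62) j)) (Nat.ble (nat_lit 61) j)
noncomputable def tJ_s63_67 (j : Nat) : Nat := @Bool.rec (fun _ => Nat) (@Bool.rec (fun _ => Nat) tJ_P63 tJ_P64 (Nat.ble (nat_lit 64) j)) (@Bool.rec (fun _ => Nat) tJ_P65 tJ_P66 (Nat.ble (nat_lit 66) j)) (Nat.ble (nat_lit 65) j)
noncomputable def tJ_s67_71 (j : Nat) : Nat := @Bool.rec (fun _ => Nat) (@Bool.rec (fun _ => Nat) tJ_P67 tJ_P68 (Nat.ble (nat_lit 68) j)) (@Bool.rec (fun _ => Nat) tJ_P69 tJ_P70 (Nat.ble (nat_lit 70) j)) (Nat.ble (nat_lit 69) j)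
noncomputable def tJ_s71_75 (j : Nat) : Nat := @Bool.rec (fun _ => Nat) (@Bool.rec (fun _ => Nat) tJ_P71 tJ_P72 (Nat.ble (nat_lit 72) j)) (@Bool.rec (fun _ => Nat) tJ_P73 tJ_P74 (Nat.ble (nat_lit 74) j)) (Nat.ble (nat_lit 73) j)
noncomputable def tJ_s75_78 (j : Nat) : Nat := @Bool.rec (fun _ => Nat) tJ_P75 (@Bool.rec (fun _ => Nat) tJ_P76 tJ_P77 (Nat.ble (nat_lit 77) j)) (Nat.ble (nat_lit 76) j)
noncomputable def tJ_s78_82 (j : Nat) : Nat := @Bool.rec (fun _ => Nat) (@Bool.rec (fun _ => Nat) tJ_P78 tJ_P79 (Nat.ble (nat_lit 79) j)) (@Bool.rec (fun _ => Nat) tJ_P80 tJ_P81 (Nat.ble (nat_lit 81) j)) (Nat.ble (nat_lit 80) j)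
noncomputable def tJ_s82_86 (j : Nat) : Nat := @Bool.rec (fun _ => Nat) (@Bool.rec (fun _ => Nat) tJ_P82 tJ_P83 (Nat.ble (nat_lit 83) j)) (@Bool.rec (fun _ => Nat) tJ_P84 tJ_P85 (Nat.ble (nat_lit 85) j)) (Nat.ble (nat_lit 84) j)
noncomputable def tJ_s86_90 (j : Nat) : Nat := @Bool.rec (fun _ => Nat) (@Bool.rec (fun _ => Nat) tJ_P86 tJ_P87 (Nat.ble (nat_lit 87) j)) (@Bool.rec (fun _ => Nat) tJ_P88 tJ_P89 (Nat.ble (nat_lit 89) j)) (Nat.ble (nat_lit 88) j)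
noncomputable def tJ_s60_90 (j : Nat) : Nat := @Bool.rec (fun _ => Nat) (@Bool.rec (fun _ => Nat) (@Bool.rec (fun _ => Nat) (tJ_s60_63 j) (tJ_s63_67 j) (Nat.ble (nat_lit 63) j)) (@Bool.rec (fun _ => Nat) (tJ_s67_71 j) (tJ_s71_75 j) (Nat.ble (nat_lit 71) j)) (Nat.ble (nat_lit 67) j)) (@Bool.rec (fun _ => Nat) (@Bool.rec (fun _ => Nat) (tJ_s75_78 j) (tJ_s78_82 j) (Nat.ble (nat_lit 78) j)) (@Bool.rec (fun _ => Nat) (tJ_s82_86 j) (tJ_s86_90 j) (Nat.ble (nat_lit 86) j)) (Nat.ble (nat_lit 82) j)) (Nat.ble (nat_lit 75) j)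
noncomputable def tJ_s90_93 (j : Nat) : Nat := @Bool.rec (fun _ => Nat) tJ_P90 (@Bool.rec (fun _ => Nat) tJ_P91 tJ_P92 (Nat.ble (nat_lit 92) j)) (Nat.ble (nat_lit 91) j)
noncomputable def tJ_s93_97 (j : Nat) : Nat := @Bool.rec (fun _ => Nat) (@Bool.rec (fun _ => Nat) tJ_P93 tJ_P94 (Nat.ble (nat_lit 94) j)) (@Bool.rec (fun _ => Nat) tJ_P95 tJ_P96 (Nat.ble (nat_lit 96) j)) (Nat.ble (nat_lit 95) j)
noncomputable def tJ_s97_101 (j : Nat) : Nat := @Bool.rec (fun _ => Nat) (@Bool.rec (fun _ => Nat) tJ_P97 tJ_P98 (Nat.ble (nat_lit 98) j)) (@Bool.rec (fun _ => Nat) tJ_P99 tJ_P100 (Nat.ble (nat_lit 100) j)) (Nat.ble (nat_lit 99) j)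
noncomputable def tJ_s101_105 (j : Nat) : Nat := @Bool.rec (fun _ => Nat) (@Bool.rec (fun _ => Nat) tJ_P101 tJ_P102 (Nat.ble (nat_lit 102) j)) (@Bool.rec (fun _ => Nat) tJ_P103 tJ_P104 (Nat.ble (nat_lit 104) j)) (Nat.ble (nat_lit 103) j)
noncomputable def tJ_s105_108 (j : Nat) : Nat := @Bool.rec (fun _ => Nat) tJ_P105 (@Bool.rec (fun _ => Nat) tJ_P106 tJ_P107 (Nat.ble (nat_lit 107) j)) (Nat.ble (nat_lit 106) j)
noncomputable def tJ_s108_112 (j : Nat) : Nat := @Bool.rec (fun _ => Nat) (@Bool.rec (fun _ => Nat) tJ_P108 tJ_P109 (Nat.ble (nat_lit 109) j)) (@Bool.rec (fun _ => Nat) tJ_P110 tJ_P111 (Nat.ble (nat_lit 111) j)) (Nat.ble (nat_lit 110) j)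
noncomputable def tJ_s112_116 (j : Nat) : Nat := @Bool.rec (fun _ => Nat) (@Bool.rec (fun _ => Nat) tJ_P112 tJ_P113 (Nat.ble (nat_lit 113) j)) (@Bool.rec (fun _ => Nat) tJ_P114 tJ_P115 (Nat.ble (nat_lit 115) j)) (Nat.ble (nat_lit 114) j)
noncomputable def tJ_s116_120 (j : Nat) : Nat := @Bool.rec (fun _ => Nat) (@Bool.rec (fun _ => Nat) tJ_P116 tJ_P117 (Nat.ble (nat_lit 117) j)) (@Bool.rec (fun _ => Nat) tJ_P118 tJ_P119 (Nat.ble (nat_lit 119) j)) (Nat.ble (nat_lit 118) j)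
noncomputable def tJ_s90_120 (j : Nat) : Nat := @Bool.rec (fun _ => Nat) (@Bool.rec (fun _ => Nat) (@Bool.rec (fun _ => Nat) (tJ_s90_93 j) (tJ_s93_97 j) (Nat.ble (nat_lit 93) j)) (@Bool.rec (fun _ => Nat) (tJ_s97_101 j) (tJ_s101_105 j) (Nat.ble (nat_lit 101) j)) (Nat.ble (nat_lit 97) j)) (@Bool.rec (fun _ => Nat) (@Bool.rec (fun _ => Nat) (tJ_s105_108 j) (tJ_s108_112 j) (Nat.ble (nat_lit 108) j)) (@Bool.rec (fun _ => Nat) (tJ_s112_116 j) (tJ_s116_120 j) (Nat.ble (nat_lit 116) j)) (Nat.ble (nat_lit 112) j)) (Nat.ble (nat_lit 105) j)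
noncomputable def tJ_s120_123 (j : Nat) : Nat := @Bool.rec (fun _ => Nat) tJ_P120 (@Bool.rec (fun _ => Nat) tJ_P121 tJ_P122 (Nat.ble (nat_lit 122) j)) (Nat.ble (nat_lit 121) j)
noncomputable def tJ_s123_127 (j : Nat) : Nat := @Bool.rec (fun _ => Nat) (@Bool.rec (fun _ => Nat) tJ_P123 tJ_P124 (Nat.ble (nat_lit 124) j)) (@Bool.rec (fun _ => Nat) tJ_P125 tJ_P126 (Nat.ble (nat_lit 126) j)) (Nat.ble (nat_lit 125) j)
noncomputable def tJ_s127_131 (j : Nat) : Nat := @Bool.rec (fun _ => Nat) (@Bool.rec (fun _ => Nat) tJ_P127 tJ_P128 (Nat.ble (nat_lit 128) j)) (@Bool.rec (fun _ => Nat) tJ_P129 tJ_P130 (Nat.ble (nat_lit 130) j)) (Nat.ble (nat_lit 129) j)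
noncomputable def tJ_s131_135 (j : Nat) : Nat := @Bool.rec (fun _ => Nat) (@Bool.rec (fun _ => Nat) tJ_P131 tJ_P132 (Nat.ble (nat_lit 132) j)) (@Bool.rec (fun _ => Nat) tJ_P133 tJ_P134 (Nat.ble (nat_lit 134) j)) (Nat.ble (nat_lit 133) j)
noncomputable def tJ_s135_138 (j : Nat) : Nat := @Bool.rec (fun _ => Nat) tJ_P135 (@Bool.rec (fun _ => Nat) tJ_P136 tJ_P137 (Nat.ble (nat_lit 137) j)) (Nat.ble (nat_lit 136) j)
noncomputable def tJ_s138_142 (j : Nat) : Nat := @Bool.rec (fun _ => Nat) (@Bool.rec (fun _ => Nat) tJ_P138 tJ_P139 (Nat.ble (nat_lit 139) j)) (@Bool.rec (fun _ => Nat) tJ_P140 tJ_P141 (Nat.ble (nat_lit 141) j)) (Nat.ble (nat_lit 140) j)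
noncomputable def tJ_s142_146 (j : Nat) : Nat := @Bool.rec (fun _ => Nat) (@Bool.rec (fun _ => Nat) tJ_P142 tJ_P143 (Nat.ble (nat_lit 143) j)) (@Bool.rec (fun _ => Nat) tJ_P144 tJ_P145 (Nat.ble (nat_lit 145) j)) (Nat.ble (nat_lit 144) j)
noncomputable def tJ_s146_150 (j : Nat) : Nat := @Bool.rec (fun _ => Nat) (@Bool.rec (fun _ => Nat) tJ_P146 tJ_P147 (Nat.ble (nat_lit 147) j)) (@Bool.rec (fun _ => Nat) tJ_P148 tJ_P149 (Nat.ble (nat_lit 149) j)) (Nat.ble (nat_lit 148) j)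
noncomputable def tJ_s120_150 (j : Nat) : Nat := @Bool.rec (fun _ => Nat) (@Bool.rec (fun _ => Nat) (@Bool.rec (fun _ => Nat) (tJ_s120_123 j) (tJ_s123_127 j) (Nat.ble (nat_lit 123) j)) (@Bool.rec (fun _ => Nat) (tJ_s127_131 j) (tJ_s131_135 j) (Nat.ble (nat_lit 131) j)) (Nat.ble (nat_lit 127) j)) (@Bool.rec (fun _ => Nat) (@Bool.rec (fun _ => Nat) (tJ_s135_138 j) (tJ_s138_142 j) (Nat.ble (nat_lit 138) j)) (@Bool.rec (fun _ => Nat) (tJ_s142_146 j) (tJ_s146_150 j) (Nat.ble (nat_lit 146) j)) (Nat.ble (nat_lit 142) j)) (Nat.ble (nat_lit 135) j)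
noncomputable def tJ_s150_153 (j : Nat) : Nat := @Bool.rec (fun _ => Nat) tJ_P150 (@Bool.rec (fun _ => Nat) tJ_P151 tJ_P152 (Nat.ble (nat_lit 152) j)) (Nat.ble (nat_lit 151) j)
noncomputable def tJ_s153_157 (j : Nat) : Nat := @Bool.rec (fun _ => Nat) (@Bool.rec (fun _ => Nat) tJ_P153 tJ_P154 (Nat.ble (nat_lit 154) j)) (@Bool.rec (fun _ => Nat) tJ_P155 tJ_P156 (Nat.ble (nat_lit 156) j)) (Nat.ble (nat_lit 155) j)
noncomputable def tJ_s157_161 (j : Nat) : Nat := @Bool.rec (fun _ => Nat) (@Bool.rec (fun _ => Nat) tJ_P157 tJ_P158 (Nat.ble (nat_lit 158) j)) (@Bool.rec (fun _ => Nat) tJ_P159 tJ_P160 (Nat.ble (nat_lit 160) j)) (Nat.ble (nat_lit 159) j)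
noncomputable def tJ_s161_165 (j : Nat) : Nat := @Bool.rec (fun _ => Nat) (@Bool.rec (fun _ => Nat) tJ_P161 tJ_P162 (Nat.ble (nat_lit 162) j)) (@Bool.rec (fun _ => Nat) tJ_P163 tJ_P164 (Nat.ble (nat_lit 164) j)) (Nat.ble (nat_lit 163) j)
noncomputable def tJ_s165_168 (j : Nat) : Nat := @Bool.rec (fun _ => Nat) tJ_P165 (@Bool.rec (fun _ => Nat) tJ_P166 tJ_P167 (Nat.ble (nat_lit 167) j)) (Nat.ble (nat_lit 166) j)
noncomputable def tJ_s168_172 (j : Nat) : Nat := @Bool.rec (fun _ => Nat) (@Bool.rec (fun _ => Nat) tJ_P168 tJ_P169 (Nat.ble (nat_lit 169) j)) (@Bool.rec (fun _ => Nat) tJ_P170 tJ_P171 (Nat.ble (nat_lit 171) j)) (Nat.ble (nat_lit 170) j)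
noncomputable def tJ_s172_176 (j : Nat) : Nat := @Bool.rec (fun _ => Nat) (@Bool.rec (fun _ => Nat) tJ_P172 tJ_P173 (Nat.ble (nat_lit 173) j)) (@Bool.rec (fun _ => Nat) tJ_P174 tJ_P175 (Nat.ble (nat_lit 175) j)) (Nat.ble (nat_lit 174) j)
noncomputable def tJ_s176_180 (j : Nat) : Nat := @Bool.rec (fun _ => Nat) (@Bool.rec (fun _ => Nat) tJ_P176 tJ_P177 (Nat.ble (nat_lit 177) j)) (@Bool.rec (fun _ => Nat) tJ_P178 tJ_P179 (Nat.ble (nat_lit 179) j)) (Nat.ble (nat_lit 178) j)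
noncomputable def tJ_s150_180 (j : Nat) : Nat := @Bool.rec (fun _ => Nat) (@Bool.rec (fun _ => Nat) (@Bool.rec (fun _ => Nat) (tJ_s150_153 j) (tJ_s153_157 j) (Nat.ble (nat_lit 153) j)) (@Bool.rec (fun _ => Nat) (tJ_s157_161 j) (tJ_s161_165 j) (Nat.ble (nat_lit 161) j)) (Nat.ble (nat_lit 157) j)) (@Bool.rec (fun _ => Nat) (@Bool.rec (fun _ => Nat) (tJ_s165_168 j) (tJ_s168_172 j) (Nat.ble (nat_lit 168) j)) (@Bool.rec (fun _ => Nat) (tJ_s172_176 j) (tJ_s176_180 j) (Nat.ble (nat_lit 176) j)) (Nat.ble (nat_lit 172) j)) (Nat.ble (nat_lit 165) j)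
noncomputable def tJ_s180_183 (j : Nat) : Nat := @Bool.rec (fun _ => Nat) tJ_P180 (@Bool.rec (fun _ => Nat) tJ_P181 tJ_P182 (Nat.ble (nat_lit 182) j)) (Nat.ble (nat_lit 181) j)
noncomputable def tJ_s183_187 (j : Nat) : Nat := @Bool.rec (fun _ => Nat) (@Bool.rec (fun _ => Nat) tJ_P183 tJ_P184 (Nat.ble (nat_lit 184) j)) (@Bool.rec (fun _ => Nat) tJ_P185 tJ_P186 (Nat.ble (nat_lit 186) j)) (Nat.ble (nat_lit 185) j)
noncomputable def tJ_s187_191 (j : Nat) : Nat := @Bool.rec (fun _ => Nat) (@Bool.rec (fun _ => Nat) tJ_P187 tJ_P188 (Nat.ble (nat_lit 188) j)) (@Bool.rec (fun _ => Nat) tJ_P189 tJ_P190 (Nat.ble (nat_lit 190) j)) (Nat.ble (nat_lit 189) j)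
noncomputable def tJ_s191_195 (j : Nat) : Nat := @Bool.rec (fun _ => Nat) (@Bool.rec (fun _ => Nat) tJ_P191 tJ_P192 (Nat.ble (nat_lit 192) j)) (@Bool.rec (fun _ => Nat) tJ_P193 tJ_P194 (Nat.ble (nat_lit 194) j)) (Nat.ble (nat_lit 193) j)
noncomputable def tJ_s195_198 (j : Nat) : Nat := @Bool.rec (fun _ => Nat) tJ_P195 (@Bool.rec (fun _ => Nat) tJ_P196 tJ_P197 (Nat.ble (nat_lit 197) j)) (Nat.ble (nat_lit 196) j)
noncomputable def tJ_s198_202 (j : Nat) : Nat := @Bool.rec (fun _ => Nat) (@Bool.rec (fun _ => Nat) tJ_P198 tJ_P199 (Nat.ble (nat_lit 199) j)) (@Bool.rec (fun _ => Nat) tJ_P200 tJ_P201 (Nat.ble (nat_lit 201) j)) (Nat.ble (nat_lit 200) j)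
noncomputable def tJ_s202_206 (j : Nat) : Nat := @Bool.rec (fun _ => Nat) (@Bool.rec (fun _ => Nat) tJ_P202 tJ_P203 (Nat.ble (nat_lit 203) j)) (@Bool.rec (fun _ => Nat) tJ_P204 tJ_P205 (Nat.ble (nat_lit 205) j)) (Nat.ble (nat_lit 204) j)
noncomputable def tJ_s206_210 (j : Nat) : Nat := @Bool.rec (fun _ => Nat) (@Bool.rec (fun _ => Nat) tJ_P206 tJ_P207 (Nat.ble (nat_lit 207) j)) (@Bool.rec (fun _ => Nat) tJ_P208 tJ_P209 (Nat.ble (nat_lit 209) j)) (Nat.ble (nat_lit 208) j)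
noncomputable def tJ_s180_210 (j : Nat) : Nat := @Bool.rec (fun _ => Nat) (@Bool.rec (fun _ => Nat) (@Bool.rec (fun _ => Nat) (tJ_s180_183 j) (tJ_s183_187 j) (Nat.ble (nat_lit 183) j)) (@Bool.rec (fun _ => Nat) (tJ_s187_191 j) (tJ_s191_195 j) (Nat.ble (nat_lit 191) j)) (Nat.ble (nat_lit 187) j)) (@Bool.rec (fun _ => Nat) (@Bool.rec (fun _ => Nat) (tJ_s195_198 j) (tJ_s198_202 j) (Nat.ble (nat_lit 198) j)) (@Bool.rec (fun _ => Nat) (tJ_s202_206 j) (tJ_s206_210 j) (Nat.ble (nat_lit 206) j)) (Nat.ble (nat_lit 202) j)) (Nat.ble (nat_lit 195) j)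
noncomputable def tJ_s210_213 (j : Nat) : Nat := @Bool.rec (fun _ => Nat) tJ_P210 (@Bool.rec (fun _ => Nat) tJ_P211 tJ_P212 (Nat.ble (nat_lit 212) j)) (Nat.ble (nat_lit 211) j)
noncomputable def tJ_s213_217 (j : Nat) : Nat := @Bool.rec (fun _ => Nat) (@Bool.rec (fun _ => Nat) tJ_P213 tJ_P214 (Nat.ble (nat_lit 214) j)) (@Bool.rec (fun _ => Nat) tJ_P215 tJ_P216 (Nat.ble (nat_lit 216) j)) (Nat.ble (nat_lit 215) j)
noncomputable def tJ_s217_221 (j : Nat) : Nat := @Bool.rec (fun _ => Nat) (@Bool.rec (fun _ => Nat) tJ_P217 tJ_P218 (Nat.ble (nat_lit 218) j)) (@Bool.rec (fun _ => Nat) tJ_P219 tJ_P220 (Nat.ble (nat_lit 220) j)) (Nat.ble (nat_lit 219) j)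
noncomputable def tJ_s221_225 (j : Nat) : Nat := @Bool.rec (fun _ => Nat) (@Bool.rec (fun _ => Nat) tJ_P221 tJ_P222 (Nat.ble (nat_lit 222) j)) (@Bool.rec (fun _ => Nat) tJ_P223 tJ_P224 (Nat.ble (nat_lit 224) j)) (Nat.ble (nat_lit 223) j)
noncomputable def tJ_s225_228 (j : Nat) : Nat := @Bool.rec (fun _ => Nat) tJ_P225 (@Bool.rec (fun _ => Nat) tJ_P226 tJ_P227 (Nat.ble (nat_lit 227) j)) (Nat.ble (nat_lit 226) j)
noncomputable def tJ_s228_232 (j : Nat) : Nat := @Bool.rec (fun _ => Nat) (@Bool.rec (fun _ => Nat) tJ_P228 tJ_P229 (Nat.ble (nat_lit 229) j)) (@Bool.rec (fun _ => Nat) tJ_P230 tJ_P231 (Nat.ble (nat_lit 231) j)) (Nat.ble (nat_lit 230) j)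
noncomputable def tJ_s232_236 (j : Nat) : Nat := @Bool.rec (fun _ => Nat) (@Bool.rec (fun _ => Nat) tJ_P232 tJ_P233 (Nat.ble (nat_lit 233) j)) (@Bool.rec (fun _ => Nat) tJ_P234 tJ_P235 (Nat.ble (nat_lit 235) j)) (Nat.ble (nat_lit 234) j)
noncomputable def tJ_s236_240 (j : Nat) : Nat := @Bool.rec (fun _ => Nat) (@Bool.rec (fun _ => Nat) tJ_P236 tJ_P237 (Nat.ble (nat_lit 237) j)) (@Bool.rec (fun _ => Nat) tJ_P238 tJ_P239 (Nat.ble (nat_lit 239) j)) (Nat.ble (nat_lit 238) j)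
noncomputable def tJ_s210_240 (j : Nat) : Nat := @Bool.rec (fun _ => Nat) (@Bool.rec (fun _ => Nat) (@Bool.rec (fun _ => Nat) (tJ_s210_213 j) (tJ_s213_217 j) (Nat.ble (nat_lit 213) j)) (@Bool.rec (fun _ => Nat) (tJ_s217_221 j) (tJ_s221_225 j) (Nat.ble (nat_lit 221) j)) (Nat.ble (nat_lit 217) j)) (@Bool.rec (fun _ => Nat) (@Bool.rec (fun _ => Nat) (tJ_s225_228 j) (tJ_s228_232 j) (Nat.ble (nat_lit 228) j)) (@Bool.rec (fun _ => Nat) (tJ_s232_236 j) (tJ_s236_240 j) (Nat.ble (nat_lit 236) j)) (Nat.ble (nat_lit 232) j)) (Nat.ble (nat_lit 225) j)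
noncomputable def tJ_s0_240 (j : Nat) : Nat := @Bool.rec (fun _ => Nat) (@Bool.rec (fun _ => Nat) (@Bool.rec (fun _ => Nat) (tJ_s0_30 j) (tJ_s30_60 j) (Nat.ble (nat_lit 30) j)) (@Bool.rec (fun _ => Nat) (tJ_s60_90 j) (tJ_s90_120 j) (Nat.ble (nat_lit 90) j)) (Nat.ble (nat_lit 60) j)) (@Bool.rec (fun _ => Nat) (@Bool.rec (fun _ => Nat) (tJ_s120_150 j) (tJ_s150_180 j) (Nat.ble (nat_lit 150) j)) (@Bool.rec (fun _ => Nat) (tJ_s180_210 j) (tJ_s210_240 j) (Nat.ble (nat_lit 210) j)) (Nat.ble (nat_lit 180) j)) (Nat.ble (nat_lit 120) j)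
noncomputable def tJ_s240_243 (j : Nat) : Nat := @Bool.rec (fun _ => Nat) tJ_P240 (@Bool.rec (fun _ => Nat) tJ_P241 tJ_P242 (Nat.ble (nat_lit 242) j)) (Nat.ble (nat_lit 241) j)
noncomputable def tJ_s243_247 (j : Nat) : Nat := @Bool.rec (fun _ => Nat) (@Bool.rec (fun _ => Nat) tJ_P243 tJ_P244 (Nat.ble (nat_lit 244) j)) (@Bool.rec (fun _ => Nat) tJ_P245 tJ_P246 (Nat.ble (nat_lit 246) j)) (Nat.ble (nat_lit 245) j)
noncomputable def tJ_s247_251 (j : Nat) : Nat := @Bool.rec (fun _ => Nat) (@Bool.rec (fun _ => Nat) tJ_P247 tJ_P248 (Nat.ble (nat_lit 248) j)) (@Bool.rec (fun _ => Nat) tJ_P249 tJ_P250 (Nat.ble (nat_lit 250) j)) (Nat.ble (nat_lit 249) j)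
noncomputable def tJ_s251_255 (j : Nat) : Nat := @Bool.rec (fun _ => Nat) (@Bool.rec (fun _ => Nat) tJ_P251 tJ_P252 (Nat.ble (nat_lit 252) j)) (@Bool.rec (fun _ => Nat) tJ_P253 tJ_P254 (Nat.ble (nat_lit 254) j)) (Nat.ble (nat_lit 253) j)
noncomputable def tJ_s255_258 (j : Nat) : Nat := @Bool.rec (fun _ => Nat) tJ_P255 (@Bool.rec (fun _ => Nat) tJ_P256 tJ_P257 (Nat.ble (nat_lit 257) j)) (Nat.ble (nat_lit 256) j)
noncomputable def tJ_s258_262 (j : Nat) : Nat := @Bool.rec (fun _ => Nat) (@Bool.rec (fun _ => Nat) tJ_P258 tJ_P259 (Nat.ble (nat_lit 259) j)) (@Bool.rec (fun _ => Nat) tJ_P260 tJ_P261 (Nat.ble (nat_lit 261) j)) (Nat.ble (nat_lit 260) j)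
noncomputable def tJ_s262_266 (j : Nat) : Nat := @Bool.rec (fun _ => Nat) (@Bool.rec (fun _ => Nat) tJ_P262 tJ_P263 (Nat.ble (nat_lit 263) j)) (@Bool.rec (fun _ => Nat) tJ_P264 tJ_P265 (Nat.ble (nat_lit 265) j)) (Nat.ble (nat_lit 264) j)
noncomputable def tJ_s266_270 (j : Nat) : Nat := @Bool.rec (fun _ => Nat) (@Bool.rec (fun _ => Nat) tJ_P266 tJ_P267 (Nat.ble (nat_lit 267) j)) (@Bool.rec (fun _ => Nat) tJ_P268 tJ_P269 (Nat.ble (nat_lit 269) j)) (Nat.ble (nat_lit 268) j)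
noncomputable def tJ_s240_270 (j : Nat) : Nat := @Bool.rec (fun _ => Nat) (@Bool.rec (fun _ => Nat) (@Bool.rec (fun _ => Nat) (tJ_s240_243 j) (tJ_s243_247 j) (Nat.ble (nat_lit 243) j)) (@Bool.rec (fun _ => Nat) (tJ_s247_251 j) (tJ_s251_255 j) (Nat.ble (nat_lit 251) j)) (Nat.ble (nat_lit 247) j)) (@Bool.rec (fun _ => Nat) (@Bool.rec (fun _ => Nat) (tJ_s255_258 j) (tJ_s258_262 j) (Nat.ble (nat_lit 258) j)) (@Bool.rec (fun _ => Nat) (tJ_s262_266 j) (tJ_s266_270 j) (Nat.ble (nat_lit 266) j)) (Nat.ble (nat_lit 262) j)) (Nat.ble (nat_lit 255) j)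
noncomputable def tJ_s270_273 (j : Nat) : Nat := @Bool.rec (fun _ => Nat) tJ_P270 (@Bool.rec (fun _ => Nat) tJ_P271 tJ_P272 (Nat.ble (nat_lit 272) j)) (Nat.ble (nat_lit 271) j)
noncomputable def tJ_s273_277 (j : Nat) : Nat := @Bool.rec (fun _ => Nat) (@Bool.rec (fun _ => Nat) tJ_P273 tJ_P274 (Nat.ble (nat_lit 274) j)) (@Bool.rec (fun _ => Nat) tJ_P275 tJ_P276 (Nat.ble (nat_lit 276) j)) (Nat.ble (nat_lit 275) j)
noncomputable def tJ_s277_281 (j : Nat) : Nat := @Bool.rec (fun _ => Nat) (@Bool.rec (fun _ => Nat) tJ_P277 tJ_P278 (Nat.ble (nat_lit 278) j)) (@Bool.rec (fun _ => Nat) tJ_P279 tJ_P280 (Nat.ble (nat_lit 280) j)) (Nat.ble (nat_lit 279) j)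
noncomputable def tJ_s281_285 (j : Nat) : Nat := @Bool.rec (fun _ => Nat) (@Bool.rec (fun _ => Nat) tJ_P281 tJ_P282 (Nat.ble (nat_lit 282) j)) (@Bool.rec (fun _ => Nat) tJ_P283 tJ_P284 (Nat.ble (nat_lit 284) j)) (Nat.ble (nat_lit 283) j)
noncomputable def tJ_s285_288 (j : Nat) : Nat := @Bool.rec (fun _ => Nat) tJ_P285 (@Bool.rec (fun _ => Nat) tJ_P286 tJ_P287 (Nat.ble (nat_lit 287) j)) (Nat.ble (nat_lit 286) j)
noncomputable def tJ_s288_292 (j : Nat) : Nat := @Bool.rec (fun _ => Nat) (@Bool.rec (fun _ => Nat) tJ_P288 tJ_P289 (Nat.ble (nat_lit 289) j)) (@Bool.rec (fun _ => Nat) tJ_P290 tJ_P291 (Nat.ble (nat_lit 291) j)) (Nat.ble (nat_lit 290) j)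
noncomputable def tJ_s292_296 (j : Nat) : Nat := @Bool.rec (fun _ => Nat) (@Bool.rec (fun _ => Nat) tJ_P292 tJ_P293 (Nat.ble (nat_lit 293) j)) (@Bool.rec (fun _ => Nat) tJ_P294 tJ_P295 (Nat.ble (nat_lit 295) j)) (Nat.ble (nat_lit 294) j)
noncomputable def tJ_s296_300 (j : Nat) : Nat := @Bool.rec (fun _ => Nat) (@Bool.rec (fun _ => Nat) tJ_P296 tJ_P297 (Nat.ble (nat_lit 297) j)) (@Bool.rec (fun _ => Nat) tJ_P298 tJ_P299 (Nat.ble (nat_lit 299) j)) (Nat.ble (nat_lit 298) j)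
noncomputable def tJ_s270_300 (j : Nat) : Nat := @Bool.rec (fun _ => Nat) (@Bool.rec (fun _ => Nat) (@Bool.rec (fun _ => Nat) (tJ_s270_273 j) (tJ_s273_277 j) (Nat.ble (nat_lit 273) j)) (@Bool.rec (fun _ => Nat) (tJ_s277_281 j) (tJ_s281_285 j) (Nat.ble (nat_lit 281) j)) (Nat.ble (nat_lit 277) j)) (@Bool.rec (fun _ => Nat) (@Bool.rec (fun _ => Nat) (tJ_s285_288 j) (tJ_s288_292 j) (Nat.ble (nat_lit 288) j)) (@Bool.rec (fun _ => Nat) (tJ_s292_296 j) (tJ_s296_300 j) (Nat.ble (nat_lit 296) j)) (Nat.ble (nat_lit 292) j)) (Nat.ble (nat_lit 285) j)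
noncomputable def tJ_s300_303 (j : Nat) : Nat := @Bool.rec (fun _ => Nat) tJ_P300 (@Bool.rec (fun _ => Nat) tJ_P301 tJ_P302 (Nat.ble (nat_lit 302) j)) (Nat.ble (nat_lit 301) j)
noncomputable def tJ_s303_307 (j : Nat) : Nat := @Bool.rec (fun _ => Nat) (@Bool.rec (fun _ => Nat) tJ_P303 tJ_P304 (Nat.ble (nat_lit 304) j)) (@Bool.rec (fun _ => Nat) tJ_P305 tJ_P306 (Nat.ble (nat_lit 306) j)) (Nat.ble (nat_lit 305) j)
noncomputable def tJ_s307_311 (j : Nat) : Nat := @Bool.rec (fun _ => Nat) (@Bool.rec (fun _ => Nat) tJ_P307 tJ_P308 (Nat.ble (nat_lit 308) j)) (@Bool.rec (fun _ => Nat) tJ_P309 tJ_P310 (Nat.ble (nat_lit 310) j)) (Nat.ble (nat_lit 309) j)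
noncomputable def tJ_s311_315 (j : Nat) : Nat := @Bool.rec (fun _ => Nat) (@Bool.rec (fun _ => Nat) tJ_P311 tJ_P312 (Nat.ble (nat_lit 312) j)) (@Bool.rec (fun _ => Nat) tJ_P313 tJ_P314 (Nat.ble (nat_lit 314) j)) (Nat.ble (nat_lit 313) j)
noncomputable def tJ_s315_318 (j : Nat) : Nat := @Bool.rec (fun _ => Nat) tJ_P315 (@Bool.rec (fun _ => Nat) tJ_P316 tJ_P317 (Nat.ble (nat_lit 317) j)) (Nat.ble (nat_lit 316) j)
noncomputable def tJ_s318_322 (j : Nat) : Nat := @Bool.rec (fun _ => Nat) (@Bool.rec (fun _ => Nat) tJ_P318 tJ_P319 (Nat.ble (nat_lit 319) j)) (@Bool.rec (fun _ => Nat) tJ_P320 tJ_P321 (Nat.ble (nat_lit 321) j)) (Nat.ble (nat_lit 320) j)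
noncomputable def tJ_s322_326 (j : Nat) : Nat := @Bool.rec (fun _ => Nat) (@Bool.rec (fun _ => Nat) tJ_P322 tJ_P323 (Nat.ble (nat_lit 323) j)) (@Bool.rec (fun _ => Nat) tJ_P324 tJ_P325 (Nat.ble (nat_lit 325) j)) (Nat.ble (nat_lit 324) j)
noncomputable def tJ_s326_330 (j : Nat) : Nat := @Bool.rec (fun _ => Nat) (@Bool.rec (fun _ => Nat) tJ_P326 tJ_P327 (Nat.ble (nat_lit 327) j)) (@Bool.rec (fun _ => Nat) tJ_P328 tJ_P329 (Nat.ble (nat_lit 329) j)) (Nat.ble (nat_lit 328) j)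
noncomputable def tJ_s300_330 (j : Nat) : Nat := @Bool.rec (fun _ => Nat) (@Bool.rec (fun _ => Nat) (@Bool.rec (fun _ => Nat) (tJ_s300_303 j) (tJ_s303_307 j) (Nat.ble (nat_lit 303) j)) (@Bool.rec (fun _ => Nat) (tJ_s307_311 j) (tJ_s311_315 j) (Nat.ble (nat_lit 311) j)) (Nat.ble (nat_lit 307) j)) (@Bool.rec (fun _ => Nat) (@Bool.rec (fun _ => Nat) (tJ_s315_318 j) (tJ_s318_322 j) (Nat.ble (nat_lit 318) j)) (@Bool.rec (fun _ => Nat) (tJ_s322_326 j) (tJ_s326_330 j) (Nat.ble (nat_lit 326) j)) (Nat.ble (nat_lit 322) j)) (Nat.ble (nat_lit 315) j)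
noncomputable def tJ_s330_333 (j : Nat) : Nat := @Bool.rec (fun _ => Nat) tJ_P330 (@Bool.rec (fun _ => Nat) tJ_P331 tJ_P332 (Nat.ble (nat_lit 332) j)) (Nat.ble (nat_lit 331) j)
noncomputable def tJ_s333_337 (j : Nat) : Nat := @Bool.rec (fun _ => Nat) (@Bool.rec (fun _ => Nat) tJ_P333 tJ_P334 (Nat.ble (nat_lit 334) j)) (@Bool.rec (fun _ => Nat) tJ_P335 tJ_P336 (Nat.ble (nat_lit 336) j)) (Nat.ble (nat_lit 335) j)
noncomputable def tJ_s337_341 (j : Nat) : Nat := @Bool.rec (fun _ => Nat) (@Bool.rec (fun _ => Nat) tJ_P337 tJ_P338 (Nat.ble (nat_lit 338) j)) (@Bool.rec (fun _ => Nat) tJ_P339 tJ_P340 (Nat.ble (nat_lit 340) j)) (Nat.ble (nat_lit 339) j)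
noncomputable def tJ_s341_345 (j : Nat) : Nat := @Bool.rec (fun _ => Nat) (@Bool.rec (fun _ => Nat) tJ_P341 tJ_P342 (Nat.ble (nat_lit 342) j)) (@Bool.rec (fun _ => Nat) tJ_P343 tJ_P344 (Nat.ble (nat_lit 344) j)) (Nat.ble (nat_lit 343) j)
noncomputable def tJ_s345_348 (j : Nat) : Nat := @Bool.rec (fun _ => Nat) tJ_P345 (@Bool.rec (fun _ => Nat) tJ_P346 tJ_P347 (Nat.ble (nat_lit 347) j)) (Nat.ble (nat_lit 346) j)
noncomputable def tJ_s348_352 (j : Nat) : Nat := @Bool.rec (fun _ => Nat) (@Bool.rec (fun _ => Nat) tJ_P348 tJ_P349 (Nat.ble (nat_lit 349) j)) (@Bool.rec (fun _ => Nat) tJ_P350 tJ_P351 (Nat.ble (nat_lit 351) j)) (Nat.ble (nat_lit 350) j)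
noncomputable def tJ_s352_356 (j : Nat) : Nat := @Bool.rec (fun _ => Nat) (@Bool.rec (fun _ => Nat) tJ_P352 tJ_P353 (Nat.ble (nat_lit 353) j)) (@Bool.rec (fun _ => Nat) tJ_P354 tJ_P355 (Nat.ble (nat_lit 355) j)) (Nat.ble (nat_lit 354) j)
noncomputable def tJ_s356_360 (j : Nat) : Nat := @Bool.rec (fun _ => Nat) (@Bool.rec (fun _ => Nat) tJ_P356 tJ_P357 (Nat.ble (nat_lit 357) j)) (@Bool.rec (fun _ => Nat) tJ_P358 tJ_P359 (Nat.ble (nat_lit 359) j)) (Nat.ble (nat_lit 358) j)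
noncomputable def tJ_s330_360 (j : Nat) : Nat := @Bool.rec (fun _ => Nat) (@Bool.rec (fun _ => Nat) (@Bool.rec (fun _ => Nat) (tJ_s330_333 j) (tJ_s333_337 j) (Nat.ble (nat_lit 333) j)) (@Bool.rec (fun _ => Nat) (tJ_s337_341 j) (tJ_s341_345 j) (Nat.ble (nat_lit 341) j)) (Nat.ble (nat_lit 337) j)) (@Bool.rec (fun _ => Nat) (@Bool.rec (fun _ => Nat) (tJ_s345_348 j) (tJ_s348_352 j) (Nat.ble (nat_lit 348) j)) (@Bool.rec (fun _ => Nat) (tJ_s352_356 j) (tJ_s356_360 j) (Nat.ble (nat_lit 356) j)) (Nat.ble (nat_lit 352) j)) (Nat.ble (nat_lit 345) j)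
noncomputable def tJ_s360_363 (j : Nat) : Nat := @Bool.rec (fun _ => Nat) tJ_P360 (@Bool.rec (fun _ => Nat) tJ_P361 tJ_P362 (Nat.ble (nat_lit 362) j)) (Nat.ble (nat_lit 361) j)
noncomputable def tJ_s363_367 (j : Nat) : Nat := @Bool.rec (fun _ => Nat) (@Bool.rec (fun _ => Nat) tJ_P363 tJ_P364 (Nat.ble (nat_lit 364) j)) (@Bool.rec (fun _ => Nat) tJ_P365 tJ_P366 (Nat.ble (nat_lit 366) j)) (Nat.ble (nat_lit 365) j)
noncomputable def tJ_s367_371 (j : Nat) : Nat := @Bool.rec (fun _ => Nat) (@Bool.rec (fun _ => Nat) tJ_P367 tJ_P368 (Nat.ble (nat_lit 368) j)) (@Bool.rec (fun _ => Nat) tJ_P369 tJ_P370 (Nat.ble (nat_lit 370) j)) (Nat.ble (nat_lit 369) j)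
noncomputable def tJ_s371_375 (j : Nat) : Nat := @Bool.rec (fun _ => Nat) (@Bool.rec (fun _ => Nat) tJ_P371 tJ_P372 (Nat.ble (nat_lit 372) j)) (@Bool.rec (fun _ => Nat) tJ_P373 tJ_P374 (Nat.ble (nat_lit 374) j)) (Nat.ble (nat_lit 373) j)
noncomputable def tJ_s375_378 (j : Nat) : Nat := @Bool.rec (fun _ => Nat) tJ_P375 (@Bool.rec (fun _ => Nat) tJ_P376 tJ_P377 (Nat.ble (nat_lit 377) j)) (Nat.ble (nat_lit 376) j)
noncomputable def tJ_s378_382 (j : Nat) : Nat := @Bool.rec (fun _ => Nat) (@Bool.rec (fun _ => Nat) tJ_P378 tJ_P379 (Nat.ble (nat_lit 379) j)) (@Bool.rec (fun _ => Nat) tJ_P380 tJ_P381 (Nat.ble (nat_lit 381) j)) (Nat.ble (nat_lit 380) j)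
noncomputable def tJ_s382_386 (j : Nat) : Nat := @Bool.rec (fun _ => Nat) (@Bool.rec (fun _ => Nat) tJ_P382 tJ_P383 (Nat.ble (nat_lit 383) j)) (@Bool.rec (fun _ => Nat) tJ_P384 tJ_P385 (Nat.ble (nat_lit 385) j)) (Nat.ble (nat_lit 384) j)
noncomputable def tJ_s386_390 (j : Nat) : Nat := @Bool.rec (fun _ => Nat) (@Bool.rec (fun _ => Nat) tJ_P386 tJ_P387 (Nat.ble (nat_lit 387) j)) (@Bool.rec (fun _ => Nat) tJ_P388 tJ_P389 (Nat.ble (nat_lit 389) j)) (Nat.ble (nat_lit 388) j)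
noncomputable def tJ_s360_390 (j : Nat) : Nat := @Bool.rec (fun _ => Nat) (@Bool.rec (fun _ => Nat) (@Bool.rec (fun _ => Nat) (tJ_s360_363 j) (tJ_s363_367 j) (Nat.ble (nat_lit 363) j)) (@Bool.rec (fun _ => Nat) (tJ_s367_371 j) (tJ_s371_375 j) (Nat.ble (nat_lit 371) j)) (Nat.ble (nat_lit 367) j)) (@Bool.rec (fun _ => Nat) (@Bool.rec (fun _ => Nat) (tJ_s375_378 j) (tJ_s378_382 j) (Nat.ble (nat_lit 378) j)) (@Bool.rec (fun _ => Nat) (tJ_s382_386 j) (tJ_s386_390 j) (Nat.ble (nat_lit 386) j)) (Nat.ble (nat_lit 382) j)) (Nat.ble (nat_lit 375) j)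
noncomputable def tJ_s390_393 (j : Nat) : Nat := @Bool.rec (fun _ => Nat) tJ_P390 (@Bool.rec (fun _ => Nat) tJ_P391 tJ_P392 (Nat.ble (nat_lit 392) j)) (Nat.ble (nat_lit 391) j)
noncomputable def tJ_s393_397 (j : Nat) : Nat := @Bool.rec (fun _ => Nat) (@Bool.rec (fun _ => Nat) tJ_P393 tJ_P394 (Nat.ble (nat_lit 394) j)) (@Bool.rec (fun _ => Nat) tJ_P395 tJ_P396 (Nat.ble (nat_lit 396) j)) (Nat.ble (nat_lit 395) j)
noncomputable def tJ_s397_401 (j : Nat) : Nat := @Bool.rec (fun _ => Nat) (@Bool.rec (fun _ => Nat) tJ_P397 tJ_P398 (Nat.ble (nat_lit 398) j)) (@Bool.rec (fun _ => Nat) tJ_P399 tJ_P400 (Nat.ble (nat_lit 400) j)) (Nat.ble (nat_lit 399) j)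
noncomputable def tJ_s401_405 (j : Nat) : Nat := @Bool.rec (fun _ => Nat) (@Bool.rec (fun _ => Nat) tJ_P401 tJ_P402 (Nat.ble (nat_lit 402) j)) (@Bool.rec (fun _ => Nat) tJ_P403 tJ_P404 (Nat.ble (nat_lit 404) j)) (Nat.ble (nat_lit 403) j)
noncomputable def tJ_s405_408 (j : Nat) : Nat := @Bool.rec (fun _ => Nat) tJ_P405 (@Bool.rec (fun _ => Nat) tJ_P406 tJ_P407 (Nat.ble (nat_lit 407) j)) (Nat.ble (nat_lit 406) j)
noncomputable def tJ_s408_412 (j : Nat) : Nat := @Bool.rec (fun _ => Nat) (@Bool.rec (fun _ => Nat) tJ_P408 tJ_P409 (Nat.ble (nat_lit 409) j)) (@Bool.rec (fun _ => Nat) tJ_P410 tJ_P411 (Nat.ble (nat_lit 411) j)) (Nat.ble (nat_lit 410) j)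
noncomputable def tJ_s412_416 (j : Nat) : Nat := @Bool.rec (fun _ => Nat) (@Bool.rec (fun _ => Nat) tJ_P412 tJ_P413 (Nat.ble (nat_lit 413) j)) (@Bool.rec (fun _ => Nat) tJ_P414 tJ_P415 (Nat.ble (nat_lit 415) j)) (Nat.ble (nat_lit 414) j)
noncomputable def tJ_s416_420 (j : Nat) : Nat := @Bool.rec (fun _ => Nat) (@Bool.rec (fun _ => Nat) tJ_P416 tJ_P417 (Nat.ble (nat_lit 417) j)) (@Bool.rec (fun _ => Nat) tJ_P418 tJ_P419 (Nat.ble (nat_lit 419) j)) (Nat.ble (nat_lit 418) j)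
noncomputable def tJ_s390_420 (j : Nat) : Nat := @Bool.rec (fun _ => Nat) (@Bool.rec (fun _ => Nat) (@Bool.rec (fun _ => Nat) (tJ_s390_393 j) (tJ_s393_397 j) (Nat.ble (nat_lit 393) j)) (@Bool.rec (fun _ => Nat) (tJ_s397_401 j) (tJ_s401_405 j) (Nat.ble (nat_lit 401) j)) (Nat.ble (nat_lit 397) j)) (@Bool.rec (fun _ => Nat) (@Bool.rec (fun _ => Nat) (tJ_s405_408 j) (tJ_s408_412 j) (Nat.ble (nat_lit 408) j)) (@Bool.rec (fun _ => Nat) (tJ_s412_416 j) (tJ_s416_420 j) (Nat.ble (nat_lit 416) j)) (Nat.ble (nat_lit 412) j)) (Nat.ble (nat_lit 405) j)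
noncomputable def tJ_s420_423 (j : Nat) : Nat := @Bool.rec (fun _ => Nat) tJ_P420 (@Bool.rec (fun _ => Nat) tJ_P421 tJ_P422 (Nat.ble (nat_lit 422) j)) (Nat.ble (nat_lit 421) j)
noncomputable def tJ_s423_427 (j : Nat) : Nat := @Bool.rec (fun _ => Nat) (@Bool.rec (fun _ => Nat) tJ_P423 tJ_P424 (Nat.ble (nat_lit 424) j)) (@Bool.rec (fun _ => Nat) tJ_P425 tJ_P426 (Nat.ble (nat_lit 426) j)) (Nat.ble (nat_lit 425) j)
noncomputable def tJ_s427_431 (j : Nat) : Nat := @Bool.rec (fun _ => Nat) (@Bool.rec (fun _ => Nat) tJ_P427 tJ_P428 (Nat.ble (nat_lit 428) j)) (@Bool.rec (fun _ => Nat) tJ_P429 tJ_P430 (Nat.ble (nat_lit 430) j)) (Nat.ble (nat_lit 429) j)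
noncomputable def tJ_s431_435 (j : Nat) : Nat := @Bool.rec (fun _ => Nat) (@Bool.rec (fun _ => Nat) tJ_P431 tJ_P432 (Nat.ble (nat_lit 432) j)) (@Bool.rec (fun _ => Nat) tJ_P433 tJ_P434 (Nat.ble (nat_lit 434) j)) (Nat.ble (nat_lit 433) j)
noncomputable def tJ_s435_438 (j : Nat) : Nat := @Bool.rec (fun _ => Nat) tJ_P435 (@Bool.rec (fun _ => Nat) tJ_P436 tJ_P437 (Nat.ble (nat_lit 437) j)) (Nat.ble (nat_lit 436) j)
noncomputable def tJ_s438_442 (j : Nat) : Nat := @Bool.rec (fun _ => Nat) (@Bool.rec (fun _ => Nat) tJ_P438 tJ_P439 (Nat.ble (nat_lit 439) j)) (@Bool.rec (fun _ => Nat) tJ_P440 tJ_P441 (Nat.ble (nat_lit 441) j)) (Nat.ble (nat_lit 440) j)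
noncomputable def tJ_s442_446 (j : Nat) : Nat := @Bool.rec (fun _ => Nat) (@Bool.rec (fun _ => Nat) tJ_P442 tJ_P443 (Nat.ble (nat_lit 443) j)) (@Bool.rec (fun _ => Nat) tJ_P444 tJ_P445 (Nat.ble (nat_lit 445) j)) (Nat.ble (nat_lit 444) j)
noncomputable def tJ_s446_450 (j : Nat) : Nat := @Bool.rec (fun _ => Nat) (@Bool.rec (fun _ => Nat) tJ_P446 tJ_P447 (Nat.ble (nat_lit 447) j)) (@Bool.rec (fun _ => Nat) tJ_P448 tJ_P449 (Nat.ble (nat_lit 449) j)) (Nat.ble (nat_lit 448) j)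
noncomputable def tJ_s420_450 (j : Nat) : Nat := @Bool.rec (fun _ => Nat) (@Bool.rec (fun _ => Nat) (@Bool.rec (fun _ => Nat) (tJ_s420_423 j) (tJ_s423_427 j) (Nat.ble (nat_lit 423) j)) (@Bool.rec (fun _ => Nat) (tJ_s427_431 j) (tJ_s431_435 j) (Nat.ble (nat_lit 431) j)) (Nat.ble (nat_lit 427) j)) (@Bool.rec (fun _ => Nat) (@Bool.rec (fun _ => Nat) (tJ_s435_438 j) (tJ_s438_442 j) (Nat.ble (nat_lit 438) j)) (@Bool.rec (fun _ => Nat) (tJ_s442_446 j) (tJ_s446_450 j) (Nat.ble (nat_lit 446) j)) (Nat.ble (nat_lit 442) j)) (Nat.ble (nat_lit 435) j)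
noncomputable def tJ_s450_453 (j : Nat) : Nat := @Bool.rec (fun _ => Nat) tJ_P450 (@Bool.rec (fun _ => Nat) tJ_P451 tJ_P452 (Nat.ble (nat_lit 452) j)) (Nat.ble (nat_lit 451) j)
noncomputable def tJ_s453_457 (j : Nat) : Nat := @Bool.rec (fun _ => Nat) (@Bool.rec (fun _ => Nat) tJ_P453 tJ_P454 (Nat.ble (nat_lit 454) j)) (@Bool.rec (fun _ => Nat) tJ_P455 tJ_P456 (Nat.ble (nat_lit 456) j)) (Nat.ble (nat_lit 455) j)
noncomputable def tJ_s457_461 (j : Nat) : Nat := @Bool.rec (fun _ => Nat) (@Bool.rec (fun _ => Nat) tJ_P457 tJ_P458 (Nat.ble (nat_lit 458) j)) (@Bool.rec (fun _ => Nat) tJ_P459 tJ_P460 (Nat.ble (nat_lit 460) j)) (Nat.ble (nat_lit 459) j)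
noncomputable def tJ_s461_465 (j : Nat) : Nat := @Bool.rec (fun _ => Nat) (@Bool.rec (fun _ => Nat) tJ_P461 tJ_P462 (Nat.ble (nat_lit 462) j)) (@Bool.rec (fun _ => Nat) tJ_P463 tJ_P464 (Nat.ble (nat_lit 464) j)) (Nat.ble (nat_lit 463) j)
noncomputable def tJ_s465_469 (j : Nat) : Nat := @Bool.rec (fun _ => Nat) (@Bool.rec (fun _ => Nat) tJ_P465 tJ_P466 (Nat.ble (nat_lit 466) j)) (@Bool.rec (fun _ => Nat) tJ_P467 tJ_P468 (Nat.ble (nat_lit 468) j)) (Nat.ble (nat_lit 467) j)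
noncomputable def tJ_s469_473 (j : Nat) : Nat := @Bool.rec (fun _ => Nat) (@Bool.rec (fun _ => Nat) tJ_P469 tJ_P470 (Nat.ble (nat_lit 470) j)) (@Bool.rec (fun _ => Nat) tJ_P471 tJ_P472 (Nat.ble (nat_lit 472) j)) (Nat.ble (nat_lit 471) j)
noncomputable def tJ_s473_477 (j : Nat) : Nat := @Bool.rec (fun _ => Nat) (@Bool.rec (fun _ => Nat) tJ_P473 tJ_P474 (Nat.ble (nat_lit 474) j)) (@Bool.rec (fun _ => Nat) tJ_P475 tJ_P476 (Nat.ble (nat_lit 476) j)) (Nat.ble (nat_lit 475) j)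
noncomputable def tJ_s477_481 (j : Nat) : Nat := @Bool.rec (fun _ => Nat) (@Bool.rec (fun _ => Nat) tJ_P477 tJ_P478 (Nat.ble (nat_lit 478) j)) (@Bool.rec (fun _ => Nat) tJ_P479 tJ_P480 (Nat.ble (nat_lit 480) j)) (Nat.ble (nat_lit 479) j)
noncomputable def tJ_s450_481 (j : Nat) : Nat := @Bool.rec (fun _ => Nat) (@Bool.rec (fun _ => Nat) (@Bool.rec (fun _ => Nat) (tJ_s450_453 j) (tJ_s453_457 j) (Nat.ble (nat_lit 453) j)) (@Bool.rec (fun _ => Nat) (tJ_s457_461 j) (tJ_s461_465 j) (Nat.ble (nat_lit 461) j)) (Nat.ble (nat_lit 457) j)) (@Bool.rec (fun _ => Nat) (@Bool.rec (fun _ => Nat) (tJ_s465_469 j) (tJ_s469_473 j) (Nat.ble (nat_lit 469) j)) (@Bool.rec (fun _ => Nat) (tJ_s473_477 j) (tJ_s477_481 j) (Nat.ble (nat_lit 477) j)) (Nat.ble (nat_lit 473) j)) (Nat.ble (nat_lit 465) j)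
noncomputable def tJ_s240_481 (j : Nat) : Nat := @Bool.rec (fun _ => Nat) (@Bool.rec (fun _ => Nat) (@Bool.rec (fun _ => Nat) (tJ_s240_270 j) (tJ_s270_300 j) (Nat.ble (nat_lit 270) j)) (@Bool.rec (fun _ => Nat) (tJ_s300_330 j) (tJ_s330_360 j) (Nat.ble (nat_lit 330) j)) (Nat.ble (nat_lit 300) j)) (@Bool.rec (fun _ => Nat) (@Bool.rec (fun _ => Nat) (tJ_s360_390 j) (tJ_s390_420 j) (Nat.ble (nat_lit 390) j)) (@Bool.rec (fun _ => Nat) (tJ_s420_450 j) (tJ_s450_481 j) (Nat.ble (nat_lit 450) j)) (Nat.ble (nat_lit 420) j)) (Nat.ble (nat_lit 360) j)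
noncomputable def tJ_s481_484 (j : Nat) : Nat := @Bool.rec (fun _ => Nat) tJ_P481 (@Bool.rec (fun _ => Nat) tJ_P482 tJ_P483 (Nat.ble (nat_lit 483) j)) (Nat.ble (nat_lit 482) j)
noncomputable def tJ_s484_488 (j : Nat) : Nat := @Bool.rec (fun _ => Nat) (@Bool.rec (fun _ => Nat) tJ_P484 tJ_P485 (Nat.ble (nat_lit 485) j)) (@Bool.rec (fun _ => Nat) tJ_P486 tJ_P487 (Nat.ble (nat_lit 487) j)) (Nat.ble (nat_lit 486) j)
noncomputable def tJ_s488_492 (j : Nat) : Nat := @Bool.rec (fun _ => Nat) (@Bool.rec (fun _ => Nat) tJ_P488 tJ_P489 (Nat.ble (nat_lit 489) j)) (@Bool.rec (fun _ => Nat) tJ_P490 tJ_P491 (Nat.ble (nat_lit 491) j)) (Nat.ble (nat_lit 490) j)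
noncomputable def tJ_s492_496 (j : Nat) : Nat := @Bool.rec (fun _ => Nat) (@Bool.rec (fun _ => Nat) tJ_P492 tJ_P493 (Nat.ble (nat_lit 493) j)) (@Bool.rec (fun _ => Nat) tJ_P494 tJ_P495 (Nat.ble (nat_lit 495) j)) (Nat.ble (nat_lit 494) j)
noncomputable def tJ_s496_499 (j : Nat) : Nat := @Bool.rec (fun _ => Nat) tJ_P496 (@Bool.rec (fun _ => Nat) tJ_P497 tJ_P498 (Nat.ble (nat_lit 498) j)) (Nat.ble (nat_lit 497) j)
noncomputable def tJ_s499_503 (j : Nat) : Nat := @Bool.rec (fun _ => Nat) (@Bool.rec (fun _ => Nat) tJ_P499 tJ_P500 (Nat.ble (nat_lit 500) j)) (@Bool.rec (fun _ => Nat) tJ_P501 tJ_P502 (Nat.ble (nat_lit 502) j)) (Nat.ble (nat_lit 501) j)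
noncomputable def tJ_s503_507 (j : Nat) : Nat := @Bool.rec (fun _ => Nat) (@Bool.rec (fun _ => Nat) tJ_P503 tJ_P504 (Nat.ble (nat_lit 504) j)) (@Bool.rec (fun _ => Nat) tJ_P505 tJ_P506 (Nat.ble (nat_lit 506) j)) (Nat.ble (nat_lit 505) j)
noncomputable def tJ_s507_511 (j : Nat) : Nat := @Bool.rec (fun _ => Nat) (@Bool.rec (fun _ => Nat) tJ_P507 tJ_P508 (Nat.ble (nat_lit 508) j)) (@Bool.rec (fun _ => Nat) tJ_P509 tJ_P510 (Nat.ble (nat_lit 510) j)) (Nat.ble (nat_lit 509) j)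
noncomputable def tJ_s481_511 (j : Nat) : Nat := @Bool.rec (fun _ => Nat) (@Bool.rec (fun _ => Nat) (@Bool.rec (fun _ => Nat) (tJ_s481_484 j) (tJ_s484_488 j) (Nat.ble (nat_lit 484) j)) (@Bool.rec (fun _ => Nat) (tJ_s488_492 j) (tJ_s492_496 j) (Nat.ble (nat_lit 492) j)) (Nat.ble (nat_lit 488) j)) (@Bool.rec (fun _ => Nat) (@Bool.rec (fun _ => Nat) (tJ_s496_499 j) (tJ_s499_503 j) (Nat.ble (nat_lit 499) j)) (@Bool.rec (fun _ => Nat) (tJ_s503_507 j) (tJ_s507_511 j) (Nat.ble (nat_lit 507) j)) (Nat.ble (nat_lit 503) j)) (Nat.ble (nat_lit 496) j)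
noncomputable def tJ_s511_514 (j : Nat) : Nat := @Bool.rec (fun _ => Nat) tJ_P511 (@Bool.rec (fun _ => Nat) tJ_P512 tJ_P513 (Nat.ble (nat_lit 513) j)) (Nat.ble (nat_lit 512) j)
noncomputable def tJ_s514_518 (j : Nat) : Nat := @Bool.rec (fun _ => Nat) (@Bool.rec (fun _ => Nat) tJ_P514 tJ_P515 (Nat.ble (nat_lit 515) j)) (@Bool.rec (fun _ => Nat) tJ_P516 tJ_P517 (Nat.ble (nat_lit 517) j)) (Nat.ble (nat_lit 516) j)
noncomputable def tJ_s518_522 (j : Nat) : Nat := @Bool.rec (fun _ => Nat) (@Bool.rec (fun _ => Nat) tJ_P518 tJ_P519 (Nat.ble (nat_lit 519) j)) (@Bool.rec (fun _ => Nat) tJ_P520 tJ_P521 (Nat.ble (nat_lit 521) j)) (Nat.ble (nat_lit 520) j)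
noncomputable def tJ_s522_526 (j : Nat) : Nat := @Bool.rec (fun _ => Nat) (@Bool.rec (fun _ => Nat) tJ_P522 tJ_P523 (Nat.ble (nat_lit 523) j)) (@Bool.rec (fun _ => Nat) tJ_P524 tJ_P525 (Nat.ble (nat_lit 525) j)) (Nat.ble (nat_lit 524) j)
noncomputable def tJ_s526_529 (j : Nat) : Nat := @Bool.rec (fun _ => Nat) tJ_P526 (@Bool.rec (fun _ => Nat) tJ_P527 tJ_P528 (Nat.ble (nat_lit 528) j)) (Nat.ble (nat_lit 527) j)
noncomputable def tJ_s529_533 (j : Nat) : Nat := @Bool.rec (fun _ => Nat) (@Bool.rec (fun _ => Nat) tJ_P529 tJ_P530 (Nat.ble (nat_lit 530) j)) (@Bool.rec (fun _ => Nat) tJ_P531 tJ_P532 (Nat.ble (nat_lit 532) j)) (Nat.ble (nat_lit 531) j)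
noncomputable def tJ_s533_537 (j : Nat) : Nat := @Bool.rec (fun _ => Nat) (@Bool.rec (fun _ => Nat) tJ_P533 tJ_P534 (Nat.ble (nat_lit 534) j)) (@Bool.rec (fun _ => Nat) tJ_P535 tJ_P536 (Nat.ble (nat_lit 536) j)) (Nat.ble (nat_lit 535) j)
noncomputable def tJ_s537_541 (j : Nat) : Nat := @Bool.rec (fun _ => Nat) (@Bool.rec (fun _ => Nat) tJ_P537 tJ_P538 (Nat.ble (nat_lit 538) j)) (@Bool.rec (fun _ => Nat) tJ_P539 tJ_P540 (Nat.ble (nat_lit 540) j)) (Nat.ble (nat_lit 539) j)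
noncomputable def tJ_s511_541 (j : Nat) : Nat := @Bool.rec (fun _ => Nat) (@Bool.rec (fun _ => Nat) (@Bool.rec (fun _ => Nat) (tJ_s511_514 j) (tJ_s514_518 j) (Nat.ble (nat_lit 514) j)) (@Bool.rec (fun _ => Nat) (tJ_s518_522 j) (tJ_s522_526 j) (Nat.ble (nat_lit 522) j)) (Nat.ble (nat_lit 518) j)) (@Bool.rec (fun _ => Nat) (@Bool.rec (fun _ => Nat) (tJ_s526_529 j) (tJ_s529_533 j) (Nat.ble (nat_lit 529) j)) (@Bool.rec (fun _ => Nat) (tJ_s533_537 j) (tJ_s537_541 j) (Nat.ble (nat_lit 537) j)) (Nat.ble (nat_lit 533) j)) (Nat.ble (nat_lit 526) j)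
noncomputable def tJ_s541_544 (j : Nat) : Nat := @Bool.rec (fun _ => Nat) tJ_P541 (@Bool.rec (fun _ => Nat) tJ_P542 tJ_P543 (Nat.ble (nat_lit 543) j)) (Nat.ble (nat_lit 542) j)
noncomputable def tJ_s544_548 (j : Nat) : Nat := @Bool.rec (fun _ => Nat) (@Bool.rec (fun _ => Nat) tJ_P544 tJ_P545 (Nat.ble (nat_lit 545) j)) (@Bool.rec (fun _ => Nat) tJ_P546 tJ_P547 (Nat.ble (nat_lit 547) j)) (Nat.ble (nat_lit 546) j)
noncomputable def tJ_s548_552 (j : Nat) : Nat := @Bool.rec (fun _ => Nat) (@Bool.rec (fun _ => Nat) tJ_P548 tJ_P549 (Nat.ble (nat_lit 549) j)) (@Bool.rec (fun _ => Nat) tJ_P550 tJ_P551 (Nat.ble (nat_lit 551) j)) (Nat.ble (nat_lit 550) j)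
noncomputable def tJ_s552_556 (j : Nat) : Nat := @Bool.rec (fun _ => Nat) (@Bool.rec (fun _ => Nat) tJ_P552 tJ_P553 (Nat.ble (nat_lit 553) j)) (@Bool.rec (fun _ => Nat) tJ_P554 tJ_P555 (Nat.ble (nat_lit 555) j)) (Nat.ble (nat_lit 554) j)
noncomputable def tJ_s556_559 (j : Nat) : Nat := @Bool.rec (fun _ => Nat) tJ_P556 (@Bool.rec (fun _ => Nat) tJ_P557 tJ_P558 (Nat.ble (nat_lit 558) j)) (Nat.ble (nat_lit 557) j)
noncomputable def tJ_s559_563 (j : Nat) : Nat := @Bool.rec (fun _ => Nat) (@Bool.rec (fun _ => Nat) tJ_P559 tJ_P560 (Nat.ble (nat_lit 560) j)) (@Bool.rec (fun _ => Nat) tJ_P561 tJ_P562 (Nat.ble (nat_lit 562) j)) (Nat.ble (nat_lit 561) j)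
noncomputable def tJ_s563_567 (j : Nat) : Nat := @Bool.rec (fun _ => Nat) (@Bool.rec (fun _ => Nat) tJ_P563 tJ_P564 (Nat.ble (nat_lit 564) j)) (@Bool.rec (fun _ => Nat) tJ_P565 tJ_P566 (Nat.ble (nat_lit 566) j)) (Nat.ble (nat_lit 565) j)
noncomputable def tJ_s567_571 (j : Nat) : Nat := @Bool.rec (fun _ => Nat) (@Bool.rec (fun _ => Nat) tJ_P567 tJ_P568 (Nat.ble (nat_lit 568) j)) (@Bool.rec (fun _ => Nat) tJ_P569 tJ_P570 (Nat.ble (nat_lit 570) j)) (Nat.ble (nat_lit 569) j)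
noncomputable def tJ_s541_571 (j : Nat) : Nat := @Bool.rec (fun _ => Nat) (@Bool.rec (fun _ => Nat) (@Bool.rec (fun _ => Nat) (tJ_s541_544 j) (tJ_s544_548 j) (Nat.ble (nat_lit 544) j)) (@Bool.rec (fun _ => Nat) (tJ_s548_552 j) (tJ_s552_556 j) (Nat.ble (nat_lit 552) j)) (Nat.ble (nat_lit 548) j)) (@Bool.rec (fun _ => Nat) (@Bool.rec (fun _ => Nat) (tJ_s556_559 j) (tJ_s559_563 j) (Nat.ble (nat_lit 559) j)) (@Bool.rec (fun _ => Nat) (tJ_s563_567 j) (tJ_s567_571 j) (Nat.ble (nat_lit 567) j)) (Nat.ble (nat_lit 563) j)) (Nat.ble (nat_lit 556) j)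
noncomputable def tJ_s571_574 (j : Nat) : Nat := @Bool.rec (fun _ => Nat) tJ_P571 (@Bool.rec (fun _ => Nat) tJ_P572 tJ_P573 (Nat.ble (nat_lit 573) j)) (Nat.ble (nat_lit 572) j)
noncomputable def tJ_s574_578 (j : Nat) : Nat := @Bool.rec (fun _ => Nat) (@Bool.rec (fun _ => Nat) tJ_P574 tJ_P575 (Nat.ble (nat_lit 575) j)) (@Bool.rec (fun _ => Nat) tJ_P576 tJ_P577 (Nat.ble (nat_lit 577) j)) (Nat.ble (nat_lit 576) j)
noncomputable def tJ_s578_582 (j : Nat) : Nat := @Bool.rec (fun _ => Nat) (@Bool.rec (fun _ => Nat) tJ_P578 tJ_P579 (Nat.ble (nat_lit 579) j)) (@Bool.rec (fun _ => Nat) tJ_P580 tJ_P581 (Nat.ble (nat_lit 581) j)) (Nat.ble (nat_lit 580) j)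
noncomputable def tJ_s582_586 (j : Nat) : Nat := @Bool.rec (fun _ => Nat) (@Bool.rec (fun _ => Nat) tJ_P582 tJ_P583 (Nat.ble (nat_lit 583) j)) (@Bool.rec (fun _ => Nat) tJ_P584 tJ_P585 (Nat.ble (nat_lit 585) j)) (Nat.ble (nat_lit 584) j)
noncomputable def tJ_s586_589 (j : Nat) : Nat := @Bool.rec (fun _ => Nat) tJ_P586 (@Bool.rec (fun _ => Nat) tJ_P587 tJ_P588 (Nat.ble (nat_lit 588) j)) (Nat.ble (nat_lit 587) j)
noncomputable def tJ_s589_593 (j : Nat) : Nat := @Bool.rec (fun _ => Nat) (@Bool.rec (fun _ => Nat) tJ_P589 tJ_P590 (Nat.ble (nat_lit 590) j)) (@Bool.rec (fun _ => Nat) tJ_P591 tJ_P592 (Nat.ble (nat_lit 592) j)) (Nat.ble (nat_lit 591) j)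
noncomputable def tJ_s593_597 (j : Nat) : Nat := @Bool.rec (fun _ => Nat) (@Bool.rec (fun _ => Nat) tJ_P593 tJ_P594 (Nat.ble (nat_lit 594) j)) (@Bool.rec (fun _ => Nat) tJ_P595 tJ_P596 (Nat.ble (nat_lit 596) j)) (Nat.ble (nat_lit 595) j)
noncomputable def tJ_s597_601 (j : Nat) : Nat := @Bool.rec (fun _ => Nat) (@Bool.rec (fun _ => Nat) tJ_P597 tJ_P598 (Nat.ble (nat_lit 598) j)) (@Bool.rec (fun _ => Nat) tJ_P599 tJ_P600 (Nat.ble (nat_lit 600) j)) (Nat.ble (nat_lit 599) j)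
noncomputable def tJ_s571_601 (j : Nat) : Nat := @Bool.rec (fun _ => Nat) (@Bool.rec (fun _ => Nat) (@Bool.rec (fun _ => Nat) (tJ_s571_574 j) (tJ_s574_578 j) (Nat.ble (nat_lit 574) j)) (@Bool.rec (fun _ => Nat) (tJ_s578_582 j) (tJ_s582_586 j) (Nat.ble (nat_lit 582) j)) (Nat.ble (nat_lit 578) j)) (@Bool.rec (fun _ => Nat) (@Bool.rec (fun _ => Nat) (tJ_s586_589 j) (tJ_s589_593 j) (Nat.ble (nat_lit 589) j)) (@Bool.rec (fun _ => Nat) (tJ_s593_597 j) (tJ_s597_601 j) (Nat.ble (nat_lit 597) j)) (Nat.ble (nat_lit 593) j)) (Nat.ble (nat_lit 586) j)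
noncomputable def tJ_s601_604 (j : Nat) : Nat := @Bool.rec (fun _ => Nat) tJ_P601 (@Bool.rec (fun _ => Nat) tJ_P602 tJ_P603 (Nat.ble (nat_lit 603) j)) (Nat.ble (nat_lit 602) j)
noncomputable def tJ_s604_608 (j : Nat) : Nat := @Bool.rec (fun _ => Nat) (@Bool.rec (fun _ => Nat) tJ_P604 tJ_P605 (Nat.ble (nat_lit 605) j)) (@Bool.rec (fun _ => Nat) tJ_P606 tJ_P607 (Nat.ble (nat_lit 607) j)) (Nat.ble (nat_lit 606) j)
noncomputable def tJ_s608_612 (j : Nat) : Nat := @Bool.rec (fun _ => Nat) (@Bool.rec (fun _ => Nat) tJ_P608 tJ_P609 (Nat.ble (nat_lit 609) j)) (@Bool.rec (fun _ => Nat) tJ_P610 tJ_P611 (Nat.ble (nat_lit 611) j)) (Nat.ble (nat_lit 610) j)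
noncomputable def tJ_s612_616 (j : Nat) : Nat := @Bool.rec (fun _ => Nat) (@Bool.rec (fun _ => Nat) tJ_P612 tJ_P613 (Nat.ble (nat_lit 613) j)) (@Bool.rec (fun _ => Nat) tJ_P614 tJ_P615 (Nat.ble (nat_lit 615) j)) (Nat.ble (nat_lit 614) j)
noncomputable def tJ_s616_619 (j : Nat) : Nat := @Bool.rec (fun _ => Nat) tJ_P616 (@Bool.rec (fun _ => Nat) tJ_P617 tJ_P618 (Nat.ble (nat_lit 618) j)) (Nat.ble (nat_lit 617) j)
noncomputable def tJ_s619_623 (j : Nat) : Nat := @Bool.rec (fun _ => Nat) (@Bool.rec (fun _ => Nat) tJ_P619 tJ_P620 (Nat.ble (nat_lit 620) j)) (@Bool.rec (fun _ => Nat) tJ_P621 tJ_P622 (Nat.ble (nat_lit 622) j)) (Nat.ble (nat_lit 621) j)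
noncomputable def tJ_s623_627 (j : Nat) : Nat := @Bool.rec (fun _ => Nat) (@Bool.rec (fun _ => Nat) tJ_P623 tJ_P624 (Nat.ble (nat_lit 624) j)) (@Bool.rec (fun _ => Nat) tJ_P625 tJ_P626 (Nat.ble (nat_lit 626) j)) (Nat.ble (nat_lit 625) j)
noncomputable def tJ_s627_631 (j : Nat) : Nat := @Bool.rec (fun _ => Nat) (@Bool.rec (fun _ => Nat) tJ_P627 tJ_P628 (Nat.ble (nat_lit 628) j)) (@Bool.rec (fun _ => Nat) tJ_P629 tJ_P630 (Nat.ble (nat_lit 630) j)) (Nat.ble (nat_lit 629) j)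
noncomputable def tJ_s601_631 (j : Nat) : Nat := @Bool.rec (fun _ => Nat) (@Bool.rec (fun _ => Nat) (@Bool.rec (fun _ => Nat) (tJ_s601_604 j) (tJ_s604_608 j) (Nat.ble (nat_lit 604) j)) (@Bool.rec (fun _ => Nat) (tJ_s608_612 j) (tJ_s612_616 j) (Nat.ble (nat_lit 612) j)) (Nat.ble (nat_lit 608) j)) (@Bool.rec (fun _ => Nat) (@Bool.rec (fun _ => Nat) (tJ_s616_619 j) (tJ_s619_623 j) (Nat.ble (nat_lit 619) j)) (@Bool.rec (fun _ => Nat) (tJ_s623_627 j) (tJ_s627_631 j) (Nat.ble (nat_lit 627) j)) (Nat.ble (nat_lit 623) j)) (Nat.ble (nat_lit 616) j)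
noncomputable def tJ_s631_634 (j : Nat) : Nat := @Bool.rec (fun _ => Nat) tJ_P631 (@Bool.rec (fun _ => Nat) tJ_P632 tJ_P633 (Nat.ble (nat_lit 633) j)) (Nat.ble (nat_lit 632) j)
noncomputable def tJ_s634_638 (j : Nat) : Nat := @Bool.rec (fun _ => Nat) (@Bool.rec (fun _ => Nat) tJ_P634 tJ_P635 (Nat.ble (nat_lit 635) j)) (@Bool.rec (fun _ => Nat) tJ_P636 tJ_P637 (Nat.ble (nat_lit 637) j)) (Nat.ble (nat_lit 636) j)
noncomputable def tJ_s638_642 (j : Nat) : Nat := @Bool.rec (fun _ => Nat) (@Bool.rec (fun _ => Nat) tJ_P638 tJ_P639 (Nat.ble (nat_lit 639) j)) (@Bool.rec (fun _ => Nat) tJ_P640 tJ_P641 (Nat.ble (nat_lit 641) j)) (Nat.ble (nat_lit 640) j)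
noncomputable def tJ_s642_646 (j : Nat) : Nat := @Bool.rec (fun _ => Nat) (@Bool.rec (fun _ => Nat) tJ_P642 tJ_P643 (Nat.ble (nat_lit 643) j)) (@Bool.rec (fun _ => Nat) tJ_P644 tJ_P645 (Nat.ble (nat_lit 645) j)) (Nat.ble (nat_lit 644) j)
noncomputable def tJ_s646_649 (j : Nat) : Nat := @Bool.rec (fun _ => Nat) tJ_P646 (@Bool.rec (fun _ => Nat) tJ_P647 tJ_P648 (Nat.ble (nat_lit 648) j)) (Nat.ble (nat_lit 647) j)
noncomputable def tJ_s649_653 (j : Nat) : Nat := @Bool.rec (fun _ => Nat) (@Bool.rec (fun _ => Nat) tJ_P649 tJ_P650 (Nat.ble (nat_lit 650) j)) (@Bool.rec (fun _ => Nat) tJ_P651 tJ_P652 (Nat.ble (nat_lit 652) j)) (Nat.ble (nat_lit 651) j)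
noncomputable def tJ_s653_657 (j : Nat) : Nat := @Bool.rec (fun _ => Nat) (@Bool.rec (fun _ => Nat) tJ_P653 tJ_P654 (Nat.ble (nat_lit 654) j)) (@Bool.rec (fun _ => Nat) tJ_P655 tJ_P656 (Nat.ble (nat_lit 656) j)) (Nat.ble (nat_lit 655) j)
noncomputable def tJ_s657_661 (j : Nat) : Nat := @Bool.rec (fun _ => Nat) (@Bool.rec (fun _ => Nat) tJ_P657 tJ_P658 (Nat.ble (nat_lit 658) j)) (@Bool.rec (fun _ => Nat) tJ_P659 tJ_P660 (Nat.ble (nat_lit 660) j)) (Nat.ble (nat_lit 659) j)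
noncomputable def tJ_s631_661 (j : Nat) : Nat := @Bool.rec (fun _ => Nat) (@Bool.rec (fun _ => Nat) (@Bool.rec (fun _ => Nat) (tJ_s631_634 j) (tJ_s634_638 j) (Nat.ble (nat_lit 634) j)) (@Bool.rec (fun _ => Nat) (tJ_s638_642 j) (tJ_s642_646 j) (Nat.ble (nat_lit 642) j)) (Nat.ble (nat_lit 638) j)) (@Bool.rec (fun _ => Nat) (@Bool.rec (fun _ => Nat) (tJ_s646_649 j) (tJ_s649_653 j) (Nat.ble (nat_lit 649) j)) (@Bool.rec (fun _ => Nat) (tJ_s653_657 j) (tJ_s657_661 j) (Nat.ble (nat_lit 657) j)) (Nat.ble (nat_lit 653) j)) (Nat.ble (nat_lit 646) j)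
noncomputable def tJ_s661_664 (j : Nat) : Nat := @Bool.rec (fun _ => Nat) tJ_P661 (@Bool.rec (fun _ => Nat) tJ_P662 tJ_P663 (Nat.ble (nat_lit 663) j)) (Nat.ble (nat_lit 662) j)
noncomputable def tJ_s664_668 (j : Nat) : Nat := @Bool.rec (fun _ => Nat) (@Bool.rec (fun _ => Nat) tJ_P664 tJ_P665 (Nat.ble (nat_lit 665) j)) (@Bool.rec (fun _ => Nat) tJ_P666 tJ_P667 (Nat.ble (nat_lit 667) j)) (Nat.ble (nat_lit 666) j)
noncomputable def tJ_s668_672 (j : Nat) : Nat := @Bool.rec (fun _ => Nat) (@Bool.rec (fun _ => Nat) tJ_P668 tJ_P669 (Nat.ble (nat_lit 669) j)) (@Bool.rec (fun _ => Nat) tJ_P670 tJ_P671 (Nat.ble (nat_lit 671) j)) (Nat.ble (nat_lit 670) j)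
noncomputable def tJ_s672_676 (j : Nat) : Nat := @Bool.rec (fun _ => Nat) (@Bool.rec (fun _ => Nat) tJ_P672 tJ_P673 (Nat.ble (nat_lit 673) j)) (@Bool.rec (fun _ => Nat) tJ_P674 tJ_P675 (Nat.ble (nat_lit 675) j)) (Nat.ble (nat_lit 674) j)
noncomputable def tJ_s676_679 (j : Nat) : Nat := @Bool.rec (fun _ => Nat) tJ_P676 (@Bool.rec (fun _ => Nat) tJ_P677 tJ_P678 (Nat.ble (nat_lit 678) j)) (Nat.ble (nat_lit 677) j)
noncomputable def tJ_s679_683 (j : Nat) : Nat := @Bool.rec (fun _ => Nat) (@Bool.rec (fun _ => Nat) tJ_P679 tJ_P680 (Nat.ble (nat_lit 680) j)) (@Bool.rec (fun _ => Nat) tJ_P681 tJ_P682 (Nat.ble (nat_lit 682) j)) (Nat.ble (nat_lit 681) j)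
noncomputable def tJ_s683_687 (j : Nat) : Nat := @Bool.rec (fun _ => Nat) (@Bool.rec (fun _ => Nat) tJ_P683 tJ_P684 (Nat.ble (nat_lit 684) j)) (@Bool.rec (fun _ => Nat) tJ_P685 tJ_P686 (Nat.ble (nat_lit 686) j)) (Nat.ble (nat_lit 685) j)
noncomputable def tJ_s687_691 (j : Nat) : Nat := @Bool.rec (fun _ => Nat) (@Bool.rec (fun _ => Nat) tJ_P687 tJ_P688 (Nat.ble (nat_lit 688) j)) (@Bool.rec (fun _ => Nat) tJ_P689 tJ_P690 (Nat.ble (nat_lit 690) j)) (Nat.ble (nat_lit 689) j)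
noncomputable def tJ_s661_691 (j : Nat) : Nat := @Bool.rec (fun _ => Nat) (@Bool.rec (fun _ => Nat) (@Bool.rec (fun _ => Nat) (tJ_s661_664 j) (tJ_s664_668 j) (Nat.ble (nat_lit 664) j)) (@Bool.rec (fun _ => Nat) (tJ_s668_672 j) (tJ_s672_676 j) (Nat.ble (nat_lit 672) j)) (Nat.ble (nat_lit 668) j)) (@Bool.rec (fun _ => Nat) (@Bool.rec (fun _ => Nat) (tJ_s676_679 j) (tJ_s679_683 j) (Nat.ble (nat_lit 679) j)) (@Bool.rec (fun _ => Nat) (tJ_s683_687 j) (tJ_s687_691 j) (Nat.ble (nat_lit 687) j)) (Nat.ble (nat_lit 683) j)) (Nat.ble (nat_lit 676) j)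
noncomputable def tJ_s691_694 (j : Nat) : Nat := @Bool.rec (fun _ => Nat) tJ_P691 (@Bool.rec (fun _ => Nat) tJ_P692 tJ_P693 (Nat.ble (nat_lit 693) j)) (Nat.ble (nat_lit 692) j)
noncomputable def tJ_s694_698 (j : Nat) : Nat := @Bool.rec (fun _ => Nat) (@Bool.rec (fun _ => Nat) tJ_P694 tJ_P695 (Nat.ble (nat_lit 695) j)) (@Bool.rec (fun _ => Nat) tJ_P696 tJ_P697 (Nat.ble (nat_lit 697) j)) (Nat.ble (nat_lit 696) j)
noncomputable def tJ_s698_702 (j : Nat) : Nat := @Bool.rec (fun _ => Nat) (@Bool.rec (fun _ => Nat) tJ_P698 tJ_P699 (Nat.ble (nat_lit 699) j)) (@Bool.rec (fun _ => Nat) tJ_P700 tJ_P701 (Nat.ble (nat_lit 701) j)) (Nat.ble (nat_lit 700) j)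
noncomputable def tJ_s702_706 (j : Nat) : Nat := @Bool.rec (fun _ => Nat) (@Bool.rec (fun _ => Nat) tJ_P702 tJ_P703 (Nat.ble (nat_lit 703) j)) (@Bool.rec (fun _ => Nat) tJ_P704 tJ_P705 (Nat.ble (nat_lit 705) j)) (Nat.ble (nat_lit 704) j)
noncomputable def tJ_s706_710 (j : Nat) : Nat := @Bool.rec (fun _ => Nat) (@Bool.rec (fun _ => Nat) tJ_P706 tJ_P707 (Nat.ble (nat_lit 707) j)) (@Bool.rec (fun _ => Nat) tJ_P708 tJ_P709 (Nat.ble (nat_lit 709) j)) (Nat.ble (nat_lit 708) j)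
noncomputable def tJ_s710_714 (j : Nat) : Nat := @Bool.rec (fun _ => Nat) (@Bool.rec (fun _ => Nat) tJ_P710 tJ_P711 (Nat.ble (nat_lit 711) j)) (@Bool.rec (fun _ => Nat) tJ_P712 tJ_P713 (Nat.ble (nat_lit 713) j)) (Nat.ble (nat_lit 712) j)
noncomputable def tJ_s714_718 (j : Nat) : Nat := @Bool.rec (fun _ => Nat) (@Bool.rec (fun _ => Nat) tJ_P714 tJ_P715 (Nat.ble (nat_lit 715) j)) (@Bool.rec (fun _ => Nat) tJ_P716 tJ_P717 (Nat.ble (nat_lit 717) j)) (Nat.ble (nat_lit 716) j)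
noncomputable def tJ_s718_722 (j : Nat) : Nat := @Bool.rec (fun _ => Nat) (@Bool.rec (fun _ => Nat) tJ_P718 tJ_P719 (Nat.ble (nat_lit 719) j)) (@Bool.rec (fun _ => Nat) tJ_P720 tJ_P721 (Nat.ble (nat_lit 721) j)) (Nat.ble (nat_lit 720) j)
noncomputable def tJ_s691_722 (j : Nat) : Nat := @Bool.rec (fun _ => Nat) (@Bool.rec (fun _ => Nat) (@Bool.rec (fun _ => Nat) (tJ_s691_694 j) (tJ_s694_698 j) (Nat.ble (nat_lit 694) j)) (@Bool.rec (fun _ => Nat) (tJ_s698_702 j) (tJ_s702_706 j) (Nat.ble (nat_lit 702) j)) (Nat.ble (nat_lit 698) j)) (@Bool.rec (fun _ => Nat) (@Bool.rec (fun _ => Nat) (tJ_s706_710 j) (tJ_s710_714 j) (Nat.ble (nat_lit 710) j)) (@Bool.rec (fun _ => Nat) (tJ_s714_718 j) (tJ_s718_722 j) (Nat.ble (nat_lit 718) j)) (Nat.ble (nat_lit 714) j)) (Nat.ble (nat_lit 706) j)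
noncomputable def tJ_s481_722 (j : Nat) : Nat := @Bool.rec (fun _ => Nat) (@Bool.rec (fun _ => Nat) (@Bool.rec (fun _ => Nat) (tJ_s481_511 j) (tJ_s511_541 j) (Nat.ble (nat_lit 511) j)) (@Bool.rec (fun _ => Nat) (tJ_s541_571 j) (tJ_s571_601 j) (Nat.ble (nat_lit 571) j)) (Nat.ble (nat_lit 541) j)) (@Bool.rec (fun _ => Nat) (@Bool.rec (fun _ => Nat) (tJ_s601_631 j) (tJ_s631_661 j) (Nat.ble (nat_lit 631) j)) (@Bool.rec (fun _ => Nat) (tJ_s661_691 j) (tJ_s691_722 j) (Nat.ble (nat_lit 691) j)) (Nat.ble (nat_lit 661) j)) (Nat.ble (nat_lit 601) j)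
noncomputable def tJ_s722_725 (j : Nat) : Nat := @Bool.rec (fun _ => Nat) tJ_P722 (@Bool.rec (fun _ => Nat) tJ_P723 tJ_P724 (Nat.ble (nat_lit 724) j)) (Nat.ble (nat_lit 723) j)
noncomputable def tJ_s725_729 (j : Nat) : Nat := @Bool.rec (fun _ => Nat) (@Bool.rec (fun _ => Nat) tJ_P725 tJ_P726 (Nat.ble (nat_lit 726) j)) (@Bool.rec (fun _ => Nat) tJ_P727 tJ_P728 (Nat.ble (nat_lit 728) j)) (Nat.ble (nat_lit 727) j)
noncomputable def tJ_s729_733 (j : Nat) : Nat := @Bool.rec (fun _ => Nat) (@Bool.rec (fun _ => Nat) tJ_P729 tJ_P730 (Nat.ble (nat_lit 730) j)) (@Bool.rec (fun _ => Nat) tJ_P731 tJ_P732 (Nat.ble (nat_lit 732) j)) (Nat.ble (nat_lit 731) j)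
noncomputable def tJ_s733_737 (j : Nat) : Nat := @Bool.rec (fun _ => Nat) (@Bool.rec (fun _ => Nat) tJ_P733 tJ_P734 (Nat.ble (nat_lit 734) j)) (@Bool.rec (fun _ => Nat) tJ_P735 tJ_P736 (Nat.ble (nat_lit 736) j)) (Nat.ble (nat_lit 735) j)
noncomputable def tJ_s737_740 (j : Nat) : Nat := @Bool.rec (fun _ => Nat) tJ_P737 (@Bool.rec (fun _ => Nat) tJ_P738 tJ_P739 (Nat.ble (nat_lit 739) j)) (Nat.ble (nat_lit 738) j)
noncomputable def tJ_s740_744 (j : Nat) : Nat := @Bool.rec (fun _ => Nat) (@Bool.rec (fun _ => Nat) tJ_P740 tJ_P741 (Nat.ble (nat_lit 741) j)) (@Bool.rec (fun _ => Nat) tJ_P742 tJ_P743 (Nat.ble (nat_lit 743) j)) (Nat.ble (nat_lit 742) j)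
noncomputable def tJ_s744_748 (j : Nat) : Nat := @Bool.rec (fun _ => Nat) (@Bool.rec (fun _ => Nat) tJ_P744 tJ_P745 (Nat.ble (nat_lit 745) j)) (@Bool.rec (fun _ => Nat) tJ_P746 tJ_P747 (Nat.ble (nat_lit 747) j)) (Nat.ble (nat_lit 746) j)
noncomputable def tJ_s748_752 (j : Nat) : Nat := @Bool.rec (fun _ => Nat) (@Bool.rec (fun _ => Nat) tJ_P748 tJ_P749 (Nat.ble (nat_lit 749) j)) (@Bool.rec (fun _ => Nat) tJ_P750 tJ_P751 (Nat.ble (nat_lit 751) j)) (Nat.ble (nat_lit 750) j)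
noncomputable def tJ_s722_752 (j : Nat) : Nat := @Bool.rec (fun _ => Nat) (@Bool.rec (fun _ => Nat) (@Bool.rec (fun _ => Nat) (tJ_s722_725 j) (tJ_s725_729 j) (Nat.ble (nat_lit 725) j)) (@Bool.rec (fun _ => Nat) (tJ_s729_733 j) (tJ_s733_737 j) (Nat.ble (nat_lit 733) j)) (Nat.ble (nat_lit 729) j)) (@Bool.rec (fun _ => Nat) (@Bool.rec (fun _ => Nat) (tJ_s737_740 j) (tJ_s740_744 j) (Nat.ble (nat_lit 740) j)) (@Bool.rec (fun _ => Nat) (tJ_s744_748 j) (tJ_s748_752 j) (Nat.ble (nat_lit 748) j)) (Nat.ble (nat_lit 744) j)) (Nat.ble (nat_lit 737) j)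
noncomputable def tJ_s752_755 (j : Nat) : Nat := @Bool.rec (fun _ => Nat) tJ_P752 (@Bool.rec (fun _ => Nat) tJ_P753 tJ_P754 (Nat.ble (nat_lit 754) j)) (Nat.ble (nat_lit 753) j)
noncomputable def tJ_s755_759 (j : Nat) : Nat := @Bool.rec (fun _ => Nat) (@Bool.rec (fun _ => Nat) tJ_P755 tJ_P756 (Nat.ble (nat_lit 756) j)) (@Bool.rec (fun _ => Nat) tJ_P757 tJ_P758 (Nat.ble (nat_lit 758) j)) (Nat.ble (nat_lit 757) j)
noncomputable def tJ_s759_763 (j : Nat) : Nat := @Bool.rec (fun _ => Nat) (@Bool.rec (fun _ => Nat) tJ_P759 tJ_P760 (Nat.ble (nat_lit 760) j)) (@Bool.rec (fun _ => Nat) tJ_P761 tJ_P762 (Nat.ble (nat_lit 762) j)) (Nat.ble (nat_lit 761) j)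
noncomputable def tJ_s763_767 (j : Nat) : Nat := @Bool.rec (fun _ => Nat) (@Bool.rec (fun _ => Nat) tJ_P763 tJ_P764 (Nat.ble (nat_lit 764) j)) (@Bool.rec (fun _ => Nat) tJ_P765 tJ_P766 (Nat.ble (nat_lit 766) j)) (Nat.ble (nat_lit 765) j)
noncomputable def tJ_s767_770 (j : Nat) : Nat := @Bool.rec (fun _ => Nat) tJ_P767 (@Bool.rec (fun _ => Nat) tJ_P768 tJ_P769 (Nat.ble (nat_lit 769) j)) (Nat.ble (nat_lit 768) j)
noncomputable def tJ_s770_774 (j : Nat) : Nat := @Bool.rec (fun _ => Nat) (@Bool.rec (fun _ => Nat) tJ_P770 tJ_P771 (Nat.ble (nat_lit 771) j)) (@Bool.rec (fun _ => Nat) tJ_P772 tJ_P773 (Nat.ble (nat_lit 773) j)) (Nat.ble (nat_lit 772) j)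
noncomputable def tJ_s774_778 (j : Nat) : Nat := @Bool.rec (fun _ => Nat) (@Bool.rec (fun _ => Nat) tJ_P774 tJ_P775 (Nat.ble (nat_lit 775) j)) (@Bool.rec (fun _ => Nat) tJ_P776 tJ_P777 (Nat.ble (nat_lit 777) j)) (Nat.ble (nat_lit 776) j)
noncomputable def tJ_s778_782 (j : Nat) : Nat := @Bool.rec (fun _ => Nat) (@Bool.rec (fun _ => Nat) tJ_P778 tJ_P779 (Nat.ble (nat_lit 779) j)) (@Bool.rec (fun _ => Nat) tJ_P780 tJ_P781 (Nat.ble (nat_lit 781) j)) (Nat.ble (nat_lit 780) j)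
noncomputable def tJ_s752_782 (j : Nat) : Nat := @Bool.rec (fun _ => Nat) (@Bool.rec (fun _ => Nat) (@Bool.rec (fun _ => Nat) (tJ_s752_755 j) (tJ_s755_759 j) (Nat.ble (nat_lit 755) j)) (@Bool.rec (fun _ => Nat) (tJ_s759_763 j) (tJ_s763_767 j) (Nat.ble (nat_lit 763) j)) (Nat.ble (nat_lit 759) j)) (@Bool.rec (fun _ => Nat) (@Bool.rec (fun _ => Nat) (tJ_s767_770 j) (tJ_s770_774 j) (Nat.ble (nat_lit 770) j)) (@Bool.rec (fun _ => Nat) (tJ_s774_778 j) (tJ_s778_782 j) (Nat.ble (nat_lit 778) j)) (Nat.ble (nat_lit 774) j)) (Nat.ble (nat_lit 767) j)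
noncomputable def tJ_s782_785 (j : Nat) : Nat := @Bool.rec (fun _ => Nat) tJ_P782 (@Bool.rec (fun _ => Nat) tJ_P783 tJ_P784 (Nat.ble (nat_lit 784) j)) (Nat.ble (nat_lit 783) j)
noncomputable def tJ_s785_789 (j : Nat) : Nat := @Bool.rec (fun _ => Nat) (@Bool.rec (fun _ => Nat) tJ_P785 tJ_P786 (Nat.ble (nat_lit 786) j)) (@Bool.rec (fun _ => Nat) tJ_P787 tJ_P788 (Nat.ble (nat_lit 788) j)) (Nat.ble (nat_lit 787) j)
noncomputable def tJ_s789_793 (j : Nat) : Nat := @Bool.rec (fun _ => Nat) (@Bool.rec (fun _ => Nat) tJ_P789 tJ_P790 (Nat.ble (nat_lit 790) j)) (@Bool.rec (fun _ => Nat) tJ_P791 tJ_P792 (Nat.ble (nat_lit 792) j)) (Nat.ble (nat_lit 791) j)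
noncomputable def tJ_s793_797 (j : Nat) : Nat := @Bool.rec (fun _ => Nat) (@Bool.rec (fun _ => Nat) tJ_P793 tJ_P794 (Nat.ble (nat_lit 794) j)) (@Bool.rec (fun _ => Nat) tJ_P795 tJ_P796 (Nat.ble (nat_lit 796) j)) (Nat.ble (nat_lit 795) j)
noncomputable def tJ_s797_800 (j : Nat) : Nat := @Bool.rec (fun _ => Nat) tJ_P797 (@Bool.rec (fun _ => Nat) tJ_P798 tJ_P799 (Nat.ble (nat_lit 799) j)) (Nat.ble (nat_lit 798) j)
noncomputable def tJ_s800_804 (j : Nat) : Nat := @Bool.rec (fun _ => Nat) (@Bool.rec (fun _ => Nat) tJ_P800 tJ_P801 (Nat.ble (nat_lit 801) j)) (@Bool.rec (fun _ => Nat) tJ_P802 tJ_P803 (Nat.ble (nat_lit 803) j)) (Nat.ble (nat_lit 802) j)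
noncomputable def tJ_s804_808 (j : Nat) : Nat := @Bool.rec (fun _ => Nat) (@Bool.rec (fun _ => Nat) tJ_P804 tJ_P805 (Nat.ble (nat_lit 805) j)) (@Bool.rec (fun _ => Nat) tJ_P806 tJ_P807 (Nat.ble (nat_lit 807) j)) (Nat.ble (nat_lit 806) j)
noncomputable def tJ_s808_812 (j : Nat) : Nat := @Bool.rec (fun _ => Nat) (@Bool.rec (fun _ => Nat) tJ_P808 tJ_P809 (Nat.ble (nat_lit 809) j)) (@Bool.rec (fun _ => Nat) tJ_P810 tJ_P811 (Nat.ble (nat_lit 811) j)) (Nat.ble (nat_lit 810) j)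
noncomputable def tJ_s782_812 (j : Nat) : Nat := @Bool.rec (fun _ => Nat) (@Bool.rec (fun _ => Nat) (@Bool.rec (fun _ => Nat) (tJ_s782_785 j) (tJ_s785_789 j) (Nat.ble (nat_lit 785) j)) (@Bool.rec (fun _ => Nat) (tJ_s789_793 j) (tJ_s793_797 j) (Nat.ble (nat_lit 793) j)) (Nat.ble (nat_lit 789) j)) (@Bool.rec (fun _ => Nat) (@Bool.rec (fun _ => Nat) (tJ_s797_800 j) (tJ_s800_804 j) (Nat.ble (nat_lit 800) j)) (@Bool.rec (fun _ => Nat) (tJ_s804_808 j) (tJ_s808_812 j) (Nat.ble (nat_lit 808) j)) (Nat.ble (nat_lit 804) j)) (Nat.ble (nat_lit 797) j)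
noncomputable def tJ_s812_815 (j : Nat) : Nat := @Bool.rec (fun _ => Nat) tJ_P812 (@Bool.rec (fun _ => Nat) tJ_P813 tJ_P814 (Nat.ble (nat_lit 814) j)) (Nat.ble (nat_lit 813) j)
noncomputable def tJ_s815_819 (j : Nat) : Nat := @Bool.rec (fun _ => Nat) (@Bool.rec (fun _ => Nat) tJ_P815 tJ_P816 (Nat.ble (nat_lit 816) j)) (@Bool.rec (fun _ => Nat) tJ_P817 tJ_P818 (Nat.ble (nat_lit 818) j)) (Nat.ble (nat_lit 817) j)
noncomputable def tJ_s819_823 (j : Nat) : Nat := @Bool.rec (fun _ => Nat) (@Bool.rec (fun _ => Nat) tJ_P819 tJ_P820 (Nat.ble (nat_lit 820) j)) (@Bool.rec (fun _ => Nat) tJ_P821 tJ_P822 (Nat.ble (nat_lit 822) j)) (Nat.ble (nat_lit 821) j)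
noncomputable def tJ_s823_827 (j : Nat) : Nat := @Bool.rec (fun _ => Nat) (@Bool.rec (fun _ => Nat) tJ_P823 tJ_P824 (Nat.ble (nat_lit 824) j)) (@Bool.rec (fun _ => Nat) tJ_P825 tJ_P826 (Nat.ble (nat_lit 826) j)) (Nat.ble (nat_lit 825) j)
noncomputable def tJ_s827_830 (j : Nat) : Nat := @Bool.rec (fun _ => Nat) tJ_P827 (@Bool.rec (fun _ => Nat) tJ_P828 tJ_P829 (Nat.ble (nat_lit 829) j)) (Nat.ble (nat_lit 828) j)
noncomputable def tJ_s830_834 (j : Nat) : Nat := @Bool.rec (fun _ => Nat) (@Bool.rec (fun _ => Nat) tJ_P830 tJ_P831 (Nat.ble (nat_lit 831) j)) (@Bool.rec (fun _ => Nat) tJ_P832 tJ_P833 (Nat.ble (nat_lit 833) j)) (Nat.ble (nat_lit 832) j)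
noncomputable def tJ_s834_838 (j : Nat) : Nat := @Bool.rec (fun _ => Nat) (@Bool.rec (fun _ => Nat) tJ_P834 tJ_P835 (Nat.ble (nat_lit 835) j)) (@Bool.rec (fun _ => Nat) tJ_P836 tJ_P837 (Nat.ble (nat_lit 837) j)) (Nat.ble (nat_lit 836) j)
noncomputable def tJ_s838_842 (j : Nat) : Nat := @Bool.rec (fun _ => Nat) (@Bool.rec (fun _ => Nat) tJ_P838 tJ_P839 (Nat.ble (nat_lit 839) j)) (@Bool.rec (fun _ => Nat) tJ_P840 tJ_P841 (Nat.ble (nat_lit 841) j)) (Nat.ble (nat_lit 840) j)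
noncomputable def tJ_s812_842 (j : Nat) : Nat := @Bool.rec (fun _ => Nat) (@Bool.rec (fun _ => Nat) (@Bool.rec (fun _ => Nat) (tJ_s812_815 j) (tJ_s815_819 j) (Nat.ble (nat_lit 815) j)) (@Bool.rec (fun _ => Nat) (tJ_s819_823 j) (tJ_s823_827 j) (Nat.ble (nat_lit 823) j)) (Nat.ble (nat_lit 819) j)) (@Bool.rec (fun _ => Nat) (@Bool.rec (fun _ => Nat) (tJ_s827_830 j) (tJ_s830_834 j) (Nat.ble (nat_lit 830) j)) (@Bool.rec (fun _ => Nat) (tJ_s834_838 j) (tJ_s838_842 j) (Nat.ble (nat_lit 838) j)) (Nat.ble (nat_lit 834) j)) (Nat.ble (nat_lit 827) j)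
noncomputable def tJ_s842_845 (j : Nat) : Nat := @Bool.rec (fun _ => Nat) tJ_P842 (@Bool.rec (fun _ => Nat) tJ_P843 tJ_P844 (Nat.ble (nat_lit 844) j)) (Nat.ble (nat_lit 843) j)
noncomputable def tJ_s845_849 (j : Nat) : Nat := @Bool.rec (fun _ => Nat) (@Bool.rec (fun _ => Nat) tJ_P845 tJ_P846 (Nat.ble (nat_lit 846) j)) (@Bool.rec (fun _ => Nat) tJ_P847 tJ_P848 (Nat.ble (nat_lit 848) j)) (Nat.ble (nat_lit 847) j)
noncomputable def tJ_s849_853 (j : Nat) : Nat := @Bool.rec (fun _ => Nat) (@Bool.rec (fun _ => Nat) tJ_P849 tJ_P850 (Nat.ble (nat_lit 850) j)) (@Bool.rec (fun _ => Nat) tJ_P851 tJ_P852 (Nat.ble (nat_lit 852) j)) (Nat.ble (nat_lit 851) j)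
noncomputable def tJ_s853_857 (j : Nat) : Nat := @Bool.rec (fun _ => Nat) (@Bool.rec (fun _ => Nat) tJ_P853 tJ_P854 (Nat.ble (nat_lit 854) j)) (@Bool.rec (fun _ => Nat) tJ_P855 tJ_P856 (Nat.ble (nat_lit 856) j)) (Nat.ble (nat_lit 855) j)
noncomputable def tJ_s857_860 (j : Nat) : Nat := @Bool.rec (fun _ => Nat) tJ_P857 (@Bool.rec (fun _ => Nat) tJ_P858 tJ_P859 (Nat.ble (nat_lit 859) j)) (Nat.ble (nat_lit 858) j)
noncomputable def tJ_s860_864 (j : Nat) : Nat := @Bool.rec (fun _ => Nat) (@Bool.rec (fun _ => Nat) tJ_P860 tJ_P861 (Nat.ble (nat_lit 861) j)) (@Bool.rec (fun _ => Nat) tJ_P862 tJ_P863 (Nat.ble (nat_lit 863) j)) (Nat.ble (nat_lit 862) j)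
noncomputable def tJ_s864_868 (j : Nat) : Nat := @Bool.rec (fun _ => Nat) (@Bool.rec (fun _ => Nat) tJ_P864 tJ_P865 (Nat.ble (nat_lit 865) j)) (@Bool.rec (fun _ => Nat) tJ_P866 tJ_P867 (Nat.ble (nat_lit 867) j)) (Nat.ble (nat_lit 866) j)
noncomputable def tJ_s868_872 (j : Nat) : Nat := @Bool.rec (fun _ => Nat) (@Bool.rec (fun _ => Nat) tJ_P868 tJ_P869 (Nat.ble (nat_lit 869) j)) (@Bool.rec (fun _ => Nat) tJ_P870 tJ_P871 (Nat.ble (nat_lit 871) j)) (Nat.ble (nat_lit 870) j)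
noncomputable def tJ_s842_872 (j : Nat) : Nat := @Bool.rec (fun _ => Nat) (@Bool.rec (fun _ => Nat) (@Bool.rec (fun _ => Nat) (tJ_s842_845 j) (tJ_s845_849 j) (Nat.ble (nat_lit 845) j)) (@Bool.rec (fun _ => Nat) (tJ_s849_853 j) (tJ_s853_857 j) (Nat.ble (nat_lit 853) j)) (Nat.ble (nat_lit 849) j)) (@Bool.rec (fun _ => Nat) (@Bool.rec (fun _ => Nat) (tJ_s857_860 j) (tJ_s860_864 j) (Nat.ble (nat_lit 860) j)) (@Bool.rec (fun _ => Nat) (tJ_s864_868 j) (tJ_s868_872 j) (Nat.ble (nat_lit 868) j)) (Nat.ble (nat_lit 864) j)) (Nat.ble (nat_lit 857) j)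
noncomputable def tJ_s872_875 (j : Nat) : Nat := @Bool.rec (fun _ => Nat) tJ_P872 (@Bool.rec (fun _ => Nat) tJ_P873 tJ_P874 (Nat.ble (nat_lit 874) j)) (Nat.ble (nat_lit 873) j)
noncomputable def tJ_s875_879 (j : Nat) : Nat := @Bool.rec (fun _ => Nat) (@Bool.rec (fun _ => Nat) tJ_P875 tJ_P876 (Nat.ble (nat_lit 876) j)) (@Bool.rec (fun _ => Nat) tJ_P877 tJ_P878 (Nat.ble (nat_lit 878) j)) (Nat.ble (nat_lit 877) j)
noncomputable def tJ_s879_883 (j : Nat) : Nat := @Bool.rec (fun _ => Nat) (@Bool.rec (fun _ => Nat) tJ_P879 tJ_P880 (Nat.ble (nat_lit 880) j)) (@Bool.rec (fun _ => Nat) tJ_P881 tJ_P882 (Nat.ble (nat_lit 882) j)) (Nat.ble (nat_lit 881) j)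
noncomputable def tJ_s883_887 (j : Nat) : Nat := @Bool.rec (fun _ => Nat) (@Bool.rec (fun _ => Nat) tJ_P883 tJ_P884 (Nat.ble (nat_lit 884) j)) (@Bool.rec (fun _ => Nat) tJ_P885 tJ_P886 (Nat.ble (nat_lit 886) j)) (Nat.ble (nat_lit 885) j)
noncomputable def tJ_s887_890 (j : Nat) : Nat := @Bool.rec (fun _ => Nat) tJ_P887 (@Bool.rec (fun _ => Nat) tJ_P888 tJ_P889 (Nat.ble (nat_lit 889) j)) (Nat.ble (nat_lit 888) j)
noncomputable def tJ_s890_894 (j : Nat) : Nat := @Bool.rec (fun _ => Nat) (@Bool.rec (fun _ => Nat) tJ_P890 tJ_P891 (Nat.ble (nat_lit 891) j)) (@Bool.rec (fun _ => Nat) tJ_P892 tJ_P893 (Nat.ble (nat_lit 893) j)) (Nat.ble (nat_lit 892) j)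
noncomputable def tJ_s894_898 (j : Nat) : Nat := @Bool.rec (fun _ => Nat) (@Bool.rec (fun _ => Nat) tJ_P894 tJ_P895 (Nat.ble (nat_lit 895) j)) (@Bool.rec (fun _ => Nat) tJ_P896 tJ_P897 (Nat.ble (nat_lit 897) j)) (Nat.ble (nat_lit 896) j)
noncomputable def tJ_s898_902 (j : Nat) : Nat := @Bool.rec (fun _ => Nat) (@Bool.rec (fun _ => Nat) tJ_P898 tJ_P899 (Nat.ble (nat_lit 899) j)) (@Bool.rec (fun _ => Nat) tJ_P900 tJ_P901 (Nat.ble (nat_lit 901) j)) (Nat.ble (nat_lit 900) j)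
noncomputable def tJ_s872_902 (j : Nat) : Nat := @Bool.rec (fun _ => Nat) (@Bool.rec (fun _ => Nat) (@Bool.rec (fun _ => Nat) (tJ_s872_875 j) (tJ_s875_879 j) (Nat.ble (nat_lit 875) j)) (@Bool.rec (fun _ => Nat) (tJ_s879_883 j) (tJ_s883_887 j) (Nat.ble (nat_lit 883) j)) (Nat.ble (nat_lit 879) j)) (@Bool.rec (fun _ => Nat) (@Bool.rec (fun _ => Nat) (tJ_s887_890 j) (tJ_s890_894 j) (Nat.ble (nat_lit 890) j)) (@Bool.rec (fun _ => Nat) (tJ_s894_898 j) (tJ_s898_902 j) (Nat.ble (nat_lit 898) j)) (Nat.ble (nat_lit 894) j)) (Nat.ble (nat_lit 887) j)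
noncomputable def tJ_s902_905 (j : Nat) : Nat := @Bool.rec (fun _ => Nat) tJ_P902 (@Bool.rec (fun _ => Nat) tJ_P903 tJ_P904 (Nat.ble (nat_lit 904) j)) (Nat.ble (nat_lit 903) j)
noncomputable def tJ_s905_909 (j : Nat) : Nat := @Bool.rec (fun _ => Nat) (@Bool.rec (fun _ => Nat) tJ_P905 tJ_P906 (Nat.ble (nat_lit 906) j)) (@Bool.rec (fun _ => Nat) tJ_P907 tJ_P908 (Nat.ble (nat_lit 908) j)) (Nat.ble (nat_lit 907) j)
noncomputable def tJ_s909_913 (j : Nat) : Nat := @Bool.rec (fun _ => Nat) (@Bool.rec (fun _ => Nat) tJ_P909 tJ_P910 (Nat.ble (nat_lit 910) j)) (@Bool.rec (fun _ => Nat) tJ_P911 tJ_P912 (Nat.ble (nat_lit 912) j)) (Nat.ble (nat_lit 911) j)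
noncomputable def tJ_s913_917 (j : Nat) : Nat := @Bool.rec (fun _ => Nat) (@Bool.rec (fun _ => Nat) tJ_P913 tJ_P914 (Nat.ble (nat_lit 914) j)) (@Bool.rec (fun _ => Nat) tJ_P915 tJ_P916 (Nat.ble (nat_lit 916) j)) (Nat.ble (nat_lit 915) j)
noncomputable def tJ_s917_920 (j : Nat) : Nat := @Bool.rec (fun _ => Nat) tJ_P917 (@Bool.rec (fun _ => Nat) tJ_P918 tJ_P919 (Nat.ble (nat_lit 919) j)) (Nat.ble (nat_lit 918) j)
noncomputable def tJ_s920_924 (j : Nat) : Nat := @Bool.rec (fun _ => Nat) (@Bool.rec (fun _ => Nat) tJ_P920 tJ_P921 (Nat.ble (nat_lit 921) j)) (@Bool.rec (fun _ => Nat) tJ_P922 tJ_P923 (Nat.ble (nat_lit 923) j)) (Nat.ble (nat_lit 922) j)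
noncomputable def tJ_s924_928 (j : Nat) : Nat := @Bool.rec (fun _ => Nat) (@Bool.rec (fun _ => Nat) tJ_P924 tJ_P925 (Nat.ble (nat_lit 925) j)) (@Bool.rec (fun _ => Nat) tJ_P926 tJ_P927 (Nat.ble (nat_lit 927) j)) (Nat.ble (nat_lit 926) j)
noncomputable def tJ_s928_932 (j : Nat) : Nat := @Bool.rec (fun _ => Nat) (@Bool.rec (fun _ => Nat) tJ_P928 tJ_P929 (Nat.ble (nat_lit 929) j)) (@Bool.rec (fun _ => Nat) tJ_P930 tJ_P931 (Nat.ble (nat_lit 931) j)) (Nat.ble (nat_lit 930) j)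
noncomputable def tJ_s902_932 (j : Nat) : Nat := @Bool.rec (fun _ => Nat) (@Bool.rec (fun _ => Nat) (@Bool.rec (fun _ => Nat) (tJ_s902_905 j) (tJ_s905_909 j) (Nat.ble (nat_lit 905) j)) (@Bool.rec (fun _ => Nat) (tJ_s909_913 j) (tJ_s913_917 j) (Nat.ble (nat_lit 913) j)) (Nat.ble (nat_lit 909) j)) (@Bool.rec (fun _ => Nat) (@Bool.rec (fun _ => Nat) (tJ_s917_920 j) (tJ_s920_924 j) (Nat.ble (nat_lit 920) j)) (@Bool.rec (fun _ => Nat) (tJ_s924_928 j) (tJ_s928_932 j) (Nat.ble (nat_lit 928) j)) (Nat.ble (nat_lit 924) j)) (Nat.ble (nat_lit 917) j)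
noncomputable def tJ_s932_935 (j : Nat) : Nat := @Bool.rec (fun _ => Nat) tJ_P932 (@Bool.rec (fun _ => Nat) tJ_P933 tJ_P934 (Nat.ble (nat_lit 934) j)) (Nat.ble (nat_lit 933) j)
noncomputable def tJ_s935_939 (j : Nat) : Nat := @Bool.rec (fun _ => Nat) (@Bool.rec (fun _ => Nat) tJ_P935 tJ_P936 (Nat.ble (nat_lit 936) j)) (@Bool.rec (fun _ => Nat) tJ_P937 tJ_P938 (Nat.ble (nat_lit 938) j)) (Nat.ble (nat_lit 937) j)
noncomputable def tJ_s939_943 (j : Nat) : Nat := @Bool.rec (fun _ => Nat) (@Bool.rec (fun _ => Nat) tJ_P939 tJ_P940 (Nat.ble (nat_lit 940) j)) (@Bool.rec (fun _ => Nat) tJ_P941 tJ_P942 (Nat.ble (nat_lit 942) j)) (Nat.ble (nat_lit 941) j)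
noncomputable def tJ_s943_947 (j : Nat) : Nat := @Bool.rec (fun _ => Nat) (@Bool.rec (fun _ => Nat) tJ_P943 tJ_P944 (Nat.ble (nat_lit 944) j)) (@Bool.rec (fun _ => Nat) tJ_P945 tJ_P946 (Nat.ble (nat_lit 946) j)) (Nat.ble (nat_lit 945) j)
noncomputable def tJ_s947_951 (j : Nat) : Nat := @Bool.rec (fun _ => Nat) (@Bool.rec (fun _ => Nat) tJ_P947 tJ_P948 (Nat.ble (nat_lit 948) j)) (@Bool.rec (fun _ => Nat) tJ_P949 tJ_P950 (Nat.ble (nat_lit 950) j)) (Nat.ble (nat_lit 949) j)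
noncomputable def tJ_s951_955 (j : Nat) : Nat := @Bool.rec (fun _ => Nat) (@Bool.rec (fun _ => Nat) tJ_P951 tJ_P952 (Nat.ble (nat_lit 952) j)) (@Bool.rec (fun _ => Nat) tJ_P953 tJ_P954 (Nat.ble (nat_lit 954) j)) (Nat.ble (nat_lit 953) j)
noncomputable def tJ_s955_959 (j : Nat) : Nat := @Bool.rec (fun _ => Nat) (@Bool.rec (fun _ => Nat) tJ_P955 tJ_P956 (Nat.ble (nat_lit 956) j)) (@Bool.rec (fun _ => Nat) tJ_P957 tJ_P958 (Nat.ble (nat_lit 958) j)) (Nat.ble (nat_lit 957) j)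
noncomputable def tJ_s959_963 (j : Nat) : Nat := @Bool.rec (fun _ => Nat) (@Bool.rec (fun _ => Nat) tJ_P959 tJ_P960 (Nat.ble (nat_lit 960) j)) (@Bool.rec (fun _ => Nat) tJ_P961 tJ_P962 (Nat.ble (nat_lit 962) j)) (Nat.ble (nat_lit 961) j)
noncomputable def tJ_s932_963 (j : Nat) : Nat := @Bool.rec (fun _ => Nat) (@Bool.rec (fun _ => Nat) (@Bool.rec (fun _ => Nat) (tJ_s932_935 j) (tJ_s935_939 j) (Nat.ble (nat_lit 935) j)) (@Bool.rec (fun _ => Nat) (tJ_s939_943 j) (tJ_s943_947 j) (Nat.ble (nat_lit 943) j)) (Nat.ble (nat_lit 939) j)) (@Bool.rec (fun _ => Nat) (@Bool.rec (fun _ => Nat) (tJ_s947_951 j) (tJ_s951_955 j) (Nat.ble (nat_lit 951) j)) (@Bool.rec (fun _ => Nat) (tJ_s955_959 j) (tJ_s959_963 j) (Nat.ble (nat_lit 959) j)) (Nat.ble (nat_lit 955) j)) (Nat.ble (nat_lit 947) j)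
noncomputable def tJ_s722_963 (j : Nat) : Nat := @Bool.rec (fun _ => Nat) (@Bool.rec (fun _ => Nat) (@Bool.rec (fun _ => Nat) (tJ_s722_752 j) (tJ_s752_782 j) (Nat.ble (nat_lit 752) j)) (@Bool.rec (fun _ => Nat) (tJ_s782_812 j) (tJ_s812_842 j) (Nat.ble (nat_lit 812) j)) (Nat.ble (nat_lit 782) j)) (@Bool.rec (fun _ => Nat) (@Bool.rec (fun _ => Nat) (tJ_s842_872 j) (tJ_s872_902 j) (Nat.ble (nat_lit 872) j)) (@Bool.rec (fun _ => Nat) (tJ_s902_932 j) (tJ_s932_963 j) (Nat.ble (nat_lit 932) j)) (Nat.ble (nat_lit 902) j)) (Nat.ble (nat_lit 842) j)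
noncomputable def tJ_s963_966 (j : Nat) : Nat := @Bool.rec (fun _ => Nat) tJ_P963 (@Bool.rec (fun _ => Nat) tJ_P964 tJ_P965 (Nat.ble (nat_lit 965) j)) (Nat.ble (nat_lit 964) j)
noncomputable def tJ_s966_970 (j : Nat) : Nat := @Bool.rec (fun _ => Nat) (@Bool.rec (fun _ => Nat) tJ_P966 tJ_P967 (Nat.ble (nat_lit 967) j)) (@Bool.rec (fun _ => Nat) tJ_P968 tJ_P969 (Nat.ble (nat_lit 969) j)) (Nat.ble (nat_lit 968) j)
noncomputable def tJ_s970_974 (j : Nat) : Nat := @Bool.rec (fun _ => Nat) (@Bool.rec (fun _ => Nat) tJ_P970 tJ_P971 (Nat.ble (nat_lit 971) j)) (@Bool.rec (fun _ => Nat) tJ_P972 tJ_P973 (Nat.ble (nat_lit 973) j)) (Nat.ble (nat_lit 972) j)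
noncomputable def tJ_s974_978 (j : Nat) : Nat := @Bool.rec (fun _ => Nat) (@Bool.rec (fun _ => Nat) tJ_P974 tJ_P975 (Nat.ble (nat_lit 975) j)) (@Bool.rec (fun _ => Nat) tJ_P976 tJ_P977 (Nat.ble (nat_lit 977) j)) (Nat.ble (nat_lit 976) j)
noncomputable def tJ_s978_981 (j : Nat) : Nat := @Bool.rec (fun _ => Nat) tJ_P978 (@Bool.rec (fun _ => Nat) tJ_P979 tJ_P980 (Nat.ble (nat_lit 980) j)) (Nat.ble (nat_lit 979) j)
noncomputable def tJ_s981_985 (j : Nat) : Nat := @Bool.rec (fun _ => Nat) (@Bool.rec (fun _ => Nat) tJ_P981 tJ_P982 (Nat.ble (nat_lit 982) j)) (@Bool.rec (fun _ => Nat) tJ_P983 tJ_P984 (Nat.ble (nat_lit 984) j)) (Nat.ble (nat_lit 983) j)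
noncomputable def tJ_s985_989 (j : Nat) : Nat := @Bool.rec (fun _ => Nat) (@Bool.rec (fun _ => Nat) tJ_P985 tJ_P986 (Nat.ble (nat_lit 986) j)) (@Bool.rec (fun _ => Nat) tJ_P987 tJ_P988 (Nat.ble (nat_lit 988) j)) (Nat.ble (nat_lit 987) j)
noncomputable def tJ_s989_993 (j : Nat) : Nat := @Bool.rec (fun _ => Nat) (@Bool.rec (fun _ => Nat) tJ_P989 tJ_P990 (Nat.ble (nat_lit 990) j)) (@Bool.rec (fun _ => Nat) tJ_P991 tJ_P992 (Nat.ble (nat_lit 992) j)) (Nat.ble (nat_lit 991) j)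
noncomputable def tJ_s963_993 (j : Nat) : Nat := @Bool.rec (fun _ => Nat) (@Bool.rec (fun _ => Nat) (@Bool.rec (fun _ => Nat) (tJ_s963_966 j) (tJ_s966_970 j) (Nat.ble (nat_lit 966) j)) (@Bool.rec (fun _ => Nat) (tJ_s970_974 j) (tJ_s974_978 j) (Nat.ble (nat_lit 974) j)) (Nat.ble (nat_lit 970) j)) (@Bool.rec (fun _ => Nat) (@Bool.rec (fun _ => Nat) (tJ_s978_981 j) (tJ_s981_985 j) (Nat.ble (nat_lit 981) j)) (@Bool.rec (fun _ => Nat) (tJ_s985_989 j) (tJ_s989_993 j) (Nat.ble (nat_lit 989) j)) (Nat.ble (nat_lit 985) j)) (Nat.ble (nat_lit 978) j)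
noncomputable def tJ_s993_996 (j : Nat) : Nat := @Bool.rec (fun _ => Nat) tJ_P993 (@Bool.rec (fun _ => Nat) tJ_P994 tJ_P995 (Nat.ble (nat_lit 995) j)) (Nat.ble (nat_lit 994) j)
noncomputable def tJ_s996_1000 (j : Nat) : Nat := @Bool.rec (fun _ => Nat) (@Bool.rec (fun _ => Nat) tJ_P996 tJ_P997 (Nat.ble (nat_lit 997) j)) (@Bool.rec (fun _ => Nat) tJ_P998 tJ_P999 (Nat.ble (nat_lit 999) j)) (Nat.ble (nat_lit 998) j)
noncomputable def tJ_s1000_1004 (j : Nat) : Nat := @Bool.rec (fun _ => Nat) (@Bool.rec (fun _ => Nat) tJ_P1000 tJ_P1001 (Nat.ble (nat_lit 1001) j)) (@Bool.rec (fun _ => Nat) tJ_P1002 tJ_P1003 (Nat.ble (nat_lit 1003) j)) (Nat.ble (nat_lit 1002) j)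
noncomputable def tJ_s1004_1008 (j : Nat) : Nat := @Bool.rec (fun _ => Nat) (@Bool.rec (fun _ => Nat) tJ_P1004 tJ_P1005 (Nat.ble (nat_lit 1005) j)) (@Bool.rec (fun _ => Nat) tJ_P1006 tJ_P1007 (Nat.ble (nat_lit 1007) j)) (Nat.ble (nat_lit 1006) j)
noncomputable def tJ_s1008_1011 (j : Nat) : Nat := @Bool.rec (fun _ => Nat) tJ_P1008 (@Bool.rec (fun _ => Nat) tJ_P1009 tJ_P1010 (Nat.ble (nat_lit 1010) j)) (Nat.ble (nat_lit 1009) j)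
noncomputable def tJ_s1011_1015 (j : Nat) : Nat := @Bool.rec (fun _ => Nat) (@Bool.rec (fun _ => Nat) tJ_P1011 tJ_P1012 (Nat.ble (nat_lit 1012) j)) (@Bool.rec (fun _ => Nat) tJ_P1013 tJ_P1014 (Nat.ble (nat_lit 1014) j)) (Nat.ble (nat_lit 1013) j)
noncomputable def tJ_s1015_1019 (j : Nat) : Nat := @Bool.rec (fun _ => Nat) (@Bool.rec (fun _ => Nat) tJ_P1015 tJ_P1016 (Nat.ble (nat_lit 1016) j)) (@Bool.rec (fun _ => Nat) tJ_P1017 tJ_P1018 (Nat.ble (nat_lit 1018) j)) (Nat.ble (nat_lit 1017) j)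
noncomputable def tJ_s1019_1023 (j : Nat) : Nat := @Bool.rec (fun _ => Nat) (@Bool.rec (fun _ => Nat) tJ_P1019 tJ_P1020 (Nat.ble (nat_lit 1020) j)) (@Bool.rec (fun _ => Nat) tJ_P1021 tJ_P1022 (Nat.ble (nat_lit 1022) j)) (Nat.ble (nat_lit 1021) j)
noncomputable def tJ_s993_1023 (j : Nat) : Nat := @Bool.rec (fun _ => Nat) (@Bool.rec (fun _ => Nat) (@Bool.rec (fun _ => Nat) (tJ_s993_996 j) (tJ_s996_1000 j) (Nat.ble (nat_lit 996) j)) (@Bool.rec (fun _ => Nat) (tJ_s1000_1004 j) (tJ_s1004_1008 j) (Nat.ble (nat_lit 1004) j)) (Nat.ble (nat_lit 1000) j)) (@Bool.rec (fun _ => Nat) (@Bool.rec (fun _ => Nat) (tJ_s1008_1011 j) (tJ_s1011_1015 j) (Nat.ble (nat_lit 1011) j)) (@Bool.rec (fun _ => Nat) (tJ_s1015_1019 j) (tJ_s1019_1023 j) (Nat.ble (nat_lit 1019) j)) (Nat.ble (nat_lit 1015) j)) (Nat.ble (nat_lit 1008) j)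
noncomputable def tJ_s1023_1026 (j : Nat) : Nat := @Bool.rec (fun _ => Nat) tJ_P1023 (@Bool.rec (fun _ => Nat) tJ_P1024 tJ_P1025 (Nat.ble (nat_lit 1025) j)) (Nat.ble (nat_lit 1024) j)
noncomputable def tJ_s1026_1030 (j : Nat) : Nat := @Bool.rec (fun _ => Nat) (@Bool.rec (fun _ => Nat) tJ_P1026 tJ_P1027 (Nat.ble (nat_lit 1027) j)) (@Bool.rec (fun _ => Nat) tJ_P1028 tJ_P1029 (Nat.ble (nat_lit 1029) j)) (Nat.ble (nat_lit 1028) j)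
noncomputable def tJ_s1030_1034 (j : Nat) : Nat := @Bool.rec (fun _ => Nat) (@Bool.rec (fun _ => Nat) tJ_P1030 tJ_P1031 (Nat.ble (nat_lit 1031) j)) (@Bool.rec (fun _ => Nat) tJ_P1032 tJ_P1033 (Nat.ble (nat_lit 1033) j)) (Nat.ble (nat_lit 1032) j)
noncomputable def tJ_s1034_1038 (j : Nat) : Nat := @Bool.rec (fun _ => Nat) (@Bool.rec (fun _ => Nat) tJ_P1034 tJ_P1035 (Nat.ble (nat_lit 1035) j)) (@Bool.rec (fun _ => Nat) tJ_P1036 tJ_P1037 (Nat.ble (nat_lit 1037) j)) (Nat.ble (nat_lit 1036) j)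
noncomputable def tJ_s1038_1041 (j : Nat) : Nat := @Bool.rec (fun _ => Nat) tJ_P1038 (@Bool.rec (fun _ => Nat) tJ_P1039 tJ_P1040 (Nat.ble (nat_lit 1040) j)) (Nat.ble (nat_lit 1039) j)
noncomputable def tJ_s1041_1045 (j : Nat) : Nat := @Bool.rec (fun _ => Nat) (@Bool.rec (fun _ => Nat) tJ_P1041 tJ_P1042 (Nat.ble (nat_lit 1042) j)) (@Bool.rec (fun _ => Nat) tJ_P1043 tJ_P1044 (Nat.ble (nat_lit 1044) j)) (Nat.ble (nat_lit 1043) j)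
noncomputable def tJ_s1045_1049 (j : Nat) : Nat := @Bool.rec (fun _ => Nat) (@Bool.rec (fun _ => Nat) tJ_P1045 tJ_P1046 (Nat.ble (nat_lit 1046) j)) (@Bool.rec (fun _ => Nat) tJ_P1047 tJ_P1048 (Nat.ble (nat_lit 1048) j)) (Nat.ble (nat_lit 1047) j)
noncomputable def tJ_s1049_1053 (j : Nat) : Nat := @Bool.rec (fun _ => Nat) (@Bool.rec (fun _ => Nat) tJ_P1049 tJ_P1050 (Nat.ble (nat_lit 1050) j)) (@Bool.rec (fun _ => Nat) tJ_P1051 tJ_P1052 (Nat.ble (nat_lit 1052) j)) (Nat.ble (nat_lit 1051) j)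
noncomputable def tJ_s1023_1053 (j : Nat) : Nat := @Bool.rec (fun _ => Nat) (@Bool.rec (fun _ => Nat) (@Bool.rec (fun _ => Nat) (tJ_s1023_1026 j) (tJ_s1026_1030 j) (Nat.ble (nat_lit 1026) j)) (@Bool.rec (fun _ => Nat) (tJ_s1030_1034 j) (tJ_s1034_1038 j) (Nat.ble (nat_lit 1034) j)) (Nat.ble (nat_lit 1030) j)) (@Bool.rec (fun _ => Nat) (@Bool.rec (fun _ => Nat) (tJ_s1038_1041 j) (tJ_s1041_1045 j) (Nat.ble (nat_lit 1041) j)) (@Bool.rec (fun _ => Nat) (tJ_s1045_1049 j) (tJ_s1049_1053 j) (Nat.ble (nat_lit 1049) j)) (Nat.ble (nat_lit 1045) j)) (Nat.ble (nat_lit 1038) j)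
noncomputable def tJ_s1053_1056 (j : Nat) : Nat := @Bool.rec (fun _ => Nat) tJ_P1053 (@Bool.rec (fun _ => Nat) tJ_P1054 tJ_P1055 (Nat.ble (nat_lit 1055) j)) (Nat.ble (nat_lit 1054) j)
noncomputable def tJ_s1056_1060 (j : Nat) : Nat := @Bool.rec (fun _ => Nat) (@Bool.rec (fun _ => Nat) tJ_P1056 tJ_P1057 (Nat.ble (nat_lit 1057) j)) (@Bool.rec (fun _ => Nat) tJ_P1058 tJ_P1059 (Nat.ble (nat_lit 1059) j)) (Nat.ble (nat_lit 1058) j)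
noncomputable def tJ_s1060_1064 (j : Nat) : Nat := @Bool.rec (fun _ => Nat) (@Bool.rec (fun _ => Nat) tJ_P1060 tJ_P1061 (Nat.ble (nat_lit 1061) j)) (@Bool.rec (fun _ => Nat) tJ_P1062 tJ_P1063 (Nat.ble (nat_lit 1063) j)) (Nat.ble (nat_lit 1062) j)
noncomputable def tJ_s1064_1068 (j : Nat) : Nat := @Bool.rec (fun _ => Nat) (@Bool.rec (fun _ => Nat) tJ_P1064 tJ_P1065 (Nat.ble (nat_lit 1065) j)) (@Bool.rec (fun _ => Nat) tJ_P1066 tJ_P1067 (Nat.ble (nat_lit 1067) j)) (Nat.ble (nat_lit 1066) j)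
noncomputable def tJ_s1068_1071 (j : Nat) : Nat := @Bool.rec (fun _ => Nat) tJ_P1068 (@Bool.rec (fun _ => Nat) tJ_P1069 tJ_P1070 (Nat.ble (nat_lit 1070) j)) (Nat.ble (nat_lit 1069) j)
noncomputable def tJ_s1071_1075 (j : Nat) : Nat := @Bool.rec (fun _ => Nat) (@Bool.rec (fun _ => Nat) tJ_P1071 tJ_P1072 (Nat.ble (nat_lit 1072) j)) (@Bool.rec (fun _ => Nat) tJ_P1073 tJ_P1074 (Nat.ble (nat_lit 1074) j)) (Nat.ble (nat_lit 1073) j)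
noncomputable def tJ_s1075_1079 (j : Nat) : Nat := @Bool.rec (fun _ => Nat) (@Bool.rec (fun _ => Nat) tJ_P1075 tJ_P1076 (Nat.ble (nat_lit 1076) j)) (@Bool.rec (fun _ => Nat) tJ_P1077 tJ_P1078 (Nat.ble (nat_lit 1078) j)) (Nat.ble (nat_lit 1077) j)
noncomputable def tJ_s1079_1083 (j : Nat) : Nat := @Bool.rec (fun _ => Nat) (@Bool.rec (fun _ => Nat) tJ_P1079 tJ_P1080 (Nat.ble (nat_lit 1080) j)) (@Bool.rec (fun _ => Nat) tJ_P1081 tJ_P1082 (Nat.ble (nat_lit 1082) j)) (Nat.ble (nat_lit 1081) j)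
noncomputable def tJ_s1053_1083 (j : Nat) : Nat := @Bool.rec (fun _ => Nat) (@Bool.rec (fun _ => Nat) (@Bool.rec (fun _ => Nat) (tJ_s1053_1056 j) (tJ_s1056_1060 j) (Nat.ble (nat_lit 1056) j)) (@Bool.rec (fun _ => Nat) (tJ_s1060_1064 j) (tJ_s1064_1068 j) (Nat.ble (nat_lit 1064) j)) (Nat.ble (nat_lit 1060) j)) (@Bool.rec (fun _ => Nat) (@Bool.rec (fun _ => Nat) (tJ_s1068_1071 j) (tJ_s1071_1075 j) (Nat.ble (nat_lit 1071) j)) (@Bool.rec (fun _ => Nat) (tJ_s1075_1079 j) (tJ_s1079_1083 j) (Nat.ble (nat_lit 1079) j)) (Nat.ble (nat_lit 1075) j)) (Nat.ble (nat_lit 1068) j)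
noncomputable def tJ_s1083_1086 (j : Nat) : Nat := @Bool.rec (fun _ => Nat) tJ_P1083 (@Bool.rec (fun _ => Nat) tJ_P1084 tJ_P1085 (Nat.ble (nat_lit 1085) j)) (Nat.ble (nat_lit 1084) j)
noncomputable def tJ_s1086_1090 (j : Nat) : Nat := @Bool.rec (fun _ => Nat) (@Bool.rec (fun _ => Nat) tJ_P1086 tJ_P1087 (Nat.ble (nat_lit 1087) j)) (@Bool.rec (fun _ => Nat) tJ_P1088 tJ_P1089 (Nat.ble (nat_lit 1089) j)) (Nat.ble (nat_lit 1088) j)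
noncomputable def tJ_s1090_1094 (j : Nat) : Nat := @Bool.rec (fun _ => Nat) (@Bool.rec (fun _ => Nat) tJ_P1090 tJ_P1091 (Nat.ble (nat_lit 1091) j)) (@Bool.rec (fun _ => Nat) tJ_P1092 tJ_P1093 (Nat.ble (nat_lit 1093) j)) (Nat.ble (nat_lit 1092) j)
noncomputable def tJ_s1094_1098 (j : Nat) : Nat := @Bool.rec (fun _ => Nat) (@Bool.rec (fun _ => Nat) tJ_P1094 tJ_P1095 (Nat.ble (nat_lit 1095) j)) (@Bool.rec (fun _ => Nat) tJ_P1096 tJ_P1097 (Nat.ble (nat_lit 1097) j)) (Nat.ble (nat_lit 1096) j)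
noncomputable def tJ_s1098_1101 (j : Nat) : Nat := @Bool.rec (fun _ => Nat) tJ_P1098 (@Bool.rec (fun _ => Nat) tJ_P1099 tJ_P1100 (Nat.ble (nat_lit 1100) j)) (Nat.ble (nat_lit 1099) j)
noncomputable def tJ_s1101_1105 (j : Nat) : Nat := @Bool.rec (fun _ => Nat) (@Bool.rec (fun _ => Nat) tJ_P1101 tJ_P1102 (Nat.ble (nat_lit 1102) j)) (@Bool.rec (fun _ => Nat) tJ_P1103 tJ_P1104 (Nat.ble (nat_lit 1104) j)) (Nat.ble (nat_lit 1103) j)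
noncomputable def tJ_s1105_1109 (j : Nat) : Nat := @Bool.rec (fun _ => Nat) (@Bool.rec (fun _ => Nat) tJ_P1105 tJ_P1106 (Nat.ble (nat_lit 1106) j)) (@Bool.rec (fun _ => Nat) tJ_P1107 tJ_P1108 (Nat.ble (nat_lit 1108) j)) (Nat.ble (nat_lit 1107) j)
noncomputable def tJ_s1109_1113 (j : Nat) : Nat := @Bool.rec (fun _ => Nat) (@Bool.rec (fun _ => Nat) tJ_P1109 tJ_P1110 (Nat.ble (nat_lit 1110) j)) (@Bool.rec (fun _ => Nat) tJ_P1111 tJ_P1112 (Nat.ble (nat_lit 1112) j)) (Nat.ble (nat_lit 1111) j)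
noncomputable def tJ_s1083_1113 (j : Nat) : Nat := @Bool.rec (fun _ => Nat) (@Bool.rec (fun _ => Nat) (@Bool.rec (fun _ => Nat) (tJ_s1083_1086 j) (tJ_s1086_1090 j) (Nat.ble (nat_lit 1086) j)) (@Bool.rec (fun _ => Nat) (tJ_s1090_1094 j) (tJ_s1094_1098 j) (Nat.ble (nat_lit 1094) j)) (Nat.ble (nat_lit 1090) j)) (@Bool.rec (fun _ => Nat) (@Bool.rec (fun _ => Nat) (tJ_s1098_1101 j) (tJ_s1101_1105 j) (Nat.ble (nat_lit 1101) j)) (@Bool.rec (fun _ => Nat) (tJ_s1105_1109 j) (tJ_s1109_1113 j) (Nat.ble (nat_lit 1109) j)) (Nat.ble (nat_lit 1105) j)) (Nat.ble (nat_lit 1098) j)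
noncomputable def tJ_s1113_1116 (j : Nat) : Nat := @Bool.rec (fun _ => Nat) tJ_P1113 (@Bool.rec (fun _ => Nat) tJ_P1114 tJ_P1115 (Nat.ble (nat_lit 1115) j)) (Nat.ble (nat_lit 1114) j)
noncomputable def tJ_s1116_1120 (j : Nat) : Nat := @Bool.rec (fun _ => Nat) (@Bool.rec (fun _ => Nat) tJ_P1116 tJ_P1117 (Nat.ble (nat_lit 1117) j)) (@Bool.rec (fun _ => Nat) tJ_P1118 tJ_P1119 (Nat.ble (nat_lit 1119) j)) (Nat.ble (nat_lit 1118) j)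
noncomputable def tJ_s1120_1124 (j : Nat) : Nat := @Bool.rec (fun _ => Nat) (@Bool.rec (fun _ => Nat) tJ_P1120 tJ_P1121 (Nat.ble (nat_lit 1121) j)) (@Bool.rec (fun _ => Nat) tJ_P1122 tJ_P1123 (Nat.ble (nat_lit 1123) j)) (Nat.ble (nat_lit 1122) j)
noncomputable def tJ_s1124_1128 (j : Nat) : Nat := @Bool.rec (fun _ => Nat) (@Bool.rec (fun _ => Nat) tJ_P1124 tJ_P1125 (Nat.ble (nat_lit 1125) j)) (@Bool.rec (fun _ => Nat) tJ_P1126 tJ_P1127 (Nat.ble (nat_lit 1127) j)) (Nat.ble (nat_lit 1126) j)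
noncomputable def tJ_s1128_1131 (j : Nat) : Nat := @Bool.rec (fun _ => Nat) tJ_P1128 (@Bool.rec (fun _ => Nat) tJ_P1129 tJ_P1130 (Nat.ble (nat_lit 1130) j)) (Nat.ble (nat_lit 1129) j)
noncomputable def tJ_s1131_1135 (j : Nat) : Nat := @Bool.rec (fun _ => Nat) (@Bool.rec (fun _ => Nat) tJ_P1131 tJ_P1132 (Nat.ble (nat_lit 1132) j)) (@Bool.rec (fun _ => Nat) tJ_P1133 tJ_P1134 (Nat.ble (nat_lit 1134) j)) (Nat.ble (nat_lit 1133) j)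
noncomputable def tJ_s1135_1139 (j : Nat) : Nat := @Bool.rec (fun _ => Nat) (@Bool.rec (fun _ => Nat) tJ_P1135 tJ_P1136 (Nat.ble (nat_lit 1136) j)) (@Bool.rec (fun _ => Nat) tJ_P1137 tJ_P1138 (Nat.ble (nat_lit 1138) j)) (Nat.ble (nat_lit 1137) j)
noncomputable def tJ_s1139_1143 (j : Nat) : Nat := @Bool.rec (fun _ => Nat) (@Bool.rec (fun _ => Nat) tJ_P1139 tJ_P1140 (Nat.ble (nat_lit 1140) j)) (@Bool.rec (fun _ => Nat) tJ_P1141 tJ_P1142 (Nat.ble (nat_lit 1142) j)) (Nat.ble (nat_lit 1141) j)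
noncomputable def tJ_s1113_1143 (j : Nat) : Nat := @Bool.rec (fun _ => Nat) (@Bool.rec (fun _ => Nat) (@Bool.rec (fun _ => Nat) (tJ_s1113_1116 j) (tJ_s1116_1120 j) (Nat.ble (nat_lit 1116) j)) (@Bool.rec (fun _ => Nat) (tJ_s1120_1124 j) (tJ_s1124_1128 j) (Nat.ble (nat_lit 1124) j)) (Nat.ble (nat_lit 1120) j)) (@Bool.rec (fun _ => Nat) (@Bool.rec (fun _ => Nat) (tJ_s1128_1131 j) (tJ_s1131_1135 j) (Nat.ble (nat_lit 1131) j)) (@Bool.rec (fun _ => Nat) (tJ_s1135_1139 j) (tJ_s1139_1143 j) (Nat.ble (nat_lit 1139) j)) (Nat.ble (nat_lit 1135) j)) (Nat.ble (nat_lit 1128) j)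
noncomputable def tJ_s1143_1146 (j : Nat) : Nat := @Bool.rec (fun _ => Nat) tJ_P1143 (@Bool.rec (fun _ => Nat) tJ_P1144 tJ_P1145 (Nat.ble (nat_lit 1145) j)) (Nat.ble (nat_lit 1144) j)
noncomputable def tJ_s1146_1150 (j : Nat) : Nat := @Bool.rec (fun _ => Nat) (@Bool.rec (fun _ => Nat) tJ_P1146 tJ_P1147 (Nat.ble (nat_lit 1147) j)) (@Bool.rec (fun _ => Nat) tJ_P1148 tJ_P1149 (Nat.ble (nat_lit 1149) j)) (Nat.ble (nat_lit 1148) j)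
noncomputable def tJ_s1150_1154 (j : Nat) : Nat := @Bool.rec (fun _ => Nat) (@Bool.rec (fun _ => Nat) tJ_P1150 tJ_P1151 (Nat.ble (nat_lit 1151) j)) (@Bool.rec (fun _ => Nat) tJ_P1152 tJ_P1153 (Nat.ble (nat_lit 1153) j)) (Nat.ble (nat_lit 1152) j)
noncomputable def tJ_s1154_1158 (j : Nat) : Nat := @Bool.rec (fun _ => Nat) (@Bool.rec (fun _ => Nat) tJ_P1154 tJ_P1155 (Nat.ble (nat_lit 1155) j)) (@Bool.rec (fun _ => Nat) tJ_P1156 tJ_P1157 (Nat.ble (nat_lit 1157) j)) (Nat.ble (nat_lit 1156) j)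
noncomputable def tJ_s1158_1161 (j : Nat) : Nat := @Bool.rec (fun _ => Nat) tJ_P1158 (@Bool.rec (fun _ => Nat) tJ_P1159 tJ_P1160 (Nat.ble (nat_lit 1160) j)) (Nat.ble (nat_lit 1159) j)
noncomputable def tJ_s1161_1165 (j : Nat) : Nat := @Bool.rec (fun _ => Nat) (@Bool.rec (fun _ => Nat) tJ_P1161 tJ_P1162 (Nat.ble (nat_lit 1162) j)) (@Bool.rec (fun _ => Nat) tJ_P1163 tJ_P1164 (Nat.ble (nat_lit 1164) j)) (Nat.ble (nat_lit 1163) j)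
noncomputable def tJ_s1165_1169 (j : Nat) : Nat := @Bool.rec (fun _ => Nat) (@Bool.rec (fun _ => Nat) tJ_P1165 tJ_P1166 (Nat.ble (nat_lit 1166) j)) (@Bool.rec (fun _ => Nat) tJ_P1167 tJ_P1168 (Nat.ble (nat_lit 1168) j)) (Nat.ble (nat_lit 1167) j)
noncomputable def tJ_s1169_1173 (j : Nat) : Nat := @Bool.rec (fun _ => Nat) (@Bool.rec (fun _ => Nat) tJ_P1169 tJ_P1170 (Nat.ble (nat_lit 1170) j)) (@Bool.rec (fun _ => Nat) tJ_P1171 tJ_P1172 (Nat.ble (nat_lit 1172) j)) (Nat.ble (nat_lit 1171) j)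
noncomputable def tJ_s1143_1173 (j : Nat) : Nat := @Bool.rec (fun _ => Nat) (@Bool.rec (fun _ => Nat) (@Bool.rec (fun _ => Nat) (tJ_s1143_1146 j) (tJ_s1146_1150 j) (Nat.ble (nat_lit 1146) j)) (@Bool.rec (fun _ => Nat) (tJ_s1150_1154 j) (tJ_s1154_1158 j) (Nat.ble (nat_lit 1154) j)) (Nat.ble (nat_lit 1150) j)) (@Bool.rec (fun _ => Nat) (@Bool.rec (fun _ => Nat) (tJ_s1158_1161 j) (tJ_s1161_1165 j) (Nat.ble (nat_lit 1161) j)) (@Bool.rec (fun _ => Nat) (tJ_s1165_1169 j) (tJ_s1169_1173 j) (Nat.ble (nat_lit 1169) j)) (Nat.ble (nat_lit 1165) j)) (Nat.ble (nat_lit 1158) j)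
noncomputable def tJ_s1173_1176 (j : Nat) : Nat := @Bool.rec (fun _ => Nat) tJ_P1173 (@Bool.rec (fun _ => Nat) tJ_P1174 tJ_P1175 (Nat.ble (nat_lit 1175) j)) (Nat.ble (nat_lit 1174) j)
noncomputable def tJ_s1176_1180 (j : Nat) : Nat := @Bool.rec (fun _ => Nat) (@Bool.rec (fun _ => Nat) tJ_P1176 tJ_P1177 (Nat.ble (nat_lit 1177) j)) (@Bool.rec (fun _ => Nat) tJ_P1178 tJ_P1179 (Nat.ble (nat_lit 1179) j)) (Nat.ble (nat_lit 1178) j)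
noncomputable def tJ_s1180_1184 (j : Nat) : Nat := @Bool.rec (fun _ => Nat) (@Bool.rec (fun _ => Nat) tJ_P1180 tJ_P1181 (Nat.ble (nat_lit 1181) j)) (@Bool.rec (fun _ => Nat) tJ_P1182 tJ_P1183 (Nat.ble (nat_lit 1183) j)) (Nat.ble (nat_lit 1182) j)
noncomputable def tJ_s1184_1188 (j : Nat) : Nat := @Bool.rec (fun _ => Nat) (@Bool.rec (fun _ => Nat) tJ_P1184 tJ_P1185 (Nat.ble (nat_lit 1185) j)) (@Bool.rec (fun _ => Nat) tJ_P1186 tJ_P1187 (Nat.ble (nat_lit 1187) j)) (Nat.ble (nat_lit 1186) j)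
noncomputable def tJ_s1188_1192 (j : Nat) : Nat := @Bool.rec (fun _ => Nat) (@Bool.rec (fun _ => Nat) tJ_P1188 tJ_P1189 (Nat.ble (nat_lit 1189) j)) (@Bool.rec (fun _ => Nat) tJ_P1190 tJ_P1191 (Nat.ble (nat_lit 1191) j)) (Nat.ble (nat_lit 1190) j)
noncomputable def tJ_s1192_1196 (j : Nat) : Nat := @Bool.rec (fun _ => Nat) (@Bool.rec (fun _ => Nat) tJ_P1192 tJ_P1193 (Nat.ble (nat_lit 1193) j)) (@Bool.rec (fun _ => Nat) tJ_P1194 tJ_P1195 (Nat.ble (nat_lit 1195) j)) (Nat.ble (nat_lit 1194) j)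
noncomputable def tJ_s1196_1200 (j : Nat) : Nat := @Bool.rec (fun _ => Nat) (@Bool.rec (fun _ => Nat) tJ_P1196 tJ_P1197 (Nat.ble (nat_lit 1197) j)) (@Bool.rec (fun _ => Nat) tJ_P1198 tJ_P1199 (Nat.ble (nat_lit 1199) j)) (Nat.ble (nat_lit 1198) j)
noncomputable def tJ_s1200_1204 (j : Nat) : Nat := @Bool.rec (fun _ => Nat) (@Bool.rec (fun _ => Nat) tJ_P1200 tJ_P1201 (Nat.ble (nat_lit 1201) j)) (@Bool.rec (fun _ => Nat) tJ_P1202 tJ_P1203 (Nat.ble (nat_lit 1203) j)) (Nat.ble (nat_lit 1202) j)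
noncomputable def tJ_s1173_1204 (j : Nat) : Nat := @Bool.rec (fun _ => Nat) (@Bool.rec (fun _ => Nat) (@Bool.rec (fun _ => Nat) (tJ_s1173_1176 j) (tJ_s1176_1180 j) (Nat.ble (nat_lit 1176) j)) (@Bool.rec (fun _ => Nat) (tJ_s1180_1184 j) (tJ_s1184_1188 j) (Nat.ble (nat_lit 1184) j)) (Nat.ble (nat_lit 1180) j)) (@Bool.rec (fun _ => Nat) (@Bool.rec (fun _ => Nat) (tJ_s1188_1192 j) (tJ_s1192_1196 j) (Nat.ble (nat_lit 1192) j)) (@Bool.rec (fun _ => Nat) (tJ_s1196_1200 j) (tJ_s1200_1204 j) (Nat.ble (nat_lit 1200) j)) (Nat.ble (nat_lit 1196) j)) (Nat.ble (nat_lit 1188) j)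
noncomputable def tJ_s963_1204 (j : Nat) : Nat := @Bool.rec (fun _ => Nat) (@Bool.rec (fun _ => Nat) (@Bool.rec (fun _ => Nat) (tJ_s963_993 j) (tJ_s993_1023 j) (Nat.ble (nat_lit 993) j)) (@Bool.rec (fun _ => Nat) (tJ_s1023_1053 j) (tJ_s1053_1083 j) (Nat.ble (nat_lit 1053) j)) (Nat.ble (nat_lit 1023) j)) (@Bool.rec (fun _ => Nat) (@Bool.rec (fun _ => Nat) (tJ_s1083_1113 j) (tJ_s1113_1143 j) (Nat.ble (nat_lit 1113) j)) (@Bool.rec (fun _ => Nat) (tJ_s1143_1173 j) (tJ_s1173_1204 j) (Nat.ble (nat_lit 1173) j)) (Nat.ble (nat_lit 1143) j)) (Nat.ble (nat_lit 1083) j)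
noncomputable def tJ_s1204_1207 (j : Nat) : Nat := @Bool.rec (fun _ => Nat) tJ_P1204 (@Bool.rec (fun _ => Nat) tJ_P1205 tJ_P1206 (Nat.ble (nat_lit 1206) j)) (Nat.ble (nat_lit 1205) j)
noncomputable def tJ_s1207_1211 (j : Nat) : Nat := @Bool.rec (fun _ => Nat) (@Bool.rec (fun _ => Nat) tJ_P1207 tJ_P1208 (Nat.ble (nat_lit 1208) j)) (@Bool.rec (fun _ => Nat) tJ_P1209 tJ_P1210 (Nat.ble (nat_lit 1210) j)) (Nat.ble (nat_lit 1209) j)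
noncomputable def tJ_s1211_1215 (j : Nat) : Nat := @Bool.rec (fun _ => Nat) (@Bool.rec (fun _ => Nat) tJ_P1211 tJ_P1212 (Nat.ble (nat_lit 1212) j)) (@Bool.rec (fun _ => Nat) tJ_P1213 tJ_P1214 (Nat.ble (nat_lit 1214) j)) (Nat.ble (nat_lit 1213) j)
noncomputable def tJ_s1215_1219 (j : Nat) : Nat := @Bool.rec (fun _ => Nat) (@Bool.rec (fun _ => Nat) tJ_P1215 tJ_P1216 (Nat.ble (nat_lit 1216) j)) (@Bool.rec (fun _ => Nat) tJ_P1217 tJ_P1218 (Nat.ble (nat_lit 1218) j)) (Nat.ble (nat_lit 1217) j)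
noncomputable def tJ_s1219_1222 (j : Nat) : Nat := @Bool.rec (fun _ => Nat) tJ_P1219 (@Bool.rec (fun _ => Nat) tJ_P1220 tJ_P1221 (Nat.ble (nat_lit 1221) j)) (Nat.ble (nat_lit 1220) j)
noncomputable def tJ_s1222_1226 (j : Nat) : Nat := @Bool.rec (fun _ => Nat) (@Bool.rec (fun _ => Nat) tJ_P1222 tJ_P1223 (Nat.ble (nat_lit 1223) j)) (@Bool.rec (fun _ => Nat) tJ_P1224 tJ_P1225 (Nat.ble (nat_lit 1225) j)) (Nat.ble (nat_lit 1224) j)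
noncomputable def tJ_s1226_1230 (j : Nat) : Nat := @Bool.rec (fun _ => Nat) (@Bool.rec (fun _ => Nat) tJ_P1226 tJ_P1227 (Nat.ble (nat_lit 1227) j)) (@Bool.rec (fun _ => Nat) tJ_P1228 tJ_P1229 (Nat.ble (nat_lit 1229) j)) (Nat.ble (nat_lit 1228) j)
noncomputable def tJ_s1230_1234 (j : Nat) : Nat := @Bool.rec (fun _ => Nat) (@Bool.rec (fun _ => Nat) tJ_P1230 tJ_P1231 (Nat.ble (nat_lit 1231) j)) (@Bool.rec (fun _ => Nat) tJ_P1232 tJ_P1233 (Nat.ble (nat_lit 1233) j)) (Nat.ble (nat_lit 1232) j)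
noncomputable def tJ_s1204_1234 (j : Nat) : Nat := @Bool.rec (fun _ => Nat) (@Bool.rec (fun _ => Nat) (@Bool.rec (fun _ => Nat) (tJ_s1204_1207 j) (tJ_s1207_1211 j) (Nat.ble (nat_lit 1207) j)) (@Bool.rec (fun _ => Nat) (tJ_s1211_1215 j) (tJ_s1215_1219 j) (Nat.ble (nat_lit 1215) j)) (Nat.ble (nat_lit 1211) j)) (@Bool.rec (fun _ => Nat) (@Bool.rec (fun _ => Nat) (tJ_s1219_1222 j) (tJ_s1222_1226 j) (Nat.ble (nat_lit 1222) j)) (@Bool.rec (fun _ => Nat) (tJ_s1226_1230 j) (tJ_s1230_1234 j) (Nat.ble (nat_lit 1230) j)) (Nat.ble (nat_lit 1226) j)) (Nat.ble (nat_lit 1219) j)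
noncomputable def tJ_s1234_1237 (j : Nat) : Nat := @Bool.rec (fun _ => Nat) tJ_P1234 (@Bool.rec (fun _ => Nat) tJ_P1235 tJ_P1236 (Nat.ble (nat_lit 1236) j)) (Nat.ble (nat_lit 1235) j)
noncomputable def tJ_s1237_1241 (j : Nat) : Nat := @Bool.rec (fun _ => Nat) (@Bool.rec (fun _ => Nat) tJ_P1237 tJ_P1238 (Nat.ble (nat_lit 1238) j)) (@Bool.rec (fun _ => Nat) tJ_P1239 tJ_P1240 (Nat.ble (nat_lit 1240) j)) (Nat.ble (nat_lit 1239) j)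
noncomputable def tJ_s1241_1245 (j : Nat) : Nat := @Bool.rec (fun _ => Nat) (@Bool.rec (fun _ => Nat) tJ_P1241 tJ_P1242 (Nat.ble (nat_lit 1242) j)) (@Bool.rec (fun _ => Nat) tJ_P1243 tJ_P1244 (Nat.ble (nat_lit 1244) j)) (Nat.ble (nat_lit 1243) j)
noncomputable def tJ_s1245_1249 (j : Nat) : Nat := @Bool.rec (fun _ => Nat) (@Bool.rec (fun _ => Nat) tJ_P1245 tJ_P1246 (Nat.ble (nat_lit 1246) j)) (@Bool.rec (fun _ => Nat) tJ_P1247 tJ_P1248 (Nat.ble (nat_lit 1248) j)) (Nat.ble (nat_lit 1247) j)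
noncomputable def tJ_s1249_1252 (j : Nat) : Nat := @Bool.rec (fun _ => Nat) tJ_P1249 (@Bool.rec (fun _ => Nat) tJ_P1250 tJ_P1251 (Nat.ble (nat_lit 1251) j)) (Nat.ble (nat_lit 1250) j)
noncomputable def tJ_s1252_1256 (j : Nat) : Nat := @Bool.rec (fun _ => Nat) (@Bool.rec (fun _ => Nat) tJ_P1252 tJ_P1253 (Nat.ble (nat_lit 1253) j)) (@Bool.rec (fun _ => Nat) tJ_P1254 tJ_P1255 (Nat.ble (nat_lit 1255) j)) (Nat.ble (nat_lit 1254) j)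
noncomputable def tJ_s1256_1260 (j : Nat) : Nat := @Bool.rec (fun _ => Nat) (@Bool.rec (fun _ => Nat) tJ_P1256 tJ_P1257 (Nat.ble (nat_lit 1257) j)) (@Bool.rec (fun _ => Nat) tJ_P1258 tJ_P1259 (Nat.ble (nat_lit 1259) j)) (Nat.ble (nat_lit 1258) j)
noncomputable def tJ_s1260_1264 (j : Nat) : Nat := @Bool.rec (fun _ => Nat) (@Bool.rec (fun _ => Nat) tJ_P1260 tJ_P1261 (Nat.ble (nat_lit 1261) j)) (@Bool.rec (fun _ => Nat) tJ_P1262 tJ_P1263 (Nat.ble (nat_lit 1263) j)) (Nat.ble (nat_lit 1262) j)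
noncomputable def tJ_s1234_1264 (j : Nat) : Nat := @Bool.rec (fun _ => Nat) (@Bool.rec (fun _ => Nat) (@Bool.rec (fun _ => Nat) (tJ_s1234_1237 j) (tJ_s1237_1241 j) (Nat.ble (nat_lit 1237) j)) (@Bool.rec (fun _ => Nat) (tJ_s1241_1245 j) (tJ_s1245_1249 j) (Nat.ble (nat_lit 1245) j)) (Nat.ble (nat_lit 1241) j)) (@Bool.rec (fun _ => Nat) (@Bool.rec (fun _ => Nat) (tJ_s1249_1252 j) (tJ_s1252_1256 j) (Nat.ble (nat_lit 1252) j)) (@Bool.rec (fun _ => Nat) (tJ_s1256_1260 j) (tJ_s1260_1264 j) (Nat.ble (nat_lit 1260) j)) (Nat.ble (nat_lit 1256) j)) (Nat.ble (nat_lit 1249) j)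
noncomputable def tJ_s1264_1267 (j : Nat) : Nat := @Bool.rec (fun _ => Nat) tJ_P1264 (@Bool.rec (fun _ => Nat) tJ_P1265 tJ_P1266 (Nat.ble (nat_lit 1266) j)) (Nat.ble (nat_lit 1265) j)
noncomputable def tJ_s1267_1271 (j : Nat) : Nat := @Bool.rec (fun _ => Nat) (@Bool.rec (fun _ => Nat) tJ_P1267 tJ_P1268 (Nat.ble (nat_lit 1268) j)) (@Bool.rec (fun _ => Nat) tJ_P1269 tJ_P1270 (Nat.ble (nat_lit 1270) j)) (Nat.ble (nat_lit 1269) j)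
noncomputable def tJ_s1271_1275 (j : Nat) : Nat := @Bool.rec (fun _ => Nat) (@Bool.rec (fun _ => Nat) tJ_P1271 tJ_P1272 (Nat.ble (nat_lit 1272) j)) (@Bool.rec (fun _ => Nat) tJ_P1273 tJ_P1274 (Nat.ble (nat_lit 1274) j)) (Nat.ble (nat_lit 1273) j)
noncomputable def tJ_s1275_1279 (j : Nat) : Nat := @Bool.rec (fun _ => Nat) (@Bool.rec (fun _ => Nat) tJ_P1275 tJ_P1276 (Nat.ble (nat_lit 1276) j)) (@Bool.rec (fun _ => Nat) tJ_P1277 tJ_P1278 (Nat.ble (nat_lit 1278) j)) (Nat.ble (nat_lit 1277) j)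
noncomputable def tJ_s1279_1282 (j : Nat) : Nat := @Bool.rec (fun _ => Nat) tJ_P1279 (@Bool.rec (fun _ => Nat) tJ_P1280 tJ_P1281 (Nat.ble (nat_lit 1281) j)) (Nat.ble (nat_lit 1280) j)
noncomputable def tJ_s1282_1286 (j : Nat) : Nat := @Bool.rec (fun _ => Nat) (@Bool.rec (fun _ => Nat) tJ_P1282 tJ_P1283 (Nat.ble (nat_lit 1283) j)) (@Bool.rec (fun _ => Nat) tJ_P1284 tJ_P1285 (Nat.ble (nat_lit 1285) j)) (Nat.ble (nat_lit 1284) j)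
noncomputable def tJ_s1286_1290 (j : Nat) : Nat := @Bool.rec (fun _ => Nat) (@Bool.rec (fun _ => Nat) tJ_P1286 tJ_P1287 (Nat.ble (nat_lit 1287) j)) (@Bool.rec (fun _ => Nat) tJ_P1288 tJ_P1289 (Nat.ble (nat_lit 1289) j)) (Nat.ble (nat_lit 1288) j)
noncomputable def tJ_s1290_1294 (j : Nat) : Nat := @Bool.rec (fun _ => Nat) (@Bool.rec (fun _ => Nat) tJ_P1290 tJ_P1291 (Nat.ble (nat_lit 1291) j)) (@Bool.rec (fun _ => Nat) tJ_P1292 tJ_P1293 (Nat.ble (nat_lit 1293) j)) (Nat.ble (nat_lit 1292) j)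
noncomputable def tJ_s1264_1294 (j : Nat) : Nat := @Bool.rec (fun _ => Nat) (@Bool.rec (fun _ => Nat) (@Bool.rec (fun _ => Nat) (tJ_s1264_1267 j) (tJ_s1267_1271 j) (Nat.ble (nat_lit 1267) j)) (@Bool.rec (fun _ => Nat) (tJ_s1271_1275 j) (tJ_s1275_1279 j) (Nat.ble (nat_lit 1275) j)) (Nat.ble (nat_lit 1271) j)) (@Bool.rec (fun _ => Nat) (@Bool.rec (fun _ => Nat) (tJ_s1279_1282 j) (tJ_s1282_1286 j) (Nat.ble (nat_lit 1282) j)) (@Bool.rec (fun _ => Nat) (tJ_s1286_1290 j) (tJ_s1290_1294 j) (Nat.ble (nat_lit 1290) j)) (Nat.ble (nat_lit 1286) j)) (Nat.ble (nat_lit 1279) j)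
noncomputable def tJ_s1294_1297 (j : Nat) : Nat := @Bool.rec (fun _ => Nat) tJ_P1294 (@Bool.rec (fun _ => Nat) tJ_P1295 tJ_P1296 (Nat.ble (nat_lit 1296) j)) (Nat.ble (nat_lit 1295) j)
noncomputable def tJ_s1297_1301 (j : Nat) : Nat := @Bool.rec (fun _ => Nat) (@Bool.rec (fun _ => Nat) tJ_P1297 tJ_P1298 (Nat.ble (nat_lit 1298) j)) (@Bool.rec (fun _ => Nat) tJ_P1299 tJ_P1300 (Nat.ble (nat_lit 1300) j)) (Nat.ble (nat_lit 1299) j)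
noncomputable def tJ_s1301_1305 (j : Nat) : Nat := @Bool.rec (fun _ => Nat) (@Bool.rec (fun _ => Nat) tJ_P1301 tJ_P1302 (Nat.ble (nat_lit 1302) j)) (@Bool.rec (fun _ => Nat) tJ_P1303 tJ_P1304 (Nat.ble (nat_lit 1304) j)) (Nat.ble (nat_lit 1303) j)
noncomputable def tJ_s1305_1309 (j : Nat) : Nat := @Bool.rec (fun _ => Nat) (@Bool.rec (fun _ => Nat) tJ_P1305 tJ_P1306 (Nat.ble (nat_lit 1306) j)) (@Bool.rec (fun _ => Nat) tJ_P1307 tJ_P1308 (Nat.ble (nat_lit 1308) j)) (Nat.ble (nat_lit 1307) j)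
noncomputable def tJ_s1309_1312 (j : Nat) : Nat := @Bool.rec (fun _ => Nat) tJ_P1309 (@Bool.rec (fun _ => Nat) tJ_P1310 tJ_P1311 (Nat.ble (nat_lit 1311) j)) (Nat.ble (nat_lit 1310) j)
noncomputable def tJ_s1312_1316 (j : Nat) : Nat := @Bool.rec (fun _ => Nat) (@Bool.rec (fun _ => Nat) tJ_P1312 tJ_P1313 (Nat.ble (nat_lit 1313) j)) (@Bool.rec (fun _ => Nat) tJ_P1314 tJ_P1315 (Nat.ble (nat_lit 1315) j)) (Nat.ble (nat_lit 1314) j)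
noncomputable def tJ_s1316_1320 (j : Nat) : Nat := @Bool.rec (fun _ => Nat) (@Bool.rec (fun _ => Nat) tJ_P1316 tJ_P1317 (Nat.ble (nat_lit 1317) j)) (@Bool.rec (fun _ => Nat) tJ_P1318 tJ_P1319 (Nat.ble (nat_lit 1319) j)) (Nat.ble (nat_lit 1318) j)
noncomputable def tJ_s1320_1324 (j : Nat) : Nat := @Bool.rec (fun _ => Nat) (@Bool.rec (fun _ => Nat) tJ_P1320 tJ_P1321 (Nat.ble (nat_lit 1321) j)) (@Bool.rec (fun _ => Nat) tJ_P1322 tJ_P1323 (Nat.ble (nat_lit 1323) j)) (Nat.ble (nat_lit 1322) j)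
noncomputable def tJ_s1294_1324 (j : Nat) : Nat := @Bool.rec (fun _ => Nat) (@Bool.rec (fun _ => Nat) (@Bool.rec (fun _ => Nat) (tJ_s1294_1297 j) (tJ_s1297_1301 j) (Nat.ble (nat_lit 1297) j)) (@Bool.rec (fun _ => Nat) (tJ_s1301_1305 j) (tJ_s1305_1309 j) (Nat.ble (nat_lit 1305) j)) (Nat.ble (nat_lit 1301) j)) (@Bool.rec (fun _ => Nat) (@Bool.rec (fun _ => Nat) (tJ_s1309_1312 j) (tJ_s1312_1316 j) (Nat.ble (nat_lit 1312) j)) (@Bool.rec (fun _ => Nat) (tJ_s1316_1320 j) (tJ_s1320_1324 j) (Nat.ble (nat_lit 1320) j)) (Nat.ble (nat_lit 1316) j)) (Nat.ble (nat_lit 1309) j)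
noncomputable def tJ_s1324_1327 (j : Nat) : Nat := @Bool.rec (fun _ => Nat) tJ_P1324 (@Bool.rec (fun _ => Nat) tJ_P1325 tJ_P1326 (Nat.ble (nat_lit 1326) j)) (Nat.ble (nat_lit 1325) j)
noncomputable def tJ_s1327_1331 (j : Nat) : Nat := @Bool.rec (fun _ => Nat) (@Bool.rec (fun _ => Nat) tJ_P1327 tJ_P1328 (Nat.ble (nat_lit 1328) j)) (@Bool.rec (fun _ => Nat) tJ_P1329 tJ_P1330 (Nat.ble (nat_lit 1330) j)) (Nat.ble (nat_lit 1329) j)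
noncomputable def tJ_s1331_1335 (j : Nat) : Nat := @Bool.rec (fun _ => Nat) (@Bool.rec (fun _ => Nat) tJ_P1331 tJ_P1332 (Nat.ble (nat_lit 1332) j)) (@Bool.rec (fun _ => Nat) tJ_P1333 tJ_P1334 (Nat.ble (nat_lit 1334) j)) (Nat.ble (nat_lit 1333) j)
noncomputable def tJ_s1335_1339 (j : Nat) : Nat := @Bool.rec (fun _ => Nat) (@Bool.rec (fun _ => Nat) tJ_P1335 tJ_P1336 (Nat.ble (nat_lit 1336) j)) (@Bool.rec (fun _ => Nat) tJ_P1337 tJ_P1338 (Nat.ble (nat_lit 1338) j)) (Nat.ble (nat_lit 1337) j)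
noncomputable def tJ_s1339_1342 (j : Nat) : Nat := @Bool.rec (fun _ => Nat) tJ_P1339 (@Bool.rec (fun _ => Nat) tJ_P1340 tJ_P1341 (Nat.ble (nat_lit 1341) j)) (Nat.ble (nat_lit 1340) j)
noncomputable def tJ_s1342_1346 (j : Nat) : Nat := @Bool.rec (fun _ => Nat) (@Bool.rec (fun _ => Nat) tJ_P1342 tJ_P1343 (Nat.ble (nat_lit 1343) j)) (@Bool.rec (fun _ => Nat) tJ_P1344 tJ_P1345 (Nat.ble (nat_lit 1345) j)) (Nat.ble (nat_lit 1344) j)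
noncomputable def tJ_s1346_1350 (j : Nat) : Nat := @Bool.rec (fun _ => Nat) (@Bool.rec (fun _ => Nat) tJ_P1346 tJ_P1347 (Nat.ble (nat_lit 1347) j)) (@Bool.rec (fun _ => Nat) tJ_P1348 tJ_P1349 (Nat.ble (nat_lit 1349) j)) (Nat.ble (nat_lit 1348) j)
noncomputable def tJ_s1350_1354 (j : Nat) : Nat := @Bool.rec (fun _ => Nat) (@Bool.rec (fun _ => Nat) tJ_P1350 tJ_P1351 (Nat.ble (nat_lit 1351) j)) (@Bool.rec (fun _ => Nat) tJ_P1352 tJ_P1353 (Nat.ble (nat_lit 1353) j)) (Nat.ble (nat_lit 1352) j)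
noncomputable def tJ_s1324_1354 (j : Nat) : Nat := @Bool.rec (fun _ => Nat) (@Bool.rec (fun _ => Nat) (@Bool.rec (fun _ => Nat) (tJ_s1324_1327 j) (tJ_s1327_1331 j) (Nat.ble (nat_lit 1327) j)) (@Bool.rec (fun _ => Nat) (tJ_s1331_1335 j) (tJ_s1335_1339 j) (Nat.ble (nat_lit 1335) j)) (Nat.ble (nat_lit 1331) j)) (@Bool.rec (fun _ => Nat) (@Bool.rec (fun _ => Nat) (tJ_s1339_1342 j) (tJ_s1342_1346 j) (Nat.ble (nat_lit 1342) j)) (@Bool.rec (fun _ => Nat) (tJ_s1346_1350 j) (tJ_s1350_1354 j) (Nat.ble (nat_lit 1350) j)) (Nat.ble (nat_lit 1346) j)) (Nat.ble (nat_lit 1339) j)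
noncomputable def tJ_s1354_1357 (j : Nat) : Nat := @Bool.rec (fun _ => Nat) tJ_P1354 (@Bool.rec (fun _ => Nat) tJ_P1355 tJ_P1356 (Nat.ble (nat_lit 1356) j)) (Nat.ble (nat_lit 1355) j)
noncomputable def tJ_s1357_1361 (j : Nat) : Nat := @Bool.rec (fun _ => Nat) (@Bool.rec (fun _ => Nat) tJ_P1357 tJ_P1358 (Nat.ble (nat_lit 1358) j)) (@Bool.rec (fun _ => Nat) tJ_P1359 tJ_P1360 (Nat.ble (nat_lit 1360) j)) (Nat.ble (nat_lit 1359) j)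
noncomputable def tJ_s1361_1365 (j : Nat) : Nat := @Bool.rec (fun _ => Nat) (@Bool.rec (fun _ => Nat) tJ_P1361 tJ_P1362 (Nat.ble (nat_lit 1362) j)) (@Bool.rec (fun _ => Nat) tJ_P1363 tJ_P1364 (Nat.ble (nat_lit 1364) j)) (Nat.ble (nat_lit 1363) j)
noncomputable def tJ_s1365_1369 (j : Nat) : Nat := @Bool.rec (fun _ => Nat) (@Bool.rec (fun _ => Nat) tJ_P1365 tJ_P1366 (Nat.ble (nat_lit 1366) j)) (@Bool.rec (fun _ => Nat) tJ_P1367 tJ_P1368 (Nat.ble (nat_lit 1368) j)) (Nat.ble (nat_lit 1367) j)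
noncomputable def tJ_s1369_1372 (j : Nat) : Nat := @Bool.rec (fun _ => Nat) tJ_P1369 (@Bool.rec (fun _ => Nat) tJ_P1370 tJ_P1371 (Nat.ble (nat_lit 1371) j)) (Nat.ble (nat_lit 1370) j)
noncomputable def tJ_s1372_1376 (j : Nat) : Nat := @Bool.rec (fun _ => Nat) (@Bool.rec (fun _ => Nat) tJ_P1372 tJ_P1373 (Nat.ble (nat_lit 1373) j)) (@Bool.rec (fun _ => Nat) tJ_P1374 tJ_P1375 (Nat.ble (nat_lit 1375) j)) (Nat.ble (nat_lit 1374) j)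
noncomputable def tJ_s1376_1380 (j : Nat) : Nat := @Bool.rec (fun _ => Nat) (@Bool.rec (fun _ => Nat) tJ_P1376 tJ_P1377 (Nat.ble (nat_lit 1377) j)) (@Bool.rec (fun _ => Nat) tJ_P1378 tJ_P1379 (Nat.ble (nat_lit 1379) j)) (Nat.ble (nat_lit 1378) j)
noncomputable def tJ_s1380_1384 (j : Nat) : Nat := @Bool.rec (fun _ => Nat) (@Bool.rec (fun _ => Nat) tJ_P1380 tJ_P1381 (Nat.ble (nat_lit 1381) j)) (@Bool.rec (fun _ => Nat) tJ_P1382 tJ_P1383 (Nat.ble (nat_lit 1383) j)) (Nat.ble (nat_lit 1382) j)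
noncomputable def tJ_s1354_1384 (j : Nat) : Nat := @Bool.rec (fun _ => Nat) (@Bool.rec (fun _ => Nat) (@Bool.rec (fun _ => Nat) (tJ_s1354_1357 j) (tJ_s1357_1361 j) (Nat.ble (nat_lit 1357) j)) (@Bool.rec (fun _ => Nat) (tJ_s1361_1365 j) (tJ_s1365_1369 j) (Nat.ble (nat_lit 1365) j)) (Nat.ble (nat_lit 1361) j)) (@Bool.rec (fun _ => Nat) (@Bool.rec (fun _ => Nat) (tJ_s1369_1372 j) (tJ_s1372_1376 j) (Nat.ble (nat_lit 1372) j)) (@Bool.rec (fun _ => Nat) (tJ_s1376_1380 j) (tJ_s1380_1384 j) (Nat.ble (nat_lit 1380) j)) (Nat.ble (nat_lit 1376) j)) (Nat.ble (nat_lit 1369) j)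
noncomputable def tJ_s1384_1387 (j : Nat) : Nat := @Bool.rec (fun _ => Nat) tJ_P1384 (@Bool.rec (fun _ => Nat) tJ_P1385 tJ_P1386 (Nat.ble (nat_lit 1386) j)) (Nat.ble (nat_lit 1385) j)
noncomputable def tJ_s1387_1391 (j : Nat) : Nat := @Bool.rec (fun _ => Nat) (@Bool.rec (fun _ => Nat) tJ_P1387 tJ_P1388 (Nat.ble (nat_lit 1388) j)) (@Bool.rec (fun _ => Nat) tJ_P1389 tJ_P1390 (Nat.ble (nat_lit 1390) j)) (Nat.ble (nat_lit 1389) j)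
noncomputable def tJ_s1391_1395 (j : Nat) : Nat := @Bool.rec (fun _ => Nat) (@Bool.rec (fun _ => Nat) tJ_P1391 tJ_P1392 (Nat.ble (nat_lit 1392) j)) (@Bool.rec (fun _ => Nat) tJ_P1393 tJ_P1394 (Nat.ble (nat_lit 1394) j)) (Nat.ble (nat_lit 1393) j)
noncomputable def tJ_s1395_1399 (j : Nat) : Nat := @Bool.rec (fun _ => Nat) (@Bool.rec (fun _ => Nat) tJ_P1395 tJ_P1396 (Nat.ble (nat_lit 1396) j)) (@Bool.rec (fun _ => Nat) tJ_P1397 tJ_P1398 (Nat.ble (nat_lit 1398) j)) (Nat.ble (nat_lit 1397) j)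
noncomputable def tJ_s1399_1402 (j : Nat) : Nat := @Bool.rec (fun _ => Nat) tJ_P1399 (@Bool.rec (fun _ => Nat) tJ_P1400 tJ_P1401 (Nat.ble (nat_lit 1401) j)) (Nat.ble (nat_lit 1400) j)
noncomputable def tJ_s1402_1406 (j : Nat) : Nat := @Bool.rec (fun _ => Nat) (@Bool.rec (fun _ => Nat) tJ_P1402 tJ_P1403 (Nat.ble (nat_lit 1403) j)) (@Bool.rec (fun _ => Nat) tJ_P1404 tJ_P1405 (Nat.ble (nat_lit 1405) j)) (Nat.ble (nat_lit 1404) j)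
noncomputable def tJ_s1406_1410 (j : Nat) : Nat := @Bool.rec (fun _ => Nat) (@Bool.rec (fun _ => Nat) tJ_P1406 tJ_P1407 (Nat.ble (nat_lit 1407) j)) (@Bool.rec (fun _ => Nat) tJ_P1408 tJ_P1409 (Nat.ble (nat_lit 1409) j)) (Nat.ble (nat_lit 1408) j)
noncomputable def tJ_s1410_1414 (j : Nat) : Nat := @Bool.rec (fun _ => Nat) (@Bool.rec (fun _ => Nat) tJ_P1410 tJ_P1411 (Nat.ble (nat_lit 1411) j)) (@Bool.rec (fun _ => Nat) tJ_P1412 tJ_P1413 (Nat.ble (nat_lit 1413) j)) (Nat.ble (nat_lit 1412) j)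
noncomputable def tJ_s1384_1414 (j : Nat) : Nat := @Bool.rec (fun _ => Nat) (@Bool.rec (fun _ => Nat) (@Bool.rec (fun _ => Nat) (tJ_s1384_1387 j) (tJ_s1387_1391 j) (Nat.ble (nat_lit 1387) j)) (@Bool.rec (fun _ => Nat) (tJ_s1391_1395 j) (tJ_s1395_1399 j) (Nat.ble (nat_lit 1395) j)) (Nat.ble (nat_lit 1391) j)) (@Bool.rec (fun _ => Nat) (@Bool.rec (fun _ => Nat) (tJ_s1399_1402 j) (tJ_s1402_1406 j) (Nat.ble (nat_lit 1402) j)) (@Bool.rec (fun _ => Nat) (tJ_s1406_1410 j) (tJ_s1410_1414 j) (Nat.ble (nat_lit 1410) j)) (Nat.ble (nat_lit 1406) j)) (Nat.ble (nat_lit 1399) j)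
noncomputable def tJ_s1414_1417 (j : Nat) : Nat := @Bool.rec (fun _ => Nat) tJ_P1414 (@Bool.rec (fun _ => Nat) tJ_P1415 tJ_P1416 (Nat.ble (nat_lit 1416) j)) (Nat.ble (nat_lit 1415) j)
noncomputable def tJ_s1417_1421 (j : Nat) : Nat := @Bool.rec (fun _ => Nat) (@Bool.rec (fun _ => Nat) tJ_P1417 tJ_P1418 (Nat.ble (nat_lit 1418) j)) (@Bool.rec (fun _ => Nat) tJ_P1419 tJ_P1420 (Nat.ble (nat_lit 1420) j)) (Nat.ble (nat_lit 1419) j)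
noncomputable def tJ_s1421_1425 (j : Nat) : Nat := @Bool.rec (fun _ => Nat) (@Bool.rec (fun _ => Nat) tJ_P1421 tJ_P1422 (Nat.ble (nat_lit 1422) j)) (@Bool.rec (fun _ => Nat) tJ_P1423 tJ_P1424 (Nat.ble (nat_lit 1424) j)) (Nat.ble (nat_lit 1423) j)
noncomputable def tJ_s1425_1429 (j : Nat) : Nat := @Bool.rec (fun _ => Nat) (@Bool.rec (fun _ => Nat) tJ_P1425 tJ_P1426 (Nat.ble (nat_lit 1426) j)) (@Bool.rec (fun _ => Nat) tJ_P1427 tJ_P1428 (Nat.ble (nat_lit 1428) j)) (Nat.ble (nat_lit 1427) j)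
noncomputable def tJ_s1429_1433 (j : Nat) : Nat := @Bool.rec (fun _ => Nat) (@Bool.rec (fun _ => Nat) tJ_P1429 tJ_P1430 (Nat.ble (nat_lit 1430) j)) (@Bool.rec (fun _ => Nat) tJ_P1431 tJ_P1432 (Nat.ble (nat_lit 1432) j)) (Nat.ble (nat_lit 1431) j)
noncomputable def tJ_s1433_1437 (j : Nat) : Nat := @Bool.rec (fun _ => Nat) (@Bool.rec (fun _ => Nat) tJ_P1433 tJ_P1434 (Nat.ble (nat_lit 1434) j)) (@Bool.rec (fun _ => Nat) tJ_P1435 tJ_P1436 (Nat.ble (nat_lit 1436) j)) (Nat.ble (nat_lit 1435) j)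
noncomputable def tJ_s1437_1441 (j : Nat) : Nat := @Bool.rec (fun _ => Nat) (@Bool.rec (fun _ => Nat) tJ_P1437 tJ_P1438 (Nat.ble (nat_lit 1438) j)) (@Bool.rec (fun _ => Nat) tJ_P1439 tJ_P1440 (Nat.ble (nat_lit 1440) j)) (Nat.ble (nat_lit 1439) j)
noncomputable def tJ_s1441_1445 (j : Nat) : Nat := @Bool.rec (fun _ => Nat) (@Bool.rec (fun _ => Nat) tJ_P1441 tJ_P1442 (Nat.ble (nat_lit 1442) j)) (@Bool.rec (fun _ => Nat) tJ_P1443 tJ_P1444 (Nat.ble (nat_lit 1444) j)) (Nat.ble (nat_lit 1443) j)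
noncomputable def tJ_s1414_1445 (j : Nat) : Nat := @Bool.rec (fun _ => Nat) (@Bool.rec (fun _ => Nat) (@Bool.rec (fun _ => Nat) (tJ_s1414_1417 j) (tJ_s1417_1421 j) (Nat.ble (nat_lit 1417) j)) (@Bool.rec (fun _ => Nat) (tJ_s1421_1425 j) (tJ_s1425_1429 j) (Nat.ble (nat_lit 1425) j)) (Nat.ble (nat_lit 1421) j)) (@Bool.rec (fun _ => Nat) (@Bool.rec (fun _ => Nat) (tJ_s1429_1433 j) (tJ_s1433_1437 j) (Nat.ble (nat_lit 1433) j)) (@Bool.rec (fun _ => Nat) (tJ_s1437_1441 j) (tJ_s1441_1445 j) (Nat.ble (nat_lit 1441) j)) (Nat.ble (nat_lit 1437) j)) (Nat.ble (nat_lit 1429) j)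
noncomputable def tJ_s1204_1445 (j : Nat) : Nat := @Bool.rec (fun _ => Nat) (@Bool.rec (fun _ => Nat) (@Bool.rec (fun _ => Nat) (tJ_s1204_1234 j) (tJ_s1234_1264 j) (Nat.ble (nat_lit 1234) j)) (@Bool.rec (fun _ => Nat) (tJ_s1264_1294 j) (tJ_s1294_1324 j) (Nat.ble (nat_lit 1294) j)) (Nat.ble (nat_lit 1264) j)) (@Bool.rec (fun _ => Nat) (@Bool.rec (fun _ => Nat) (tJ_s1324_1354 j) (tJ_s1354_1384 j) (Nat.ble (nat_lit 1354) j)) (@Bool.rec (fun _ => Nat) (tJ_s1384_1414 j) (tJ_s1414_1445 j) (Nat.ble (nat_lit 1414) j)) (Nat.ble (nat_lit 1384) j)) (Nat.ble (nat_lit 1324) j)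
noncomputable def tJ_s1445_1448 (j : Nat) : Nat := @Bool.rec (fun _ => Nat) tJ_P1445 (@Bool.rec (fun _ => Nat) tJ_P1446 tJ_P1447 (Nat.ble (nat_lit 1447) j)) (Nat.ble (nat_lit 1446) j)
noncomputable def tJ_s1448_1452 (j : Nat) : Nat := @Bool.rec (fun _ => Nat) (@Bool.rec (fun _ => Nat) tJ_P1448 tJ_P1449 (Nat.ble (nat_lit 1449) j)) (@Bool.rec (fun _ => Nat) tJ_P1450 tJ_P1451 (Nat.ble (nat_lit 1451) j)) (Nat.ble (nat_lit 1450) j)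
noncomputable def tJ_s1452_1456 (j : Nat) : Nat := @Bool.rec (fun _ => Nat) (@Bool.rec (fun _ => Nat) tJ_P1452 tJ_P1453 (Nat.ble (nat_lit 1453) j)) (@Bool.rec (fun _ => Nat) tJ_P1454 tJ_P1455 (Nat.ble (nat_lit 1455) j)) (Nat.ble (nat_lit 1454) j)
noncomputable def tJ_s1456_1460 (j : Nat) : Nat := @Bool.rec (fun _ => Nat) (@Bool.rec (fun _ => Nat) tJ_P1456 tJ_P1457 (Nat.ble (nat_lit 1457) j)) (@Bool.rec (fun _ => Nat) tJ_P1458 tJ_P1459 (Nat.ble (nat_lit 1459) j)) (Nat.ble (nat_lit 1458) j)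
noncomputable def tJ_s1460_1463 (j : Nat) : Nat := @Bool.rec (fun _ => Nat) tJ_P1460 (@Bool.rec (fun _ => Nat) tJ_P1461 tJ_P1462 (Nat.ble (nat_lit 1462) j)) (Nat.ble (nat_lit 1461) j)
noncomputable def tJ_s1463_1467 (j : Nat) : Nat := @Bool.rec (fun _ => Nat) (@Bool.rec (fun _ => Nat) tJ_P1463 tJ_P1464 (Nat.ble (nat_lit 1464) j)) (@Bool.rec (fun _ => Nat) tJ_P1465 tJ_P1466 (Nat.ble (nat_lit 1466) j)) (Nat.ble (nat_lit 1465) j)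
noncomputable def tJ_s1467_1471 (j : Nat) : Nat := @Bool.rec (fun _ => Nat) (@Bool.rec (fun _ => Nat) tJ_P1467 tJ_P1468 (Nat.ble (nat_lit 1468) j)) (@Bool.rec (fun _ => Nat) tJ_P1469 tJ_P1470 (Nat.ble (nat_lit 1470) j)) (Nat.ble (nat_lit 1469) j)
noncomputable def tJ_s1471_1475 (j : Nat) : Nat := @Bool.rec (fun _ => Nat) (@Bool.rec (fun _ => Nat) tJ_P1471 tJ_P1472 (Nat.ble (nat_lit 1472) j)) (@Bool.rec (fun _ => Nat) tJ_P1473 tJ_P1474 (Nat.ble (nat_lit 1474) j)) (Nat.ble (nat_lit 1473) j)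
noncomputable def tJ_s1445_1475 (j : Nat) : Nat := @Bool.rec (fun _ => Nat) (@Bool.rec (fun _ => Nat) (@Bool.rec (fun _ => Nat) (tJ_s1445_1448 j) (tJ_s1448_1452 j) (Nat.ble (nat_lit 1448) j)) (@Bool.rec (fun _ => Nat) (tJ_s1452_1456 j) (tJ_s1456_1460 j) (Nat.ble (nat_lit 1456) j)) (Nat.ble (nat_lit 1452) j)) (@Bool.rec (fun _ => Nat) (@Bool.rec (fun _ => Nat) (tJ_s1460_1463 j) (tJ_s1463_1467 j) (Nat.ble (nat_lit 1463) j)) (@Bool.rec (fun _ => Nat) (tJ_s1467_1471 j) (tJ_s1471_1475 j) (Nat.ble (nat_lit 1471) j)) (Nat.ble (nat_lit 1467) j)) (Nat.ble (nat_lit 1460) j)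
noncomputable def tJ_s1475_1478 (j : Nat) : Nat := @Bool.rec (fun _ => Nat) tJ_P1475 (@Bool.rec (fun _ => Nat) tJ_P1476 tJ_P1477 (Nat.ble (nat_lit 1477) j)) (Nat.ble (nat_lit 1476) j)
noncomputable def tJ_s1478_1482 (j : Nat) : Nat := @Bool.rec (fun _ => Nat) (@Bool.rec (fun _ => Nat) tJ_P1478 tJ_P1479 (Nat.ble (nat_lit 1479) j)) (@Bool.rec (fun _ => Nat) tJ_P1480 tJ_P1481 (Nat.ble (nat_lit 1481) j)) (Nat.ble (nat_lit 1480) j)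
noncomputable def tJ_s1482_1486 (j : Nat) : Nat := @Bool.rec (fun _ => Nat) (@Bool.rec (fun _ => Nat) tJ_P1482 tJ_P1483 (Nat.ble (nat_lit 1483) j)) (@Bool.rec (fun _ => Nat) tJ_P1484 tJ_P1485 (Nat.ble (nat_lit 1485) j)) (Nat.ble (nat_lit 1484) j)
noncomputable def tJ_s1486_1490 (j : Nat) : Nat := @Bool.rec (fun _ => Nat) (@Bool.rec (fun _ => Nat) tJ_P1486 tJ_P1487 (Nat.ble (nat_lit 1487) j)) (@Bool.rec (fun _ => Nat) tJ_P1488 tJ_P1489 (Nat.ble (nat_lit 1489) j)) (Nat.ble (nat_lit 1488) j)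
noncomputable def tJ_s1490_1493 (j : Nat) : Nat := @Bool.rec (fun _ => Nat) tJ_P1490 (@Bool.rec (fun _ => Nat) tJ_P1491 tJ_P1492 (Nat.ble (nat_lit 1492) j)) (Nat.ble (nat_lit 1491) j)
noncomputable def tJ_s1493_1497 (j : Nat) : Nat := @Bool.rec (fun _ => Nat) (@Bool.rec (fun _ => Nat) tJ_P1493 tJ_P1494 (Nat.ble (nat_lit 1494) j)) (@Bool.rec (fun _ => Nat) tJ_P1495 tJ_P1496 (Nat.ble (nat_lit 1496) j)) (Nat.ble (nat_lit 1495) j)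
noncomputable def tJ_s1497_1501 (j : Nat) : Nat := @Bool.rec (fun _ => Nat) (@Bool.rec (fun _ => Nat) tJ_P1497 tJ_P1498 (Nat.ble (nat_lit 1498) j)) (@Bool.rec (fun _ => Nat) tJ_P1499 tJ_P1500 (Nat.ble (nat_lit 1500) j)) (Nat.ble (nat_lit 1499) j)
noncomputable def tJ_s1501_1505 (j : Nat) : Nat := @Bool.rec (fun _ => Nat) (@Bool.rec (fun _ => Nat) tJ_P1501 tJ_P1502 (Nat.ble (nat_lit 1502) j)) (@Bool.rec (fun _ => Nat) tJ_P1503 tJ_P1504 (Nat.ble (nat_lit 1504) j)) (Nat.ble (nat_lit 1503) j)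
noncomputable def tJ_s1475_1505 (j : Nat) : Nat := @Bool.rec (fun _ => Nat) (@Bool.rec (fun _ => Nat) (@Bool.rec (fun _ => Nat) (tJ_s1475_1478 j) (tJ_s1478_1482 j) (Nat.ble (nat_lit 1478) j)) (@Bool.rec (fun _ => Nat) (tJ_s1482_1486 j) (tJ_s1486_1490 j) (Nat.ble (nat_lit 1486) j)) (Nat.ble (nat_lit 1482) j)) (@Bool.rec (fun _ => Nat) (@Bool.rec (fun _ => Nat) (tJ_s1490_1493 j) (tJ_s1493_1497 j) (Nat.ble (nat_lit 1493) j)) (@Bool.rec (fun _ => Nat) (tJ_s1497_1501 j) (tJ_s1501_1505 j) (Nat.ble (nat_lit 1501) j)) (Nat.ble (nat_lit 1497) j)) (Nat.ble (nat_lit 1490) j)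
noncomputable def tJ_s1505_1508 (j : Nat) : Nat := @Bool.rec (fun _ => Nat) tJ_P1505 (@Bool.rec (fun _ => Nat) tJ_P1506 tJ_P1507 (Nat.ble (nat_lit 1507) j)) (Nat.ble (nat_lit 1506) j)
noncomputable def tJ_s1508_1512 (j : Nat) : Nat := @Bool.rec (fun _ => Nat) (@Bool.rec (fun _ => Nat) tJ_P1508 tJ_P1509 (Nat.ble (nat_lit 1509) j)) (@Bool.rec (fun _ => Nat) tJ_P1510 tJ_P1511 (Nat.ble (nat_lit 1511) j)) (Nat.ble (nat_lit 1510) j)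
noncomputable def tJ_s1512_1516 (j : Nat) : Nat := @Bool.rec (fun _ => Nat) (@Bool.rec (fun _ => Nat) tJ_P1512 tJ_P1513 (Nat.ble (nat_lit 1513) j)) (@Bool.rec (fun _ => Nat) tJ_P1514 tJ_P1515 (Nat.ble (nat_lit 1515) j)) (Nat.ble (nat_lit 1514) j)
noncomputable def tJ_s1516_1520 (j : Nat) : Nat := @Bool.rec (fun _ => Nat) (@Bool.rec (fun _ => Nat) tJ_P1516 tJ_P1517 (Nat.ble (nat_lit 1517) j)) (@Bool.rec (fun _ => Nat) tJ_P1518 tJ_P1519 (Nat.ble (nat_lit 1519) j)) (Nat.ble (nat_lit 1518) j)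
noncomputable def tJ_s1520_1523 (j : Nat) : Nat := @Bool.rec (fun _ => Nat) tJ_P1520 (@Bool.rec (fun _ => Nat) tJ_P1521 tJ_P1522 (Nat.ble (nat_lit 1522) j)) (Nat.ble (nat_lit 1521) j)
noncomputable def tJ_s1523_1527 (j : Nat) : Nat := @Bool.rec (fun _ => Nat) (@Bool.rec (fun _ => Nat) tJ_P1523 tJ_P1524 (Nat.ble (nat_lit 1524) j)) (@Bool.rec (fun _ => Nat) tJ_P1525 tJ_P1526 (Nat.ble (nat_lit 1526) j)) (Nat.ble (nat_lit 1525) j)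
noncomputable def tJ_s1527_1531 (j : Nat) : Nat := @Bool.rec (fun _ => Nat) (@Bool.rec (fun _ => Nat) tJ_P1527 tJ_P1528 (Nat.ble (nat_lit 1528) j)) (@Bool.rec (fun _ => Nat) tJ_P1529 tJ_P1530 (Nat.ble (nat_lit 1530) j)) (Nat.ble (nat_lit 1529) j)
noncomputable def tJ_s1531_1535 (j : Nat) : Nat := @Bool.rec (fun _ => Nat) (@Bool.rec (fun _ => Nat) tJ_P1531 tJ_P1532 (Nat.ble (nat_lit 1532) j)) (@Bool.rec (fun _ => Nat) tJ_P1533 tJ_P1534 (Nat.ble (nat_lit 1534) j)) (Nat.ble (nat_lit 1533) j)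
noncomputable def tJ_s1505_1535 (j : Nat) : Nat := @Bool.rec (fun _ => Nat) (@Bool.rec (fun _ => Nat) (@Bool.rec (fun _ => Nat) (tJ_s1505_1508 j) (tJ_s1508_1512 j) (Nat.ble (nat_lit 1508) j)) (@Bool.rec (fun _ => Nat) (tJ_s1512_1516 j) (tJ_s1516_1520 j) (Nat.ble (nat_lit 1516) j)) (Nat.ble (nat_lit 1512) j)) (@Bool.rec (fun _ => Nat) (@Bool.rec (fun _ => Nat) (tJ_s1520_1523 j) (tJ_s1523_1527 j) (Nat.ble (nat_lit 1523) j)) (@Bool.rec (fun _ => Nat) (tJ_s1527_1531 j) (tJ_s1531_1535 j) (Nat.ble (nat_lit 1531) j)) (Nat.ble (nat_lit 1527) j)) (Nat.ble (nat_lit 1520) j)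
noncomputable def tJ_s1535_1538 (j : Nat) : Nat := @Bool.rec (fun _ => Nat) tJ_P1535 (@Bool.rec (fun _ => Nat) tJ_P1536 tJ_P1537 (Nat.ble (nat_lit 1537) j)) (Nat.ble (nat_lit 1536) j)
noncomputable def tJ_s1538_1542 (j : Nat) : Nat := @Bool.rec (fun _ => Nat) (@Bool.rec (fun _ => Nat) tJ_P1538 tJ_P1539 (Nat.ble (nat_lit 1539) j)) (@Bool.rec (fun _ => Nat) tJ_P1540 tJ_P1541 (Nat.ble (nat_lit 1541) j)) (Nat.ble (nat_lit 1540) j)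
noncomputable def tJ_s1542_1546 (j : Nat) : Nat := @Bool.rec (fun _ => Nat) (@Bool.rec (fun _ => Nat) tJ_P1542 tJ_P1543 (Nat.ble (nat_lit 1543) j)) (@Bool.rec (fun _ => Nat) tJ_P1544 tJ_P1545 (Nat.ble (nat_lit 1545) j)) (Nat.ble (nat_lit 1544) j)
noncomputable def tJ_s1546_1550 (j : Nat) : Nat := @Bool.rec (fun _ => Nat) (@Bool.rec (fun _ => Nat) tJ_P1546 tJ_P1547 (Nat.ble (nat_lit 1547) j)) (@Bool.rec (fun _ => Nat) tJ_P1548 tJ_P1549 (Nat.ble (nat_lit 1549) j)) (Nat.ble (nat_lit 1548) j)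
noncomputable def tJ_s1550_1553 (j : Nat) : Nat := @Bool.rec (fun _ => Nat) tJ_P1550 (@Bool.rec (fun _ => Nat) tJ_P1551 tJ_P1552 (Nat.ble (nat_lit 1552) j)) (Nat.ble (nat_lit 1551) j)
noncomputable def tJ_s1553_1557 (j : Nat) : Nat := @Bool.rec (fun _ => Nat) (@Bool.rec (fun _ => Nat) tJ_P1553 tJ_P1554 (Nat.ble (nat_lit 1554) j)) (@Bool.rec (fun _ => Nat) tJ_P1555 tJ_P1556 (Nat.ble (nat_lit 1556) j)) (Nat.ble (nat_lit 1555) j)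
noncomputable def tJ_s1557_1561 (j : Nat) : Nat := @Bool.rec (fun _ => Nat) (@Bool.rec (fun _ => Nat) tJ_P1557 tJ_P1558 (Nat.ble (nat_lit 1558) j)) (@Bool.rec (fun _ => Nat) tJ_P1559 tJ_P1560 (Nat.ble (nat_lit 1560) j)) (Nat.ble (nat_lit 1559) j)
noncomputable def tJ_s1561_1565 (j : Nat) : Nat := @Bool.rec (fun _ => Nat) (@Bool.rec (fun _ => Nat) tJ_P1561 tJ_P1562 (Nat.ble (nat_lit 1562) j)) (@Bool.rec (fun _ => Nat) tJ_P1563 tJ_P1564 (Nat.ble (nat_lit 1564) j)) (Nat.ble (nat_lit 1563) j)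
noncomputable def tJ_s1535_1565 (j : Nat) : Nat := @Bool.rec (fun _ => Nat) (@Bool.rec (fun _ => Nat) (@Bool.rec (fun _ => Nat) (tJ_s1535_1538 j) (tJ_s1538_1542 j) (Nat.ble (nat_lit 1538) j)) (@Bool.rec (fun _ => Nat) (tJ_s1542_1546 j) (tJ_s1546_1550 j) (Nat.ble (nat_lit 1546) j)) (Nat.ble (nat_lit 1542) j)) (@Bool.rec (fun _ => Nat) (@Bool.rec (fun _ => Nat) (tJ_s1550_1553 j) (tJ_s1553_1557 j) (Nat.ble (nat_lit 1553) j)) (@Bool.rec (fun _ => Nat) (tJ_s1557_1561 j) (tJ_s1561_1565 j) (Nat.ble (nat_lit 1561) j)) (Nat.ble (nat_lit 1557) j)) (Nat.ble (nat_lit 1550) j)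
noncomputable def tJ_s1565_1568 (j : Nat) : Nat := @Bool.rec (fun _ => Nat) tJ_P1565 (@Bool.rec (fun _ => Nat) tJ_P1566 tJ_P1567 (Nat.ble (nat_lit 1567) j)) (Nat.ble (nat_lit 1566) j)
noncomputable def tJ_s1568_1572 (j : Nat) : Nat := @Bool.rec (fun _ => Nat) (@Bool.rec (fun _ => Nat) tJ_P1568 tJ_P1569 (Nat.ble (nat_lit 1569) j)) (@Bool.rec (fun _ => Nat) tJ_P1570 tJ_P1571 (Nat.ble (nat_lit 1571) j)) (Nat.ble (nat_lit 1570) j)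
noncomputable def tJ_s1572_1576 (j : Nat) : Nat := @Bool.rec (fun _ => Nat) (@Bool.rec (fun _ => Nat) tJ_P1572 tJ_P1573 (Nat.ble (nat_lit 1573) j)) (@Bool.rec (fun _ => Nat) tJ_P1574 tJ_P1575 (Nat.ble (nat_lit 1575) j)) (Nat.ble (nat_lit 1574) j)
noncomputable def tJ_s1576_1580 (j : Nat) : Nat := @Bool.rec (fun _ => Nat) (@Bool.rec (fun _ => Nat) tJ_P1576 tJ_P1577 (Nat.ble (nat_lit 1577) j)) (@Bool.rec (fun _ => Nat) tJ_P1578 tJ_P1579 (Nat.ble (nat_lit 1579) j)) (Nat.ble (nat_lit 1578) j)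
noncomputable def tJ_s1580_1583 (j : Nat) : Nat := @Bool.rec (fun _ => Nat) tJ_P1580 (@Bool.rec (fun _ => Nat) tJ_P1581 tJ_P1582 (Nat.ble (nat_lit 1582) j)) (Nat.ble (nat_lit 1581) j)
noncomputable def tJ_s1583_1587 (j : Nat) : Nat := @Bool.rec (fun _ => Nat) (@Bool.rec (fun _ => Nat) tJ_P1583 tJ_P1584 (Nat.ble (nat_lit 1584) j)) (@Bool.rec (fun _ => Nat) tJ_P1585 tJ_P1586 (Nat.ble (nat_lit 1586) j)) (Nat.ble (nat_lit 1585) j)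
noncomputable def tJ_s1587_1591 (j : Nat) : Nat := @Bool.rec (fun _ => Nat) (@Bool.rec (fun _ => Nat) tJ_P1587 tJ_P1588 (Nat.ble (nat_lit 1588) j)) (@Bool.rec (fun _ => Nat) tJ_P1589 tJ_P1590 (Nat.ble (nat_lit 1590) j)) (Nat.ble (nat_lit 1589) j)
noncomputable def tJ_s1591_1595 (j : Nat) : Nat := @Bool.rec (fun _ => Nat) (@Bool.rec (fun _ => Nat) tJ_P1591 tJ_P1592 (Nat.ble (nat_lit 1592) j)) (@Bool.rec (fun _ => Nat) tJ_P1593 tJ_P1594 (Nat.ble (nat_lit 1594) j)) (Nat.ble (nat_lit 1593) j)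
noncomputable def tJ_s1565_1595 (j : Nat) : Nat := @Bool.rec (fun _ => Nat) (@Bool.rec (fun _ => Nat) (@Bool.rec (fun _ => Nat) (tJ_s1565_1568 j) (tJ_s1568_1572 j) (Nat.ble (nat_lit 1568) j)) (@Bool.rec (fun _ => Nat) (tJ_s1572_1576 j) (tJ_s1576_1580 j) (Nat.ble (nat_lit 1576) j)) (Nat.ble (nat_lit 1572) j)) (@Bool.rec (fun _ => Nat) (@Bool.rec (fun _ => Nat) (tJ_s1580_1583 j) (tJ_s1583_1587 j) (Nat.ble (nat_lit 1583) j)) (@Bool.rec (fun _ => Nat) (tJ_s1587_1591 j) (tJ_s1591_1595 j) (Nat.ble (nat_lit 1591) j)) (Nat.ble (nat_lit 1587) j)) (Nat.ble (nat_lit 1580) j)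
noncomputable def tJ_s1595_1598 (j : Nat) : Nat := @Bool.rec (fun _ => Nat) tJ_P1595 (@Bool.rec (fun _ => Nat) tJ_P1596 tJ_P1597 (Nat.ble (nat_lit 1597) j)) (Nat.ble (nat_lit 1596) j)
noncomputable def tJ_s1598_1602 (j : Nat) : Nat := @Bool.rec (fun _ => Nat) (@Bool.rec (fun _ => Nat) tJ_P1598 tJ_P1599 (Nat.ble (nat_lit 1599) j)) (@Bool.rec (fun _ => Nat) tJ_P1600 tJ_P1601 (Nat.ble (nat_lit 1601) j)) (Nat.ble (nat_lit 1600) j)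
noncomputable def tJ_s1602_1606 (j : Nat) : Nat := @Bool.rec (fun _ => Nat) (@Bool.rec (fun _ => Nat) tJ_P1602 tJ_P1603 (Nat.ble (nat_lit 1603) j)) (@Bool.rec (fun _ => Nat) tJ_P1604 tJ_P1605 (Nat.ble (nat_lit 1605) j)) (Nat.ble (nat_lit 1604) j)
noncomputable def tJ_s1606_1610 (j : Nat) : Nat := @Bool.rec (fun _ => Nat) (@Bool.rec (fun _ => Nat) tJ_P1606 tJ_P1607 (Nat.ble (nat_lit 1607) j)) (@Bool.rec (fun _ => Nat) tJ_P1608 tJ_P1609 (Nat.ble (nat_lit 1609) j)) (Nat.ble (nat_lit 1608) j)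
noncomputable def tJ_s1610_1613 (j : Nat) : Nat := @Bool.rec (fun _ => Nat) tJ_P1610 (@Bool.rec (fun _ => Nat) tJ_P1611 tJ_P1612 (Nat.ble (nat_lit 1612) j)) (Nat.ble (nat_lit 1611) j)
noncomputable def tJ_s1613_1617 (j : Nat) : Nat := @Bool.rec (fun _ => Nat) (@Bool.rec (fun _ => Nat) tJ_P1613 tJ_P1614 (Nat.ble (nat_lit 1614) j)) (@Bool.rec (fun _ => Nat) tJ_P1615 tJ_P1616 (Nat.ble (nat_lit 1616) j)) (Nat.ble (nat_lit 1615) j)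
noncomputable def tJ_s1617_1621 (j : Nat) : Nat := @Bool.rec (fun _ => Nat) (@Bool.rec (fun _ => Nat) tJ_P1617 tJ_P1618 (Nat.ble (nat_lit 1618) j)) (@Bool.rec (fun _ => Nat) tJ_P1619 tJ_P1620 (Nat.ble (nat_lit 1620) j)) (Nat.ble (nat_lit 1619) j)
noncomputable def tJ_s1621_1625 (j : Nat) : Nat := @Bool.rec (fun _ => Nat) (@Bool.rec (fun _ => Nat) tJ_P1621 tJ_P1622 (Nat.ble (nat_lit 1622) j)) (@Bool.rec (fun _ => Nat) tJ_P1623 tJ_P1624 (Nat.ble (nat_lit 1624) j)) (Nat.ble (nat_lit 1623) j)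
noncomputable def tJ_s1595_1625 (j : Nat) : Nat := @Bool.rec (fun _ => Nat) (@Bool.rec (fun _ => Nat) (@Bool.rec (fun _ => Nat) (tJ_s1595_1598 j) (tJ_s1598_1602 j) (Nat.ble (nat_lit 1598) j)) (@Bool.rec (fun _ => Nat) (tJ_s1602_1606 j) (tJ_s1606_1610 j) (Nat.ble (nat_lit 1606) j)) (Nat.ble (nat_lit 1602) j)) (@Bool.rec (fun _ => Nat) (@Bool.rec (fun _ => Nat) (tJ_s1610_1613 j) (tJ_s1613_1617 j) (Nat.ble (nat_lit 1613) j)) (@Bool.rec (fun _ => Nat) (tJ_s1617_1621 j) (tJ_s1621_1625 j) (Nat.ble (nat_lit 1621) j)) (Nat.ble (nat_lit 1617) j)) (Nat.ble (nat_lit 1610) j)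
noncomputable def tJ_s1625_1628 (j : Nat) : Nat := @Bool.rec (fun _ => Nat) tJ_P1625 (@Bool.rec (fun _ => Nat) tJ_P1626 tJ_P1627 (Nat.ble (nat_lit 1627) j)) (Nat.ble (nat_lit 1626) j)
noncomputable def tJ_s1628_1632 (j : Nat) : Nat := @Bool.rec (fun _ => Nat) (@Bool.rec (fun _ => Nat) tJ_P1628 tJ_P1629 (Nat.ble (nat_lit 1629) j)) (@Bool.rec (fun _ => Nat) tJ_P1630 tJ_P1631 (Nat.ble (nat_lit 1631) j)) (Nat.ble (nat_lit 1630) j)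
noncomputable def tJ_s1632_1636 (j : Nat) : Nat := @Bool.rec (fun _ => Nat) (@Bool.rec (fun _ => Nat) tJ_P1632 tJ_P1633 (Nat.ble (nat_lit 1633) j)) (@Bool.rec (fun _ => Nat) tJ_P1634 tJ_P1635 (Nat.ble (nat_lit 1635) j)) (Nat.ble (nat_lit 1634) j)
noncomputable def tJ_s1636_1640 (j : Nat) : Nat := @Bool.rec (fun _ => Nat) (@Bool.rec (fun _ => Nat) tJ_P1636 tJ_P1637 (Nat.ble (nat_lit 1637) j)) (@Bool.rec (fun _ => Nat) tJ_P1638 tJ_P1639 (Nat.ble (nat_lit 1639) j)) (Nat.ble (nat_lit 1638) j)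
noncomputable def tJ_s1640_1643 (j : Nat) : Nat := @Bool.rec (fun _ => Nat) tJ_P1640 (@Bool.rec (fun _ => Nat) tJ_P1641 tJ_P1642 (Nat.ble (nat_lit 1642) j)) (Nat.ble (nat_lit 1641) j)
noncomputable def tJ_s1643_1647 (j : Nat) : Nat := @Bool.rec (fun _ => Nat) (@Bool.rec (fun _ => Nat) tJ_P1643 tJ_P1644 (Nat.ble (nat_lit 1644) j)) (@Bool.rec (fun _ => Nat) tJ_P1645 tJ_P1646 (Nat.ble (nat_lit 1646) j)) (Nat.ble (nat_lit 1645) j)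
noncomputable def tJ_s1647_1651 (j : Nat) : Nat := @Bool.rec (fun _ => Nat) (@Bool.rec (fun _ => Nat) tJ_P1647 tJ_P1648 (Nat.ble (nat_lit 1648) j)) (@Bool.rec (fun _ => Nat) tJ_P1649 tJ_P1650 (Nat.ble (nat_lit 1650) j)) (Nat.ble (nat_lit 1649) j)
noncomputable def tJ_s1651_1655 (j : Nat) : Nat := @Bool.rec (fun _ => Nat) (@Bool.rec (fun _ => Nat) tJ_P1651 tJ_P1652 (Nat.ble (nat_lit 1652) j)) (@Bool.rec (fun _ => Nat) tJ_P1653 tJ_P1654 (Nat.ble (nat_lit 1654) j)) (Nat.ble (nat_lit 1653) j)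
noncomputable def tJ_s1625_1655 (j : Nat) : Nat := @Bool.rec (fun _ => Nat) (@Bool.rec (fun _ => Nat) (@Bool.rec (fun _ => Nat) (tJ_s1625_1628 j) (tJ_s1628_1632 j) (Nat.ble (nat_lit 1628) j)) (@Bool.rec (fun _ => Nat) (tJ_s1632_1636 j) (tJ_s1636_1640 j) (Nat.ble (nat_lit 1636) j)) (Nat.ble (nat_lit 1632) j)) (@Bool.rec (fun _ => Nat) (@Bool.rec (fun _ => Nat) (tJ_s1640_1643 j) (tJ_s1643_1647 j) (Nat.ble (nat_lit 1643) j)) (@Bool.rec (fun _ => Nat) (tJ_s1647_1651 j) (tJ_s1651_1655 j) (Nat.ble (nat_lit 1651) j)) (Nat.ble (nat_lit 1647) j)) (Nat.ble (nat_lit 1640) j)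
noncomputable def tJ_s1655_1658 (j : Nat) : Nat := @Bool.rec (fun _ => Nat) tJ_P1655 (@Bool.rec (fun _ => Nat) tJ_P1656 tJ_P1657 (Nat.ble (nat_lit 1657) j)) (Nat.ble (nat_lit 1656) j)
noncomputable def tJ_s1658_1662 (j : Nat) : Nat := @Bool.rec (fun _ => Nat) (@Bool.rec (fun _ => Nat) tJ_P1658 tJ_P1659 (Nat.ble (nat_lit 1659) j)) (@Bool.rec (fun _ => Nat) tJ_P1660 tJ_P1661 (Nat.ble (nat_lit 1661) j)) (Nat.ble (nat_lit 1660) j)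
noncomputable def tJ_s1662_1666 (j : Nat) : Nat := @Bool.rec (fun _ => Nat) (@Bool.rec (fun _ => Nat) tJ_P1662 tJ_P1663 (Nat.ble (nat_lit 1663) j)) (@Bool.rec (fun _ => Nat) tJ_P1664 tJ_P1665 (Nat.ble (nat_lit 1665) j)) (Nat.ble (nat_lit 1664) j)
noncomputable def tJ_s1666_1670 (j : Nat) : Nat := @Bool.rec (fun _ => Nat) (@Bool.rec (fun _ => Nat) tJ_P1666 tJ_P1667 (Nat.ble (nat_lit 1667) j)) (@Bool.rec (fun _ => Nat) tJ_P1668 tJ_P1669 (Nat.ble (nat_lit 1669) j)) (Nat.ble (nat_lit 1668) j)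
noncomputable def tJ_s1670_1674 (j : Nat) : Nat := @Bool.rec (fun _ => Nat) (@Bool.rec (fun _ => Nat) tJ_P1670 tJ_P1671 (Nat.ble (nat_lit 1671) j)) (@Bool.rec (fun _ => Nat) tJ_P1672 tJ_P1673 (Nat.ble (nat_lit 1673) j)) (Nat.ble (nat_lit 1672) j)
noncomputable def tJ_s1674_1678 (j : Nat) : Nat := @Bool.rec (fun _ => Nat) (@Bool.rec (fun _ => Nat) tJ_P1674 tJ_P1675 (Nat.ble (nat_lit 1675) j)) (@Bool.rec (fun _ => Nat) tJ_P1676 tJ_P1677 (Nat.ble (nat_lit 1677) j)) (Nat.ble (nat_lit 1676) j)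
noncomputable def tJ_s1678_1682 (j : Nat) : Nat := @Bool.rec (fun _ => Nat) (@Bool.rec (fun _ => Nat) tJ_P1678 tJ_P1679 (Nat.ble (nat_lit 1679) j)) (@Bool.rec (fun _ => Nat) tJ_P1680 tJ_P1681 (Nat.ble (nat_lit 1681) j)) (Nat.ble (nat_lit 1680) j)
noncomputable def tJ_s1682_1686 (j : Nat) : Nat := @Bool.rec (fun _ => Nat) (@Bool.rec (fun _ => Nat) tJ_P1682 tJ_P1683 (Nat.ble (nat_lit 1683) j)) (@Bool.rec (fun _ => Nat) tJ_P1684 tJ_P1685 (Nat.ble (nat_lit 1685) j)) (Nat.ble (nat_lit 1684) j)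
noncomputable def tJ_s1655_1686 (j : Nat) : Nat := @Bool.rec (fun _ => Nat) (@Bool.rec (fun _ => Nat) (@Bool.rec (fun _ => Nat) (tJ_s1655_1658 j) (tJ_s1658_1662 j) (Nat.ble (nat_lit 1658) j)) (@Bool.rec (fun _ => Nat) (tJ_s1662_1666 j) (tJ_s1666_1670 j) (Nat.ble (nat_lit 1666) j)) (Nat.ble (nat_lit 1662) j)) (@Bool.rec (fun _ => Nat) (@Bool.rec (fun _ => Nat) (tJ_s1670_1674 j) (tJ_s1674_1678 j) (Nat.ble (nat_lit 1674) j)) (@Bool.rec (fun _ => Nat) (tJ_s1678_1682 j) (tJ_s1682_1686 j) (Nat.ble (nat_lit 1682) j)) (Nat.ble (nat_lit 1678) j)) (Nat.ble (nat_lit 1670) j)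
noncomputable def tJ_s1445_1686 (j : Nat) : Nat := @Bool.rec (fun _ => Nat) (@Bool.rec (fun _ => Nat) (@Bool.rec (fun _ => Nat) (tJ_s1445_1475 j) (tJ_s1475_1505 j) (Nat.ble (nat_lit 1475) j)) (@Bool.rec (fun _ => Nat) (tJ_s1505_1535 j) (tJ_s1535_1565 j) (Nat.ble (nat_lit 1535) j)) (Nat.ble (nat_lit 1505) j)) (@Bool.rec (fun _ => Nat) (@Bool.rec (fun _ => Nat) (tJ_s1565_1595 j) (tJ_s1595_1625 j) (Nat.ble (nat_lit 1595) j)) (@Bool.rec (fun _ => Nat) (tJ_s1625_1655 j) (tJ_s1655_1686 j) (Nat.ble (nat_lit 1655) j)) (Nat.ble (nat_lit 1625) j)) (Nat.ble (nat_lit 1565) j)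
noncomputable def tJ_s1686_1689 (j : Nat) : Nat := @Bool.rec (fun _ => Nat) tJ_P1686 (@Bool.rec (fun _ => Nat) tJ_P1687 tJ_P1688 (Nat.ble (nat_lit 1688) j)) (Nat.ble (nat_lit 1687) j)
noncomputable def tJ_s1689_1693 (j : Nat) : Nat := @Bool.rec (fun _ => Nat) (@Bool.rec (fun _ => Nat) tJ_P1689 tJ_P1690 (Nat.ble (nat_lit 1690) j)) (@Bool.rec (fun _ => Nat) tJ_P1691 tJ_P1692 (Nat.ble (nat_lit 1692) j)) (Nat.ble (nat_lit 1691) j)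
noncomputable def tJ_s1693_1697 (j : Nat) : Nat := @Bool.rec (fun _ => Nat) (@Bool.rec (fun _ => Nat) tJ_P1693 tJ_P1694 (Nat.ble (nat_lit 1694) j)) (@Bool.rec (fun _ => Nat) tJ_P1695 tJ_P1696 (Nat.ble (nat_lit 1696) j)) (Nat.ble (nat_lit 1695) j)
noncomputable def tJ_s1697_1701 (j : Nat) : Nat := @Bool.rec (fun _ => Nat) (@Bool.rec (fun _ => Nat) tJ_P1697 tJ_P1698 (Nat.ble (nat_lit 1698) j)) (@Bool.rec (fun _ => Nat) tJ_P1699 tJ_P1700 (Nat.ble (nat_lit 1700) j)) (Nat.ble (nat_lit 1699) j)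
noncomputable def tJ_s1701_1704 (j : Nat) : Nat := @Bool.rec (fun _ => Nat) tJ_P1701 (@Bool.rec (fun _ => Nat) tJ_P1702 tJ_P1703 (Nat.ble (nat_lit 1703) j)) (Nat.ble (nat_lit 1702) j)
noncomputable def tJ_s1704_1708 (j : Nat) : Nat := @Bool.rec (fun _ => Nat) (@Bool.rec (fun _ => Nat) tJ_P1704 tJ_P1705 (Nat.ble (nat_lit 1705) j)) (@Bool.rec (fun _ => Nat) tJ_P1706 tJ_P1707 (Nat.ble (nat_lit 1707) j)) (Nat.ble (nat_lit 1706) j)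
noncomputable def tJ_s1708_1712 (j : Nat) : Nat := @Bool.rec (fun _ => Nat) (@Bool.rec (fun _ => Nat) tJ_P1708 tJ_P1709 (Nat.ble (nat_lit 1709) j)) (@Bool.rec (fun _ => Nat) tJ_P1710 tJ_P1711 (Nat.ble (nat_lit 1711) j)) (Nat.ble (nat_lit 1710) j)
noncomputable def tJ_s1712_1716 (j : Nat) : Nat := @Bool.rec (fun _ => Nat) (@Bool.rec (fun _ => Nat) tJ_P1712 tJ_P1713 (Nat.ble (nat_lit 1713) j)) (@Bool.rec (fun _ => Nat) tJ_P1714 tJ_P1715 (Nat.ble (nat_lit 1715) j)) (Nat.ble (nat_lit 1714) j)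
noncomputable def tJ_s1686_1716 (j : Nat) : Nat := @Bool.rec (fun _ => Nat) (@Bool.rec (fun _ => Nat) (@Bool.rec (fun _ => Nat) (tJ_s1686_1689 j) (tJ_s1689_1693 j) (Nat.ble (nat_lit 1689) j)) (@Bool.rec (fun _ => Nat) (tJ_s1693_1697 j) (tJ_s1697_1701 j) (Nat.ble (nat_lit 1697) j)) (Nat.ble (nat_lit 1693) j)) (@Bool.rec (fun _ => Nat) (@Bool.rec (fun _ => Nat) (tJ_s1701_1704 j) (tJ_s1704_1708 j) (Nat.ble (nat_lit 1704) j)) (@Bool.rec (fun _ => Nat) (tJ_s1708_1712 j) (tJ_s1712_1716 j) (Nat.ble (nat_lit 1712) j)) (Nat.ble (nat_lit 1708) j)) (Nat.ble (nat_lit 1701) j)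
noncomputable def tJ_s1716_1719 (j : Nat) : Nat := @Bool.rec (fun _ => Nat) tJ_P1716 (@Bool.rec (fun _ => Nat) tJ_P1717 tJ_P1718 (Nat.ble (nat_lit 1718) j)) (Nat.ble (nat_lit 1717) j)
noncomputable def tJ_s1719_1723 (j : Nat) : Nat := @Bool.rec (fun _ => Nat) (@Bool.rec (fun _ => Nat) tJ_P1719 tJ_P1720 (Nat.ble (nat_lit 1720) j)) (@Bool.rec (fun _ => Nat) tJ_P1721 tJ_P1722 (Nat.ble (nat_lit 1722) j)) (Nat.ble (nat_lit 1721) j)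
noncomputable def tJ_s1723_1727 (j : Nat) : Nat := @Bool.rec (fun _ => Nat) (@Bool.rec (fun _ => Nat) tJ_P1723 tJ_P1724 (Nat.ble (nat_lit 1724) j)) (@Bool.rec (fun _ => Nat) tJ_P1725 tJ_P1726 (Nat.ble (nat_lit 1726) j)) (Nat.ble (nat_lit 1725) j)
noncomputable def tJ_s1727_1731 (j : Nat) : Nat := @Bool.rec (fun _ => Nat) (@Bool.rec (fun _ => Nat) tJ_P1727 tJ_P1728 (Nat.ble (nat_lit 1728) j)) (@Bool.rec (fun _ => Nat) tJ_P1729 tJ_P1730 (Nat.ble (nat_lit 1730) j)) (Nat.ble (nat_lit 1729) j)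
noncomputable def tJ_s1731_1734 (j : Nat) : Nat := @Bool.rec (fun _ => Nat) tJ_P1731 (@Bool.rec (fun _ => Nat) tJ_P1732 tJ_P1733 (Nat.ble (nat_lit 1733) j)) (Nat.ble (nat_lit 1732) j)
noncomputable def tJ_s1734_1738 (j : Nat) : Nat := @Bool.rec (fun _ => Nat) (@Bool.rec (fun _ => Nat) tJ_P1734 tJ_P1735 (Nat.ble (nat_lit 1735) j)) (@Bool.rec (fun _ => Nat) tJ_P1736 tJ_P1737 (Nat.ble (nat_lit 1737) j)) (Nat.ble (nat_lit 1736) j)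
noncomputable def tJ_s1738_1742 (j : Nat) : Nat := @Bool.rec (fun _ => Nat) (@Bool.rec (fun _ => Nat) tJ_P1738 tJ_P1739 (Nat.ble (nat_lit 1739) j)) (@Bool.rec (fun _ => Nat) tJ_P1740 tJ_P1741 (Nat.ble (nat_lit 1741) j)) (Nat.ble (nat_lit 1740) j)
noncomputable def tJ_s1742_1746 (j : Nat) : Nat := @Bool.rec (fun _ => Nat) (@Bool.rec (fun _ => Nat) tJ_P1742 tJ_P1743 (Nat.ble (nat_lit 1743) j)) (@Bool.rec (fun _ => Nat) tJ_P1744 tJ_P1745 (Nat.ble (nat_lit 1745) j)) (Nat.ble (nat_lit 1744) j)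
noncomputable def tJ_s1716_1746 (j : Nat) : Nat := @Bool.rec (fun _ => Nat) (@Bool.rec (fun _ => Nat) (@Bool.rec (fun _ => Nat) (tJ_s1716_1719 j) (tJ_s1719_1723 j) (Nat.ble (nat_lit 1719) j)) (@Bool.rec (fun _ => Nat) (tJ_s1723_1727 j) (tJ_s1727_1731 j) (Nat.ble (nat_lit 1727) j)) (Nat.ble (nat_lit 1723) j)) (@Bool.rec (fun _ => Nat) (@Bool.rec (fun _ => Nat) (tJ_s1731_1734 j) (tJ_s1734_1738 j) (Nat.ble (nat_lit 1734) j)) (@Bool.rec (fun _ => Nat) (tJ_s1738_1742 j) (tJ_s1742_1746 j) (Nat.ble (nat_lit 1742) j)) (Nat.ble (nat_lit 1738) j)) (Nat.ble (nat_lit 1731) j)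
noncomputable def tJ_s1746_1749 (j : Nat) : Nat := @Bool.rec (fun _ => Nat) tJ_P1746 (@Bool.rec (fun _ => Nat) tJ_P1747 tJ_P1748 (Nat.ble (nat_lit 1748) j)) (Nat.ble (nat_lit 1747) j)
noncomputable def tJ_s1749_1753 (j : Nat) : Nat := @Bool.rec (fun _ => Nat) (@Bool.rec (fun _ => Nat) tJ_P1749 tJ_P1750 (Nat.ble (nat_lit 1750) j)) (@Bool.rec (fun _ => Nat) tJ_P1751 tJ_P1752 (Nat.ble (nat_lit 1752) j)) (Nat.ble (nat_lit 1751) j)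
noncomputable def tJ_s1753_1757 (j : Nat) : Nat := @Bool.rec (fun _ => Nat) (@Bool.rec (fun _ => Nat) tJ_P1753 tJ_P1754 (Nat.ble (nat_lit 1754) j)) (@Bool.rec (fun _ => Nat) tJ_P1755 tJ_P1756 (Nat.ble (nat_lit 1756) j)) (Nat.ble (nat_lit 1755) j)
noncomputable def tJ_s1757_1761 (j : Nat) : Nat := @Bool.rec (fun _ => Nat) (@Bool.rec (fun _ => Nat) tJ_P1757 tJ_P1758 (Nat.ble (nat_lit 1758) j)) (@Bool.rec (fun _ => Nat) tJ_P1759 tJ_P1760 (Nat.ble (nat_lit 1760) j)) (Nat.ble (nat_lit 1759) j)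
noncomputable def tJ_s1761_1764 (j : Nat) : Nat := @Bool.rec (fun _ => Nat) tJ_P1761 (@Bool.rec (fun _ => Nat) tJ_P1762 tJ_P1763 (Nat.ble (nat_lit 1763) j)) (Nat.ble (nat_lit 1762) j)
noncomputable def tJ_s1764_1768 (j : Nat) : Nat := @Bool.rec (fun _ => Nat) (@Bool.rec (fun _ => Nat) tJ_P1764 tJ_P1765 (Nat.ble (nat_lit 1765) j)) (@Bool.rec (fun _ => Nat) tJ_P1766 tJ_P1767 (Nat.ble (nat_lit 1767) j)) (Nat.ble (nat_lit 1766) j)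
noncomputable def tJ_s1768_1772 (j : Nat) : Nat := @Bool.rec (fun _ => Nat) (@Bool.rec (fun _ => Nat) tJ_P1768 tJ_P1769 (Nat.ble (nat_lit 1769) j)) (@Bool.rec (fun _ => Nat) tJ_P1770 tJ_P1771 (Nat.ble (nat_lit 1771) j)) (Nat.ble (nat_lit 1770) j)
noncomputable def tJ_s1772_1776 (j : Nat) : Nat := @Bool.rec (fun _ => Nat) (@Bool.rec (fun _ => Nat) tJ_P1772 tJ_P1773 (Nat.ble (nat_lit 1773) j)) (@Bool.rec (fun _ => Nat) tJ_P1774 tJ_P1775 (Nat.ble (nat_lit 1775) j)) (Nat.ble (nat_lit 1774) j)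
noncomputable def tJ_s1746_1776 (j : Nat) : Nat := @Bool.rec (fun _ => Nat) (@Bool.rec (fun _ => Nat) (@Bool.rec (fun _ => Nat) (tJ_s1746_1749 j) (tJ_s1749_1753 j) (Nat.ble (nat_lit 1749) j)) (@Bool.rec (fun _ => Nat) (tJ_s1753_1757 j) (tJ_s1757_1761 j) (Nat.ble (nat_lit 1757) j)) (Nat.ble (nat_lit 1753) j)) (@Bool.rec (fun _ => Nat) (@Bool.rec (fun _ => Nat) (tJ_s1761_1764 j) (tJ_s1764_1768 j) (Nat.ble (nat_lit 1764) j)) (@Bool.rec (fun _ => Nat) (tJ_s1768_1772 j) (tJ_s1772_1776 j) (Nat.ble (nat_lit 1772) j)) (Nat.ble (nat_lit 1768) j)) (Nat.ble (nat_lit 1761) j)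
noncomputable def tJ_s1776_1779 (j : Nat) : Nat := @Bool.rec (fun _ => Nat) tJ_P1776 (@Bool.rec (fun _ => Nat) tJ_P1777 tJ_P1778 (Nat.ble (nat_lit 1778) j)) (Nat.ble (nat_lit 1777) j)
noncomputable def tJ_s1779_1783 (j : Nat) : Nat := @Bool.rec (fun _ => Nat) (@Bool.rec (fun _ => Nat) tJ_P1779 tJ_P1780 (Nat.ble (nat_lit 1780) j)) (@Bool.rec (fun _ => Nat) tJ_P1781 tJ_P1782 (Nat.ble (nat_lit 1782) j)) (Nat.ble (nat_lit 1781) j)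
noncomputable def tJ_s1783_1787 (j : Nat) : Nat := @Bool.rec (fun _ => Nat) (@Bool.rec (fun _ => Nat) tJ_P1783 tJ_P1784 (Nat.ble (nat_lit 1784) j)) (@Bool.rec (fun _ => Nat) tJ_P1785 tJ_P1786 (Nat.ble (nat_lit 1786) j)) (Nat.ble (nat_lit 1785) j)
noncomputable def tJ_s1787_1791 (j : Nat) : Nat := @Bool.rec (fun _ => Nat) (@Bool.rec (fun _ => Nat) tJ_P1787 tJ_P1788 (Nat.ble (nat_lit 1788) j)) (@Bool.rec (fun _ => Nat) tJ_P1789 tJ_P1790 (Nat.ble (nat_lit 1790) j)) (Nat.ble (nat_lit 1789) j)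
noncomputable def tJ_s1791_1794 (j : Nat) : Nat := @Bool.rec (fun _ => Nat) tJ_P1791 (@Bool.rec (fun _ => Nat) tJ_P1792 tJ_P1793 (Nat.ble (nat_lit 1793) j)) (Nat.ble (nat_lit 1792) j)
noncomputable def tJ_s1794_1798 (j : Nat) : Nat := @Bool.rec (fun _ => Nat) (@Bool.rec (fun _ => Nat) tJ_P1794 tJ_P1795 (Nat.ble (nat_lit 1795) j)) (@Bool.rec (fun _ => Nat) tJ_P1796 tJ_P1797 (Nat.ble (nat_lit 1797) j)) (Nat.ble (nat_lit 1796) j)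
noncomputable def tJ_s1798_1802 (j : Nat) : Nat := @Bool.rec (fun _ => Nat) (@Bool.rec (fun _ => Nat) tJ_P1798 tJ_P1799 (Nat.ble (nat_lit 1799) j)) (@Bool.rec (fun _ => Nat) tJ_P1800 tJ_P1801 (Nat.ble (nat_lit 1801) j)) (Nat.ble (nat_lit 1800) j)
noncomputable def tJ_s1802_1806 (j : Nat) : Nat := @Bool.rec (fun _ => Nat) (@Bool.rec (fun _ => Nat) tJ_P1802 tJ_P1803 (Nat.ble (nat_lit 1803) j)) (@Bool.rec (fun _ => Nat) tJ_P1804 tJ_P1805 (Nat.ble (nat_lit 1805) j)) (Nat.ble (nat_lit 1804) j)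
noncomputable def tJ_s1776_1806 (j : Nat) : Nat := @Bool.rec (fun _ => Nat) (@Bool.rec (fun _ => Nat) (@Bool.rec (fun _ => Nat) (tJ_s1776_1779 j) (tJ_s1779_1783 j) (Nat.ble (nat_lit 1779) j)) (@Bool.rec (fun _ => Nat) (tJ_s1783_1787 j) (tJ_s1787_1791 j) (Nat.ble (nat_lit 1787) j)) (Nat.ble (nat_lit 1783) j)) (@Bool.rec (fun _ => Nat) (@Bool.rec (fun _ => Nat) (tJ_s1791_1794 j) (tJ_s1794_1798 j) (Nat.ble (nat_lit 1794) j)) (@Bool.rec (fun _ => Nat) (tJ_s1798_1802 j) (tJ_s1802_1806 j) (Nat.ble (nat_lit 1802) j)) (Nat.ble (nat_lit 1798) j)) (Nat.ble (nat_lit 1791) j)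
noncomputable def tJ_s1806_1809 (j : Nat) : Nat := @Bool.rec (fun _ => Nat) tJ_P1806 (@Bool.rec (fun _ => Nat) tJ_P1807 tJ_P1808 (Nat.ble (nat_lit 1808) j)) (Nat.ble (nat_lit 1807) j)
noncomputable def tJ_s1809_1813 (j : Nat) : Nat := @Bool.rec (fun _ => Nat) (@Bool.rec (fun _ => Nat) tJ_P1809 tJ_P1810 (Nat.ble (nat_lit 1810) j)) (@Bool.rec (fun _ => Nat) tJ_P1811 tJ_P1812 (Nat.ble (nat_lit 1812) j)) (Nat.ble (nat_lit 1811) j)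
noncomputable def tJ_s1813_1817 (j : Nat) : Nat := @Bool.rec (fun _ => Nat) (@Bool.rec (fun _ => Nat) tJ_P1813 tJ_P1814 (Nat.ble (nat_lit 1814) j)) (@Bool.rec (fun _ => Nat) tJ_P1815 tJ_P1816 (Nat.ble (nat_lit 1816) j)) (Nat.ble (nat_lit 1815) j)
noncomputable def tJ_s1817_1821 (j : Nat) : Nat := @Bool.rec (fun _ => Nat) (@Bool.rec (fun _ => Nat) tJ_P1817 tJ_P1818 (Nat.ble (nat_lit 1818) j)) (@Bool.rec (fun _ => Nat) tJ_P1819 tJ_P1820 (Nat.ble (nat_lit 1820) j)) (Nat.ble (nat_lit 1819) j)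
noncomputable def tJ_s1821_1824 (j : Nat) : Nat := @Bool.rec (fun _ => Nat) tJ_P1821 (@Bool.rec (fun _ => Nat) tJ_P1822 tJ_P1823 (Nat.ble (nat_lit 1823) j)) (Nat.ble (nat_lit 1822) j)
noncomputable def tJ_s1824_1828 (j : Nat) : Nat := @Bool.rec (fun _ => Nat) (@Bool.rec (fun _ => Nat) tJ_P1824 tJ_P1825 (Nat.ble (nat_lit 1825) j)) (@Bool.rec (fun _ => Nat) tJ_P1826 tJ_P1827 (Nat.ble (nat_lit 1827) j)) (Nat.ble (nat_lit 1826) j)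
noncomputable def tJ_s1828_1832 (j : Nat) : Nat := @Bool.rec (fun _ => Nat) (@Bool.rec (fun _ => Nat) tJ_P1828 tJ_P1829 (Nat.ble (nat_lit 1829) j)) (@Bool.rec (fun _ => Nat) tJ_P1830 tJ_P1831 (Nat.ble (nat_lit 1831) j)) (Nat.ble (nat_lit 1830) j)
noncomputable def tJ_s1832_1836 (j : Nat) : Nat := @Bool.rec (fun _ => Nat) (@Bool.rec (fun _ => Nat) tJ_P1832 tJ_P1833 (Nat.ble (nat_lit 1833) j)) (@Bool.rec (fun _ => Nat) tJ_P1834 tJ_P1835 (Nat.ble (nat_lit 1835) j)) (Nat.ble (nat_lit 1834) j)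
noncomputable def tJ_s1806_1836 (j : Nat) : Nat := @Bool.rec (fun _ => Nat) (@Bool.rec (fun _ => Nat) (@Bool.rec (fun _ => Nat) (tJ_s1806_1809 j) (tJ_s1809_1813 j) (Nat.ble (nat_lit 1809) j)) (@Bool.rec (fun _ => Nat) (tJ_s1813_1817 j) (tJ_s1817_1821 j) (Nat.ble (nat_lit 1817) j)) (Nat.ble (nat_lit 1813) j)) (@Bool.rec (fun _ => Nat) (@Bool.rec (fun _ => Nat) (tJ_s1821_1824 j) (tJ_s1824_1828 j) (Nat.ble (nat_lit 1824) j)) (@Bool.rec (fun _ => Nat) (tJ_s1828_1832 j) (tJ_s1832_1836 j) (Nat.ble (nat_lit 1832) j)) (Nat.ble (nat_lit 1828) j)) (Nat.ble (nat_lit 1821) j)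
noncomputable def tJ_s1836_1839 (j : Nat) : Nat := @Bool.rec (fun _ => Nat) tJ_P1836 (@Bool.rec (fun _ => Nat) tJ_P1837 tJ_P1838 (Nat.ble (nat_lit 1838) j)) (Nat.ble (nat_lit 1837) j)
noncomputable def tJ_s1839_1843 (j : Nat) : Nat := @Bool.rec (fun _ => Nat) (@Bool.rec (fun _ => Nat) tJ_P1839 tJ_P1840 (Nat.ble (nat_lit 1840) j)) (@Bool.rec (fun _ => Nat) tJ_P1841 tJ_P1842 (Nat.ble (nat_lit 1842) j)) (Nat.ble (nat_lit 1841) j)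
noncomputable def tJ_s1843_1847 (j : Nat) : Nat := @Bool.rec (fun _ => Nat) (@Bool.rec (fun _ => Nat) tJ_P1843 tJ_P1844 (Nat.ble (nat_lit 1844) j)) (@Bool.rec (fun _ => Nat) tJ_P1845 tJ_P1846 (Nat.ble (nat_lit 1846) j)) (Nat.ble (nat_lit 1845) j)
noncomputable def tJ_s1847_1851 (j : Nat) : Nat := @Bool.rec (fun _ => Nat) (@Bool.rec (fun _ => Nat) tJ_P1847 tJ_P1848 (Nat.ble (nat_lit 1848) j)) (@Bool.rec (fun _ => Nat) tJ_P1849 tJ_P1850 (Nat.ble (nat_lit 1850) j)) (Nat.ble (nat_lit 1849) j)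
noncomputable def tJ_s1851_1854 (j : Nat) : Nat := @Bool.rec (fun _ => Nat) tJ_P1851 (@Bool.rec (fun _ => Nat) tJ_P1852 tJ_P1853 (Nat.ble (nat_lit 1853) j)) (Nat.ble (nat_lit 1852) j)
noncomputable def tJ_s1854_1858 (j : Nat) : Nat := @Bool.rec (fun _ => Nat) (@Bool.rec (fun _ => Nat) tJ_P1854 tJ_P1855 (Nat.ble (nat_lit 1855) j)) (@Bool.rec (fun _ => Nat) tJ_P1856 tJ_P1857 (Nat.ble (nat_lit 1857) j)) (Nat.ble (nat_lit 1856) j)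
noncomputable def tJ_s1858_1862 (j : Nat) : Nat := @Bool.rec (fun _ => Nat) (@Bool.rec (fun _ => Nat) tJ_P1858 tJ_P1859 (Nat.ble (nat_lit 1859) j)) (@Bool.rec (fun _ => Nat) tJ_P1860 tJ_P1861 (Nat.ble (nat_lit 1861) j)) (Nat.ble (nat_lit 1860) j)
noncomputable def tJ_s1862_1866 (j : Nat) : Nat := @Bool.rec (fun _ => Nat) (@Bool.rec (fun _ => Nat) tJ_P1862 tJ_P1863 (Nat.ble (nat_lit 1863) j)) (@Bool.rec (fun _ => Nat) tJ_P1864 tJ_P1865 (Nat.ble (nat_lit 1865) j)) (Nat.ble (nat_lit 1864) j)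
noncomputable def tJ_s1836_1866 (j : Nat) : Nat := @Bool.rec (fun _ => Nat) (@Bool.rec (fun _ => Nat) (@Bool.rec (fun _ => Nat) (tJ_s1836_1839 j) (tJ_s1839_1843 j) (Nat.ble (nat_lit 1839) j)) (@Bool.rec (fun _ => Nat) (tJ_s1843_1847 j) (tJ_s1847_1851 j) (Nat.ble (nat_lit 1847) j)) (Nat.ble (nat_lit 1843) j)) (@Bool.rec (fun _ => Nat) (@Bool.rec (fun _ => Nat) (tJ_s1851_1854 j) (tJ_s1854_1858 j) (Nat.ble (nat_lit 1854) j)) (@Bool.rec (fun _ => Nat) (tJ_s1858_1862 j) (tJ_s1862_1866 j) (Nat.ble (nat_lit 1862) j)) (Nat.ble (nat_lit 1858) j)) (Nat.ble (nat_lit 1851) j)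
noncomputable def tJ_s1866_1869 (j : Nat) : Nat := @Bool.rec (fun _ => Nat) tJ_P1866 (@Bool.rec (fun _ => Nat) tJ_P1867 tJ_P1868 (Nat.ble (nat_lit 1868) j)) (Nat.ble (nat_lit 1867) j)
noncomputable def tJ_s1869_1873 (j : Nat) : Nat := @Bool.rec (fun _ => Nat) (@Bool.rec (fun _ => Nat) tJ_P1869 tJ_P1870 (Nat.ble (nat_lit 1870) j)) (@Bool.rec (fun _ => Nat) tJ_P1871 tJ_P1872 (Nat.ble (nat_lit 1872) j)) (Nat.ble (nat_lit 1871) j)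
noncomputable def tJ_s1873_1877 (j : Nat) : Nat := @Bool.rec (fun _ => Nat) (@Bool.rec (fun _ => Nat) tJ_P1873 tJ_P1874 (Nat.ble (nat_lit 1874) j)) (@Bool.rec (fun _ => Nat) tJ_P1875 tJ_P1876 (Nat.ble (nat_lit 1876) j)) (Nat.ble (nat_lit 1875) j)
noncomputable def tJ_s1877_1881 (j : Nat) : Nat := @Bool.rec (fun _ => Nat) (@Bool.rec (fun _ => Nat) tJ_P1877 tJ_P1878 (Nat.ble (nat_lit 1878) j)) (@Bool.rec (fun _ => Nat) tJ_P1879 tJ_P1880 (Nat.ble (nat_lit 1880) j)) (Nat.ble (nat_lit 1879) j)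
noncomputable def tJ_s1881_1884 (j : Nat) : Nat := @Bool.rec (fun _ => Nat) tJ_P1881 (@Bool.rec (fun _ => Nat) tJ_P1882 tJ_P1883 (Nat.ble (nat_lit 1883) j)) (Nat.ble (nat_lit 1882) j)
noncomputable def tJ_s1884_1888 (j : Nat) : Nat := @Bool.rec (fun _ => Nat) (@Bool.rec (fun _ => Nat) tJ_P1884 tJ_P1885 (Nat.ble (nat_lit 1885) j)) (@Bool.rec (fun _ => Nat) tJ_P1886 tJ_P1887 (Nat.ble (nat_lit 1887) j)) (Nat.ble (nat_lit 1886) j)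
noncomputable def tJ_s1888_1892 (j : Nat) : Nat := @Bool.rec (fun _ => Nat) (@Bool.rec (fun _ => Nat) tJ_P1888 tJ_P1889 (Nat.ble (nat_lit 1889) j)) (@Bool.rec (fun _ => Nat) tJ_P1890 tJ_P1891 (Nat.ble (nat_lit 1891) j)) (Nat.ble (nat_lit 1890) j)
noncomputable def tJ_s1892_1896 (j : Nat) : Nat := @Bool.rec (fun _ => Nat) (@Bool.rec (fun _ => Nat) tJ_P1892 tJ_P1893 (Nat.ble (nat_lit 1893) j)) (@Bool.rec (fun _ => Nat) tJ_P1894 tJ_P1895 (Nat.ble (nat_lit 1895) j)) (Nat.ble (nat_lit 1894) j)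
noncomputable def tJ_s1866_1896 (j : Nat) : Nat := @Bool.rec (fun _ => Nat) (@Bool.rec (fun _ => Nat) (@Bool.rec (fun _ => Nat) (tJ_s1866_1869 j) (tJ_s1869_1873 j) (Nat.ble (nat_lit 1869) j)) (@Bool.rec (fun _ => Nat) (tJ_s1873_1877 j) (tJ_s1877_1881 j) (Nat.ble (nat_lit 1877) j)) (Nat.ble (nat_lit 1873) j)) (@Bool.rec (fun _ => Nat) (@Bool.rec (fun _ => Nat) (tJ_s1881_1884 j) (tJ_s1884_1888 j) (Nat.ble (nat_lit 1884) j)) (@Bool.rec (fun _ => Nat) (tJ_s1888_1892 j) (tJ_s1892_1896 j) (Nat.ble (nat_lit 1892) j)) (Nat.ble (nat_lit 1888) j)) (Nat.ble (nat_lit 1881) j)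
noncomputable def tJ_s1896_1899 (j : Nat) : Nat := @Bool.rec (fun _ => Nat) tJ_P1896 (@Bool.rec (fun _ => Nat) tJ_P1897 tJ_P1898 (Nat.ble (nat_lit 1898) j)) (Nat.ble (nat_lit 1897) j)
noncomputable def tJ_s1899_1903 (j : Nat) : Nat := @Bool.rec (fun _ => Nat) (@Bool.rec (fun _ => Nat) tJ_P1899 tJ_P1900 (Nat.ble (nat_lit 1900) j)) (@Bool.rec (fun _ => Nat) tJ_P1901 tJ_P1902 (Nat.ble (nat_lit 1902) j)) (Nat.ble (nat_lit 1901) j)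
noncomputable def tJ_s1903_1907 (j : Nat) : Nat := @Bool.rec (fun _ => Nat) (@Bool.rec (fun _ => Nat) tJ_P1903 tJ_P1904 (Nat.ble (nat_lit 1904) j)) (@Bool.rec (fun _ => Nat) tJ_P1905 tJ_P1906 (Nat.ble (nat_lit 1906) j)) (Nat.ble (nat_lit 1905) j)
noncomputable def tJ_s1907_1911 (j : Nat) : Nat := @Bool.rec (fun _ => Nat) (@Bool.rec (fun _ => Nat) tJ_P1907 tJ_P1908 (Nat.ble (nat_lit 1908) j)) (@Bool.rec (fun _ => Nat) tJ_P1909 tJ_P1910 (Nat.ble (nat_lit 1910) j)) (Nat.ble (nat_lit 1909) j)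
noncomputable def tJ_s1911_1915 (j : Nat) : Nat := @Bool.rec (fun _ => Nat) (@Bool.rec (fun _ => Nat) tJ_P1911 tJ_P1912 (Nat.ble (nat_lit 1912) j)) (@Bool.rec (fun _ => Nat) tJ_P1913 tJ_P1914 (Nat.ble (nat_lit 1914) j)) (Nat.ble (nat_lit 1913) j)
noncomputable def tJ_s1915_1919 (j : Nat) : Nat := @Bool.rec (fun _ => Nat) (@Bool.rec (fun _ => Nat) tJ_P1915 tJ_P1916 (Nat.ble (nat_lit 1916) j)) (@Bool.rec (fun _ => Nat) tJ_P1917 tJ_P1918 (Nat.ble (nat_lit 1918) j)) (Nat.ble (nat_lit 1917) j)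
noncomputable def tJ_s1919_1923 (j : Nat) : Nat := @Bool.rec (fun _ => Nat) (@Bool.rec (fun _ => Nat) tJ_P1919 tJ_P1920 (Nat.ble (nat_lit 1920) j)) (@Bool.rec (fun _ => Nat) tJ_P1921 tJ_P1922 (Nat.ble (nat_lit 1922) j)) (Nat.ble (nat_lit 1921) j)
noncomputable def tJ_s1923_1927 (j : Nat) : Nat := @Bool.rec (fun _ => Nat) (@Bool.rec (fun _ => Nat) tJ_P1923 tJ_P1924 (Nat.ble (nat_lit 1924) j)) (@Bool.rec (fun _ => Nat) tJ_P1925 tJ_P1926 (Nat.ble (nat_lit 1926) j)) (Nat.ble (nat_lit 1925) j)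
noncomputable def tJ_s1896_1927 (j : Nat) : Nat := @Bool.rec (fun _ => Nat) (@Bool.rec (fun _ => Nat) (@Bool.rec (fun _ => Nat) (tJ_s1896_1899 j) (tJ_s1899_1903 j) (Nat.ble (nat_lit 1899) j)) (@Bool.rec (fun _ => Nat) (tJ_s1903_1907 j) (tJ_s1907_1911 j) (Nat.ble (nat_lit 1907) j)) (Nat.ble (nat_lit 1903) j)) (@Bool.rec (fun _ => Nat) (@Bool.rec (fun _ => Nat) (tJ_s1911_1915 j) (tJ_s1915_1919 j) (Nat.ble (nat_lit 1915) j)) (@Bool.rec (fun _ => Nat) (tJ_s1919_1923 j) (tJ_s1923_1927 j) (Nat.ble (nat_lit 1923) j)) (Nat.ble (nat_lit 1919) j)) (Nat.ble (nat_lit 1911) j)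
noncomputable def tJ_s1686_1927 (j : Nat) : Nat := @Bool.rec (fun _ => Nat) (@Bool.rec (fun _ => Nat) (@Bool.rec (fun _ => Nat) (tJ_s1686_1716 j) (tJ_s1716_1746 j) (Nat.ble (nat_lit 1716) j)) (@Bool.rec (fun _ => Nat) (tJ_s1746_1776 j) (tJ_s1776_1806 j) (Nat.ble (nat_lit 1776) j)) (Nat.ble (nat_lit 1746) j)) (@Bool.rec (fun _ => Nat) (@Bool.rec (fun _ => Nat) (tJ_s1806_1836 j) (tJ_s1836_1866 j) (Nat.ble (nat_lit 1836) j)) (@Bool.rec (fun _ => Nat) (tJ_s1866_1896 j) (tJ_s1896_1927 j) (Nat.ble (nat_lit 1896) j)) (Nat.ble (nat_lit 1866) j)) (Nat.ble (nat_lit 1806) j)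
noncomputable def tJ_s0_1927 (j : Nat) : Nat := @Bool.rec (fun _ => Nat) (@Bool.rec (fun _ => Nat) (@Bool.rec (fun _ => Nat) (tJ_s0_240 j) (tJ_s240_481 j) (Nat.ble (nat_lit 240) j)) (@Bool.rec (fun _ => Nat) (tJ_s481_722 j) (tJ_s722_963 j) (Nat.ble (nat_lit 722) j)) (Nat.ble (nat_lit 481) j)) (@Bool.rec (fun _ => Nat) (@Bool.rec (fun _ => Nat) (tJ_s963_1204 j) (tJ_s1204_1445 j) (Nat.ble (nat_lit 1204) j)) (@Bool.rec (fun _ => Nat) (tJ_s1445_1686 j) (tJ_s1686_1927 j) (Nat.ble (nat_lit 1686) j)) (Nat.ble (nat_lit 1445) j)) (Nat.ble (nat_lit 963) j)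
noncomputable def tJ (i : Nat) : Nat := Nat.land (Nat.shiftRight (tJ_s0_1927 (Nat.div i (nat_lit 2048))) (tJ_O i)) (nat_lit 2614117410391266162216910864856400380481273778896007413577646529899039946529352705769935017689865393358199524303632631497733063675323569548507999228725661148816539723728913663413460575415592205218217489950040026769691619889365585072965716293409688827005356987547457193287874243727041687654547962980577068357482165429392376919943464324022416793037655791951854885404064067730479658061190872761421905205983177647609255878282623980425288270832749944841497768982027548572791054227566470905447336634658670599926824064506571501516266117360795257567117881465112660093788411815944631540317339930167162755062724792001434177557407714630155402374401665677111473232856027429128474890887300402747466660924524572010178403554199445088376764496414093420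9902121838296825522189529493079385552486781468295638637153771526050728249586756012624060176752315285594466440494930696040857767560368337051764011326174951471907461814986497804137684809452086453564675499437156303002605137672761600724902643271921996716383047701194784531714133586025246398628829207914539652076099260765701588733803549956611054623741374949184065093970599576867400177729129154331599298197890445764385199524982691417721233953334560546473374401419257127959678809821719770518796905414440254437315678539922320486074840360363285866553765942092315287049761159477397649884457210049696825349215526467265702104956910163513152524113676377258588486985322788235248712667202150664058620662603089107533490700223798851790580412042866205032065663231047714167148003324964057954474427601756294714775389071470879931502649919506886937326722391225303663095919220011462029782056248654903717178939683115369060870102069481938405142795376703021788830529602722525555335266892697382030513192012529227196792831)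

noncomputable def rels : List (List Nat) := [[0, 0], [0, 2, 0, 2, 0, 2], [0, 4, 0, 4], [0, 6, 0, 6], [0, 8, 0, 8], [0, 10, 0, 10], [0, 12, 0, 12], [0, 14, 0, 14], [0, 16, 0, 16], [0, 18, 0, 18], [0, 20, 0, 20], [0, 22, 0, 22], [], [2, 2], [2, 4, 2, 4, 2, 4], [2, 6, 2, 6], [2, 8, 2, 8], [2, 10, 2, 10], [2, 12, 2, 12], [2, 14, 2, 14], [2, 16, 2, 16], [2, 18, 2, 18], [2, 20, 2, 20], [2, 22, 2, 22], [], [], [4, 4], [4, 6, 4, 6, 4, 6], [4, 8, 4, 8], [4, 10, 4, 10], [4, 12, 4, 12], [4, 14, 4, 14], [4, 16, 4, 16], [4, 18, 4, 18], [4, 20, 4, 20], [4, 22, 4, 22], [], [], [], [6, 6], [6, 8, 6, 8, 6, 8], [6, 10, 6, 10], [6, 12, 6, 12], [6, 14, 6, 14], [6, 16, 6, 16], [6, 18, 6, 18], [6, 20, 6, 20], [6, 22, 6, 22], [], [], [], [], [8, 8], [8, 10, 8, 10, 8, 10], [8, 12, 8, 12], [8, 14, 8, 14], [8, 16, 8, 16], [8, 18, 8, 18], [8, 20, 8, 20], [8, 22, 8, 22], [],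 [], [], [], [], [10, 10], [10, 12, 10, 12, 10, 12], [10, 14, 10, 14], [10, 16, 10, 16], [10, 18, 10, 18], [10, 20, 10, 20, 10, 20], [10, 22, 10, 22], [], [], [], [], [], [], [12, 12], [12, 14, 12, 14, 12, 14], [12, 16, 12, 16], [12, 18, 12, 18], [12, 20, 12, 20], [12, 22, 12, 22], [], [], [], [], [], [], [], [14, 14], [14, 16, 14, 16, 14, 16], [14, 18, 14, 18], [14, 20, 14, 20], [14, 22, 14, 22], [], [], [], [], [], [], [], [], [16, 16], [16, 18, 16, 18, 16, 18], [16, 20, 16, 20], [16, 22, 16, 22], [], [], [], [], [], [], [], [], [], [18, 18], [18, 20, 18, 20], [18, 22, 18, 22], [], [], [], [], [], [], [], [], [], [], [20, 20], [20, 22, 20, 22, 20, 22], [], [], [], [], [], [], [], [], [], [], [], [22, 22], [0, 21, 15, 13, 11, 9, 7, 5, 21, 15, 13, 11, 9, 7, 5, 21, 15, 13, 11, 9, 7, 5, 21, 15, 13, 11, 9, 7, 5, 21, 15, 13, 11, 9, 7, 5, 21, 15, 13, 11,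 9, 7, 5, 21, 15, 13, 11, 9, 7, 5, 21, 15, 13, 11, 9, 7, 5, 21, 15, 13, 11, 9, 7, 5], [10, 8, 6, 4, 2, 0, 10, 12, 14, 16, 18, 10, 20, 22, 10, 8, 6, 4, 2, 0, 10, 12, 14, 16, 18, 10, 20, 22, 10, 8, 6, 4, 2, 0, 10, 12, 14, 16, 18, 10, 20, 22, 10, 8, 6, 4, 2, 0, 10, 12, 14, 16, 18, 10, 20, 22, 10, 8, 6, 4, 2, 0, 10, 12, 14, 16, 18, 10, 20, 22, 10, 8, 6, 4, 2, 0, 10, 12, 14, 16, 18, 10, 20, 22, 10, 8, 6, 4, 2, 0, 10, 12, 14, 16, 18, 10, 20, 22, 10, 8, 6, 4, 2, 0, 10, 12, 14, 16, 18, 10, 20, 22, 10, 8, 6, 4, 2, 0, 10, 12, 14, 16, 18, 10, 20, 22, 10, 8, 6, 4, 2, 0, 10, 12, 14, 16, 18, 10, 20, 22, 10, 8, 6, 4, 2, 0, 10, 12, 14, 16, 18, 10, 20, 22, 10, 8, 6, 4, 2, 0, 10, 12, 14, 16, 18, 10, 20, 22, 10, 8, 6, 4, 2, 0, 10, 12, 14, 16, 18, 10, 20, 22, 10, 8, 6, 4, 2, 0, 10, 12, 14, 16, 18, 10, 20, 22, 10, 8, 6, 4, 2, 0, 10, 12, 14, 16, 18, 10, 20, 22, 10, 8, 6,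 4, 2, 0, 10, 12, 14, 16, 18, 10, 20, 22, 10, 8, 6, 4, 2, 0, 10, 12, 14, 16, 18, 10, 20, 22]]
noncomputable def subs : List (List Nat) := [[4], [6], [8], [10], [12], [14], [16], [20], [22], [18], [0]]
noncomputable def rels2 : List (List (List Nat)) := [[[0, 0], [0, 2, 0, 2, 0, 2], [0, 4, 0, 4], [0, 6, 0, 6], [0, 8, 0, 8], [0, 10, 0, 10], [0, 12, 0, 12], [0, 14, 0, 14]], [[0, 16, 0, 16], [0, 18, 0, 18], [0, 20, 0, 20], [0, 22, 0, 22], [], [2, 2], [2, 4, 2, 4, 2, 4], [2, 6, 2, 6]], [[2, 8, 2, 8], [2, 10, 2, 10], [2, 12, 2, 12], [2, 14, 2, 14], [2, 16, 2, 16], [2, 18, 2, 18], [2, 20, 2, 20], [2, 22, 2, 22]], [[], [], [4, 4], [4, 6, 4, 6, 4, 6], [4, 8, 4, 8], [4, 10, 4, 10], [4, 12, 4, 12], [4, 14, 4, 14]], [[4, 16, 4, 16], [4, 18, 4, 18], [4, 20, 4, 20], [4, 22, 4, 22], [], [], [], [6, 6]], [[6, 8, 6, 8, 6, 8], [6, 10, 6, 10], [6, 12, 6, 12], [6, 14, 6,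 14], [6, 16, 6, 16], [6, 18, 6, 18], [6, 20, 6, 20], [6, 22, 6, 22]], [[], [], [], [], [8, 8], [8, 10, 8, 10, 8, 10], [8, 12, 8, 12], [8, 14, 8, 14]], [[8, 16, 8, 16], [8, 18, 8, 18], [8, 20, 8, 20], [8, 22, 8, 22], [], [], [], []], [[], [10, 10], [10, 12, 10, 12, 10, 12], [10, 14, 10, 14], [10, 16, 10, 16], [10, 18, 10, 18], [10, 20, 10, 20, 10, 20], [10, 22, 10, 22]], [[], [], [], [], [], [], [12, 12], [12, 14, 12, 14, 12, 14]], [[12, 16, 12, 16], [12, 18, 12, 18], [12, 20, 12, 20], [12, 22, 12, 22], [], [], [], []], [[], [], [], [14, 14], [14, 16, 14, 16, 14, 16], [14, 18, 14, 18], [14, 20, 14, 20], [14, 22, 14, 22]], [[], [], [], [], [], [], [], []], [[16, 16], [16, 18, 16, 18, 16, 18], [16, 20, 16, 20], [16, 22, 16, 22], [], [], [], []], [[], [], [], [], [], [18, 18], [18, 20, 18, 20], [18, 22, 18, 22]], [[], [], [], [], [], [], [], []], [[], [],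 [20, 20], [20, 22, 20, 22, 20, 22], [], [], [], []], [[], [], [], [], [], [], [], [22, 22]], [[0, 21, 15, 13, 11, 9, 7, 5, 21, 15, 13, 11, 9, 7, 5, 21, 15, 13, 11, 9, 7, 5, 21, 15, 13, 11, 9, 7, 5, 21, 15, 13, 11, 9, 7, 5, 21, 15, 13, 11, 9, 7, 5, 21, 15, 13, 11, 9, 7, 5, 21, 15, 13, 11, 9, 7, 5, 21, 15, 13, 11, 9, 7, 5], [10, 8, 6, 4, 2, 0, 10, 12, 14, 16, 18, 10, 20, 22, 10, 8, 6, 4, 2, 0, 10, 12, 14, 16, 18, 10, 20, 22, 10, 8, 6, 4, 2, 0, 10, 12, 14, 16, 18, 10, 20, 22, 10, 8, 6, 4, 2, 0, 10, 12, 14, 16, 18, 10, 20, 22, 10, 8, 6, 4, 2, 0, 10, 12, 14, 16, 18, 10, 20, 22, 10, 8, 6, 4, 2, 0, 10, 12, 14, 16, 18, 10, 20, 22, 10, 8, 6, 4, 2, 0, 10, 12, 14, 16, 18, 10, 20, 22, 10, 8, 6, 4, 2, 0, 10, 12, 14, 16, 18, 10, 20, 22, 10, 8, 6, 4, 2, 0, 10, 12, 14, 16, 18, 10, 20, 22, 10, 8, 6, 4, 2, 0, 10, 12, 14, 16, 18, 10, 20, 22, 10, 8, 6, 4, 2, 0, 10, 12,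 14, 16, 18, 10, 20, 22, 10, 8, 6, 4, 2, 0, 10, 12, 14, 16, 18, 10, 20, 22, 10, 8, 6, 4, 2, 0, 10, 12, 14, 16, 18, 10, 20, 22, 10, 8, 6, 4, 2, 0, 10, 12, 14, 16, 18, 10, 20, 22, 10, 8, 6, 4, 2, 0, 10, 12, 14, 16, 18, 10, 20, 22, 10, 8, 6, 4, 2, 0, 10, 12, 14, 16, 18, 10, 20, 22, 10, 8, 6, 4, 2, 0, 10, 12, 14, 16, 18, 10, 20, 22]]]
noncomputable def cert : Cert := ⟨12, 306936, 3944575, tF, tJ, tD, rels, subs, tT, tPP, tNO, tTAB, rels2, tORB, tORK, tOPAR, tROOT⟩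

end Cfsg.Agent.Lib.Helper28.Fi24Data
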