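import Cfsg.Prelude.Def_Spor_Fi24
import Cfsg.Agent.Lib.Helper28.TCPresentedB
import Cfsg.Agent.Lib.Helper28.TCOrbitB

set_option autoImplicit false
set_option linter.all false

namespace Cfsg.Agent.Lib.Helper28.Fi24GlueR

open Cfsg Cfsg.Spor Cfsg.Agent.Lib.Helper28B

def genOf : Nat → Fi24.Gen
  | 0 => .l | 1 => .k | 2 => .a | 3 => .b | 4 => .c | 5 => .d | 6 => .e | 7 => .f | 8 => .g | 9 => .j | 10 => .h | _ => .i

def idx : Fi24.Gen → Nat
  | .l => 0 | .k => 1 | .a => 2 | .b => 3 | .c => 4 | .d => 5 | .e => 6 | .f => 7 | .g => 8 | .j => 9 | .h => 10 | .i => 11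

def relsL : List (List Nat) := [[0, 0], [0, 2, 0, 2, 0, 2], [0, 4, 0, 4], [0, 6, 0, 6], [0, 8, 0, 8], [0, 10, 0, 10], [0, 12, 0, 12], [0, 14, 0, 14], [0, 16, 0, 16], [0, 18, 0, 18], [0, 20, 0, 20], [0, 22, 0, 22], [], [2, 2], [2, 4, 2, 4, 2, 4], [2, 6, 2, 6], [2, 8, 2, 8], [2, 10, 2, 10], [2, 12, 2, 12], [2, 14, 2, 14], [2, 16, 2, 16], [2, 18, 2, 18], [2, 20, 2, 20], [2, 22, 2, 22], [], [], [4, 4], [4, 6, 4, 6, 4, 6], [4, 8, 4, 8], [4, 10, 4, 10], [4, 12, 4, 12], [4, 14, 4, 14], [4, 16, 4, 16], [4, 18, 4, 18], [4, 20, 4, 20], [4, 22, 4, 22], [], [], [], [6, 6], [6, 8, 6, 8, 6, 8], [6, 10, 6, 10], [6, 12, 6, 12], [6, 14, 6, 14], [6, 16, 6, 16], [6, 18, 6, 18], [6, 20, 6, 20], [6, 22, 6, 22], [], [], [], [], [8, 8], [8, 10, 8, 10, 8, 10], [8, 12, 8, 12], [8, 14, 8, 14], [8, 16, 8, 16], [8, 18, 8, 18], [8, 20, 8, 20], [8, 22, 8, 22], [], [], [], [], [], [10, 10], [10, 12, 10, 12, 10, 12], [10, 14, 10, 14], [10,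 16, 10, 16], [10, 18, 10, 18], [10, 20, 10, 20, 10, 20], [10, 22, 10, 22], [], [], [], [], [], [], [12, 12], [12, 14, 12, 14, 12, 14], [12, 16, 12, 16], [12, 18, 12, 18], [12, 20, 12, 20], [12, 22, 12, 22], [], [], [], [], [], [], [], [14, 14], [14, 16, 14, 16, 14, 16], [14, 18, 14, 18], [14, 20, 14, 20], [14, 22, 14, 22], [], [], [], [], [], [], [], [], [16, 16], [16, 18, 16, 18, 16, 18], [16, 20, 16, 20], [16, 22, 16, 22], [], [], [], [], [], [], [], [], [], [18, 18], [18, 20, 18, 20], [18, 22, 18, 22], [], [], [], [], [], [], [], [], [], [], [20, 20], [20, 22, 20, 22, 20, 22], [], [], [], [], [], [], [], [], [], [], [], [22, 22], [0, 21, 15, 13, 11, 9, 7, 5, 21, 15, 13, 11, 9, 7, 5, 21, 15, 13, 11, 9, 7, 5, 21, 15, 13, 11, 9, 7, 5, 21, 15, 13, 11, 9, 7, 5, 21, 15, 13, 11, 9, 7, 5, 21, 15, 13, 11, 9, 7, 5, 21, 15, 13, 11, 9, 7, 5, 21, 15, 13, 11, 9, 7, 5], [10, 8, 6, 4, 2, 0, 10, 12, 14, 16, 18, 10, 20, 22,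 10, 8, 6, 4, 2, 0, 10, 12, 14, 16, 18, 10, 20, 22, 10, 8, 6, 4, 2, 0, 10, 12, 14, 16, 18, 10, 20, 22, 10, 8, 6, 4, 2, 0, 10, 12, 14, 16, 18, 10, 20, 22, 10, 8, 6, 4, 2, 0, 10, 12, 14, 16, 18, 10, 20, 22, 10, 8, 6, 4, 2, 0, 10, 12, 14, 16, 18, 10, 20, 22, 10, 8, 6, 4, 2, 0, 10, 12, 14, 16, 18, 10, 20, 22, 10, 8, 6, 4, 2, 0, 10, 12, 14, 16, 18, 10, 20, 22, 10, 8, 6, 4, 2, 0, 10, 12, 14, 16, 18, 10, 20, 22, 10, 8, 6, 4, 2, 0, 10, 12, 14, 16, 18, 10, 20, 22, 10, 8, 6, 4, 2, 0, 10, 12, 14, 16, 18, 10, 20, 22, 10, 8, 6, 4, 2, 0, 10, 12, 14, 16, 18, 10, 20, 22, 10, 8, 6, 4, 2, 0, 10, 12, 14, 16, 18, 10, 20, 22, 10, 8, 6, 4, 2, 0, 10, 12, 14, 16, 18, 10, 20, 22, 10, 8, 6, 4, 2, 0, 10, 12, 14, 16, 18, 10, 20, 22, 10, 8, 6, 4, 2, 0, 10, 12, 14, 16, 18, 10, 20, 22, 10, 8, 6, 4, 2, 0, 10, 12, 14, 16, 18, 10, 20, 22]]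

abbrev relSet : Set (FreeGroup Fi24.Gen) := coxRelators Fi24.edges ∪ {r | r ∈ Fi24.extra}

theorem hidx : ∀ x : Fi24.Gen, idx x < 12 ∧ genOf (idx x) = x := by
  intro x; cases x <;> exact ⟨by decide, rfl⟩

theorem hgi : ∀ i, i < 12 → idx (genOf i) = i := by
  intro i hi
  interval_cases i <;> rfl

theorem node_mem (x : Fi24.Gen) : x ∈ coxNodes Fi24.edges := by
  cases x <;> decide

theorem cox_word (x y : Fi24.Gen) (h : idx x ≤ idx y) :
    (FreeGroup.of x * FreeGroup.of y) ^ coxLabel Fi24.edges x y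
      = wordF genOf (relsL.getD (12 * idx x + idx y) []) := by
  cases x <;> cases y <;> first | rfl | exact absurd h (by decide)

theorem label_symm (x y : Fi24.Gen) : coxLabel Fi24.edges x y = coxLabel Fi24.edges y x := by
  cases x <;> cases y <;> rfl

theorem idx_lt (x : Fi24.Gen) : idx x < 12 := (hidx x).1

set_option maxRecDepth 100000 in
theorem extra_word (j : Nat) (hj : j < 2) :
    Fi24.extra.getD j 1 = wordF genOf (relsL.getD (144 + j) []) := by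
  interval_cases j <;> rfl

theorem rels_empty (j : Nat) (hj : j < 144) (h : j % 12 < j / 12) : relsL.getD j [] = [] := by
  interval_cases j <;> first | rfl | exact absurd h (by decide)

theorem conj_pow_swap {G : Type*} [Group G] (a b : G) (m : ℕ) :
    (a * b) ^ m = b⁻¹ * (b * a) ^ m * b := by
  have h : a * b = b⁻¹ * (b * a) * (b⁻¹)⁻¹ := by group
  rw [h, conj_pow, inv_inv]

theorem hrel1 : ∀ r ∈ relSet, ∃ w ∈ relsL, ∃ g : FreeGroup Fi24.Gen, r = g⁻¹ * wordF genOf w * g := by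
  intro r hr
  rcases hr with ⟨x, _, y, _, rfl⟩ | hr
  · by_cases hxy : idx x ≤ idx y
    · refine ⟨relsL.getD (12 * idx x + idx y) [], ?_, 1, ?_⟩
      · apply getD_mem_of_lt
        have := idx_lt x; have := idx_lt y
        show 12 * idx x + idx y < 146
        omega
      · rw [← cox_word x y hxy]; simp
    · refine ⟨relsL.getD (12 * idx y + idx x) [], ?_, FreeGroup.of y, ?_⟩
      · apply getD_mem_of_lt
        have := idx_lt x; have := idx_lt y
        show 12 * idx y + idx x < 146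
        omega
      · rw [← cox_word y x (by omega), label_symm x y]
        exact conj_pow_swap _ _ _
  · have hr' : r ∈ Fi24.extra := hr
    obtain ⟨j, hj, rfl⟩ := List.mem_iff_getElem.mp hr'
    have hj' : j < 2 := hj
    refine ⟨relsL.getD (144 + j) [], ?_, 1, ?_⟩
    · apply getD_mem_of_lt
      show 144 + j < 146
      omega
    · rw [← extra_word j hj', List.getD_eq_getElem _ _ hj]; simp

theorem hrel2 : ∀ w ∈ relsL, PresentedGroup.mk relSet (wordF genOf w) = 1 := by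
  intro w hw
  obtain ⟨j, hj, rfl⟩ := List.mem_iff_getElem.mp hw
  have hj' : j < 146 := hj
  rw [← List.getD_eq_getElem relsL [] hj]
  by_cases hc : j < 144
  · by_cases hle : j / 12 ≤ j % 12
    · apply PresentedGroup.one_of_mem
      left
      refine ⟨genOf (j / 12), node_mem _, genOf (j % 12), node_mem _, ?_⟩
      have h1 := hgi (j / 12) (by omega)
      have h2 := hgi (j % 12) (Nat.mod_lt _ (by omega))
      rw [cox_word _ _ (by rw [h1, h2]; exact hle), h1, h2]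
      congr 2
      omega
    · rw [rels_empty j hc (by omega)]
      simp [wordF, evw]
  · apply PresentedGroup.one_of_mem
    right
    have h5 : j - 144 < 2 := by omega
    have := extra_word (j - 144) h5
    have hjj : 144 + (j - 144) = j := by omega
    rw [hjj] at this
    rw [← this, List.getD_eq_getElem _ _ (by exact h5)]
    exact List.getElem_mem _

end Cfsg.Agent.Lib.Helper28.Fi24GlueR
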