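import Cfsg.Agent.Lib.Helper28.He2Data
import Cfsg.Agent.Lib.Helper28.TCFastF

set_option autoImplicit false
set_option maxRecDepth 1000000
set_option linter.all false
set_option Elab.async false

namespace Cfsg.Agent.Lib.Helper28.He2Data

open Cfsg.Agent.Lib.Helper28

theorem chkF_1534000 : allRangeF (checkFactF cert) (nat_lit 1534000) (nat_lit 1000) = true := by decide +kernel
theorem chkF_1535000 : allRangeF (checkFactF cert) (nat_lit 1535000) (nat_lit 1000) = true := by decide +kernel
theorem chkF_1536000 : allRangeF (checkFactF cert) (nat_lit 1536000) (nat_lit 1000) = true := by decide +kernel
theorem chkF_1537000 : allRangeF (checkFactF cert) (nat_lit 1537000) (nat_lit 1000) = true := by decide +kernel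
theorem chkF_1538000 : allRangeF (checkFactF cert) (nat_lit 1538000) (nat_lit 1000) = true := by decide +kernel
theorem chkF_1539000 : allRangeF (checkFactF cert) (nat_lit 1539000) (nat_lit 1000) = true := by decide +kernel
theorem chkF_1540000 : allRangeF (checkFactF cert) (nat_lit 1540000) (nat_lit 1000) = true := by decide +kernel
theorem chkF_1541000 : allRangeF (checkFactF cert) (nat_lit 1541000) (nat_lit 1000) = true := by decide +kernel
theorem chkF_1542000 : allRangeF (checkFactF cert) (nat_lit 1542000) (nat_lit 1000) = true := by decide +kernel
theorem chkF_1543000 : allRangeF (checkFactF cert) (nat_lit 1543000) (nat_lit 1000) = true := by decide +kernel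
theorem chkF_1544000 : allRangeF (checkFactF cert) (nat_lit 1544000) (nat_lit 1000) = true := by decide +kernel
theorem chkF_1545000 : allRangeF (checkFactF cert) (nat_lit 1545000) (nat_lit 1000) = true := by decide +kernel
theorem chkF_1546000 : allRangeF (checkFactF cert) (nat_lit 1546000) (nat_lit 1000) = true := by decide +kernel
theorem chkF_1547000 : allRangeF (checkFactF cert) (nat_lit 1547000) (nat_lit 1000) = true := by decide +kernel
theorem chkF_1548000 : allRangeF (checkFactF cert) (nat_lit 1548000) (nat_lit 1000) = true := by decide +kernel
theorem chkF_1549000 : allRangeF (checkFactF cert) (nat_lit 1549000) (nat_lit 1000) = true := by decide +kernel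
theorem chkF_1550000 : allRangeF (checkFactF cert) (nat_lit 1550000) (nat_lit 1000) = true := by decide +kernel
theorem chkF_1551000 : allRangeF (checkFactF cert) (nat_lit 1551000) (nat_lit 1000) = true := by decide +kernel
theorem chkF_1552000 : allRangeF (checkFactF cert) (nat_lit 1552000) (nat_lit 1000) = true := by decide +kernel
theorem chkF_1553000 : allRangeF (checkFactF cert) (nat_lit 1553000) (nat_lit 1000) = true := by decide +kernel
theorem chkF_1554000 : allRangeF (checkFactF cert) (nat_lit 1554000) (nat_lit 1000) = true := by decide +kernel
theorem chkF_1555000 : allRangeF (checkFactF cert) (nat_lit 1555000) (nat_lit 1000) = true := by decide +kernel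
theorem chkF_1556000 : allRangeF (checkFactF cert) (nat_lit 1556000) (nat_lit 1000) = true := by decide +kernel
theorem chkF_1557000 : allRangeF (checkFactF cert) (nat_lit 1557000) (nat_lit 1000) = true := by decide +kernel
theorem chkF_1558000 : allRangeF (checkFactF cert) (nat_lit 1558000) (nat_lit 1000) = true := by decide +kernel
theorem chkF_1559000 : allRangeF (checkFactF cert) (nat_lit 1559000) (nat_lit 1000) = true := by decide +kernel
theorem chkF_1560000 : allRangeF (checkFactF cert) (nat_lit 1560000) (nat_lit 1000) = true := by decide +kernel
theorem chkF_1561000 : allRangeF (checkFactF cert) (nat_lit 1561000) (nat_lit 1000) = true := by decide +kernel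
theorem chkF_1562000 : allRangeF (checkFactF cert) (nat_lit 1562000) (nat_lit 1000) = true := by decide +kernel
theorem chkF_1563000 : allRangeF (checkFactF cert) (nat_lit 1563000) (nat_lit 1000) = true := by decide +kernel
theorem chkF_1564000 : allRangeF (checkFactF cert) (nat_lit 1564000) (nat_lit 1000) = true := by decide +kernel
theorem chkF_1565000 : allRangeF (checkFactF cert) (nat_lit 1565000) (nat_lit 1000) = true := by decide +kernel
theorem chkF_1566000 : allRangeF (checkFactF cert) (nat_lit 1566000) (nat_lit 1000) = true := by decide +kernel
theorem chkF_1567000 : allRangeF (checkFactF cert) (nat_lit 1567000) (nat_lit 1000) = true := by decide +kernel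
theorem chkF_1568000 : allRangeF (checkFactF cert) (nat_lit 1568000) (nat_lit 1000) = true := by decide +kernel
theorem chkF_1569000 : allRangeF (checkFactF cert) (nat_lit 1569000) (nat_lit 1000) = true := by decide +kernel
theorem chkF_1570000 : allRangeF (checkFactF cert) (nat_lit 1570000) (nat_lit 1000) = true := by decide +kernel
theorem chkF_1571000 : allRangeF (checkFactF cert) (nat_lit 1571000) (nat_lit 1000) = true := by decide +kernel
theorem chkF_1572000 : allRangeF (checkFactF cert) (nat_lit 1572000) (nat_lit 1000) = true := by decide +kernel
theorem chkF_1573000 : allRangeF (checkFactF cert) (nat_lit 1573000) (nat_lit 1000) = true := by decide +kernel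
theorem chkF_1574000 : allRangeF (checkFactF cert) (nat_lit 1574000) (nat_lit 1000) = true := by decide +kernel
theorem chkF_1575000 : allRangeF (checkFactF cert) (nat_lit 1575000) (nat_lit 1000) = true := by decide +kernel
theorem chkF_1576000 : allRangeF (checkFactF cert) (nat_lit 1576000) (nat_lit 1000) = true := by decide +kernel
theorem chkF_1577000 : allRangeF (checkFactF cert) (nat_lit 1577000) (nat_lit 1000) = true := by decide +kernel
theorem chkF_1578000 : allRangeF (checkFactF cert) (nat_lit 1578000) (nat_lit 1000) = true := by decide +kernel
theorem chkF_1579000 : allRangeF (checkFactF cert) (nat_lit 1579000) (nat_lit 1000) = true := by decide +kernel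
theorem chkF_1580000 : allRangeF (checkFactF cert) (nat_lit 1580000) (nat_lit 1000) = true := by decide +kernel
theorem chkF_1581000 : allRangeF (checkFactF cert) (nat_lit 1581000) (nat_lit 1000) = true := by decide +kernel
theorem chkF_1582000 : allRangeF (checkFactF cert) (nat_lit 1582000) (nat_lit 1000) = true := by decide +kernel
theorem chkF_1583000 : allRangeF (checkFactF cert) (nat_lit 1583000) (nat_lit 1000) = true := by decide +kernel
theorem chkF_1584000 : allRangeF (checkFactF cert) (nat_lit 1584000) (nat_lit 1000) = true := by decide +kernel
theorem chkF_1585000 : allRangeF (checkFactF cert) (nat_lit 1585000) (nat_lit 1000) = true := by decide +kernel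
theorem chkF_1586000 : allRangeF (checkFactF cert) (nat_lit 1586000) (nat_lit 1000) = true := by decide +kernel
theorem chkF_1587000 : allRangeF (checkFactF cert) (nat_lit 1587000) (nat_lit 1000) = true := by decide +kernel
theorem chkF_1588000 : allRangeF (checkFactF cert) (nat_lit 1588000) (nat_lit 1000) = true := by decide +kernel
theorem chkF_1589000 : allRangeF (checkFactF cert) (nat_lit 1589000) (nat_lit 1000) = true := by decide +kernel
theorem chkF_1590000 : allRangeF (checkFactF cert) (nat_lit 1590000) (nat_lit 1000) = true := by decide +kernel
theorem chkF_1591000 : allRangeF (checkFactF cert) (nat_lit 1591000) (nat_lit 1000) = true := by decide +kernel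
theorem chkF_1592000 : allRangeF (checkFactF cert) (nat_lit 1592000) (nat_lit 1000) = true := by decide +kernel
theorem chkF_1593000 : allRangeF (checkFactF cert) (nat_lit 1593000) (nat_lit 1000) = true := by decide +kernel
theorem chkF_1594000 : allRangeF (checkFactF cert) (nat_lit 1594000) (nat_lit 1000) = true := by decide +kernel
theorem chkF_1595000 : allRangeF (checkFactF cert) (nat_lit 1595000) (nat_lit 1000) = true := by decide +kernel
theorem chkF_1596000 : allRangeF (checkFactF cert) (nat_lit 1596000) (nat_lit 1000) = true := by decide +kernel
theorem chkF_1597000 : allRangeF (checkFactF cert) (nat_lit 1597000) (nat_lit 1000) = true := by decide +kernel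
theorem chkF_1598000 : allRangeF (checkFactF cert) (nat_lit 1598000) (nat_lit 1000) = true := by decide +kernel
theorem chkF_1599000 : allRangeF (checkFactF cert) (nat_lit 1599000) (nat_lit 1000) = true := by decide +kernel
theorem chkF_1600000 : allRangeF (checkFactF cert) (nat_lit 1600000) (nat_lit 1000) = true := by decide +kernel
theorem chkF_1601000 : allRangeF (checkFactF cert) (nat_lit 1601000) (nat_lit 1000) = true := by decide +kernel
theorem chkF_1602000 : allRangeF (checkFactF cert) (nat_lit 1602000) (nat_lit 1000) = true := by decide +kernel
theorem chkF_1603000 : allRangeF (checkFactF cert) (nat_lit 1603000) (nat_lit 1000) = true := by decide +kernel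
theorem chkF_1604000 : allRangeF (checkFactF cert) (nat_lit 1604000) (nat_lit 1000) = true := by decide +kernel
theorem chkF_1605000 : allRangeF (checkFactF cert) (nat_lit 1605000) (nat_lit 1000) = true := by decide +kernel
theorem chkF_1606000 : allRangeF (checkFactF cert) (nat_lit 1606000) (nat_lit 1000) = true := by decide +kernel
theorem chkF_1607000 : allRangeF (checkFactF cert) (nat_lit 1607000) (nat_lit 1000) = true := by decide +kernel
theorem chkF_1608000 : allRangeF (checkFactF cert) (nat_lit 1608000) (nat_lit 1000) = true := by decide +kernel
theorem chkF_1609000 : allRangeF (checkFactF cert) (nat_lit 1609000) (nat_lit 1000) = true := by decide +kernel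
theorem chkF_1610000 : allRangeF (checkFactF cert) (nat_lit 1610000) (nat_lit 1000) = true := by decide +kernel
theorem chkF_1611000 : allRangeF (checkFactF cert) (nat_lit 1611000) (nat_lit 1000) = true := by decide +kernel
theorem chkF_1612000 : allRangeF (checkFactF cert) (nat_lit 1612000) (nat_lit 1000) = true := by decide +kernel
theorem chkF_1613000 : allRangeF (checkFactF cert) (nat_lit 1613000) (nat_lit 1000) = true := by decide +kernel
theorem chkF_1614000 : allRangeF (checkFactF cert) (nat_lit 1614000) (nat_lit 1000) = true := by decide +kernel
theorem chkF_1615000 : allRangeF (checkFactF cert) (nat_lit 1615000) (nat_lit 1000) = true := by decide +kernel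
theorem chkF_1616000 : allRangeF (checkFactF cert) (nat_lit 1616000) (nat_lit 1000) = true := by decide +kernel
theorem chkF_1617000 : allRangeF (checkFactF cert) (nat_lit 1617000) (nat_lit 1000) = true := by decide +kernel
theorem chkF_1618000 : allRangeF (checkFactF cert) (nat_lit 1618000) (nat_lit 1000) = true := by decide +kernel
theorem chkF_1619000 : allRangeF (checkFactF cert) (nat_lit 1619000) (nat_lit 1000) = true := by decide +kernel
theorem chkF_1620000 : allRangeF (checkFactF cert) (nat_lit 1620000) (nat_lit 1000) = true := by decide +kernel
theorem chkF_1621000 : allRangeF (checkFactF cert) (nat_lit 1621000) (nat_lit 1000) = true := by decide +kernel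
theorem chkF_1622000 : allRangeF (checkFactF cert) (nat_lit 1622000) (nat_lit 1000) = true := by decide +kernel
theorem chkF_1623000 : allRangeF (checkFactF cert) (nat_lit 1623000) (nat_lit 1000) = true := by decide +kernel
theorem chkF_1624000 : allRangeF (checkFactF cert) (nat_lit 1624000) (nat_lit 1000) = true := by decide +kernel
theorem chkF_1625000 : allRangeF (checkFactF cert) (nat_lit 1625000) (nat_lit 1000) = true := by decide +kernel
theorem chkF_1626000 : allRangeF (checkFactF cert) (nat_lit 1626000) (nat_lit 1000) = true := by decide +kernel
theorem chkF_1627000 : allRangeF (checkFactF cert) (nat_lit 1627000) (nat_lit 1000) = true := by decide +kernel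
theorem chkF_1628000 : allRangeF (checkFactF cert) (nat_lit 1628000) (nat_lit 1000) = true := by decide +kernel
theorem chkF_1629000 : allRangeF (checkFactF cert) (nat_lit 1629000) (nat_lit 1000) = true := by decide +kernel
theorem chkF_1630000 : allRangeF (checkFactF cert) (nat_lit 1630000) (nat_lit 1000) = true := by decide +kernel
theorem chkF_1631000 : allRangeF (checkFactF cert) (nat_lit 1631000) (nat_lit 1000) = true := by decide +kernel
theorem chkF_1632000 : allRangeF (checkFactF cert) (nat_lit 1632000) (nat_lit 1000) = true := by decide +kernel
theorem chkF_1633000 : allRangeF (checkFactF cert) (nat_lit 1633000) (nat_lit 1000) = true := by decide +kernel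
theorem chkF_1634000 : allRangeF (checkFactF cert) (nat_lit 1634000) (nat_lit 1000) = true := by decide +kernel
theorem chkF_1635000 : allRangeF (checkFactF cert) (nat_lit 1635000) (nat_lit 1000) = true := by decide +kernel
theorem chkF_1636000 : allRangeF (checkFactF cert) (nat_lit 1636000) (nat_lit 1000) = true := by decide +kernel
theorem chkF_1637000 : allRangeF (checkFactF cert) (nat_lit 1637000) (nat_lit 1000) = true := by decide +kernel
theorem chkF_1638000 : allRangeF (checkFactF cert) (nat_lit 1638000) (nat_lit 1000) = true := by decide +kernel
theorem chkF_1639000 : allRangeF (checkFactF cert) (nat_lit 1639000) (nat_lit 1000) = true := by decide +kernel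
theorem chkF_1640000 : allRangeF (checkFactF cert) (nat_lit 1640000) (nat_lit 1000) = true := by decide +kernel
theorem chkF_1641000 : allRangeF (checkFactF cert) (nat_lit 1641000) (nat_lit 1000) = true := by decide +kernel
theorem chkF_1642000 : allRangeF (checkFactF cert) (nat_lit 1642000) (nat_lit 1000) = true := by decide +kernel
theorem chkF_1643000 : allRangeF (checkFactF cert) (nat_lit 1643000) (nat_lit 1000) = true := by decide +kernel
theorem chkF_1644000 : allRangeF (checkFactF cert) (nat_lit 1644000) (nat_lit 1000) = true := by decide +kernel
theorem chkF_1645000 : allRangeF (checkFactF cert) (nat_lit 1645000) (nat_lit 1000) = true := by decide +kernel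
theorem chkF_1646000 : allRangeF (checkFactF cert) (nat_lit 1646000) (nat_lit 1000) = true := by decide +kernel
theorem chkF_1647000 : allRangeF (checkFactF cert) (nat_lit 1647000) (nat_lit 1000) = true := by decide +kernel
theorem chkF_1648000 : allRangeF (checkFactF cert) (nat_lit 1648000) (nat_lit 1000) = true := by decide +kernel
theorem chkF_1649000 : allRangeF (checkFactF cert) (nat_lit 1649000) (nat_lit 1000) = true := by decide +kernel
theorem chkF_1650000 : allRangeF (checkFactF cert) (nat_lit 1650000) (nat_lit 1000) = true := by decide +kernel
theorem chkF_1651000 : allRangeF (checkFactF cert) (nat_lit 1651000) (nat_lit 1000) = true := by decide +kernel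

theorem factsRange_13 : ∀ i, 1534000 ≤ i → i < 1652000 → checkFact cert i = true := by
  intro i hlo hhi
  rcases Nat.lt_or_ge i 1593000 with h1 | h1
  · skip
    rcases Nat.lt_or_ge i 1563000 with h2 | h2
    · skip
      rcases Nat.lt_or_ge i 1548000 with h3 | h3
      · skip
        rcases Nat.lt_or_ge i 1541000 with h4 | h4
        · skip
          rcases Nat.lt_or_ge i 1537000 with h5 | h5
          · skip
            rcases Nat.lt_or_ge i 1535000 with h6 | h6
            · skip
              exact allRangeF_sound _ _ (checkFactF_eq cert) 1534000 1000 chkF_1534000 i (by omega) (by omega)
            · skip
              rcases Nat.lt_or_ge i 1536000 with h7 | h7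
              · skip
                exact allRangeF_sound _ _ (checkFactF_eq cert) 1535000 1000 chkF_1535000 i (by omega) (by omega)
              · skip
                exact allRangeF_sound _ _ (checkFactF_eq cert) 1536000 1000 chkF_1536000 i (by omega) (by omega)
          · skip
            rcases Nat.lt_or_ge i 1539000 with h6 | h6
            · skip
              rcases Nat.lt_or_ge i 1538000 with h7 | h7
              · skip
                exact allRangeF_sound _ _ (checkFactF_eq cert) 1537000 1000 chkF_1537000 i (by omega) (by omega)
              · skip
                exact allRangeF_sound _ _ (checkFactF_eq cert) 1538000 1000 chkF_1538000 i (by omega) (by omega)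
            · skip
              rcases Nat.lt_or_ge i 1540000 with h7 | h7
              · skip
                exact allRangeF_sound _ _ (checkFactF_eq cert) 1539000 1000 chkF_1539000 i (by omega) (by omega)
              · skip
                exact allRangeF_sound _ _ (checkFactF_eq cert) 1540000 1000 chkF_1540000 i (by omega) (by omega)
        · skip
          rcases Nat.lt_or_ge i 1544000 with h5 | h5
          · skip
            rcases Nat.lt_or_ge i 1542000 with h6 | h6
            · skip
              exact allRangeF_sound _ _ (checkFactF_eq cert) 1541000 1000 chkF_1541000 i (by omega) (by omega)
            · skip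
              rcases Nat.lt_or_ge i 1543000 with h7 | h7
              · skip
                exact allRangeF_sound _ _ (checkFactF_eq cert) 1542000 1000 chkF_1542000 i (by omega) (by omega)
              · skip
                exact allRangeF_sound _ _ (checkFactF_eq cert) 1543000 1000 chkF_1543000 i (by omega) (by omega)
          · skip
            rcases Nat.lt_or_ge i 1546000 with h6 | h6
            · skip
              rcases Nat.lt_or_ge i 1545000 with h7 | h7
              · skip
                exact allRangeF_sound _ _ (checkFactF_eq cert) 1544000 1000 chkF_1544000 i (by omega) (by omega)
              · skip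
                exact allRangeF_sound _ _ (checkFactF_eq cert) 1545000 1000 chkF_1545000 i (by omega) (by omega)
            · skip
              rcases Nat.lt_or_ge i 1547000 with h7 | h7
              · skip
                exact allRangeF_sound _ _ (checkFactF_eq cert) 1546000 1000 chkF_1546000 i (by omega) (by omega)
              · skip
                exact allRangeF_sound _ _ (checkFactF_eq cert) 1547000 1000 chkF_1547000 i (by omega) (by omega)
      · skip
        rcases Nat.lt_or_ge i 1555000 with h4 | h4
        · skip
          rcases Nat.lt_or_ge i 1551000 with h5 | h5
          · skip
            rcases Nat.lt_or_ge i 1549000 with h6 | h6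
            · skip
              exact allRangeF_sound _ _ (checkFactF_eq cert) 1548000 1000 chkF_1548000 i (by omega) (by omega)
            · skip
              rcases Nat.lt_or_ge i 1550000 with h7 | h7
              · skip
                exact allRangeF_sound _ _ (checkFactF_eq cert) 1549000 1000 chkF_1549000 i (by omega) (by omega)
              · skip
                exact allRangeF_sound _ _ (checkFactF_eq cert) 1550000 1000 chkF_1550000 i (by omega) (by omega)
          · skip
            rcases Nat.lt_or_ge i 1553000 with h6 | h6
            · skip
              rcases Nat.lt_or_ge i 1552000 with h7 | h7
              · skip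
                exact allRangeF_sound _ _ (checkFactF_eq cert) 1551000 1000 chkF_1551000 i (by omega) (by omega)
              · skip
                exact allRangeF_sound _ _ (checkFactF_eq cert) 1552000 1000 chkF_1552000 i (by omega) (by omega)
            · skip
              rcases Nat.lt_or_ge i 1554000 with h7 | h7
              · skip
                exact allRangeF_sound _ _ (checkFactF_eq cert) 1553000 1000 chkF_1553000 i (by omega) (by omega)
              · skip
                exact allRangeF_sound _ _ (checkFactF_eq cert) 1554000 1000 chkF_1554000 i (by omega) (by omega)
        · skip
          rcases Nat.lt_or_ge i 1559000 with h5 | h5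
          · skip
            rcases Nat.lt_or_ge i 1557000 with h6 | h6
            · skip
              rcases Nat.lt_or_ge i 1556000 with h7 | h7
              · skip
                exact allRangeF_sound _ _ (checkFactF_eq cert) 1555000 1000 chkF_1555000 i (by omega) (by omega)
              · skip
                exact allRangeF_sound _ _ (checkFactF_eq cert) 1556000 1000 chkF_1556000 i (by omega) (by omega)
            · skip
              rcases Nat.lt_or_ge i 1558000 with h7 | h7
              · skip
                exact allRangeF_sound _ _ (checkFactF_eq cert) 1557000 1000 chkF_1557000 i (by omega) (by omega)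
              · skip
                exact allRangeF_sound _ _ (checkFactF_eq cert) 1558000 1000 chkF_1558000 i (by omega) (by omega)
          · skip
            rcases Nat.lt_or_ge i 1561000 with h6 | h6
            · skip
              rcases Nat.lt_or_ge i 1560000 with h7 | h7
              · skip
                exact allRangeF_sound _ _ (checkFactF_eq cert) 1559000 1000 chkF_1559000 i (by omega) (by omega)
              · skip
                exact allRangeF_sound _ _ (checkFactF_eq cert) 1560000 1000 chkF_1560000 i (by omega) (by omega)
            · skip
              rcases Nat.lt_or_ge i 1562000 with h7 | h7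
              · skip
                exact allRangeF_sound _ _ (checkFactF_eq cert) 1561000 1000 chkF_1561000 i (by omega) (by omega)
              · skip
                exact allRangeF_sound _ _ (checkFactF_eq cert) 1562000 1000 chkF_1562000 i (by omega) (by omega)
    · skip
      rcases Nat.lt_or_ge i 1578000 with h3 | h3
      · skip
        rcases Nat.lt_or_ge i 1570000 with h4 | h4
        · skip
          rcases Nat.lt_or_ge i 1566000 with h5 | h5
          · skip
            rcases Nat.lt_or_ge i 1564000 with h6 | h6
            · skip
              exact allRangeF_sound _ _ (checkFactF_eq cert) 1563000 1000 chkF_1563000 i (by omega) (by omega)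
            · skip
              rcases Nat.lt_or_ge i 1565000 with h7 | h7
              · skip
                exact allRangeF_sound _ _ (checkFactF_eq cert) 1564000 1000 chkF_1564000 i (by omega) (by omega)
              · skip
                exact allRangeF_sound _ _ (checkFactF_eq cert) 1565000 1000 chkF_1565000 i (by omega) (by omega)
          · skip
            rcases Nat.lt_or_ge i 1568000 with h6 | h6
            · skip
              rcases Nat.lt_or_ge i 1567000 with h7 | h7
              · skip
                exact allRangeF_sound _ _ (checkFactF_eq cert) 1566000 1000 chkF_1566000 i (by omega) (by omega)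
              · skip
                exact allRangeF_sound _ _ (checkFactF_eq cert) 1567000 1000 chkF_1567000 i (by omega) (by omega)
            · skip
              rcases Nat.lt_or_ge i 1569000 with h7 | h7
              · skip
                exact allRangeF_sound _ _ (checkFactF_eq cert) 1568000 1000 chkF_1568000 i (by omega) (by omega)
              · skip
                exact allRangeF_sound _ _ (checkFactF_eq cert) 1569000 1000 chkF_1569000 i (by omega) (by omega)
        · skip
          rcases Nat.lt_or_ge i 1574000 with h5 | h5
          · skip
            rcases Nat.lt_or_ge i 1572000 with h6 | h6
            · skip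
              rcases Nat.lt_or_ge i 1571000 with h7 | h7
              · skip
                exact allRangeF_sound _ _ (checkFactF_eq cert) 1570000 1000 chkF_1570000 i (by omega) (by omega)
              · skip
                exact allRangeF_sound _ _ (checkFactF_eq cert) 1571000 1000 chkF_1571000 i (by omega) (by omega)
            · skip
              rcases Nat.lt_or_ge i 1573000 with h7 | h7
              · skip
                exact allRangeF_sound _ _ (checkFactF_eq cert) 1572000 1000 chkF_1572000 i (by omega) (by omega)
              · skip
                exact allRangeF_sound _ _ (checkFactF_eq cert) 1573000 1000 chkF_1573000 i (by omega) (by omega)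
          · skip
            rcases Nat.lt_or_ge i 1576000 with h6 | h6
            · skip
              rcases Nat.lt_or_ge i 1575000 with h7 | h7
              · skip
                exact allRangeF_sound _ _ (checkFactF_eq cert) 1574000 1000 chkF_1574000 i (by omega) (by omega)
              · skip
                exact allRangeF_sound _ _ (checkFactF_eq cert) 1575000 1000 chkF_1575000 i (by omega) (by omega)
            · skip
              rcases Nat.lt_or_ge i 1577000 with h7 | h7
              · skip
                exact allRangeF_sound _ _ (checkFactF_eq cert) 1576000 1000 chkF_1576000 i (by omega) (by omega)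
              · skip
                exact allRangeF_sound _ _ (checkFactF_eq cert) 1577000 1000 chkF_1577000 i (by omega) (by omega)
      · skip
        rcases Nat.lt_or_ge i 1585000 with h4 | h4
        · skip
          rcases Nat.lt_or_ge i 1581000 with h5 | h5
          · skip
            rcases Nat.lt_or_ge i 1579000 with h6 | h6
            · skip
              exact allRangeF_sound _ _ (checkFactF_eq cert) 1578000 1000 chkF_1578000 i (by omega) (by omega)
            · skip
              rcases Nat.lt_or_ge i 1580000 with h7 | h7
              · skip
                exact allRangeF_sound _ _ (checkFactF_eq cert) 1579000 1000 chkF_1579000 i (by omega) (by omega)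
              · skip
                exact allRangeF_sound _ _ (checkFactF_eq cert) 1580000 1000 chkF_1580000 i (by omega) (by omega)
          · skip
            rcases Nat.lt_or_ge i 1583000 with h6 | h6
            · skip
              rcases Nat.lt_or_ge i 1582000 with h7 | h7
              · skip
                exact allRangeF_sound _ _ (checkFactF_eq cert) 1581000 1000 chkF_1581000 i (by omega) (by omega)
              · skip
                exact allRangeF_sound _ _ (checkFactF_eq cert) 1582000 1000 chkF_1582000 i (by omega) (by omega)
            · skip
              rcases Nat.lt_or_ge i 1584000 with h7 | h7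
              · skip
                exact allRangeF_sound _ _ (checkFactF_eq cert) 1583000 1000 chkF_1583000 i (by omega) (by omega)
              · skip
                exact allRangeF_sound _ _ (checkFactF_eq cert) 1584000 1000 chkF_1584000 i (by omega) (by omega)
        · skip
          rcases Nat.lt_or_ge i 1589000 with h5 | h5
          · skip
            rcases Nat.lt_or_ge i 1587000 with h6 | h6
            · skip
              rcases Nat.lt_or_ge i 1586000 with h7 | h7
              · skip
                exact allRangeF_sound _ _ (checkFactF_eq cert) 1585000 1000 chkF_1585000 i (by omega) (by omega)
              · skip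
                exact allRangeF_sound _ _ (checkFactF_eq cert) 1586000 1000 chkF_1586000 i (by omega) (by omega)
            · skip
              rcases Nat.lt_or_ge i 1588000 with h7 | h7
              · skip
                exact allRangeF_sound _ _ (checkFactF_eq cert) 1587000 1000 chkF_1587000 i (by omega) (by omega)
              · skip
                exact allRangeF_sound _ _ (checkFactF_eq cert) 1588000 1000 chkF_1588000 i (by omega) (by omega)
          · skip
            rcases Nat.lt_or_ge i 1591000 with h6 | h6
            · skip
              rcases Nat.lt_or_ge i 1590000 with h7 | h7
              · skip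
                exact allRangeF_sound _ _ (checkFactF_eq cert) 1589000 1000 chkF_1589000 i (by omega) (by omega)
              · skip
                exact allRangeF_sound _ _ (checkFactF_eq cert) 1590000 1000 chkF_1590000 i (by omega) (by omega)
            · skip
              rcases Nat.lt_or_ge i 1592000 with h7 | h7
              · skip
                exact allRangeF_sound _ _ (checkFactF_eq cert) 1591000 1000 chkF_1591000 i (by omega) (by omega)
              · skip
                exact allRangeF_sound _ _ (checkFactF_eq cert) 1592000 1000 chkF_1592000 i (by omega) (by omega)
  · skip
    rcases Nat.lt_or_ge i 1622000 with h2 | h2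
    · skip
      rcases Nat.lt_or_ge i 1607000 with h3 | h3
      · skip
        rcases Nat.lt_or_ge i 1600000 with h4 | h4
        · skip
          rcases Nat.lt_or_ge i 1596000 with h5 | h5
          · skip
            rcases Nat.lt_or_ge i 1594000 with h6 | h6
            · skip
              exact allRangeF_sound _ _ (checkFactF_eq cert) 1593000 1000 chkF_1593000 i (by omega) (by omega)
            · skip
              rcases Nat.lt_or_ge i 1595000 with h7 | h7
              · skip
                exact allRangeF_sound _ _ (checkFactF_eq cert) 1594000 1000 chkF_1594000 i (by omega) (by omega)
              · skip
                exact allRangeF_sound _ _ (checkFactF_eq cert) 1595000 1000 chkF_1595000 i (by omega) (by omega)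
          · skip
            rcases Nat.lt_or_ge i 1598000 with h6 | h6
            · skip
              rcases Nat.lt_or_ge i 1597000 with h7 | h7
              · skip
                exact allRangeF_sound _ _ (checkFactF_eq cert) 1596000 1000 chkF_1596000 i (by omega) (by omega)
              · skip
                exact allRangeF_sound _ _ (checkFactF_eq cert) 1597000 1000 chkF_1597000 i (by omega) (by omega)
            · skip
              rcases Nat.lt_or_ge i 1599000 with h7 | h7
              · skip
                exact allRangeF_sound _ _ (checkFactF_eq cert) 1598000 1000 chkF_1598000 i (by omega) (by omega)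
              · skip
                exact allRangeF_sound _ _ (checkFactF_eq cert) 1599000 1000 chkF_1599000 i (by omega) (by omega)
        · skip
          rcases Nat.lt_or_ge i 1603000 with h5 | h5
          · skip
            rcases Nat.lt_or_ge i 1601000 with h6 | h6
            · skip
              exact allRangeF_sound _ _ (checkFactF_eq cert) 1600000 1000 chkF_1600000 i (by omega) (by omega)
            · skip
              rcases Nat.lt_or_ge i 1602000 with h7 | h7
              · skip
                exact allRangeF_sound _ _ (checkFactF_eq cert) 1601000 1000 chkF_1601000 i (by omega) (by omega)
              · skip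
                exact allRangeF_sound _ _ (checkFactF_eq cert) 1602000 1000 chkF_1602000 i (by omega) (by omega)
          · skip
            rcases Nat.lt_or_ge i 1605000 with h6 | h6
            · skip
              rcases Nat.lt_or_ge i 1604000 with h7 | h7
              · skip
                exact allRangeF_sound _ _ (checkFactF_eq cert) 1603000 1000 chkF_1603000 i (by omega) (by omega)
              · skip
                exact allRangeF_sound _ _ (checkFactF_eq cert) 1604000 1000 chkF_1604000 i (by omega) (by omega)
            · skip
              rcases Nat.lt_or_ge i 1606000 with h7 | h7
              · skip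
                exact allRangeF_sound _ _ (checkFactF_eq cert) 1605000 1000 chkF_1605000 i (by omega) (by omega)
              · skip
                exact allRangeF_sound _ _ (checkFactF_eq cert) 1606000 1000 chkF_1606000 i (by omega) (by omega)
      · skip
        rcases Nat.lt_or_ge i 1614000 with h4 | h4
        · skip
          rcases Nat.lt_or_ge i 1610000 with h5 | h5
          · skip
            rcases Nat.lt_or_ge i 1608000 with h6 | h6
            · skip
              exact allRangeF_sound _ _ (checkFactF_eq cert) 1607000 1000 chkF_1607000 i (by omega) (by omega)
            · skip
              rcases Nat.lt_or_ge i 1609000 with h7 | h7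
              · skip
                exact allRangeF_sound _ _ (checkFactF_eq cert) 1608000 1000 chkF_1608000 i (by omega) (by omega)
              · skip
                exact allRangeF_sound _ _ (checkFactF_eq cert) 1609000 1000 chkF_1609000 i (by omega) (by omega)
          · skip
            rcases Nat.lt_or_ge i 1612000 with h6 | h6
            · skip
              rcases Nat.lt_or_ge i 1611000 with h7 | h7
              · skip
                exact allRangeF_sound _ _ (checkFactF_eq cert) 1610000 1000 chkF_1610000 i (by omega) (by omega)
              · skip
                exact allRangeF_sound _ _ (checkFactF_eq cert) 1611000 1000 chkF_1611000 i (by omega) (by omega)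
            · skip
              rcases Nat.lt_or_ge i 1613000 with h7 | h7
              · skip
                exact allRangeF_sound _ _ (checkFactF_eq cert) 1612000 1000 chkF_1612000 i (by omega) (by omega)
              · skip
                exact allRangeF_sound _ _ (checkFactF_eq cert) 1613000 1000 chkF_1613000 i (by omega) (by omega)
        · skip
          rcases Nat.lt_or_ge i 1618000 with h5 | h5
          · skip
            rcases Nat.lt_or_ge i 1616000 with h6 | h6
            · skip
              rcases Nat.lt_or_ge i 1615000 with h7 | h7
              · skip
                exact allRangeF_sound _ _ (checkFactF_eq cert) 1614000 1000 chkF_1614000 i (by omega) (by omega)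
              · skip
                exact allRangeF_sound _ _ (checkFactF_eq cert) 1615000 1000 chkF_1615000 i (by omega) (by omega)
            · skip
              rcases Nat.lt_or_ge i 1617000 with h7 | h7
              · skip
                exact allRangeF_sound _ _ (checkFactF_eq cert) 1616000 1000 chkF_1616000 i (by omega) (by omega)
              · skip
                exact allRangeF_sound _ _ (checkFactF_eq cert) 1617000 1000 chkF_1617000 i (by omega) (by omega)
          · skip
            rcases Nat.lt_or_ge i 1620000 with h6 | h6
            · skip
              rcases Nat.lt_or_ge i 1619000 with h7 | h7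
              · skip
                exact allRangeF_sound _ _ (checkFactF_eq cert) 1618000 1000 chkF_1618000 i (by omega) (by omega)
              · skip
                exact allRangeF_sound _ _ (checkFactF_eq cert) 1619000 1000 chkF_1619000 i (by omega) (by omega)
            · skip
              rcases Nat.lt_or_ge i 1621000 with h7 | h7
              · skip
                exact allRangeF_sound _ _ (checkFactF_eq cert) 1620000 1000 chkF_1620000 i (by omega) (by omega)
              · skip
                exact allRangeF_sound _ _ (checkFactF_eq cert) 1621000 1000 chkF_1621000 i (by omega) (by omega)
    · skip
      rcases Nat.lt_or_ge i 1637000 with h3 | h3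
      · skip
        rcases Nat.lt_or_ge i 1629000 with h4 | h4
        · skip
          rcases Nat.lt_or_ge i 1625000 with h5 | h5
          · skip
            rcases Nat.lt_or_ge i 1623000 with h6 | h6
            · skip
              exact allRangeF_sound _ _ (checkFactF_eq cert) 1622000 1000 chkF_1622000 i (by omega) (by omega)
            · skip
              rcases Nat.lt_or_ge i 1624000 with h7 | h7
              · skip
                exact allRangeF_sound _ _ (checkFactF_eq cert) 1623000 1000 chkF_1623000 i (by omega) (by omega)
              · skip
                exact allRangeF_sound _ _ (checkFactF_eq cert) 1624000 1000 chkF_1624000 i (by omega) (by omega)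
          · skip
            rcases Nat.lt_or_ge i 1627000 with h6 | h6
            · skip
              rcases Nat.lt_or_ge i 1626000 with h7 | h7
              · skip
                exact allRangeF_sound _ _ (checkFactF_eq cert) 1625000 1000 chkF_1625000 i (by omega) (by omega)
              · skip
                exact allRangeF_sound _ _ (checkFactF_eq cert) 1626000 1000 chkF_1626000 i (by omega) (by omega)
            · skip
              rcases Nat.lt_or_ge i 1628000 with h7 | h7
              · skip
                exact allRangeF_sound _ _ (checkFactF_eq cert) 1627000 1000 chkF_1627000 i (by omega) (by omega)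
              · skip
                exact allRangeF_sound _ _ (checkFactF_eq cert) 1628000 1000 chkF_1628000 i (by omega) (by omega)
        · skip
          rcases Nat.lt_or_ge i 1633000 with h5 | h5
          · skip
            rcases Nat.lt_or_ge i 1631000 with h6 | h6
            · skip
              rcases Nat.lt_or_ge i 1630000 with h7 | h7
              · skip
                exact allRangeF_sound _ _ (checkFactF_eq cert) 1629000 1000 chkF_1629000 i (by omega) (by omega)
              · skip
                exact allRangeF_sound _ _ (checkFactF_eq cert) 1630000 1000 chkF_1630000 i (by omega) (by omega)
            · skip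
              rcases Nat.lt_or_ge i 1632000 with h7 | h7
              · skip
                exact allRangeF_sound _ _ (checkFactF_eq cert) 1631000 1000 chkF_1631000 i (by omega) (by omega)
              · skip
                exact allRangeF_sound _ _ (checkFactF_eq cert) 1632000 1000 chkF_1632000 i (by omega) (by omega)
          · skip
            rcases Nat.lt_or_ge i 1635000 with h6 | h6
            · skip
              rcases Nat.lt_or_ge i 1634000 with h7 | h7
              · skip
                exact allRangeF_sound _ _ (checkFactF_eq cert) 1633000 1000 chkF_1633000 i (by omega) (by omega)
              · skip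
                exact allRangeF_sound _ _ (checkFactF_eq cert) 1634000 1000 chkF_1634000 i (by omega) (by omega)
            · skip
              rcases Nat.lt_or_ge i 1636000 with h7 | h7
              · skip
                exact allRangeF_sound _ _ (checkFactF_eq cert) 1635000 1000 chkF_1635000 i (by omega) (by omega)
              · skip
                exact allRangeF_sound _ _ (checkFactF_eq cert) 1636000 1000 chkF_1636000 i (by omega) (by omega)
      · skip
        rcases Nat.lt_or_ge i 1644000 with h4 | h4
        · skip
          rcases Nat.lt_or_ge i 1640000 with h5 | h5
          · skip
            rcases Nat.lt_or_ge i 1638000 with h6 | h6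
            · skip
              exact allRangeF_sound _ _ (checkFactF_eq cert) 1637000 1000 chkF_1637000 i (by omega) (by omega)
            · skip
              rcases Nat.lt_or_ge i 1639000 with h7 | h7
              · skip
                exact allRangeF_sound _ _ (checkFactF_eq cert) 1638000 1000 chkF_1638000 i (by omega) (by omega)
              · skip
                exact allRangeF_sound _ _ (checkFactF_eq cert) 1639000 1000 chkF_1639000 i (by omega) (by omega)
          · skip
            rcases Nat.lt_or_ge i 1642000 with h6 | h6
            · skip
              rcases Nat.lt_or_ge i 1641000 with h7 | h7
              · skip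
                exact allRangeF_sound _ _ (checkFactF_eq cert) 1640000 1000 chkF_1640000 i (by omega) (by omega)
              · skip
                exact allRangeF_sound _ _ (checkFactF_eq cert) 1641000 1000 chkF_1641000 i (by omega) (by omega)
            · skip
              rcases Nat.lt_or_ge i 1643000 with h7 | h7
              · skip
                exact allRangeF_sound _ _ (checkFactF_eq cert) 1642000 1000 chkF_1642000 i (by omega) (by omega)
              · skip
                exact allRangeF_sound _ _ (checkFactF_eq cert) 1643000 1000 chkF_1643000 i (by omega) (by omega)
        · skip
          rcases Nat.lt_or_ge i 1648000 with h5 | h5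
          · skip
            rcases Nat.lt_or_ge i 1646000 with h6 | h6
            · skip
              rcases Nat.lt_or_ge i 1645000 with h7 | h7
              · skip
                exact allRangeF_sound _ _ (checkFactF_eq cert) 1644000 1000 chkF_1644000 i (by omega) (by omega)
              · skip
                exact allRangeF_sound _ _ (checkFactF_eq cert) 1645000 1000 chkF_1645000 i (by omega) (by omega)
            · skip
              rcases Nat.lt_or_ge i 1647000 with h7 | h7
              · skip
                exact allRangeF_sound _ _ (checkFactF_eq cert) 1646000 1000 chkF_1646000 i (by omega) (by omega)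
              · skip
                exact allRangeF_sound _ _ (checkFactF_eq cert) 1647000 1000 chkF_1647000 i (by omega) (by omega)
          · skip
            rcases Nat.lt_or_ge i 1650000 with h6 | h6
            · skip
              rcases Nat.lt_or_ge i 1649000 with h7 | h7
              · skip
                exact allRangeF_sound _ _ (checkFactF_eq cert) 1648000 1000 chkF_1648000 i (by omega) (by omega)
              · skip
                exact allRangeF_sound _ _ (checkFactF_eq cert) 1649000 1000 chkF_1649000 i (by omega) (by omega)
            · skip
              rcases Nat.lt_or_ge i 1651000 with h7 | h7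
              · skip
                exact allRangeF_sound _ _ (checkFactF_eq cert) 1650000 1000 chkF_1650000 i (by omega) (by omega)
              · skip
                exact allRangeF_sound _ _ (checkFactF_eq cert) 1651000 1000 chkF_1651000 i (by omega) (by omega)

end Cfsg.Agent.Lib.Helper28.He2Data
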