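import Cfsg.Agent.Lib.Helper28.He2Data
import Cfsg.Agent.Lib.Helper28.TCFast

set_option autoImplicit false
set_option maxRecDepth 1000000
set_option linter.all false
set_option Elab.async false

namespace Cfsg.Agent.Lib.Helper28.He2Data

open Cfsg.Agent.Lib.Helper28

theorem chkP_0 : allRangeF (checkPointF cert) (nat_lit 0) (nat_lit 100) = true := by decide +kernel
theorem chkP_100 : allRangeF (checkPointF cert) (nat_lit 100) (nat_lit 100) = true := by decide +kernel
theorem chkP_200 : allRangeF (checkPointF cert) (nat_lit 200) (nat_lit 100) = true := by decide +kernel
theorem chkP_300 : allRangeF (checkPointF cert) (nat_lit 300) (nat_lit 100) = true := by decide +kernel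
theorem chkP_400 : allRangeF (checkPointF cert) (nat_lit 400) (nat_lit 100) = true := by decide +kernel
theorem chkP_500 : allRangeF (checkPointF cert) (nat_lit 500) (nat_lit 100) = true := by decide +kernel
theorem chkP_600 : allRangeF (checkPointF cert) (nat_lit 600) (nat_lit 100) = true := by decide +kernel
theorem chkP_700 : allRangeF (checkPointF cert) (nat_lit 700) (nat_lit 100) = true := by decide +kernel
theorem chkP_800 : allRangeF (checkPointF cert) (nat_lit 800) (nat_lit 100) = true := by decide +kernel
theorem chkP_900 : allRangeF (checkPointF cert) (nat_lit 900) (nat_lit 100) = true := by decide +kernel
theorem chkP_1000 : allRangeF (checkPointF cert) (nat_lit 1000) (nat_lit 100) = true := by decide +kernel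
theorem chkP_1100 : allRangeF (checkPointF cert) (nat_lit 1100) (nat_lit 100) = true := by decide +kernel
theorem chkP_1200 : allRangeF (checkPointF cert) (nat_lit 1200) (nat_lit 100) = true := by decide +kernel
theorem chkP_1300 : allRangeF (checkPointF cert) (nat_lit 1300) (nat_lit 100) = true := by decide +kernel
theorem chkP_1400 : allRangeF (checkPointF cert) (nat_lit 1400) (nat_lit 100) = true := by decide +kernel
theorem chkP_1500 : allRangeF (checkPointF cert) (nat_lit 1500) (nat_lit 100) = true := by decide +kernel
theorem chkP_1600 : allRangeF (checkPointF cert) (nat_lit 1600) (nat_lit 100) = true := by decide +kernel
theorem chkP_1700 : allRangeF (checkPointF cert) (nat_lit 1700) (nat_lit 100) = true := by decide +kernel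
theorem chkP_1800 : allRangeF (checkPointF cert) (nat_lit 1800) (nat_lit 100) = true := by decide +kernel
theorem chkP_1900 : allRangeF (checkPointF cert) (nat_lit 1900) (nat_lit 100) = true := by decide +kernel
theorem chkP_2000 : allRangeF (checkPointF cert) (nat_lit 2000) (nat_lit 100) = true := by decide +kernel
theorem chkP_2100 : allRangeF (checkPointF cert) (nat_lit 2100) (nat_lit 100) = true := by decide +kernel
theorem chkP_2200 : allRangeF (checkPointF cert) (nat_lit 2200) (nat_lit 100) = true := by decide +kernel
theorem chkP_2300 : allRangeF (checkPointF cert) (nat_lit 2300) (nat_lit 100) = true := by decide +kernel
theorem chkP_2400 : allRangeF (checkPointF cert) (nat_lit 2400) (nat_lit 100) = true := by decide +kernel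
theorem chkP_2500 : allRangeF (checkPointF cert) (nat_lit 2500) (nat_lit 100) = true := by decide +kernel
theorem chkP_2600 : allRangeF (checkPointF cert) (nat_lit 2600) (nat_lit 100) = true := by decide +kernel
theorem chkP_2700 : allRangeF (checkPointF cert) (nat_lit 2700) (nat_lit 100) = true := by decide +kernel
theorem chkP_2800 : allRangeF (checkPointF cert) (nat_lit 2800) (nat_lit 100) = true := by decide +kernel
theorem chkP_2900 : allRangeF (checkPointF cert) (nat_lit 2900) (nat_lit 100) = true := by decide +kernel
theorem chkP_3000 : allRangeF (checkPointF cert) (nat_lit 3000) (nat_lit 100) = true := by decide +kernel
theorem chkP_3100 : allRangeF (checkPointF cert) (nat_lit 3100) (nat_lit 100) = true := by decide +kernel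
theorem chkP_3200 : allRangeF (checkPointF cert) (nat_lit 3200) (nat_lit 100) = true := by decide +kernel
theorem chkP_3300 : allRangeF (checkPointF cert) (nat_lit 3300) (nat_lit 100) = true := by decide +kernel
theorem chkP_3400 : allRangeF (checkPointF cert) (nat_lit 3400) (nat_lit 100) = true := by decide +kernel
theorem chkP_3500 : allRangeF (checkPointF cert) (nat_lit 3500) (nat_lit 100) = true := by decide +kernel
theorem chkP_3600 : allRangeF (checkPointF cert) (nat_lit 3600) (nat_lit 100) = true := by decide +kernel
theorem chkP_3700 : allRangeF (checkPointF cert) (nat_lit 3700) (nat_lit 100) = true := by decide +kernel
theorem chkP_3800 : allRangeF (checkPointF cert) (nat_lit 3800) (nat_lit 100) = true := by decide +kernel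
theorem chkP_3900 : allRangeF (checkPointF cert) (nat_lit 3900) (nat_lit 100) = true := by decide +kernel
theorem chkP_4000 : allRangeF (checkPointF cert) (nat_lit 4000) (nat_lit 100) = true := by decide +kernel
theorem chkP_4100 : allRangeF (checkPointF cert) (nat_lit 4100) (nat_lit 100) = true := by decide +kernel
theorem chkP_4200 : allRangeF (checkPointF cert) (nat_lit 4200) (nat_lit 100) = true := by decide +kernel
theorem chkP_4300 : allRangeF (checkPointF cert) (nat_lit 4300) (nat_lit 100) = true := by decide +kernel
theorem chkP_4400 : allRangeF (checkPointF cert) (nat_lit 4400) (nat_lit 100) = true := by decide +kernel
theorem chkP_4500 : allRangeF (checkPointF cert) (nat_lit 4500) (nat_lit 100) = true := by decide +kernel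
theorem chkP_4600 : allRangeF (checkPointF cert) (nat_lit 4600) (nat_lit 100) = true := by decide +kernel
theorem chkP_4700 : allRangeF (checkPointF cert) (nat_lit 4700) (nat_lit 100) = true := by decide +kernel
theorem chkP_4800 : allRangeF (checkPointF cert) (nat_lit 4800) (nat_lit 100) = true := by decide +kernel
theorem chkP_4900 : allRangeF (checkPointF cert) (nat_lit 4900) (nat_lit 100) = true := by decide +kernel
theorem chkP_5000 : allRangeF (checkPointF cert) (nat_lit 5000) (nat_lit 100) = true := by decide +kernel
theorem chkP_5100 : allRangeF (checkPointF cert) (nat_lit 5100) (nat_lit 100) = true := by decide +kernel
theorem chkP_5200 : allRangeF (checkPointF cert) (nat_lit 5200) (nat_lit 100) = true := by decide +kernel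
theorem chkP_5300 : allRangeF (checkPointF cert) (nat_lit 5300) (nat_lit 100) = true := by decide +kernel
theorem chkP_5400 : allRangeF (checkPointF cert) (nat_lit 5400) (nat_lit 100) = true := by decide +kernel
theorem chkP_5500 : allRangeF (checkPointF cert) (nat_lit 5500) (nat_lit 100) = true := by decide +kernel
theorem chkP_5600 : allRangeF (checkPointF cert) (nat_lit 5600) (nat_lit 100) = true := by decide +kernel
theorem chkP_5700 : allRangeF (checkPointF cert) (nat_lit 5700) (nat_lit 100) = true := by decide +kernel
theorem chkP_5800 : allRangeF (checkPointF cert) (nat_lit 5800) (nat_lit 100) = true := by decide +kernel
theorem chkP_5900 : allRangeF (checkPointF cert) (nat_lit 5900) (nat_lit 100) = true := by decide +kernel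
theorem chkP_6000 : allRangeF (checkPointF cert) (nat_lit 6000) (nat_lit 100) = true := by decide +kernel
theorem chkP_6100 : allRangeF (checkPointF cert) (nat_lit 6100) (nat_lit 100) = true := by decide +kernel
theorem chkP_6200 : allRangeF (checkPointF cert) (nat_lit 6200) (nat_lit 100) = true := by decide +kernel
theorem chkP_6300 : allRangeF (checkPointF cert) (nat_lit 6300) (nat_lit 100) = true := by decide +kernel
theorem chkP_6400 : allRangeF (checkPointF cert) (nat_lit 6400) (nat_lit 100) = true := by decide +kernel
theorem chkP_6500 : allRangeF (checkPointF cert) (nat_lit 6500) (nat_lit 100) = true := by decide +kernel
theorem chkP_6600 : allRangeF (checkPointF cert) (nat_lit 6600) (nat_lit 100) = true := by decide +kernel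
theorem chkP_6700 : allRangeF (checkPointF cert) (nat_lit 6700) (nat_lit 100) = true := by decide +kernel
theorem chkP_6800 : allRangeF (checkPointF cert) (nat_lit 6800) (nat_lit 100) = true := by decide +kernel
theorem chkP_6900 : allRangeF (checkPointF cert) (nat_lit 6900) (nat_lit 100) = true := by decide +kernel
theorem chkP_7000 : allRangeF (checkPointF cert) (nat_lit 7000) (nat_lit 100) = true := by decide +kernel
theorem chkP_7100 : allRangeF (checkPointF cert) (nat_lit 7100) (nat_lit 100) = true := by decide +kernel
theorem chkP_7200 : allRangeF (checkPointF cert) (nat_lit 7200) (nat_lit 100) = true := by decide +kernel
theorem chkP_7300 : allRangeF (checkPointF cert) (nat_lit 7300) (nat_lit 100) = true := by decide +kernel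
theorem chkP_7400 : allRangeF (checkPointF cert) (nat_lit 7400) (nat_lit 100) = true := by decide +kernel
theorem chkP_7500 : allRangeF (checkPointF cert) (nat_lit 7500) (nat_lit 100) = true := by decide +kernel
theorem chkP_7600 : allRangeF (checkPointF cert) (nat_lit 7600) (nat_lit 100) = true := by decide +kernel
theorem chkP_7700 : allRangeF (checkPointF cert) (nat_lit 7700) (nat_lit 100) = true := by decide +kernel
theorem chkP_7800 : allRangeF (checkPointF cert) (nat_lit 7800) (nat_lit 100) = true := by decide +kernel
theorem chkP_7900 : allRangeF (checkPointF cert) (nat_lit 7900) (nat_lit 100) = true := by decide +kernel
theorem chkP_8000 : allRangeF (checkPointF cert) (nat_lit 8000) (nat_lit 100) = true := by decide +kernel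
theorem chkP_8100 : allRangeF (checkPointF cert) (nat_lit 8100) (nat_lit 100) = true := by decide +kernel
theorem chkP_8200 : allRangeF (checkPointF cert) (nat_lit 8200) (nat_lit 100) = true := by decide +kernel
theorem chkP_8300 : allRangeF (checkPointF cert) (nat_lit 8300) (nat_lit 100) = true := by decide +kernel
theorem chkP_8400 : allRangeF (checkPointF cert) (nat_lit 8400) (nat_lit 100) = true := by decide +kernel
theorem chkP_8500 : allRangeF (checkPointF cert) (nat_lit 8500) (nat_lit 100) = true := by decide +kernel
theorem chkP_8600 : allRangeF (checkPointF cert) (nat_lit 8600) (nat_lit 100) = true := by decide +kernel
theorem chkP_8700 : allRangeF (checkPointF cert) (nat_lit 8700) (nat_lit 100) = true := by decide +kernel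
theorem chkP_8800 : allRangeF (checkPointF cert) (nat_lit 8800) (nat_lit 100) = true := by decide +kernel
theorem chkP_8900 : allRangeF (checkPointF cert) (nat_lit 8900) (nat_lit 100) = true := by decide +kernel
theorem chkP_9000 : allRangeF (checkPointF cert) (nat_lit 9000) (nat_lit 100) = true := by decide +kernel
theorem chkP_9100 : allRangeF (checkPointF cert) (nat_lit 9100) (nat_lit 100) = true := by decide +kernel
theorem chkP_9200 : allRangeF (checkPointF cert) (nat_lit 9200) (nat_lit 100) = true := by decide +kernel
theorem chkP_9300 : allRangeF (checkPointF cert) (nat_lit 9300) (nat_lit 100) = true := by decide +kernel
theorem chkP_9400 : allRangeF (checkPointF cert) (nat_lit 9400) (nat_lit 100) = true := by decide +kernel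
theorem chkP_9500 : allRangeF (checkPointF cert) (nat_lit 9500) (nat_lit 100) = true := by decide +kernel
theorem chkP_9600 : allRangeF (checkPointF cert) (nat_lit 9600) (nat_lit 100) = true := by decide +kernel
theorem chkP_9700 : allRangeF (checkPointF cert) (nat_lit 9700) (nat_lit 100) = true := by decide +kernel
theorem chkP_9800 : allRangeF (checkPointF cert) (nat_lit 9800) (nat_lit 100) = true := by decide +kernel
theorem chkP_9900 : allRangeF (checkPointF cert) (nat_lit 9900) (nat_lit 100) = true := by decide +kernel
theorem chkP_10000 : allRangeF (checkPointF cert) (nat_lit 10000) (nat_lit 100) = true := by decide +kernel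
theorem chkP_10100 : allRangeF (checkPointF cert) (nat_lit 10100) (nat_lit 100) = true := by decide +kernel
theorem chkP_10200 : allRangeF (checkPointF cert) (nat_lit 10200) (nat_lit 100) = true := by decide +kernel
theorem chkP_10300 : allRangeF (checkPointF cert) (nat_lit 10300) (nat_lit 100) = true := by decide +kernel
theorem chkP_10400 : allRangeF (checkPointF cert) (nat_lit 10400) (nat_lit 100) = true := by decide +kernel
theorem chkP_10500 : allRangeF (checkPointF cert) (nat_lit 10500) (nat_lit 100) = true := by decide +kernel
theorem chkP_10600 : allRangeF (checkPointF cert) (nat_lit 10600) (nat_lit 100) = true := by decide +kernel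
theorem chkP_10700 : allRangeF (checkPointF cert) (nat_lit 10700) (nat_lit 100) = true := by decide +kernel
theorem chkP_10800 : allRangeF (checkPointF cert) (nat_lit 10800) (nat_lit 100) = true := by decide +kernel
theorem chkP_10900 : allRangeF (checkPointF cert) (nat_lit 10900) (nat_lit 100) = true := by decide +kernel
theorem chkP_11000 : allRangeF (checkPointF cert) (nat_lit 11000) (nat_lit 100) = true := by decide +kernel
theorem chkP_11100 : allRangeF (checkPointF cert) (nat_lit 11100) (nat_lit 100) = true := by decide +kernel
theorem chkP_11200 : allRangeF (checkPointF cert) (nat_lit 11200) (nat_lit 100) = true := by decide +kernel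
theorem chkP_11300 : allRangeF (checkPointF cert) (nat_lit 11300) (nat_lit 100) = true := by decide +kernel
theorem chkP_11400 : allRangeF (checkPointF cert) (nat_lit 11400) (nat_lit 100) = true := by decide +kernel
theorem chkP_11500 : allRangeF (checkPointF cert) (nat_lit 11500) (nat_lit 100) = true := by decide +kernel
theorem chkP_11600 : allRangeF (checkPointF cert) (nat_lit 11600) (nat_lit 100) = true := by decide +kernel
theorem chkP_11700 : allRangeF (checkPointF cert) (nat_lit 11700) (nat_lit 100) = true := by decide +kernel
theorem chkP_11800 : allRangeF (checkPointF cert) (nat_lit 11800) (nat_lit 100) = true := by decide +kernel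
theorem chkP_11900 : allRangeF (checkPointF cert) (nat_lit 11900) (nat_lit 100) = true := by decide +kernel
theorem chkP_12000 : allRangeF (checkPointF cert) (nat_lit 12000) (nat_lit 100) = true := by decide +kernel
theorem chkP_12100 : allRangeF (checkPointF cert) (nat_lit 12100) (nat_lit 100) = true := by decide +kernel
theorem chkP_12200 : allRangeF (checkPointF cert) (nat_lit 12200) (nat_lit 100) = true := by decide +kernel
theorem chkP_12300 : allRangeF (checkPointF cert) (nat_lit 12300) (nat_lit 100) = true := by decide +kernel
theorem chkP_12400 : allRangeF (checkPointF cert) (nat_lit 12400) (nat_lit 100) = true := by decide +kernel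
theorem chkP_12500 : allRangeF (checkPointF cert) (nat_lit 12500) (nat_lit 100) = true := by decide +kernel
theorem chkP_12600 : allRangeF (checkPointF cert) (nat_lit 12600) (nat_lit 100) = true := by decide +kernel
theorem chkP_12700 : allRangeF (checkPointF cert) (nat_lit 12700) (nat_lit 100) = true := by decide +kernel
theorem chkP_12800 : allRangeF (checkPointF cert) (nat_lit 12800) (nat_lit 100) = true := by decide +kernel
theorem chkP_12900 : allRangeF (checkPointF cert) (nat_lit 12900) (nat_lit 100) = true := by decide +kernel
theorem chkP_13000 : allRangeF (checkPointF cert) (nat_lit 13000) (nat_lit 100) = true := by decide +kernel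
theorem chkP_13100 : allRangeF (checkPointF cert) (nat_lit 13100) (nat_lit 100) = true := by decide +kernel
theorem chkP_13200 : allRangeF (checkPointF cert) (nat_lit 13200) (nat_lit 100) = true := by decide +kernel
theorem chkP_13300 : allRangeF (checkPointF cert) (nat_lit 13300) (nat_lit 100) = true := by decide +kernel
theorem chkP_13400 : allRangeF (checkPointF cert) (nat_lit 13400) (nat_lit 100) = true := by decide +kernel
theorem chkP_13500 : allRangeF (checkPointF cert) (nat_lit 13500) (nat_lit 100) = true := by decide +kernel
theorem chkP_13600 : allRangeF (checkPointF cert) (nat_lit 13600) (nat_lit 100) = true := by decide +kernel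
theorem chkP_13700 : allRangeF (checkPointF cert) (nat_lit 13700) (nat_lit 100) = true := by decide +kernel
theorem chkP_13800 : allRangeF (checkPointF cert) (nat_lit 13800) (nat_lit 100) = true := by decide +kernel
theorem chkP_13900 : allRangeF (checkPointF cert) (nat_lit 13900) (nat_lit 100) = true := by decide +kernel
theorem chkP_14000 : allRangeF (checkPointF cert) (nat_lit 14000) (nat_lit 100) = true := by decide +kernel
theorem chkP_14100 : allRangeF (checkPointF cert) (nat_lit 14100) (nat_lit 100) = true := by decide +kernel
theorem chkP_14200 : allRangeF (checkPointF cert) (nat_lit 14200) (nat_lit 100) = true := by decide +kernel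
theorem chkP_14300 : allRangeF (checkPointF cert) (nat_lit 14300) (nat_lit 100) = true := by decide +kernel
theorem chkP_14400 : allRangeF (checkPointF cert) (nat_lit 14400) (nat_lit 100) = true := by decide +kernel
theorem chkP_14500 : allRangeF (checkPointF cert) (nat_lit 14500) (nat_lit 100) = true := by decide +kernel
theorem chkP_14600 : allRangeF (checkPointF cert) (nat_lit 14600) (nat_lit 100) = true := by decide +kernel
theorem chkP_14700 : allRangeF (checkPointF cert) (nat_lit 14700) (nat_lit 100) = true := by decide +kernel
theorem chkP_14800 : allRangeF (checkPointF cert) (nat_lit 14800) (nat_lit 100) = true := by decide +kernel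
theorem chkP_14900 : allRangeF (checkPointF cert) (nat_lit 14900) (nat_lit 100) = true := by decide +kernel
theorem chkP_15000 : allRangeF (checkPointF cert) (nat_lit 15000) (nat_lit 100) = true := by decide +kernel
theorem chkP_15100 : allRangeF (checkPointF cert) (nat_lit 15100) (nat_lit 100) = true := by decide +kernel
theorem chkP_15200 : allRangeF (checkPointF cert) (nat_lit 15200) (nat_lit 100) = true := by decide +kernel
theorem chkP_15300 : allRangeF (checkPointF cert) (nat_lit 15300) (nat_lit 100) = true := by decide +kernel
theorem chkP_15400 : allRangeF (checkPointF cert) (nat_lit 15400) (nat_lit 100) = true := by decide +kernel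
theorem chkP_15500 : allRangeF (checkPointF cert) (nat_lit 15500) (nat_lit 100) = true := by decide +kernel
theorem chkP_15600 : allRangeF (checkPointF cert) (nat_lit 15600) (nat_lit 100) = true := by decide +kernel
theorem chkP_15700 : allRangeF (checkPointF cert) (nat_lit 15700) (nat_lit 100) = true := by decide +kernel
theorem chkP_15800 : allRangeF (checkPointF cert) (nat_lit 15800) (nat_lit 100) = true := by decide +kernel
theorem chkP_15900 : allRangeF (checkPointF cert) (nat_lit 15900) (nat_lit 100) = true := by decide +kernel
theorem chkP_16000 : allRangeF (checkPointF cert) (nat_lit 16000) (nat_lit 100) = true := by decide +kernel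
theorem chkP_16100 : allRangeF (checkPointF cert) (nat_lit 16100) (nat_lit 100) = true := by decide +kernel
theorem chkP_16200 : allRangeF (checkPointF cert) (nat_lit 16200) (nat_lit 100) = true := by decide +kernel
theorem chkP_16300 : allRangeF (checkPointF cert) (nat_lit 16300) (nat_lit 100) = true := by decide +kernel
theorem chkP_16400 : allRangeF (checkPointF cert) (nat_lit 16400) (nat_lit 100) = true := by decide +kernel
theorem chkP_16500 : allRangeF (checkPointF cert) (nat_lit 16500) (nat_lit 100) = true := by decide +kernel
theorem chkP_16600 : allRangeF (checkPointF cert) (nat_lit 16600) (nat_lit 100) = true := by decide +kernel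

theorem ptsRange_0 : ∀ i, 0 ≤ i → i < 16700 → checkPoint cert i = true := by
  intro i hlo hhi
  rcases Nat.lt_or_ge i 8300 with h1 | h1
  · skip
    rcases Nat.lt_or_ge i 4100 with h2 | h2
    · skip
      rcases Nat.lt_or_ge i 2000 with h3 | h3
      · skip
        rcases Nat.lt_or_ge i 1000 with h4 | h4
        · skip
          rcases Nat.lt_or_ge i 500 with h5 | h5
          · skip
            rcases Nat.lt_or_ge i 200 with h6 | h6
            · skip
              rcases Nat.lt_or_ge i 100 with h7 | h7
              · skip
                exact allRangeF_sound _ _ (checkPointF_eq cert) 0 100 chkP_0 i (by omega) (by omega)
              · skip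
                exact allRangeF_sound _ _ (checkPointF_eq cert) 100 100 chkP_100 i (by omega) (by omega)
            · skip
              rcases Nat.lt_or_ge i 300 with h7 | h7
              · skip
                exact allRangeF_sound _ _ (checkPointF_eq cert) 200 100 chkP_200 i (by omega) (by omega)
              · skip
                rcases Nat.lt_or_ge i 400 with h8 | h8
                · skip
                  exact allRangeF_sound _ _ (checkPointF_eq cert) 300 100 chkP_300 i (by omega) (by omega)
                · skip
                  exact allRangeF_sound _ _ (checkPointF_eq cert) 400 100 chkP_400 i (by omega) (by omega)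
          · skip
            rcases Nat.lt_or_ge i 700 with h6 | h6
            · skip
              rcases Nat.lt_or_ge i 600 with h7 | h7
              · skip
                exact allRangeF_sound _ _ (checkPointF_eq cert) 500 100 chkP_500 i (by omega) (by omega)
              · skip
                exact allRangeF_sound _ _ (checkPointF_eq cert) 600 100 chkP_600 i (by omega) (by omega)
            · skip
              rcases Nat.lt_or_ge i 800 with h7 | h7
              · skip
                exact allRangeF_sound _ _ (checkPointF_eq cert) 700 100 chkP_700 i (by omega) (by omega)
              · skip
                rcases Nat.lt_or_ge i 900 with h8 | h8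
                · skip
                  exact allRangeF_sound _ _ (checkPointF_eq cert) 800 100 chkP_800 i (by omega) (by omega)
                · skip
                  exact allRangeF_sound _ _ (checkPointF_eq cert) 900 100 chkP_900 i (by omega) (by omega)
        · skip
          rcases Nat.lt_or_ge i 1500 with h5 | h5
          · skip
            rcases Nat.lt_or_ge i 1200 with h6 | h6
            · skip
              rcases Nat.lt_or_ge i 1100 with h7 | h7
              · skip
                exact allRangeF_sound _ _ (checkPointF_eq cert) 1000 100 chkP_1000 i (by omega) (by omega)
              · skip
                exact allRangeF_sound _ _ (checkPointF_eq cert) 1100 100 chkP_1100 i (by omega) (by omega)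
            · skip
              rcases Nat.lt_or_ge i 1300 with h7 | h7
              · skip
                exact allRangeF_sound _ _ (checkPointF_eq cert) 1200 100 chkP_1200 i (by omega) (by omega)
              · skip
                rcases Nat.lt_or_ge i 1400 with h8 | h8
                · skip
                  exact allRangeF_sound _ _ (checkPointF_eq cert) 1300 100 chkP_1300 i (by omega) (by omega)
                · skip
                  exact allRangeF_sound _ _ (checkPointF_eq cert) 1400 100 chkP_1400 i (by omega) (by omega)
          · skip
            rcases Nat.lt_or_ge i 1700 with h6 | h6
            · skip
              rcases Nat.lt_or_ge i 1600 with h7 | h7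
              · skip
                exact allRangeF_sound _ _ (checkPointF_eq cert) 1500 100 chkP_1500 i (by omega) (by omega)
              · skip
                exact allRangeF_sound _ _ (checkPointF_eq cert) 1600 100 chkP_1600 i (by omega) (by omega)
            · skip
              rcases Nat.lt_or_ge i 1800 with h7 | h7
              · skip
                exact allRangeF_sound _ _ (checkPointF_eq cert) 1700 100 chkP_1700 i (by omega) (by omega)
              · skip
                rcases Nat.lt_or_ge i 1900 with h8 | h8
                · skip
                  exact allRangeF_sound _ _ (checkPointF_eq cert) 1800 100 chkP_1800 i (by omega) (by omega)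
                · skip
                  exact allRangeF_sound _ _ (checkPointF_eq cert) 1900 100 chkP_1900 i (by omega) (by omega)
      · skip
        rcases Nat.lt_or_ge i 3000 with h4 | h4
        · skip
          rcases Nat.lt_or_ge i 2500 with h5 | h5
          · skip
            rcases Nat.lt_or_ge i 2200 with h6 | h6
            · skip
              rcases Nat.lt_or_ge i 2100 with h7 | h7
              · skip
                exact allRangeF_sound _ _ (checkPointF_eq cert) 2000 100 chkP_2000 i (by omega) (by omega)
              · skip
                exact allRangeF_sound _ _ (checkPointF_eq cert) 2100 100 chkP_2100 i (by omega) (by omega)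
            · skip
              rcases Nat.lt_or_ge i 2300 with h7 | h7
              · skip
                exact allRangeF_sound _ _ (checkPointF_eq cert) 2200 100 chkP_2200 i (by omega) (by omega)
              · skip
                rcases Nat.lt_or_ge i 2400 with h8 | h8
                · skip
                  exact allRangeF_sound _ _ (checkPointF_eq cert) 2300 100 chkP_2300 i (by omega) (by omega)
                · skip
                  exact allRangeF_sound _ _ (checkPointF_eq cert) 2400 100 chkP_2400 i (by omega) (by omega)
          · skip
            rcases Nat.lt_or_ge i 2700 with h6 | h6
            · skip
              rcases Nat.lt_or_ge i 2600 with h7 | h7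
              · skip
                exact allRangeF_sound _ _ (checkPointF_eq cert) 2500 100 chkP_2500 i (by omega) (by omega)
              · skip
                exact allRangeF_sound _ _ (checkPointF_eq cert) 2600 100 chkP_2600 i (by omega) (by omega)
            · skip
              rcases Nat.lt_or_ge i 2800 with h7 | h7
              · skip
                exact allRangeF_sound _ _ (checkPointF_eq cert) 2700 100 chkP_2700 i (by omega) (by omega)
              · skip
                rcases Nat.lt_or_ge i 2900 with h8 | h8
                · skip
                  exact allRangeF_sound _ _ (checkPointF_eq cert) 2800 100 chkP_2800 i (by omega) (by omega)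
                · skip
                  exact allRangeF_sound _ _ (checkPointF_eq cert) 2900 100 chkP_2900 i (by omega) (by omega)
        · skip
          rcases Nat.lt_or_ge i 3500 with h5 | h5
          · skip
            rcases Nat.lt_or_ge i 3200 with h6 | h6
            · skip
              rcases Nat.lt_or_ge i 3100 with h7 | h7
              · skip
                exact allRangeF_sound _ _ (checkPointF_eq cert) 3000 100 chkP_3000 i (by omega) (by omega)
              · skip
                exact allRangeF_sound _ _ (checkPointF_eq cert) 3100 100 chkP_3100 i (by omega) (by omega)
            · skip
              rcases Nat.lt_or_ge i 3300 with h7 | h7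
              · skip
                exact allRangeF_sound _ _ (checkPointF_eq cert) 3200 100 chkP_3200 i (by omega) (by omega)
              · skip
                rcases Nat.lt_or_ge i 3400 with h8 | h8
                · skip
                  exact allRangeF_sound _ _ (checkPointF_eq cert) 3300 100 chkP_3300 i (by omega) (by omega)
                · skip
                  exact allRangeF_sound _ _ (checkPointF_eq cert) 3400 100 chkP_3400 i (by omega) (by omega)
          · skip
            rcases Nat.lt_or_ge i 3800 with h6 | h6
            · skip
              rcases Nat.lt_or_ge i 3600 with h7 | h7
              · skip
                exact allRangeF_sound _ _ (checkPointF_eq cert) 3500 100 chkP_3500 i (by omega) (by omega)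
              · skip
                rcases Nat.lt_or_ge i 3700 with h8 | h8
                · skip
                  exact allRangeF_sound _ _ (checkPointF_eq cert) 3600 100 chkP_3600 i (by omega) (by omega)
                · skip
                  exact allRangeF_sound _ _ (checkPointF_eq cert) 3700 100 chkP_3700 i (by omega) (by omega)
            · skip
              rcases Nat.lt_or_ge i 3900 with h7 | h7
              · skip
                exact allRangeF_sound _ _ (checkPointF_eq cert) 3800 100 chkP_3800 i (by omega) (by omega)
              · skip
                rcases Nat.lt_or_ge i 4000 with h8 | h8
                · skip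
                  exact allRangeF_sound _ _ (checkPointF_eq cert) 3900 100 chkP_3900 i (by omega) (by omega)
                · skip
                  exact allRangeF_sound _ _ (checkPointF_eq cert) 4000 100 chkP_4000 i (by omega) (by omega)
    · skip
      rcases Nat.lt_or_ge i 6200 with h3 | h3
      · skip
        rcases Nat.lt_or_ge i 5100 with h4 | h4
        · skip
          rcases Nat.lt_or_ge i 4600 with h5 | h5
          · skip
            rcases Nat.lt_or_ge i 4300 with h6 | h6
            · skip
              rcases Nat.lt_or_ge i 4200 with h7 | h7
              · skip
                exact allRangeF_sound _ _ (checkPointF_eq cert) 4100 100 chkP_4100 i (by omega) (by omega)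
              · skip
                exact allRangeF_sound _ _ (checkPointF_eq cert) 4200 100 chkP_4200 i (by omega) (by omega)
            · skip
              rcases Nat.lt_or_ge i 4400 with h7 | h7
              · skip
                exact allRangeF_sound _ _ (checkPointF_eq cert) 4300 100 chkP_4300 i (by omega) (by omega)
              · skip
                rcases Nat.lt_or_ge i 4500 with h8 | h8
                · skip
                  exact allRangeF_sound _ _ (checkPointF_eq cert) 4400 100 chkP_4400 i (by omega) (by omega)
                · skip
                  exact allRangeF_sound _ _ (checkPointF_eq cert) 4500 100 chkP_4500 i (by omega) (by omega)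
          · skip
            rcases Nat.lt_or_ge i 4800 with h6 | h6
            · skip
              rcases Nat.lt_or_ge i 4700 with h7 | h7
              · skip
                exact allRangeF_sound _ _ (checkPointF_eq cert) 4600 100 chkP_4600 i (by omega) (by omega)
              · skip
                exact allRangeF_sound _ _ (checkPointF_eq cert) 4700 100 chkP_4700 i (by omega) (by omega)
            · skip
              rcases Nat.lt_or_ge i 4900 with h7 | h7
              · skip
                exact allRangeF_sound _ _ (checkPointF_eq cert) 4800 100 chkP_4800 i (by omega) (by omega)
              · skip
                rcases Nat.lt_or_ge i 5000 with h8 | h8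
                · skip
                  exact allRangeF_sound _ _ (checkPointF_eq cert) 4900 100 chkP_4900 i (by omega) (by omega)
                · skip
                  exact allRangeF_sound _ _ (checkPointF_eq cert) 5000 100 chkP_5000 i (by omega) (by omega)
        · skip
          rcases Nat.lt_or_ge i 5600 with h5 | h5
          · skip
            rcases Nat.lt_or_ge i 5300 with h6 | h6
            · skip
              rcases Nat.lt_or_ge i 5200 with h7 | h7
              · skip
                exact allRangeF_sound _ _ (checkPointF_eq cert) 5100 100 chkP_5100 i (by omega) (by omega)
              · skip
                exact allRangeF_sound _ _ (checkPointF_eq cert) 5200 100 chkP_5200 i (by omega) (by omega)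
            · skip
              rcases Nat.lt_or_ge i 5400 with h7 | h7
              · skip
                exact allRangeF_sound _ _ (checkPointF_eq cert) 5300 100 chkP_5300 i (by omega) (by omega)
              · skip
                rcases Nat.lt_or_ge i 5500 with h8 | h8
                · skip
                  exact allRangeF_sound _ _ (checkPointF_eq cert) 5400 100 chkP_5400 i (by omega) (by omega)
                · skip
                  exact allRangeF_sound _ _ (checkPointF_eq cert) 5500 100 chkP_5500 i (by omega) (by omega)
          · skip
            rcases Nat.lt_or_ge i 5900 with h6 | h6
            · skip
              rcases Nat.lt_or_ge i 5700 with h7 | h7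
              · skip
                exact allRangeF_sound _ _ (checkPointF_eq cert) 5600 100 chkP_5600 i (by omega) (by omega)
              · skip
                rcases Nat.lt_or_ge i 5800 with h8 | h8
                · skip
                  exact allRangeF_sound _ _ (checkPointF_eq cert) 5700 100 chkP_5700 i (by omega) (by omega)
                · skip
                  exact allRangeF_sound _ _ (checkPointF_eq cert) 5800 100 chkP_5800 i (by omega) (by omega)
            · skip
              rcases Nat.lt_or_ge i 6000 with h7 | h7
              · skip
                exact allRangeF_sound _ _ (checkPointF_eq cert) 5900 100 chkP_5900 i (by omega) (by omega)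
              · skip
                rcases Nat.lt_or_ge i 6100 with h8 | h8
                · skip
                  exact allRangeF_sound _ _ (checkPointF_eq cert) 6000 100 chkP_6000 i (by omega) (by omega)
                · skip
                  exact allRangeF_sound _ _ (checkPointF_eq cert) 6100 100 chkP_6100 i (by omega) (by omega)
      · skip
        rcases Nat.lt_or_ge i 7200 with h4 | h4
        · skip
          rcases Nat.lt_or_ge i 6700 with h5 | h5
          · skip
            rcases Nat.lt_or_ge i 6400 with h6 | h6
            · skip
              rcases Nat.lt_or_ge i 6300 with h7 | h7
              · skip
                exact allRangeF_sound _ _ (checkPointF_eq cert) 6200 100 chkP_6200 i (by omega) (by omega)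
              · skip
                exact allRangeF_sound _ _ (checkPointF_eq cert) 6300 100 chkP_6300 i (by omega) (by omega)
            · skip
              rcases Nat.lt_or_ge i 6500 with h7 | h7
              · skip
                exact allRangeF_sound _ _ (checkPointF_eq cert) 6400 100 chkP_6400 i (by omega) (by omega)
              · skip
                rcases Nat.lt_or_ge i 6600 with h8 | h8
                · skip
                  exact allRangeF_sound _ _ (checkPointF_eq cert) 6500 100 chkP_6500 i (by omega) (by omega)
                · skip
                  exact allRangeF_sound _ _ (checkPointF_eq cert) 6600 100 chkP_6600 i (by omega) (by omega)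
          · skip
            rcases Nat.lt_or_ge i 6900 with h6 | h6
            · skip
              rcases Nat.lt_or_ge i 6800 with h7 | h7
              · skip
                exact allRangeF_sound _ _ (checkPointF_eq cert) 6700 100 chkP_6700 i (by omega) (by omega)
              · skip
                exact allRangeF_sound _ _ (checkPointF_eq cert) 6800 100 chkP_6800 i (by omega) (by omega)
            · skip
              rcases Nat.lt_or_ge i 7000 with h7 | h7
              · skip
                exact allRangeF_sound _ _ (checkPointF_eq cert) 6900 100 chkP_6900 i (by omega) (by omega)
              · skip
                rcases Nat.lt_or_ge i 7100 with h8 | h8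
                · skip
                  exact allRangeF_sound _ _ (checkPointF_eq cert) 7000 100 chkP_7000 i (by omega) (by omega)
                · skip
                  exact allRangeF_sound _ _ (checkPointF_eq cert) 7100 100 chkP_7100 i (by omega) (by omega)
        · skip
          rcases Nat.lt_or_ge i 7700 with h5 | h5
          · skip
            rcases Nat.lt_or_ge i 7400 with h6 | h6
            · skip
              rcases Nat.lt_or_ge i 7300 with h7 | h7
              · skip
                exact allRangeF_sound _ _ (checkPointF_eq cert) 7200 100 chkP_7200 i (by omega) (by omega)
              · skip
                exact allRangeF_sound _ _ (checkPointF_eq cert) 7300 100 chkP_7300 i (by omega) (by omega)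
            · skip
              rcases Nat.lt_or_ge i 7500 with h7 | h7
              · skip
                exact allRangeF_sound _ _ (checkPointF_eq cert) 7400 100 chkP_7400 i (by omega) (by omega)
              · skip
                rcases Nat.lt_or_ge i 7600 with h8 | h8
                · skip
                  exact allRangeF_sound _ _ (checkPointF_eq cert) 7500 100 chkP_7500 i (by omega) (by omega)
                · skip
                  exact allRangeF_sound _ _ (checkPointF_eq cert) 7600 100 chkP_7600 i (by omega) (by omega)
          · skip
            rcases Nat.lt_or_ge i 8000 with h6 | h6
            · skip
              rcases Nat.lt_or_ge i 7800 with h7 | h7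
              · skip
                exact allRangeF_sound _ _ (checkPointF_eq cert) 7700 100 chkP_7700 i (by omega) (by omega)
              · skip
                rcases Nat.lt_or_ge i 7900 with h8 | h8
                · skip
                  exact allRangeF_sound _ _ (checkPointF_eq cert) 7800 100 chkP_7800 i (by omega) (by omega)
                · skip
                  exact allRangeF_sound _ _ (checkPointF_eq cert) 7900 100 chkP_7900 i (by omega) (by omega)
            · skip
              rcases Nat.lt_or_ge i 8100 with h7 | h7
              · skip
                exact allRangeF_sound _ _ (checkPointF_eq cert) 8000 100 chkP_8000 i (by omega) (by omega)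
              · skip
                rcases Nat.lt_or_ge i 8200 with h8 | h8
                · skip
                  exact allRangeF_sound _ _ (checkPointF_eq cert) 8100 100 chkP_8100 i (by omega) (by omega)
                · skip
                  exact allRangeF_sound _ _ (checkPointF_eq cert) 8200 100 chkP_8200 i (by omega) (by omega)
  · skip
    rcases Nat.lt_or_ge i 12500 with h2 | h2
    · skip
      rcases Nat.lt_or_ge i 10400 with h3 | h3
      · skip
        rcases Nat.lt_or_ge i 9300 with h4 | h4
        · skip
          rcases Nat.lt_or_ge i 8800 with h5 | h5
          · skip
            rcases Nat.lt_or_ge i 8500 with h6 | h6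
            · skip
              rcases Nat.lt_or_ge i 8400 with h7 | h7
              · skip
                exact allRangeF_sound _ _ (checkPointF_eq cert) 8300 100 chkP_8300 i (by omega) (by omega)
              · skip
                exact allRangeF_sound _ _ (checkPointF_eq cert) 8400 100 chkP_8400 i (by omega) (by omega)
            · skip
              rcases Nat.lt_or_ge i 8600 with h7 | h7
              · skip
                exact allRangeF_sound _ _ (checkPointF_eq cert) 8500 100 chkP_8500 i (by omega) (by omega)
              · skip
                rcases Nat.lt_or_ge i 8700 with h8 | h8
                · skip
                  exact allRangeF_sound _ _ (checkPointF_eq cert) 8600 100 chkP_8600 i (by omega) (by omega)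
                · skip
                  exact allRangeF_sound _ _ (checkPointF_eq cert) 8700 100 chkP_8700 i (by omega) (by omega)
          · skip
            rcases Nat.lt_or_ge i 9000 with h6 | h6
            · skip
              rcases Nat.lt_or_ge i 8900 with h7 | h7
              · skip
                exact allRangeF_sound _ _ (checkPointF_eq cert) 8800 100 chkP_8800 i (by omega) (by omega)
              · skip
                exact allRangeF_sound _ _ (checkPointF_eq cert) 8900 100 chkP_8900 i (by omega) (by omega)
            · skip
              rcases Nat.lt_or_ge i 9100 with h7 | h7
              · skip
                exact allRangeF_sound _ _ (checkPointF_eq cert) 9000 100 chkP_9000 i (by omega) (by omega)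
              · skip
                rcases Nat.lt_or_ge i 9200 with h8 | h8
                · skip
                  exact allRangeF_sound _ _ (checkPointF_eq cert) 9100 100 chkP_9100 i (by omega) (by omega)
                · skip
                  exact allRangeF_sound _ _ (checkPointF_eq cert) 9200 100 chkP_9200 i (by omega) (by omega)
        · skip
          rcases Nat.lt_or_ge i 9800 with h5 | h5
          · skip
            rcases Nat.lt_or_ge i 9500 with h6 | h6
            · skip
              rcases Nat.lt_or_ge i 9400 with h7 | h7
              · skip
                exact allRangeF_sound _ _ (checkPointF_eq cert) 9300 100 chkP_9300 i (by omega) (by omega)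
              · skip
                exact allRangeF_sound _ _ (checkPointF_eq cert) 9400 100 chkP_9400 i (by omega) (by omega)
            · skip
              rcases Nat.lt_or_ge i 9600 with h7 | h7
              · skip
                exact allRangeF_sound _ _ (checkPointF_eq cert) 9500 100 chkP_9500 i (by omega) (by omega)
              · skip
                rcases Nat.lt_or_ge i 9700 with h8 | h8
                · skip
                  exact allRangeF_sound _ _ (checkPointF_eq cert) 9600 100 chkP_9600 i (by omega) (by omega)
                · skip
                  exact allRangeF_sound _ _ (checkPointF_eq cert) 9700 100 chkP_9700 i (by omega) (by omega)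
          · skip
            rcases Nat.lt_or_ge i 10100 with h6 | h6
            · skip
              rcases Nat.lt_or_ge i 9900 with h7 | h7
              · skip
                exact allRangeF_sound _ _ (checkPointF_eq cert) 9800 100 chkP_9800 i (by omega) (by omega)
              · skip
                rcases Nat.lt_or_ge i 10000 with h8 | h8
                · skip
                  exact allRangeF_sound _ _ (checkPointF_eq cert) 9900 100 chkP_9900 i (by omega) (by omega)
                · skip
                  exact allRangeF_sound _ _ (checkPointF_eq cert) 10000 100 chkP_10000 i (by omega) (by omega)
            · skip
              rcases Nat.lt_or_ge i 10200 with h7 | h7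
              · skip
                exact allRangeF_sound _ _ (checkPointF_eq cert) 10100 100 chkP_10100 i (by omega) (by omega)
              · skip
                rcases Nat.lt_or_ge i 10300 with h8 | h8
                · skip
                  exact allRangeF_sound _ _ (checkPointF_eq cert) 10200 100 chkP_10200 i (by omega) (by omega)
                · skip
                  exact allRangeF_sound _ _ (checkPointF_eq cert) 10300 100 chkP_10300 i (by omega) (by omega)
      · skip
        rcases Nat.lt_or_ge i 11400 with h4 | h4
        · skip
          rcases Nat.lt_or_ge i 10900 with h5 | h5
          · skip
            rcases Nat.lt_or_ge i 10600 with h6 | h6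
            · skip
              rcases Nat.lt_or_ge i 10500 with h7 | h7
              · skip
                exact allRangeF_sound _ _ (checkPointF_eq cert) 10400 100 chkP_10400 i (by omega) (by omega)
              · skip
                exact allRangeF_sound _ _ (checkPointF_eq cert) 10500 100 chkP_10500 i (by omega) (by omega)
            · skip
              rcases Nat.lt_or_ge i 10700 with h7 | h7
              · skip
                exact allRangeF_sound _ _ (checkPointF_eq cert) 10600 100 chkP_10600 i (by omega) (by omega)
              · skip
                rcases Nat.lt_or_ge i 10800 with h8 | h8
                · skip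
                  exact allRangeF_sound _ _ (checkPointF_eq cert) 10700 100 chkP_10700 i (by omega) (by omega)
                · skip
                  exact allRangeF_sound _ _ (checkPointF_eq cert) 10800 100 chkP_10800 i (by omega) (by omega)
          · skip
            rcases Nat.lt_or_ge i 11100 with h6 | h6
            · skip
              rcases Nat.lt_or_ge i 11000 with h7 | h7
              · skip
                exact allRangeF_sound _ _ (checkPointF_eq cert) 10900 100 chkP_10900 i (by omega) (by omega)
              · skip
                exact allRangeF_sound _ _ (checkPointF_eq cert) 11000 100 chkP_11000 i (by omega) (by omega)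
            · skip
              rcases Nat.lt_or_ge i 11200 with h7 | h7
              · skip
                exact allRangeF_sound _ _ (checkPointF_eq cert) 11100 100 chkP_11100 i (by omega) (by omega)
              · skip
                rcases Nat.lt_or_ge i 11300 with h8 | h8
                · skip
                  exact allRangeF_sound _ _ (checkPointF_eq cert) 11200 100 chkP_11200 i (by omega) (by omega)
                · skip
                  exact allRangeF_sound _ _ (checkPointF_eq cert) 11300 100 chkP_11300 i (by omega) (by omega)
        · skip
          rcases Nat.lt_or_ge i 11900 with h5 | h5
          · skip
            rcases Nat.lt_or_ge i 11600 with h6 | h6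
            · skip
              rcases Nat.lt_or_ge i 11500 with h7 | h7
              · skip
                exact allRangeF_sound _ _ (checkPointF_eq cert) 11400 100 chkP_11400 i (by omega) (by omega)
              · skip
                exact allRangeF_sound _ _ (checkPointF_eq cert) 11500 100 chkP_11500 i (by omega) (by omega)
            · skip
              rcases Nat.lt_or_ge i 11700 with h7 | h7
              · skip
                exact allRangeF_sound _ _ (checkPointF_eq cert) 11600 100 chkP_11600 i (by omega) (by omega)
              · skip
                rcases Nat.lt_or_ge i 11800 with h8 | h8
                · skip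
                  exact allRangeF_sound _ _ (checkPointF_eq cert) 11700 100 chkP_11700 i (by omega) (by omega)
                · skip
                  exact allRangeF_sound _ _ (checkPointF_eq cert) 11800 100 chkP_11800 i (by omega) (by omega)
          · skip
            rcases Nat.lt_or_ge i 12200 with h6 | h6
            · skip
              rcases Nat.lt_or_ge i 12000 with h7 | h7
              · skip
                exact allRangeF_sound _ _ (checkPointF_eq cert) 11900 100 chkP_11900 i (by omega) (by omega)
              · skip
                rcases Nat.lt_or_ge i 12100 with h8 | h8
                · skip
                  exact allRangeF_sound _ _ (checkPointF_eq cert) 12000 100 chkP_12000 i (by omega) (by omega)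
                · skip
                  exact allRangeF_sound _ _ (checkPointF_eq cert) 12100 100 chkP_12100 i (by omega) (by omega)
            · skip
              rcases Nat.lt_or_ge i 12300 with h7 | h7
              · skip
                exact allRangeF_sound _ _ (checkPointF_eq cert) 12200 100 chkP_12200 i (by omega) (by omega)
              · skip
                rcases Nat.lt_or_ge i 12400 with h8 | h8
                · skip
                  exact allRangeF_sound _ _ (checkPointF_eq cert) 12300 100 chkP_12300 i (by omega) (by omega)
                · skip
                  exact allRangeF_sound _ _ (checkPointF_eq cert) 12400 100 chkP_12400 i (by omega) (by omega)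
    · skip
      rcases Nat.lt_or_ge i 14600 with h3 | h3
      · skip
        rcases Nat.lt_or_ge i 13500 with h4 | h4
        · skip
          rcases Nat.lt_or_ge i 13000 with h5 | h5
          · skip
            rcases Nat.lt_or_ge i 12700 with h6 | h6
            · skip
              rcases Nat.lt_or_ge i 12600 with h7 | h7
              · skip
                exact allRangeF_sound _ _ (checkPointF_eq cert) 12500 100 chkP_12500 i (by omega) (by omega)
              · skip
                exact allRangeF_sound _ _ (checkPointF_eq cert) 12600 100 chkP_12600 i (by omega) (by omega)
            · skip
              rcases Nat.lt_or_ge i 12800 with h7 | h7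
              · skip
                exact allRangeF_sound _ _ (checkPointF_eq cert) 12700 100 chkP_12700 i (by omega) (by omega)
              · skip
                rcases Nat.lt_or_ge i 12900 with h8 | h8
                · skip
                  exact allRangeF_sound _ _ (checkPointF_eq cert) 12800 100 chkP_12800 i (by omega) (by omega)
                · skip
                  exact allRangeF_sound _ _ (checkPointF_eq cert) 12900 100 chkP_12900 i (by omega) (by omega)
          · skip
            rcases Nat.lt_or_ge i 13200 with h6 | h6
            · skip
              rcases Nat.lt_or_ge i 13100 with h7 | h7
              · skip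
                exact allRangeF_sound _ _ (checkPointF_eq cert) 13000 100 chkP_13000 i (by omega) (by omega)
              · skip
                exact allRangeF_sound _ _ (checkPointF_eq cert) 13100 100 chkP_13100 i (by omega) (by omega)
            · skip
              rcases Nat.lt_or_ge i 13300 with h7 | h7
              · skip
                exact allRangeF_sound _ _ (checkPointF_eq cert) 13200 100 chkP_13200 i (by omega) (by omega)
              · skip
                rcases Nat.lt_or_ge i 13400 with h8 | h8
                · skip
                  exact allRangeF_sound _ _ (checkPointF_eq cert) 13300 100 chkP_13300 i (by omega) (by omega)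
                · skip
                  exact allRangeF_sound _ _ (checkPointF_eq cert) 13400 100 chkP_13400 i (by omega) (by omega)
        · skip
          rcases Nat.lt_or_ge i 14000 with h5 | h5
          · skip
            rcases Nat.lt_or_ge i 13700 with h6 | h6
            · skip
              rcases Nat.lt_or_ge i 13600 with h7 | h7
              · skip
                exact allRangeF_sound _ _ (checkPointF_eq cert) 13500 100 chkP_13500 i (by omega) (by omega)
              · skip
                exact allRangeF_sound _ _ (checkPointF_eq cert) 13600 100 chkP_13600 i (by omega) (by omega)
            · skip
              rcases Nat.lt_or_ge i 13800 with h7 | h7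
              · skip
                exact allRangeF_sound _ _ (checkPointF_eq cert) 13700 100 chkP_13700 i (by omega) (by omega)
              · skip
                rcases Nat.lt_or_ge i 13900 with h8 | h8
                · skip
                  exact allRangeF_sound _ _ (checkPointF_eq cert) 13800 100 chkP_13800 i (by omega) (by omega)
                · skip
                  exact allRangeF_sound _ _ (checkPointF_eq cert) 13900 100 chkP_13900 i (by omega) (by omega)
          · skip
            rcases Nat.lt_or_ge i 14300 with h6 | h6
            · skip
              rcases Nat.lt_or_ge i 14100 with h7 | h7
              · skip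
                exact allRangeF_sound _ _ (checkPointF_eq cert) 14000 100 chkP_14000 i (by omega) (by omega)
              · skip
                rcases Nat.lt_or_ge i 14200 with h8 | h8
                · skip
                  exact allRangeF_sound _ _ (checkPointF_eq cert) 14100 100 chkP_14100 i (by omega) (by omega)
                · skip
                  exact allRangeF_sound _ _ (checkPointF_eq cert) 14200 100 chkP_14200 i (by omega) (by omega)
            · skip
              rcases Nat.lt_or_ge i 14400 with h7 | h7
              · skip
                exact allRangeF_sound _ _ (checkPointF_eq cert) 14300 100 chkP_14300 i (by omega) (by omega)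
              · skip
                rcases Nat.lt_or_ge i 14500 with h8 | h8
                · skip
                  exact allRangeF_sound _ _ (checkPointF_eq cert) 14400 100 chkP_14400 i (by omega) (by omega)
                · skip
                  exact allRangeF_sound _ _ (checkPointF_eq cert) 14500 100 chkP_14500 i (by omega) (by omega)
      · skip
        rcases Nat.lt_or_ge i 15600 with h4 | h4
        · skip
          rcases Nat.lt_or_ge i 15100 with h5 | h5
          · skip
            rcases Nat.lt_or_ge i 14800 with h6 | h6
            · skip
              rcases Nat.lt_or_ge i 14700 with h7 | h7
              · skip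
                exact allRangeF_sound _ _ (checkPointF_eq cert) 14600 100 chkP_14600 i (by omega) (by omega)
              · skip
                exact allRangeF_sound _ _ (checkPointF_eq cert) 14700 100 chkP_14700 i (by omega) (by omega)
            · skip
              rcases Nat.lt_or_ge i 14900 with h7 | h7
              · skip
                exact allRangeF_sound _ _ (checkPointF_eq cert) 14800 100 chkP_14800 i (by omega) (by omega)
              · skip
                rcases Nat.lt_or_ge i 15000 with h8 | h8
                · skip
                  exact allRangeF_sound _ _ (checkPointF_eq cert) 14900 100 chkP_14900 i (by omega) (by omega)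
                · skip
                  exact allRangeF_sound _ _ (checkPointF_eq cert) 15000 100 chkP_15000 i (by omega) (by omega)
          · skip
            rcases Nat.lt_or_ge i 15300 with h6 | h6
            · skip
              rcases Nat.lt_or_ge i 15200 with h7 | h7
              · skip
                exact allRangeF_sound _ _ (checkPointF_eq cert) 15100 100 chkP_15100 i (by omega) (by omega)
              · skip
                exact allRangeF_sound _ _ (checkPointF_eq cert) 15200 100 chkP_15200 i (by omega) (by omega)
            · skip
              rcases Nat.lt_or_ge i 15400 with h7 | h7
              · skip
                exact allRangeF_sound _ _ (checkPointF_eq cert) 15300 100 chkP_15300 i (by omega) (by omega)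
              · skip
                rcases Nat.lt_or_ge i 15500 with h8 | h8
                · skip
                  exact allRangeF_sound _ _ (checkPointF_eq cert) 15400 100 chkP_15400 i (by omega) (by omega)
                · skip
                  exact allRangeF_sound _ _ (checkPointF_eq cert) 15500 100 chkP_15500 i (by omega) (by omega)
        · skip
          rcases Nat.lt_or_ge i 16100 with h5 | h5
          · skip
            rcases Nat.lt_or_ge i 15800 with h6 | h6
            · skip
              rcases Nat.lt_or_ge i 15700 with h7 | h7
              · skip
                exact allRangeF_sound _ _ (checkPointF_eq cert) 15600 100 chkP_15600 i (by omega) (by omega)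
              · skip
                exact allRangeF_sound _ _ (checkPointF_eq cert) 15700 100 chkP_15700 i (by omega) (by omega)
            · skip
              rcases Nat.lt_or_ge i 15900 with h7 | h7
              · skip
                exact allRangeF_sound _ _ (checkPointF_eq cert) 15800 100 chkP_15800 i (by omega) (by omega)
              · skip
                rcases Nat.lt_or_ge i 16000 with h8 | h8
                · skip
                  exact allRangeF_sound _ _ (checkPointF_eq cert) 15900 100 chkP_15900 i (by omega) (by omega)
                · skip
                  exact allRangeF_sound _ _ (checkPointF_eq cert) 16000 100 chkP_16000 i (by omega) (by omega)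
          · skip
            rcases Nat.lt_or_ge i 16400 with h6 | h6
            · skip
              rcases Nat.lt_or_ge i 16200 with h7 | h7
              · skip
                exact allRangeF_sound _ _ (checkPointF_eq cert) 16100 100 chkP_16100 i (by omega) (by omega)
              · skip
                rcases Nat.lt_or_ge i 16300 with h8 | h8
                · skip
                  exact allRangeF_sound _ _ (checkPointF_eq cert) 16200 100 chkP_16200 i (by omega) (by omega)
                · skip
                  exact allRangeF_sound _ _ (checkPointF_eq cert) 16300 100 chkP_16300 i (by omega) (by omega)
            · skip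
              rcases Nat.lt_or_ge i 16500 with h7 | h7
              · skip
                exact allRangeF_sound _ _ (checkPointF_eq cert) 16400 100 chkP_16400 i (by omega) (by omega)
              · skip
                rcases Nat.lt_or_ge i 16600 with h8 | h8
                · skip
                  exact allRangeF_sound _ _ (checkPointF_eq cert) 16500 100 chkP_16500 i (by omega) (by omega)
                · skip
                  exact allRangeF_sound _ _ (checkPointF_eq cert) 16600 100 chkP_16600 i (by omega) (by omega)

end Cfsg.Agent.Lib.Helper28.He2Data
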