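import Cfsg.Agent.Lib.Helper28.He2Data
import Cfsg.Agent.Lib.Helper28.TCFast

set_option autoImplicit false
set_option maxRecDepth 1000000
set_option linter.all false
set_option Elab.async false

namespace Cfsg.Agent.Lib.Helper28.He2Data

open Cfsg.Agent.Lib.Helper28

theorem chkP_233800 : allRangeF (checkPointF cert) (nat_lit 233800) (nat_lit 100) = true := by decide +kernel
theorem chkP_233900 : allRangeF (checkPointF cert) (nat_lit 233900) (nat_lit 100) = true := by decide +kernel
theorem chkP_234000 : allRangeF (checkPointF cert) (nat_lit 234000) (nat_lit 100) = true := by decide +kernel
theorem chkP_234100 : allRangeF (checkPointF cert) (nat_lit 234100) (nat_lit 100) = true := by decide +kernel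
theorem chkP_234200 : allRangeF (checkPointF cert) (nat_lit 234200) (nat_lit 100) = true := by decide +kernel
theorem chkP_234300 : allRangeF (checkPointF cert) (nat_lit 234300) (nat_lit 100) = true := by decide +kernel
theorem chkP_234400 : allRangeF (checkPointF cert) (nat_lit 234400) (nat_lit 100) = true := by decide +kernel
theorem chkP_234500 : allRangeF (checkPointF cert) (nat_lit 234500) (nat_lit 100) = true := by decide +kernel
theorem chkP_234600 : allRangeF (checkPointF cert) (nat_lit 234600) (nat_lit 100) = true := by decide +kernel
theorem chkP_234700 : allRangeF (checkPointF cert) (nat_lit 234700) (nat_lit 100) = true := by decide +kernel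
theorem chkP_234800 : allRangeF (checkPointF cert) (nat_lit 234800) (nat_lit 100) = true := by decide +kernel
theorem chkP_234900 : allRangeF (checkPointF cert) (nat_lit 234900) (nat_lit 100) = true := by decide +kernel
theorem chkP_235000 : allRangeF (checkPointF cert) (nat_lit 235000) (nat_lit 100) = true := by decide +kernel
theorem chkP_235100 : allRangeF (checkPointF cert) (nat_lit 235100) (nat_lit 100) = true := by decide +kernel
theorem chkP_235200 : allRangeF (checkPointF cert) (nat_lit 235200) (nat_lit 100) = true := by decide +kernel
theorem chkP_235300 : allRangeF (checkPointF cert) (nat_lit 235300) (nat_lit 100) = true := by decide +kernel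
theorem chkP_235400 : allRangeF (checkPointF cert) (nat_lit 235400) (nat_lit 100) = true := by decide +kernel
theorem chkP_235500 : allRangeF (checkPointF cert) (nat_lit 235500) (nat_lit 100) = true := by decide +kernel
theorem chkP_235600 : allRangeF (checkPointF cert) (nat_lit 235600) (nat_lit 100) = true := by decide +kernel
theorem chkP_235700 : allRangeF (checkPointF cert) (nat_lit 235700) (nat_lit 100) = true := by decide +kernel
theorem chkP_235800 : allRangeF (checkPointF cert) (nat_lit 235800) (nat_lit 100) = true := by decide +kernel
theorem chkP_235900 : allRangeF (checkPointF cert) (nat_lit 235900) (nat_lit 100) = true := by decide +kernel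
theorem chkP_236000 : allRangeF (checkPointF cert) (nat_lit 236000) (nat_lit 100) = true := by decide +kernel
theorem chkP_236100 : allRangeF (checkPointF cert) (nat_lit 236100) (nat_lit 100) = true := by decide +kernel
theorem chkP_236200 : allRangeF (checkPointF cert) (nat_lit 236200) (nat_lit 100) = true := by decide +kernel
theorem chkP_236300 : allRangeF (checkPointF cert) (nat_lit 236300) (nat_lit 100) = true := by decide +kernel
theorem chkP_236400 : allRangeF (checkPointF cert) (nat_lit 236400) (nat_lit 100) = true := by decide +kernel
theorem chkP_236500 : allRangeF (checkPointF cert) (nat_lit 236500) (nat_lit 100) = true := by decide +kernel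
theorem chkP_236600 : allRangeF (checkPointF cert) (nat_lit 236600) (nat_lit 100) = true := by decide +kernel
theorem chkP_236700 : allRangeF (checkPointF cert) (nat_lit 236700) (nat_lit 100) = true := by decide +kernel
theorem chkP_236800 : allRangeF (checkPointF cert) (nat_lit 236800) (nat_lit 100) = true := by decide +kernel
theorem chkP_236900 : allRangeF (checkPointF cert) (nat_lit 236900) (nat_lit 100) = true := by decide +kernel
theorem chkP_237000 : allRangeF (checkPointF cert) (nat_lit 237000) (nat_lit 100) = true := by decide +kernel
theorem chkP_237100 : allRangeF (checkPointF cert) (nat_lit 237100) (nat_lit 100) = true := by decide +kernel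
theorem chkP_237200 : allRangeF (checkPointF cert) (nat_lit 237200) (nat_lit 100) = true := by decide +kernel
theorem chkP_237300 : allRangeF (checkPointF cert) (nat_lit 237300) (nat_lit 100) = true := by decide +kernel
theorem chkP_237400 : allRangeF (checkPointF cert) (nat_lit 237400) (nat_lit 100) = true := by decide +kernel
theorem chkP_237500 : allRangeF (checkPointF cert) (nat_lit 237500) (nat_lit 100) = true := by decide +kernel
theorem chkP_237600 : allRangeF (checkPointF cert) (nat_lit 237600) (nat_lit 100) = true := by decide +kernel
theorem chkP_237700 : allRangeF (checkPointF cert) (nat_lit 237700) (nat_lit 100) = true := by decide +kernel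
theorem chkP_237800 : allRangeF (checkPointF cert) (nat_lit 237800) (nat_lit 100) = true := by decide +kernel
theorem chkP_237900 : allRangeF (checkPointF cert) (nat_lit 237900) (nat_lit 100) = true := by decide +kernel
theorem chkP_238000 : allRangeF (checkPointF cert) (nat_lit 238000) (nat_lit 100) = true := by decide +kernel
theorem chkP_238100 : allRangeF (checkPointF cert) (nat_lit 238100) (nat_lit 100) = true := by decide +kernel
theorem chkP_238200 : allRangeF (checkPointF cert) (nat_lit 238200) (nat_lit 100) = true := by decide +kernel
theorem chkP_238300 : allRangeF (checkPointF cert) (nat_lit 238300) (nat_lit 100) = true := by decide +kernel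
theorem chkP_238400 : allRangeF (checkPointF cert) (nat_lit 238400) (nat_lit 100) = true := by decide +kernel
theorem chkP_238500 : allRangeF (checkPointF cert) (nat_lit 238500) (nat_lit 100) = true := by decide +kernel
theorem chkP_238600 : allRangeF (checkPointF cert) (nat_lit 238600) (nat_lit 100) = true := by decide +kernel
theorem chkP_238700 : allRangeF (checkPointF cert) (nat_lit 238700) (nat_lit 100) = true := by decide +kernel
theorem chkP_238800 : allRangeF (checkPointF cert) (nat_lit 238800) (nat_lit 100) = true := by decide +kernel
theorem chkP_238900 : allRangeF (checkPointF cert) (nat_lit 238900) (nat_lit 100) = true := by decide +kernel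
theorem chkP_239000 : allRangeF (checkPointF cert) (nat_lit 239000) (nat_lit 100) = true := by decide +kernel
theorem chkP_239100 : allRangeF (checkPointF cert) (nat_lit 239100) (nat_lit 100) = true := by decide +kernel
theorem chkP_239200 : allRangeF (checkPointF cert) (nat_lit 239200) (nat_lit 100) = true := by decide +kernel
theorem chkP_239300 : allRangeF (checkPointF cert) (nat_lit 239300) (nat_lit 100) = true := by decide +kernel
theorem chkP_239400 : allRangeF (checkPointF cert) (nat_lit 239400) (nat_lit 100) = true := by decide +kernel
theorem chkP_239500 : allRangeF (checkPointF cert) (nat_lit 239500) (nat_lit 100) = true := by decide +kernel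
theorem chkP_239600 : allRangeF (checkPointF cert) (nat_lit 239600) (nat_lit 100) = true := by decide +kernel
theorem chkP_239700 : allRangeF (checkPointF cert) (nat_lit 239700) (nat_lit 100) = true := by decide +kernel
theorem chkP_239800 : allRangeF (checkPointF cert) (nat_lit 239800) (nat_lit 100) = true := by decide +kernel
theorem chkP_239900 : allRangeF (checkPointF cert) (nat_lit 239900) (nat_lit 100) = true := by decide +kernel
theorem chkP_240000 : allRangeF (checkPointF cert) (nat_lit 240000) (nat_lit 100) = true := by decide +kernel
theorem chkP_240100 : allRangeF (checkPointF cert) (nat_lit 240100) (nat_lit 100) = true := by decide +kernel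
theorem chkP_240200 : allRangeF (checkPointF cert) (nat_lit 240200) (nat_lit 100) = true := by decide +kernel
theorem chkP_240300 : allRangeF (checkPointF cert) (nat_lit 240300) (nat_lit 100) = true := by decide +kernel
theorem chkP_240400 : allRangeF (checkPointF cert) (nat_lit 240400) (nat_lit 100) = true := by decide +kernel
theorem chkP_240500 : allRangeF (checkPointF cert) (nat_lit 240500) (nat_lit 100) = true := by decide +kernel
theorem chkP_240600 : allRangeF (checkPointF cert) (nat_lit 240600) (nat_lit 100) = true := by decide +kernel
theorem chkP_240700 : allRangeF (checkPointF cert) (nat_lit 240700) (nat_lit 100) = true := by decide +kernel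
theorem chkP_240800 : allRangeF (checkPointF cert) (nat_lit 240800) (nat_lit 100) = true := by decide +kernel
theorem chkP_240900 : allRangeF (checkPointF cert) (nat_lit 240900) (nat_lit 100) = true := by decide +kernel
theorem chkP_241000 : allRangeF (checkPointF cert) (nat_lit 241000) (nat_lit 100) = true := by decide +kernel
theorem chkP_241100 : allRangeF (checkPointF cert) (nat_lit 241100) (nat_lit 100) = true := by decide +kernel
theorem chkP_241200 : allRangeF (checkPointF cert) (nat_lit 241200) (nat_lit 100) = true := by decide +kernel
theorem chkP_241300 : allRangeF (checkPointF cert) (nat_lit 241300) (nat_lit 100) = true := by decide +kernel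
theorem chkP_241400 : allRangeF (checkPointF cert) (nat_lit 241400) (nat_lit 100) = true := by decide +kernel
theorem chkP_241500 : allRangeF (checkPointF cert) (nat_lit 241500) (nat_lit 100) = true := by decide +kernel
theorem chkP_241600 : allRangeF (checkPointF cert) (nat_lit 241600) (nat_lit 100) = true := by decide +kernel
theorem chkP_241700 : allRangeF (checkPointF cert) (nat_lit 241700) (nat_lit 100) = true := by decide +kernel
theorem chkP_241800 : allRangeF (checkPointF cert) (nat_lit 241800) (nat_lit 100) = true := by decide +kernel
theorem chkP_241900 : allRangeF (checkPointF cert) (nat_lit 241900) (nat_lit 100) = true := by decide +kernel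
theorem chkP_242000 : allRangeF (checkPointF cert) (nat_lit 242000) (nat_lit 100) = true := by decide +kernel
theorem chkP_242100 : allRangeF (checkPointF cert) (nat_lit 242100) (nat_lit 100) = true := by decide +kernel
theorem chkP_242200 : allRangeF (checkPointF cert) (nat_lit 242200) (nat_lit 100) = true := by decide +kernel
theorem chkP_242300 : allRangeF (checkPointF cert) (nat_lit 242300) (nat_lit 100) = true := by decide +kernel
theorem chkP_242400 : allRangeF (checkPointF cert) (nat_lit 242400) (nat_lit 100) = true := by decide +kernel
theorem chkP_242500 : allRangeF (checkPointF cert) (nat_lit 242500) (nat_lit 100) = true := by decide +kernel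
theorem chkP_242600 : allRangeF (checkPointF cert) (nat_lit 242600) (nat_lit 100) = true := by decide +kernel
theorem chkP_242700 : allRangeF (checkPointF cert) (nat_lit 242700) (nat_lit 100) = true := by decide +kernel
theorem chkP_242800 : allRangeF (checkPointF cert) (nat_lit 242800) (nat_lit 100) = true := by decide +kernel
theorem chkP_242900 : allRangeF (checkPointF cert) (nat_lit 242900) (nat_lit 100) = true := by decide +kernel
theorem chkP_243000 : allRangeF (checkPointF cert) (nat_lit 243000) (nat_lit 100) = true := by decide +kernel
theorem chkP_243100 : allRangeF (checkPointF cert) (nat_lit 243100) (nat_lit 100) = true := by decide +kernel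
theorem chkP_243200 : allRangeF (checkPointF cert) (nat_lit 243200) (nat_lit 100) = true := by decide +kernel
theorem chkP_243300 : allRangeF (checkPointF cert) (nat_lit 243300) (nat_lit 100) = true := by decide +kernel
theorem chkP_243400 : allRangeF (checkPointF cert) (nat_lit 243400) (nat_lit 100) = true := by decide +kernel
theorem chkP_243500 : allRangeF (checkPointF cert) (nat_lit 243500) (nat_lit 100) = true := by decide +kernel
theorem chkP_243600 : allRangeF (checkPointF cert) (nat_lit 243600) (nat_lit 100) = true := by decide +kernel
theorem chkP_243700 : allRangeF (checkPointF cert) (nat_lit 243700) (nat_lit 100) = true := by decide +kernel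
theorem chkP_243800 : allRangeF (checkPointF cert) (nat_lit 243800) (nat_lit 100) = true := by decide +kernel
theorem chkP_243900 : allRangeF (checkPointF cert) (nat_lit 243900) (nat_lit 100) = true := by decide +kernel
theorem chkP_244000 : allRangeF (checkPointF cert) (nat_lit 244000) (nat_lit 100) = true := by decide +kernel
theorem chkP_244100 : allRangeF (checkPointF cert) (nat_lit 244100) (nat_lit 100) = true := by decide +kernel
theorem chkP_244200 : allRangeF (checkPointF cert) (nat_lit 244200) (nat_lit 100) = true := by decide +kernel
theorem chkP_244300 : allRangeF (checkPointF cert) (nat_lit 244300) (nat_lit 100) = true := by decide +kernel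
theorem chkP_244400 : allRangeF (checkPointF cert) (nat_lit 244400) (nat_lit 100) = true := by decide +kernel
theorem chkP_244500 : allRangeF (checkPointF cert) (nat_lit 244500) (nat_lit 100) = true := by decide +kernel
theorem chkP_244600 : allRangeF (checkPointF cert) (nat_lit 244600) (nat_lit 100) = true := by decide +kernel
theorem chkP_244700 : allRangeF (checkPointF cert) (nat_lit 244700) (nat_lit 100) = true := by decide +kernel
theorem chkP_244800 : allRangeF (checkPointF cert) (nat_lit 244800) (nat_lit 100) = true := by decide +kernel
theorem chkP_244900 : allRangeF (checkPointF cert) (nat_lit 244900) (nat_lit 100) = true := by decide +kernel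
theorem chkP_245000 : allRangeF (checkPointF cert) (nat_lit 245000) (nat_lit 100) = true := by decide +kernel
theorem chkP_245100 : allRangeF (checkPointF cert) (nat_lit 245100) (nat_lit 100) = true := by decide +kernel
theorem chkP_245200 : allRangeF (checkPointF cert) (nat_lit 245200) (nat_lit 100) = true := by decide +kernel
theorem chkP_245300 : allRangeF (checkPointF cert) (nat_lit 245300) (nat_lit 100) = true := by decide +kernel
theorem chkP_245400 : allRangeF (checkPointF cert) (nat_lit 245400) (nat_lit 100) = true := by decide +kernel
theorem chkP_245500 : allRangeF (checkPointF cert) (nat_lit 245500) (nat_lit 100) = true := by decide +kernel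
theorem chkP_245600 : allRangeF (checkPointF cert) (nat_lit 245600) (nat_lit 100) = true := by decide +kernel
theorem chkP_245700 : allRangeF (checkPointF cert) (nat_lit 245700) (nat_lit 100) = true := by decide +kernel
theorem chkP_245800 : allRangeF (checkPointF cert) (nat_lit 245800) (nat_lit 100) = true := by decide +kernel
theorem chkP_245900 : allRangeF (checkPointF cert) (nat_lit 245900) (nat_lit 100) = true := by decide +kernel
theorem chkP_246000 : allRangeF (checkPointF cert) (nat_lit 246000) (nat_lit 100) = true := by decide +kernel
theorem chkP_246100 : allRangeF (checkPointF cert) (nat_lit 246100) (nat_lit 100) = true := by decide +kernel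
theorem chkP_246200 : allRangeF (checkPointF cert) (nat_lit 246200) (nat_lit 100) = true := by decide +kernel
theorem chkP_246300 : allRangeF (checkPointF cert) (nat_lit 246300) (nat_lit 100) = true := by decide +kernel
theorem chkP_246400 : allRangeF (checkPointF cert) (nat_lit 246400) (nat_lit 100) = true := by decide +kernel
theorem chkP_246500 : allRangeF (checkPointF cert) (nat_lit 246500) (nat_lit 100) = true := by decide +kernel
theorem chkP_246600 : allRangeF (checkPointF cert) (nat_lit 246600) (nat_lit 100) = true := by decide +kernel
theorem chkP_246700 : allRangeF (checkPointF cert) (nat_lit 246700) (nat_lit 100) = true := by decide +kernel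
theorem chkP_246800 : allRangeF (checkPointF cert) (nat_lit 246800) (nat_lit 100) = true := by decide +kernel
theorem chkP_246900 : allRangeF (checkPointF cert) (nat_lit 246900) (nat_lit 100) = true := by decide +kernel
theorem chkP_247000 : allRangeF (checkPointF cert) (nat_lit 247000) (nat_lit 100) = true := by decide +kernel
theorem chkP_247100 : allRangeF (checkPointF cert) (nat_lit 247100) (nat_lit 100) = true := by decide +kernel
theorem chkP_247200 : allRangeF (checkPointF cert) (nat_lit 247200) (nat_lit 100) = true := by decide +kernel
theorem chkP_247300 : allRangeF (checkPointF cert) (nat_lit 247300) (nat_lit 100) = true := by decide +kernel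
theorem chkP_247400 : allRangeF (checkPointF cert) (nat_lit 247400) (nat_lit 100) = true := by decide +kernel
theorem chkP_247500 : allRangeF (checkPointF cert) (nat_lit 247500) (nat_lit 100) = true := by decide +kernel
theorem chkP_247600 : allRangeF (checkPointF cert) (nat_lit 247600) (nat_lit 100) = true := by decide +kernel
theorem chkP_247700 : allRangeF (checkPointF cert) (nat_lit 247700) (nat_lit 100) = true := by decide +kernel
theorem chkP_247800 : allRangeF (checkPointF cert) (nat_lit 247800) (nat_lit 100) = true := by decide +kernel
theorem chkP_247900 : allRangeF (checkPointF cert) (nat_lit 247900) (nat_lit 100) = true := by decide +kernel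
theorem chkP_248000 : allRangeF (checkPointF cert) (nat_lit 248000) (nat_lit 100) = true := by decide +kernel
theorem chkP_248100 : allRangeF (checkPointF cert) (nat_lit 248100) (nat_lit 100) = true := by decide +kernel
theorem chkP_248200 : allRangeF (checkPointF cert) (nat_lit 248200) (nat_lit 100) = true := by decide +kernel
theorem chkP_248300 : allRangeF (checkPointF cert) (nat_lit 248300) (nat_lit 100) = true := by decide +kernel
theorem chkP_248400 : allRangeF (checkPointF cert) (nat_lit 248400) (nat_lit 100) = true := by decide +kernel
theorem chkP_248500 : allRangeF (checkPointF cert) (nat_lit 248500) (nat_lit 100) = true := by decide +kernel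
theorem chkP_248600 : allRangeF (checkPointF cert) (nat_lit 248600) (nat_lit 100) = true := by decide +kernel
theorem chkP_248700 : allRangeF (checkPointF cert) (nat_lit 248700) (nat_lit 100) = true := by decide +kernel
theorem chkP_248800 : allRangeF (checkPointF cert) (nat_lit 248800) (nat_lit 100) = true := by decide +kernel
theorem chkP_248900 : allRangeF (checkPointF cert) (nat_lit 248900) (nat_lit 100) = true := by decide +kernel
theorem chkP_249000 : allRangeF (checkPointF cert) (nat_lit 249000) (nat_lit 100) = true := by decide +kernel
theorem chkP_249100 : allRangeF (checkPointF cert) (nat_lit 249100) (nat_lit 100) = true := by decide +kernel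
theorem chkP_249200 : allRangeF (checkPointF cert) (nat_lit 249200) (nat_lit 100) = true := by decide +kernel
theorem chkP_249300 : allRangeF (checkPointF cert) (nat_lit 249300) (nat_lit 100) = true := by decide +kernel
theorem chkP_249400 : allRangeF (checkPointF cert) (nat_lit 249400) (nat_lit 100) = true := by decide +kernel
theorem chkP_249500 : allRangeF (checkPointF cert) (nat_lit 249500) (nat_lit 100) = true := by decide +kernel
theorem chkP_249600 : allRangeF (checkPointF cert) (nat_lit 249600) (nat_lit 100) = true := by decide +kernel
theorem chkP_249700 : allRangeF (checkPointF cert) (nat_lit 249700) (nat_lit 100) = true := by decide +kernel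
theorem chkP_249800 : allRangeF (checkPointF cert) (nat_lit 249800) (nat_lit 100) = true := by decide +kernel
theorem chkP_249900 : allRangeF (checkPointF cert) (nat_lit 249900) (nat_lit 100) = true := by decide +kernel
theorem chkP_250000 : allRangeF (checkPointF cert) (nat_lit 250000) (nat_lit 100) = true := by decide +kernel
theorem chkP_250100 : allRangeF (checkPointF cert) (nat_lit 250100) (nat_lit 100) = true := by decide +kernel
theorem chkP_250200 : allRangeF (checkPointF cert) (nat_lit 250200) (nat_lit 100) = true := by decide +kernel
theorem chkP_250300 : allRangeF (checkPointF cert) (nat_lit 250300) (nat_lit 100) = true := by decide +kernel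
theorem chkP_250400 : allRangeF (checkPointF cert) (nat_lit 250400) (nat_lit 100) = true := by decide +kernel

theorem ptsRange_14 : ∀ i, 233800 ≤ i → i < 250500 → checkPoint cert i = true := by
  intro i hlo hhi
  rcases Nat.lt_or_ge i 242100 with h1 | h1
  · skip
    rcases Nat.lt_or_ge i 237900 with h2 | h2
    · skip
      rcases Nat.lt_or_ge i 235800 with h3 | h3
      · skip
        rcases Nat.lt_or_ge i 234800 with h4 | h4
        · skip
          rcases Nat.lt_or_ge i 234300 with h5 | h5
          · skip
            rcases Nat.lt_or_ge i 234000 with h6 | h6
            · skip
              rcases Nat.lt_or_ge i 233900 with h7 | h7
              · skip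
                exact allRangeF_sound _ _ (checkPointF_eq cert) 233800 100 chkP_233800 i (by omega) (by omega)
              · skip
                exact allRangeF_sound _ _ (checkPointF_eq cert) 233900 100 chkP_233900 i (by omega) (by omega)
            · skip
              rcases Nat.lt_or_ge i 234100 with h7 | h7
              · skip
                exact allRangeF_sound _ _ (checkPointF_eq cert) 234000 100 chkP_234000 i (by omega) (by omega)
              · skip
                rcases Nat.lt_or_ge i 234200 with h8 | h8
                · skip
                  exact allRangeF_sound _ _ (checkPointF_eq cert) 234100 100 chkP_234100 i (by omega) (by omega)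
                · skip
                  exact allRangeF_sound _ _ (checkPointF_eq cert) 234200 100 chkP_234200 i (by omega) (by omega)
          · skip
            rcases Nat.lt_or_ge i 234500 with h6 | h6
            · skip
              rcases Nat.lt_or_ge i 234400 with h7 | h7
              · skip
                exact allRangeF_sound _ _ (checkPointF_eq cert) 234300 100 chkP_234300 i (by omega) (by omega)
              · skip
                exact allRangeF_sound _ _ (checkPointF_eq cert) 234400 100 chkP_234400 i (by omega) (by omega)
            · skip
              rcases Nat.lt_or_ge i 234600 with h7 | h7
              · skip
                exact allRangeF_sound _ _ (checkPointF_eq cert) 234500 100 chkP_234500 i (by omega) (by omega)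
              · skip
                rcases Nat.lt_or_ge i 234700 with h8 | h8
                · skip
                  exact allRangeF_sound _ _ (checkPointF_eq cert) 234600 100 chkP_234600 i (by omega) (by omega)
                · skip
                  exact allRangeF_sound _ _ (checkPointF_eq cert) 234700 100 chkP_234700 i (by omega) (by omega)
        · skip
          rcases Nat.lt_or_ge i 235300 with h5 | h5
          · skip
            rcases Nat.lt_or_ge i 235000 with h6 | h6
            · skip
              rcases Nat.lt_or_ge i 234900 with h7 | h7
              · skip
                exact allRangeF_sound _ _ (checkPointF_eq cert) 234800 100 chkP_234800 i (by omega) (by omega)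
              · skip
                exact allRangeF_sound _ _ (checkPointF_eq cert) 234900 100 chkP_234900 i (by omega) (by omega)
            · skip
              rcases Nat.lt_or_ge i 235100 with h7 | h7
              · skip
                exact allRangeF_sound _ _ (checkPointF_eq cert) 235000 100 chkP_235000 i (by omega) (by omega)
              · skip
                rcases Nat.lt_or_ge i 235200 with h8 | h8
                · skip
                  exact allRangeF_sound _ _ (checkPointF_eq cert) 235100 100 chkP_235100 i (by omega) (by omega)
                · skip
                  exact allRangeF_sound _ _ (checkPointF_eq cert) 235200 100 chkP_235200 i (by omega) (by omega)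
          · skip
            rcases Nat.lt_or_ge i 235500 with h6 | h6
            · skip
              rcases Nat.lt_or_ge i 235400 with h7 | h7
              · skip
                exact allRangeF_sound _ _ (checkPointF_eq cert) 235300 100 chkP_235300 i (by omega) (by omega)
              · skip
                exact allRangeF_sound _ _ (checkPointF_eq cert) 235400 100 chkP_235400 i (by omega) (by omega)
            · skip
              rcases Nat.lt_or_ge i 235600 with h7 | h7
              · skip
                exact allRangeF_sound _ _ (checkPointF_eq cert) 235500 100 chkP_235500 i (by omega) (by omega)
              · skip
                rcases Nat.lt_or_ge i 235700 with h8 | h8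
                · skip
                  exact allRangeF_sound _ _ (checkPointF_eq cert) 235600 100 chkP_235600 i (by omega) (by omega)
                · skip
                  exact allRangeF_sound _ _ (checkPointF_eq cert) 235700 100 chkP_235700 i (by omega) (by omega)
      · skip
        rcases Nat.lt_or_ge i 236800 with h4 | h4
        · skip
          rcases Nat.lt_or_ge i 236300 with h5 | h5
          · skip
            rcases Nat.lt_or_ge i 236000 with h6 | h6
            · skip
              rcases Nat.lt_or_ge i 235900 with h7 | h7
              · skip
                exact allRangeF_sound _ _ (checkPointF_eq cert) 235800 100 chkP_235800 i (by omega) (by omega)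
              · skip
                exact allRangeF_sound _ _ (checkPointF_eq cert) 235900 100 chkP_235900 i (by omega) (by omega)
            · skip
              rcases Nat.lt_or_ge i 236100 with h7 | h7
              · skip
                exact allRangeF_sound _ _ (checkPointF_eq cert) 236000 100 chkP_236000 i (by omega) (by omega)
              · skip
                rcases Nat.lt_or_ge i 236200 with h8 | h8
                · skip
                  exact allRangeF_sound _ _ (checkPointF_eq cert) 236100 100 chkP_236100 i (by omega) (by omega)
                · skip
                  exact allRangeF_sound _ _ (checkPointF_eq cert) 236200 100 chkP_236200 i (by omega) (by omega)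
          · skip
            rcases Nat.lt_or_ge i 236500 with h6 | h6
            · skip
              rcases Nat.lt_or_ge i 236400 with h7 | h7
              · skip
                exact allRangeF_sound _ _ (checkPointF_eq cert) 236300 100 chkP_236300 i (by omega) (by omega)
              · skip
                exact allRangeF_sound _ _ (checkPointF_eq cert) 236400 100 chkP_236400 i (by omega) (by omega)
            · skip
              rcases Nat.lt_or_ge i 236600 with h7 | h7
              · skip
                exact allRangeF_sound _ _ (checkPointF_eq cert) 236500 100 chkP_236500 i (by omega) (by omega)
              · skip
                rcases Nat.lt_or_ge i 236700 with h8 | h8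
                · skip
                  exact allRangeF_sound _ _ (checkPointF_eq cert) 236600 100 chkP_236600 i (by omega) (by omega)
                · skip
                  exact allRangeF_sound _ _ (checkPointF_eq cert) 236700 100 chkP_236700 i (by omega) (by omega)
        · skip
          rcases Nat.lt_or_ge i 237300 with h5 | h5
          · skip
            rcases Nat.lt_or_ge i 237000 with h6 | h6
            · skip
              rcases Nat.lt_or_ge i 236900 with h7 | h7
              · skip
                exact allRangeF_sound _ _ (checkPointF_eq cert) 236800 100 chkP_236800 i (by omega) (by omega)
              · skip
                exact allRangeF_sound _ _ (checkPointF_eq cert) 236900 100 chkP_236900 i (by omega) (by omega)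
            · skip
              rcases Nat.lt_or_ge i 237100 with h7 | h7
              · skip
                exact allRangeF_sound _ _ (checkPointF_eq cert) 237000 100 chkP_237000 i (by omega) (by omega)
              · skip
                rcases Nat.lt_or_ge i 237200 with h8 | h8
                · skip
                  exact allRangeF_sound _ _ (checkPointF_eq cert) 237100 100 chkP_237100 i (by omega) (by omega)
                · skip
                  exact allRangeF_sound _ _ (checkPointF_eq cert) 237200 100 chkP_237200 i (by omega) (by omega)
          · skip
            rcases Nat.lt_or_ge i 237600 with h6 | h6
            · skip
              rcases Nat.lt_or_ge i 237400 with h7 | h7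
              · skip
                exact allRangeF_sound _ _ (checkPointF_eq cert) 237300 100 chkP_237300 i (by omega) (by omega)
              · skip
                rcases Nat.lt_or_ge i 237500 with h8 | h8
                · skip
                  exact allRangeF_sound _ _ (checkPointF_eq cert) 237400 100 chkP_237400 i (by omega) (by omega)
                · skip
                  exact allRangeF_sound _ _ (checkPointF_eq cert) 237500 100 chkP_237500 i (by omega) (by omega)
            · skip
              rcases Nat.lt_or_ge i 237700 with h7 | h7
              · skip
                exact allRangeF_sound _ _ (checkPointF_eq cert) 237600 100 chkP_237600 i (by omega) (by omega)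
              · skip
                rcases Nat.lt_or_ge i 237800 with h8 | h8
                · skip
                  exact allRangeF_sound _ _ (checkPointF_eq cert) 237700 100 chkP_237700 i (by omega) (by omega)
                · skip
                  exact allRangeF_sound _ _ (checkPointF_eq cert) 237800 100 chkP_237800 i (by omega) (by omega)
    · skip
      rcases Nat.lt_or_ge i 240000 with h3 | h3
      · skip
        rcases Nat.lt_or_ge i 238900 with h4 | h4
        · skip
          rcases Nat.lt_or_ge i 238400 with h5 | h5
          · skip
            rcases Nat.lt_or_ge i 238100 with h6 | h6
            · skip
              rcases Nat.lt_or_ge i 238000 with h7 | h7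
              · skip
                exact allRangeF_sound _ _ (checkPointF_eq cert) 237900 100 chkP_237900 i (by omega) (by omega)
              · skip
                exact allRangeF_sound _ _ (checkPointF_eq cert) 238000 100 chkP_238000 i (by omega) (by omega)
            · skip
              rcases Nat.lt_or_ge i 238200 with h7 | h7
              · skip
                exact allRangeF_sound _ _ (checkPointF_eq cert) 238100 100 chkP_238100 i (by omega) (by omega)
              · skip
                rcases Nat.lt_or_ge i 238300 with h8 | h8
                · skip
                  exact allRangeF_sound _ _ (checkPointF_eq cert) 238200 100 chkP_238200 i (by omega) (by omega)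
                · skip
                  exact allRangeF_sound _ _ (checkPointF_eq cert) 238300 100 chkP_238300 i (by omega) (by omega)
          · skip
            rcases Nat.lt_or_ge i 238600 with h6 | h6
            · skip
              rcases Nat.lt_or_ge i 238500 with h7 | h7
              · skip
                exact allRangeF_sound _ _ (checkPointF_eq cert) 238400 100 chkP_238400 i (by omega) (by omega)
              · skip
                exact allRangeF_sound _ _ (checkPointF_eq cert) 238500 100 chkP_238500 i (by omega) (by omega)
            · skip
              rcases Nat.lt_or_ge i 238700 with h7 | h7
              · skip
                exact allRangeF_sound _ _ (checkPointF_eq cert) 238600 100 chkP_238600 i (by omega) (by omega)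
              · skip
                rcases Nat.lt_or_ge i 238800 with h8 | h8
                · skip
                  exact allRangeF_sound _ _ (checkPointF_eq cert) 238700 100 chkP_238700 i (by omega) (by omega)
                · skip
                  exact allRangeF_sound _ _ (checkPointF_eq cert) 238800 100 chkP_238800 i (by omega) (by omega)
        · skip
          rcases Nat.lt_or_ge i 239400 with h5 | h5
          · skip
            rcases Nat.lt_or_ge i 239100 with h6 | h6
            · skip
              rcases Nat.lt_or_ge i 239000 with h7 | h7
              · skip
                exact allRangeF_sound _ _ (checkPointF_eq cert) 238900 100 chkP_238900 i (by omega) (by omega)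
              · skip
                exact allRangeF_sound _ _ (checkPointF_eq cert) 239000 100 chkP_239000 i (by omega) (by omega)
            · skip
              rcases Nat.lt_or_ge i 239200 with h7 | h7
              · skip
                exact allRangeF_sound _ _ (checkPointF_eq cert) 239100 100 chkP_239100 i (by omega) (by omega)
              · skip
                rcases Nat.lt_or_ge i 239300 with h8 | h8
                · skip
                  exact allRangeF_sound _ _ (checkPointF_eq cert) 239200 100 chkP_239200 i (by omega) (by omega)
                · skip
                  exact allRangeF_sound _ _ (checkPointF_eq cert) 239300 100 chkP_239300 i (by omega) (by omega)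
          · skip
            rcases Nat.lt_or_ge i 239700 with h6 | h6
            · skip
              rcases Nat.lt_or_ge i 239500 with h7 | h7
              · skip
                exact allRangeF_sound _ _ (checkPointF_eq cert) 239400 100 chkP_239400 i (by omega) (by omega)
              · skip
                rcases Nat.lt_or_ge i 239600 with h8 | h8
                · skip
                  exact allRangeF_sound _ _ (checkPointF_eq cert) 239500 100 chkP_239500 i (by omega) (by omega)
                · skip
                  exact allRangeF_sound _ _ (checkPointF_eq cert) 239600 100 chkP_239600 i (by omega) (by omega)
            · skip
              rcases Nat.lt_or_ge i 239800 with h7 | h7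
              · skip
                exact allRangeF_sound _ _ (checkPointF_eq cert) 239700 100 chkP_239700 i (by omega) (by omega)
              · skip
                rcases Nat.lt_or_ge i 239900 with h8 | h8
                · skip
                  exact allRangeF_sound _ _ (checkPointF_eq cert) 239800 100 chkP_239800 i (by omega) (by omega)
                · skip
                  exact allRangeF_sound _ _ (checkPointF_eq cert) 239900 100 chkP_239900 i (by omega) (by omega)
      · skip
        rcases Nat.lt_or_ge i 241000 with h4 | h4
        · skip
          rcases Nat.lt_or_ge i 240500 with h5 | h5
          · skip
            rcases Nat.lt_or_ge i 240200 with h6 | h6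
            · skip
              rcases Nat.lt_or_ge i 240100 with h7 | h7
              · skip
                exact allRangeF_sound _ _ (checkPointF_eq cert) 240000 100 chkP_240000 i (by omega) (by omega)
              · skip
                exact allRangeF_sound _ _ (checkPointF_eq cert) 240100 100 chkP_240100 i (by omega) (by omega)
            · skip
              rcases Nat.lt_or_ge i 240300 with h7 | h7
              · skip
                exact allRangeF_sound _ _ (checkPointF_eq cert) 240200 100 chkP_240200 i (by omega) (by omega)
              · skip
                rcases Nat.lt_or_ge i 240400 with h8 | h8
                · skip
                  exact allRangeF_sound _ _ (checkPointF_eq cert) 240300 100 chkP_240300 i (by omega) (by omega)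
                · skip
                  exact allRangeF_sound _ _ (checkPointF_eq cert) 240400 100 chkP_240400 i (by omega) (by omega)
          · skip
            rcases Nat.lt_or_ge i 240700 with h6 | h6
            · skip
              rcases Nat.lt_or_ge i 240600 with h7 | h7
              · skip
                exact allRangeF_sound _ _ (checkPointF_eq cert) 240500 100 chkP_240500 i (by omega) (by omega)
              · skip
                exact allRangeF_sound _ _ (checkPointF_eq cert) 240600 100 chkP_240600 i (by omega) (by omega)
            · skip
              rcases Nat.lt_or_ge i 240800 with h7 | h7
              · skip
                exact allRangeF_sound _ _ (checkPointF_eq cert) 240700 100 chkP_240700 i (by omega) (by omega)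
              · skip
                rcases Nat.lt_or_ge i 240900 with h8 | h8
                · skip
                  exact allRangeF_sound _ _ (checkPointF_eq cert) 240800 100 chkP_240800 i (by omega) (by omega)
                · skip
                  exact allRangeF_sound _ _ (checkPointF_eq cert) 240900 100 chkP_240900 i (by omega) (by omega)
        · skip
          rcases Nat.lt_or_ge i 241500 with h5 | h5
          · skip
            rcases Nat.lt_or_ge i 241200 with h6 | h6
            · skip
              rcases Nat.lt_or_ge i 241100 with h7 | h7
              · skip
                exact allRangeF_sound _ _ (checkPointF_eq cert) 241000 100 chkP_241000 i (by omega) (by omega)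
              · skip
                exact allRangeF_sound _ _ (checkPointF_eq cert) 241100 100 chkP_241100 i (by omega) (by omega)
            · skip
              rcases Nat.lt_or_ge i 241300 with h7 | h7
              · skip
                exact allRangeF_sound _ _ (checkPointF_eq cert) 241200 100 chkP_241200 i (by omega) (by omega)
              · skip
                rcases Nat.lt_or_ge i 241400 with h8 | h8
                · skip
                  exact allRangeF_sound _ _ (checkPointF_eq cert) 241300 100 chkP_241300 i (by omega) (by omega)
                · skip
                  exact allRangeF_sound _ _ (checkPointF_eq cert) 241400 100 chkP_241400 i (by omega) (by omega)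
          · skip
            rcases Nat.lt_or_ge i 241800 with h6 | h6
            · skip
              rcases Nat.lt_or_ge i 241600 with h7 | h7
              · skip
                exact allRangeF_sound _ _ (checkPointF_eq cert) 241500 100 chkP_241500 i (by omega) (by omega)
              · skip
                rcases Nat.lt_or_ge i 241700 with h8 | h8
                · skip
                  exact allRangeF_sound _ _ (checkPointF_eq cert) 241600 100 chkP_241600 i (by omega) (by omega)
                · skip
                  exact allRangeF_sound _ _ (checkPointF_eq cert) 241700 100 chkP_241700 i (by omega) (by omega)
            · skip
              rcases Nat.lt_or_ge i 241900 with h7 | h7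
              · skip
                exact allRangeF_sound _ _ (checkPointF_eq cert) 241800 100 chkP_241800 i (by omega) (by omega)
              · skip
                rcases Nat.lt_or_ge i 242000 with h8 | h8
                · skip
                  exact allRangeF_sound _ _ (checkPointF_eq cert) 241900 100 chkP_241900 i (by omega) (by omega)
                · skip
                  exact allRangeF_sound _ _ (checkPointF_eq cert) 242000 100 chkP_242000 i (by omega) (by omega)
  · skip
    rcases Nat.lt_or_ge i 246300 with h2 | h2
    · skip
      rcases Nat.lt_or_ge i 244200 with h3 | h3
      · skip
        rcases Nat.lt_or_ge i 243100 with h4 | h4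
        · skip
          rcases Nat.lt_or_ge i 242600 with h5 | h5
          · skip
            rcases Nat.lt_or_ge i 242300 with h6 | h6
            · skip
              rcases Nat.lt_or_ge i 242200 with h7 | h7
              · skip
                exact allRangeF_sound _ _ (checkPointF_eq cert) 242100 100 chkP_242100 i (by omega) (by omega)
              · skip
                exact allRangeF_sound _ _ (checkPointF_eq cert) 242200 100 chkP_242200 i (by omega) (by omega)
            · skip
              rcases Nat.lt_or_ge i 242400 with h7 | h7
              · skip
                exact allRangeF_sound _ _ (checkPointF_eq cert) 242300 100 chkP_242300 i (by omega) (by omega)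
              · skip
                rcases Nat.lt_or_ge i 242500 with h8 | h8
                · skip
                  exact allRangeF_sound _ _ (checkPointF_eq cert) 242400 100 chkP_242400 i (by omega) (by omega)
                · skip
                  exact allRangeF_sound _ _ (checkPointF_eq cert) 242500 100 chkP_242500 i (by omega) (by omega)
          · skip
            rcases Nat.lt_or_ge i 242800 with h6 | h6
            · skip
              rcases Nat.lt_or_ge i 242700 with h7 | h7
              · skip
                exact allRangeF_sound _ _ (checkPointF_eq cert) 242600 100 chkP_242600 i (by omega) (by omega)
              · skip
                exact allRangeF_sound _ _ (checkPointF_eq cert) 242700 100 chkP_242700 i (by omega) (by omega)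
            · skip
              rcases Nat.lt_or_ge i 242900 with h7 | h7
              · skip
                exact allRangeF_sound _ _ (checkPointF_eq cert) 242800 100 chkP_242800 i (by omega) (by omega)
              · skip
                rcases Nat.lt_or_ge i 243000 with h8 | h8
                · skip
                  exact allRangeF_sound _ _ (checkPointF_eq cert) 242900 100 chkP_242900 i (by omega) (by omega)
                · skip
                  exact allRangeF_sound _ _ (checkPointF_eq cert) 243000 100 chkP_243000 i (by omega) (by omega)
        · skip
          rcases Nat.lt_or_ge i 243600 with h5 | h5
          · skip
            rcases Nat.lt_or_ge i 243300 with h6 | h6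
            · skip
              rcases Nat.lt_or_ge i 243200 with h7 | h7
              · skip
                exact allRangeF_sound _ _ (checkPointF_eq cert) 243100 100 chkP_243100 i (by omega) (by omega)
              · skip
                exact allRangeF_sound _ _ (checkPointF_eq cert) 243200 100 chkP_243200 i (by omega) (by omega)
            · skip
              rcases Nat.lt_or_ge i 243400 with h7 | h7
              · skip
                exact allRangeF_sound _ _ (checkPointF_eq cert) 243300 100 chkP_243300 i (by omega) (by omega)
              · skip
                rcases Nat.lt_or_ge i 243500 with h8 | h8
                · skip
                  exact allRangeF_sound _ _ (checkPointF_eq cert) 243400 100 chkP_243400 i (by omega) (by omega)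
                · skip
                  exact allRangeF_sound _ _ (checkPointF_eq cert) 243500 100 chkP_243500 i (by omega) (by omega)
          · skip
            rcases Nat.lt_or_ge i 243900 with h6 | h6
            · skip
              rcases Nat.lt_or_ge i 243700 with h7 | h7
              · skip
                exact allRangeF_sound _ _ (checkPointF_eq cert) 243600 100 chkP_243600 i (by omega) (by omega)
              · skip
                rcases Nat.lt_or_ge i 243800 with h8 | h8
                · skip
                  exact allRangeF_sound _ _ (checkPointF_eq cert) 243700 100 chkP_243700 i (by omega) (by omega)
                · skip
                  exact allRangeF_sound _ _ (checkPointF_eq cert) 243800 100 chkP_243800 i (by omega) (by omega)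
            · skip
              rcases Nat.lt_or_ge i 244000 with h7 | h7
              · skip
                exact allRangeF_sound _ _ (checkPointF_eq cert) 243900 100 chkP_243900 i (by omega) (by omega)
              · skip
                rcases Nat.lt_or_ge i 244100 with h8 | h8
                · skip
                  exact allRangeF_sound _ _ (checkPointF_eq cert) 244000 100 chkP_244000 i (by omega) (by omega)
                · skip
                  exact allRangeF_sound _ _ (checkPointF_eq cert) 244100 100 chkP_244100 i (by omega) (by omega)
      · skip
        rcases Nat.lt_or_ge i 245200 with h4 | h4
        · skip
          rcases Nat.lt_or_ge i 244700 with h5 | h5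
          · skip
            rcases Nat.lt_or_ge i 244400 with h6 | h6
            · skip
              rcases Nat.lt_or_ge i 244300 with h7 | h7
              · skip
                exact allRangeF_sound _ _ (checkPointF_eq cert) 244200 100 chkP_244200 i (by omega) (by omega)
              · skip
                exact allRangeF_sound _ _ (checkPointF_eq cert) 244300 100 chkP_244300 i (by omega) (by omega)
            · skip
              rcases Nat.lt_or_ge i 244500 with h7 | h7
              · skip
                exact allRangeF_sound _ _ (checkPointF_eq cert) 244400 100 chkP_244400 i (by omega) (by omega)
              · skip
                rcases Nat.lt_or_ge i 244600 with h8 | h8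
                · skip
                  exact allRangeF_sound _ _ (checkPointF_eq cert) 244500 100 chkP_244500 i (by omega) (by omega)
                · skip
                  exact allRangeF_sound _ _ (checkPointF_eq cert) 244600 100 chkP_244600 i (by omega) (by omega)
          · skip
            rcases Nat.lt_or_ge i 244900 with h6 | h6
            · skip
              rcases Nat.lt_or_ge i 244800 with h7 | h7
              · skip
                exact allRangeF_sound _ _ (checkPointF_eq cert) 244700 100 chkP_244700 i (by omega) (by omega)
              · skip
                exact allRangeF_sound _ _ (checkPointF_eq cert) 244800 100 chkP_244800 i (by omega) (by omega)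
            · skip
              rcases Nat.lt_or_ge i 245000 with h7 | h7
              · skip
                exact allRangeF_sound _ _ (checkPointF_eq cert) 244900 100 chkP_244900 i (by omega) (by omega)
              · skip
                rcases Nat.lt_or_ge i 245100 with h8 | h8
                · skip
                  exact allRangeF_sound _ _ (checkPointF_eq cert) 245000 100 chkP_245000 i (by omega) (by omega)
                · skip
                  exact allRangeF_sound _ _ (checkPointF_eq cert) 245100 100 chkP_245100 i (by omega) (by omega)
        · skip
          rcases Nat.lt_or_ge i 245700 with h5 | h5
          · skip
            rcases Nat.lt_or_ge i 245400 with h6 | h6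
            · skip
              rcases Nat.lt_or_ge i 245300 with h7 | h7
              · skip
                exact allRangeF_sound _ _ (checkPointF_eq cert) 245200 100 chkP_245200 i (by omega) (by omega)
              · skip
                exact allRangeF_sound _ _ (checkPointF_eq cert) 245300 100 chkP_245300 i (by omega) (by omega)
            · skip
              rcases Nat.lt_or_ge i 245500 with h7 | h7
              · skip
                exact allRangeF_sound _ _ (checkPointF_eq cert) 245400 100 chkP_245400 i (by omega) (by omega)
              · skip
                rcases Nat.lt_or_ge i 245600 with h8 | h8
                · skip
                  exact allRangeF_sound _ _ (checkPointF_eq cert) 245500 100 chkP_245500 i (by omega) (by omega)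
                · skip
                  exact allRangeF_sound _ _ (checkPointF_eq cert) 245600 100 chkP_245600 i (by omega) (by omega)
          · skip
            rcases Nat.lt_or_ge i 246000 with h6 | h6
            · skip
              rcases Nat.lt_or_ge i 245800 with h7 | h7
              · skip
                exact allRangeF_sound _ _ (checkPointF_eq cert) 245700 100 chkP_245700 i (by omega) (by omega)
              · skip
                rcases Nat.lt_or_ge i 245900 with h8 | h8
                · skip
                  exact allRangeF_sound _ _ (checkPointF_eq cert) 245800 100 chkP_245800 i (by omega) (by omega)
                · skip
                  exact allRangeF_sound _ _ (checkPointF_eq cert) 245900 100 chkP_245900 i (by omega) (by omega)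
            · skip
              rcases Nat.lt_or_ge i 246100 with h7 | h7
              · skip
                exact allRangeF_sound _ _ (checkPointF_eq cert) 246000 100 chkP_246000 i (by omega) (by omega)
              · skip
                rcases Nat.lt_or_ge i 246200 with h8 | h8
                · skip
                  exact allRangeF_sound _ _ (checkPointF_eq cert) 246100 100 chkP_246100 i (by omega) (by omega)
                · skip
                  exact allRangeF_sound _ _ (checkPointF_eq cert) 246200 100 chkP_246200 i (by omega) (by omega)
    · skip
      rcases Nat.lt_or_ge i 248400 with h3 | h3
      · skip
        rcases Nat.lt_or_ge i 247300 with h4 | h4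
        · skip
          rcases Nat.lt_or_ge i 246800 with h5 | h5
          · skip
            rcases Nat.lt_or_ge i 246500 with h6 | h6
            · skip
              rcases Nat.lt_or_ge i 246400 with h7 | h7
              · skip
                exact allRangeF_sound _ _ (checkPointF_eq cert) 246300 100 chkP_246300 i (by omega) (by omega)
              · skip
                exact allRangeF_sound _ _ (checkPointF_eq cert) 246400 100 chkP_246400 i (by omega) (by omega)
            · skip
              rcases Nat.lt_or_ge i 246600 with h7 | h7
              · skip
                exact allRangeF_sound _ _ (checkPointF_eq cert) 246500 100 chkP_246500 i (by omega) (by omega)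
              · skip
                rcases Nat.lt_or_ge i 246700 with h8 | h8
                · skip
                  exact allRangeF_sound _ _ (checkPointF_eq cert) 246600 100 chkP_246600 i (by omega) (by omega)
                · skip
                  exact allRangeF_sound _ _ (checkPointF_eq cert) 246700 100 chkP_246700 i (by omega) (by omega)
          · skip
            rcases Nat.lt_or_ge i 247000 with h6 | h6
            · skip
              rcases Nat.lt_or_ge i 246900 with h7 | h7
              · skip
                exact allRangeF_sound _ _ (checkPointF_eq cert) 246800 100 chkP_246800 i (by omega) (by omega)
              · skip
                exact allRangeF_sound _ _ (checkPointF_eq cert) 246900 100 chkP_246900 i (by omega) (by omega)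
            · skip
              rcases Nat.lt_or_ge i 247100 with h7 | h7
              · skip
                exact allRangeF_sound _ _ (checkPointF_eq cert) 247000 100 chkP_247000 i (by omega) (by omega)
              · skip
                rcases Nat.lt_or_ge i 247200 with h8 | h8
                · skip
                  exact allRangeF_sound _ _ (checkPointF_eq cert) 247100 100 chkP_247100 i (by omega) (by omega)
                · skip
                  exact allRangeF_sound _ _ (checkPointF_eq cert) 247200 100 chkP_247200 i (by omega) (by omega)
        · skip
          rcases Nat.lt_or_ge i 247800 with h5 | h5
          · skip
            rcases Nat.lt_or_ge i 247500 with h6 | h6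
            · skip
              rcases Nat.lt_or_ge i 247400 with h7 | h7
              · skip
                exact allRangeF_sound _ _ (checkPointF_eq cert) 247300 100 chkP_247300 i (by omega) (by omega)
              · skip
                exact allRangeF_sound _ _ (checkPointF_eq cert) 247400 100 chkP_247400 i (by omega) (by omega)
            · skip
              rcases Nat.lt_or_ge i 247600 with h7 | h7
              · skip
                exact allRangeF_sound _ _ (checkPointF_eq cert) 247500 100 chkP_247500 i (by omega) (by omega)
              · skip
                rcases Nat.lt_or_ge i 247700 with h8 | h8
                · skip
                  exact allRangeF_sound _ _ (checkPointF_eq cert) 247600 100 chkP_247600 i (by omega) (by omega)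
                · skip
                  exact allRangeF_sound _ _ (checkPointF_eq cert) 247700 100 chkP_247700 i (by omega) (by omega)
          · skip
            rcases Nat.lt_or_ge i 248100 with h6 | h6
            · skip
              rcases Nat.lt_or_ge i 247900 with h7 | h7
              · skip
                exact allRangeF_sound _ _ (checkPointF_eq cert) 247800 100 chkP_247800 i (by omega) (by omega)
              · skip
                rcases Nat.lt_or_ge i 248000 with h8 | h8
                · skip
                  exact allRangeF_sound _ _ (checkPointF_eq cert) 247900 100 chkP_247900 i (by omega) (by omega)
                · skip
                  exact allRangeF_sound _ _ (checkPointF_eq cert) 248000 100 chkP_248000 i (by omega) (by omega)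
            · skip
              rcases Nat.lt_or_ge i 248200 with h7 | h7
              · skip
                exact allRangeF_sound _ _ (checkPointF_eq cert) 248100 100 chkP_248100 i (by omega) (by omega)
              · skip
                rcases Nat.lt_or_ge i 248300 with h8 | h8
                · skip
                  exact allRangeF_sound _ _ (checkPointF_eq cert) 248200 100 chkP_248200 i (by omega) (by omega)
                · skip
                  exact allRangeF_sound _ _ (checkPointF_eq cert) 248300 100 chkP_248300 i (by omega) (by omega)
      · skip
        rcases Nat.lt_or_ge i 249400 with h4 | h4
        · skip
          rcases Nat.lt_or_ge i 248900 with h5 | h5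
          · skip
            rcases Nat.lt_or_ge i 248600 with h6 | h6
            · skip
              rcases Nat.lt_or_ge i 248500 with h7 | h7
              · skip
                exact allRangeF_sound _ _ (checkPointF_eq cert) 248400 100 chkP_248400 i (by omega) (by omega)
              · skip
                exact allRangeF_sound _ _ (checkPointF_eq cert) 248500 100 chkP_248500 i (by omega) (by omega)
            · skip
              rcases Nat.lt_or_ge i 248700 with h7 | h7
              · skip
                exact allRangeF_sound _ _ (checkPointF_eq cert) 248600 100 chkP_248600 i (by omega) (by omega)
              · skip
                rcases Nat.lt_or_ge i 248800 with h8 | h8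
                · skip
                  exact allRangeF_sound _ _ (checkPointF_eq cert) 248700 100 chkP_248700 i (by omega) (by omega)
                · skip
                  exact allRangeF_sound _ _ (checkPointF_eq cert) 248800 100 chkP_248800 i (by omega) (by omega)
          · skip
            rcases Nat.lt_or_ge i 249100 with h6 | h6
            · skip
              rcases Nat.lt_or_ge i 249000 with h7 | h7
              · skip
                exact allRangeF_sound _ _ (checkPointF_eq cert) 248900 100 chkP_248900 i (by omega) (by omega)
              · skip
                exact allRangeF_sound _ _ (checkPointF_eq cert) 249000 100 chkP_249000 i (by omega) (by omega)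
            · skip
              rcases Nat.lt_or_ge i 249200 with h7 | h7
              · skip
                exact allRangeF_sound _ _ (checkPointF_eq cert) 249100 100 chkP_249100 i (by omega) (by omega)
              · skip
                rcases Nat.lt_or_ge i 249300 with h8 | h8
                · skip
                  exact allRangeF_sound _ _ (checkPointF_eq cert) 249200 100 chkP_249200 i (by omega) (by omega)
                · skip
                  exact allRangeF_sound _ _ (checkPointF_eq cert) 249300 100 chkP_249300 i (by omega) (by omega)
        · skip
          rcases Nat.lt_or_ge i 249900 with h5 | h5
          · skip
            rcases Nat.lt_or_ge i 249600 with h6 | h6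
            · skip
              rcases Nat.lt_or_ge i 249500 with h7 | h7
              · skip
                exact allRangeF_sound _ _ (checkPointF_eq cert) 249400 100 chkP_249400 i (by omega) (by omega)
              · skip
                exact allRangeF_sound _ _ (checkPointF_eq cert) 249500 100 chkP_249500 i (by omega) (by omega)
            · skip
              rcases Nat.lt_or_ge i 249700 with h7 | h7
              · skip
                exact allRangeF_sound _ _ (checkPointF_eq cert) 249600 100 chkP_249600 i (by omega) (by omega)
              · skip
                rcases Nat.lt_or_ge i 249800 with h8 | h8
                · skip
                  exact allRangeF_sound _ _ (checkPointF_eq cert) 249700 100 chkP_249700 i (by omega) (by omega)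
                · skip
                  exact allRangeF_sound _ _ (checkPointF_eq cert) 249800 100 chkP_249800 i (by omega) (by omega)
          · skip
            rcases Nat.lt_or_ge i 250200 with h6 | h6
            · skip
              rcases Nat.lt_or_ge i 250000 with h7 | h7
              · skip
                exact allRangeF_sound _ _ (checkPointF_eq cert) 249900 100 chkP_249900 i (by omega) (by omega)
              · skip
                rcases Nat.lt_or_ge i 250100 with h8 | h8
                · skip
                  exact allRangeF_sound _ _ (checkPointF_eq cert) 250000 100 chkP_250000 i (by omega) (by omega)
                · skip
                  exact allRangeF_sound _ _ (checkPointF_eq cert) 250100 100 chkP_250100 i (by omega) (by omega)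
            · skip
              rcases Nat.lt_or_ge i 250300 with h7 | h7
              · skip
                exact allRangeF_sound _ _ (checkPointF_eq cert) 250200 100 chkP_250200 i (by omega) (by omega)
              · skip
                rcases Nat.lt_or_ge i 250400 with h8 | h8
                · skip
                  exact allRangeF_sound _ _ (checkPointF_eq cert) 250300 100 chkP_250300 i (by omega) (by omega)
                · skip
                  exact allRangeF_sound _ _ (checkPointF_eq cert) 250400 100 chkP_250400 i (by omega) (by omega)

end Cfsg.Agent.Lib.Helper28.He2Data
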