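import Cfsg.Agent.Lib.Helper28.TCDefs
import Cfsg.Agent.Lib.Helper28.He2DataP0
import Cfsg.Agent.Lib.Helper28.He2DataP1
import Cfsg.Agent.Lib.Helper28.He2DataP2
import Cfsg.Agent.Lib.Helper28.He2DataP3
import Cfsg.Agent.Lib.Helper28.He2DataP4
import Cfsg.Agent.Lib.Helper28.He2DataP5
import Cfsg.Agent.Lib.Helper28.He2DataP6
import Cfsg.Agent.Lib.Helper28.He2DataP7
import Cfsg.Agent.Lib.Helper28.He2DataP8
import Cfsg.Agent.Lib.Helper28.He2DataP9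
import Cfsg.Agent.Lib.Helper28.He2DataP10
import Cfsg.Agent.Lib.Helper28.He2DataP11
import Cfsg.Agent.Lib.Helper28.He2DataP12

set_option autoImplicit false
set_option maxRecDepth 100000
set_option linter.all false

namespace Cfsg.Agent.Lib.Helper28.He2Data

open Cfsg.Agent.Lib.Helper28

noncomputable def tF_s1_3 (j : Nat) : Nat := @Bool.rec (fun _ => Nat) tF_L1 tF_L2 (Nat.ble (nat_lit 2) j)
noncomputable def tF_s4_6 (j : Nat) : Nat := @Bool.rec (fun _ => Nat) tF_L4 tF_L5 (Nat.ble (nat_lit 5) j)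
noncomputable def tF_s7_9 (j : Nat) : Nat := @Bool.rec (fun _ => Nat) tF_L7 tF_L8 (Nat.ble (nat_lit 8) j)
noncomputable def tF_s9_11 (j : Nat) : Nat := @Bool.rec (fun _ => Nat) tF_L9 tF_L10 (Nat.ble (nat_lit 10) j)
noncomputable def tF_s11_13 (j : Nat) : Nat := @Bool.rec (fun _ => Nat) tF_L11 tF_L12 (Nat.ble (nat_lit 12) j)
noncomputable def tF_s0_13 (j : Nat) : Nat := @Bool.rec (fun _ => Nat) (@Bool.rec (fun _ => Nat) (@Bool.rec (fun _ => Nat) tF_L0 (tF_s1_3 j) (Nat.ble (nat_lit 1) j)) (@Bool.rec (fun _ => Nat) tF_L3 (tF_s4_6 j) (Nat.ble (nat_lit 4) j)) (Nat.ble (nat_lit 3) j)) (@Bool.rec (fun _ => Nat) (@Bool.rec (fun _ => Nat) tF_L6 (tF_s7_9 j) (Nat.ble (nat_lit 7) j)) (@Bool.rec (fun _ => Nat) (tF_s9_11 j) (tF_s11_13 j) (Nat.ble (nat_lit 11) j)) (Nat.ble (nat_lit 9) j)) (Nat.ble (nat_lit 6) j)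
noncomputable def tF_s14_16 (j : Nat) : Nat := @Bool.rec (fun _ => Nat) tF_L14 tF_L15 (Nat.ble (nat_lit 15) j)
noncomputable def tF_s17_19 (j : Nat) : Nat := @Bool.rec (fun _ => Nat) tF_L17 tF_L18 (Nat.ble (nat_lit 18) j)
noncomputable def tF_s20_22 (j : Nat) : Nat := @Bool.rec (fun _ => Nat) tF_L20 tF_L21 (Nat.ble (nat_lit 21) j)
noncomputable def tF_s22_24 (j : Nat) : Nat := @Bool.rec (fun _ => Nat) tF_L22 tF_L23 (Nat.ble (nat_lit 23) j)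
noncomputable def tF_s24_26 (j : Nat) : Nat := @Bool.rec (fun _ => Nat) tF_L24 tF_L25 (Nat.ble (nat_lit 25) j)
noncomputable def tF_s13_26 (j : Nat) : Nat := @Bool.rec (fun _ => Nat) (@Bool.rec (fun _ => Nat) (@Bool.rec (fun _ => Nat) tF_L13 (tF_s14_16 j) (Nat.ble (nat_lit 14) j)) (@Bool.rec (fun _ => Nat) tF_L16 (tF_s17_19 j) (Nat.ble (nat_lit 17) j)) (Nat.ble (nat_lit 16) j)) (@Bool.rec (fun _ => Nat) (@Bool.rec (fun _ => Nat) tF_L19 (tF_s20_22 j) (Nat.ble (nat_lit 20) j)) (@Bool.rec (fun _ => Nat) (tF_s22_24 j) (tF_s24_26 j) (Nat.ble (nat_lit 24) j)) (Nat.ble (nat_lit 22) j)) (Nat.ble (nat_lit 19) j)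
noncomputable def tF_s27_29 (j : Nat) : Nat := @Bool.rec (fun _ => Nat) tF_L27 tF_L28 (Nat.ble (nat_lit 28) j)
noncomputable def tF_s30_32 (j : Nat) : Nat := @Bool.rec (fun _ => Nat) tF_L30 tF_L31 (Nat.ble (nat_lit 31) j)
noncomputable def tF_s33_35 (j : Nat) : Nat := @Bool.rec (fun _ => Nat) tF_L33 tF_L34 (Nat.ble (nat_lit 34) j)
noncomputable def tF_s35_37 (j : Nat) : Nat := @Bool.rec (fun _ => Nat) tF_L35 tF_L36 (Nat.ble (nat_lit 36) j)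
noncomputable def tF_s37_39 (j : Nat) : Nat := @Bool.rec (fun _ => Nat) tF_L37 tF_L38 (Nat.ble (nat_lit 38) j)
noncomputable def tF_s26_39 (j : Nat) : Nat := @Bool.rec (fun _ => Nat) (@Bool.rec (fun _ => Nat) (@Bool.rec (fun _ => Nat) tF_L26 (tF_s27_29 j) (Nat.ble (nat_lit 27) j)) (@Bool.rec (fun _ => Nat) tF_L29 (tF_s30_32 j) (Nat.ble (nat_lit 30) j)) (Nat.ble (nat_lit 29) j)) (@Bool.rec (fun _ => Nat) (@Bool.rec (fun _ => Nat) tF_L32 (tF_s33_35 j) (Nat.ble (nat_lit 33) j)) (@Bool.rec (fun _ => Nat) (tF_s35_37 j) (tF_s37_39 j) (Nat.ble (nat_lit 37) j)) (Nat.ble (nat_lit 35) j)) (Nat.ble (nat_lit 32) j)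
noncomputable def tF_s40_42 (j : Nat) : Nat := @Bool.rec (fun _ => Nat) tF_L40 tF_L41 (Nat.ble (nat_lit 41) j)
noncomputable def tF_s43_45 (j : Nat) : Nat := @Bool.rec (fun _ => Nat) tF_L43 tF_L44 (Nat.ble (nat_lit 44) j)
noncomputable def tF_s46_48 (j : Nat) : Nat := @Bool.rec (fun _ => Nat) tF_L46 tF_L47 (Nat.ble (nat_lit 47) j)
noncomputable def tF_s48_50 (j : Nat) : Nat := @Bool.rec (fun _ => Nat) tF_L48 tF_L49 (Nat.ble (nat_lit 49) j)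
noncomputable def tF_s50_52 (j : Nat) : Nat := @Bool.rec (fun _ => Nat) tF_L50 tF_L51 (Nat.ble (nat_lit 51) j)
noncomputable def tF_s39_52 (j : Nat) : Nat := @Bool.rec (fun _ => Nat) (@Bool.rec (fun _ => Nat) (@Bool.rec (fun _ => Nat) tF_L39 (tF_s40_42 j) (Nat.ble (nat_lit 40) j)) (@Bool.rec (fun _ => Nat) tF_L42 (tF_s43_45 j) (Nat.ble (nat_lit 43) j)) (Nat.ble (nat_lit 42) j)) (@Bool.rec (fun _ => Nat) (@Bool.rec (fun _ => Nat) tF_L45 (tF_s46_48 j) (Nat.ble (nat_lit 46) j)) (@Bool.rec (fun _ => Nat) (tF_s48_50 j) (tF_s50_52 j) (Nat.ble (nat_lit 50) j)) (Nat.ble (nat_lit 48) j)) (Nat.ble (nat_lit 45) j)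
noncomputable def tF_s53_55 (j : Nat) : Nat := @Bool.rec (fun _ => Nat) tF_L53 tF_L54 (Nat.ble (nat_lit 54) j)
noncomputable def tF_s56_58 (j : Nat) : Nat := @Bool.rec (fun _ => Nat) tF_L56 tF_L57 (Nat.ble (nat_lit 57) j)
noncomputable def tF_s59_61 (j : Nat) : Nat := @Bool.rec (fun _ => Nat) tF_L59 tF_L60 (Nat.ble (nat_lit 60) j)
noncomputable def tF_s61_63 (j : Nat) : Nat := @Bool.rec (fun _ => Nat) tF_L61 tF_L62 (Nat.ble (nat_lit 62) j)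
noncomputable def tF_s63_65 (j : Nat) : Nat := @Bool.rec (fun _ => Nat) tF_L63 tF_L64 (Nat.ble (nat_lit 64) j)
noncomputable def tF_s52_65 (j : Nat) : Nat := @Bool.rec (fun _ => Nat) (@Bool.rec (fun _ => Nat) (@Bool.rec (fun _ => Nat) tF_L52 (tF_s53_55 j) (Nat.ble (nat_lit 53) j)) (@Bool.rec (fun _ => Nat) tF_L55 (tF_s56_58 j) (Nat.ble (nat_lit 56) j)) (Nat.ble (nat_lit 55) j)) (@Bool.rec (fun _ => Nat) (@Bool.rec (fun _ => Nat) tF_L58 (tF_s59_61 j) (Nat.ble (nat_lit 59) j)) (@Bool.rec (fun _ => Nat) (tF_s61_63 j) (tF_s63_65 j) (Nat.ble (nat_lit 63) j)) (Nat.ble (nat_lit 61) j)) (Nat.ble (nat_lit 58) j)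
noncomputable def tF_s66_68 (j : Nat) : Nat := @Bool.rec (fun _ => Nat) tF_L66 tF_L67 (Nat.ble (nat_lit 67) j)
noncomputable def tF_s69_71 (j : Nat) : Nat := @Bool.rec (fun _ => Nat) tF_L69 tF_L70 (Nat.ble (nat_lit 70) j)
noncomputable def tF_s72_74 (j : Nat) : Nat := @Bool.rec (fun _ => Nat) tF_L72 tF_L73 (Nat.ble (nat_lit 73) j)
noncomputable def tF_s74_76 (j : Nat) : Nat := @Bool.rec (fun _ => Nat) tF_L74 tF_L75 (Nat.ble (nat_lit 75) j)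
noncomputable def tF_s76_78 (j : Nat) : Nat := @Bool.rec (fun _ => Nat) tF_L76 tF_L77 (Nat.ble (nat_lit 77) j)
noncomputable def tF_s65_78 (j : Nat) : Nat := @Bool.rec (fun _ => Nat) (@Bool.rec (fun _ => Nat) (@Bool.rec (fun _ => Nat) tF_L65 (tF_s66_68 j) (Nat.ble (nat_lit 66) j)) (@Bool.rec (fun _ => Nat) tF_L68 (tF_s69_71 j) (Nat.ble (nat_lit 69) j)) (Nat.ble (nat_lit 68) j)) (@Bool.rec (fun _ => Nat) (@Bool.rec (fun _ => Nat) tF_L71 (tF_s72_74 j) (Nat.ble (nat_lit 72) j)) (@Bool.rec (fun _ => Nat) (tF_s74_76 j) (tF_s76_78 j) (Nat.ble (nat_lit 76) j)) (Nat.ble (nat_lit 74) j)) (Nat.ble (nat_lit 71) j)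
noncomputable def tF_s79_81 (j : Nat) : Nat := @Bool.rec (fun _ => Nat) tF_L79 tF_L80 (Nat.ble (nat_lit 80) j)
noncomputable def tF_s82_84 (j : Nat) : Nat := @Bool.rec (fun _ => Nat) tF_L82 tF_L83 (Nat.ble (nat_lit 83) j)
noncomputable def tF_s85_87 (j : Nat) : Nat := @Bool.rec (fun _ => Nat) tF_L85 tF_L86 (Nat.ble (nat_lit 86) j)
noncomputable def tF_s87_89 (j : Nat) : Nat := @Bool.rec (fun _ => Nat) tF_L87 tF_L88 (Nat.ble (nat_lit 88) j)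
noncomputable def tF_s89_91 (j : Nat) : Nat := @Bool.rec (fun _ => Nat) tF_L89 tF_L90 (Nat.ble (nat_lit 90) j)
noncomputable def tF_s78_91 (j : Nat) : Nat := @Bool.rec (fun _ => Nat) (@Bool.rec (fun _ => Nat) (@Bool.rec (fun _ => Nat) tF_L78 (tF_s79_81 j) (Nat.ble (nat_lit 79) j)) (@Bool.rec (fun _ => Nat) tF_L81 (tF_s82_84 j) (Nat.ble (nat_lit 82) j)) (Nat.ble (nat_lit 81) j)) (@Bool.rec (fun _ => Nat) (@Bool.rec (fun _ => Nat) tF_L84 (tF_s85_87 j) (Nat.ble (nat_lit 85) j)) (@Bool.rec (fun _ => Nat) (tF_s87_89 j) (tF_s89_91 j) (Nat.ble (nat_lit 89) j)) (Nat.ble (nat_lit 87) j)) (Nat.ble (nat_lit 84) j)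
noncomputable def tF_s92_94 (j : Nat) : Nat := @Bool.rec (fun _ => Nat) tF_L92 tF_L93 (Nat.ble (nat_lit 93) j)
noncomputable def tF_s95_97 (j : Nat) : Nat := @Bool.rec (fun _ => Nat) tF_L95 tF_L96 (Nat.ble (nat_lit 96) j)
noncomputable def tF_s98_100 (j : Nat) : Nat := @Bool.rec (fun _ => Nat) tF_L98 tF_L99 (Nat.ble (nat_lit 99) j)
noncomputable def tF_s100_102 (j : Nat) : Nat := @Bool.rec (fun _ => Nat) tF_L100 tF_L101 (Nat.ble (nat_lit 101) j)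
noncomputable def tF_s102_104 (j : Nat) : Nat := @Bool.rec (fun _ => Nat) tF_L102 tF_L103 (Nat.ble (nat_lit 103) j)
noncomputable def tF_s91_104 (j : Nat) : Nat := @Bool.rec (fun _ => Nat) (@Bool.rec (fun _ => Nat) (@Bool.rec (fun _ => Nat) tF_L91 (tF_s92_94 j) (Nat.ble (nat_lit 92) j)) (@Bool.rec (fun _ => Nat) tF_L94 (tF_s95_97 j) (Nat.ble (nat_lit 95) j)) (Nat.ble (nat_lit 94) j)) (@Bool.rec (fun _ => Nat) (@Bool.rec (fun _ => Nat) tF_L97 (tF_s98_100 j) (Nat.ble (nat_lit 98) j)) (@Bool.rec (fun _ => Nat) (tF_s100_102 j) (tF_s102_104 j) (Nat.ble (nat_lit 102) j)) (Nat.ble (nat_lit 100) j)) (Nat.ble (nat_lit 97) j)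
noncomputable def tF_s0_104 (j : Nat) : Nat := @Bool.rec (fun _ => Nat) (@Bool.rec (fun _ => Nat) (@Bool.rec (fun _ => Nat) (tF_s0_13 j) (tF_s13_26 j) (Nat.ble (nat_lit 13) j)) (@Bool.rec (fun _ => Nat) (tF_s26_39 j) (tF_s39_52 j) (Nat.ble (nat_lit 39) j)) (Nat.ble (nat_lit 26) j)) (@Bool.rec (fun _ => Nat) (@Bool.rec (fun _ => Nat) (tF_s52_65 j) (tF_s65_78 j) (Nat.ble (nat_lit 65) j)) (@Bool.rec (fun _ => Nat) (tF_s78_91 j) (tF_s91_104 j) (Nat.ble (nat_lit 91) j)) (Nat.ble (nat_lit 78) j)) (Nat.ble (nat_lit 52) j)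
noncomputable def tF (i : Nat) : Nat := Nat.land (Nat.shiftRight (tF_s0_104 (Nat.div i (nat_lit 18181))) (Nat.mul (nat_lit 44) (Nat.mod i (nat_lit 18181)))) (nat_lit 17592186044415)
noncomputable def tD_s7_9 (j : Nat) : Nat := @Bool.rec (fun _ => Nat) tD_L7 tD_L8 (Nat.ble (nat_lit 8) j)
noncomputable def tD_s0_9 (j : Nat) : Nat := @Bool.rec (fun _ => Nat) (@Bool.rec (fun _ => Nat) (@Bool.rec (fun _ => Nat) tD_L0 tD_L1 (Nat.ble (nat_lit 1) j)) (@Bool.rec (fun _ => Nat) tD_L2 tD_L3 (Nat.ble (nat_lit 3) j)) (Nat.ble (nat_lit 2) j)) (@Bool.rec (fun _ => Nat) (@Bool.rec (fun _ => Nat) tD_L4 tD_L5 (Nat.ble (nat_lit 5) j)) (@Bool.rec (fun _ => Nat) tD_L6 (tD_s7_9 j) (Nat.ble (nat_lit 7) j)) (Nat.ble (nat_lit 6) j)) (Nat.ble (nat_lit 4) j)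
noncomputable def tD (i : Nat) : Nat := Nat.land (Nat.shiftRight (tD_s0_9 (Nat.div i (nat_lit 33333))) (Nat.mul (nat_lit 24) (Nat.mod i (nat_lit 33333)))) (nat_lit 16777215)
noncomputable def tT_s3_5 (j : Nat) : Nat := @Bool.rec (fun _ => Nat) tT_L3 tT_L4 (Nat.ble (nat_lit 4) j)
noncomputable def tT_s6_8 (j : Nat) : Nat := @Bool.rec (fun _ => Nat) tT_L6 tT_L7 (Nat.ble (nat_lit 7) j)
noncomputable def tT_s9_11 (j : Nat) : Nat := @Bool.rec (fun _ => Nat) tT_L9 tT_L10 (Nat.ble (nat_lit 10) j)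
noncomputable def tT_s0_11 (j : Nat) : Nat := @Bool.rec (fun _ => Nat) (@Bool.rec (fun _ => Nat) (@Bool.rec (fun _ => Nat) tT_L0 tT_L1 (Nat.ble (nat_lit 1) j)) (@Bool.rec (fun _ => Nat) tT_L2 (tT_s3_5 j) (Nat.ble (nat_lit 3) j)) (Nat.ble (nat_lit 2) j)) (@Bool.rec (fun _ => Nat) (@Bool.rec (fun _ => Nat) tT_L5 (tT_s6_8 j) (Nat.ble (nat_lit 6) j)) (@Bool.rec (fun _ => Nat) tT_L8 (tT_s9_11 j) (Nat.ble (nat_lit 9) j)) (Nat.ble (nat_lit 8) j)) (Nat.ble (nat_lit 5) j)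
noncomputable def tT_s14_16 (j : Nat) : Nat := @Bool.rec (fun _ => Nat) tT_L14 tT_L15 (Nat.ble (nat_lit 15) j)
noncomputable def tT_s17_19 (j : Nat) : Nat := @Bool.rec (fun _ => Nat) tT_L17 tT_L18 (Nat.ble (nat_lit 18) j)
noncomputable def tT_s20_22 (j : Nat) : Nat := @Bool.rec (fun _ => Nat) tT_L20 tT_L21 (Nat.ble (nat_lit 21) j)
noncomputable def tT_s11_22 (j : Nat) : Nat := @Bool.rec (fun _ => Nat) (@Bool.rec (fun _ => Nat) (@Bool.rec (fun _ => Nat) tT_L11 tT_L12 (Nat.ble (nat_lit 12) j)) (@Bool.rec (fun _ => Nat) tT_L13 (tT_s14_16 j) (Nat.ble (nat_lit 14) j)) (Nat.ble (nat_lit 13) j)) (@Bool.rec (fun _ => Nat) (@Bool.rec (fun _ => Nat) tT_L16 (tT_s17_19 j) (Nat.ble (nat_lit 17) j)) (@Bool.rec (fun _ => Nat) tT_L19 (tT_s20_22 j) (Nat.ble (nat_lit 20) j)) (Nat.ble (nat_lit 19) j)) (Nat.ble (nat_lit 16) j)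
noncomputable def tT_s25_27 (j : Nat) : Nat := @Bool.rec (fun _ => Nat) tT_L25 tT_L26 (Nat.ble (nat_lit 26) j)
noncomputable def tT_s28_30 (j : Nat) : Nat := @Bool.rec (fun _ => Nat) tT_L28 tT_L29 (Nat.ble (nat_lit 29) j)
noncomputable def tT_s31_33 (j : Nat) : Nat := @Bool.rec (fun _ => Nat) tT_L31 tT_L32 (Nat.ble (nat_lit 32) j)
noncomputable def tT_s22_33 (j : Nat) : Nat := @Bool.rec (fun _ => Nat) (@Bool.rec (fun _ => Nat) (@Bool.rec (fun _ => Nat) tT_L22 tT_L23 (Nat.ble (nat_lit 23) j)) (@Bool.rec (fun _ => Nat) tT_L24 (tT_s25_27 j) (Nat.ble (nat_lit 25) j)) (Nat.ble (nat_lit 24) j)) (@Bool.rec (fun _ => Nat) (@Bool.rec (fun _ => Nat) tT_L27 (tT_s28_30 j) (Nat.ble (nat_lit 28) j)) (@Bool.rec (fun _ => Nat) tT_L30 (tT_s31_33 j) (Nat.ble (nat_lit 31) j)) (Nat.ble (nat_lit 30) j)) (Nat.ble (nat_lit 27) j)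
noncomputable def tT_s36_38 (j : Nat) : Nat := @Bool.rec (fun _ => Nat) tT_L36 tT_L37 (Nat.ble (nat_lit 37) j)
noncomputable def tT_s39_41 (j : Nat) : Nat := @Bool.rec (fun _ => Nat) tT_L39 tT_L40 (Nat.ble (nat_lit 40) j)
noncomputable def tT_s42_44 (j : Nat) : Nat := @Bool.rec (fun _ => Nat) tT_L42 tT_L43 (Nat.ble (nat_lit 43) j)
noncomputable def tT_s33_44 (j : Nat) : Nat := @Bool.rec (fun _ => Nat) (@Bool.rec (fun _ => Nat) (@Bool.rec (fun _ => Nat) tT_L33 tT_L34 (Nat.ble (nat_lit 34) j)) (@Bool.rec (fun _ => Nat) tT_L35 (tT_s36_38 j) (Nat.ble (nat_lit 36) j)) (Nat.ble (nat_lit 35) j)) (@Bool.rec (fun _ => Nat) (@Bool.rec (fun _ => Nat) tT_L38 (tT_s39_41 j) (Nat.ble (nat_lit 39) j)) (@Bool.rec (fun _ => Nat) tT_L41 (tT_s42_44 j) (Nat.ble (nat_lit 42) j)) (Nat.ble (nat_lit 41) j)) (Nat.ble (nat_lit 38) j)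
noncomputable def tT_s47_49 (j : Nat) : Nat := @Bool.rec (fun _ => Nat) tT_L47 tT_L48 (Nat.ble (nat_lit 48) j)
noncomputable def tT_s50_52 (j : Nat) : Nat := @Bool.rec (fun _ => Nat) tT_L50 tT_L51 (Nat.ble (nat_lit 51) j)
noncomputable def tT_s53_55 (j : Nat) : Nat := @Bool.rec (fun _ => Nat) tT_L53 tT_L54 (Nat.ble (nat_lit 54) j)
noncomputable def tT_s44_55 (j : Nat) : Nat := @Bool.rec (fun _ => Nat) (@Bool.rec (fun _ => Nat) (@Bool.rec (fun _ => Nat) tT_L44 tT_L45 (Nat.ble (nat_lit 45) j)) (@Bool.rec (fun _ => Nat) tT_L46 (tT_s47_49 j) (Nat.ble (nat_lit 47) j)) (Nat.ble (nat_lit 46) j)) (@Bool.rec (fun _ => Nat) (@Bool.rec (fun _ => Nat) tT_L49 (tT_s50_52 j) (Nat.ble (nat_lit 50) j)) (@Bool.rec (fun _ => Nat) tT_L52 (tT_s53_55 j) (Nat.ble (nat_lit 53) j)) (Nat.ble (nat_lit 52) j)) (Nat.ble (nat_lit 49) j)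
noncomputable def tT_s58_60 (j : Nat) : Nat := @Bool.rec (fun _ => Nat) tT_L58 tT_L59 (Nat.ble (nat_lit 59) j)
noncomputable def tT_s61_63 (j : Nat) : Nat := @Bool.rec (fun _ => Nat) tT_L61 tT_L62 (Nat.ble (nat_lit 62) j)
noncomputable def tT_s64_66 (j : Nat) : Nat := @Bool.rec (fun _ => Nat) tT_L64 tT_L65 (Nat.ble (nat_lit 65) j)
noncomputable def tT_s55_66 (j : Nat) : Nat := @Bool.rec (fun _ => Nat) (@Bool.rec (fun _ => Nat) (@Bool.rec (fun _ => Nat) tT_L55 tT_L56 (Nat.ble (nat_lit 56) j)) (@Bool.rec (fun _ => Nat) tT_L57 (tT_s58_60 j) (Nat.ble (nat_lit 58) j)) (Nat.ble (nat_lit 57) j)) (@Bool.rec (fun _ => Nat) (@Bool.rec (fun _ => Nat) tT_L60 (tT_s61_63 j) (Nat.ble (nat_lit 61) j)) (@Bool.rec (fun _ => Nat) tT_L63 (tT_s64_66 j) (Nat.ble (nat_lit 64) j)) (Nat.ble (nat_lit 63) j)) (Nat.ble (nat_lit 60) j)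
noncomputable def tT_s69_71 (j : Nat) : Nat := @Bool.rec (fun _ => Nat) tT_L69 tT_L70 (Nat.ble (nat_lit 70) j)
noncomputable def tT_s72_74 (j : Nat) : Nat := @Bool.rec (fun _ => Nat) tT_L72 tT_L73 (Nat.ble (nat_lit 73) j)
noncomputable def tT_s75_77 (j : Nat) : Nat := @Bool.rec (fun _ => Nat) tT_L75 tT_L76 (Nat.ble (nat_lit 76) j)
noncomputable def tT_s66_77 (j : Nat) : Nat := @Bool.rec (fun _ => Nat) (@Bool.rec (fun _ => Nat) (@Bool.rec (fun _ => Nat) tT_L66 tT_L67 (Nat.ble (nat_lit 67) j)) (@Bool.rec (fun _ => Nat) tT_L68 (tT_s69_71 j) (Nat.ble (nat_lit 69) j)) (Nat.ble (nat_lit 68) j)) (@Bool.rec (fun _ => Nat) (@Bool.rec (fun _ => Nat) tT_L71 (tT_s72_74 j) (Nat.ble (nat_lit 72) j)) (@Bool.rec (fun _ => Nat) tT_L74 (tT_s75_77 j) (Nat.ble (nat_lit 75) j)) (Nat.ble (nat_lit 74) j)) (Nat.ble (nat_lit 71) j)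
noncomputable def tT_s78_80 (j : Nat) : Nat := @Bool.rec (fun _ => Nat) tT_L78 tT_L79 (Nat.ble (nat_lit 79) j)
noncomputable def tT_s81_83 (j : Nat) : Nat := @Bool.rec (fun _ => Nat) tT_L81 tT_L82 (Nat.ble (nat_lit 82) j)
noncomputable def tT_s84_86 (j : Nat) : Nat := @Bool.rec (fun _ => Nat) tT_L84 tT_L85 (Nat.ble (nat_lit 85) j)
noncomputable def tT_s87_89 (j : Nat) : Nat := @Bool.rec (fun _ => Nat) tT_L87 tT_L88 (Nat.ble (nat_lit 88) j)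
noncomputable def tT_s77_89 (j : Nat) : Nat := @Bool.rec (fun _ => Nat) (@Bool.rec (fun _ => Nat) (@Bool.rec (fun _ => Nat) tT_L77 (tT_s78_80 j) (Nat.ble (nat_lit 78) j)) (@Bool.rec (fun _ => Nat) tT_L80 (tT_s81_83 j) (Nat.ble (nat_lit 81) j)) (Nat.ble (nat_lit 80) j)) (@Bool.rec (fun _ => Nat) (@Bool.rec (fun _ => Nat) tT_L83 (tT_s84_86 j) (Nat.ble (nat_lit 84) j)) (@Bool.rec (fun _ => Nat) tT_L86 (tT_s87_89 j) (Nat.ble (nat_lit 87) j)) (Nat.ble (nat_lit 86) j)) (Nat.ble (nat_lit 83) j)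
noncomputable def tT_s0_89 (j : Nat) : Nat := @Bool.rec (fun _ => Nat) (@Bool.rec (fun _ => Nat) (@Bool.rec (fun _ => Nat) (tT_s0_11 j) (tT_s11_22 j) (Nat.ble (nat_lit 11) j)) (@Bool.rec (fun _ => Nat) (tT_s22_33 j) (tT_s33_44 j) (Nat.ble (nat_lit 33) j)) (Nat.ble (nat_lit 22) j)) (@Bool.rec (fun _ => Nat) (@Bool.rec (fun _ => Nat) (tT_s44_55 j) (tT_s55_66 j) (Nat.ble (nat_lit 55) j)) (@Bool.rec (fun _ => Nat) (tT_s66_77 j) (tT_s77_89 j) (Nat.ble (nat_lit 77) j)) (Nat.ble (nat_lit 66) j)) (Nat.ble (nat_lit 44) j)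
noncomputable def tT (i : Nat) : Nat := Nat.land (Nat.shiftRight (tT_s0_89 (Nat.div i (nat_lit 42105))) (Nat.mul (nat_lit 19) (Nat.mod i (nat_lit 42105)))) (nat_lit 524287)
noncomputable def tPP_s0_8 (j : Nat) : Nat := @Bool.rec (fun _ => Nat) (@Bool.rec (fun _ => Nat) (@Bool.rec (fun _ => Nat) tPP_L0 tPP_L1 (Nat.ble (nat_lit 1) j)) (@Bool.rec (fun _ => Nat) tPP_L2 tPP_L3 (Nat.ble (nat_lit 3) j)) (Nat.ble (nat_lit 2) j)) (@Bool.rec (fun _ => Nat) (@Bool.rec (fun _ => Nat) tPP_L4 tPP_L5 (Nat.ble (nat_lit 5) j)) (@Bool.rec (fun _ => Nat) tPP_L6 tPP_L7 (Nat.ble (nat_lit 7) j)) (Nat.ble (nat_lit 6) j)) (Nat.ble (nat_lit 4) j)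
noncomputable def tPP (i : Nat) : Nat := Nat.land (Nat.shiftRight (tPP_s0_8 (Nat.div i (nat_lit 36363))) (Nat.mul (nat_lit 22) (Nat.mod i (nat_lit 36363)))) (nat_lit 4194303)
noncomputable def tNO_s0_7 (j : Nat) : Nat := @Bool.rec (fun _ => Nat) (@Bool.rec (fun _ => Nat) tNO_L0 (@Bool.rec (fun _ => Nat) tNO_L1 tNO_L2 (Nat.ble (nat_lit 2) j)) (Nat.ble (nat_lit 1) j)) (@Bool.rec (fun _ => Nat) (@Bool.rec (fun _ => Nat) tNO_L3 tNO_L4 (Nat.ble (nat_lit 4) j)) (@Bool.rec (fun _ => Nat) tNO_L5 tNO_L6 (Nat.ble (nat_lit 6) j)) (Nat.ble (nat_lit 5) j)) (Nat.ble (nat_lit 3) j)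
noncomputable def tNO (i : Nat) : Nat := Nat.land (Nat.shiftRight (tNO_s0_7 (Nat.div i (nat_lit 42105))) (Nat.mul (nat_lit 19) (Nat.mod i (nat_lit 42105)))) (nat_lit 524287)
noncomputable def tTAB_s0_6 (j : Nat) : Nat := @Bool.rec (fun _ => Nat) (@Bool.rec (fun _ => Nat) tTAB_L0 (@Bool.rec (fun _ => Nat) tTAB_L1 tTAB_L2 (Nat.ble (nat_lit 2) j)) (Nat.ble (nat_lit 1) j)) (@Bool.rec (fun _ => Nat) tTAB_L3 (@Bool.rec (fun _ => Nat) tTAB_L4 tTAB_L5 (Nat.ble (nat_lit 5) j)) (Nat.ble (nat_lit 4) j)) (Nat.ble (nat_lit 3) j)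
noncomputable def tTAB_s6_12 (j : Nat) : Nat := @Bool.rec (fun _ => Nat) (@Bool.rec (fun _ => Nat) tTAB_L6 (@Bool.rec (fun _ => Nat) tTAB_L7 tTAB_L8 (Nat.ble (nat_lit 8) j)) (Nat.ble (nat_lit 7) j)) (@Bool.rec (fun _ => Nat) tTAB_L9 (@Bool.rec (fun _ => Nat) tTAB_L10 tTAB_L11 (Nat.ble (nat_lit 11) j)) (Nat.ble (nat_lit 10) j)) (Nat.ble (nat_lit 9) j)
noncomputable def tTAB_s12_18 (j : Nat) : Nat := @Bool.rec (fun _ => Nat) (@Bool.rec (fun _ => Nat) tTAB_L12 (@Bool.rec (fun _ => Nat) tTAB_L13 tTAB_L14 (Nat.ble (nat_lit 14) j)) (Nat.ble (nat_lit 13) j)) (@Bool.rec (fun _ => Nat) tTAB_L15 (@Bool.rec (fun _ => Nat) tTAB_L16 tTAB_L17 (Nat.ble (nat_lit 17) j)) (Nat.ble (nat_lit 16) j)) (Nat.ble (nat_lit 15) j)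
noncomputable def tTAB_s18_24 (j : Nat) : Nat := @Bool.rec (fun _ => Nat) (@Bool.rec (fun _ => Nat) tTAB_L18 (@Bool.rec (fun _ => Nat) tTAB_L19 tTAB_L20 (Nat.ble (nat_lit 20) j)) (Nat.ble (nat_lit 19) j)) (@Bool.rec (fun _ => Nat) tTAB_L21 (@Bool.rec (fun _ => Nat) tTAB_L22 tTAB_L23 (Nat.ble (nat_lit 23) j)) (Nat.ble (nat_lit 22) j)) (Nat.ble (nat_lit 21) j)
noncomputable def tTAB_s24_30 (j : Nat) : Nat := @Bool.rec (fun _ => Nat) (@Bool.rec (fun _ => Nat) tTAB_L24 (@Bool.rec (fun _ => Nat) tTAB_L25 tTAB_L26 (Nat.ble (nat_lit 26) j)) (Nat.ble (nat_lit 25) j)) (@Bool.rec (fun _ => Nat) tTAB_L27 (@Bool.rec (fun _ => Nat) tTAB_L28 tTAB_L29 (Nat.ble (nat_lit 29) j)) (Nat.ble (nat_lit 28) j)) (Nat.ble (nat_lit 27) j)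
noncomputable def tTAB_s30_36 (j : Nat) : Nat := @Bool.rec (fun _ => Nat) (@Bool.rec (fun _ => Nat) tTAB_L30 (@Bool.rec (fun _ => Nat) tTAB_L31 tTAB_L32 (Nat.ble (nat_lit 32) j)) (Nat.ble (nat_lit 31) j)) (@Bool.rec (fun _ => Nat) tTAB_L33 (@Bool.rec (fun _ => Nat) tTAB_L34 tTAB_L35 (Nat.ble (nat_lit 35) j)) (Nat.ble (nat_lit 34) j)) (Nat.ble (nat_lit 33) j)
noncomputable def tTAB_s36_42 (j : Nat) : Nat := @Bool.rec (fun _ => Nat) (@Bool.rec (fun _ => Nat) tTAB_L36 (@Bool.rec (fun _ => Nat) tTAB_L37 tTAB_L38 (Nat.ble (nat_lit 38) j)) (Nat.ble (nat_lit 37) j)) (@Bool.rec (fun _ => Nat) tTAB_L39 (@Bool.rec (fun _ => Nat) tTAB_L40 tTAB_L41 (Nat.ble (nat_lit 41) j)) (Nat.ble (nat_lit 40) j)) (Nat.ble (nat_lit 39) j)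
noncomputable def tTAB_s42_49 (j : Nat) : Nat := @Bool.rec (fun _ => Nat) (@Bool.rec (fun _ => Nat) tTAB_L42 (@Bool.rec (fun _ => Nat) tTAB_L43 tTAB_L44 (Nat.ble (nat_lit 44) j)) (Nat.ble (nat_lit 43) j)) (@Bool.rec (fun _ => Nat) (@Bool.rec (fun _ => Nat) tTAB_L45 tTAB_L46 (Nat.ble (nat_lit 46) j)) (@Bool.rec (fun _ => Nat) tTAB_L47 tTAB_L48 (Nat.ble (nat_lit 48) j)) (Nat.ble (nat_lit 47) j)) (Nat.ble (nat_lit 45) j)
noncomputable def tTAB_s0_49 (j : Nat) : Nat := @Bool.rec (fun _ => Nat) (@Bool.rec (fun _ => Nat) (@Bool.rec (fun _ => Nat) (tTAB_s0_6 j) (tTAB_s6_12 j) (Nat.ble (nat_lit 6) j)) (@Bool.rec (fun _ => Nat) (tTAB_s12_18 j) (tTAB_s18_24 j) (Nat.ble (nat_lit 18) j)) (Nat.ble (nat_lit 12) j)) (@Bool.rec (fun _ => Nat) (@Bool.rec (fun _ => Nat) (tTAB_s24_30 j) (tTAB_s30_36 j) (Nat.ble (nat_lit 30) j)) (@Bool.rec (fun _ => Nat) (tTAB_s36_42 j) (tTAB_s42_49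 j) (Nat.ble (nat_lit 42) j)) (Nat.ble (nat_lit 36) j)) (Nat.ble (nat_lit 24) j)
noncomputable def tTAB (i : Nat) : Nat := Nat.land (Nat.shiftRight (tTAB_s0_49 (Nat.div i (nat_lit 38095))) (Nat.mul (nat_lit 21) (Nat.mod i (nat_lit 38095)))) (nat_lit 2097151)
noncomputable def tORB_s0_2 (j : Nat) : Nat := @Bool.rec (fun _ => Nat) tORB_L0 tORB_L1 (Nat.ble (nat_lit 1) j)
noncomputable def tORB (i : Nat) : Nat := Nat.land (Nat.shiftRight (tORB_s0_2 (Nat.div i (nat_lit 133333))) (Nat.mul (nat_lit 6) (Nat.mod i (nat_lit 133333)))) (nat_lit 63)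
noncomputable def tORK_s0_2 (j : Nat) : Nat := @Bool.rec (fun _ => Nat) tORK_L0 tORK_L1 (Nat.ble (nat_lit 1) j)
noncomputable def tORK (i : Nat) : Nat := Nat.land (Nat.shiftRight (tORK_s0_2 (Nat.div i (nat_lit 160000))) (Nat.mul (nat_lit 5) (Nat.mod i (nat_lit 160000)))) (nat_lit 31)
noncomputable def tOPAR_s3_5 (j : Nat) : Nat := @Bool.rec (fun _ => Nat) tOPAR_L3 tOPAR_L4 (Nat.ble (nat_lit 4) j)
noncomputable def tOPAR_s8_10 (j : Nat) : Nat := @Bool.rec (fun _ => Nat) tOPAR_L8 tOPAR_L9 (Nat.ble (nat_lit 9) j)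
noncomputable def tOPAR_s0_10 (j : Nat) : Nat := @Bool.rec (fun _ => Nat) (@Bool.rec (fun _ => Nat) (@Bool.rec (fun _ => Nat) tOPAR_L0 tOPAR_L1 (Nat.ble (nat_lit 1) j)) (@Bool.rec (fun _ => Nat) tOPAR_L2 (tOPAR_s3_5 j) (Nat.ble (nat_lit 3) j)) (Nat.ble (nat_lit 2) j)) (@Bool.rec (fun _ => Nat) (@Bool.rec (fun _ => Nat) tOPAR_L5 tOPAR_L6 (Nat.ble (nat_lit 6) j)) (@Bool.rec (fun _ => Nat) tOPAR_L7 (tOPAR_s8_10 j) (Nat.ble (nat_lit 8) j)) (Nat.ble (nat_lit 7) j)) (Nat.ble (nat_lit 5) j)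
noncomputable def tOPAR (i : Nat) : Nat := Nat.land (Nat.shiftRight (tOPAR_s0_10 (Nat.div i (nat_lit 27586))) (Nat.mul (nat_lit 29) (Nat.mod i (nat_lit 27586)))) (nat_lit 536870911)
noncomputable def tROOT (i : Nat) : Nat := Nat.land (Nat.shiftRight tROOT_L0 (Nat.mul (nat_lit 16) i)) (nat_lit 65535)
noncomputable def tJ_O_s0_5 (j : Nat) : Nat := @Bool.rec (fun _ => Nat) (@Bool.rec (fun _ => Nat) tJ_O_L0 tJ_O_L1 (Nat.ble (nat_lit 1) j)) (@Bool.rec (fun _ => Nat) tJ_O_L2 (@Bool.rec (fun _ => Nat) tJ_O_L3 tJ_O_L4 (Nat.ble (nat_lit 4) j)) (Nat.ble (nat_lit 3) j)) (Nat.ble (nat_lit 2) j)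
noncomputable def tJ_O_s5_11 (j : Nat) : Nat := @Bool.rec (fun _ => Nat) (@Bool.rec (fun _ => Nat) tJ_O_L5 (@Bool.rec (fun _ => Nat) tJ_O_L6 tJ_O_L7 (Nat.ble (nat_lit 7) j)) (Nat.ble (nat_lit 6) j)) (@Bool.rec (fun _ => Nat) tJ_O_L8 (@Bool.rec (fun _ => Nat) tJ_O_L9 tJ_O_L10 (Nat.ble (nat_lit 10) j)) (Nat.ble (nat_lit 9) j)) (Nat.ble (nat_lit 8) j)
noncomputable def tJ_O_s11_16 (j : Nat) : Nat := @Bool.rec (fun _ => Nat) (@Bool.rec (fun _ => Nat) tJ_O_L11 tJ_O_L12 (Nat.ble (nat_lit 12) j)) (@Bool.rec (fun _ => Nat) tJ_O_L13 (@Bool.rec (fun _ => Nat) tJ_O_L14 tJ_O_L15 (Nat.ble (nat_lit 15) j)) (Nat.ble (nat_lit 14) j)) (Nat.ble (nat_lit 13) j)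
noncomputable def tJ_O_s16_22 (j : Nat) : Nat := @Bool.rec (fun _ => Nat) (@Bool.rec (fun _ => Nat) tJ_O_L16 (@Bool.rec (fun _ => Nat) tJ_O_L17 tJ_O_L18 (Nat.ble (nat_lit 18) j)) (Nat.ble (nat_lit 17) j)) (@Bool.rec (fun _ => Nat) tJ_O_L19 (@Bool.rec (fun _ => Nat) tJ_O_L20 tJ_O_L21 (Nat.ble (nat_lit 21) j)) (Nat.ble (nat_lit 20) j)) (Nat.ble (nat_lit 19) j)
noncomputable def tJ_O_s22_27 (j : Nat) : Nat := @Bool.rec (fun _ => Nat) (@Bool.rec (fun _ => Nat) tJ_O_L22 tJ_O_L23 (Nat.ble (nat_lit 23) j)) (@Bool.rec (fun _ => Nat) tJ_O_L24 (@Bool.rec (fun _ => Nat) tJ_O_L25 tJ_O_L26 (Nat.ble (nat_lit 26) j)) (Nat.ble (nat_lit 25) j)) (Nat.ble (nat_lit 24) j)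
noncomputable def tJ_O_s27_33 (j : Nat) : Nat := @Bool.rec (fun _ => Nat) (@Bool.rec (fun _ => Nat) tJ_O_L27 (@Bool.rec (fun _ => Nat) tJ_O_L28 tJ_O_L29 (Nat.ble (nat_lit 29) j)) (Nat.ble (nat_lit 28) j)) (@Bool.rec (fun _ => Nat) tJ_O_L30 (@Bool.rec (fun _ => Nat) tJ_O_L31 tJ_O_L32 (Nat.ble (nat_lit 32) j)) (Nat.ble (nat_lit 31) j)) (Nat.ble (nat_lit 30) j)
noncomputable def tJ_O_s33_39 (j : Nat) : Nat := @Bool.rec (fun _ => Nat) (@Bool.rec (fun _ => Nat) tJ_O_L33 (@Bool.rec (fun _ => Nat) tJ_O_L34 tJ_O_L35 (Nat.ble (nat_lit 35) j)) (Nat.ble (nat_lit 34) j)) (@Bool.rec (fun _ => Nat) tJ_O_L36 (@Bool.rec (fun _ => Nat) tJ_O_L37 tJ_O_L38 (Nat.ble (nat_lit 38) j)) (Nat.ble (nat_lit 37) j)) (Nat.ble (nat_lit 36) j)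
noncomputable def tJ_O_s39_45 (j : Nat) : Nat := @Bool.rec (fun _ => Nat) (@Bool.rec (fun _ => Nat) tJ_O_L39 (@Bool.rec (fun _ => Nat) tJ_O_L40 tJ_O_L41 (Nat.ble (nat_lit 41) j)) (Nat.ble (nat_lit 40) j)) (@Bool.rec (fun _ => Nat) tJ_O_L42 (@Bool.rec (fun _ => Nat) tJ_O_L43 tJ_O_L44 (Nat.ble (nat_lit 44) j)) (Nat.ble (nat_lit 43) j)) (Nat.ble (nat_lit 42) j)
noncomputable def tJ_O_s0_45 (j : Nat) : Nat := @Bool.rec (fun _ => Nat) (@Bool.rec (fun _ => Nat) (@Bool.rec (fun _ => Nat) (tJ_O_s0_5 j) (tJ_O_s5_11 j) (Nat.ble (nat_lit 5) j)) (@Bool.rec (fun _ => Nat) (tJ_O_s11_16 j) (tJ_O_s16_22 j) (Nat.ble (nat_lit 16) j)) (Nat.ble (nat_lit 11) j)) (@Bool.rec (fun _ => Nat) (@Bool.rec (fun _ => Nat) (tJ_O_s22_27 j) (tJ_O_s27_33 j) (Nat.ble (nat_lit 27) j)) (@Bool.rec (fun _ => Nat) (tJ_O_s33_39 j) (tJ_O_s39_45 j) (Nat.ble (nat_lit 39) j)) (Nat.ble (nat_lit 33) j)) (Nat.ble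 (nat_lit 22) j)
noncomputable def tJ_O (i : Nat) : Nat := Nat.land (Nat.shiftRight (tJ_O_s0_45 (Nat.div i (nat_lit 42105))) (Nat.mul (nat_lit 19) (Nat.mod i (nat_lit 42105)))) (nat_lit 524287)
noncomputable def tJ_s1_3 (j : Nat) : Nat := @Bool.rec (fun _ => Nat) tJ_P1 tJ_P2 (Nat.ble (nat_lit 2) j)
noncomputable def tJ_s3_5 (j : Nat) : Nat := @Bool.rec (fun _ => Nat) tJ_P3 tJ_P4 (Nat.ble (nat_lit 4) j)
noncomputable def tJ_s5_7 (j : Nat) : Nat := @Bool.rec (fun _ => Nat) tJ_P5 tJ_P6 (Nat.ble (nat_lit 6) j)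
noncomputable def tJ_s8_10 (j : Nat) : Nat := @Bool.rec (fun _ => Nat) tJ_P8 tJ_P9 (Nat.ble (nat_lit 9) j)
noncomputable def tJ_s10_12 (j : Nat) : Nat := @Bool.rec (fun _ => Nat) tJ_P10 tJ_P11 (Nat.ble (nat_lit 11) j)
noncomputable def tJ_s12_14 (j : Nat) : Nat := @Bool.rec (fun _ => Nat) tJ_P12 tJ_P13 (Nat.ble (nat_lit 13) j)
noncomputable def tJ_s0_14 (j : Nat) : Nat := @Bool.rec (fun _ => Nat) (@Bool.rec (fun _ => Nat) (@Bool.rec (fun _ => Nat) tJ_P0 (tJ_s1_3 j) (Nat.ble (nat_lit 1) j)) (@Bool.rec (fun _ => Nat) (tJ_s3_5 j) (tJ_s5_7 j) (Nat.ble (nat_lit 5) j)) (Nat.ble (nat_lit 3) j)) (@Bool.rec (fun _ => Nat) (@Bool.rec (fun _ => Nat) tJ_P7 (tJ_s8_10 j) (Nat.ble (nat_lit 8) j)) (@Bool.rec (fun _ => Nat) (tJ_s10_12 j) (tJ_s12_14 j) (Nat.ble (nat_lit 12) j)) (Nat.ble (nat_lit 10) j)) (Nat.ble (nat_lit 7) j)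
noncomputable def tJ_s15_17 (j : Nat) : Nat := @Bool.rec (fun _ => Nat) tJ_P15 tJ_P16 (Nat.ble (nat_lit 16) j)
noncomputable def tJ_s17_19 (j : Nat) : Nat := @Bool.rec (fun _ => Nat) tJ_P17 tJ_P18 (Nat.ble (nat_lit 18) j)
noncomputable def tJ_s19_21 (j : Nat) : Nat := @Bool.rec (fun _ => Nat) tJ_P19 tJ_P20 (Nat.ble (nat_lit 20) j)
noncomputable def tJ_s22_24 (j : Nat) : Nat := @Bool.rec (fun _ => Nat) tJ_P22 tJ_P23 (Nat.ble (nat_lit 23) j)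
noncomputable def tJ_s24_26 (j : Nat) : Nat := @Bool.rec (fun _ => Nat) tJ_P24 tJ_P25 (Nat.ble (nat_lit 25) j)
noncomputable def tJ_s26_28 (j : Nat) : Nat := @Bool.rec (fun _ => Nat) tJ_P26 tJ_P27 (Nat.ble (nat_lit 27) j)
noncomputable def tJ_s14_28 (j : Nat) : Nat := @Bool.rec (fun _ => Nat) (@Bool.rec (fun _ => Nat) (@Bool.rec (fun _ => Nat) tJ_P14 (tJ_s15_17 j) (Nat.ble (nat_lit 15) j)) (@Bool.rec (fun _ => Nat) (tJ_s17_19 j) (tJ_s19_21 j) (Nat.ble (nat_lit 19) j)) (Nat.ble (nat_lit 17) j)) (@Bool.rec (fun _ => Nat) (@Bool.rec (fun _ => Nat) tJ_P21 (tJ_s22_24 j) (Nat.ble (nat_lit 22) j)) (@Bool.rec (fun _ => Nat) (tJ_s24_26 j) (tJ_s26_28 j) (Nat.ble (nat_lit 26) j)) (Nat.ble (nat_lit 24) j)) (Nat.ble (nat_lit 21) j)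
noncomputable def tJ_s29_31 (j : Nat) : Nat := @Bool.rec (fun _ => Nat) tJ_P29 tJ_P30 (Nat.ble (nat_lit 30) j)
noncomputable def tJ_s31_33 (j : Nat) : Nat := @Bool.rec (fun _ => Nat) tJ_P31 tJ_P32 (Nat.ble (nat_lit 32) j)
noncomputable def tJ_s33_35 (j : Nat) : Nat := @Bool.rec (fun _ => Nat) tJ_P33 tJ_P34 (Nat.ble (nat_lit 34) j)
noncomputable def tJ_s36_38 (j : Nat) : Nat := @Bool.rec (fun _ => Nat) tJ_P36 tJ_P37 (Nat.ble (nat_lit 37) j)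
noncomputable def tJ_s38_40 (j : Nat) : Nat := @Bool.rec (fun _ => Nat) tJ_P38 tJ_P39 (Nat.ble (nat_lit 39) j)
noncomputable def tJ_s40_42 (j : Nat) : Nat := @Bool.rec (fun _ => Nat) tJ_P40 tJ_P41 (Nat.ble (nat_lit 41) j)
noncomputable def tJ_s28_42 (j : Nat) : Nat := @Bool.rec (fun _ => Nat) (@Bool.rec (fun _ => Nat) (@Bool.rec (fun _ => Nat) tJ_P28 (tJ_s29_31 j) (Nat.ble (nat_lit 29) j)) (@Bool.rec (fun _ => Nat) (tJ_s31_33 j) (tJ_s33_35 j) (Nat.ble (nat_lit 33) j)) (Nat.ble (nat_lit 31) j)) (@Bool.rec (fun _ => Nat) (@Bool.rec (fun _ => Nat) tJ_P35 (tJ_s36_38 j) (Nat.ble (nat_lit 36) j)) (@Bool.rec (fun _ => Nat) (tJ_s38_40 j) (tJ_s40_42 j) (Nat.ble (nat_lit 40) j)) (Nat.ble (nat_lit 38) j)) (Nat.ble (nat_lit 35) j)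
noncomputable def tJ_s43_45 (j : Nat) : Nat := @Bool.rec (fun _ => Nat) tJ_P43 tJ_P44 (Nat.ble (nat_lit 44) j)
noncomputable def tJ_s45_47 (j : Nat) : Nat := @Bool.rec (fun _ => Nat) tJ_P45 tJ_P46 (Nat.ble (nat_lit 46) j)
noncomputable def tJ_s47_49 (j : Nat) : Nat := @Bool.rec (fun _ => Nat) tJ_P47 tJ_P48 (Nat.ble (nat_lit 48) j)
noncomputable def tJ_s49_51 (j : Nat) : Nat := @Bool.rec (fun _ => Nat) tJ_P49 tJ_P50 (Nat.ble (nat_lit 50) j)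
noncomputable def tJ_s51_53 (j : Nat) : Nat := @Bool.rec (fun _ => Nat) tJ_P51 tJ_P52 (Nat.ble (nat_lit 52) j)
noncomputable def tJ_s53_55 (j : Nat) : Nat := @Bool.rec (fun _ => Nat) tJ_P53 tJ_P54 (Nat.ble (nat_lit 54) j)
noncomputable def tJ_s55_57 (j : Nat) : Nat := @Bool.rec (fun _ => Nat) tJ_P55 tJ_P56 (Nat.ble (nat_lit 56) j)
noncomputable def tJ_s42_57 (j : Nat) : Nat := @Bool.rec (fun _ => Nat) (@Bool.rec (fun _ => Nat) (@Bool.rec (fun _ => Nat) tJ_P42 (tJ_s43_45 j) (Nat.ble (nat_lit 43) j)) (@Bool.rec (fun _ => Nat) (tJ_s45_47 j) (tJ_s47_49 j) (Nat.ble (nat_lit 47) j)) (Nat.ble (nat_lit 45) j)) (@Bool.rec (fun _ => Nat) (@Bool.rec (fun _ => Nat) (tJ_s49_51 j) (tJ_s51_53 j) (Nat.ble (nat_lit 51) j)) (@Bool.rec (fun _ => Nat) (tJ_s53_55 j) (tJ_s55_57 j) (Nat.ble (nat_lit 55) j)) (Nat.ble (nat_lit 53) j)) (Nat.ble (nat_lit 49) j)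
noncomputable def tJ_s58_60 (j : Nat) : Nat := @Bool.rec (fun _ => Nat) tJ_P58 tJ_P59 (Nat.ble (nat_lit 59) j)
noncomputable def tJ_s60_62 (j : Nat) : Nat := @Bool.rec (fun _ => Nat) tJ_P60 tJ_P61 (Nat.ble (nat_lit 61) j)
noncomputable def tJ_s62_64 (j : Nat) : Nat := @Bool.rec (fun _ => Nat) tJ_P62 tJ_P63 (Nat.ble (nat_lit 63) j)
noncomputable def tJ_s65_67 (j : Nat) : Nat := @Bool.rec (fun _ => Nat) tJ_P65 tJ_P66 (Nat.ble (nat_lit 66) j)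
noncomputable def tJ_s67_69 (j : Nat) : Nat := @Bool.rec (fun _ => Nat) tJ_P67 tJ_P68 (Nat.ble (nat_lit 68) j)
noncomputable def tJ_s69_71 (j : Nat) : Nat := @Bool.rec (fun _ => Nat) tJ_P69 tJ_P70 (Nat.ble (nat_lit 70) j)
noncomputable def tJ_s57_71 (j : Nat) : Nat := @Bool.rec (fun _ => Nat) (@Bool.rec (fun _ => Nat) (@Bool.rec (fun _ => Nat) tJ_P57 (tJ_s58_60 j) (Nat.ble (nat_lit 58) j)) (@Bool.rec (fun _ => Nat) (tJ_s60_62 j) (tJ_s62_64 j) (Nat.ble (nat_lit 62) j)) (Nat.ble (nat_lit 60) j)) (@Bool.rec (fun _ => Nat) (@Bool.rec (fun _ => Nat) tJ_P64 (tJ_s65_67 j) (Nat.ble (nat_lit 65) j)) (@Bool.rec (fun _ => Nat) (tJ_s67_69 j) (tJ_s69_71 j) (Nat.ble (nat_lit 69) j)) (Nat.ble (nat_lit 67) j)) (Nat.ble (nat_lit 64) j)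
noncomputable def tJ_s72_74 (j : Nat) : Nat := @Bool.rec (fun _ => Nat) tJ_P72 tJ_P73 (Nat.ble (nat_lit 73) j)
noncomputable def tJ_s74_76 (j : Nat) : Nat := @Bool.rec (fun _ => Nat) tJ_P74 tJ_P75 (Nat.ble (nat_lit 75) j)
noncomputable def tJ_s76_78 (j : Nat) : Nat := @Bool.rec (fun _ => Nat) tJ_P76 tJ_P77 (Nat.ble (nat_lit 77) j)
noncomputable def tJ_s79_81 (j : Nat) : Nat := @Bool.rec (fun _ => Nat) tJ_P79 tJ_P80 (Nat.ble (nat_lit 80) j)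
noncomputable def tJ_s81_83 (j : Nat) : Nat := @Bool.rec (fun _ => Nat) tJ_P81 tJ_P82 (Nat.ble (nat_lit 82) j)
noncomputable def tJ_s83_85 (j : Nat) : Nat := @Bool.rec (fun _ => Nat) tJ_P83 tJ_P84 (Nat.ble (nat_lit 84) j)
noncomputable def tJ_s71_85 (j : Nat) : Nat := @Bool.rec (fun _ => Nat) (@Bool.rec (fun _ => Nat) (@Bool.rec (fun _ => Nat) tJ_P71 (tJ_s72_74 j) (Nat.ble (nat_lit 72) j)) (@Bool.rec (fun _ => Nat) (tJ_s74_76 j) (tJ_s76_78 j) (Nat.ble (nat_lit 76) j)) (Nat.ble (nat_lit 74) j)) (@Bool.rec (fun _ => Nat) (@Bool.rec (fun _ => Nat) tJ_P78 (tJ_s79_81 j) (Nat.ble (nat_lit 79) j)) (@Bool.rec (fun _ => Nat) (tJ_s81_83 j) (tJ_s83_85 j) (Nat.ble (nat_lit 83) j)) (Nat.ble (nat_lit 81) j)) (Nat.ble (nat_lit 78) j)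
noncomputable def tJ_s86_88 (j : Nat) : Nat := @Bool.rec (fun _ => Nat) tJ_P86 tJ_P87 (Nat.ble (nat_lit 87) j)
noncomputable def tJ_s88_90 (j : Nat) : Nat := @Bool.rec (fun _ => Nat) tJ_P88 tJ_P89 (Nat.ble (nat_lit 89) j)
noncomputable def tJ_s90_92 (j : Nat) : Nat := @Bool.rec (fun _ => Nat) tJ_P90 tJ_P91 (Nat.ble (nat_lit 91) j)
noncomputable def tJ_s93_95 (j : Nat) : Nat := @Bool.rec (fun _ => Nat) tJ_P93 tJ_P94 (Nat.ble (nat_lit 94) j)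
noncomputable def tJ_s95_97 (j : Nat) : Nat := @Bool.rec (fun _ => Nat) tJ_P95 tJ_P96 (Nat.ble (nat_lit 96) j)
noncomputable def tJ_s97_99 (j : Nat) : Nat := @Bool.rec (fun _ => Nat) tJ_P97 tJ_P98 (Nat.ble (nat_lit 98) j)
noncomputable def tJ_s85_99 (j : Nat) : Nat := @Bool.rec (fun _ => Nat) (@Bool.rec (fun _ => Nat) (@Bool.rec (fun _ => Nat) tJ_P85 (tJ_s86_88 j) (Nat.ble (nat_lit 86) j)) (@Bool.rec (fun _ => Nat) (tJ_s88_90 j) (tJ_s90_92 j) (Nat.ble (nat_lit 90) j)) (Nat.ble (nat_lit 88) j)) (@Bool.rec (fun _ => Nat) (@Bool.rec (fun _ => Nat) tJ_P92 (tJ_s93_95 j) (Nat.ble (nat_lit 93) j)) (@Bool.rec (fun _ => Nat) (tJ_s95_97 j) (tJ_s97_99 j) (Nat.ble (nat_lit 97) j)) (Nat.ble (nat_lit 95) j)) (Nat.ble (nat_lit 92) j)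
noncomputable def tJ_s100_102 (j : Nat) : Nat := @Bool.rec (fun _ => Nat) tJ_P100 tJ_P101 (Nat.ble (nat_lit 101) j)
noncomputable def tJ_s102_104 (j : Nat) : Nat := @Bool.rec (fun _ => Nat) tJ_P102 tJ_P103 (Nat.ble (nat_lit 103) j)
noncomputable def tJ_s104_106 (j : Nat) : Nat := @Bool.rec (fun _ => Nat) tJ_P104 tJ_P105 (Nat.ble (nat_lit 105) j)
noncomputable def tJ_s106_108 (j : Nat) : Nat := @Bool.rec (fun _ => Nat) tJ_P106 tJ_P107 (Nat.ble (nat_lit 107) j)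
noncomputable def tJ_s108_110 (j : Nat) : Nat := @Bool.rec (fun _ => Nat) tJ_P108 tJ_P109 (Nat.ble (nat_lit 109) j)
noncomputable def tJ_s110_112 (j : Nat) : Nat := @Bool.rec (fun _ => Nat) tJ_P110 tJ_P111 (Nat.ble (nat_lit 111) j)
noncomputable def tJ_s112_114 (j : Nat) : Nat := @Bool.rec (fun _ => Nat) tJ_P112 tJ_P113 (Nat.ble (nat_lit 113) j)
noncomputable def tJ_s99_114 (j : Nat) : Nat := @Bool.rec (fun _ => Nat) (@Bool.rec (fun _ => Nat) (@Bool.rec (fun _ => Nat) tJ_P99 (tJ_s100_102 j) (Nat.ble (nat_lit 100) j)) (@Bool.rec (fun _ => Nat) (tJ_s102_104 j) (tJ_s104_106 j) (Nat.ble (nat_lit 104) j)) (Nat.ble (nat_lit 102) j)) (@Bool.rec (fun _ => Nat) (@Bool.rec (fun _ => Nat) (tJ_s106_108 j) (tJ_s108_110 j) (Nat.ble (nat_lit 108) j)) (@Bool.rec (fun _ => Nat) (tJ_s110_112 j) (tJ_s112_114 j) (Nat.ble (nat_lit 112) j)) (Nat.ble (nat_lit 110) j)) (Nat.ble (nat_lit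 106) j)
noncomputable def tJ_s0_114 (j : Nat) : Nat := @Bool.rec (fun _ => Nat) (@Bool.rec (fun _ => Nat) (@Bool.rec (fun _ => Nat) (tJ_s0_14 j) (tJ_s14_28 j) (Nat.ble (nat_lit 14) j)) (@Bool.rec (fun _ => Nat) (tJ_s28_42 j) (tJ_s42_57 j) (Nat.ble (nat_lit 42) j)) (Nat.ble (nat_lit 28) j)) (@Bool.rec (fun _ => Nat) (@Bool.rec (fun _ => Nat) (tJ_s57_71 j) (tJ_s71_85 j) (Nat.ble (nat_lit 71) j)) (@Bool.rec (fun _ => Nat) (tJ_s85_99 j) (tJ_s99_114 j) (Nat.ble (nat_lit 99) j)) (Nat.ble (nat_lit 85) j)) (Nat.ble (nat_lit 57) j)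
noncomputable def tJ_s115_117 (j : Nat) : Nat := @Bool.rec (fun _ => Nat) tJ_P115 tJ_P116 (Nat.ble (nat_lit 116) j)
noncomputable def tJ_s117_119 (j : Nat) : Nat := @Bool.rec (fun _ => Nat) tJ_P117 tJ_P118 (Nat.ble (nat_lit 118) j)
noncomputable def tJ_s119_121 (j : Nat) : Nat := @Bool.rec (fun _ => Nat) tJ_P119 tJ_P120 (Nat.ble (nat_lit 120) j)
noncomputable def tJ_s122_124 (j : Nat) : Nat := @Bool.rec (fun _ => Nat) tJ_P122 tJ_P123 (Nat.ble (nat_lit 123) j)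
noncomputable def tJ_s124_126 (j : Nat) : Nat := @Bool.rec (fun _ => Nat) tJ_P124 tJ_P125 (Nat.ble (nat_lit 125) j)
noncomputable def tJ_s126_128 (j : Nat) : Nat := @Bool.rec (fun _ => Nat) tJ_P126 tJ_P127 (Nat.ble (nat_lit 127) j)
noncomputable def tJ_s114_128 (j : Nat) : Nat := @Bool.rec (fun _ => Nat) (@Bool.rec (fun _ => Nat) (@Bool.rec (fun _ => Nat) tJ_P114 (tJ_s115_117 j) (Nat.ble (nat_lit 115) j)) (@Bool.rec (fun _ => Nat) (tJ_s117_119 j) (tJ_s119_121 j) (Nat.ble (nat_lit 119) j)) (Nat.ble (nat_lit 117) j)) (@Bool.rec (fun _ => Nat) (@Bool.rec (fun _ => Nat) tJ_P121 (tJ_s122_124 j) (Nat.ble (nat_lit 122) j)) (@Bool.rec (fun _ => Nat) (tJ_s124_126 j) (tJ_s126_128 j) (Nat.ble (nat_lit 126) j)) (Nat.ble (nat_lit 124) j)) (Nat.ble (nat_lit 121) j)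
noncomputable def tJ_s129_131 (j : Nat) : Nat := @Bool.rec (fun _ => Nat) tJ_P129 tJ_P130 (Nat.ble (nat_lit 130) j)
noncomputable def tJ_s131_133 (j : Nat) : Nat := @Bool.rec (fun _ => Nat) tJ_P131 tJ_P132 (Nat.ble (nat_lit 132) j)
noncomputable def tJ_s133_135 (j : Nat) : Nat := @Bool.rec (fun _ => Nat) tJ_P133 tJ_P134 (Nat.ble (nat_lit 134) j)
noncomputable def tJ_s136_138 (j : Nat) : Nat := @Bool.rec (fun _ => Nat) tJ_P136 tJ_P137 (Nat.ble (nat_lit 137) j)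
noncomputable def tJ_s138_140 (j : Nat) : Nat := @Bool.rec (fun _ => Nat) tJ_P138 tJ_P139 (Nat.ble (nat_lit 139) j)
noncomputable def tJ_s140_142 (j : Nat) : Nat := @Bool.rec (fun _ => Nat) tJ_P140 tJ_P141 (Nat.ble (nat_lit 141) j)
noncomputable def tJ_s128_142 (j : Nat) : Nat := @Bool.rec (fun _ => Nat) (@Bool.rec (fun _ => Nat) (@Bool.rec (fun _ => Nat) tJ_P128 (tJ_s129_131 j) (Nat.ble (nat_lit 129) j)) (@Bool.rec (fun _ => Nat) (tJ_s131_133 j) (tJ_s133_135 j) (Nat.ble (nat_lit 133) j)) (Nat.ble (nat_lit 131) j)) (@Bool.rec (fun _ => Nat) (@Bool.rec (fun _ => Nat) tJ_P135 (tJ_s136_138 j) (Nat.ble (nat_lit 136) j)) (@Bool.rec (fun _ => Nat) (tJ_s138_140 j) (tJ_s140_142 j) (Nat.ble (nat_lit 140) j)) (Nat.ble (nat_lit 138) j)) (Nat.ble (nat_lit 135) j)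
noncomputable def tJ_s143_145 (j : Nat) : Nat := @Bool.rec (fun _ => Nat) tJ_P143 tJ_P144 (Nat.ble (nat_lit 144) j)
noncomputable def tJ_s145_147 (j : Nat) : Nat := @Bool.rec (fun _ => Nat) tJ_P145 tJ_P146 (Nat.ble (nat_lit 146) j)
noncomputable def tJ_s147_149 (j : Nat) : Nat := @Bool.rec (fun _ => Nat) tJ_P147 tJ_P148 (Nat.ble (nat_lit 148) j)
noncomputable def tJ_s150_152 (j : Nat) : Nat := @Bool.rec (fun _ => Nat) tJ_P150 tJ_P151 (Nat.ble (nat_lit 151) j)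
noncomputable def tJ_s152_154 (j : Nat) : Nat := @Bool.rec (fun _ => Nat) tJ_P152 tJ_P153 (Nat.ble (nat_lit 153) j)
noncomputable def tJ_s154_156 (j : Nat) : Nat := @Bool.rec (fun _ => Nat) tJ_P154 tJ_P155 (Nat.ble (nat_lit 155) j)
noncomputable def tJ_s142_156 (j : Nat) : Nat := @Bool.rec (fun _ => Nat) (@Bool.rec (fun _ => Nat) (@Bool.rec (fun _ => Nat) tJ_P142 (tJ_s143_145 j) (Nat.ble (nat_lit 143) j)) (@Bool.rec (fun _ => Nat) (tJ_s145_147 j) (tJ_s147_149 j) (Nat.ble (nat_lit 147) j)) (Nat.ble (nat_lit 145) j)) (@Bool.rec (fun _ => Nat) (@Bool.rec (fun _ => Nat) tJ_P149 (tJ_s150_152 j) (Nat.ble (nat_lit 150) j)) (@Bool.rec (fun _ => Nat) (tJ_s152_154 j) (tJ_s154_156 j) (Nat.ble (nat_lit 154) j)) (Nat.ble (nat_lit 152) j)) (Nat.ble (nat_lit 149) j)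
noncomputable def tJ_s157_159 (j : Nat) : Nat := @Bool.rec (fun _ => Nat) tJ_P157 tJ_P158 (Nat.ble (nat_lit 158) j)
noncomputable def tJ_s159_161 (j : Nat) : Nat := @Bool.rec (fun _ => Nat) tJ_P159 tJ_P160 (Nat.ble (nat_lit 160) j)
noncomputable def tJ_s161_163 (j : Nat) : Nat := @Bool.rec (fun _ => Nat) tJ_P161 tJ_P162 (Nat.ble (nat_lit 162) j)
noncomputable def tJ_s163_165 (j : Nat) : Nat := @Bool.rec (fun _ => Nat) tJ_P163 tJ_P164 (Nat.ble (nat_lit 164) j)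
noncomputable def tJ_s165_167 (j : Nat) : Nat := @Bool.rec (fun _ => Nat) tJ_P165 tJ_P166 (Nat.ble (nat_lit 166) j)
noncomputable def tJ_s167_169 (j : Nat) : Nat := @Bool.rec (fun _ => Nat) tJ_P167 tJ_P168 (Nat.ble (nat_lit 168) j)
noncomputable def tJ_s169_171 (j : Nat) : Nat := @Bool.rec (fun _ => Nat) tJ_P169 tJ_P170 (Nat.ble (nat_lit 170) j)
noncomputable def tJ_s156_171 (j : Nat) : Nat := @Bool.rec (fun _ => Nat) (@Bool.rec (fun _ => Nat) (@Bool.rec (fun _ => Nat) tJ_P156 (tJ_s157_159 j) (Nat.ble (nat_lit 157) j)) (@Bool.rec (fun _ => Nat) (tJ_s159_161 j) (tJ_s161_163 j) (Nat.ble (nat_lit 161) j)) (Nat.ble (nat_lit 159) j)) (@Bool.rec (fun _ => Nat) (@Bool.rec (fun _ => Nat) (tJ_s163_165 j) (tJ_s165_167 j) (Nat.ble (nat_lit 165) j)) (@Bool.rec (fun _ => Nat) (tJ_s167_169 j) (tJ_s169_171 j) (Nat.ble (nat_lit 169) j)) (Nat.ble (nat_lit 167) j)) (Nat.ble (nat_lit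 163) j)
noncomputable def tJ_s172_174 (j : Nat) : Nat := @Bool.rec (fun _ => Nat) tJ_P172 tJ_P173 (Nat.ble (nat_lit 173) j)
noncomputable def tJ_s174_176 (j : Nat) : Nat := @Bool.rec (fun _ => Nat) tJ_P174 tJ_P175 (Nat.ble (nat_lit 175) j)
noncomputable def tJ_s176_178 (j : Nat) : Nat := @Bool.rec (fun _ => Nat) tJ_P176 tJ_P177 (Nat.ble (nat_lit 177) j)
noncomputable def tJ_s179_181 (j : Nat) : Nat := @Bool.rec (fun _ => Nat) tJ_P179 tJ_P180 (Nat.ble (nat_lit 180) j)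
noncomputable def tJ_s181_183 (j : Nat) : Nat := @Bool.rec (fun _ => Nat) tJ_P181 tJ_P182 (Nat.ble (nat_lit 182) j)
noncomputable def tJ_s183_185 (j : Nat) : Nat := @Bool.rec (fun _ => Nat) tJ_P183 tJ_P184 (Nat.ble (nat_lit 184) j)
noncomputable def tJ_s171_185 (j : Nat) : Nat := @Bool.rec (fun _ => Nat) (@Bool.rec (fun _ => Nat) (@Bool.rec (fun _ => Nat) tJ_P171 (tJ_s172_174 j) (Nat.ble (nat_lit 172) j)) (@Bool.rec (fun _ => Nat) (tJ_s174_176 j) (tJ_s176_178 j) (Nat.ble (nat_lit 176) j)) (Nat.ble (nat_lit 174) j)) (@Bool.rec (fun _ => Nat) (@Bool.rec (fun _ => Nat) tJ_P178 (tJ_s179_181 j) (Nat.ble (nat_lit 179) j)) (@Bool.rec (fun _ => Nat) (tJ_s181_183 j) (tJ_s183_185 j) (Nat.ble (nat_lit 183) j)) (Nat.ble (nat_lit 181) j)) (Nat.ble (nat_lit 178) j)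
noncomputable def tJ_s186_188 (j : Nat) : Nat := @Bool.rec (fun _ => Nat) tJ_P186 tJ_P187 (Nat.ble (nat_lit 187) j)
noncomputable def tJ_s188_190 (j : Nat) : Nat := @Bool.rec (fun _ => Nat) tJ_P188 tJ_P189 (Nat.ble (nat_lit 189) j)
noncomputable def tJ_s190_192 (j : Nat) : Nat := @Bool.rec (fun _ => Nat) tJ_P190 tJ_P191 (Nat.ble (nat_lit 191) j)
noncomputable def tJ_s192_194 (j : Nat) : Nat := @Bool.rec (fun _ => Nat) tJ_P192 tJ_P193 (Nat.ble (nat_lit 193) j)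
noncomputable def tJ_s194_196 (j : Nat) : Nat := @Bool.rec (fun _ => Nat) tJ_P194 tJ_P195 (Nat.ble (nat_lit 195) j)
noncomputable def tJ_s196_198 (j : Nat) : Nat := @Bool.rec (fun _ => Nat) tJ_P196 tJ_P197 (Nat.ble (nat_lit 197) j)
noncomputable def tJ_s198_200 (j : Nat) : Nat := @Bool.rec (fun _ => Nat) tJ_P198 tJ_P199 (Nat.ble (nat_lit 199) j)
noncomputable def tJ_s185_200 (j : Nat) : Nat := @Bool.rec (fun _ => Nat) (@Bool.rec (fun _ => Nat) (@Bool.rec (fun _ => Nat) tJ_P185 (tJ_s186_188 j) (Nat.ble (nat_lit 186) j)) (@Bool.rec (fun _ => Nat) (tJ_s188_190 j) (tJ_s190_192 j) (Nat.ble (nat_lit 190) j)) (Nat.ble (nat_lit 188) j)) (@Bool.rec (fun _ => Nat) (@Bool.rec (fun _ => Nat) (tJ_s192_194 j) (tJ_s194_196 j) (Nat.ble (nat_lit 194) j)) (@Bool.rec (fun _ => Nat) (tJ_s196_198 j) (tJ_s198_200 j) (Nat.ble (nat_lit 198) j)) (Nat.ble (nat_lit 196) j)) (Nat.ble (nat_lit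 192) j)
noncomputable def tJ_s201_203 (j : Nat) : Nat := @Bool.rec (fun _ => Nat) tJ_P201 tJ_P202 (Nat.ble (nat_lit 202) j)
noncomputable def tJ_s203_205 (j : Nat) : Nat := @Bool.rec (fun _ => Nat) tJ_P203 tJ_P204 (Nat.ble (nat_lit 204) j)
noncomputable def tJ_s205_207 (j : Nat) : Nat := @Bool.rec (fun _ => Nat) tJ_P205 tJ_P206 (Nat.ble (nat_lit 206) j)
noncomputable def tJ_s208_210 (j : Nat) : Nat := @Bool.rec (fun _ => Nat) tJ_P208 tJ_P209 (Nat.ble (nat_lit 209) j)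
noncomputable def tJ_s210_212 (j : Nat) : Nat := @Bool.rec (fun _ => Nat) tJ_P210 tJ_P211 (Nat.ble (nat_lit 211) j)
noncomputable def tJ_s212_214 (j : Nat) : Nat := @Bool.rec (fun _ => Nat) tJ_P212 tJ_P213 (Nat.ble (nat_lit 213) j)
noncomputable def tJ_s200_214 (j : Nat) : Nat := @Bool.rec (fun _ => Nat) (@Bool.rec (fun _ => Nat) (@Bool.rec (fun _ => Nat) tJ_P200 (tJ_s201_203 j) (Nat.ble (nat_lit 201) j)) (@Bool.rec (fun _ => Nat) (tJ_s203_205 j) (tJ_s205_207 j) (Nat.ble (nat_lit 205) j)) (Nat.ble (nat_lit 203) j)) (@Bool.rec (fun _ => Nat) (@Bool.rec (fun _ => Nat) tJ_P207 (tJ_s208_210 j) (Nat.ble (nat_lit 208) j)) (@Bool.rec (fun _ => Nat) (tJ_s210_212 j) (tJ_s212_214 j) (Nat.ble (nat_lit 212) j)) (Nat.ble (nat_lit 210) j)) (Nat.ble (nat_lit 207) j)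
noncomputable def tJ_s215_217 (j : Nat) : Nat := @Bool.rec (fun _ => Nat) tJ_P215 tJ_P216 (Nat.ble (nat_lit 216) j)
noncomputable def tJ_s217_219 (j : Nat) : Nat := @Bool.rec (fun _ => Nat) tJ_P217 tJ_P218 (Nat.ble (nat_lit 218) j)
noncomputable def tJ_s219_221 (j : Nat) : Nat := @Bool.rec (fun _ => Nat) tJ_P219 tJ_P220 (Nat.ble (nat_lit 220) j)
noncomputable def tJ_s221_223 (j : Nat) : Nat := @Bool.rec (fun _ => Nat) tJ_P221 tJ_P222 (Nat.ble (nat_lit 222) j)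
noncomputable def tJ_s223_225 (j : Nat) : Nat := @Bool.rec (fun _ => Nat) tJ_P223 tJ_P224 (Nat.ble (nat_lit 224) j)
noncomputable def tJ_s225_227 (j : Nat) : Nat := @Bool.rec (fun _ => Nat) tJ_P225 tJ_P226 (Nat.ble (nat_lit 226) j)
noncomputable def tJ_s227_229 (j : Nat) : Nat := @Bool.rec (fun _ => Nat) tJ_P227 tJ_P228 (Nat.ble (nat_lit 228) j)
noncomputable def tJ_s214_229 (j : Nat) : Nat := @Bool.rec (fun _ => Nat) (@Bool.rec (fun _ => Nat) (@Bool.rec (fun _ => Nat) tJ_P214 (tJ_s215_217 j) (Nat.ble (nat_lit 215) j)) (@Bool.rec (fun _ => Nat) (tJ_s217_219 j) (tJ_s219_221 j) (Nat.ble (nat_lit 219) j)) (Nat.ble (nat_lit 217) j)) (@Bool.rec (fun _ => Nat) (@Bool.rec (fun _ => Nat) (tJ_s221_223 j) (tJ_s223_225 j) (Nat.ble (nat_lit 223) j)) (@Bool.rec (fun _ => Nat) (tJ_s225_227 j) (tJ_s227_229 j) (Nat.ble (nat_lit 227) j)) (Nat.ble (nat_lit 225) j)) (Nat.ble (nat_lit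 221) j)
noncomputable def tJ_s114_229 (j : Nat) : Nat := @Bool.rec (fun _ => Nat) (@Bool.rec (fun _ => Nat) (@Bool.rec (fun _ => Nat) (tJ_s114_128 j) (tJ_s128_142 j) (Nat.ble (nat_lit 128) j)) (@Bool.rec (fun _ => Nat) (tJ_s142_156 j) (tJ_s156_171 j) (Nat.ble (nat_lit 156) j)) (Nat.ble (nat_lit 142) j)) (@Bool.rec (fun _ => Nat) (@Bool.rec (fun _ => Nat) (tJ_s171_185 j) (tJ_s185_200 j) (Nat.ble (nat_lit 185) j)) (@Bool.rec (fun _ => Nat) (tJ_s200_214 j) (tJ_s214_229 j) (Nat.ble (nat_lit 214) j)) (Nat.ble (nat_lit 200) j)) (Nat.ble (nat_lit 171) j)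
noncomputable def tJ_s230_232 (j : Nat) : Nat := @Bool.rec (fun _ => Nat) tJ_P230 tJ_P231 (Nat.ble (nat_lit 231) j)
noncomputable def tJ_s232_234 (j : Nat) : Nat := @Bool.rec (fun _ => Nat) tJ_P232 tJ_P233 (Nat.ble (nat_lit 233) j)
noncomputable def tJ_s234_236 (j : Nat) : Nat := @Bool.rec (fun _ => Nat) tJ_P234 tJ_P235 (Nat.ble (nat_lit 235) j)
noncomputable def tJ_s237_239 (j : Nat) : Nat := @Bool.rec (fun _ => Nat) tJ_P237 tJ_P238 (Nat.ble (nat_lit 238) j)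
noncomputable def tJ_s239_241 (j : Nat) : Nat := @Bool.rec (fun _ => Nat) tJ_P239 tJ_P240 (Nat.ble (nat_lit 240) j)
noncomputable def tJ_s241_243 (j : Nat) : Nat := @Bool.rec (fun _ => Nat) tJ_P241 tJ_P242 (Nat.ble (nat_lit 242) j)
noncomputable def tJ_s229_243 (j : Nat) : Nat := @Bool.rec (fun _ => Nat) (@Bool.rec (fun _ => Nat) (@Bool.rec (fun _ => Nat) tJ_P229 (tJ_s230_232 j) (Nat.ble (nat_lit 230) j)) (@Bool.rec (fun _ => Nat) (tJ_s232_234 j) (tJ_s234_236 j) (Nat.ble (nat_lit 234) j)) (Nat.ble (nat_lit 232) j)) (@Bool.rec (fun _ => Nat) (@Bool.rec (fun _ => Nat) tJ_P236 (tJ_s237_239 j) (Nat.ble (nat_lit 237) j)) (@Bool.rec (fun _ => Nat) (tJ_s239_241 j) (tJ_s241_243 j) (Nat.ble (nat_lit 241) j)) (Nat.ble (nat_lit 239) j)) (Nat.ble (nat_lit 236) j)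
noncomputable def tJ_s244_246 (j : Nat) : Nat := @Bool.rec (fun _ => Nat) tJ_P244 tJ_P245 (Nat.ble (nat_lit 245) j)
noncomputable def tJ_s246_248 (j : Nat) : Nat := @Bool.rec (fun _ => Nat) tJ_P246 tJ_P247 (Nat.ble (nat_lit 247) j)
noncomputable def tJ_s248_250 (j : Nat) : Nat := @Bool.rec (fun _ => Nat) tJ_P248 tJ_P249 (Nat.ble (nat_lit 249) j)
noncomputable def tJ_s251_253 (j : Nat) : Nat := @Bool.rec (fun _ => Nat) tJ_P251 tJ_P252 (Nat.ble (nat_lit 252) j)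
noncomputable def tJ_s253_255 (j : Nat) : Nat := @Bool.rec (fun _ => Nat) tJ_P253 tJ_P254 (Nat.ble (nat_lit 254) j)
noncomputable def tJ_s255_257 (j : Nat) : Nat := @Bool.rec (fun _ => Nat) tJ_P255 tJ_P256 (Nat.ble (nat_lit 256) j)
noncomputable def tJ_s243_257 (j : Nat) : Nat := @Bool.rec (fun _ => Nat) (@Bool.rec (fun _ => Nat) (@Bool.rec (fun _ => Nat) tJ_P243 (tJ_s244_246 j) (Nat.ble (nat_lit 244) j)) (@Bool.rec (fun _ => Nat) (tJ_s246_248 j) (tJ_s248_250 j) (Nat.ble (nat_lit 248) j)) (Nat.ble (nat_lit 246) j)) (@Bool.rec (fun _ => Nat) (@Bool.rec (fun _ => Nat) tJ_P250 (tJ_s251_253 j) (Nat.ble (nat_lit 251) j)) (@Bool.rec (fun _ => Nat) (tJ_s253_255 j) (tJ_s255_257 j) (Nat.ble (nat_lit 255) j)) (Nat.ble (nat_lit 253) j)) (Nat.ble (nat_lit 250) j)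
noncomputable def tJ_s258_260 (j : Nat) : Nat := @Bool.rec (fun _ => Nat) tJ_P258 tJ_P259 (Nat.ble (nat_lit 259) j)
noncomputable def tJ_s260_262 (j : Nat) : Nat := @Bool.rec (fun _ => Nat) tJ_P260 tJ_P261 (Nat.ble (nat_lit 261) j)
noncomputable def tJ_s262_264 (j : Nat) : Nat := @Bool.rec (fun _ => Nat) tJ_P262 tJ_P263 (Nat.ble (nat_lit 263) j)
noncomputable def tJ_s265_267 (j : Nat) : Nat := @Bool.rec (fun _ => Nat) tJ_P265 tJ_P266 (Nat.ble (nat_lit 266) j)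
noncomputable def tJ_s267_269 (j : Nat) : Nat := @Bool.rec (fun _ => Nat) tJ_P267 tJ_P268 (Nat.ble (nat_lit 268) j)
noncomputable def tJ_s269_271 (j : Nat) : Nat := @Bool.rec (fun _ => Nat) tJ_P269 tJ_P270 (Nat.ble (nat_lit 270) j)
noncomputable def tJ_s257_271 (j : Nat) : Nat := @Bool.rec (fun _ => Nat) (@Bool.rec (fun _ => Nat) (@Bool.rec (fun _ => Nat) tJ_P257 (tJ_s258_260 j) (Nat.ble (nat_lit 258) j)) (@Bool.rec (fun _ => Nat) (tJ_s260_262 j) (tJ_s262_264 j) (Nat.ble (nat_lit 262) j)) (Nat.ble (nat_lit 260) j)) (@Bool.rec (fun _ => Nat) (@Bool.rec (fun _ => Nat) tJ_P264 (tJ_s265_267 j) (Nat.ble (nat_lit 265) j)) (@Bool.rec (fun _ => Nat) (tJ_s267_269 j) (tJ_s269_271 j) (Nat.ble (nat_lit 269) j)) (Nat.ble (nat_lit 267) j)) (Nat.ble (nat_lit 264) j)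
noncomputable def tJ_s272_274 (j : Nat) : Nat := @Bool.rec (fun _ => Nat) tJ_P272 tJ_P273 (Nat.ble (nat_lit 273) j)
noncomputable def tJ_s274_276 (j : Nat) : Nat := @Bool.rec (fun _ => Nat) tJ_P274 tJ_P275 (Nat.ble (nat_lit 275) j)
noncomputable def tJ_s276_278 (j : Nat) : Nat := @Bool.rec (fun _ => Nat) tJ_P276 tJ_P277 (Nat.ble (nat_lit 277) j)
noncomputable def tJ_s278_280 (j : Nat) : Nat := @Bool.rec (fun _ => Nat) tJ_P278 tJ_P279 (Nat.ble (nat_lit 279) j)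
noncomputable def tJ_s280_282 (j : Nat) : Nat := @Bool.rec (fun _ => Nat) tJ_P280 tJ_P281 (Nat.ble (nat_lit 281) j)
noncomputable def tJ_s282_284 (j : Nat) : Nat := @Bool.rec (fun _ => Nat) tJ_P282 tJ_P283 (Nat.ble (nat_lit 283) j)
noncomputable def tJ_s284_286 (j : Nat) : Nat := @Bool.rec (fun _ => Nat) tJ_P284 tJ_P285 (Nat.ble (nat_lit 285) j)
noncomputable def tJ_s271_286 (j : Nat) : Nat := @Bool.rec (fun _ => Nat) (@Bool.rec (fun _ => Nat) (@Bool.rec (fun _ => Nat) tJ_P271 (tJ_s272_274 j) (Nat.ble (nat_lit 272) j)) (@Bool.rec (fun _ => Nat) (tJ_s274_276 j) (tJ_s276_278 j) (Nat.ble (nat_lit 276) j)) (Nat.ble (nat_lit 274) j)) (@Bool.rec (fun _ => Nat) (@Bool.rec (fun _ => Nat) (tJ_s278_280 j) (tJ_s280_282 j) (Nat.ble (nat_lit 280) j)) (@Bool.rec (fun _ => Nat) (tJ_s282_284 j) (tJ_s284_286 j) (Nat.ble (nat_lit 284) j)) (Nat.ble (nat_lit 282) j)) (Nat.ble (nat_lit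 278) j)
noncomputable def tJ_s287_289 (j : Nat) : Nat := @Bool.rec (fun _ => Nat) tJ_P287 tJ_P288 (Nat.ble (nat_lit 288) j)
noncomputable def tJ_s289_291 (j : Nat) : Nat := @Bool.rec (fun _ => Nat) tJ_P289 tJ_P290 (Nat.ble (nat_lit 290) j)
noncomputable def tJ_s291_293 (j : Nat) : Nat := @Bool.rec (fun _ => Nat) tJ_P291 tJ_P292 (Nat.ble (nat_lit 292) j)
noncomputable def tJ_s294_296 (j : Nat) : Nat := @Bool.rec (fun _ => Nat) tJ_P294 tJ_P295 (Nat.ble (nat_lit 295) j)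
noncomputable def tJ_s296_298 (j : Nat) : Nat := @Bool.rec (fun _ => Nat) tJ_P296 tJ_P297 (Nat.ble (nat_lit 297) j)
noncomputable def tJ_s298_300 (j : Nat) : Nat := @Bool.rec (fun _ => Nat) tJ_P298 tJ_P299 (Nat.ble (nat_lit 299) j)
noncomputable def tJ_s286_300 (j : Nat) : Nat := @Bool.rec (fun _ => Nat) (@Bool.rec (fun _ => Nat) (@Bool.rec (fun _ => Nat) tJ_P286 (tJ_s287_289 j) (Nat.ble (nat_lit 287) j)) (@Bool.rec (fun _ => Nat) (tJ_s289_291 j) (tJ_s291_293 j) (Nat.ble (nat_lit 291) j)) (Nat.ble (nat_lit 289) j)) (@Bool.rec (fun _ => Nat) (@Bool.rec (fun _ => Nat) tJ_P293 (tJ_s294_296 j) (Nat.ble (nat_lit 294) j)) (@Bool.rec (fun _ => Nat) (tJ_s296_298 j) (tJ_s298_300 j) (Nat.ble (nat_lit 298) j)) (Nat.ble (nat_lit 296) j)) (Nat.ble (nat_lit 293) j)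
noncomputable def tJ_s301_303 (j : Nat) : Nat := @Bool.rec (fun _ => Nat) tJ_P301 tJ_P302 (Nat.ble (nat_lit 302) j)
noncomputable def tJ_s303_305 (j : Nat) : Nat := @Bool.rec (fun _ => Nat) tJ_P303 tJ_P304 (Nat.ble (nat_lit 304) j)
noncomputable def tJ_s305_307 (j : Nat) : Nat := @Bool.rec (fun _ => Nat) tJ_P305 tJ_P306 (Nat.ble (nat_lit 306) j)
noncomputable def tJ_s308_310 (j : Nat) : Nat := @Bool.rec (fun _ => Nat) tJ_P308 tJ_P309 (Nat.ble (nat_lit 309) j)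
noncomputable def tJ_s310_312 (j : Nat) : Nat := @Bool.rec (fun _ => Nat) tJ_P310 tJ_P311 (Nat.ble (nat_lit 311) j)
noncomputable def tJ_s312_314 (j : Nat) : Nat := @Bool.rec (fun _ => Nat) tJ_P312 tJ_P313 (Nat.ble (nat_lit 313) j)
noncomputable def tJ_s300_314 (j : Nat) : Nat := @Bool.rec (fun _ => Nat) (@Bool.rec (fun _ => Nat) (@Bool.rec (fun _ => Nat) tJ_P300 (tJ_s301_303 j) (Nat.ble (nat_lit 301) j)) (@Bool.rec (fun _ => Nat) (tJ_s303_305 j) (tJ_s305_307 j) (Nat.ble (nat_lit 305) j)) (Nat.ble (nat_lit 303) j)) (@Bool.rec (fun _ => Nat) (@Bool.rec (fun _ => Nat) tJ_P307 (tJ_s308_310 j) (Nat.ble (nat_lit 308) j)) (@Bool.rec (fun _ => Nat) (tJ_s310_312 j) (tJ_s312_314 j) (Nat.ble (nat_lit 312) j)) (Nat.ble (nat_lit 310) j)) (Nat.ble (nat_lit 307) j)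
noncomputable def tJ_s315_317 (j : Nat) : Nat := @Bool.rec (fun _ => Nat) tJ_P315 tJ_P316 (Nat.ble (nat_lit 316) j)
noncomputable def tJ_s317_319 (j : Nat) : Nat := @Bool.rec (fun _ => Nat) tJ_P317 tJ_P318 (Nat.ble (nat_lit 318) j)
noncomputable def tJ_s319_321 (j : Nat) : Nat := @Bool.rec (fun _ => Nat) tJ_P319 tJ_P320 (Nat.ble (nat_lit 320) j)
noncomputable def tJ_s322_324 (j : Nat) : Nat := @Bool.rec (fun _ => Nat) tJ_P322 tJ_P323 (Nat.ble (nat_lit 323) j)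
noncomputable def tJ_s324_326 (j : Nat) : Nat := @Bool.rec (fun _ => Nat) tJ_P324 tJ_P325 (Nat.ble (nat_lit 325) j)
noncomputable def tJ_s326_328 (j : Nat) : Nat := @Bool.rec (fun _ => Nat) tJ_P326 tJ_P327 (Nat.ble (nat_lit 327) j)
noncomputable def tJ_s314_328 (j : Nat) : Nat := @Bool.rec (fun _ => Nat) (@Bool.rec (fun _ => Nat) (@Bool.rec (fun _ => Nat) tJ_P314 (tJ_s315_317 j) (Nat.ble (nat_lit 315) j)) (@Bool.rec (fun _ => Nat) (tJ_s317_319 j) (tJ_s319_321 j) (Nat.ble (nat_lit 319) j)) (Nat.ble (nat_lit 317) j)) (@Bool.rec (fun _ => Nat) (@Bool.rec (fun _ => Nat) tJ_P321 (tJ_s322_324 j) (Nat.ble (nat_lit 322) j)) (@Bool.rec (fun _ => Nat) (tJ_s324_326 j) (tJ_s326_328 j) (Nat.ble (nat_lit 326) j)) (Nat.ble (nat_lit 324) j)) (Nat.ble (nat_lit 321) j)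
noncomputable def tJ_s329_331 (j : Nat) : Nat := @Bool.rec (fun _ => Nat) tJ_P329 tJ_P330 (Nat.ble (nat_lit 330) j)
noncomputable def tJ_s331_333 (j : Nat) : Nat := @Bool.rec (fun _ => Nat) tJ_P331 tJ_P332 (Nat.ble (nat_lit 332) j)
noncomputable def tJ_s333_335 (j : Nat) : Nat := @Bool.rec (fun _ => Nat) tJ_P333 tJ_P334 (Nat.ble (nat_lit 334) j)
noncomputable def tJ_s335_337 (j : Nat) : Nat := @Bool.rec (fun _ => Nat) tJ_P335 tJ_P336 (Nat.ble (nat_lit 336) j)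
noncomputable def tJ_s337_339 (j : Nat) : Nat := @Bool.rec (fun _ => Nat) tJ_P337 tJ_P338 (Nat.ble (nat_lit 338) j)
noncomputable def tJ_s339_341 (j : Nat) : Nat := @Bool.rec (fun _ => Nat) tJ_P339 tJ_P340 (Nat.ble (nat_lit 340) j)
noncomputable def tJ_s341_343 (j : Nat) : Nat := @Bool.rec (fun _ => Nat) tJ_P341 tJ_P342 (Nat.ble (nat_lit 342) j)
noncomputable def tJ_s328_343 (j : Nat) : Nat := @Bool.rec (fun _ => Nat) (@Bool.rec (fun _ => Nat) (@Bool.rec (fun _ => Nat) tJ_P328 (tJ_s329_331 j) (Nat.ble (nat_lit 329) j)) (@Bool.rec (fun _ => Nat) (tJ_s331_333 j) (tJ_s333_335 j) (Nat.ble (nat_lit 333) j)) (Nat.ble (nat_lit 331) j)) (@Bool.rec (fun _ => Nat) (@Bool.rec (fun _ => Nat) (tJ_s335_337 j) (tJ_s337_339 j) (Nat.ble (nat_lit 337) j)) (@Bool.rec (fun _ => Nat) (tJ_s339_341 j) (tJ_s341_343 j) (Nat.ble (nat_lit 341) j)) (Nat.ble (nat_lit 339) j)) (Nat.ble (nat_lit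 335) j)
noncomputable def tJ_s229_343 (j : Nat) : Nat := @Bool.rec (fun _ => Nat) (@Bool.rec (fun _ => Nat) (@Bool.rec (fun _ => Nat) (tJ_s229_243 j) (tJ_s243_257 j) (Nat.ble (nat_lit 243) j)) (@Bool.rec (fun _ => Nat) (tJ_s257_271 j) (tJ_s271_286 j) (Nat.ble (nat_lit 271) j)) (Nat.ble (nat_lit 257) j)) (@Bool.rec (fun _ => Nat) (@Bool.rec (fun _ => Nat) (tJ_s286_300 j) (tJ_s300_314 j) (Nat.ble (nat_lit 300) j)) (@Bool.rec (fun _ => Nat) (tJ_s314_328 j) (tJ_s328_343 j) (Nat.ble (nat_lit 328) j)) (Nat.ble (nat_lit 314) j)) (Nat.ble (nat_lit 286) j)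
noncomputable def tJ_s344_346 (j : Nat) : Nat := @Bool.rec (fun _ => Nat) tJ_P344 tJ_P345 (Nat.ble (nat_lit 345) j)
noncomputable def tJ_s346_348 (j : Nat) : Nat := @Bool.rec (fun _ => Nat) tJ_P346 tJ_P347 (Nat.ble (nat_lit 347) j)
noncomputable def tJ_s348_350 (j : Nat) : Nat := @Bool.rec (fun _ => Nat) tJ_P348 tJ_P349 (Nat.ble (nat_lit 349) j)
noncomputable def tJ_s351_353 (j : Nat) : Nat := @Bool.rec (fun _ => Nat) tJ_P351 tJ_P352 (Nat.ble (nat_lit 352) j)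
noncomputable def tJ_s353_355 (j : Nat) : Nat := @Bool.rec (fun _ => Nat) tJ_P353 tJ_P354 (Nat.ble (nat_lit 354) j)
noncomputable def tJ_s355_357 (j : Nat) : Nat := @Bool.rec (fun _ => Nat) tJ_P355 tJ_P356 (Nat.ble (nat_lit 356) j)
noncomputable def tJ_s343_357 (j : Nat) : Nat := @Bool.rec (fun _ => Nat) (@Bool.rec (fun _ => Nat) (@Bool.rec (fun _ => Nat) tJ_P343 (tJ_s344_346 j) (Nat.ble (nat_lit 344) j)) (@Bool.rec (fun _ => Nat) (tJ_s346_348 j) (tJ_s348_350 j) (Nat.ble (nat_lit 348) j)) (Nat.ble (nat_lit 346) j)) (@Bool.rec (fun _ => Nat) (@Bool.rec (fun _ => Nat) tJ_P350 (tJ_s351_353 j) (Nat.ble (nat_lit 351) j)) (@Bool.rec (fun _ => Nat) (tJ_s353_355 j) (tJ_s355_357 j) (Nat.ble (nat_lit 355) j)) (Nat.ble (nat_lit 353) j)) (Nat.ble (nat_lit 350) j)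
noncomputable def tJ_s358_360 (j : Nat) : Nat := @Bool.rec (fun _ => Nat) tJ_P358 tJ_P359 (Nat.ble (nat_lit 359) j)
noncomputable def tJ_s360_362 (j : Nat) : Nat := @Bool.rec (fun _ => Nat) tJ_P360 tJ_P361 (Nat.ble (nat_lit 361) j)
noncomputable def tJ_s362_364 (j : Nat) : Nat := @Bool.rec (fun _ => Nat) tJ_P362 tJ_P363 (Nat.ble (nat_lit 363) j)
noncomputable def tJ_s365_367 (j : Nat) : Nat := @Bool.rec (fun _ => Nat) tJ_P365 tJ_P366 (Nat.ble (nat_lit 366) j)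
noncomputable def tJ_s367_369 (j : Nat) : Nat := @Bool.rec (fun _ => Nat) tJ_P367 tJ_P368 (Nat.ble (nat_lit 368) j)
noncomputable def tJ_s369_371 (j : Nat) : Nat := @Bool.rec (fun _ => Nat) tJ_P369 tJ_P370 (Nat.ble (nat_lit 370) j)
noncomputable def tJ_s357_371 (j : Nat) : Nat := @Bool.rec (fun _ => Nat) (@Bool.rec (fun _ => Nat) (@Bool.rec (fun _ => Nat) tJ_P357 (tJ_s358_360 j) (Nat.ble (nat_lit 358) j)) (@Bool.rec (fun _ => Nat) (tJ_s360_362 j) (tJ_s362_364 j) (Nat.ble (nat_lit 362) j)) (Nat.ble (nat_lit 360) j)) (@Bool.rec (fun _ => Nat) (@Bool.rec (fun _ => Nat) tJ_P364 (tJ_s365_367 j) (Nat.ble (nat_lit 365) j)) (@Bool.rec (fun _ => Nat) (tJ_s367_369 j) (tJ_s369_371 j) (Nat.ble (nat_lit 369) j)) (Nat.ble (nat_lit 367) j)) (Nat.ble (nat_lit 364) j)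
noncomputable def tJ_s372_374 (j : Nat) : Nat := @Bool.rec (fun _ => Nat) tJ_P372 tJ_P373 (Nat.ble (nat_lit 373) j)
noncomputable def tJ_s374_376 (j : Nat) : Nat := @Bool.rec (fun _ => Nat) tJ_P374 tJ_P375 (Nat.ble (nat_lit 375) j)
noncomputable def tJ_s376_378 (j : Nat) : Nat := @Bool.rec (fun _ => Nat) tJ_P376 tJ_P377 (Nat.ble (nat_lit 377) j)
noncomputable def tJ_s379_381 (j : Nat) : Nat := @Bool.rec (fun _ => Nat) tJ_P379 tJ_P380 (Nat.ble (nat_lit 380) j)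
noncomputable def tJ_s381_383 (j : Nat) : Nat := @Bool.rec (fun _ => Nat) tJ_P381 tJ_P382 (Nat.ble (nat_lit 382) j)
noncomputable def tJ_s383_385 (j : Nat) : Nat := @Bool.rec (fun _ => Nat) tJ_P383 tJ_P384 (Nat.ble (nat_lit 384) j)
noncomputable def tJ_s371_385 (j : Nat) : Nat := @Bool.rec (fun _ => Nat) (@Bool.rec (fun _ => Nat) (@Bool.rec (fun _ => Nat) tJ_P371 (tJ_s372_374 j) (Nat.ble (nat_lit 372) j)) (@Bool.rec (fun _ => Nat) (tJ_s374_376 j) (tJ_s376_378 j) (Nat.ble (nat_lit 376) j)) (Nat.ble (nat_lit 374) j)) (@Bool.rec (fun _ => Nat) (@Bool.rec (fun _ => Nat) tJ_P378 (tJ_s379_381 j) (Nat.ble (nat_lit 379) j)) (@Bool.rec (fun _ => Nat) (tJ_s381_383 j) (tJ_s383_385 j) (Nat.ble (nat_lit 383) j)) (Nat.ble (nat_lit 381) j)) (Nat.ble (nat_lit 378) j)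
noncomputable def tJ_s386_388 (j : Nat) : Nat := @Bool.rec (fun _ => Nat) tJ_P386 tJ_P387 (Nat.ble (nat_lit 387) j)
noncomputable def tJ_s388_390 (j : Nat) : Nat := @Bool.rec (fun _ => Nat) tJ_P388 tJ_P389 (Nat.ble (nat_lit 389) j)
noncomputable def tJ_s390_392 (j : Nat) : Nat := @Bool.rec (fun _ => Nat) tJ_P390 tJ_P391 (Nat.ble (nat_lit 391) j)
noncomputable def tJ_s392_394 (j : Nat) : Nat := @Bool.rec (fun _ => Nat) tJ_P392 tJ_P393 (Nat.ble (nat_lit 393) j)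
noncomputable def tJ_s394_396 (j : Nat) : Nat := @Bool.rec (fun _ => Nat) tJ_P394 tJ_P395 (Nat.ble (nat_lit 395) j)
noncomputable def tJ_s396_398 (j : Nat) : Nat := @Bool.rec (fun _ => Nat) tJ_P396 tJ_P397 (Nat.ble (nat_lit 397) j)
noncomputable def tJ_s398_400 (j : Nat) : Nat := @Bool.rec (fun _ => Nat) tJ_P398 tJ_P399 (Nat.ble (nat_lit 399) j)
noncomputable def tJ_s385_400 (j : Nat) : Nat := @Bool.rec (fun _ => Nat) (@Bool.rec (fun _ => Nat) (@Bool.rec (fun _ => Nat) tJ_P385 (tJ_s386_388 j) (Nat.ble (nat_lit 386) j)) (@Bool.rec (fun _ => Nat) (tJ_s388_390 j) (tJ_s390_392 j) (Nat.ble (nat_lit 390) j)) (Nat.ble (nat_lit 388) j)) (@Bool.rec (fun _ => Nat) (@Bool.rec (fun _ => Nat) (tJ_s392_394 j) (tJ_s394_396 j) (Nat.ble (nat_lit 394) j)) (@Bool.rec (fun _ => Nat) (tJ_s396_398 j) (tJ_s398_400 j) (Nat.ble (nat_lit 398) j)) (Nat.ble (nat_lit 396) j)) (Nat.ble (nat_lit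 392) j)
noncomputable def tJ_s401_403 (j : Nat) : Nat := @Bool.rec (fun _ => Nat) tJ_P401 tJ_P402 (Nat.ble (nat_lit 402) j)
noncomputable def tJ_s403_405 (j : Nat) : Nat := @Bool.rec (fun _ => Nat) tJ_P403 tJ_P404 (Nat.ble (nat_lit 404) j)
noncomputable def tJ_s405_407 (j : Nat) : Nat := @Bool.rec (fun _ => Nat) tJ_P405 tJ_P406 (Nat.ble (nat_lit 406) j)
noncomputable def tJ_s408_410 (j : Nat) : Nat := @Bool.rec (fun _ => Nat) tJ_P408 tJ_P409 (Nat.ble (nat_lit 409) j)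
noncomputable def tJ_s410_412 (j : Nat) : Nat := @Bool.rec (fun _ => Nat) tJ_P410 tJ_P411 (Nat.ble (nat_lit 411) j)
noncomputable def tJ_s412_414 (j : Nat) : Nat := @Bool.rec (fun _ => Nat) tJ_P412 tJ_P413 (Nat.ble (nat_lit 413) j)
noncomputable def tJ_s400_414 (j : Nat) : Nat := @Bool.rec (fun _ => Nat) (@Bool.rec (fun _ => Nat) (@Bool.rec (fun _ => Nat) tJ_P400 (tJ_s401_403 j) (Nat.ble (nat_lit 401) j)) (@Bool.rec (fun _ => Nat) (tJ_s403_405 j) (tJ_s405_407 j) (Nat.ble (nat_lit 405) j)) (Nat.ble (nat_lit 403) j)) (@Bool.rec (fun _ => Nat) (@Bool.rec (fun _ => Nat) tJ_P407 (tJ_s408_410 j) (Nat.ble (nat_lit 408) j)) (@Bool.rec (fun _ => Nat) (tJ_s410_412 j) (tJ_s412_414 j) (Nat.ble (nat_lit 412) j)) (Nat.ble (nat_lit 410) j)) (Nat.ble (nat_lit 407) j)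
noncomputable def tJ_s415_417 (j : Nat) : Nat := @Bool.rec (fun _ => Nat) tJ_P415 tJ_P416 (Nat.ble (nat_lit 416) j)
noncomputable def tJ_s417_419 (j : Nat) : Nat := @Bool.rec (fun _ => Nat) tJ_P417 tJ_P418 (Nat.ble (nat_lit 418) j)
noncomputable def tJ_s419_421 (j : Nat) : Nat := @Bool.rec (fun _ => Nat) tJ_P419 tJ_P420 (Nat.ble (nat_lit 420) j)
noncomputable def tJ_s421_423 (j : Nat) : Nat := @Bool.rec (fun _ => Nat) tJ_P421 tJ_P422 (Nat.ble (nat_lit 422) j)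
noncomputable def tJ_s423_425 (j : Nat) : Nat := @Bool.rec (fun _ => Nat) tJ_P423 tJ_P424 (Nat.ble (nat_lit 424) j)
noncomputable def tJ_s425_427 (j : Nat) : Nat := @Bool.rec (fun _ => Nat) tJ_P425 tJ_P426 (Nat.ble (nat_lit 426) j)
noncomputable def tJ_s427_429 (j : Nat) : Nat := @Bool.rec (fun _ => Nat) tJ_P427 tJ_P428 (Nat.ble (nat_lit 428) j)
noncomputable def tJ_s414_429 (j : Nat) : Nat := @Bool.rec (fun _ => Nat) (@Bool.rec (fun _ => Nat) (@Bool.rec (fun _ => Nat) tJ_P414 (tJ_s415_417 j) (Nat.ble (nat_lit 415) j)) (@Bool.rec (fun _ => Nat) (tJ_s417_419 j) (tJ_s419_421 j) (Nat.ble (nat_lit 419) j)) (Nat.ble (nat_lit 417) j)) (@Bool.rec (fun _ => Nat) (@Bool.rec (fun _ => Nat) (tJ_s421_423 j) (tJ_s423_425 j) (Nat.ble (nat_lit 423) j)) (@Bool.rec (fun _ => Nat) (tJ_s425_427 j) (tJ_s427_429 j) (Nat.ble (nat_lit 427) j)) (Nat.ble (nat_lit 425) j)) (Nat.ble (nat_lit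 421) j)
noncomputable def tJ_s430_432 (j : Nat) : Nat := @Bool.rec (fun _ => Nat) tJ_P430 tJ_P431 (Nat.ble (nat_lit 431) j)
noncomputable def tJ_s432_434 (j : Nat) : Nat := @Bool.rec (fun _ => Nat) tJ_P432 tJ_P433 (Nat.ble (nat_lit 433) j)
noncomputable def tJ_s434_436 (j : Nat) : Nat := @Bool.rec (fun _ => Nat) tJ_P434 tJ_P435 (Nat.ble (nat_lit 435) j)
noncomputable def tJ_s437_439 (j : Nat) : Nat := @Bool.rec (fun _ => Nat) tJ_P437 tJ_P438 (Nat.ble (nat_lit 438) j)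
noncomputable def tJ_s439_441 (j : Nat) : Nat := @Bool.rec (fun _ => Nat) tJ_P439 tJ_P440 (Nat.ble (nat_lit 440) j)
noncomputable def tJ_s441_443 (j : Nat) : Nat := @Bool.rec (fun _ => Nat) tJ_P441 tJ_P442 (Nat.ble (nat_lit 442) j)
noncomputable def tJ_s429_443 (j : Nat) : Nat := @Bool.rec (fun _ => Nat) (@Bool.rec (fun _ => Nat) (@Bool.rec (fun _ => Nat) tJ_P429 (tJ_s430_432 j) (Nat.ble (nat_lit 430) j)) (@Bool.rec (fun _ => Nat) (tJ_s432_434 j) (tJ_s434_436 j) (Nat.ble (nat_lit 434) j)) (Nat.ble (nat_lit 432) j)) (@Bool.rec (fun _ => Nat) (@Bool.rec (fun _ => Nat) tJ_P436 (tJ_s437_439 j) (Nat.ble (nat_lit 437) j)) (@Bool.rec (fun _ => Nat) (tJ_s439_441 j) (tJ_s441_443 j) (Nat.ble (nat_lit 441) j)) (Nat.ble (nat_lit 439) j)) (Nat.ble (nat_lit 436) j)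
noncomputable def tJ_s444_446 (j : Nat) : Nat := @Bool.rec (fun _ => Nat) tJ_P444 tJ_P445 (Nat.ble (nat_lit 445) j)
noncomputable def tJ_s446_448 (j : Nat) : Nat := @Bool.rec (fun _ => Nat) tJ_P446 tJ_P447 (Nat.ble (nat_lit 447) j)
noncomputable def tJ_s448_450 (j : Nat) : Nat := @Bool.rec (fun _ => Nat) tJ_P448 tJ_P449 (Nat.ble (nat_lit 449) j)
noncomputable def tJ_s450_452 (j : Nat) : Nat := @Bool.rec (fun _ => Nat) tJ_P450 tJ_P451 (Nat.ble (nat_lit 451) j)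
noncomputable def tJ_s452_454 (j : Nat) : Nat := @Bool.rec (fun _ => Nat) tJ_P452 tJ_P453 (Nat.ble (nat_lit 453) j)
noncomputable def tJ_s454_456 (j : Nat) : Nat := @Bool.rec (fun _ => Nat) tJ_P454 tJ_P455 (Nat.ble (nat_lit 455) j)
noncomputable def tJ_s456_458 (j : Nat) : Nat := @Bool.rec (fun _ => Nat) tJ_P456 tJ_P457 (Nat.ble (nat_lit 457) j)
noncomputable def tJ_s443_458 (j : Nat) : Nat := @Bool.rec (fun _ => Nat) (@Bool.rec (fun _ => Nat) (@Bool.rec (fun _ => Nat) tJ_P443 (tJ_s444_446 j) (Nat.ble (nat_lit 444) j)) (@Bool.rec (fun _ => Nat) (tJ_s446_448 j) (tJ_s448_450 j) (Nat.ble (nat_lit 448) j)) (Nat.ble (nat_lit 446) j)) (@Bool.rec (fun _ => Nat) (@Bool.rec (fun _ => Nat) (tJ_s450_452 j) (tJ_s452_454 j) (Nat.ble (nat_lit 452) j)) (@Bool.rec (fun _ => Nat) (tJ_s454_456 j) (tJ_s456_458 j) (Nat.ble (nat_lit 456) j)) (Nat.ble (nat_lit 454) j)) (Nat.ble (nat_lit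 450) j)
noncomputable def tJ_s343_458 (j : Nat) : Nat := @Bool.rec (fun _ => Nat) (@Bool.rec (fun _ => Nat) (@Bool.rec (fun _ => Nat) (tJ_s343_357 j) (tJ_s357_371 j) (Nat.ble (nat_lit 357) j)) (@Bool.rec (fun _ => Nat) (tJ_s371_385 j) (tJ_s385_400 j) (Nat.ble (nat_lit 385) j)) (Nat.ble (nat_lit 371) j)) (@Bool.rec (fun _ => Nat) (@Bool.rec (fun _ => Nat) (tJ_s400_414 j) (tJ_s414_429 j) (Nat.ble (nat_lit 414) j)) (@Bool.rec (fun _ => Nat) (tJ_s429_443 j) (tJ_s443_458 j) (Nat.ble (nat_lit 443) j)) (Nat.ble (nat_lit 429) j)) (Nat.ble (nat_lit 400) j)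
noncomputable def tJ_s459_461 (j : Nat) : Nat := @Bool.rec (fun _ => Nat) tJ_P459 tJ_P460 (Nat.ble (nat_lit 460) j)
noncomputable def tJ_s461_463 (j : Nat) : Nat := @Bool.rec (fun _ => Nat) tJ_P461 tJ_P462 (Nat.ble (nat_lit 462) j)
noncomputable def tJ_s463_465 (j : Nat) : Nat := @Bool.rec (fun _ => Nat) tJ_P463 tJ_P464 (Nat.ble (nat_lit 464) j)
noncomputable def tJ_s466_468 (j : Nat) : Nat := @Bool.rec (fun _ => Nat) tJ_P466 tJ_P467 (Nat.ble (nat_lit 467) j)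
noncomputable def tJ_s468_470 (j : Nat) : Nat := @Bool.rec (fun _ => Nat) tJ_P468 tJ_P469 (Nat.ble (nat_lit 469) j)
noncomputable def tJ_s470_472 (j : Nat) : Nat := @Bool.rec (fun _ => Nat) tJ_P470 tJ_P471 (Nat.ble (nat_lit 471) j)
noncomputable def tJ_s458_472 (j : Nat) : Nat := @Bool.rec (fun _ => Nat) (@Bool.rec (fun _ => Nat) (@Bool.rec (fun _ => Nat) tJ_P458 (tJ_s459_461 j) (Nat.ble (nat_lit 459) j)) (@Bool.rec (fun _ => Nat) (tJ_s461_463 j) (tJ_s463_465 j) (Nat.ble (nat_lit 463) j)) (Nat.ble (nat_lit 461) j)) (@Bool.rec (fun _ => Nat) (@Bool.rec (fun _ => Nat) tJ_P465 (tJ_s466_468 j) (Nat.ble (nat_lit 466) j)) (@Bool.rec (fun _ => Nat) (tJ_s468_470 j) (tJ_s470_472 j) (Nat.ble (nat_lit 470) j)) (Nat.ble (nat_lit 468) j)) (Nat.ble (nat_lit 465) j)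
noncomputable def tJ_s473_475 (j : Nat) : Nat := @Bool.rec (fun _ => Nat) tJ_P473 tJ_P474 (Nat.ble (nat_lit 474) j)
noncomputable def tJ_s475_477 (j : Nat) : Nat := @Bool.rec (fun _ => Nat) tJ_P475 tJ_P476 (Nat.ble (nat_lit 476) j)
noncomputable def tJ_s477_479 (j : Nat) : Nat := @Bool.rec (fun _ => Nat) tJ_P477 tJ_P478 (Nat.ble (nat_lit 478) j)
noncomputable def tJ_s480_482 (j : Nat) : Nat := @Bool.rec (fun _ => Nat) tJ_P480 tJ_P481 (Nat.ble (nat_lit 481) j)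
noncomputable def tJ_s482_484 (j : Nat) : Nat := @Bool.rec (fun _ => Nat) tJ_P482 tJ_P483 (Nat.ble (nat_lit 483) j)
noncomputable def tJ_s484_486 (j : Nat) : Nat := @Bool.rec (fun _ => Nat) tJ_P484 tJ_P485 (Nat.ble (nat_lit 485) j)
noncomputable def tJ_s472_486 (j : Nat) : Nat := @Bool.rec (fun _ => Nat) (@Bool.rec (fun _ => Nat) (@Bool.rec (fun _ => Nat) tJ_P472 (tJ_s473_475 j) (Nat.ble (nat_lit 473) j)) (@Bool.rec (fun _ => Nat) (tJ_s475_477 j) (tJ_s477_479 j) (Nat.ble (nat_lit 477) j)) (Nat.ble (nat_lit 475) j)) (@Bool.rec (fun _ => Nat) (@Bool.rec (fun _ => Nat) tJ_P479 (tJ_s480_482 j) (Nat.ble (nat_lit 480) j)) (@Bool.rec (fun _ => Nat) (tJ_s482_484 j) (tJ_s484_486 j) (Nat.ble (nat_lit 484) j)) (Nat.ble (nat_lit 482) j)) (Nat.ble (nat_lit 479) j)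
noncomputable def tJ_s487_489 (j : Nat) : Nat := @Bool.rec (fun _ => Nat) tJ_P487 tJ_P488 (Nat.ble (nat_lit 488) j)
noncomputable def tJ_s489_491 (j : Nat) : Nat := @Bool.rec (fun _ => Nat) tJ_P489 tJ_P490 (Nat.ble (nat_lit 490) j)
noncomputable def tJ_s491_493 (j : Nat) : Nat := @Bool.rec (fun _ => Nat) tJ_P491 tJ_P492 (Nat.ble (nat_lit 492) j)
noncomputable def tJ_s494_496 (j : Nat) : Nat := @Bool.rec (fun _ => Nat) tJ_P494 tJ_P495 (Nat.ble (nat_lit 495) j)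
noncomputable def tJ_s496_498 (j : Nat) : Nat := @Bool.rec (fun _ => Nat) tJ_P496 tJ_P497 (Nat.ble (nat_lit 497) j)
noncomputable def tJ_s498_500 (j : Nat) : Nat := @Bool.rec (fun _ => Nat) tJ_P498 tJ_P499 (Nat.ble (nat_lit 499) j)
noncomputable def tJ_s486_500 (j : Nat) : Nat := @Bool.rec (fun _ => Nat) (@Bool.rec (fun _ => Nat) (@Bool.rec (fun _ => Nat) tJ_P486 (tJ_s487_489 j) (Nat.ble (nat_lit 487) j)) (@Bool.rec (fun _ => Nat) (tJ_s489_491 j) (tJ_s491_493 j) (Nat.ble (nat_lit 491) j)) (Nat.ble (nat_lit 489) j)) (@Bool.rec (fun _ => Nat) (@Bool.rec (fun _ => Nat) tJ_P493 (tJ_s494_496 j) (Nat.ble (nat_lit 494) j)) (@Bool.rec (fun _ => Nat) (tJ_s496_498 j) (tJ_s498_500 j) (Nat.ble (nat_lit 498) j)) (Nat.ble (nat_lit 496) j)) (Nat.ble (nat_lit 493) j)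
noncomputable def tJ_s501_503 (j : Nat) : Nat := @Bool.rec (fun _ => Nat) tJ_P501 tJ_P502 (Nat.ble (nat_lit 502) j)
noncomputable def tJ_s503_505 (j : Nat) : Nat := @Bool.rec (fun _ => Nat) tJ_P503 tJ_P504 (Nat.ble (nat_lit 504) j)
noncomputable def tJ_s505_507 (j : Nat) : Nat := @Bool.rec (fun _ => Nat) tJ_P505 tJ_P506 (Nat.ble (nat_lit 506) j)
noncomputable def tJ_s507_509 (j : Nat) : Nat := @Bool.rec (fun _ => Nat) tJ_P507 tJ_P508 (Nat.ble (nat_lit 508) j)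
noncomputable def tJ_s509_511 (j : Nat) : Nat := @Bool.rec (fun _ => Nat) tJ_P509 tJ_P510 (Nat.ble (nat_lit 510) j)
noncomputable def tJ_s511_513 (j : Nat) : Nat := @Bool.rec (fun _ => Nat) tJ_P511 tJ_P512 (Nat.ble (nat_lit 512) j)
noncomputable def tJ_s513_515 (j : Nat) : Nat := @Bool.rec (fun _ => Nat) tJ_P513 tJ_P514 (Nat.ble (nat_lit 514) j)
noncomputable def tJ_s500_515 (j : Nat) : Nat := @Bool.rec (fun _ => Nat) (@Bool.rec (fun _ => Nat) (@Bool.rec (fun _ => Nat) tJ_P500 (tJ_s501_503 j) (Nat.ble (nat_lit 501) j)) (@Bool.rec (fun _ => Nat) (tJ_s503_505 j) (tJ_s505_507 j) (Nat.ble (nat_lit 505) j)) (Nat.ble (nat_lit 503) j)) (@Bool.rec (fun _ => Nat) (@Bool.rec (fun _ => Nat) (tJ_s507_509 j) (tJ_s509_511 j) (Nat.ble (nat_lit 509) j)) (@Bool.rec (fun _ => Nat) (tJ_s511_513 j) (tJ_s513_515 j) (Nat.ble (nat_lit 513) j)) (Nat.ble (nat_lit 511) j)) (Nat.ble (nat_lit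 507) j)
noncomputable def tJ_s516_518 (j : Nat) : Nat := @Bool.rec (fun _ => Nat) tJ_P516 tJ_P517 (Nat.ble (nat_lit 517) j)
noncomputable def tJ_s518_520 (j : Nat) : Nat := @Bool.rec (fun _ => Nat) tJ_P518 tJ_P519 (Nat.ble (nat_lit 519) j)
noncomputable def tJ_s520_522 (j : Nat) : Nat := @Bool.rec (fun _ => Nat) tJ_P520 tJ_P521 (Nat.ble (nat_lit 521) j)
noncomputable def tJ_s523_525 (j : Nat) : Nat := @Bool.rec (fun _ => Nat) tJ_P523 tJ_P524 (Nat.ble (nat_lit 524) j)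
noncomputable def tJ_s525_527 (j : Nat) : Nat := @Bool.rec (fun _ => Nat) tJ_P525 tJ_P526 (Nat.ble (nat_lit 526) j)
noncomputable def tJ_s527_529 (j : Nat) : Nat := @Bool.rec (fun _ => Nat) tJ_P527 tJ_P528 (Nat.ble (nat_lit 528) j)
noncomputable def tJ_s515_529 (j : Nat) : Nat := @Bool.rec (fun _ => Nat) (@Bool.rec (fun _ => Nat) (@Bool.rec (fun _ => Nat) tJ_P515 (tJ_s516_518 j) (Nat.ble (nat_lit 516) j)) (@Bool.rec (fun _ => Nat) (tJ_s518_520 j) (tJ_s520_522 j) (Nat.ble (nat_lit 520) j)) (Nat.ble (nat_lit 518) j)) (@Bool.rec (fun _ => Nat) (@Bool.rec (fun _ => Nat) tJ_P522 (tJ_s523_525 j) (Nat.ble (nat_lit 523) j)) (@Bool.rec (fun _ => Nat) (tJ_s525_527 j) (tJ_s527_529 j) (Nat.ble (nat_lit 527) j)) (Nat.ble (nat_lit 525) j)) (Nat.ble (nat_lit 522) j)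
noncomputable def tJ_s530_532 (j : Nat) : Nat := @Bool.rec (fun _ => Nat) tJ_P530 tJ_P531 (Nat.ble (nat_lit 531) j)
noncomputable def tJ_s532_534 (j : Nat) : Nat := @Bool.rec (fun _ => Nat) tJ_P532 tJ_P533 (Nat.ble (nat_lit 533) j)
noncomputable def tJ_s534_536 (j : Nat) : Nat := @Bool.rec (fun _ => Nat) tJ_P534 tJ_P535 (Nat.ble (nat_lit 535) j)
noncomputable def tJ_s537_539 (j : Nat) : Nat := @Bool.rec (fun _ => Nat) tJ_P537 tJ_P538 (Nat.ble (nat_lit 538) j)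
noncomputable def tJ_s539_541 (j : Nat) : Nat := @Bool.rec (fun _ => Nat) tJ_P539 tJ_P540 (Nat.ble (nat_lit 540) j)
noncomputable def tJ_s541_543 (j : Nat) : Nat := @Bool.rec (fun _ => Nat) tJ_P541 tJ_P542 (Nat.ble (nat_lit 542) j)
noncomputable def tJ_s529_543 (j : Nat) : Nat := @Bool.rec (fun _ => Nat) (@Bool.rec (fun _ => Nat) (@Bool.rec (fun _ => Nat) tJ_P529 (tJ_s530_532 j) (Nat.ble (nat_lit 530) j)) (@Bool.rec (fun _ => Nat) (tJ_s532_534 j) (tJ_s534_536 j) (Nat.ble (nat_lit 534) j)) (Nat.ble (nat_lit 532) j)) (@Bool.rec (fun _ => Nat) (@Bool.rec (fun _ => Nat) tJ_P536 (tJ_s537_539 j) (Nat.ble (nat_lit 537) j)) (@Bool.rec (fun _ => Nat) (tJ_s539_541 j) (tJ_s541_543 j) (Nat.ble (nat_lit 541) j)) (Nat.ble (nat_lit 539) j)) (Nat.ble (nat_lit 536) j)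
noncomputable def tJ_s544_546 (j : Nat) : Nat := @Bool.rec (fun _ => Nat) tJ_P544 tJ_P545 (Nat.ble (nat_lit 545) j)
noncomputable def tJ_s546_548 (j : Nat) : Nat := @Bool.rec (fun _ => Nat) tJ_P546 tJ_P547 (Nat.ble (nat_lit 547) j)
noncomputable def tJ_s548_550 (j : Nat) : Nat := @Bool.rec (fun _ => Nat) tJ_P548 tJ_P549 (Nat.ble (nat_lit 549) j)
noncomputable def tJ_s551_553 (j : Nat) : Nat := @Bool.rec (fun _ => Nat) tJ_P551 tJ_P552 (Nat.ble (nat_lit 552) j)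
noncomputable def tJ_s553_555 (j : Nat) : Nat := @Bool.rec (fun _ => Nat) tJ_P553 tJ_P554 (Nat.ble (nat_lit 554) j)
noncomputable def tJ_s555_557 (j : Nat) : Nat := @Bool.rec (fun _ => Nat) tJ_P555 tJ_P556 (Nat.ble (nat_lit 556) j)
noncomputable def tJ_s543_557 (j : Nat) : Nat := @Bool.rec (fun _ => Nat) (@Bool.rec (fun _ => Nat) (@Bool.rec (fun _ => Nat) tJ_P543 (tJ_s544_546 j) (Nat.ble (nat_lit 544) j)) (@Bool.rec (fun _ => Nat) (tJ_s546_548 j) (tJ_s548_550 j) (Nat.ble (nat_lit 548) j)) (Nat.ble (nat_lit 546) j)) (@Bool.rec (fun _ => Nat) (@Bool.rec (fun _ => Nat) tJ_P550 (tJ_s551_553 j) (Nat.ble (nat_lit 551) j)) (@Bool.rec (fun _ => Nat) (tJ_s553_555 j) (tJ_s555_557 j) (Nat.ble (nat_lit 555) j)) (Nat.ble (nat_lit 553) j)) (Nat.ble (nat_lit 550) j)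
noncomputable def tJ_s558_560 (j : Nat) : Nat := @Bool.rec (fun _ => Nat) tJ_P558 tJ_P559 (Nat.ble (nat_lit 559) j)
noncomputable def tJ_s560_562 (j : Nat) : Nat := @Bool.rec (fun _ => Nat) tJ_P560 tJ_P561 (Nat.ble (nat_lit 561) j)
noncomputable def tJ_s562_564 (j : Nat) : Nat := @Bool.rec (fun _ => Nat) tJ_P562 tJ_P563 (Nat.ble (nat_lit 563) j)
noncomputable def tJ_s564_566 (j : Nat) : Nat := @Bool.rec (fun _ => Nat) tJ_P564 tJ_P565 (Nat.ble (nat_lit 565) j)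
noncomputable def tJ_s566_568 (j : Nat) : Nat := @Bool.rec (fun _ => Nat) tJ_P566 tJ_P567 (Nat.ble (nat_lit 567) j)
noncomputable def tJ_s568_570 (j : Nat) : Nat := @Bool.rec (fun _ => Nat) tJ_P568 tJ_P569 (Nat.ble (nat_lit 569) j)
noncomputable def tJ_s570_572 (j : Nat) : Nat := @Bool.rec (fun _ => Nat) tJ_P570 tJ_P571 (Nat.ble (nat_lit 571) j)
noncomputable def tJ_s557_572 (j : Nat) : Nat := @Bool.rec (fun _ => Nat) (@Bool.rec (fun _ => Nat) (@Bool.rec (fun _ => Nat) tJ_P557 (tJ_s558_560 j) (Nat.ble (nat_lit 558) j)) (@Bool.rec (fun _ => Nat) (tJ_s560_562 j) (tJ_s562_564 j) (Nat.ble (nat_lit 562) j)) (Nat.ble (nat_lit 560) j)) (@Bool.rec (fun _ => Nat) (@Bool.rec (fun _ => Nat) (tJ_s564_566 j) (tJ_s566_568 j) (Nat.ble (nat_lit 566) j)) (@Bool.rec (fun _ => Nat) (tJ_s568_570 j) (tJ_s570_572 j) (Nat.ble (nat_lit 570) j)) (Nat.ble (nat_lit 568) j)) (Nat.ble (nat_lit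 564) j)
noncomputable def tJ_s458_572 (j : Nat) : Nat := @Bool.rec (fun _ => Nat) (@Bool.rec (fun _ => Nat) (@Bool.rec (fun _ => Nat) (tJ_s458_472 j) (tJ_s472_486 j) (Nat.ble (nat_lit 472) j)) (@Bool.rec (fun _ => Nat) (tJ_s486_500 j) (tJ_s500_515 j) (Nat.ble (nat_lit 500) j)) (Nat.ble (nat_lit 486) j)) (@Bool.rec (fun _ => Nat) (@Bool.rec (fun _ => Nat) (tJ_s515_529 j) (tJ_s529_543 j) (Nat.ble (nat_lit 529) j)) (@Bool.rec (fun _ => Nat) (tJ_s543_557 j) (tJ_s557_572 j) (Nat.ble (nat_lit 557) j)) (Nat.ble (nat_lit 543) j)) (Nat.ble (nat_lit 515) j)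
noncomputable def tJ_s573_575 (j : Nat) : Nat := @Bool.rec (fun _ => Nat) tJ_P573 tJ_P574 (Nat.ble (nat_lit 574) j)
noncomputable def tJ_s575_577 (j : Nat) : Nat := @Bool.rec (fun _ => Nat) tJ_P575 tJ_P576 (Nat.ble (nat_lit 576) j)
noncomputable def tJ_s577_579 (j : Nat) : Nat := @Bool.rec (fun _ => Nat) tJ_P577 tJ_P578 (Nat.ble (nat_lit 578) j)
noncomputable def tJ_s580_582 (j : Nat) : Nat := @Bool.rec (fun _ => Nat) tJ_P580 tJ_P581 (Nat.ble (nat_lit 581) j)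
noncomputable def tJ_s582_584 (j : Nat) : Nat := @Bool.rec (fun _ => Nat) tJ_P582 tJ_P583 (Nat.ble (nat_lit 583) j)
noncomputable def tJ_s584_586 (j : Nat) : Nat := @Bool.rec (fun _ => Nat) tJ_P584 tJ_P585 (Nat.ble (nat_lit 585) j)
noncomputable def tJ_s572_586 (j : Nat) : Nat := @Bool.rec (fun _ => Nat) (@Bool.rec (fun _ => Nat) (@Bool.rec (fun _ => Nat) tJ_P572 (tJ_s573_575 j) (Nat.ble (nat_lit 573) j)) (@Bool.rec (fun _ => Nat) (tJ_s575_577 j) (tJ_s577_579 j) (Nat.ble (nat_lit 577) j)) (Nat.ble (nat_lit 575) j)) (@Bool.rec (fun _ => Nat) (@Bool.rec (fun _ => Nat) tJ_P579 (tJ_s580_582 j) (Nat.ble (nat_lit 580) j)) (@Bool.rec (fun _ => Nat) (tJ_s582_584 j) (tJ_s584_586 j) (Nat.ble (nat_lit 584) j)) (Nat.ble (nat_lit 582) j)) (Nat.ble (nat_lit 579) j)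
noncomputable def tJ_s587_589 (j : Nat) : Nat := @Bool.rec (fun _ => Nat) tJ_P587 tJ_P588 (Nat.ble (nat_lit 588) j)
noncomputable def tJ_s589_591 (j : Nat) : Nat := @Bool.rec (fun _ => Nat) tJ_P589 tJ_P590 (Nat.ble (nat_lit 590) j)
noncomputable def tJ_s591_593 (j : Nat) : Nat := @Bool.rec (fun _ => Nat) tJ_P591 tJ_P592 (Nat.ble (nat_lit 592) j)
noncomputable def tJ_s594_596 (j : Nat) : Nat := @Bool.rec (fun _ => Nat) tJ_P594 tJ_P595 (Nat.ble (nat_lit 595) j)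
noncomputable def tJ_s596_598 (j : Nat) : Nat := @Bool.rec (fun _ => Nat) tJ_P596 tJ_P597 (Nat.ble (nat_lit 597) j)
noncomputable def tJ_s598_600 (j : Nat) : Nat := @Bool.rec (fun _ => Nat) tJ_P598 tJ_P599 (Nat.ble (nat_lit 599) j)
noncomputable def tJ_s586_600 (j : Nat) : Nat := @Bool.rec (fun _ => Nat) (@Bool.rec (fun _ => Nat) (@Bool.rec (fun _ => Nat) tJ_P586 (tJ_s587_589 j) (Nat.ble (nat_lit 587) j)) (@Bool.rec (fun _ => Nat) (tJ_s589_591 j) (tJ_s591_593 j) (Nat.ble (nat_lit 591) j)) (Nat.ble (nat_lit 589) j)) (@Bool.rec (fun _ => Nat) (@Bool.rec (fun _ => Nat) tJ_P593 (tJ_s594_596 j) (Nat.ble (nat_lit 594) j)) (@Bool.rec (fun _ => Nat) (tJ_s596_598 j) (tJ_s598_600 j) (Nat.ble (nat_lit 598) j)) (Nat.ble (nat_lit 596) j)) (Nat.ble (nat_lit 593) j)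
noncomputable def tJ_s601_603 (j : Nat) : Nat := @Bool.rec (fun _ => Nat) tJ_P601 tJ_P602 (Nat.ble (nat_lit 602) j)
noncomputable def tJ_s603_605 (j : Nat) : Nat := @Bool.rec (fun _ => Nat) tJ_P603 tJ_P604 (Nat.ble (nat_lit 604) j)
noncomputable def tJ_s605_607 (j : Nat) : Nat := @Bool.rec (fun _ => Nat) tJ_P605 tJ_P606 (Nat.ble (nat_lit 606) j)
noncomputable def tJ_s608_610 (j : Nat) : Nat := @Bool.rec (fun _ => Nat) tJ_P608 tJ_P609 (Nat.ble (nat_lit 609) j)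
noncomputable def tJ_s610_612 (j : Nat) : Nat := @Bool.rec (fun _ => Nat) tJ_P610 tJ_P611 (Nat.ble (nat_lit 611) j)
noncomputable def tJ_s612_614 (j : Nat) : Nat := @Bool.rec (fun _ => Nat) tJ_P612 tJ_P613 (Nat.ble (nat_lit 613) j)
noncomputable def tJ_s600_614 (j : Nat) : Nat := @Bool.rec (fun _ => Nat) (@Bool.rec (fun _ => Nat) (@Bool.rec (fun _ => Nat) tJ_P600 (tJ_s601_603 j) (Nat.ble (nat_lit 601) j)) (@Bool.rec (fun _ => Nat) (tJ_s603_605 j) (tJ_s605_607 j) (Nat.ble (nat_lit 605) j)) (Nat.ble (nat_lit 603) j)) (@Bool.rec (fun _ => Nat) (@Bool.rec (fun _ => Nat) tJ_P607 (tJ_s608_610 j) (Nat.ble (nat_lit 608) j)) (@Bool.rec (fun _ => Nat) (tJ_s610_612 j) (tJ_s612_614 j) (Nat.ble (nat_lit 612) j)) (Nat.ble (nat_lit 610) j)) (Nat.ble (nat_lit 607) j)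
noncomputable def tJ_s615_617 (j : Nat) : Nat := @Bool.rec (fun _ => Nat) tJ_P615 tJ_P616 (Nat.ble (nat_lit 616) j)
noncomputable def tJ_s617_619 (j : Nat) : Nat := @Bool.rec (fun _ => Nat) tJ_P617 tJ_P618 (Nat.ble (nat_lit 618) j)
noncomputable def tJ_s619_621 (j : Nat) : Nat := @Bool.rec (fun _ => Nat) tJ_P619 tJ_P620 (Nat.ble (nat_lit 620) j)
noncomputable def tJ_s621_623 (j : Nat) : Nat := @Bool.rec (fun _ => Nat) tJ_P621 tJ_P622 (Nat.ble (nat_lit 622) j)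
noncomputable def tJ_s623_625 (j : Nat) : Nat := @Bool.rec (fun _ => Nat) tJ_P623 tJ_P624 (Nat.ble (nat_lit 624) j)
noncomputable def tJ_s625_627 (j : Nat) : Nat := @Bool.rec (fun _ => Nat) tJ_P625 tJ_P626 (Nat.ble (nat_lit 626) j)
noncomputable def tJ_s627_629 (j : Nat) : Nat := @Bool.rec (fun _ => Nat) tJ_P627 tJ_P628 (Nat.ble (nat_lit 628) j)
noncomputable def tJ_s614_629 (j : Nat) : Nat := @Bool.rec (fun _ => Nat) (@Bool.rec (fun _ => Nat) (@Bool.rec (fun _ => Nat) tJ_P614 (tJ_s615_617 j) (Nat.ble (nat_lit 615) j)) (@Bool.rec (fun _ => Nat) (tJ_s617_619 j) (tJ_s619_621 j) (Nat.ble (nat_lit 619) j)) (Nat.ble (nat_lit 617) j)) (@Bool.rec (fun _ => Nat) (@Bool.rec (fun _ => Nat) (tJ_s621_623 j) (tJ_s623_625 j) (Nat.ble (nat_lit 623) j)) (@Bool.rec (fun _ => Nat) (tJ_s625_627 j) (tJ_s627_629 j) (Nat.ble (nat_lit 627) j)) (Nat.ble (nat_lit 625) j)) (Nat.ble (nat_lit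 621) j)
noncomputable def tJ_s630_632 (j : Nat) : Nat := @Bool.rec (fun _ => Nat) tJ_P630 tJ_P631 (Nat.ble (nat_lit 631) j)
noncomputable def tJ_s632_634 (j : Nat) : Nat := @Bool.rec (fun _ => Nat) tJ_P632 tJ_P633 (Nat.ble (nat_lit 633) j)
noncomputable def tJ_s634_636 (j : Nat) : Nat := @Bool.rec (fun _ => Nat) tJ_P634 tJ_P635 (Nat.ble (nat_lit 635) j)
noncomputable def tJ_s637_639 (j : Nat) : Nat := @Bool.rec (fun _ => Nat) tJ_P637 tJ_P638 (Nat.ble (nat_lit 638) j)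
noncomputable def tJ_s639_641 (j : Nat) : Nat := @Bool.rec (fun _ => Nat) tJ_P639 tJ_P640 (Nat.ble (nat_lit 640) j)
noncomputable def tJ_s641_643 (j : Nat) : Nat := @Bool.rec (fun _ => Nat) tJ_P641 tJ_P642 (Nat.ble (nat_lit 642) j)
noncomputable def tJ_s629_643 (j : Nat) : Nat := @Bool.rec (fun _ => Nat) (@Bool.rec (fun _ => Nat) (@Bool.rec (fun _ => Nat) tJ_P629 (tJ_s630_632 j) (Nat.ble (nat_lit 630) j)) (@Bool.rec (fun _ => Nat) (tJ_s632_634 j) (tJ_s634_636 j) (Nat.ble (nat_lit 634) j)) (Nat.ble (nat_lit 632) j)) (@Bool.rec (fun _ => Nat) (@Bool.rec (fun _ => Nat) tJ_P636 (tJ_s637_639 j) (Nat.ble (nat_lit 637) j)) (@Bool.rec (fun _ => Nat) (tJ_s639_641 j) (tJ_s641_643 j) (Nat.ble (nat_lit 641) j)) (Nat.ble (nat_lit 639) j)) (Nat.ble (nat_lit 636) j)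
noncomputable def tJ_s644_646 (j : Nat) : Nat := @Bool.rec (fun _ => Nat) tJ_P644 tJ_P645 (Nat.ble (nat_lit 645) j)
noncomputable def tJ_s646_648 (j : Nat) : Nat := @Bool.rec (fun _ => Nat) tJ_P646 tJ_P647 (Nat.ble (nat_lit 647) j)
noncomputable def tJ_s648_650 (j : Nat) : Nat := @Bool.rec (fun _ => Nat) tJ_P648 tJ_P649 (Nat.ble (nat_lit 649) j)
noncomputable def tJ_s650_652 (j : Nat) : Nat := @Bool.rec (fun _ => Nat) tJ_P650 tJ_P651 (Nat.ble (nat_lit 651) j)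
noncomputable def tJ_s652_654 (j : Nat) : Nat := @Bool.rec (fun _ => Nat) tJ_P652 tJ_P653 (Nat.ble (nat_lit 653) j)
noncomputable def tJ_s654_656 (j : Nat) : Nat := @Bool.rec (fun _ => Nat) tJ_P654 tJ_P655 (Nat.ble (nat_lit 655) j)
noncomputable def tJ_s656_658 (j : Nat) : Nat := @Bool.rec (fun _ => Nat) tJ_P656 tJ_P657 (Nat.ble (nat_lit 657) j)
noncomputable def tJ_s643_658 (j : Nat) : Nat := @Bool.rec (fun _ => Nat) (@Bool.rec (fun _ => Nat) (@Bool.rec (fun _ => Nat) tJ_P643 (tJ_s644_646 j) (Nat.ble (nat_lit 644) j)) (@Bool.rec (fun _ => Nat) (tJ_s646_648 j) (tJ_s648_650 j) (Nat.ble (nat_lit 648) j)) (Nat.ble (nat_lit 646) j)) (@Bool.rec (fun _ => Nat) (@Bool.rec (fun _ => Nat) (tJ_s650_652 j) (tJ_s652_654 j) (Nat.ble (nat_lit 652) j)) (@Bool.rec (fun _ => Nat) (tJ_s654_656 j) (tJ_s656_658 j) (Nat.ble (nat_lit 656) j)) (Nat.ble (nat_lit 654) j)) (Nat.ble (nat_lit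 650) j)
noncomputable def tJ_s659_661 (j : Nat) : Nat := @Bool.rec (fun _ => Nat) tJ_P659 tJ_P660 (Nat.ble (nat_lit 660) j)
noncomputable def tJ_s661_663 (j : Nat) : Nat := @Bool.rec (fun _ => Nat) tJ_P661 tJ_P662 (Nat.ble (nat_lit 662) j)
noncomputable def tJ_s663_665 (j : Nat) : Nat := @Bool.rec (fun _ => Nat) tJ_P663 tJ_P664 (Nat.ble (nat_lit 664) j)
noncomputable def tJ_s666_668 (j : Nat) : Nat := @Bool.rec (fun _ => Nat) tJ_P666 tJ_P667 (Nat.ble (nat_lit 667) j)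
noncomputable def tJ_s668_670 (j : Nat) : Nat := @Bool.rec (fun _ => Nat) tJ_P668 tJ_P669 (Nat.ble (nat_lit 669) j)
noncomputable def tJ_s670_672 (j : Nat) : Nat := @Bool.rec (fun _ => Nat) tJ_P670 tJ_P671 (Nat.ble (nat_lit 671) j)
noncomputable def tJ_s658_672 (j : Nat) : Nat := @Bool.rec (fun _ => Nat) (@Bool.rec (fun _ => Nat) (@Bool.rec (fun _ => Nat) tJ_P658 (tJ_s659_661 j) (Nat.ble (nat_lit 659) j)) (@Bool.rec (fun _ => Nat) (tJ_s661_663 j) (tJ_s663_665 j) (Nat.ble (nat_lit 663) j)) (Nat.ble (nat_lit 661) j)) (@Bool.rec (fun _ => Nat) (@Bool.rec (fun _ => Nat) tJ_P665 (tJ_s666_668 j) (Nat.ble (nat_lit 666) j)) (@Bool.rec (fun _ => Nat) (tJ_s668_670 j) (tJ_s670_672 j) (Nat.ble (nat_lit 670) j)) (Nat.ble (nat_lit 668) j)) (Nat.ble (nat_lit 665) j)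
noncomputable def tJ_s673_675 (j : Nat) : Nat := @Bool.rec (fun _ => Nat) tJ_P673 tJ_P674 (Nat.ble (nat_lit 674) j)
noncomputable def tJ_s675_677 (j : Nat) : Nat := @Bool.rec (fun _ => Nat) tJ_P675 tJ_P676 (Nat.ble (nat_lit 676) j)
noncomputable def tJ_s677_679 (j : Nat) : Nat := @Bool.rec (fun _ => Nat) tJ_P677 tJ_P678 (Nat.ble (nat_lit 678) j)
noncomputable def tJ_s679_681 (j : Nat) : Nat := @Bool.rec (fun _ => Nat) tJ_P679 tJ_P680 (Nat.ble (nat_lit 680) j)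
noncomputable def tJ_s681_683 (j : Nat) : Nat := @Bool.rec (fun _ => Nat) tJ_P681 tJ_P682 (Nat.ble (nat_lit 682) j)
noncomputable def tJ_s683_685 (j : Nat) : Nat := @Bool.rec (fun _ => Nat) tJ_P683 tJ_P684 (Nat.ble (nat_lit 684) j)
noncomputable def tJ_s685_687 (j : Nat) : Nat := @Bool.rec (fun _ => Nat) tJ_P685 tJ_P686 (Nat.ble (nat_lit 686) j)
noncomputable def tJ_s672_687 (j : Nat) : Nat := @Bool.rec (fun _ => Nat) (@Bool.rec (fun _ => Nat) (@Bool.rec (fun _ => Nat) tJ_P672 (tJ_s673_675 j) (Nat.ble (nat_lit 673) j)) (@Bool.rec (fun _ => Nat) (tJ_s675_677 j) (tJ_s677_679 j) (Nat.ble (nat_lit 677) j)) (Nat.ble (nat_lit 675) j)) (@Bool.rec (fun _ => Nat) (@Bool.rec (fun _ => Nat) (tJ_s679_681 j) (tJ_s681_683 j) (Nat.ble (nat_lit 681) j)) (@Bool.rec (fun _ => Nat) (tJ_s683_685 j) (tJ_s685_687 j) (Nat.ble (nat_lit 685) j)) (Nat.ble (nat_lit 683) j)) (Nat.ble (nat_lit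 679) j)
noncomputable def tJ_s572_687 (j : Nat) : Nat := @Bool.rec (fun _ => Nat) (@Bool.rec (fun _ => Nat) (@Bool.rec (fun _ => Nat) (tJ_s572_586 j) (tJ_s586_600 j) (Nat.ble (nat_lit 586) j)) (@Bool.rec (fun _ => Nat) (tJ_s600_614 j) (tJ_s614_629 j) (Nat.ble (nat_lit 614) j)) (Nat.ble (nat_lit 600) j)) (@Bool.rec (fun _ => Nat) (@Bool.rec (fun _ => Nat) (tJ_s629_643 j) (tJ_s643_658 j) (Nat.ble (nat_lit 643) j)) (@Bool.rec (fun _ => Nat) (tJ_s658_672 j) (tJ_s672_687 j) (Nat.ble (nat_lit 672) j)) (Nat.ble (nat_lit 658) j)) (Nat.ble (nat_lit 629) j)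
noncomputable def tJ_s688_690 (j : Nat) : Nat := @Bool.rec (fun _ => Nat) tJ_P688 tJ_P689 (Nat.ble (nat_lit 689) j)
noncomputable def tJ_s690_692 (j : Nat) : Nat := @Bool.rec (fun _ => Nat) tJ_P690 tJ_P691 (Nat.ble (nat_lit 691) j)
noncomputable def tJ_s692_694 (j : Nat) : Nat := @Bool.rec (fun _ => Nat) tJ_P692 tJ_P693 (Nat.ble (nat_lit 693) j)
noncomputable def tJ_s695_697 (j : Nat) : Nat := @Bool.rec (fun _ => Nat) tJ_P695 tJ_P696 (Nat.ble (nat_lit 696) j)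
noncomputable def tJ_s697_699 (j : Nat) : Nat := @Bool.rec (fun _ => Nat) tJ_P697 tJ_P698 (Nat.ble (nat_lit 698) j)
noncomputable def tJ_s699_701 (j : Nat) : Nat := @Bool.rec (fun _ => Nat) tJ_P699 tJ_P700 (Nat.ble (nat_lit 700) j)
noncomputable def tJ_s687_701 (j : Nat) : Nat := @Bool.rec (fun _ => Nat) (@Bool.rec (fun _ => Nat) (@Bool.rec (fun _ => Nat) tJ_P687 (tJ_s688_690 j) (Nat.ble (nat_lit 688) j)) (@Bool.rec (fun _ => Nat) (tJ_s690_692 j) (tJ_s692_694 j) (Nat.ble (nat_lit 692) j)) (Nat.ble (nat_lit 690) j)) (@Bool.rec (fun _ => Nat) (@Bool.rec (fun _ => Nat) tJ_P694 (tJ_s695_697 j) (Nat.ble (nat_lit 695) j)) (@Bool.rec (fun _ => Nat) (tJ_s697_699 j) (tJ_s699_701 j) (Nat.ble (nat_lit 699) j)) (Nat.ble (nat_lit 697) j)) (Nat.ble (nat_lit 694) j)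
noncomputable def tJ_s702_704 (j : Nat) : Nat := @Bool.rec (fun _ => Nat) tJ_P702 tJ_P703 (Nat.ble (nat_lit 703) j)
noncomputable def tJ_s704_706 (j : Nat) : Nat := @Bool.rec (fun _ => Nat) tJ_P704 tJ_P705 (Nat.ble (nat_lit 705) j)
noncomputable def tJ_s706_708 (j : Nat) : Nat := @Bool.rec (fun _ => Nat) tJ_P706 tJ_P707 (Nat.ble (nat_lit 707) j)
noncomputable def tJ_s709_711 (j : Nat) : Nat := @Bool.rec (fun _ => Nat) tJ_P709 tJ_P710 (Nat.ble (nat_lit 710) j)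
noncomputable def tJ_s711_713 (j : Nat) : Nat := @Bool.rec (fun _ => Nat) tJ_P711 tJ_P712 (Nat.ble (nat_lit 712) j)
noncomputable def tJ_s713_715 (j : Nat) : Nat := @Bool.rec (fun _ => Nat) tJ_P713 tJ_P714 (Nat.ble (nat_lit 714) j)
noncomputable def tJ_s701_715 (j : Nat) : Nat := @Bool.rec (fun _ => Nat) (@Bool.rec (fun _ => Nat) (@Bool.rec (fun _ => Nat) tJ_P701 (tJ_s702_704 j) (Nat.ble (nat_lit 702) j)) (@Bool.rec (fun _ => Nat) (tJ_s704_706 j) (tJ_s706_708 j) (Nat.ble (nat_lit 706) j)) (Nat.ble (nat_lit 704) j)) (@Bool.rec (fun _ => Nat) (@Bool.rec (fun _ => Nat) tJ_P708 (tJ_s709_711 j) (Nat.ble (nat_lit 709) j)) (@Bool.rec (fun _ => Nat) (tJ_s711_713 j) (tJ_s713_715 j) (Nat.ble (nat_lit 713) j)) (Nat.ble (nat_lit 711) j)) (Nat.ble (nat_lit 708) j)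
noncomputable def tJ_s716_718 (j : Nat) : Nat := @Bool.rec (fun _ => Nat) tJ_P716 tJ_P717 (Nat.ble (nat_lit 717) j)
noncomputable def tJ_s718_720 (j : Nat) : Nat := @Bool.rec (fun _ => Nat) tJ_P718 tJ_P719 (Nat.ble (nat_lit 719) j)
noncomputable def tJ_s720_722 (j : Nat) : Nat := @Bool.rec (fun _ => Nat) tJ_P720 tJ_P721 (Nat.ble (nat_lit 721) j)
noncomputable def tJ_s723_725 (j : Nat) : Nat := @Bool.rec (fun _ => Nat) tJ_P723 tJ_P724 (Nat.ble (nat_lit 724) j)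
noncomputable def tJ_s725_727 (j : Nat) : Nat := @Bool.rec (fun _ => Nat) tJ_P725 tJ_P726 (Nat.ble (nat_lit 726) j)
noncomputable def tJ_s727_729 (j : Nat) : Nat := @Bool.rec (fun _ => Nat) tJ_P727 tJ_P728 (Nat.ble (nat_lit 728) j)
noncomputable def tJ_s715_729 (j : Nat) : Nat := @Bool.rec (fun _ => Nat) (@Bool.rec (fun _ => Nat) (@Bool.rec (fun _ => Nat) tJ_P715 (tJ_s716_718 j) (Nat.ble (nat_lit 716) j)) (@Bool.rec (fun _ => Nat) (tJ_s718_720 j) (tJ_s720_722 j) (Nat.ble (nat_lit 720) j)) (Nat.ble (nat_lit 718) j)) (@Bool.rec (fun _ => Nat) (@Bool.rec (fun _ => Nat) tJ_P722 (tJ_s723_725 j) (Nat.ble (nat_lit 723) j)) (@Bool.rec (fun _ => Nat) (tJ_s725_727 j) (tJ_s727_729 j) (Nat.ble (nat_lit 727) j)) (Nat.ble (nat_lit 725) j)) (Nat.ble (nat_lit 722) j)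
noncomputable def tJ_s730_732 (j : Nat) : Nat := @Bool.rec (fun _ => Nat) tJ_P730 tJ_P731 (Nat.ble (nat_lit 731) j)
noncomputable def tJ_s732_734 (j : Nat) : Nat := @Bool.rec (fun _ => Nat) tJ_P732 tJ_P733 (Nat.ble (nat_lit 733) j)
noncomputable def tJ_s734_736 (j : Nat) : Nat := @Bool.rec (fun _ => Nat) tJ_P734 tJ_P735 (Nat.ble (nat_lit 735) j)
noncomputable def tJ_s736_738 (j : Nat) : Nat := @Bool.rec (fun _ => Nat) tJ_P736 tJ_P737 (Nat.ble (nat_lit 737) j)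
noncomputable def tJ_s738_740 (j : Nat) : Nat := @Bool.rec (fun _ => Nat) tJ_P738 tJ_P739 (Nat.ble (nat_lit 739) j)
noncomputable def tJ_s740_742 (j : Nat) : Nat := @Bool.rec (fun _ => Nat) tJ_P740 tJ_P741 (Nat.ble (nat_lit 741) j)
noncomputable def tJ_s742_744 (j : Nat) : Nat := @Bool.rec (fun _ => Nat) tJ_P742 tJ_P743 (Nat.ble (nat_lit 743) j)
noncomputable def tJ_s729_744 (j : Nat) : Nat := @Bool.rec (fun _ => Nat) (@Bool.rec (fun _ => Nat) (@Bool.rec (fun _ => Nat) tJ_P729 (tJ_s730_732 j) (Nat.ble (nat_lit 730) j)) (@Bool.rec (fun _ => Nat) (tJ_s732_734 j) (tJ_s734_736 j) (Nat.ble (nat_lit 734) j)) (Nat.ble (nat_lit 732) j)) (@Bool.rec (fun _ => Nat) (@Bool.rec (fun _ => Nat) (tJ_s736_738 j) (tJ_s738_740 j) (Nat.ble (nat_lit 738) j)) (@Bool.rec (fun _ => Nat) (tJ_s740_742 j) (tJ_s742_744 j) (Nat.ble (nat_lit 742) j)) (Nat.ble (nat_lit 740) j)) (Nat.ble (nat_lit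 736) j)
noncomputable def tJ_s745_747 (j : Nat) : Nat := @Bool.rec (fun _ => Nat) tJ_P745 tJ_P746 (Nat.ble (nat_lit 746) j)
noncomputable def tJ_s747_749 (j : Nat) : Nat := @Bool.rec (fun _ => Nat) tJ_P747 tJ_P748 (Nat.ble (nat_lit 748) j)
noncomputable def tJ_s749_751 (j : Nat) : Nat := @Bool.rec (fun _ => Nat) tJ_P749 tJ_P750 (Nat.ble (nat_lit 750) j)
noncomputable def tJ_s752_754 (j : Nat) : Nat := @Bool.rec (fun _ => Nat) tJ_P752 tJ_P753 (Nat.ble (nat_lit 753) j)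
noncomputable def tJ_s754_756 (j : Nat) : Nat := @Bool.rec (fun _ => Nat) tJ_P754 tJ_P755 (Nat.ble (nat_lit 755) j)
noncomputable def tJ_s756_758 (j : Nat) : Nat := @Bool.rec (fun _ => Nat) tJ_P756 tJ_P757 (Nat.ble (nat_lit 757) j)
noncomputable def tJ_s744_758 (j : Nat) : Nat := @Bool.rec (fun _ => Nat) (@Bool.rec (fun _ => Nat) (@Bool.rec (fun _ => Nat) tJ_P744 (tJ_s745_747 j) (Nat.ble (nat_lit 745) j)) (@Bool.rec (fun _ => Nat) (tJ_s747_749 j) (tJ_s749_751 j) (Nat.ble (nat_lit 749) j)) (Nat.ble (nat_lit 747) j)) (@Bool.rec (fun _ => Nat) (@Bool.rec (fun _ => Nat) tJ_P751 (tJ_s752_754 j) (Nat.ble (nat_lit 752) j)) (@Bool.rec (fun _ => Nat) (tJ_s754_756 j) (tJ_s756_758 j) (Nat.ble (nat_lit 756) j)) (Nat.ble (nat_lit 754) j)) (Nat.ble (nat_lit 751) j)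
noncomputable def tJ_s759_761 (j : Nat) : Nat := @Bool.rec (fun _ => Nat) tJ_P759 tJ_P760 (Nat.ble (nat_lit 760) j)
noncomputable def tJ_s761_763 (j : Nat) : Nat := @Bool.rec (fun _ => Nat) tJ_P761 tJ_P762 (Nat.ble (nat_lit 762) j)
noncomputable def tJ_s763_765 (j : Nat) : Nat := @Bool.rec (fun _ => Nat) tJ_P763 tJ_P764 (Nat.ble (nat_lit 764) j)
noncomputable def tJ_s765_767 (j : Nat) : Nat := @Bool.rec (fun _ => Nat) tJ_P765 tJ_P766 (Nat.ble (nat_lit 766) j)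
noncomputable def tJ_s767_769 (j : Nat) : Nat := @Bool.rec (fun _ => Nat) tJ_P767 tJ_P768 (Nat.ble (nat_lit 768) j)
noncomputable def tJ_s769_771 (j : Nat) : Nat := @Bool.rec (fun _ => Nat) tJ_P769 tJ_P770 (Nat.ble (nat_lit 770) j)
noncomputable def tJ_s771_773 (j : Nat) : Nat := @Bool.rec (fun _ => Nat) tJ_P771 tJ_P772 (Nat.ble (nat_lit 772) j)
noncomputable def tJ_s758_773 (j : Nat) : Nat := @Bool.rec (fun _ => Nat) (@Bool.rec (fun _ => Nat) (@Bool.rec (fun _ => Nat) tJ_P758 (tJ_s759_761 j) (Nat.ble (nat_lit 759) j)) (@Bool.rec (fun _ => Nat) (tJ_s761_763 j) (tJ_s763_765 j) (Nat.ble (nat_lit 763) j)) (Nat.ble (nat_lit 761) j)) (@Bool.rec (fun _ => Nat) (@Bool.rec (fun _ => Nat) (tJ_s765_767 j) (tJ_s767_769 j) (Nat.ble (nat_lit 767) j)) (@Bool.rec (fun _ => Nat) (tJ_s769_771 j) (tJ_s771_773 j) (Nat.ble (nat_lit 771) j)) (Nat.ble (nat_lit 769) j)) (Nat.ble (nat_lit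 765) j)
noncomputable def tJ_s774_776 (j : Nat) : Nat := @Bool.rec (fun _ => Nat) tJ_P774 tJ_P775 (Nat.ble (nat_lit 775) j)
noncomputable def tJ_s776_778 (j : Nat) : Nat := @Bool.rec (fun _ => Nat) tJ_P776 tJ_P777 (Nat.ble (nat_lit 777) j)
noncomputable def tJ_s778_780 (j : Nat) : Nat := @Bool.rec (fun _ => Nat) tJ_P778 tJ_P779 (Nat.ble (nat_lit 779) j)
noncomputable def tJ_s781_783 (j : Nat) : Nat := @Bool.rec (fun _ => Nat) tJ_P781 tJ_P782 (Nat.ble (nat_lit 782) j)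
noncomputable def tJ_s783_785 (j : Nat) : Nat := @Bool.rec (fun _ => Nat) tJ_P783 tJ_P784 (Nat.ble (nat_lit 784) j)
noncomputable def tJ_s785_787 (j : Nat) : Nat := @Bool.rec (fun _ => Nat) tJ_P785 tJ_P786 (Nat.ble (nat_lit 786) j)
noncomputable def tJ_s773_787 (j : Nat) : Nat := @Bool.rec (fun _ => Nat) (@Bool.rec (fun _ => Nat) (@Bool.rec (fun _ => Nat) tJ_P773 (tJ_s774_776 j) (Nat.ble (nat_lit 774) j)) (@Bool.rec (fun _ => Nat) (tJ_s776_778 j) (tJ_s778_780 j) (Nat.ble (nat_lit 778) j)) (Nat.ble (nat_lit 776) j)) (@Bool.rec (fun _ => Nat) (@Bool.rec (fun _ => Nat) tJ_P780 (tJ_s781_783 j) (Nat.ble (nat_lit 781) j)) (@Bool.rec (fun _ => Nat) (tJ_s783_785 j) (tJ_s785_787 j) (Nat.ble (nat_lit 785) j)) (Nat.ble (nat_lit 783) j)) (Nat.ble (nat_lit 780) j)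
noncomputable def tJ_s788_790 (j : Nat) : Nat := @Bool.rec (fun _ => Nat) tJ_P788 tJ_P789 (Nat.ble (nat_lit 789) j)
noncomputable def tJ_s790_792 (j : Nat) : Nat := @Bool.rec (fun _ => Nat) tJ_P790 tJ_P791 (Nat.ble (nat_lit 791) j)
noncomputable def tJ_s792_794 (j : Nat) : Nat := @Bool.rec (fun _ => Nat) tJ_P792 tJ_P793 (Nat.ble (nat_lit 793) j)
noncomputable def tJ_s794_796 (j : Nat) : Nat := @Bool.rec (fun _ => Nat) tJ_P794 tJ_P795 (Nat.ble (nat_lit 795) j)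
noncomputable def tJ_s796_798 (j : Nat) : Nat := @Bool.rec (fun _ => Nat) tJ_P796 tJ_P797 (Nat.ble (nat_lit 797) j)
noncomputable def tJ_s798_800 (j : Nat) : Nat := @Bool.rec (fun _ => Nat) tJ_P798 tJ_P799 (Nat.ble (nat_lit 799) j)
noncomputable def tJ_s800_802 (j : Nat) : Nat := @Bool.rec (fun _ => Nat) tJ_P800 tJ_P801 (Nat.ble (nat_lit 801) j)
noncomputable def tJ_s787_802 (j : Nat) : Nat := @Bool.rec (fun _ => Nat) (@Bool.rec (fun _ => Nat) (@Bool.rec (fun _ => Nat) tJ_P787 (tJ_s788_790 j) (Nat.ble (nat_lit 788) j)) (@Bool.rec (fun _ => Nat) (tJ_s790_792 j) (tJ_s792_794 j) (Nat.ble (nat_lit 792) j)) (Nat.ble (nat_lit 790) j)) (@Bool.rec (fun _ => Nat) (@Bool.rec (fun _ => Nat) (tJ_s794_796 j) (tJ_s796_798 j) (Nat.ble (nat_lit 796) j)) (@Bool.rec (fun _ => Nat) (tJ_s798_800 j) (tJ_s800_802 j) (Nat.ble (nat_lit 800) j)) (Nat.ble (nat_lit 798) j)) (Nat.ble (nat_lit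 794) j)
noncomputable def tJ_s687_802 (j : Nat) : Nat := @Bool.rec (fun _ => Nat) (@Bool.rec (fun _ => Nat) (@Bool.rec (fun _ => Nat) (tJ_s687_701 j) (tJ_s701_715 j) (Nat.ble (nat_lit 701) j)) (@Bool.rec (fun _ => Nat) (tJ_s715_729 j) (tJ_s729_744 j) (Nat.ble (nat_lit 729) j)) (Nat.ble (nat_lit 715) j)) (@Bool.rec (fun _ => Nat) (@Bool.rec (fun _ => Nat) (tJ_s744_758 j) (tJ_s758_773 j) (Nat.ble (nat_lit 758) j)) (@Bool.rec (fun _ => Nat) (tJ_s773_787 j) (tJ_s787_802 j) (Nat.ble (nat_lit 787) j)) (Nat.ble (nat_lit 773) j)) (Nat.ble (nat_lit 744) j)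
noncomputable def tJ_s803_805 (j : Nat) : Nat := @Bool.rec (fun _ => Nat) tJ_P803 tJ_P804 (Nat.ble (nat_lit 804) j)
noncomputable def tJ_s805_807 (j : Nat) : Nat := @Bool.rec (fun _ => Nat) tJ_P805 tJ_P806 (Nat.ble (nat_lit 806) j)
noncomputable def tJ_s807_809 (j : Nat) : Nat := @Bool.rec (fun _ => Nat) tJ_P807 tJ_P808 (Nat.ble (nat_lit 808) j)
noncomputable def tJ_s810_812 (j : Nat) : Nat := @Bool.rec (fun _ => Nat) tJ_P810 tJ_P811 (Nat.ble (nat_lit 811) j)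
noncomputable def tJ_s812_814 (j : Nat) : Nat := @Bool.rec (fun _ => Nat) tJ_P812 tJ_P813 (Nat.ble (nat_lit 813) j)
noncomputable def tJ_s814_816 (j : Nat) : Nat := @Bool.rec (fun _ => Nat) tJ_P814 tJ_P815 (Nat.ble (nat_lit 815) j)
noncomputable def tJ_s802_816 (j : Nat) : Nat := @Bool.rec (fun _ => Nat) (@Bool.rec (fun _ => Nat) (@Bool.rec (fun _ => Nat) tJ_P802 (tJ_s803_805 j) (Nat.ble (nat_lit 803) j)) (@Bool.rec (fun _ => Nat) (tJ_s805_807 j) (tJ_s807_809 j) (Nat.ble (nat_lit 807) j)) (Nat.ble (nat_lit 805) j)) (@Bool.rec (fun _ => Nat) (@Bool.rec (fun _ => Nat) tJ_P809 (tJ_s810_812 j) (Nat.ble (nat_lit 810) j)) (@Bool.rec (fun _ => Nat) (tJ_s812_814 j) (tJ_s814_816 j) (Nat.ble (nat_lit 814) j)) (Nat.ble (nat_lit 812) j)) (Nat.ble (nat_lit 809) j)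
noncomputable def tJ_s817_819 (j : Nat) : Nat := @Bool.rec (fun _ => Nat) tJ_P817 tJ_P818 (Nat.ble (nat_lit 818) j)
noncomputable def tJ_s819_821 (j : Nat) : Nat := @Bool.rec (fun _ => Nat) tJ_P819 tJ_P820 (Nat.ble (nat_lit 820) j)
noncomputable def tJ_s821_823 (j : Nat) : Nat := @Bool.rec (fun _ => Nat) tJ_P821 tJ_P822 (Nat.ble (nat_lit 822) j)
noncomputable def tJ_s824_826 (j : Nat) : Nat := @Bool.rec (fun _ => Nat) tJ_P824 tJ_P825 (Nat.ble (nat_lit 825) j)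
noncomputable def tJ_s826_828 (j : Nat) : Nat := @Bool.rec (fun _ => Nat) tJ_P826 tJ_P827 (Nat.ble (nat_lit 827) j)
noncomputable def tJ_s828_830 (j : Nat) : Nat := @Bool.rec (fun _ => Nat) tJ_P828 tJ_P829 (Nat.ble (nat_lit 829) j)
noncomputable def tJ_s816_830 (j : Nat) : Nat := @Bool.rec (fun _ => Nat) (@Bool.rec (fun _ => Nat) (@Bool.rec (fun _ => Nat) tJ_P816 (tJ_s817_819 j) (Nat.ble (nat_lit 817) j)) (@Bool.rec (fun _ => Nat) (tJ_s819_821 j) (tJ_s821_823 j) (Nat.ble (nat_lit 821) j)) (Nat.ble (nat_lit 819) j)) (@Bool.rec (fun _ => Nat) (@Bool.rec (fun _ => Nat) tJ_P823 (tJ_s824_826 j) (Nat.ble (nat_lit 824) j)) (@Bool.rec (fun _ => Nat) (tJ_s826_828 j) (tJ_s828_830 j) (Nat.ble (nat_lit 828) j)) (Nat.ble (nat_lit 826) j)) (Nat.ble (nat_lit 823) j)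
noncomputable def tJ_s831_833 (j : Nat) : Nat := @Bool.rec (fun _ => Nat) tJ_P831 tJ_P832 (Nat.ble (nat_lit 832) j)
noncomputable def tJ_s833_835 (j : Nat) : Nat := @Bool.rec (fun _ => Nat) tJ_P833 tJ_P834 (Nat.ble (nat_lit 834) j)
noncomputable def tJ_s835_837 (j : Nat) : Nat := @Bool.rec (fun _ => Nat) tJ_P835 tJ_P836 (Nat.ble (nat_lit 836) j)
noncomputable def tJ_s838_840 (j : Nat) : Nat := @Bool.rec (fun _ => Nat) tJ_P838 tJ_P839 (Nat.ble (nat_lit 839) j)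
noncomputable def tJ_s840_842 (j : Nat) : Nat := @Bool.rec (fun _ => Nat) tJ_P840 tJ_P841 (Nat.ble (nat_lit 841) j)
noncomputable def tJ_s842_844 (j : Nat) : Nat := @Bool.rec (fun _ => Nat) tJ_P842 tJ_P843 (Nat.ble (nat_lit 843) j)
noncomputable def tJ_s830_844 (j : Nat) : Nat := @Bool.rec (fun _ => Nat) (@Bool.rec (fun _ => Nat) (@Bool.rec (fun _ => Nat) tJ_P830 (tJ_s831_833 j) (Nat.ble (nat_lit 831) j)) (@Bool.rec (fun _ => Nat) (tJ_s833_835 j) (tJ_s835_837 j) (Nat.ble (nat_lit 835) j)) (Nat.ble (nat_lit 833) j)) (@Bool.rec (fun _ => Nat) (@Bool.rec (fun _ => Nat) tJ_P837 (tJ_s838_840 j) (Nat.ble (nat_lit 838) j)) (@Bool.rec (fun _ => Nat) (tJ_s840_842 j) (tJ_s842_844 j) (Nat.ble (nat_lit 842) j)) (Nat.ble (nat_lit 840) j)) (Nat.ble (nat_lit 837) j)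
noncomputable def tJ_s845_847 (j : Nat) : Nat := @Bool.rec (fun _ => Nat) tJ_P845 tJ_P846 (Nat.ble (nat_lit 846) j)
noncomputable def tJ_s847_849 (j : Nat) : Nat := @Bool.rec (fun _ => Nat) tJ_P847 tJ_P848 (Nat.ble (nat_lit 848) j)
noncomputable def tJ_s849_851 (j : Nat) : Nat := @Bool.rec (fun _ => Nat) tJ_P849 tJ_P850 (Nat.ble (nat_lit 850) j)
noncomputable def tJ_s851_853 (j : Nat) : Nat := @Bool.rec (fun _ => Nat) tJ_P851 tJ_P852 (Nat.ble (nat_lit 852) j)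
noncomputable def tJ_s853_855 (j : Nat) : Nat := @Bool.rec (fun _ => Nat) tJ_P853 tJ_P854 (Nat.ble (nat_lit 854) j)
noncomputable def tJ_s855_857 (j : Nat) : Nat := @Bool.rec (fun _ => Nat) tJ_P855 tJ_P856 (Nat.ble (nat_lit 856) j)
noncomputable def tJ_s857_859 (j : Nat) : Nat := @Bool.rec (fun _ => Nat) tJ_P857 tJ_P858 (Nat.ble (nat_lit 858) j)
noncomputable def tJ_s844_859 (j : Nat) : Nat := @Bool.rec (fun _ => Nat) (@Bool.rec (fun _ => Nat) (@Bool.rec (fun _ => Nat) tJ_P844 (tJ_s845_847 j) (Nat.ble (nat_lit 845) j)) (@Bool.rec (fun _ => Nat) (tJ_s847_849 j) (tJ_s849_851 j) (Nat.ble (nat_lit 849) j)) (Nat.ble (nat_lit 847) j)) (@Bool.rec (fun _ => Nat) (@Bool.rec (fun _ => Nat) (tJ_s851_853 j) (tJ_s853_855 j) (Nat.ble (nat_lit 853) j)) (@Bool.rec (fun _ => Nat) (tJ_s855_857 j) (tJ_s857_859 j) (Nat.ble (nat_lit 857) j)) (Nat.ble (nat_lit 855) j)) (Nat.ble (nat_lit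 851) j)
noncomputable def tJ_s860_862 (j : Nat) : Nat := @Bool.rec (fun _ => Nat) tJ_P860 tJ_P861 (Nat.ble (nat_lit 861) j)
noncomputable def tJ_s862_864 (j : Nat) : Nat := @Bool.rec (fun _ => Nat) tJ_P862 tJ_P863 (Nat.ble (nat_lit 863) j)
noncomputable def tJ_s864_866 (j : Nat) : Nat := @Bool.rec (fun _ => Nat) tJ_P864 tJ_P865 (Nat.ble (nat_lit 865) j)
noncomputable def tJ_s867_869 (j : Nat) : Nat := @Bool.rec (fun _ => Nat) tJ_P867 tJ_P868 (Nat.ble (nat_lit 868) j)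
noncomputable def tJ_s869_871 (j : Nat) : Nat := @Bool.rec (fun _ => Nat) tJ_P869 tJ_P870 (Nat.ble (nat_lit 870) j)
noncomputable def tJ_s871_873 (j : Nat) : Nat := @Bool.rec (fun _ => Nat) tJ_P871 tJ_P872 (Nat.ble (nat_lit 872) j)
noncomputable def tJ_s859_873 (j : Nat) : Nat := @Bool.rec (fun _ => Nat) (@Bool.rec (fun _ => Nat) (@Bool.rec (fun _ => Nat) tJ_P859 (tJ_s860_862 j) (Nat.ble (nat_lit 860) j)) (@Bool.rec (fun _ => Nat) (tJ_s862_864 j) (tJ_s864_866 j) (Nat.ble (nat_lit 864) j)) (Nat.ble (nat_lit 862) j)) (@Bool.rec (fun _ => Nat) (@Bool.rec (fun _ => Nat) tJ_P866 (tJ_s867_869 j) (Nat.ble (nat_lit 867) j)) (@Bool.rec (fun _ => Nat) (tJ_s869_871 j) (tJ_s871_873 j) (Nat.ble (nat_lit 871) j)) (Nat.ble (nat_lit 869) j)) (Nat.ble (nat_lit 866) j)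
noncomputable def tJ_s874_876 (j : Nat) : Nat := @Bool.rec (fun _ => Nat) tJ_P874 tJ_P875 (Nat.ble (nat_lit 875) j)
noncomputable def tJ_s876_878 (j : Nat) : Nat := @Bool.rec (fun _ => Nat) tJ_P876 tJ_P877 (Nat.ble (nat_lit 877) j)
noncomputable def tJ_s878_880 (j : Nat) : Nat := @Bool.rec (fun _ => Nat) tJ_P878 tJ_P879 (Nat.ble (nat_lit 879) j)
noncomputable def tJ_s880_882 (j : Nat) : Nat := @Bool.rec (fun _ => Nat) tJ_P880 tJ_P881 (Nat.ble (nat_lit 881) j)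
noncomputable def tJ_s882_884 (j : Nat) : Nat := @Bool.rec (fun _ => Nat) tJ_P882 tJ_P883 (Nat.ble (nat_lit 883) j)
noncomputable def tJ_s884_886 (j : Nat) : Nat := @Bool.rec (fun _ => Nat) tJ_P884 tJ_P885 (Nat.ble (nat_lit 885) j)
noncomputable def tJ_s886_888 (j : Nat) : Nat := @Bool.rec (fun _ => Nat) tJ_P886 tJ_P887 (Nat.ble (nat_lit 887) j)
noncomputable def tJ_s873_888 (j : Nat) : Nat := @Bool.rec (fun _ => Nat) (@Bool.rec (fun _ => Nat) (@Bool.rec (fun _ => Nat) tJ_P873 (tJ_s874_876 j) (Nat.ble (nat_lit 874) j)) (@Bool.rec (fun _ => Nat) (tJ_s876_878 j) (tJ_s878_880 j) (Nat.ble (nat_lit 878) j)) (Nat.ble (nat_lit 876) j)) (@Bool.rec (fun _ => Nat) (@Bool.rec (fun _ => Nat) (tJ_s880_882 j) (tJ_s882_884 j) (Nat.ble (nat_lit 882) j)) (@Bool.rec (fun _ => Nat) (tJ_s884_886 j) (tJ_s886_888 j) (Nat.ble (nat_lit 886) j)) (Nat.ble (nat_lit 884) j)) (Nat.ble (nat_lit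 880) j)
noncomputable def tJ_s889_891 (j : Nat) : Nat := @Bool.rec (fun _ => Nat) tJ_P889 tJ_P890 (Nat.ble (nat_lit 890) j)
noncomputable def tJ_s891_893 (j : Nat) : Nat := @Bool.rec (fun _ => Nat) tJ_P891 tJ_P892 (Nat.ble (nat_lit 892) j)
noncomputable def tJ_s893_895 (j : Nat) : Nat := @Bool.rec (fun _ => Nat) tJ_P893 tJ_P894 (Nat.ble (nat_lit 894) j)
noncomputable def tJ_s896_898 (j : Nat) : Nat := @Bool.rec (fun _ => Nat) tJ_P896 tJ_P897 (Nat.ble (nat_lit 897) j)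
noncomputable def tJ_s898_900 (j : Nat) : Nat := @Bool.rec (fun _ => Nat) tJ_P898 tJ_P899 (Nat.ble (nat_lit 899) j)
noncomputable def tJ_s900_902 (j : Nat) : Nat := @Bool.rec (fun _ => Nat) tJ_P900 tJ_P901 (Nat.ble (nat_lit 901) j)
noncomputable def tJ_s888_902 (j : Nat) : Nat := @Bool.rec (fun _ => Nat) (@Bool.rec (fun _ => Nat) (@Bool.rec (fun _ => Nat) tJ_P888 (tJ_s889_891 j) (Nat.ble (nat_lit 889) j)) (@Bool.rec (fun _ => Nat) (tJ_s891_893 j) (tJ_s893_895 j) (Nat.ble (nat_lit 893) j)) (Nat.ble (nat_lit 891) j)) (@Bool.rec (fun _ => Nat) (@Bool.rec (fun _ => Nat) tJ_P895 (tJ_s896_898 j) (Nat.ble (nat_lit 896) j)) (@Bool.rec (fun _ => Nat) (tJ_s898_900 j) (tJ_s900_902 j) (Nat.ble (nat_lit 900) j)) (Nat.ble (nat_lit 898) j)) (Nat.ble (nat_lit 895) j)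
noncomputable def tJ_s903_905 (j : Nat) : Nat := @Bool.rec (fun _ => Nat) tJ_P903 tJ_P904 (Nat.ble (nat_lit 904) j)
noncomputable def tJ_s905_907 (j : Nat) : Nat := @Bool.rec (fun _ => Nat) tJ_P905 tJ_P906 (Nat.ble (nat_lit 906) j)
noncomputable def tJ_s907_909 (j : Nat) : Nat := @Bool.rec (fun _ => Nat) tJ_P907 tJ_P908 (Nat.ble (nat_lit 908) j)
noncomputable def tJ_s909_911 (j : Nat) : Nat := @Bool.rec (fun _ => Nat) tJ_P909 tJ_P910 (Nat.ble (nat_lit 910) j)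
noncomputable def tJ_s911_913 (j : Nat) : Nat := @Bool.rec (fun _ => Nat) tJ_P911 tJ_P912 (Nat.ble (nat_lit 912) j)
noncomputable def tJ_s913_915 (j : Nat) : Nat := @Bool.rec (fun _ => Nat) tJ_P913 tJ_P914 (Nat.ble (nat_lit 914) j)
noncomputable def tJ_s915_917 (j : Nat) : Nat := @Bool.rec (fun _ => Nat) tJ_P915 tJ_P916 (Nat.ble (nat_lit 916) j)
noncomputable def tJ_s902_917 (j : Nat) : Nat := @Bool.rec (fun _ => Nat) (@Bool.rec (fun _ => Nat) (@Bool.rec (fun _ => Nat) tJ_P902 (tJ_s903_905 j) (Nat.ble (nat_lit 903) j)) (@Bool.rec (fun _ => Nat) (tJ_s905_907 j) (tJ_s907_909 j) (Nat.ble (nat_lit 907) j)) (Nat.ble (nat_lit 905) j)) (@Bool.rec (fun _ => Nat) (@Bool.rec (fun _ => Nat) (tJ_s909_911 j) (tJ_s911_913 j) (Nat.ble (nat_lit 911) j)) (@Bool.rec (fun _ => Nat) (tJ_s913_915 j) (tJ_s915_917 j) (Nat.ble (nat_lit 915) j)) (Nat.ble (nat_lit 913) j)) (Nat.ble (nat_lit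 909) j)
noncomputable def tJ_s802_917 (j : Nat) : Nat := @Bool.rec (fun _ => Nat) (@Bool.rec (fun _ => Nat) (@Bool.rec (fun _ => Nat) (tJ_s802_816 j) (tJ_s816_830 j) (Nat.ble (nat_lit 816) j)) (@Bool.rec (fun _ => Nat) (tJ_s830_844 j) (tJ_s844_859 j) (Nat.ble (nat_lit 844) j)) (Nat.ble (nat_lit 830) j)) (@Bool.rec (fun _ => Nat) (@Bool.rec (fun _ => Nat) (tJ_s859_873 j) (tJ_s873_888 j) (Nat.ble (nat_lit 873) j)) (@Bool.rec (fun _ => Nat) (tJ_s888_902 j) (tJ_s902_917 j) (Nat.ble (nat_lit 902) j)) (Nat.ble (nat_lit 888) j)) (Nat.ble (nat_lit 859) j)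
noncomputable def tJ_s0_917 (j : Nat) : Nat := @Bool.rec (fun _ => Nat) (@Bool.rec (fun _ => Nat) (@Bool.rec (fun _ => Nat) (tJ_s0_114 j) (tJ_s114_229 j) (Nat.ble (nat_lit 114) j)) (@Bool.rec (fun _ => Nat) (tJ_s229_343 j) (tJ_s343_458 j) (Nat.ble (nat_lit 343) j)) (Nat.ble (nat_lit 229) j)) (@Bool.rec (fun _ => Nat) (@Bool.rec (fun _ => Nat) (tJ_s458_572 j) (tJ_s572_687 j) (Nat.ble (nat_lit 572) j)) (@Bool.rec (fun _ => Nat) (tJ_s687_802 j) (tJ_s802_917 j) (Nat.ble (nat_lit 802) j)) (Nat.ble (nat_lit 687) j)) (Nat.ble (nat_lit 458) j)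
noncomputable def tJ (i : Nat) : Nat := Nat.land (Nat.shiftRight (tJ_s0_917 (Nat.div i (nat_lit 2048))) (tJ_O i)) (nat_lit 102293456496754433437912178025862473506770063938845774671352855253004181137646079840102190385184504910965208878986252219038039267058918532916516487167)

noncomputable def rels : List (List Nat) := [[0, 0], [0, 2, 0, 2, 0, 2, 0, 2], [0, 4, 0, 4], [0, 6, 0, 6], [0, 8, 0, 8], [0, 10, 0, 10], [0, 12, 0, 12], [], [2, 2], [2, 4, 2, 4, 2, 4], [2, 6, 2, 6], [2, 8, 2, 8], [2, 10, 2, 10], [2, 12, 2, 12], [], [], [4, 4], [4, 6, 4, 6, 4, 6, 4, 6, 4, 6, 4, 6, 4, 6, 4, 6, 4, 6, 4, 6], [4, 8, 4, 8], [4, 10, 4, 10], [4, 12, 4, 12], [], [], [], [6, 6], [6, 8, 6, 8, 6, 8], [6, 10, 6, 10, 6, 10], [6, 12, 6, 12, 6, 12], [], [], [], [], [8, 8], [8, 10, 8, 10], [8, 12, 8, 12], [], [], [], [], [], [10, 10], [10, 12, 10, 12, 10, 12, 10, 12], [], [], [], [], [], [],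 [12, 12], [8, 13, 11, 13, 11], [8, 5, 3, 1, 5, 3, 1, 5, 3, 1], [0, 7, 5, 7, 5, 7, 5, 7, 5, 7, 5], [4, 6, 10, 12, 4, 6, 10, 12, 4, 6, 10, 12, 4, 6, 10, 12]]
noncomputable def subs : List (List Nat) := [[0], [2], [4], [6], [8]]
noncomputable def rels2 : List (List (List Nat)) := [[[0, 0], [0, 2, 0, 2, 0, 2, 0, 2], [0, 4, 0, 4], [0, 6, 0, 6], [0, 8, 0, 8], [0, 10, 0, 10], [0, 12, 0, 12], []], [[2, 2], [2, 4, 2, 4, 2, 4], [2, 6, 2, 6], [2, 8, 2, 8], [2, 10, 2, 10], [2, 12, 2, 12], [], []], [[4, 4], [4, 6, 4, 6, 4, 6, 4, 6, 4, 6, 4, 6, 4, 6, 4, 6, 4, 6, 4, 6], [4, 8, 4, 8], [4, 10, 4, 10], [4, 12, 4, 12], [], [], []], [[6, 6], [6, 8, 6, 8, 6, 8], [6, 10, 6, 10, 6, 10], [6, 12, 6, 12, 6, 12], [], [], [], []], [[8, 8], [8, 10, 8, 10], [8, 12, 8, 12], [], [], [], [], []], [[10, 10], [10, 12, 10, 12, 10, 12, 10, 12], [], [], [], [], [], []], [[12, 12], [8, 13, 11, 13,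 11], [8, 5, 3, 1, 5, 3, 1, 5, 3, 1], [0, 7, 5, 7, 5, 7, 5, 7, 5, 7, 5], [4, 6, 10, 12, 4, 6, 10, 12, 4, 6, 10, 12, 4, 6, 10, 12]]]
noncomputable def cert : Cert := ⟨7, 266560, 1877928, tF, tJ, tD, rels, subs, tT, tPP, tNO, tTAB, rels2, tORB, tORK, tOPAR, tROOT⟩

end Cfsg.Agent.Lib.Helper28.He2Data
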