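import Cfsg.Agent.Lib.Helper28.HePData
import Cfsg.Agent.Lib.Helper28.TCFast

set_option autoImplicit false
set_option maxRecDepth 1000000
set_option linter.all false
set_option Elab.async false

namespace Cfsg.Agent.Lib.Helper28.HePData

open Cfsg.Agent.Lib.Helper28

theorem chkP_0 : allRangeF (checkPointF cert) (nat_lit 0) (nat_lit 100) = true := by decide +kernel
theorem chkP_100 : allRangeF (checkPointF cert) (nat_lit 100) (nat_lit 100) = true := by decide +kernel
theorem chkP_200 : allRangeF (checkPointF cert) (nat_lit 200) (nat_lit 100) = true := by decide +kernel
theorem chkP_300 : allRangeF (checkPointF cert) (nat_lit 300) (nat_lit 100) = true := by decide +kernel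
theorem chkP_400 : allRangeF (checkPointF cert) (nat_lit 400) (nat_lit 100) = true := by decide +kernel
theorem chkP_500 : allRangeF (checkPointF cert) (nat_lit 500) (nat_lit 100) = true := by decide +kernel
theorem chkP_600 : allRangeF (checkPointF cert) (nat_lit 600) (nat_lit 100) = true := by decide +kernel
theorem chkP_700 : allRangeF (checkPointF cert) (nat_lit 700) (nat_lit 100) = true := by decide +kernel
theorem chkP_800 : allRangeF (checkPointF cert) (nat_lit 800) (nat_lit 100) = true := by decide +kernel
theorem chkP_900 : allRangeF (checkPointF cert) (nat_lit 900) (nat_lit 100) = true := by decide +kernel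
theorem chkP_1000 : allRangeF (checkPointF cert) (nat_lit 1000) (nat_lit 100) = true := by decide +kernel
theorem chkP_1100 : allRangeF (checkPointF cert) (nat_lit 1100) (nat_lit 100) = true := by decide +kernel
theorem chkP_1200 : allRangeF (checkPointF cert) (nat_lit 1200) (nat_lit 100) = true := by decide +kernel
theorem chkP_1300 : allRangeF (checkPointF cert) (nat_lit 1300) (nat_lit 100) = true := by decide +kernel
theorem chkP_1400 : allRangeF (checkPointF cert) (nat_lit 1400) (nat_lit 100) = true := by decide +kernel
theorem chkP_1500 : allRangeF (checkPointF cert) (nat_lit 1500) (nat_lit 100) = true := by decide +kernel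
theorem chkP_1600 : allRangeF (checkPointF cert) (nat_lit 1600) (nat_lit 100) = true := by decide +kernel
theorem chkP_1700 : allRangeF (checkPointF cert) (nat_lit 1700) (nat_lit 100) = true := by decide +kernel
theorem chkP_1800 : allRangeF (checkPointF cert) (nat_lit 1800) (nat_lit 100) = true := by decide +kernel
theorem chkP_1900 : allRangeF (checkPointF cert) (nat_lit 1900) (nat_lit 100) = true := by decide +kernel
theorem chkP_2000 : allRangeF (checkPointF cert) (nat_lit 2000) (nat_lit 100) = true := by decide +kernel
theorem chkP_2100 : allRangeF (checkPointF cert) (nat_lit 2100) (nat_lit 100) = true := by decide +kernel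
theorem chkP_2200 : allRangeF (checkPointF cert) (nat_lit 2200) (nat_lit 100) = true := by decide +kernel
theorem chkP_2300 : allRangeF (checkPointF cert) (nat_lit 2300) (nat_lit 100) = true := by decide +kernel
theorem chkP_2400 : allRangeF (checkPointF cert) (nat_lit 2400) (nat_lit 100) = true := by decide +kernel
theorem chkP_2500 : allRangeF (checkPointF cert) (nat_lit 2500) (nat_lit 100) = true := by decide +kernel
theorem chkP_2600 : allRangeF (checkPointF cert) (nat_lit 2600) (nat_lit 100) = true := by decide +kernel
theorem chkP_2700 : allRangeF (checkPointF cert) (nat_lit 2700) (nat_lit 100) = true := by decide +kernel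
theorem chkP_2800 : allRangeF (checkPointF cert) (nat_lit 2800) (nat_lit 100) = true := by decide +kernel
theorem chkP_2900 : allRangeF (checkPointF cert) (nat_lit 2900) (nat_lit 100) = true := by decide +kernel
theorem chkP_3000 : allRangeF (checkPointF cert) (nat_lit 3000) (nat_lit 100) = true := by decide +kernel
theorem chkP_3100 : allRangeF (checkPointF cert) (nat_lit 3100) (nat_lit 100) = true := by decide +kernel
theorem chkP_3200 : allRangeF (checkPointF cert) (nat_lit 3200) (nat_lit 100) = true := by decide +kernel
theorem chkP_3300 : allRangeF (checkPointF cert) (nat_lit 3300) (nat_lit 100) = true := by decide +kernel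
theorem chkP_3400 : allRangeF (checkPointF cert) (nat_lit 3400) (nat_lit 100) = true := by decide +kernel
theorem chkP_3500 : allRangeF (checkPointF cert) (nat_lit 3500) (nat_lit 100) = true := by decide +kernel
theorem chkP_3600 : allRangeF (checkPointF cert) (nat_lit 3600) (nat_lit 100) = true := by decide +kernel
theorem chkP_3700 : allRangeF (checkPointF cert) (nat_lit 3700) (nat_lit 100) = true := by decide +kernel
theorem chkP_3800 : allRangeF (checkPointF cert) (nat_lit 3800) (nat_lit 100) = true := by decide +kernel
theorem chkP_3900 : allRangeF (checkPointF cert) (nat_lit 3900) (nat_lit 100) = true := by decide +kernel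
theorem chkP_4000 : allRangeF (checkPointF cert) (nat_lit 4000) (nat_lit 100) = true := by decide +kernel
theorem chkP_4100 : allRangeF (checkPointF cert) (nat_lit 4100) (nat_lit 100) = true := by decide +kernel
theorem chkP_4200 : allRangeF (checkPointF cert) (nat_lit 4200) (nat_lit 100) = true := by decide +kernel
theorem chkP_4300 : allRangeF (checkPointF cert) (nat_lit 4300) (nat_lit 100) = true := by decide +kernel
theorem chkP_4400 : allRangeF (checkPointF cert) (nat_lit 4400) (nat_lit 100) = true := by decide +kernel
theorem chkP_4500 : allRangeF (checkPointF cert) (nat_lit 4500) (nat_lit 100) = true := by decide +kernel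
theorem chkP_4600 : allRangeF (checkPointF cert) (nat_lit 4600) (nat_lit 100) = true := by decide +kernel
theorem chkP_4700 : allRangeF (checkPointF cert) (nat_lit 4700) (nat_lit 100) = true := by decide +kernel
theorem chkP_4800 : allRangeF (checkPointF cert) (nat_lit 4800) (nat_lit 100) = true := by decide +kernel
theorem chkP_4900 : allRangeF (checkPointF cert) (nat_lit 4900) (nat_lit 100) = true := by decide +kernel
theorem chkP_5000 : allRangeF (checkPointF cert) (nat_lit 5000) (nat_lit 100) = true := by decide +kernel
theorem chkP_5100 : allRangeF (checkPointF cert) (nat_lit 5100) (nat_lit 100) = true := by decide +kernel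
theorem chkP_5200 : allRangeF (checkPointF cert) (nat_lit 5200) (nat_lit 100) = true := by decide +kernel
theorem chkP_5300 : allRangeF (checkPointF cert) (nat_lit 5300) (nat_lit 100) = true := by decide +kernel
theorem chkP_5400 : allRangeF (checkPointF cert) (nat_lit 5400) (nat_lit 100) = true := by decide +kernel
theorem chkP_5500 : allRangeF (checkPointF cert) (nat_lit 5500) (nat_lit 100) = true := by decide +kernel
theorem chkP_5600 : allRangeF (checkPointF cert) (nat_lit 5600) (nat_lit 100) = true := by decide +kernel
theorem chkP_5700 : allRangeF (checkPointF cert) (nat_lit 5700) (nat_lit 100) = true := by decide +kernel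
theorem chkP_5800 : allRangeF (checkPointF cert) (nat_lit 5800) (nat_lit 100) = true := by decide +kernel
theorem chkP_5900 : allRangeF (checkPointF cert) (nat_lit 5900) (nat_lit 100) = true := by decide +kernel
theorem chkP_6000 : allRangeF (checkPointF cert) (nat_lit 6000) (nat_lit 100) = true := by decide +kernel
theorem chkP_6100 : allRangeF (checkPointF cert) (nat_lit 6100) (nat_lit 100) = true := by decide +kernel
theorem chkP_6200 : allRangeF (checkPointF cert) (nat_lit 6200) (nat_lit 100) = true := by decide +kernel
theorem chkP_6300 : allRangeF (checkPointF cert) (nat_lit 6300) (nat_lit 100) = true := by decide +kernel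
theorem chkP_6400 : allRangeF (checkPointF cert) (nat_lit 6400) (nat_lit 100) = true := by decide +kernel
theorem chkP_6500 : allRangeF (checkPointF cert) (nat_lit 6500) (nat_lit 100) = true := by decide +kernel
theorem chkP_6600 : allRangeF (checkPointF cert) (nat_lit 6600) (nat_lit 100) = true := by decide +kernel
theorem chkP_6700 : allRangeF (checkPointF cert) (nat_lit 6700) (nat_lit 100) = true := by decide +kernel
theorem chkP_6800 : allRangeF (checkPointF cert) (nat_lit 6800) (nat_lit 100) = true := by decide +kernel
theorem chkP_6900 : allRangeF (checkPointF cert) (nat_lit 6900) (nat_lit 100) = true := by decide +kernel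
theorem chkP_7000 : allRangeF (checkPointF cert) (nat_lit 7000) (nat_lit 100) = true := by decide +kernel
theorem chkP_7100 : allRangeF (checkPointF cert) (nat_lit 7100) (nat_lit 100) = true := by decide +kernel
theorem chkP_7200 : allRangeF (checkPointF cert) (nat_lit 7200) (nat_lit 100) = true := by decide +kernel
theorem chkP_7300 : allRangeF (checkPointF cert) (nat_lit 7300) (nat_lit 100) = true := by decide +kernel
theorem chkP_7400 : allRangeF (checkPointF cert) (nat_lit 7400) (nat_lit 100) = true := by decide +kernel
theorem chkP_7500 : allRangeF (checkPointF cert) (nat_lit 7500) (nat_lit 100) = true := by decide +kernel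

theorem ptsRange_0 : ∀ i, 0 ≤ i → i < 7600 → checkPoint cert i = true := by
  intro i hlo hhi
  rcases Nat.lt_or_ge i 3800 with h1 | h1
  · skip
    rcases Nat.lt_or_ge i 1900 with h2 | h2
    · skip
      rcases Nat.lt_or_ge i 900 with h3 | h3
      · skip
        rcases Nat.lt_or_ge i 400 with h4 | h4
        · skip
          rcases Nat.lt_or_ge i 200 with h5 | h5
          · skip
            rcases Nat.lt_or_ge i 100 with h6 | h6
            · skip
              exact allRangeF_sound _ _ (checkPointF_eq cert) 0 100 chkP_0 i (by omega) (by omega)
            · skip
              exact allRangeF_sound _ _ (checkPointF_eq cert) 100 100 chkP_100 i (by omega) (by omega)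
          · skip
            rcases Nat.lt_or_ge i 300 with h6 | h6
            · skip
              exact allRangeF_sound _ _ (checkPointF_eq cert) 200 100 chkP_200 i (by omega) (by omega)
            · skip
              exact allRangeF_sound _ _ (checkPointF_eq cert) 300 100 chkP_300 i (by omega) (by omega)
        · skip
          rcases Nat.lt_or_ge i 600 with h5 | h5
          · skip
            rcases Nat.lt_or_ge i 500 with h6 | h6
            · skip
              exact allRangeF_sound _ _ (checkPointF_eq cert) 400 100 chkP_400 i (by omega) (by omega)
            · skip
              exact allRangeF_sound _ _ (checkPointF_eq cert) 500 100 chkP_500 i (by omega) (by omega)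
          · skip
            rcases Nat.lt_or_ge i 700 with h6 | h6
            · skip
              exact allRangeF_sound _ _ (checkPointF_eq cert) 600 100 chkP_600 i (by omega) (by omega)
            · skip
              rcases Nat.lt_or_ge i 800 with h7 | h7
              · skip
                exact allRangeF_sound _ _ (checkPointF_eq cert) 700 100 chkP_700 i (by omega) (by omega)
              · skip
                exact allRangeF_sound _ _ (checkPointF_eq cert) 800 100 chkP_800 i (by omega) (by omega)
      · skip
        rcases Nat.lt_or_ge i 1400 with h4 | h4
        · skip
          rcases Nat.lt_or_ge i 1100 with h5 | h5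
          · skip
            rcases Nat.lt_or_ge i 1000 with h6 | h6
            · skip
              exact allRangeF_sound _ _ (checkPointF_eq cert) 900 100 chkP_900 i (by omega) (by omega)
            · skip
              exact allRangeF_sound _ _ (checkPointF_eq cert) 1000 100 chkP_1000 i (by omega) (by omega)
          · skip
            rcases Nat.lt_or_ge i 1200 with h6 | h6
            · skip
              exact allRangeF_sound _ _ (checkPointF_eq cert) 1100 100 chkP_1100 i (by omega) (by omega)
            · skip
              rcases Nat.lt_or_ge i 1300 with h7 | h7
              · skip
                exact allRangeF_sound _ _ (checkPointF_eq cert) 1200 100 chkP_1200 i (by omega) (by omega)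
              · skip
                exact allRangeF_sound _ _ (checkPointF_eq cert) 1300 100 chkP_1300 i (by omega) (by omega)
        · skip
          rcases Nat.lt_or_ge i 1600 with h5 | h5
          · skip
            rcases Nat.lt_or_ge i 1500 with h6 | h6
            · skip
              exact allRangeF_sound _ _ (checkPointF_eq cert) 1400 100 chkP_1400 i (by omega) (by omega)
            · skip
              exact allRangeF_sound _ _ (checkPointF_eq cert) 1500 100 chkP_1500 i (by omega) (by omega)
          · skip
            rcases Nat.lt_or_ge i 1700 with h6 | h6
            · skip
              exact allRangeF_sound _ _ (checkPointF_eq cert) 1600 100 chkP_1600 i (by omega) (by omega)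
            · skip
              rcases Nat.lt_or_ge i 1800 with h7 | h7
              · skip
                exact allRangeF_sound _ _ (checkPointF_eq cert) 1700 100 chkP_1700 i (by omega) (by omega)
              · skip
                exact allRangeF_sound _ _ (checkPointF_eq cert) 1800 100 chkP_1800 i (by omega) (by omega)
    · skip
      rcases Nat.lt_or_ge i 2800 with h3 | h3
      · skip
        rcases Nat.lt_or_ge i 2300 with h4 | h4
        · skip
          rcases Nat.lt_or_ge i 2100 with h5 | h5
          · skip
            rcases Nat.lt_or_ge i 2000 with h6 | h6
            · skip
              exact allRangeF_sound _ _ (checkPointF_eq cert) 1900 100 chkP_1900 i (by omega) (by omega)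
            · skip
              exact allRangeF_sound _ _ (checkPointF_eq cert) 2000 100 chkP_2000 i (by omega) (by omega)
          · skip
            rcases Nat.lt_or_ge i 2200 with h6 | h6
            · skip
              exact allRangeF_sound _ _ (checkPointF_eq cert) 2100 100 chkP_2100 i (by omega) (by omega)
            · skip
              exact allRangeF_sound _ _ (checkPointF_eq cert) 2200 100 chkP_2200 i (by omega) (by omega)
        · skip
          rcases Nat.lt_or_ge i 2500 with h5 | h5
          · skip
            rcases Nat.lt_or_ge i 2400 with h6 | h6
            · skip
              exact allRangeF_sound _ _ (checkPointF_eq cert) 2300 100 chkP_2300 i (by omega) (by omega)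
            · skip
              exact allRangeF_sound _ _ (checkPointF_eq cert) 2400 100 chkP_2400 i (by omega) (by omega)
          · skip
            rcases Nat.lt_or_ge i 2600 with h6 | h6
            · skip
              exact allRangeF_sound _ _ (checkPointF_eq cert) 2500 100 chkP_2500 i (by omega) (by omega)
            · skip
              rcases Nat.lt_or_ge i 2700 with h7 | h7
              · skip
                exact allRangeF_sound _ _ (checkPointF_eq cert) 2600 100 chkP_2600 i (by omega) (by omega)
              · skip
                exact allRangeF_sound _ _ (checkPointF_eq cert) 2700 100 chkP_2700 i (by omega) (by omega)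
      · skip
        rcases Nat.lt_or_ge i 3300 with h4 | h4
        · skip
          rcases Nat.lt_or_ge i 3000 with h5 | h5
          · skip
            rcases Nat.lt_or_ge i 2900 with h6 | h6
            · skip
              exact allRangeF_sound _ _ (checkPointF_eq cert) 2800 100 chkP_2800 i (by omega) (by omega)
            · skip
              exact allRangeF_sound _ _ (checkPointF_eq cert) 2900 100 chkP_2900 i (by omega) (by omega)
          · skip
            rcases Nat.lt_or_ge i 3100 with h6 | h6
            · skip
              exact allRangeF_sound _ _ (checkPointF_eq cert) 3000 100 chkP_3000 i (by omega) (by omega)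
            · skip
              rcases Nat.lt_or_ge i 3200 with h7 | h7
              · skip
                exact allRangeF_sound _ _ (checkPointF_eq cert) 3100 100 chkP_3100 i (by omega) (by omega)
              · skip
                exact allRangeF_sound _ _ (checkPointF_eq cert) 3200 100 chkP_3200 i (by omega) (by omega)
        · skip
          rcases Nat.lt_or_ge i 3500 with h5 | h5
          · skip
            rcases Nat.lt_or_ge i 3400 with h6 | h6
            · skip
              exact allRangeF_sound _ _ (checkPointF_eq cert) 3300 100 chkP_3300 i (by omega) (by omega)
            · skip
              exact allRangeF_sound _ _ (checkPointF_eq cert) 3400 100 chkP_3400 i (by omega) (by omega)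
          · skip
            rcases Nat.lt_or_ge i 3600 with h6 | h6
            · skip
              exact allRangeF_sound _ _ (checkPointF_eq cert) 3500 100 chkP_3500 i (by omega) (by omega)
            · skip
              rcases Nat.lt_or_ge i 3700 with h7 | h7
              · skip
                exact allRangeF_sound _ _ (checkPointF_eq cert) 3600 100 chkP_3600 i (by omega) (by omega)
              · skip
                exact allRangeF_sound _ _ (checkPointF_eq cert) 3700 100 chkP_3700 i (by omega) (by omega)
  · skip
    rcases Nat.lt_or_ge i 5700 with h2 | h2
    · skip
      rcases Nat.lt_or_ge i 4700 with h3 | h3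
      · skip
        rcases Nat.lt_or_ge i 4200 with h4 | h4
        · skip
          rcases Nat.lt_or_ge i 4000 with h5 | h5
          · skip
            rcases Nat.lt_or_ge i 3900 with h6 | h6
            · skip
              exact allRangeF_sound _ _ (checkPointF_eq cert) 3800 100 chkP_3800 i (by omega) (by omega)
            · skip
              exact allRangeF_sound _ _ (checkPointF_eq cert) 3900 100 chkP_3900 i (by omega) (by omega)
          · skip
            rcases Nat.lt_or_ge i 4100 with h6 | h6
            · skip
              exact allRangeF_sound _ _ (checkPointF_eq cert) 4000 100 chkP_4000 i (by omega) (by omega)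
            · skip
              exact allRangeF_sound _ _ (checkPointF_eq cert) 4100 100 chkP_4100 i (by omega) (by omega)
        · skip
          rcases Nat.lt_or_ge i 4400 with h5 | h5
          · skip
            rcases Nat.lt_or_ge i 4300 with h6 | h6
            · skip
              exact allRangeF_sound _ _ (checkPointF_eq cert) 4200 100 chkP_4200 i (by omega) (by omega)
            · skip
              exact allRangeF_sound _ _ (checkPointF_eq cert) 4300 100 chkP_4300 i (by omega) (by omega)
          · skip
            rcases Nat.lt_or_ge i 4500 with h6 | h6
            · skip
              exact allRangeF_sound _ _ (checkPointF_eq cert) 4400 100 chkP_4400 i (by omega) (by omega)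
            · skip
              rcases Nat.lt_or_ge i 4600 with h7 | h7
              · skip
                exact allRangeF_sound _ _ (checkPointF_eq cert) 4500 100 chkP_4500 i (by omega) (by omega)
              · skip
                exact allRangeF_sound _ _ (checkPointF_eq cert) 4600 100 chkP_4600 i (by omega) (by omega)
      · skip
        rcases Nat.lt_or_ge i 5200 with h4 | h4
        · skip
          rcases Nat.lt_or_ge i 4900 with h5 | h5
          · skip
            rcases Nat.lt_or_ge i 4800 with h6 | h6
            · skip
              exact allRangeF_sound _ _ (checkPointF_eq cert) 4700 100 chkP_4700 i (by omega) (by omega)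
            · skip
              exact allRangeF_sound _ _ (checkPointF_eq cert) 4800 100 chkP_4800 i (by omega) (by omega)
          · skip
            rcases Nat.lt_or_ge i 5000 with h6 | h6
            · skip
              exact allRangeF_sound _ _ (checkPointF_eq cert) 4900 100 chkP_4900 i (by omega) (by omega)
            · skip
              rcases Nat.lt_or_ge i 5100 with h7 | h7
              · skip
                exact allRangeF_sound _ _ (checkPointF_eq cert) 5000 100 chkP_5000 i (by omega) (by omega)
              · skip
                exact allRangeF_sound _ _ (checkPointF_eq cert) 5100 100 chkP_5100 i (by omega) (by omega)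
        · skip
          rcases Nat.lt_or_ge i 5400 with h5 | h5
          · skip
            rcases Nat.lt_or_ge i 5300 with h6 | h6
            · skip
              exact allRangeF_sound _ _ (checkPointF_eq cert) 5200 100 chkP_5200 i (by omega) (by omega)
            · skip
              exact allRangeF_sound _ _ (checkPointF_eq cert) 5300 100 chkP_5300 i (by omega) (by omega)
          · skip
            rcases Nat.lt_or_ge i 5500 with h6 | h6
            · skip
              exact allRangeF_sound _ _ (checkPointF_eq cert) 5400 100 chkP_5400 i (by omega) (by omega)
            · skip
              rcases Nat.lt_or_ge i 5600 with h7 | h7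
              · skip
                exact allRangeF_sound _ _ (checkPointF_eq cert) 5500 100 chkP_5500 i (by omega) (by omega)
              · skip
                exact allRangeF_sound _ _ (checkPointF_eq cert) 5600 100 chkP_5600 i (by omega) (by omega)
    · skip
      rcases Nat.lt_or_ge i 6600 with h3 | h3
      · skip
        rcases Nat.lt_or_ge i 6100 with h4 | h4
        · skip
          rcases Nat.lt_or_ge i 5900 with h5 | h5
          · skip
            rcases Nat.lt_or_ge i 5800 with h6 | h6
            · skip
              exact allRangeF_sound _ _ (checkPointF_eq cert) 5700 100 chkP_5700 i (by omega) (by omega)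
            · skip
              exact allRangeF_sound _ _ (checkPointF_eq cert) 5800 100 chkP_5800 i (by omega) (by omega)
          · skip
            rcases Nat.lt_or_ge i 6000 with h6 | h6
            · skip
              exact allRangeF_sound _ _ (checkPointF_eq cert) 5900 100 chkP_5900 i (by omega) (by omega)
            · skip
              exact allRangeF_sound _ _ (checkPointF_eq cert) 6000 100 chkP_6000 i (by omega) (by omega)
        · skip
          rcases Nat.lt_or_ge i 6300 with h5 | h5
          · skip
            rcases Nat.lt_or_ge i 6200 with h6 | h6
            · skip
              exact allRangeF_sound _ _ (checkPointF_eq cert) 6100 100 chkP_6100 i (by omega) (by omega)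
            · skip
              exact allRangeF_sound _ _ (checkPointF_eq cert) 6200 100 chkP_6200 i (by omega) (by omega)
          · skip
            rcases Nat.lt_or_ge i 6400 with h6 | h6
            · skip
              exact allRangeF_sound _ _ (checkPointF_eq cert) 6300 100 chkP_6300 i (by omega) (by omega)
            · skip
              rcases Nat.lt_or_ge i 6500 with h7 | h7
              · skip
                exact allRangeF_sound _ _ (checkPointF_eq cert) 6400 100 chkP_6400 i (by omega) (by omega)
              · skip
                exact allRangeF_sound _ _ (checkPointF_eq cert) 6500 100 chkP_6500 i (by omega) (by omega)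
      · skip
        rcases Nat.lt_or_ge i 7100 with h4 | h4
        · skip
          rcases Nat.lt_or_ge i 6800 with h5 | h5
          · skip
            rcases Nat.lt_or_ge i 6700 with h6 | h6
            · skip
              exact allRangeF_sound _ _ (checkPointF_eq cert) 6600 100 chkP_6600 i (by omega) (by omega)
            · skip
              exact allRangeF_sound _ _ (checkPointF_eq cert) 6700 100 chkP_6700 i (by omega) (by omega)
          · skip
            rcases Nat.lt_or_ge i 6900 with h6 | h6
            · skip
              exact allRangeF_sound _ _ (checkPointF_eq cert) 6800 100 chkP_6800 i (by omega) (by omega)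
            · skip
              rcases Nat.lt_or_ge i 7000 with h7 | h7
              · skip
                exact allRangeF_sound _ _ (checkPointF_eq cert) 6900 100 chkP_6900 i (by omega) (by omega)
              · skip
                exact allRangeF_sound _ _ (checkPointF_eq cert) 7000 100 chkP_7000 i (by omega) (by omega)
        · skip
          rcases Nat.lt_or_ge i 7300 with h5 | h5
          · skip
            rcases Nat.lt_or_ge i 7200 with h6 | h6
            · skip
              exact allRangeF_sound _ _ (checkPointF_eq cert) 7100 100 chkP_7100 i (by omega) (by omega)
            · skip
              exact allRangeF_sound _ _ (checkPointF_eq cert) 7200 100 chkP_7200 i (by omega) (by omega)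
          · skip
            rcases Nat.lt_or_ge i 7400 with h6 | h6
            · skip
              exact allRangeF_sound _ _ (checkPointF_eq cert) 7300 100 chkP_7300 i (by omega) (by omega)
            · skip
              rcases Nat.lt_or_ge i 7500 with h7 | h7
              · skip
                exact allRangeF_sound _ _ (checkPointF_eq cert) 7400 100 chkP_7400 i (by omega) (by omega)
              · skip
                exact allRangeF_sound _ _ (checkPointF_eq cert) 7500 100 chkP_7500 i (by omega) (by omega)

end Cfsg.Agent.Lib.Helper28.HePData
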