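import Cfsg.Agent.Lib.Helper28.TCDefs
import Cfsg.Agent.Lib.Helper28.HePDataP0

set_option autoImplicit false
set_option maxRecDepth 100000
set_option linter.all false

namespace Cfsg.Agent.Lib.Helper28.HePData

open Cfsg.Agent.Lib.Helper28

noncomputable def tF_s3_5 (j : Nat) : Nat := @Bool.rec (fun _ => Nat) tF_L3 tF_L4 (Nat.ble (nat_lit 4) j)
noncomputable def tF_s8_10 (j : Nat) : Nat := @Bool.rec (fun _ => Nat) tF_L8 tF_L9 (Nat.ble (nat_lit 9) j)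
noncomputable def tF_s0_10 (j : Nat) : Nat := @Bool.rec (fun _ => Nat) (@Bool.rec (fun _ => Nat) (@Bool.rec (fun _ => Nat) tF_L0 tF_L1 (Nat.ble (nat_lit 1) j)) (@Bool.rec (fun _ => Nat) tF_L2 (tF_s3_5 j) (Nat.ble (nat_lit 3) j)) (Nat.ble (nat_lit 2) j)) (@Bool.rec (fun _ => Nat) (@Bool.rec (fun _ => Nat) tF_L5 tF_L6 (Nat.ble (nat_lit 6) j)) (@Bool.rec (fun _ => Nat) tF_L7 (tF_s8_10 j) (Nat.ble (nat_lit 8) j)) (Nat.ble (nat_lit 7) j)) (Nat.ble (nat_lit 5) j)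
noncomputable def tF (i : Nat) : Nat := Nat.land (Nat.shiftRight (tF_s0_10 (Nat.div i (nat_lit 18181))) (Nat.mul (nat_lit 44) (Nat.mod i (nat_lit 18181)))) (nat_lit 17592186044415)
noncomputable def tD_s0_2 (j : Nat) : Nat := @Bool.rec (fun _ => Nat) tD_L0 tD_L1 (Nat.ble (nat_lit 1) j)
noncomputable def tD (i : Nat) : Nat := Nat.land (Nat.shiftRight (tD_s0_2 (Nat.div i (nat_lit 33333))) (Nat.mul (nat_lit 24) (Nat.mod i (nat_lit 33333)))) (nat_lit 16777215)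
noncomputable def tT_s0_4 (j : Nat) : Nat := @Bool.rec (fun _ => Nat) (@Bool.rec (fun _ => Nat) tT_L0 tT_L1 (Nat.ble (nat_lit 1) j)) (@Bool.rec (fun _ => Nat) tT_L2 tT_L3 (Nat.ble (nat_lit 3) j)) (Nat.ble (nat_lit 2) j)
noncomputable def tT (i : Nat) : Nat := Nat.land (Nat.shiftRight (tT_s0_4 (Nat.div i (nat_lit 57142))) (Nat.mul (nat_lit 14) (Nat.mod i (nat_lit 57142)))) (nat_lit 16383)
noncomputable def tPP (i : Nat) : Nat := Nat.land (Nat.shiftRight tPP_L0 (Nat.mul (nat_lit 18) i)) (nat_lit 262143)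
noncomputable def tNO (i : Nat) : Nat := Nat.land (Nat.shiftRight tNO_L0 (Nat.mul (nat_lit 16) i)) (nat_lit 65535)
noncomputable def tTAB_s0_3 (j : Nat) : Nat := @Bool.rec (fun _ => Nat) tTAB_L0 (@Bool.rec (fun _ => Nat) tTAB_L1 tTAB_L2 (Nat.ble (nat_lit 2) j)) (Nat.ble (nat_lit 1) j)
noncomputable def tTAB (i : Nat) : Nat := Nat.land (Nat.shiftRight (tTAB_s0_3 (Nat.div i (nat_lit 44444))) (Nat.mul (nat_lit 18) (Nat.mod i (nat_lit 44444)))) (nat_lit 262143)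
noncomputable def tORB (i : Nat) : Nat := Nat.land (Nat.shiftRight tORB_L0 (Nat.mul (nat_lit 14) i)) (nat_lit 16383)
noncomputable def tORK (i : Nat) : Nat := Nat.land (Nat.shiftRight tORK_L0 (Nat.mul (nat_lit 1) i)) (nat_lit 1)
noncomputable def tOPAR (i : Nat) : Nat := Nat.land (Nat.shiftRight tOPAR_L0 (Nat.mul (nat_lit 1) i)) (nat_lit 1)
noncomputable def tROOT (i : Nat) : Nat := Nat.land (Nat.shiftRight tROOT_L0 (Nat.mul (nat_lit 14) i)) (nat_lit 16383)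
noncomputable def tJ_O_s0_4 (j : Nat) : Nat := @Bool.rec (fun _ => Nat) (@Bool.rec (fun _ => Nat) tJ_O_L0 tJ_O_L1 (Nat.ble (nat_lit 1) j)) (@Bool.rec (fun _ => Nat) tJ_O_L2 tJ_O_L3 (Nat.ble (nat_lit 3) j)) (Nat.ble (nat_lit 2) j)
noncomputable def tJ_O (i : Nat) : Nat := Nat.land (Nat.shiftRight (tJ_O_s0_4 (Nat.div i (nat_lit 44444))) (Nat.mul (nat_lit 18) (Nat.mod i (nat_lit 44444)))) (nat_lit 262143)
noncomputable def tJ_s3_5 (j : Nat) : Nat := @Bool.rec (fun _ => Nat) tJ_P3 tJ_P4 (Nat.ble (nat_lit 4) j)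
noncomputable def tJ_s8_10 (j : Nat) : Nat := @Bool.rec (fun _ => Nat) tJ_P8 tJ_P9 (Nat.ble (nat_lit 9) j)
noncomputable def tJ_s0_10 (j : Nat) : Nat := @Bool.rec (fun _ => Nat) (@Bool.rec (fun _ => Nat) (@Bool.rec (fun _ => Nat) tJ_P0 tJ_P1 (Nat.ble (nat_lit 1) j)) (@Bool.rec (fun _ => Nat) tJ_P2 (tJ_s3_5 j) (Nat.ble (nat_lit 3) j)) (Nat.ble (nat_lit 2) j)) (@Bool.rec (fun _ => Nat) (@Bool.rec (fun _ => Nat) tJ_P5 tJ_P6 (Nat.ble (nat_lit 6) j)) (@Bool.rec (fun _ => Nat) tJ_P7 (tJ_s8_10 j) (Nat.ble (nat_lit 8) j)) (Nat.ble (nat_lit 7) j)) (Nat.ble (nat_lit 5) j)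
noncomputable def tJ_s13_15 (j : Nat) : Nat := @Bool.rec (fun _ => Nat) tJ_P13 tJ_P14 (Nat.ble (nat_lit 14) j)
noncomputable def tJ_s18_20 (j : Nat) : Nat := @Bool.rec (fun _ => Nat) tJ_P18 tJ_P19 (Nat.ble (nat_lit 19) j)
noncomputable def tJ_s10_20 (j : Nat) : Nat := @Bool.rec (fun _ => Nat) (@Bool.rec (fun _ => Nat) (@Bool.rec (fun _ => Nat) tJ_P10 tJ_P11 (Nat.ble (nat_lit 11) j)) (@Bool.rec (fun _ => Nat) tJ_P12 (tJ_s13_15 j) (Nat.ble (nat_lit 13) j)) (Nat.ble (nat_lit 12) j)) (@Bool.rec (fun _ => Nat) (@Bool.rec (fun _ => Nat) tJ_P15 tJ_P16 (Nat.ble (nat_lit 16) j)) (@Bool.rec (fun _ => Nat) tJ_P17 (tJ_s18_20 j) (Nat.ble (nat_lit 18) j)) (Nat.ble (nat_lit 17) j)) (Nat.ble (nat_lit 15) j)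
noncomputable def tJ_s23_25 (j : Nat) : Nat := @Bool.rec (fun _ => Nat) tJ_P23 tJ_P24 (Nat.ble (nat_lit 24) j)
noncomputable def tJ_s28_30 (j : Nat) : Nat := @Bool.rec (fun _ => Nat) tJ_P28 tJ_P29 (Nat.ble (nat_lit 29) j)
noncomputable def tJ_s20_30 (j : Nat) : Nat := @Bool.rec (fun _ => Nat) (@Bool.rec (fun _ => Nat) (@Bool.rec (fun _ => Nat) tJ_P20 tJ_P21 (Nat.ble (nat_lit 21) j)) (@Bool.rec (fun _ => Nat) tJ_P22 (tJ_s23_25 j) (Nat.ble (nat_lit 23) j)) (Nat.ble (nat_lit 22) j)) (@Bool.rec (fun _ => Nat) (@Bool.rec (fun _ => Nat) tJ_P25 tJ_P26 (Nat.ble (nat_lit 26) j)) (@Bool.rec (fun _ => Nat) tJ_P27 (tJ_s28_30 j) (Nat.ble (nat_lit 28) j)) (Nat.ble (nat_lit 27) j)) (Nat.ble (nat_lit 25) j)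
noncomputable def tJ_s33_35 (j : Nat) : Nat := @Bool.rec (fun _ => Nat) tJ_P33 tJ_P34 (Nat.ble (nat_lit 34) j)
noncomputable def tJ_s36_38 (j : Nat) : Nat := @Bool.rec (fun _ => Nat) tJ_P36 tJ_P37 (Nat.ble (nat_lit 37) j)
noncomputable def tJ_s39_41 (j : Nat) : Nat := @Bool.rec (fun _ => Nat) tJ_P39 tJ_P40 (Nat.ble (nat_lit 40) j)
noncomputable def tJ_s30_41 (j : Nat) : Nat := @Bool.rec (fun _ => Nat) (@Bool.rec (fun _ => Nat) (@Bool.rec (fun _ => Nat) tJ_P30 tJ_P31 (Nat.ble (nat_lit 31) j)) (@Bool.rec (fun _ => Nat) tJ_P32 (tJ_s33_35 j) (Nat.ble (nat_lit 33) j)) (Nat.ble (nat_lit 32) j)) (@Bool.rec (fun _ => Nat) (@Bool.rec (fun _ => Nat) tJ_P35 (tJ_s36_38 j) (Nat.ble (nat_lit 36) j)) (@Bool.rec (fun _ => Nat) tJ_P38 (tJ_s39_41 j) (Nat.ble (nat_lit 39) j)) (Nat.ble (nat_lit 38) j)) (Nat.ble (nat_lit 35) j)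
noncomputable def tJ_s44_46 (j : Nat) : Nat := @Bool.rec (fun _ => Nat) tJ_P44 tJ_P45 (Nat.ble (nat_lit 45) j)
noncomputable def tJ_s49_51 (j : Nat) : Nat := @Bool.rec (fun _ => Nat) tJ_P49 tJ_P50 (Nat.ble (nat_lit 50) j)
noncomputable def tJ_s41_51 (j : Nat) : Nat := @Bool.rec (fun _ => Nat) (@Bool.rec (fun _ => Nat) (@Bool.rec (fun _ => Nat) tJ_P41 tJ_P42 (Nat.ble (nat_lit 42) j)) (@Bool.rec (fun _ => Nat) tJ_P43 (tJ_s44_46 j) (Nat.ble (nat_lit 44) j)) (Nat.ble (nat_lit 43) j)) (@Bool.rec (fun _ => Nat) (@Bool.rec (fun _ => Nat) tJ_P46 tJ_P47 (Nat.ble (nat_lit 47) j)) (@Bool.rec (fun _ => Nat) tJ_P48 (tJ_s49_51 j) (Nat.ble (nat_lit 49) j)) (Nat.ble (nat_lit 48) j)) (Nat.ble (nat_lit 46) j)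
noncomputable def tJ_s54_56 (j : Nat) : Nat := @Bool.rec (fun _ => Nat) tJ_P54 tJ_P55 (Nat.ble (nat_lit 55) j)
noncomputable def tJ_s59_61 (j : Nat) : Nat := @Bool.rec (fun _ => Nat) tJ_P59 tJ_P60 (Nat.ble (nat_lit 60) j)
noncomputable def tJ_s51_61 (j : Nat) : Nat := @Bool.rec (fun _ => Nat) (@Bool.rec (fun _ => Nat) (@Bool.rec (fun _ => Nat) tJ_P51 tJ_P52 (Nat.ble (nat_lit 52) j)) (@Bool.rec (fun _ => Nat) tJ_P53 (tJ_s54_56 j) (Nat.ble (nat_lit 54) j)) (Nat.ble (nat_lit 53) j)) (@Bool.rec (fun _ => Nat) (@Bool.rec (fun _ => Nat) tJ_P56 tJ_P57 (Nat.ble (nat_lit 57) j)) (@Bool.rec (fun _ => Nat) tJ_P58 (tJ_s59_61 j) (Nat.ble (nat_lit 59) j)) (Nat.ble (nat_lit 58) j)) (Nat.ble (nat_lit 56) j)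
noncomputable def tJ_s64_66 (j : Nat) : Nat := @Bool.rec (fun _ => Nat) tJ_P64 tJ_P65 (Nat.ble (nat_lit 65) j)
noncomputable def tJ_s69_71 (j : Nat) : Nat := @Bool.rec (fun _ => Nat) tJ_P69 tJ_P70 (Nat.ble (nat_lit 70) j)
noncomputable def tJ_s61_71 (j : Nat) : Nat := @Bool.rec (fun _ => Nat) (@Bool.rec (fun _ => Nat) (@Bool.rec (fun _ => Nat) tJ_P61 tJ_P62 (Nat.ble (nat_lit 62) j)) (@Bool.rec (fun _ => Nat) tJ_P63 (tJ_s64_66 j) (Nat.ble (nat_lit 64) j)) (Nat.ble (nat_lit 63) j)) (@Bool.rec (fun _ => Nat) (@Bool.rec (fun _ => Nat) tJ_P66 tJ_P67 (Nat.ble (nat_lit 67) j)) (@Bool.rec (fun _ => Nat) tJ_P68 (tJ_s69_71 j) (Nat.ble (nat_lit 69) j)) (Nat.ble (nat_lit 68) j)) (Nat.ble (nat_lit 66) j)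
noncomputable def tJ_s74_76 (j : Nat) : Nat := @Bool.rec (fun _ => Nat) tJ_P74 tJ_P75 (Nat.ble (nat_lit 75) j)
noncomputable def tJ_s77_79 (j : Nat) : Nat := @Bool.rec (fun _ => Nat) tJ_P77 tJ_P78 (Nat.ble (nat_lit 78) j)
noncomputable def tJ_s80_82 (j : Nat) : Nat := @Bool.rec (fun _ => Nat) tJ_P80 tJ_P81 (Nat.ble (nat_lit 81) j)
noncomputable def tJ_s71_82 (j : Nat) : Nat := @Bool.rec (fun _ => Nat) (@Bool.rec (fun _ => Nat) (@Bool.rec (fun _ => Nat) tJ_P71 tJ_P72 (Nat.ble (nat_lit 72) j)) (@Bool.rec (fun _ => Nat) tJ_P73 (tJ_s74_76 j) (Nat.ble (nat_lit 74) j)) (Nat.ble (nat_lit 73) j)) (@Bool.rec (fun _ => Nat) (@Bool.rec (fun _ => Nat) tJ_P76 (tJ_s77_79 j) (Nat.ble (nat_lit 77) j)) (@Bool.rec (fun _ => Nat) tJ_P79 (tJ_s80_82 j) (Nat.ble (nat_lit 80) j)) (Nat.ble (nat_lit 79) j)) (Nat.ble (nat_lit 76) j)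
noncomputable def tJ_s0_82 (j : Nat) : Nat := @Bool.rec (fun _ => Nat) (@Bool.rec (fun _ => Nat) (@Bool.rec (fun _ => Nat) (tJ_s0_10 j) (tJ_s10_20 j) (Nat.ble (nat_lit 10) j)) (@Bool.rec (fun _ => Nat) (tJ_s20_30 j) (tJ_s30_41 j) (Nat.ble (nat_lit 30) j)) (Nat.ble (nat_lit 20) j)) (@Bool.rec (fun _ => Nat) (@Bool.rec (fun _ => Nat) (tJ_s41_51 j) (tJ_s51_61 j) (Nat.ble (nat_lit 51) j)) (@Bool.rec (fun _ => Nat) (tJ_s61_71 j) (tJ_s71_82 j) (Nat.ble (nat_lit 71) j)) (Nat.ble (nat_lit 61) j)) (Nat.ble (nat_lit 41) j)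
noncomputable def tJ (i : Nat) : Nat := Nat.land (Nat.shiftRight (tJ_s0_82 (Nat.div i (nat_lit 2048))) (tJ_O i)) (nat_lit 24388660549343689307668728357759111763660922989570087116087163747073216709529418907189891430183531024686147899385989241370687309994439728955391)

noncomputable def rels : List (List Nat) := [[0, 0], [0, 2, 0, 2, 0, 2, 0, 2], [0, 4, 0, 4], [0, 6, 0, 6], [0, 8, 0, 8], [2, 2], [2, 4, 2, 4, 2, 4], [2, 6, 2, 6], [2, 8, 2, 8], [4, 4], [4, 6, 4, 6, 4, 6, 4, 6, 4, 6, 4, 6, 4, 6, 4, 6, 4, 6, 4, 6], [4, 8, 4, 8], [6, 6], [6, 8, 6, 8, 6, 8], [8, 8], [8, 5, 3, 1, 5, 3, 1, 5, 3, 1], [0, 7, 5, 7, 5, 7, 5, 7, 5, 7, 5], [10], [12]]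
noncomputable def subs : List (List Nat) := []
noncomputable def rels2 : List (List (List Nat)) := [[[0, 0], [0, 2, 0, 2, 0, 2, 0, 2], [0, 4, 0, 4], [0, 6, 0, 6], [0, 8, 0, 8], [2, 2], [2, 4, 2, 4, 2, 4], [2, 6, 2, 6]], [[2, 8, 2, 8], [4, 4], [4, 6, 4, 6, 4, 6, 4, 6, 4, 6, 4, 6, 4, 6, 4, 6, 4, 6, 4, 6], [4, 8, 4, 8], [6, 6], [6, 8, 6, 8, 6, 8], [8, 8], [8, 5, 3, 1, 5, 3, 1, 5, 3, 1]], [[0, 7, 5, 7, 5, 7, 5, 7, 5, 7, 5], [10], [12]]]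
noncomputable def cert : Cert := ⟨7, 15120, 166951, tF, tJ, tD, rels, subs, tT, tPP, tNO, tTAB, rels2, tORB, tORK, tOPAR, tROOT⟩

end Cfsg.Agent.Lib.Helper28.HePData
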