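import Cfsg.Agent.Lib.Helper28.HeQChk0
import Cfsg.Agent.Lib.Helper28.TCOrbit

set_option autoImplicit false
set_option linter.all false
set_option Elab.async false

namespace Cfsg.Agent.Lib.Helper28.HeQData

open Cfsg.Agent.Lib.Helper28

theorem chkG : checkGlobal cert = true := by decide +kernel

theorem chkR2 : checkRels2 cert = true := by decide +kernel

theorem facts_ok : ∀ i, i < cert.nF → checkFact cert i = true := by
  intro i hi
  have hn : cert.nF = 58 := rfl
  rw [hn] at hi
  exact allRange_sound _ 0 58 chkF_0 i (by omega) (by omega)

theorem pts_both : ∀ p, p < cert.n → (checkPoint cert p && checkOrb cert p) = true := by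
  intro i hi
  have hn : cert.n = 1 := rfl
  rw [hn] at hi
  exact allRange_sound _ 0 1 chkP_0 i (by omega) (by omega)

theorem pts_ok : ∀ p, p < cert.n → checkPoint cert p = true := by
  intro p hp
  have := pts_both p hp
  simp only [Bool.and_eq_true] at this
  exact this.1

theorem orb_ok : ∀ p, p < cert.n → checkOrb cert p = true := by
  intro p hp
  have := pts_both p hp
  simp only [Bool.and_eq_true] at this
  exact this.2

end Cfsg.Agent.Lib.Helper28.HeQData
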