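import Cfsg.Agent.Lib.Helper28.HeQData
import Cfsg.Agent.Lib.Helper28.TCSound

set_option autoImplicit false
set_option maxRecDepth 1000000
set_option linter.all false
set_option Elab.async false

namespace Cfsg.Agent.Lib.Helper28.HeQData

open Cfsg.Agent.Lib.Helper28

theorem chkF_0 : allRange (checkFact cert) 0 58 = true := by decide +kernel
theorem chkP_0 : allRange (fun p => checkPoint cert p && checkOrb cert p) 0 1 = true := by decide +kernel

end Cfsg.Agent.Lib.Helper28.HeQData
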