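import Cfsg.Agent.Lib.Helper28.TCDefs

set_option autoImplicit false
set_option maxRecDepth 100000
set_option linter.all false

namespace Cfsg.Agent.Lib.Helper28.HeQData

open Cfsg.Agent.Lib.Helper28

noncomputable def tF_L0 : Nat := nat_lit 0x6000000000020000000000000001000000000080000110000800008500008000084000000000000000200000000009000016000020000900000a0000970000a0000ad0000a0000ab0000a0000a5000020000a50000a00002100002000091000090000270000800008300001000083000080000160000000001500000000010000030000170000300003b0000300003b0000200002700002000027000010000190000100001d0000300003d0000200002a000000000000000500000e00000000008000000000000000400000b0000400004e0000400000d0000400000c0000000000000006000000000070000470000600007d0000700000d0000600004d0000400006b0000000006b0000600000900005000007000000000470000400000500000000035000030000030000000002300002000001000000000110000100000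
noncomputable def tD_L0 : Nat := nat_lit 0x400002000002200001c00000a00000800000600000400000200000000000000000
noncomputable def tT_L0 : Nat := nat_lit 0x0
noncomputable def tPP_L0 : Nat := nat_lit 0x0
noncomputable def tNO_L0 : Nat := nat_lit 0x0
noncomputable def tTAB_L0 : Nat := nat_lit 0x174595b9cf8
noncomputable def tORB_L0 : Nat := nat_lit 0x0
noncomputable def tORK_L0 : Nat := nat_lit 0x0
noncomputable def tOPAR_L0 : Nat := nat_lit 0x0
noncomputable def tROOT_L0 : Nat := nat_lit 0x0
noncomputable def tJ_P0 : Nat := nat_lit 0x1200006e0000200000005e000008000dc0000400000003c000020001b40006b0001b0000100000400580009800035000094000000000ce0000100009800035000040000400090001380006800013800068000138000680001380006800013800068028000000803320002680008e000250000920003380401800000049000014000640000200000003e000010000c6000298000180001000b0001840000400000800049000018000520001840000400000800038024010000103220002a8000bc000040001200bc0005c0001500003c0001580005c0001500003c0001580005c00015000050028010000203320002c8000b6010000001406a4000570000d400054008010000201420002b80007e0002a0040080001009900015000004000080408000280000080001000100004d0000ec0004a008010000100a2000250000080000804100000900011000008000040178000140002200001000008027000108000080000b40000a000108000080000b40000a000108000080000000a004000000cc8000820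001b804000000181a9000020000230000280000c0000c04c80006a0001e002008000101a90000100002d0000180000c000080288000000001680000400006000020064000000000cc00002000030000100420000400005e00005000018000180a10000100002f0000180000c00008034800022000180000100000004f0000bc000230000bc0002300004004004000000c680004a000150000100000006f0000340002a0000200000007e0001480001e0001100001a0001480001c028020000803440002600003001004000000d4800032000100000100000006f00005800020000020000000ce000098000400000400000017c0000e00007c0001d000030000600760000b0000380000d00001c0000b0000380000c0000e03640001500006c020000001c0d480000b000008000301810000480000e00002000040352000090000080000014100000300000400000060800004000008000000810000040000100000008200000000002000000004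
noncomputable def tJ_O_L0 : Nat := nat_lit 0x2e7b6dab25d5928a33ac9a4cb4237b15a818bf39eaaedc747ba35c80e3e6e2b5e1aecd136582e1d648aab524273d2ac8dd4321facf106e33401874ac44ff24e10e47ac35d15108fc47a1f00c6850027c13c07783b414009e028813c004000

end Cfsg.Agent.Lib.Helper28.HeQData
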