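import Cfsg.Agent.Lib.Helper28.TCDefs
import Cfsg.Agent.Lib.Helper28.HeQDataP0

set_option autoImplicit false
set_option maxRecDepth 100000
set_option linter.all false

namespace Cfsg.Agent.Lib.Helper28.HeQData

open Cfsg.Agent.Lib.Helper28

noncomputable def tF (i : Nat) : Nat := Nat.land (Nat.shiftRight tF_L0 (Nat.mul (nat_lit 44) i)) (nat_lit 17592186044415)
noncomputable def tD (i : Nat) : Nat := Nat.land (Nat.shiftRight tD_L0 (Nat.mul (nat_lit 24) i)) (nat_lit 16777215)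
noncomputable def tT (i : Nat) : Nat := Nat.land (Nat.shiftRight tT_L0 (Nat.mul (nat_lit 1) i)) (nat_lit 1)
noncomputable def tPP (i : Nat) : Nat := Nat.land (Nat.shiftRight tPP_L0 (Nat.mul (nat_lit 1) i)) (nat_lit 1)
noncomputable def tNO (i : Nat) : Nat := Nat.land (Nat.shiftRight tNO_L0 (Nat.mul (nat_lit 1) i)) (nat_lit 1)
noncomputable def tTAB (i : Nat) : Nat := Nat.land (Nat.shiftRight tTAB_L0 (Nat.mul (nat_lit 6) i)) (nat_lit 63)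
noncomputable def tORB (i : Nat) : Nat := Nat.land (Nat.shiftRight tORB_L0 (Nat.mul (nat_lit 1) i)) (nat_lit 1)
noncomputable def tORK (i : Nat) : Nat := Nat.land (Nat.shiftRight tORK_L0 (Nat.mul (nat_lit 1) i)) (nat_lit 1)
noncomputable def tOPAR (i : Nat) : Nat := Nat.land (Nat.shiftRight tOPAR_L0 (Nat.mul (nat_lit 1) i)) (nat_lit 1)
noncomputable def tROOT (i : Nat) : Nat := Nat.land (Nat.shiftRight tROOT_L0 (Nat.mul (nat_lit 1) i)) (nat_lit 1)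
noncomputable def tJ_O (i : Nat) : Nat := Nat.land (Nat.shiftRight tJ_O_L0 (Nat.mul (nat_lit 13) i)) (nat_lit 8191)
noncomputable def tJ (i : Nat) : Nat := Nat.land (Nat.shiftRight tJ_P0 (tJ_O i)) (nat_lit 254629497041810760783555711051172270131433549208242031329517556169297662470417088272924671)

noncomputable def rels : List (List Nat) := [[0, 0], [0, 2, 0, 2, 0, 2, 0, 2], [0, 4, 0, 4], [0, 6, 0, 6], [0, 8, 0, 8], [0, 10, 0, 10], [0, 12, 0, 12], [], [2, 2], [2, 4, 2, 4, 2, 4], [2, 6, 2, 6], [2, 8, 2, 8], [2, 10, 2, 10], [2, 12, 2, 12], [], [], [4, 4], [4, 6, 4, 6, 4, 6, 4, 6, 4, 6, 4, 6, 4, 6, 4, 6, 4, 6, 4, 6], [4, 8, 4, 8], [4, 10, 4, 10], [4, 12, 4, 12], [], [], [], [6, 6], [6, 8, 6, 8, 6, 8], [6, 10, 6, 10, 6, 10], [6, 12, 6, 12, 6, 12], [], [], [], [], [8, 8], [8, 10, 8, 10], [8, 12, 8, 12], [], [], [], [], [], [10, 10], [10, 12, 10, 12, 10, 12, 10, 12], [], [],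 [], [], [], [], [12, 12], [8, 13, 11, 13, 11], [8, 5, 3, 1, 5, 3, 1, 5, 3, 1], [0, 7, 5, 7, 5, 7, 5, 7, 5, 7, 5], [4, 6, 10, 12, 4, 6, 10, 12, 4, 6, 10, 12, 4, 6, 10, 12], [6, 10, 12]]
noncomputable def subs : List (List Nat) := []
noncomputable def rels2 : List (List (List Nat)) := [[[0, 0], [0, 2, 0, 2, 0, 2, 0, 2], [0, 4, 0, 4], [0, 6, 0, 6], [0, 8, 0, 8], [0, 10, 0, 10], [0, 12, 0, 12], []], [[2, 2], [2, 4, 2, 4, 2, 4], [2, 6, 2, 6], [2, 8, 2, 8], [2, 10, 2, 10], [2, 12, 2, 12], [], []], [[4, 4], [4, 6, 4, 6, 4, 6, 4, 6, 4, 6, 4, 6, 4, 6, 4, 6, 4, 6, 4, 6], [4, 8, 4, 8], [4, 10, 4, 10], [4, 12, 4, 12], [], [], []], [[6, 6], [6, 8, 6, 8, 6, 8], [6, 10, 6, 10, 6, 10], [6, 12, 6, 12, 6, 12], [], [], [], []], [[8, 8], [8, 10, 8, 10], [8, 12, 8, 12], [], [], [], [], []], [[10, 10], [10, 12, 10, 12, 10, 12, 10, 12], [], [], [], [], [], []], [[12, 12], [8, 13, 11, 13, 11],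 [8, 5, 3, 1, 5, 3, 1, 5, 3, 1], [0, 7, 5, 7, 5, 7, 5, 7, 5, 7, 5], [4, 6, 10, 12, 4, 6, 10, 12, 4, 6, 10, 12, 4, 6, 10, 12], [6, 10, 12]]]
noncomputable def cert : Cert := ⟨7, 1, 58, tF, tJ, tD, rels, subs, tT, tPP, tNO, tTAB, rels2, tORB, tORK, tOPAR, tROOT⟩

end Cfsg.Agent.Lib.Helper28.HeQData
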