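import Cfsg.Agent.Lib.Helper28.HeOrder
import Cfsg.Agent.Lib.Helper28.HeQChk

set_option autoImplicit false
set_option linter.all false

namespace Cfsg.Agent.Lib.Helper28.HeSimple

open Cfsg Cfsg.Spor Cfsg.Agent.Lib.Helper28 Cfsg.Agent.Lib.Helper28.PGen
open Cfsg.Agent.Lib.Helper28.HeOrbChk Cfsg.Agent.Lib.Helper28.HeOrder

set_option maxRecDepth 100000

/-- the sizes of the five orbits of `H2` on its 2058 cosets -/
def sz : ℕ → ℕ := fun j => [1, 1360, 425, 136, 136].getD j 0

theorem arith : ∀ J ∈ (Finset.range 5).powerset, 0 ∈ J → (∑ j ∈ J, sz j) ∣ 2058 →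
    J = {0} ∨ J = Finset.range 5 := by decide

theorem cnt_all (j : ℕ) (hj : j < 5) : countLab certA.ORB j 2058 = sz j := by
  interval_cases j
  · exact cnt0
  · exact cnt1
  · exact cnt2
  · exact cnt3
  · exact cnt4

/-- relators of the Held group together with the word `d f g` -/
noncomputable abbrev RQ : List (List Nat) := HeQData.rels

theorem cardQ : Finite (PG HeGlueR.genOf RQ) ∧ Nat.card (PG HeGlueR.genOf RQ) = 1 :=
  card_of_trivial HeGlueR.genOf HeGlueR.idx RQ HeQData.cert HeGlueR.hidx HeGlueR.hgi rfl rfl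
    HeQData.chkR2 HeQData.facts_ok HeQData.pts_ok HeQData.chkG

theorem keyQ : ∀ w ∈ RQ, w = [6, 10, 12] ∨ w ∈ HeGlueR.relsL := by decide

/-- the element `d f g` (of order 7) -/
noncomputable def u : G := evw gamB [6, 10, 12]

section WithSetup

variable {φ : G →* Equiv.Perm ℕ} (hS : Setup certA H2 gamA φ)

include hS

theorem maximalA (K : Subgroup G) (hK : H2 ≤ K) : K = H2 ∨ K = ⊤ := by
  have hn : certA.n = 2058 := rfl
  apply PSetup.maximal hS HeData.orb_ok 5 ?_ sz ?_ root0.2 rfl ?_ K hK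
  · intro p hp
    rw [hn] at hp
    have := allRange_sound _ 0 2058 orb_lt p (by omega) (by omega)
    simpa [Nat.blt] using this
  · intro j hj
    rw [hn]; exact cnt_all j hj
  · rw [hn]; exact arith

theorem coreA (N : Subgroup G) (hN : N.Normal) (hle : N ≤ H2) : N = ⊥ := by
  rw [eq_bot_iff]
  intro n hn
  exact trivial3 hS n (hle hn) (normal_le_fix H2 N hle n hn _) (normal_le_fix H2 N hle n hn _)
    (normal_le_fix H2 N hle n hn _)

theorem u_pow : u ^ 7 = 1 := by
  have hn : certA.n = 2058 := rfl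
  have hlet : ∀ l ∈ w7, l < 2 * certA.k := by decide
  have hfix : ∀ p, p < certA.n → walkT certA p w7 = p := by
    intro p hp
    rw [hn] at hp
    exact Nat.eq_of_beq_eq_true (allRange_sound _ 0 2058 w7_fix p (by omega) (by omega))
  have h1 : ∀ x : G ⧸ H2, evw gamA w7 • x = x := PSetup.fix_all hS w7 hlet hfix
  have hmem : evw gamA w7 ∈ H2 := PSetup.mem_of_fix0 hS w7 hlet (hfix 0 (by decide))
  have h2 : evw gamA w7 = 1 := trivial3 hS _ hmem (h1 _) (h1 _) (h1 _)
  have e : evw gamA w7 = u ^ 7 := by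
    have happ : w7 = [6, 10, 12] ++ ([6, 10, 12] ++ ([6, 10, 12] ++ ([6, 10, 12] ++
        ([6, 10, 12] ++ ([6, 10, 12] ++ [6, 10, 12]))))) := rfl
    have hu : evw gamA [6, 10, 12] = u := rfl
    rw [happ, evw_append, evw_append, evw_append, evw_append, evw_append, evw_append, hu]
    simp only [pow_succ, pow_zero, one_mul, mul_assoc]
  rw [← e]; exact h2

theorem simple : IsSimpleGroup G := by
  haveI := cardG_le.1
  have hcard := (cardG hS).1
  have hnt : Nontrivial G := Finite.one_lt_card_iff_nontrivial.mp (by rw [hcard]; decide)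
  apply simple_of_data hnt H2 (maximalA hS) (coreA hS) u 7 (u_pow hS)
    (by rw [(cardG hS).2]; decide)
  intro N hN hu
  exact top_of_collapse HeGlueR.genOf HeGlueR.relSet HeGlueR.relsL HeGlueR.hrel2 [6, 10, 12] RQ keyQ
    cardQ N hu

end WithSetup

end Cfsg.Agent.Lib.Helper28.HeSimple
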