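import Cfsg.Agent.Lib.Helper28.Mo3cData
import Cfsg.Agent.Lib.Helper28.HeMultGen
import Cfsg.Agent.Lib.Helper28.SpAlphaChk

set_option autoImplicit false
set_option linter.all false
set_option maxRecDepth 1000000
set_option Elab.async false

namespace Cfsg.Agent.Lib.Helper28.Mo3

open Cfsg.Agent.Lib.Helper28 Cfsg.Agent.Lib.Helper28.HeMultGen Cfsg.Agent.Lib.Helper28.SpAlphaChk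
open Cfsg.Agent.Lib.Helper89.CosetCert Cfsg.Agent.Lib.Helper89.SafePres

/-- words in the generators of the Held group for the four generators of order 3 -/
def gwL : List (List Nat) := [[6, 10], [4, 6, 10, 2, 4, 6, 8, 2, 4, 6, 8, 2, 4, 6, 8, 2, 4, 6, 8, 2, 4, 6, 8, 2, 4, 6, 8, 2, 4, 6, 8, 10, 6, 4], [6, 8], [6, 12]]

/-- the conjugation relations -/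
def srels : List SRel := [⟨[1, 2, 1, 2, 0, 3, 0, 3, 1], 0, 1, 1, false⟩, ⟨[1, 3, 1, 3, 0, 2, 0, 2, 1], 0, 1, 1, true⟩, ⟨[2, 0, 3, 0, 2, 0, 3, 0, 2], 0, 0, 1, false⟩, ⟨[1, 2, 5, 2, 4, 2, 0], 1, 1, 1, true⟩, ⟨[2, 0, 3, 1, 3, 1, 4], 1, 2, 1, false⟩, ⟨[3, 0, 2, 1, 2, 1, 4], 1, 2, 1, true⟩, ⟨[1, 4, 2, 0, 2, 1, 3], 2, 1, 1, false⟩, ⟨[3, 4, 3, 5, 3], 3, 3, 1, true⟩, ⟨[4, 1, 4, 0, 0], 3, 3, 1, false⟩, ⟨[6, 4, 4, 0, 7], 0, 0, 1, true⟩, ⟨[5, 0, 3, 3, 3, 1, 7], 2, 3, 1, false⟩, ⟨[3, 5, 3, 3, 3, 4, 2], 3, 3, 1, false⟩, ⟨[2, 5, 3, 3, 3, 4, 3], 3, 3, 1, false⟩, ⟨[3, 7, 3, 3, 3, 6, 2], 3, 3, 1, false⟩, ⟨[7, 0, 3, 3, 3, 7, 4], 1, 1, 1, true⟩, ⟨[4, 0, 3, 3, 3, 7, 5], 0, 3, 1, true⟩, ⟨[4, 3, 5, 3, 4, 3, 5],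 3, 3, 1, true⟩, ⟨[1, 7, 5, 3, 4, 6, 0], 1, 1, 1, false⟩, ⟨[2, 4, 3, 3, 5, 3, 3], 3, 3, 1, true⟩, ⟨[3, 7, 4, 3, 5, 6, 3], 3, 3, 1, true⟩, ⟨[3, 6, 3, 3, 6, 2, 4], 1, 3, 1, true⟩, ⟨[1, 5, 7, 3, 6, 4, 0], 1, 1, 1, false⟩, ⟨[2, 1, 6, 3, 7, 0, 2], 3, 3, 1, true⟩, ⟨[3, 7, 4, 3, 7, 4, 3], 3, 3, 1, true⟩, ⟨[6, 4, 1, 4, 0, 0, 7], 0, 0, 1, false⟩, ⟨[6, 5, 1, 4, 1, 5, 7], 1, 1, 1, false⟩, ⟨[5, 2, 6, 4, 2, 6, 4], 1, 3, 1, true⟩, ⟨[4, 3, 7, 4, 7, 3, 4], 1, 1, 1, false⟩, ⟨[1, 5, 7, 4, 7, 5, 0], 1, 1, 1, false⟩, ⟨[3, 7, 5, 5, 5, 6, 2], 2, 2, 1, false⟩, ⟨[0, 6, 1, 5, 5, 7, 1], 3, 3, 1, true⟩, ⟨[3, 6, 5, 5, 5, 7, 2], 2, 2, 1, false⟩, ⟨[2, 7, 0, 5, 6, 2, 4], 0, 2, 1, true⟩, ⟨[5, 2, 6, 5, 6, 2, 5], 1, 1, 1, false⟩,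 ⟨[3, 7, 0, 5, 6, 3, 1], 2, 2, 1, true⟩, ⟨[3, 7, 0, 5, 6, 3, 1], 3, 3, 1, true⟩, ⟨[5, 3, 6, 5, 6, 3, 5], 1, 1, 1, false⟩, ⟨[5, 0, 6, 5, 6, 4, 0], 1, 1, 1, false⟩, ⟨[3, 4, 6, 5, 6, 4, 2], 2, 2, 1, false⟩, ⟨[3, 4, 6, 5, 6, 4, 2], 3, 3, 1, false⟩, ⟨[5, 7, 5, 5, 6, 4, 7], 1, 1, 1, false⟩, ⟨[1, 5, 1, 5, 6, 6, 0], 2, 3, 1, true⟩, ⟨[5, 7, 5, 5, 6, 6, 5], 1, 1, 1, false⟩, ⟨[1, 5, 1, 5, 7, 1, 1], 2, 3, 1, true⟩, ⟨[6, 4, 1, 5, 7, 1, 7], 2, 0, 1, true⟩, ⟨[1, 2, 7, 5, 7, 2, 0], 3, 3, 1, true⟩, ⟨[1, 3, 7, 5, 7, 3, 0], 3, 3, 1, true⟩, ⟨[0, 7, 5, 5, 7, 4, 1], 1, 1, 1, false⟩, ⟨[1, 5, 1, 5, 7, 4, 1], 2, 3, 1, true⟩, ⟨[2, 6, 3, 6, 2, 2, 4], 1, 3, 1, false⟩, ⟨[3, 6, 5, 6, 2, 4, 3], 2, 2, 1, false⟩, ⟨[7, 0, 2,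 6, 2, 6, 3], 3, 1, 1, false⟩]

/-- words in the four generators for the seven generators of the Held group, each followed by the
inverse of that generator -/
def genW : List (List Nat) := [[0, 2, 0, 2, 5, 2, 5, 1, 2, 5, 2, 1, 5, 2, 5], [2, 5, 1, 2, 0, 3, 5, 3, 0, 4, 6, 2, 0, 7, 2, 4, 2, 1, 2], [0, 2, 5, 2, 1, 3, 0, 4, 3, 4], [2, 1, 4, 3, 1, 4, 2, 5], [2, 1, 4, 3, 1, 4, 2], [1, 2, 1, 4, 3, 1, 4, 2, 5], [2, 1, 4, 3, 1, 4, 2, 5, 6]]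

def genC : List (List Nat) := [[6, 10, 4, 6, 10, 2, 4, 6, 8, 2, 4, 6, 8, 2, 4, 6, 8, 2, 4, 6, 8, 2, 4, 6, 8, 2, 4, 6, 8, 2, 4, 6, 8, 10, 6, 4, 6, 10, 4, 6, 10, 2, 4, 6, 8, 2, 4, 6, 8, 2, 4, 6, 8, 2, 4, 6, 8, 2, 4, 6, 8, 2, 4, 6, 8, 2, 4, 6, 8, 10, 6, 4, 9, 7, 4, 6, 10, 2, 4, 6, 8, 2, 4, 6, 8, 2, 4, 6, 8, 2, 4, 6, 8, 2, 4, 6, 8, 2, 4, 6, 8, 2, 4, 6, 8, 10, 6, 4, 9, 7, 11, 7, 4, 6, 10, 2, 4, 6, 8, 2, 4, 6, 8, 2, 4, 6, 8, 2, 4, 6, 8, 2, 4, 6, 8, 2, 4, 6, 8, 2, 4, 6, 8, 10, 6, 4, 9, 7, 4, 6, 10, 2, 4, 6, 8, 2, 4, 6, 8, 2, 4, 6, 8, 2, 4, 6, 8, 2, 4, 6, 8, 2, 4, 6, 8, 2, 4, 6, 8, 10, 6, 4, 11, 7, 9, 7, 4, 6, 10, 2, 4, 6, 8, 2, 4, 6, 8, 2, 4, 6, 8, 2, 4, 6, 8, 2, 4, 6, 8, 2, 4, 6, 8, 2, 4, 6, 8,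 10, 6, 4, 9, 7, 1], [4, 6, 10, 2, 4, 6, 8, 2, 4, 6, 8, 2, 4, 6, 8, 2, 4, 6, 8, 2, 4, 6, 8, 2, 4, 6, 8, 2, 4, 6, 8, 10, 6, 4, 9, 7, 11, 7, 4, 6, 10, 2, 4, 6, 8, 2, 4, 6, 8, 2, 4, 6, 8, 2, 4, 6, 8, 2, 4, 6, 8, 2, 4, 6, 8, 2, 4, 6, 8, 10, 6, 4, 6, 10, 5, 7, 11, 9, 7, 5, 3, 9, 7, 5, 3, 9, 7, 5, 3, 9, 7, 5, 3, 9, 7, 5, 3, 9, 7, 5, 3, 9, 7, 5, 3, 11, 7, 5, 9, 7, 5, 7, 11, 9, 7, 5, 3, 9, 7, 5, 3, 9, 7, 5, 3, 9, 7, 5, 3, 9, 7, 5, 3, 9, 7, 5, 3, 9, 7, 5, 3, 11, 7, 5, 6, 10, 6, 8, 6, 12, 4, 6, 10, 2, 4, 6, 8, 2, 4, 6, 8, 2, 4, 6, 8, 2, 4, 6, 8, 2, 4, 6, 8, 2, 4, 6, 8, 2, 4, 6, 8, 10, 6, 4, 6, 10, 13, 7, 4, 6, 10, 2, 4, 6, 8, 2, 4, 6, 8, 2, 4, 6, 8, 2, 4, 6, 8, 2, 4, 6, 8, 2, 4, 6, 8, 2, 4, 6, 8, 10,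 6, 4, 6, 8, 4, 6, 10, 2, 4, 6, 8, 2, 4, 6, 8, 2, 4, 6, 8, 2, 4, 6, 8, 2, 4, 6, 8, 2, 4, 6, 8, 2, 4, 6, 8, 10, 6, 4, 11, 7, 4, 6, 10, 2, 4, 6, 8, 2, 4, 6, 8, 2, 4, 6, 8, 2, 4, 6, 8, 2, 4, 6, 8, 2, 4, 6, 8, 2, 4, 6, 8, 10, 6, 4, 3], [6, 10, 4, 6, 10, 2, 4, 6, 8, 2, 4, 6, 8, 2, 4, 6, 8, 2, 4, 6, 8, 2, 4, 6, 8, 2, 4, 6, 8, 2, 4, 6, 8, 10, 6, 4, 9, 7, 4, 6, 10, 2, 4, 6, 8, 2, 4, 6, 8, 2, 4, 6, 8, 2, 4, 6, 8, 2, 4, 6, 8, 2, 4, 6, 8, 2, 4, 6, 8, 10, 6, 4, 11, 7, 5, 7, 11, 9, 7, 5, 3, 9, 7, 5, 3, 9, 7, 5, 3, 9, 7, 5, 3, 9, 7, 5, 3, 9, 7, 5, 3, 9, 7, 5, 3, 11, 7, 5, 6, 10, 6, 8, 5, 7, 11, 9, 7, 5, 3, 9, 7, 5, 3, 9, 7, 5, 3, 9, 7, 5, 3, 9, 7, 5, 3, 9, 7, 5, 3, 9, 7, 5, 3, 11, 7, 5, 6, 8, 5], [4, 6,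 10, 2, 4, 6, 8, 2, 4, 6, 8, 2, 4, 6, 8, 2, 4, 6, 8, 2, 4, 6, 8, 2, 4, 6, 8, 2, 4, 6, 8, 10, 6, 4, 11, 7, 6, 8, 5, 7, 11, 9, 7, 5, 3, 9, 7, 5, 3, 9, 7, 5, 3, 9, 7, 5, 3, 9, 7, 5, 3, 9, 7, 5, 3, 9, 7, 5, 3, 11, 7, 5, 11, 7, 6, 8, 4, 6, 10, 2, 4, 6, 8, 2, 4, 6, 8, 2, 4, 6, 8, 2, 4, 6, 8, 2, 4, 6, 8, 2, 4, 6, 8, 2, 4, 6, 8, 10, 6, 4, 9, 7, 7], [4, 6, 10, 2, 4, 6, 8, 2, 4, 6, 8, 2, 4, 6, 8, 2, 4, 6, 8, 2, 4, 6, 8, 2, 4, 6, 8, 2, 4, 6, 8, 10, 6, 4, 11, 7, 6, 8, 5, 7, 11, 9, 7, 5, 3, 9, 7, 5, 3, 9, 7, 5, 3, 9, 7, 5, 3, 9, 7, 5, 3, 9, 7, 5, 3, 9, 7, 5, 3, 11, 7, 5, 11, 7, 6, 8, 4, 6, 10, 2, 4, 6, 8, 2, 4, 6, 8, 2, 4, 6, 8, 2, 4, 6, 8, 2, 4, 6, 8, 2, 4, 6, 8, 2, 4, 6, 8, 10, 6, 4, 9], [11, 7, 4, 6,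 10, 2, 4, 6, 8, 2, 4, 6, 8, 2, 4, 6, 8, 2, 4, 6, 8, 2, 4, 6, 8, 2, 4, 6, 8, 2, 4, 6, 8, 10, 6, 4, 11, 7, 6, 8, 5, 7, 11, 9, 7, 5, 3, 9, 7, 5, 3, 9, 7, 5, 3, 9, 7, 5, 3, 9, 7, 5, 3, 9, 7, 5, 3, 9, 7, 5, 3, 11, 7, 5, 11, 7, 6, 8, 4, 6, 10, 2, 4, 6, 8, 2, 4, 6, 8, 2, 4, 6, 8, 2, 4, 6, 8, 2, 4, 6, 8, 2, 4, 6, 8, 2, 4, 6, 8, 10, 6, 4, 9, 7, 11], [4, 6, 10, 2, 4, 6, 8, 2, 4, 6, 8, 2, 4, 6, 8, 2, 4, 6, 8, 2, 4, 6, 8, 2, 4, 6, 8, 2, 4, 6, 8, 10, 6, 4, 11, 7, 6, 8, 5, 7, 11, 9, 7, 5, 3, 9, 7, 5, 3, 9, 7, 5, 3, 9, 7, 5, 3, 9, 7, 5, 3, 9, 7, 5, 3, 9, 7, 5, 3, 11, 7, 5, 11, 7, 6, 8, 4, 6, 10, 2, 4, 6, 8, 2, 4, 6, 8, 2, 4, 6, 8, 2, 4, 6, 8, 2, 4, 6, 8, 2, 4, 6, 8, 2, 4, 6, 8, 10, 6, 4, 9, 7, 6, 12, 13]]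

theorem genC_eq : genC = (List.range 7).map (fun j => substL gwL (genW.getD j []) ++ [2 * j + 1]) := by
  decide +kernel

theorem rels_eq : Mo3cData.rels =
    (List.range 4).map (fun i => powWord 3 i) ++ srels.map SRel.word := by decide +kernel

theorem rel_letters :
    allList (fun w => allLetters (fun l => Nat.blt l 14) (substL gwL w)) Mo3cData.rels = true := by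
  decide +kernel

theorem rel_fix : allList (fun w => fix4 (substL gwL w)) Mo3cData.rels = true := by decide +kernel

theorem genC_letters : allList (allLetters (fun l => Nat.blt l 14)) genC = true := by decide +kernel

theorem genC_fix : allList fix4 genC = true := by decide +kernel

theorem genW_letters : allList (allLetters (fun l => Nat.blt l 8)) genW = true := by decide +kernel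

theorem rels_lt : allList (allLetters (fun l => Nat.blt l 8)) Mo3cData.rels = true := by decide +kernel

end Cfsg.Agent.Lib.Helper28.Mo3
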