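import Cfsg.Agent.Lib.Helper28.Mo3aData
import Cfsg.Agent.Lib.Helper28.TCFastF

set_option autoImplicit false
set_option maxRecDepth 1000000
set_option linter.all false
set_option Elab.async false

namespace Cfsg.Agent.Lib.Helper28.Mo3aData

open Cfsg.Agent.Lib.Helper28

theorem chkF_0 : allRangeF (checkFactF cert) (nat_lit 0) (nat_lit 1000) = true := by decide +kernel
theorem chkF_1000 : allRangeF (checkFactF cert) (nat_lit 1000) (nat_lit 1000) = true := by decide +kernel
theorem chkF_2000 : allRangeF (checkFactF cert) (nat_lit 2000) (nat_lit 1000) = true := by decide +kernel
theorem chkF_3000 : allRangeF (checkFactF cert) (nat_lit 3000) (nat_lit 1000) = true := by decide +kernel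
theorem chkF_4000 : allRangeF (checkFactF cert) (nat_lit 4000) (nat_lit 1000) = true := by decide +kernel
theorem chkF_5000 : allRangeF (checkFactF cert) (nat_lit 5000) (nat_lit 1000) = true := by decide +kernel
theorem chkF_6000 : allRangeF (checkFactF cert) (nat_lit 6000) (nat_lit 1000) = true := by decide +kernel
theorem chkF_7000 : allRangeF (checkFactF cert) (nat_lit 7000) (nat_lit 1000) = true := by decide +kernel
theorem chkF_8000 : allRangeF (checkFactF cert) (nat_lit 8000) (nat_lit 1000) = true := by decide +kernel
theorem chkF_9000 : allRangeF (checkFactF cert) (nat_lit 9000) (nat_lit 1000) = true := by decide +kernel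
theorem chkF_10000 : allRangeF (checkFactF cert) (nat_lit 10000) (nat_lit 1000) = true := by decide +kernel
theorem chkF_11000 : allRangeF (checkFactF cert) (nat_lit 11000) (nat_lit 1000) = true := by decide +kernel
theorem chkF_12000 : allRangeF (checkFactF cert) (nat_lit 12000) (nat_lit 1000) = true := by decide +kernel
theorem chkF_13000 : allRangeF (checkFactF cert) (nat_lit 13000) (nat_lit 1000) = true := by decide +kernel
theorem chkF_14000 : allRangeF (checkFactF cert) (nat_lit 14000) (nat_lit 1000) = true := by decide +kernel
theorem chkF_15000 : allRangeF (checkFactF cert) (nat_lit 15000) (nat_lit 1000) = true := by decide +kernel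
theorem chkF_16000 : allRangeF (checkFactF cert) (nat_lit 16000) (nat_lit 1000) = true := by decide +kernel
theorem chkF_17000 : allRangeF (checkFactF cert) (nat_lit 17000) (nat_lit 1000) = true := by decide +kernel
theorem chkF_18000 : allRangeF (checkFactF cert) (nat_lit 18000) (nat_lit 1000) = true := by decide +kernel
theorem chkF_19000 : allRangeF (checkFactF cert) (nat_lit 19000) (nat_lit 1000) = true := by decide +kernel
theorem chkF_20000 : allRangeF (checkFactF cert) (nat_lit 20000) (nat_lit 1000) = true := by decide +kernel
theorem chkF_21000 : allRangeF (checkFactF cert) (nat_lit 21000) (nat_lit 1000) = true := by decide +kernel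
theorem chkF_22000 : allRangeF (checkFactF cert) (nat_lit 22000) (nat_lit 1000) = true := by decide +kernel
theorem chkF_23000 : allRangeF (checkFactF cert) (nat_lit 23000) (nat_lit 1000) = true := by decide +kernel
theorem chkF_24000 : allRangeF (checkFactF cert) (nat_lit 24000) (nat_lit 1000) = true := by decide +kernel
theorem chkF_25000 : allRangeF (checkFactF cert) (nat_lit 25000) (nat_lit 1000) = true := by decide +kernel
theorem chkF_26000 : allRangeF (checkFactF cert) (nat_lit 26000) (nat_lit 1000) = true := by decide +kernel

theorem factsRange_0 : ∀ i, 0 ≤ i → i < 27000 → checkFact cert i = true := by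
  intro i hlo hhi
  rcases Nat.lt_or_ge i 13000 with h1 | h1
  · skip
    rcases Nat.lt_or_ge i 6000 with h2 | h2
    · skip
      rcases Nat.lt_or_ge i 3000 with h3 | h3
      · skip
        rcases Nat.lt_or_ge i 1000 with h4 | h4
        · skip
          exact allRangeF_sound _ _ (checkFactF_eq cert) 0 1000 chkF_0 i (by omega) (by omega)
        · skip
          rcases Nat.lt_or_ge i 2000 with h5 | h5
          · skip
            exact allRangeF_sound _ _ (checkFactF_eq cert) 1000 1000 chkF_1000 i (by omega) (by omega)
          · skip
            exact allRangeF_sound _ _ (checkFactF_eq cert) 2000 1000 chkF_2000 i (by omega) (by omega)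
      · skip
        rcases Nat.lt_or_ge i 4000 with h4 | h4
        · skip
          exact allRangeF_sound _ _ (checkFactF_eq cert) 3000 1000 chkF_3000 i (by omega) (by omega)
        · skip
          rcases Nat.lt_or_ge i 5000 with h5 | h5
          · skip
            exact allRangeF_sound _ _ (checkFactF_eq cert) 4000 1000 chkF_4000 i (by omega) (by omega)
          · skip
            exact allRangeF_sound _ _ (checkFactF_eq cert) 5000 1000 chkF_5000 i (by omega) (by omega)
    · skip
      rcases Nat.lt_or_ge i 9000 with h3 | h3
      · skip
        rcases Nat.lt_or_ge i 7000 with h4 | h4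
        · skip
          exact allRangeF_sound _ _ (checkFactF_eq cert) 6000 1000 chkF_6000 i (by omega) (by omega)
        · skip
          rcases Nat.lt_or_ge i 8000 with h5 | h5
          · skip
            exact allRangeF_sound _ _ (checkFactF_eq cert) 7000 1000 chkF_7000 i (by omega) (by omega)
          · skip
            exact allRangeF_sound _ _ (checkFactF_eq cert) 8000 1000 chkF_8000 i (by omega) (by omega)
      · skip
        rcases Nat.lt_or_ge i 11000 with h4 | h4
        · skip
          rcases Nat.lt_or_ge i 10000 with h5 | h5
          · skip
            exact allRangeF_sound _ _ (checkFactF_eq cert) 9000 1000 chkF_9000 i (by omega) (by omega)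
          · skip
            exact allRangeF_sound _ _ (checkFactF_eq cert) 10000 1000 chkF_10000 i (by omega) (by omega)
        · skip
          rcases Nat.lt_or_ge i 12000 with h5 | h5
          · skip
            exact allRangeF_sound _ _ (checkFactF_eq cert) 11000 1000 chkF_11000 i (by omega) (by omega)
          · skip
            exact allRangeF_sound _ _ (checkFactF_eq cert) 12000 1000 chkF_12000 i (by omega) (by omega)
  · skip
    rcases Nat.lt_or_ge i 20000 with h2 | h2
    · skip
      rcases Nat.lt_or_ge i 16000 with h3 | h3
      · skip
        rcases Nat.lt_or_ge i 14000 with h4 | h4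
        · skip
          exact allRangeF_sound _ _ (checkFactF_eq cert) 13000 1000 chkF_13000 i (by omega) (by omega)
        · skip
          rcases Nat.lt_or_ge i 15000 with h5 | h5
          · skip
            exact allRangeF_sound _ _ (checkFactF_eq cert) 14000 1000 chkF_14000 i (by omega) (by omega)
          · skip
            exact allRangeF_sound _ _ (checkFactF_eq cert) 15000 1000 chkF_15000 i (by omega) (by omega)
      · skip
        rcases Nat.lt_or_ge i 18000 with h4 | h4
        · skip
          rcases Nat.lt_or_ge i 17000 with h5 | h5
          · skip
            exact allRangeF_sound _ _ (checkFactF_eq cert) 16000 1000 chkF_16000 i (by omega) (by omega)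
          · skip
            exact allRangeF_sound _ _ (checkFactF_eq cert) 17000 1000 chkF_17000 i (by omega) (by omega)
        · skip
          rcases Nat.lt_or_ge i 19000 with h5 | h5
          · skip
            exact allRangeF_sound _ _ (checkFactF_eq cert) 18000 1000 chkF_18000 i (by omega) (by omega)
          · skip
            exact allRangeF_sound _ _ (checkFactF_eq cert) 19000 1000 chkF_19000 i (by omega) (by omega)
    · skip
      rcases Nat.lt_or_ge i 23000 with h3 | h3
      · skip
        rcases Nat.lt_or_ge i 21000 with h4 | h4
        · skip
          exact allRangeF_sound _ _ (checkFactF_eq cert) 20000 1000 chkF_20000 i (by omega) (by omega)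
        · skip
          rcases Nat.lt_or_ge i 22000 with h5 | h5
          · skip
            exact allRangeF_sound _ _ (checkFactF_eq cert) 21000 1000 chkF_21000 i (by omega) (by omega)
          · skip
            exact allRangeF_sound _ _ (checkFactF_eq cert) 22000 1000 chkF_22000 i (by omega) (by omega)
      · skip
        rcases Nat.lt_or_ge i 25000 with h4 | h4
        · skip
          rcases Nat.lt_or_ge i 24000 with h5 | h5
          · skip
            exact allRangeF_sound _ _ (checkFactF_eq cert) 23000 1000 chkF_23000 i (by omega) (by omega)
          · skip
            exact allRangeF_sound _ _ (checkFactF_eq cert) 24000 1000 chkF_24000 i (by omega) (by omega)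
        · skip
          rcases Nat.lt_or_ge i 26000 with h5 | h5
          · skip
            exact allRangeF_sound _ _ (checkFactF_eq cert) 25000 1000 chkF_25000 i (by omega) (by omega)
          · skip
            exact allRangeF_sound _ _ (checkFactF_eq cert) 26000 1000 chkF_26000 i (by omega) (by omega)

end Cfsg.Agent.Lib.Helper28.Mo3aData
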