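import Cfsg.Agent.Lib.Helper28.Mo3aData
import Cfsg.Agent.Lib.Helper28.TCFastF

set_option autoImplicit false
set_option maxRecDepth 1000000
set_option linter.all false
set_option Elab.async false

namespace Cfsg.Agent.Lib.Helper28.Mo3aData

open Cfsg.Agent.Lib.Helper28

theorem chkF_27000 : allRangeF (checkFactF cert) (nat_lit 27000) (nat_lit 1000) = true := by decide +kernel
theorem chkF_28000 : allRangeF (checkFactF cert) (nat_lit 28000) (nat_lit 1000) = true := by decide +kernel
theorem chkF_29000 : allRangeF (checkFactF cert) (nat_lit 29000) (nat_lit 1000) = true := by decide +kernel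
theorem chkF_30000 : allRangeF (checkFactF cert) (nat_lit 30000) (nat_lit 1000) = true := by decide +kernel
theorem chkF_31000 : allRangeF (checkFactF cert) (nat_lit 31000) (nat_lit 1000) = true := by decide +kernel
theorem chkF_32000 : allRangeF (checkFactF cert) (nat_lit 32000) (nat_lit 1000) = true := by decide +kernel
theorem chkF_33000 : allRangeF (checkFactF cert) (nat_lit 33000) (nat_lit 1000) = true := by decide +kernel
theorem chkF_34000 : allRangeF (checkFactF cert) (nat_lit 34000) (nat_lit 1000) = true := by decide +kernel
theorem chkF_35000 : allRangeF (checkFactF cert) (nat_lit 35000) (nat_lit 1000) = true := by decide +kernel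
theorem chkF_36000 : allRangeF (checkFactF cert) (nat_lit 36000) (nat_lit 1000) = true := by decide +kernel
theorem chkF_37000 : allRangeF (checkFactF cert) (nat_lit 37000) (nat_lit 1000) = true := by decide +kernel
theorem chkF_38000 : allRangeF (checkFactF cert) (nat_lit 38000) (nat_lit 1000) = true := by decide +kernel
theorem chkF_39000 : allRangeF (checkFactF cert) (nat_lit 39000) (nat_lit 1000) = true := by decide +kernel
theorem chkF_40000 : allRangeF (checkFactF cert) (nat_lit 40000) (nat_lit 1000) = true := by decide +kernel
theorem chkF_41000 : allRangeF (checkFactF cert) (nat_lit 41000) (nat_lit 1000) = true := by decide +kernel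
theorem chkF_42000 : allRangeF (checkFactF cert) (nat_lit 42000) (nat_lit 1000) = true := by decide +kernel
theorem chkF_43000 : allRangeF (checkFactF cert) (nat_lit 43000) (nat_lit 1000) = true := by decide +kernel
theorem chkF_44000 : allRangeF (checkFactF cert) (nat_lit 44000) (nat_lit 1000) = true := by decide +kernel
theorem chkF_45000 : allRangeF (checkFactF cert) (nat_lit 45000) (nat_lit 1000) = true := by decide +kernel
theorem chkF_46000 : allRangeF (checkFactF cert) (nat_lit 46000) (nat_lit 1000) = true := by decide +kernel
theorem chkF_47000 : allRangeF (checkFactF cert) (nat_lit 47000) (nat_lit 1000) = true := by decide +kernel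
theorem chkF_48000 : allRangeF (checkFactF cert) (nat_lit 48000) (nat_lit 1000) = true := by decide +kernel
theorem chkF_49000 : allRangeF (checkFactF cert) (nat_lit 49000) (nat_lit 1000) = true := by decide +kernel
theorem chkF_50000 : allRangeF (checkFactF cert) (nat_lit 50000) (nat_lit 1000) = true := by decide +kernel
theorem chkF_51000 : allRangeF (checkFactF cert) (nat_lit 51000) (nat_lit 1000) = true := by decide +kernel
theorem chkF_52000 : allRangeF (checkFactF cert) (nat_lit 52000) (nat_lit 669) = true := by decide +kernel

theorem factsRange_1 : ∀ i, 27000 ≤ i → i < 52669 → checkFact cert i = true := by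
  intro i hlo hhi
  rcases Nat.lt_or_ge i 40000 with h1 | h1
  · skip
    rcases Nat.lt_or_ge i 33000 with h2 | h2
    · skip
      rcases Nat.lt_or_ge i 30000 with h3 | h3
      · skip
        rcases Nat.lt_or_ge i 28000 with h4 | h4
        · skip
          exact allRangeF_sound _ _ (checkFactF_eq cert) 27000 1000 chkF_27000 i (by omega) (by omega)
        · skip
          rcases Nat.lt_or_ge i 29000 with h5 | h5
          · skip
            exact allRangeF_sound _ _ (checkFactF_eq cert) 28000 1000 chkF_28000 i (by omega) (by omega)
          · skip
            exact allRangeF_sound _ _ (checkFactF_eq cert) 29000 1000 chkF_29000 i (by omega) (by omega)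
      · skip
        rcases Nat.lt_or_ge i 31000 with h4 | h4
        · skip
          exact allRangeF_sound _ _ (checkFactF_eq cert) 30000 1000 chkF_30000 i (by omega) (by omega)
        · skip
          rcases Nat.lt_or_ge i 32000 with h5 | h5
          · skip
            exact allRangeF_sound _ _ (checkFactF_eq cert) 31000 1000 chkF_31000 i (by omega) (by omega)
          · skip
            exact allRangeF_sound _ _ (checkFactF_eq cert) 32000 1000 chkF_32000 i (by omega) (by omega)
    · skip
      rcases Nat.lt_or_ge i 36000 with h3 | h3
      · skip
        rcases Nat.lt_or_ge i 34000 with h4 | h4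
        · skip
          exact allRangeF_sound _ _ (checkFactF_eq cert) 33000 1000 chkF_33000 i (by omega) (by omega)
        · skip
          rcases Nat.lt_or_ge i 35000 with h5 | h5
          · skip
            exact allRangeF_sound _ _ (checkFactF_eq cert) 34000 1000 chkF_34000 i (by omega) (by omega)
          · skip
            exact allRangeF_sound _ _ (checkFactF_eq cert) 35000 1000 chkF_35000 i (by omega) (by omega)
      · skip
        rcases Nat.lt_or_ge i 38000 with h4 | h4
        · skip
          rcases Nat.lt_or_ge i 37000 with h5 | h5
          · skip
            exact allRangeF_sound _ _ (checkFactF_eq cert) 36000 1000 chkF_36000 i (by omega) (by omega)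
          · skip
            exact allRangeF_sound _ _ (checkFactF_eq cert) 37000 1000 chkF_37000 i (by omega) (by omega)
        · skip
          rcases Nat.lt_or_ge i 39000 with h5 | h5
          · skip
            exact allRangeF_sound _ _ (checkFactF_eq cert) 38000 1000 chkF_38000 i (by omega) (by omega)
          · skip
            exact allRangeF_sound _ _ (checkFactF_eq cert) 39000 1000 chkF_39000 i (by omega) (by omega)
  · skip
    rcases Nat.lt_or_ge i 46000 with h2 | h2
    · skip
      rcases Nat.lt_or_ge i 43000 with h3 | h3
      · skip
        rcases Nat.lt_or_ge i 41000 with h4 | h4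
        · skip
          exact allRangeF_sound _ _ (checkFactF_eq cert) 40000 1000 chkF_40000 i (by omega) (by omega)
        · skip
          rcases Nat.lt_or_ge i 42000 with h5 | h5
          · skip
            exact allRangeF_sound _ _ (checkFactF_eq cert) 41000 1000 chkF_41000 i (by omega) (by omega)
          · skip
            exact allRangeF_sound _ _ (checkFactF_eq cert) 42000 1000 chkF_42000 i (by omega) (by omega)
      · skip
        rcases Nat.lt_or_ge i 44000 with h4 | h4
        · skip
          exact allRangeF_sound _ _ (checkFactF_eq cert) 43000 1000 chkF_43000 i (by omega) (by omega)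
        · skip
          rcases Nat.lt_or_ge i 45000 with h5 | h5
          · skip
            exact allRangeF_sound _ _ (checkFactF_eq cert) 44000 1000 chkF_44000 i (by omega) (by omega)
          · skip
            exact allRangeF_sound _ _ (checkFactF_eq cert) 45000 1000 chkF_45000 i (by omega) (by omega)
    · skip
      rcases Nat.lt_or_ge i 49000 with h3 | h3
      · skip
        rcases Nat.lt_or_ge i 47000 with h4 | h4
        · skip
          exact allRangeF_sound _ _ (checkFactF_eq cert) 46000 1000 chkF_46000 i (by omega) (by omega)
        · skip
          rcases Nat.lt_or_ge i 48000 with h5 | h5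
          · skip
            exact allRangeF_sound _ _ (checkFactF_eq cert) 47000 1000 chkF_47000 i (by omega) (by omega)
          · skip
            exact allRangeF_sound _ _ (checkFactF_eq cert) 48000 1000 chkF_48000 i (by omega) (by omega)
      · skip
        rcases Nat.lt_or_ge i 51000 with h4 | h4
        · skip
          rcases Nat.lt_or_ge i 50000 with h5 | h5
          · skip
            exact allRangeF_sound _ _ (checkFactF_eq cert) 49000 1000 chkF_49000 i (by omega) (by omega)
          · skip
            exact allRangeF_sound _ _ (checkFactF_eq cert) 50000 1000 chkF_50000 i (by omega) (by omega)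
        · skip
          rcases Nat.lt_or_ge i 52000 with h5 | h5
          · skip
            exact allRangeF_sound _ _ (checkFactF_eq cert) 51000 1000 chkF_51000 i (by omega) (by omega)
          · skip
            exact allRangeF_sound _ _ (checkFactF_eq cert) 52000 669 chkF_52000 i (by omega) (by omega)

end Cfsg.Agent.Lib.Helper28.Mo3aData
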