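import Cfsg.Agent.Lib.Helper28.Mo3aData
import Cfsg.Agent.Lib.Helper28.TCFast

set_option autoImplicit false
set_option maxRecDepth 1000000
set_option linter.all false
set_option Elab.async false

namespace Cfsg.Agent.Lib.Helper28.Mo3aData

open Cfsg.Agent.Lib.Helper28

theorem chkP_2100 : allRangeF (checkPointF cert) (nat_lit 2100) (nat_lit 100) = true := by decide +kernel
theorem chkP_2200 : allRangeF (checkPointF cert) (nat_lit 2200) (nat_lit 100) = true := by decide +kernel
theorem chkP_2300 : allRangeF (checkPointF cert) (nat_lit 2300) (nat_lit 100) = true := by decide +kernel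
theorem chkP_2400 : allRangeF (checkPointF cert) (nat_lit 2400) (nat_lit 100) = true := by decide +kernel
theorem chkP_2500 : allRangeF (checkPointF cert) (nat_lit 2500) (nat_lit 100) = true := by decide +kernel
theorem chkP_2600 : allRangeF (checkPointF cert) (nat_lit 2600) (nat_lit 100) = true := by decide +kernel
theorem chkP_2700 : allRangeF (checkPointF cert) (nat_lit 2700) (nat_lit 100) = true := by decide +kernel
theorem chkP_2800 : allRangeF (checkPointF cert) (nat_lit 2800) (nat_lit 100) = true := by decide +kernel
theorem chkP_2900 : allRangeF (checkPointF cert) (nat_lit 2900) (nat_lit 100) = true := by decide +kernel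
theorem chkP_3000 : allRangeF (checkPointF cert) (nat_lit 3000) (nat_lit 100) = true := by decide +kernel
theorem chkP_3100 : allRangeF (checkPointF cert) (nat_lit 3100) (nat_lit 100) = true := by decide +kernel
theorem chkP_3200 : allRangeF (checkPointF cert) (nat_lit 3200) (nat_lit 100) = true := by decide +kernel
theorem chkP_3300 : allRangeF (checkPointF cert) (nat_lit 3300) (nat_lit 100) = true := by decide +kernel
theorem chkP_3400 : allRangeF (checkPointF cert) (nat_lit 3400) (nat_lit 100) = true := by decide +kernel
theorem chkP_3500 : allRangeF (checkPointF cert) (nat_lit 3500) (nat_lit 100) = true := by decide +kernel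
theorem chkP_3600 : allRangeF (checkPointF cert) (nat_lit 3600) (nat_lit 100) = true := by decide +kernel
theorem chkP_3700 : allRangeF (checkPointF cert) (nat_lit 3700) (nat_lit 100) = true := by decide +kernel
theorem chkP_3800 : allRangeF (checkPointF cert) (nat_lit 3800) (nat_lit 100) = true := by decide +kernel
theorem chkP_3900 : allRangeF (checkPointF cert) (nat_lit 3900) (nat_lit 100) = true := by decide +kernel
theorem chkP_4000 : allRangeF (checkPointF cert) (nat_lit 4000) (nat_lit 80) = true := by decide +kernel

theorem ptsRange_1 : ∀ i, 2100 ≤ i → i < 4080 → checkPoint cert i = true := by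
  intro i hlo hhi
  rcases Nat.lt_or_ge i 3100 with h1 | h1
  · skip
    rcases Nat.lt_or_ge i 2600 with h2 | h2
    · skip
      rcases Nat.lt_or_ge i 2300 with h3 | h3
      · skip
        rcases Nat.lt_or_ge i 2200 with h4 | h4
        · skip
          exact allRangeF_sound _ _ (checkPointF_eq cert) 2100 100 chkP_2100 i (by omega) (by omega)
        · skip
          exact allRangeF_sound _ _ (checkPointF_eq cert) 2200 100 chkP_2200 i (by omega) (by omega)
      · skip
        rcases Nat.lt_or_ge i 2400 with h4 | h4
        · skip
          exact allRangeF_sound _ _ (checkPointF_eq cert) 2300 100 chkP_2300 i (by omega) (by omega)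
        · skip
          rcases Nat.lt_or_ge i 2500 with h5 | h5
          · skip
            exact allRangeF_sound _ _ (checkPointF_eq cert) 2400 100 chkP_2400 i (by omega) (by omega)
          · skip
            exact allRangeF_sound _ _ (checkPointF_eq cert) 2500 100 chkP_2500 i (by omega) (by omega)
    · skip
      rcases Nat.lt_or_ge i 2800 with h3 | h3
      · skip
        rcases Nat.lt_or_ge i 2700 with h4 | h4
        · skip
          exact allRangeF_sound _ _ (checkPointF_eq cert) 2600 100 chkP_2600 i (by omega) (by omega)
        · skip
          exact allRangeF_sound _ _ (checkPointF_eq cert) 2700 100 chkP_2700 i (by omega) (by omega)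
      · skip
        rcases Nat.lt_or_ge i 2900 with h4 | h4
        · skip
          exact allRangeF_sound _ _ (checkPointF_eq cert) 2800 100 chkP_2800 i (by omega) (by omega)
        · skip
          rcases Nat.lt_or_ge i 3000 with h5 | h5
          · skip
            exact allRangeF_sound _ _ (checkPointF_eq cert) 2900 100 chkP_2900 i (by omega) (by omega)
          · skip
            exact allRangeF_sound _ _ (checkPointF_eq cert) 3000 100 chkP_3000 i (by omega) (by omega)
  · skip
    rcases Nat.lt_or_ge i 3600 with h2 | h2
    · skip
      rcases Nat.lt_or_ge i 3300 with h3 | h3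
      · skip
        rcases Nat.lt_or_ge i 3200 with h4 | h4
        · skip
          exact allRangeF_sound _ _ (checkPointF_eq cert) 3100 100 chkP_3100 i (by omega) (by omega)
        · skip
          exact allRangeF_sound _ _ (checkPointF_eq cert) 3200 100 chkP_3200 i (by omega) (by omega)
      · skip
        rcases Nat.lt_or_ge i 3400 with h4 | h4
        · skip
          exact allRangeF_sound _ _ (checkPointF_eq cert) 3300 100 chkP_3300 i (by omega) (by omega)
        · skip
          rcases Nat.lt_or_ge i 3500 with h5 | h5
          · skip
            exact allRangeF_sound _ _ (checkPointF_eq cert) 3400 100 chkP_3400 i (by omega) (by omega)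
          · skip
            exact allRangeF_sound _ _ (checkPointF_eq cert) 3500 100 chkP_3500 i (by omega) (by omega)
    · skip
      rcases Nat.lt_or_ge i 3800 with h3 | h3
      · skip
        rcases Nat.lt_or_ge i 3700 with h4 | h4
        · skip
          exact allRangeF_sound _ _ (checkPointF_eq cert) 3600 100 chkP_3600 i (by omega) (by omega)
        · skip
          exact allRangeF_sound _ _ (checkPointF_eq cert) 3700 100 chkP_3700 i (by omega) (by omega)
      · skip
        rcases Nat.lt_or_ge i 3900 with h4 | h4
        · skip
          exact allRangeF_sound _ _ (checkPointF_eq cert) 3800 100 chkP_3800 i (by omega) (by omega)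
        · skip
          rcases Nat.lt_or_ge i 4000 with h5 | h5
          · skip
            exact allRangeF_sound _ _ (checkPointF_eq cert) 3900 100 chkP_3900 i (by omega) (by omega)
          · skip
            exact allRangeF_sound _ _ (checkPointF_eq cert) 4000 80 chkP_4000 i (by omega) (by omega)

end Cfsg.Agent.Lib.Helper28.Mo3aData
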