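import Cfsg.Agent.Lib.Helper28.Mo3bData
import Cfsg.Agent.Lib.Helper28.TCFastF

set_option autoImplicit false
set_option maxRecDepth 1000000
set_option linter.all false
set_option Elab.async false

namespace Cfsg.Agent.Lib.Helper28.Mo3bData

open Cfsg.Agent.Lib.Helper28

theorem chkF_2000 : allRangeF (checkFactF cert) (nat_lit 2000) (nat_lit 412) = true := by decide +kernel

theorem factsRange_1 : ∀ i, 2000 ≤ i → i < 2412 → checkFact cert i = true := by
  intro i hlo hhi
  exact allRangeF_sound _ _ (checkFactF_eq cert) 2000 412 chkF_2000 i (by omega) (by omega)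

end Cfsg.Agent.Lib.Helper28.Mo3bData
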