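import Cfsg.Agent.Lib.Helper28.Mo3cChkP0
import Cfsg.Agent.Lib.Helper28.Mo3cChkP1
import Cfsg.Agent.Lib.Helper28.Mo3cChkF0
import Cfsg.Agent.Lib.Helper28.Mo3cChkF1
import Cfsg.Agent.Lib.Helper28.TCOrbit

set_option autoImplicit false
set_option maxRecDepth 1000000
set_option linter.all false
set_option Elab.async false

namespace Cfsg.Agent.Lib.Helper28.Mo3cData

open Cfsg.Agent.Lib.Helper28

theorem chkG : checkGlobal cert = true := by decide +kernel

theorem chkR2 : checkRels2 cert = true := by decide +kernel

theorem facts_ok : ∀ i, i < cert.nF → checkFact cert i = true := by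
  intro i hi
  have hn : cert.nF = 39244 := rfl
  rw [hn] at hi
  rcases Nat.lt_or_ge i 20000 with h1 | h1
  · skip
    exact factsRange_0 i (by omega) (by omega)
  · skip
    exact factsRange_1 i (by omega) (by omega)

theorem pts_ok : ∀ p, p < cert.n → checkPoint cert p = true := by
  intro i hi
  have hn : cert.n = 4116 := rfl
  rw [hn] at hi
  rcases Nat.lt_or_ge i 2100 with h1 | h1
  · skip
    exact ptsRange_0 i (by omega) (by omega)
  · skip
    exact ptsRange_1 i (by omega) (by omega)


end Cfsg.Agent.Lib.Helper28.Mo3cData
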