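import Cfsg.Agent.Lib.Helper28.Mo3Chk2
import Cfsg.Agent.Lib.Helper28.Mo3aChk
import Cfsg.Agent.Lib.Helper28.Mo3bChk
import Cfsg.Agent.Lib.Helper28.Mo3cChk
import Cfsg.Agent.Lib.Helper28.Sp44Alpha

set_option autoImplicit false
set_option linter.all false
set_option maxRecDepth 1000000

/-! The presented Held group is generated by four elements of order 3 satisfying a list of
conjugation relations which, together with the power relations, present a group of order at most
`4030387200`; hence stem extensions with kernels of order prime to 3 are trivial. -/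

namespace Cfsg.Agent.Lib.Helper28.Mo3

open Cfsg Cfsg.Spor Cfsg.Agent.Lib.Helper28 Cfsg.Agent.Lib.Helper28.PGen Cfsg.Agent.Lib.Helper28.HeMultGen
open Cfsg.Agent.Lib.Helper28.SpAlphaChk Cfsg.Agent.Lib.Helper28.HeOrder
open Cfsg.Agent.Lib.Helper89.CosetCert Cfsg.Agent.Lib.Helper89.SafePres

theorem keyA : ∀ w ∈ Mo3aData.cert.rels, w = [4] ∨ w = [6] ∨
    (w ∈ Mo3bData.cert.rels ∧ ∀ l ∈ w, l / 2 < 2) := by
  show ∀ w ∈ Mo3aData.rels, w = [4] ∨ w = [6] ∨
    (w ∈ Mo3bData.rels ∧ ∀ l ∈ w, l / 2 < 2)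
  decide +kernel

theorem keyB : ∀ w ∈ Mo3bData.cert.rels, w = [6] ∨
    (w ∈ Mo3cData.cert.rels ∧ ∀ l ∈ w, l / 2 < 3) := by
  show ∀ w ∈ Mo3bData.rels, w = [6] ∨
    (w ∈ Mo3cData.rels ∧ ∀ l ∈ w, l / 2 < 3)
  decide +kernel

/-- the group presented by the power relators and the conjugation relators is not larger than the
Held group -/
theorem bound : Finite (PG genOf Mo3cData.rels) ∧ Nat.card (PG genOf Mo3cData.rels) ≤ 4030387200 := by
  have h := chain_bound Mo3aData.cert Mo3bData.cert Mo3cData.cert rfl rfl rfl rfl rfl rfl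
    Mo3aData.chkR2 Mo3aData.facts_ok Mo3aData.pts_ok Mo3aData.chkG
    Mo3bData.chkR2 Mo3bData.facts_ok Mo3bData.pts_ok Mo3bData.chkG
    Mo3cData.chkR2 Mo3cData.facts_ok Mo3cData.pts_ok Mo3cData.chkG keyA keyB
  have e : Mo3cData.cert.n * (Mo3bData.cert.n * Mo3aData.cert.n) = 4030387200 := by
    show 4116 * (240 * 4080) = 4030387200
    norm_num
  rw [e] at h
  exact h

theorem hlet : ∀ w ∈ Mo3cData.rels, ∀ l ∈ w, l / 2 < 4 := by
  intro w hw l hl
  have := allLetters_sound _ _ (allList_sound _ _ rels_lt w hw) l hl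
  have h8 : l < 8 := by simpa [Nat.blt] using this
  omega

/-- the bound required by the criterion -/
theorem hbound (L : Type) [Group L] [Finite L] (t : ℕ → L) (ht : ∀ i, t i ^ 3 = 1)
    (hs : ∀ r ∈ srels, ev t r.word = 1) :
    Nat.card (Subgroup.closure {y | ∃ i < 4, y = t i}) ≤ 4030387200 := by
  haveI := bound.1
  exact hbound_of Mo3cData.rels 4030387200 bound.2 (fun _ => 3) srels rels_eq hlet t ht hs

/-- the four generators of order 3 -/
noncomputable def g : ℕ → G := fun i => evw gamA (gwL.getD i [])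

section WithSetup

variable {φ : G →* Equiv.Perm ℕ} (hS : Setup certA H2 gamA φ)

include hS

theorem rel_valid : ∀ w ∈ Mo3cData.rels, evw g w = 1 := by
  intro w hw
  show evw (fun i => evw gamA (gwL.getD i [])) w = 1
  rw [← evw_substL]
  exact Sp44Alpha.word_one hS _ (allList_sound _ _ rel_letters w hw)
    (allList_sound _ _ rel_fix w hw)

theorem hord (i : ℕ) : g i ^ 3 = 1 := by
  by_cases hi : i < 4
  · have h := rel_valid hS (powWord 3 i) (by
      rw [rels_eq]
      exact List.mem_append_left _ (List.mem_map.2 ⟨i, List.mem_range.2 hi, rfl⟩))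
    rw [← ev_eq_evw, ev_powWord] at h
    exact h
  · have : g i = 1 := by
      show evw gamA (gwL.getD i []) = 1
      have hl : gwL.length = 4 := rfl
      rw [List.getD_eq_default _ _ (by rw [hl]; omega)]
      rfl
    rw [this, one_pow]

theorem hvalid : ∀ r ∈ srels, ev g r.word = 1 := by
  intro r hr
  rw [ev_eq_evw]
  apply rel_valid hS
  rw [rels_eq]
  exact List.mem_append_right _ (List.mem_map.2 ⟨r, hr, rfl⟩)

theorem gen_eq (j : ℕ) (hj : j < 7) : gamA j = evw g (genW.getD j []) := by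
  have hmem : substL gwL (genW.getD j []) ++ [2 * j + 1] ∈ genC := by
    rw [genC_eq]
    exact List.mem_map.2 ⟨j, List.mem_range.2 hj, rfl⟩
  have h := Sp44Alpha.word_one hS _ (allList_sound _ _ genC_letters _ hmem)
    (allList_sound _ _ genC_fix _ hmem)
  rw [evw_append, evw_substL] at h
  have h2 : evw gamA [2 * j + 1] = (gamA j)⁻¹ := by
    have e1 : (2 * j + 1) % 2 = 1 := by omega
    have e2 : (2 * j + 1) / 2 = j := by omega
    simp [evw, letG, e1, e2, beq_one_zero]
  rw [h2] at h
  exact (mul_inv_eq_one.1 h).symm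

theorem hgen : Subgroup.closure {y | ∃ i < 4, y = g i} = ⊤ := by
  rw [eq_top_iff, ← PresentedGroup.closure_range_of, Subgroup.closure_le]
  rintro _ ⟨x, rfl⟩
  have hx := HeGlue.hidx x
  have e : (PresentedGroup.of x : G) = gamA (HeGlue.idx x) := by
    show _ = PresentedGroup.of (HeGlue.genOf (HeGlue.idx x))
    rw [hx.2]
  rw [e, gen_eq hS _ hx.1]
  apply evw_mem_closure
  intro l hl
  have hm : genW.getD (HeGlue.idx x) [] ∈ genW := by
    apply getD_mem_of_lt
    show HeGlue.idx x < 7
    exact hx.1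
  have := allLetters_sound _ _ (allList_sound _ _ genW_letters _ hm) l hl
  simpa [Nat.blt] using this

/-- stem extensions of the presented Held group whose kernel is a `p`-group, `p` prime to 3,
are trivial -/
theorem ker_bot (p : ℕ) (hp : p.Prime) (hcop : Nat.Coprime 3 p) (Γ : Type) [Group Γ] [Finite Γ]
    (σ : Γ →* G) (hσ : Cfsg.IsStemExtension σ)
    (hpk : ∀ z ∈ σ.ker, ∃ n : ℕ, z ^ (p ^ n) = 1) : σ.ker = ⊥ := by
  haveI := cardG_le.1
  haveI : Fact p.Prime := ⟨hp⟩
  refine ker_eq_bot_of_safe p 4 g (fun _ => 3) (hord hS) (fun _ => hcop) (hgen hS) srels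
    (hvalid hS) ?_ σ hσ hpk
  intro L _ _ t ht hs
  rw [(cardG hS).1]
  exact hbound L t ht hs

end WithSetup

end Cfsg.Agent.Lib.Helper28.Mo3
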