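import Cfsg.Agent.Lib.Helper28.TCDefs
import Cfsg.Agent.Lib.Helper28.Mo3aDataP0

set_option autoImplicit false
set_option maxRecDepth 100000
set_option linter.all false

namespace Cfsg.Agent.Lib.Helper28.Mo3aData

open Cfsg.Agent.Lib.Helper28

noncomputable def tF_s0_3 (j : Nat) : Nat := @Bool.rec (fun _ => Nat) tF_L0 (@Bool.rec (fun _ => Nat) tF_L1 tF_L2 (Nat.ble (nat_lit 2) j)) (Nat.ble (nat_lit 1) j)
noncomputable def tF (i : Nat) : Nat := Nat.land (Nat.shiftRight (tF_s0_3 (Nat.div i (nat_lit 18181))) (Nat.mul (nat_lit 44) (Nat.mod i (nat_lit 18181)))) (nat_lit 17592186044415)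
noncomputable def tD (i : Nat) : Nat := Nat.land (Nat.shiftRight tD_L0 (Nat.mul (nat_lit 23) i)) (nat_lit 8388607)
noncomputable def tT (i : Nat) : Nat := Nat.land (Nat.shiftRight tT_L0 (Nat.mul (nat_lit 12) i)) (nat_lit 4095)
noncomputable def tPP (i : Nat) : Nat := Nat.land (Nat.shiftRight tPP_L0 (Nat.mul (nat_lit 15) i)) (nat_lit 32767)
noncomputable def tNO (i : Nat) : Nat := Nat.land (Nat.shiftRight tNO_L0 (Nat.mul (nat_lit 15) i)) (nat_lit 32767)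
noncomputable def tTAB (i : Nat) : Nat := Nat.land (Nat.shiftRight tTAB_L0 (Nat.mul (nat_lit 16) i)) (nat_lit 65535)
noncomputable def tORB (i : Nat) : Nat := Nat.land (Nat.shiftRight tORB_L0 (Nat.mul (nat_lit 12) i)) (nat_lit 4095)
noncomputable def tORK (i : Nat) : Nat := Nat.land (Nat.shiftRight tORK_L0 (Nat.mul (nat_lit 1) i)) (nat_lit 1)
noncomputable def tOPAR (i : Nat) : Nat := Nat.land (Nat.shiftRight tOPAR_L0 (Nat.mul (nat_lit 1) i)) (nat_lit 1)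
noncomputable def tROOT (i : Nat) : Nat := Nat.land (Nat.shiftRight tROOT_L0 (Nat.mul (nat_lit 12) i)) (nat_lit 4095)
noncomputable def tJ_O_s0_2 (j : Nat) : Nat := @Bool.rec (fun _ => Nat) tJ_O_L0 tJ_O_L1 (Nat.ble (nat_lit 1) j)
noncomputable def tJ_O (i : Nat) : Nat := Nat.land (Nat.shiftRight (tJ_O_s0_2 (Nat.div i (nat_lit 42105))) (Nat.mul (nat_lit 19) (Nat.mod i (nat_lit 42105)))) (nat_lit 524287)
noncomputable def tJ_s0_3 (j : Nat) : Nat := @Bool.rec (fun _ => Nat) tJ_P0 (@Bool.rec (fun _ => Nat) tJ_P1 tJ_P2 (Nat.ble (nat_lit 2) j)) (Nat.ble (nat_lit 1) j)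
noncomputable def tJ_s3_6 (j : Nat) : Nat := @Bool.rec (fun _ => Nat) tJ_P3 (@Bool.rec (fun _ => Nat) tJ_P4 tJ_P5 (Nat.ble (nat_lit 5) j)) (Nat.ble (nat_lit 4) j)
noncomputable def tJ_s6_9 (j : Nat) : Nat := @Bool.rec (fun _ => Nat) tJ_P6 (@Bool.rec (fun _ => Nat) tJ_P7 tJ_P8 (Nat.ble (nat_lit 8) j)) (Nat.ble (nat_lit 7) j)
noncomputable def tJ_s9_13 (j : Nat) : Nat := @Bool.rec (fun _ => Nat) (@Bool.rec (fun _ => Nat) tJ_P9 tJ_P10 (Nat.ble (nat_lit 10) j)) (@Bool.rec (fun _ => Nat) tJ_P11 tJ_P12 (Nat.ble (nat_lit 12) j)) (Nat.ble (nat_lit 11) j)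
noncomputable def tJ_s13_16 (j : Nat) : Nat := @Bool.rec (fun _ => Nat) tJ_P13 (@Bool.rec (fun _ => Nat) tJ_P14 tJ_P15 (Nat.ble (nat_lit 15) j)) (Nat.ble (nat_lit 14) j)
noncomputable def tJ_s16_19 (j : Nat) : Nat := @Bool.rec (fun _ => Nat) tJ_P16 (@Bool.rec (fun _ => Nat) tJ_P17 tJ_P18 (Nat.ble (nat_lit 18) j)) (Nat.ble (nat_lit 17) j)
noncomputable def tJ_s19_22 (j : Nat) : Nat := @Bool.rec (fun _ => Nat) tJ_P19 (@Bool.rec (fun _ => Nat) tJ_P20 tJ_P21 (Nat.ble (nat_lit 21) j)) (Nat.ble (nat_lit 20) j)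
noncomputable def tJ_s22_26 (j : Nat) : Nat := @Bool.rec (fun _ => Nat) (@Bool.rec (fun _ => Nat) tJ_P22 tJ_P23 (Nat.ble (nat_lit 23) j)) (@Bool.rec (fun _ => Nat) tJ_P24 tJ_P25 (Nat.ble (nat_lit 25) j)) (Nat.ble (nat_lit 24) j)
noncomputable def tJ_s0_26 (j : Nat) : Nat := @Bool.rec (fun _ => Nat) (@Bool.rec (fun _ => Nat) (@Bool.rec (fun _ => Nat) (tJ_s0_3 j) (tJ_s3_6 j) (Nat.ble (nat_lit 3) j)) (@Bool.rec (fun _ => Nat) (tJ_s6_9 j) (tJ_s9_13 j) (Nat.ble (nat_lit 9) j)) (Nat.ble (nat_lit 6) j)) (@Bool.rec (fun _ => Nat) (@Bool.rec (fun _ => Nat) (tJ_s13_16 j) (tJ_s16_19 j) (Nat.ble (nat_lit 16) j)) (@Bool.rec (fun _ => Nat) (tJ_s19_22 j) (tJ_s22_26 j) (Nat.ble (nat_lit 22) j)) (Nat.ble (nat_lit 19) j)) (Nat.ble (nat_lit 13) j)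
noncomputable def tJ (i : Nat) : Nat := Nat.land (Nat.shiftRight (tJ_s0_26 (Nat.div i (nat_lit 2048))) (tJ_O i)) (nat_lit 102293456496754433437912178025862473506770063938845774671352855253004181137646079840102190385184504910965208878986252219038039267058918532916516487167)

noncomputable def rels : List (List Nat) := [[0, 0, 0], [2, 2, 2], [1, 2, 1, 2, 0, 3, 0, 3, 1, 0, 0, 2, 1, 2, 1, 3, 0, 3, 0, 3], [1, 3, 1, 3, 0, 2, 0, 2, 1, 0, 0, 3, 1, 3, 1, 2, 0, 2, 0, 2], [2, 0, 3, 0, 2, 0, 3, 0, 2, 0, 3, 1, 2, 1, 3, 1, 2, 1, 3, 1], [4], [6]]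
noncomputable def subs : List (List Nat) := []
noncomputable def rels2 : List (List (List Nat)) := [[[0, 0, 0], [2, 2, 2], [1, 2, 1, 2, 0, 3, 0, 3, 1, 0, 0, 2, 1, 2, 1, 3, 0, 3, 0, 3], [1, 3, 1, 3, 0, 2, 0, 2, 1, 0, 0, 3, 1, 3, 1, 2, 0, 2, 0, 2], [2, 0, 3, 0, 2, 0, 3, 0, 2, 0, 3, 1, 2, 1, 3, 1, 2, 1, 3, 1], [4], [6]]]
noncomputable def cert : Cert := ⟨4, 4080, 52669, tF, tJ, tD, rels, subs, tT, tPP, tNO, tTAB, rels2, tORB, tORK, tOPAR, tROOT⟩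

end Cfsg.Agent.Lib.Helper28.Mo3aData
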