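import Cfsg.Agent.Lib.Helper28.Mo3bData
import Cfsg.Agent.Lib.Helper28.TCFast

set_option autoImplicit false
set_option maxRecDepth 1000000
set_option linter.all false
set_option Elab.async false

namespace Cfsg.Agent.Lib.Helper28.Mo3bData

open Cfsg.Agent.Lib.Helper28

theorem chkP_0 : allRangeF (checkPointF cert) (nat_lit 0) (nat_lit 100) = true := by decide +kernel
theorem chkP_100 : allRangeF (checkPointF cert) (nat_lit 100) (nat_lit 100) = true := by decide +kernel

theorem ptsRange_0 : ∀ i, 0 ≤ i → i < 200 → checkPoint cert i = true := by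
  intro i hlo hhi
  rcases Nat.lt_or_ge i 100 with h1 | h1
  · skip
    exact allRangeF_sound _ _ (checkPointF_eq cert) 0 100 chkP_0 i (by omega) (by omega)
  · skip
    exact allRangeF_sound _ _ (checkPointF_eq cert) 100 100 chkP_100 i (by omega) (by omega)

end Cfsg.Agent.Lib.Helper28.Mo3bData
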