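import Cfsg.Agent.Lib.Helper28.TCDefs
import Cfsg.Agent.Lib.Helper28.Mo3bDataP0

set_option autoImplicit false
set_option maxRecDepth 100000
set_option linter.all false

namespace Cfsg.Agent.Lib.Helper28.Mo3bData

open Cfsg.Agent.Lib.Helper28

noncomputable def tF (i : Nat) : Nat := Nat.land (Nat.shiftRight tF_L0 (Nat.mul (nat_lit 44) i)) (nat_lit 17592186044415)
noncomputable def tD (i : Nat) : Nat := Nat.land (Nat.shiftRight tD_L0 (Nat.mul (nat_lit 23) i)) (nat_lit 8388607)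
noncomputable def tT (i : Nat) : Nat := Nat.land (Nat.shiftRight tT_L0 (Nat.mul (nat_lit 8) i)) (nat_lit 255)
noncomputable def tPP (i : Nat) : Nat := Nat.land (Nat.shiftRight tPP_L0 (Nat.mul (nat_lit 11) i)) (nat_lit 2047)
noncomputable def tNO (i : Nat) : Nat := Nat.land (Nat.shiftRight tNO_L0 (Nat.mul (nat_lit 10) i)) (nat_lit 1023)
noncomputable def tTAB (i : Nat) : Nat := Nat.land (Nat.shiftRight tTAB_L0 (Nat.mul (nat_lit 12) i)) (nat_lit 4095)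
noncomputable def tORB (i : Nat) : Nat := Nat.land (Nat.shiftRight tORB_L0 (Nat.mul (nat_lit 3) i)) (nat_lit 7)
noncomputable def tORK (i : Nat) : Nat := Nat.land (Nat.shiftRight tORK_L0 (Nat.mul (nat_lit 4) i)) (nat_lit 15)
noncomputable def tOPAR (i : Nat) : Nat := Nat.land (Nat.shiftRight tOPAR_L0 (Nat.mul (nat_lit 18) i)) (nat_lit 262143)
noncomputable def tROOT (i : Nat) : Nat := Nat.land (Nat.shiftRight tROOT_L0 (Nat.mul (nat_lit 8) i)) (nat_lit 255)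
noncomputable def tJ_O (i : Nat) : Nat := Nat.land (Nat.shiftRight tJ_O_L0 (Nat.mul (nat_lit 18) i)) (nat_lit 262143)
noncomputable def tJ_s0_2 (j : Nat) : Nat := @Bool.rec (fun _ => Nat) tJ_P0 tJ_P1 (Nat.ble (nat_lit 1) j)
noncomputable def tJ (i : Nat) : Nat := Nat.land (Nat.shiftRight (tJ_s0_2 (Nat.div i (nat_lit 2048))) (tJ_O i)) (nat_lit 102293456496754433437912178025862473506770063938845774671352855253004181137646079840102190385184504910965208878986252219038039267058918532916516487167)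

noncomputable def rels : List (List Nat) := [[0, 0, 0], [2, 2, 2], [4, 4, 4], [1, 2, 1, 2, 0, 3, 0, 3, 1, 0, 0, 2, 1, 2, 1, 3, 0, 3, 0, 3], [1, 3, 1, 3, 0, 2, 0, 2, 1, 0, 0, 3, 1, 3, 1, 2, 0, 2, 0, 2], [2, 0, 3, 0, 2, 0, 3, 0, 2, 0, 3, 1, 2, 1, 3, 1, 2, 1, 3, 1], [1, 2, 5, 2, 4, 2, 0, 2, 1, 3, 5, 3, 4, 3, 0, 2], [2, 0, 3, 1, 3, 1, 4, 2, 5, 0, 2, 0, 2, 1, 3, 5], [3, 0, 2, 1, 2, 1, 4, 2, 5, 0, 3, 0, 3, 1, 2, 4], [1, 4, 2, 0, 2, 1, 3, 4, 2, 0, 3, 1, 3, 5, 0, 3], [6]]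
noncomputable def subs : List (List Nat) := [[0], [2]]
noncomputable def rels2 : List (List (List Nat)) := [[[0, 0, 0], [2, 2, 2], [4, 4, 4], [1, 2, 1, 2, 0, 3, 0, 3, 1, 0, 0, 2, 1, 2, 1, 3, 0, 3, 0, 3], [1, 3, 1, 3, 0, 2, 0, 2, 1, 0, 0, 3, 1, 3, 1, 2, 0, 2, 0, 2], [2, 0, 3, 0, 2, 0, 3, 0, 2, 0, 3, 1, 2, 1, 3, 1, 2, 1, 3, 1], [1, 2, 5, 2, 4, 2, 0, 2, 1, 3, 5, 3, 4, 3, 0, 2], [2, 0, 3, 1, 3, 1, 4, 2, 5, 0, 2, 0, 2, 1, 3, 5]], [[3, 0, 2, 1, 2, 1, 4, 2, 5, 0, 3, 0, 3, 1, 2, 4], [1, 4, 2, 0, 2, 1, 3, 4, 2, 0, 3, 1, 3, 5, 0, 3], [6]]]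
noncomputable def cert : Cert := ⟨4, 240, 2412, tF, tJ, tD, rels, subs, tT, tPP, tNO, tTAB, rels2, tORB, tORK, tOPAR, tROOT⟩

end Cfsg.Agent.Lib.Helper28.Mo3bData
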