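import Cfsg.Agent.Lib.Helper28.Mo3cData
import Cfsg.Agent.Lib.Helper28.TCFast

set_option autoImplicit false
set_option maxRecDepth 1000000
set_option linter.all false
set_option Elab.async false

namespace Cfsg.Agent.Lib.Helper28.Mo3cData

open Cfsg.Agent.Lib.Helper28

theorem chkP_0 : allRangeF (checkPointF cert) (nat_lit 0) (nat_lit 100) = true := by decide +kernel
theorem chkP_100 : allRangeF (checkPointF cert) (nat_lit 100) (nat_lit 100) = true := by decide +kernel
theorem chkP_200 : allRangeF (checkPointF cert) (nat_lit 200) (nat_lit 100) = true := by decide +kernel
theorem chkP_300 : allRangeF (checkPointF cert) (nat_lit 300) (nat_lit 100) = true := by decide +kernel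
theorem chkP_400 : allRangeF (checkPointF cert) (nat_lit 400) (nat_lit 100) = true := by decide +kernel
theorem chkP_500 : allRangeF (checkPointF cert) (nat_lit 500) (nat_lit 100) = true := by decide +kernel
theorem chkP_600 : allRangeF (checkPointF cert) (nat_lit 600) (nat_lit 100) = true := by decide +kernel
theorem chkP_700 : allRangeF (checkPointF cert) (nat_lit 700) (nat_lit 100) = true := by decide +kernel
theorem chkP_800 : allRangeF (checkPointF cert) (nat_lit 800) (nat_lit 100) = true := by decide +kernel
theorem chkP_900 : allRangeF (checkPointF cert) (nat_lit 900) (nat_lit 100) = true := by decide +kernel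
theorem chkP_1000 : allRangeF (checkPointF cert) (nat_lit 1000) (nat_lit 100) = true := by decide +kernel
theorem chkP_1100 : allRangeF (checkPointF cert) (nat_lit 1100) (nat_lit 100) = true := by decide +kernel
theorem chkP_1200 : allRangeF (checkPointF cert) (nat_lit 1200) (nat_lit 100) = true := by decide +kernel
theorem chkP_1300 : allRangeF (checkPointF cert) (nat_lit 1300) (nat_lit 100) = true := by decide +kernel
theorem chkP_1400 : allRangeF (checkPointF cert) (nat_lit 1400) (nat_lit 100) = true := by decide +kernel
theorem chkP_1500 : allRangeF (checkPointF cert) (nat_lit 1500) (nat_lit 100) = true := by decide +kernel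
theorem chkP_1600 : allRangeF (checkPointF cert) (nat_lit 1600) (nat_lit 100) = true := by decide +kernel
theorem chkP_1700 : allRangeF (checkPointF cert) (nat_lit 1700) (nat_lit 100) = true := by decide +kernel
theorem chkP_1800 : allRangeF (checkPointF cert) (nat_lit 1800) (nat_lit 100) = true := by decide +kernel
theorem chkP_1900 : allRangeF (checkPointF cert) (nat_lit 1900) (nat_lit 100) = true := by decide +kernel
theorem chkP_2000 : allRangeF (checkPointF cert) (nat_lit 2000) (nat_lit 100) = true := by decide +kernel

theorem ptsRange_0 : ∀ i, 0 ≤ i → i < 2100 → checkPoint cert i = true := by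
  intro i hlo hhi
  rcases Nat.lt_or_ge i 1000 with h1 | h1
  · skip
    rcases Nat.lt_or_ge i 500 with h2 | h2
    · skip
      rcases Nat.lt_or_ge i 200 with h3 | h3
      · skip
        rcases Nat.lt_or_ge i 100 with h4 | h4
        · skip
          exact allRangeF_sound _ _ (checkPointF_eq cert) 0 100 chkP_0 i (by omega) (by omega)
        · skip
          exact allRangeF_sound _ _ (checkPointF_eq cert) 100 100 chkP_100 i (by omega) (by omega)
      · skip
        rcases Nat.lt_or_ge i 300 with h4 | h4
        · skip
          exact allRangeF_sound _ _ (checkPointF_eq cert) 200 100 chkP_200 i (by omega) (by omega)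
        · skip
          rcases Nat.lt_or_ge i 400 with h5 | h5
          · skip
            exact allRangeF_sound _ _ (checkPointF_eq cert) 300 100 chkP_300 i (by omega) (by omega)
          · skip
            exact allRangeF_sound _ _ (checkPointF_eq cert) 400 100 chkP_400 i (by omega) (by omega)
    · skip
      rcases Nat.lt_or_ge i 700 with h3 | h3
      · skip
        rcases Nat.lt_or_ge i 600 with h4 | h4
        · skip
          exact allRangeF_sound _ _ (checkPointF_eq cert) 500 100 chkP_500 i (by omega) (by omega)
        · skip
          exact allRangeF_sound _ _ (checkPointF_eq cert) 600 100 chkP_600 i (by omega) (by omega)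
      · skip
        rcases Nat.lt_or_ge i 800 with h4 | h4
        · skip
          exact allRangeF_sound _ _ (checkPointF_eq cert) 700 100 chkP_700 i (by omega) (by omega)
        · skip
          rcases Nat.lt_or_ge i 900 with h5 | h5
          · skip
            exact allRangeF_sound _ _ (checkPointF_eq cert) 800 100 chkP_800 i (by omega) (by omega)
          · skip
            exact allRangeF_sound _ _ (checkPointF_eq cert) 900 100 chkP_900 i (by omega) (by omega)
  · skip
    rcases Nat.lt_or_ge i 1500 with h2 | h2
    · skip
      rcases Nat.lt_or_ge i 1200 with h3 | h3
      · skip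
        rcases Nat.lt_or_ge i 1100 with h4 | h4
        · skip
          exact allRangeF_sound _ _ (checkPointF_eq cert) 1000 100 chkP_1000 i (by omega) (by omega)
        · skip
          exact allRangeF_sound _ _ (checkPointF_eq cert) 1100 100 chkP_1100 i (by omega) (by omega)
      · skip
        rcases Nat.lt_or_ge i 1300 with h4 | h4
        · skip
          exact allRangeF_sound _ _ (checkPointF_eq cert) 1200 100 chkP_1200 i (by omega) (by omega)
        · skip
          rcases Nat.lt_or_ge i 1400 with h5 | h5
          · skip
            exact allRangeF_sound _ _ (checkPointF_eq cert) 1300 100 chkP_1300 i (by omega) (by omega)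
          · skip
            exact allRangeF_sound _ _ (checkPointF_eq cert) 1400 100 chkP_1400 i (by omega) (by omega)
    · skip
      rcases Nat.lt_or_ge i 1800 with h3 | h3
      · skip
        rcases Nat.lt_or_ge i 1600 with h4 | h4
        · skip
          exact allRangeF_sound _ _ (checkPointF_eq cert) 1500 100 chkP_1500 i (by omega) (by omega)
        · skip
          rcases Nat.lt_or_ge i 1700 with h5 | h5
          · skip
            exact allRangeF_sound _ _ (checkPointF_eq cert) 1600 100 chkP_1600 i (by omega) (by omega)
          · skip
            exact allRangeF_sound _ _ (checkPointF_eq cert) 1700 100 chkP_1700 i (by omega) (by omega)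
      · skip
        rcases Nat.lt_or_ge i 1900 with h4 | h4
        · skip
          exact allRangeF_sound _ _ (checkPointF_eq cert) 1800 100 chkP_1800 i (by omega) (by omega)
        · skip
          rcases Nat.lt_or_ge i 2000 with h5 | h5
          · skip
            exact allRangeF_sound _ _ (checkPointF_eq cert) 1900 100 chkP_1900 i (by omega) (by omega)
          · skip
            exact allRangeF_sound _ _ (checkPointF_eq cert) 2000 100 chkP_2000 i (by omega) (by omega)

end Cfsg.Agent.Lib.Helper28.Mo3cData
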