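import Cfsg.Agent.Lib.Helper28.TCDefs
import Cfsg.Agent.Lib.Helper28.Mo3cDataP0

set_option autoImplicit false
set_option maxRecDepth 100000
set_option linter.all false

namespace Cfsg.Agent.Lib.Helper28.Mo3cData

open Cfsg.Agent.Lib.Helper28

noncomputable def tF_s0_3 (j : Nat) : Nat := @Bool.rec (fun _ => Nat) tF_L0 (@Bool.rec (fun _ => Nat) tF_L1 tF_L2 (Nat.ble (nat_lit 2) j)) (Nat.ble (nat_lit 1) j)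
noncomputable def tF (i : Nat) : Nat := Nat.land (Nat.shiftRight (tF_s0_3 (Nat.div i (nat_lit 18181))) (Nat.mul (nat_lit 44) (Nat.mod i (nat_lit 18181)))) (nat_lit 17592186044415)
noncomputable def tD (i : Nat) : Nat := Nat.land (Nat.shiftRight tD_L0 (Nat.mul (nat_lit 23) i)) (nat_lit 8388607)
noncomputable def tT (i : Nat) : Nat := Nat.land (Nat.shiftRight tT_L0 (Nat.mul (nat_lit 13) i)) (nat_lit 8191)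
noncomputable def tPP (i : Nat) : Nat := Nat.land (Nat.shiftRight tPP_L0 (Nat.mul (nat_lit 15) i)) (nat_lit 32767)
noncomputable def tNO (i : Nat) : Nat := Nat.land (Nat.shiftRight tNO_L0 (Nat.mul (nat_lit 14) i)) (nat_lit 16383)
noncomputable def tTAB (i : Nat) : Nat := Nat.land (Nat.shiftRight tTAB_L0 (Nat.mul (nat_lit 16) i)) (nat_lit 65535)
noncomputable def tORB (i : Nat) : Nat := Nat.land (Nat.shiftRight tORB_L0 (Nat.mul (nat_lit 3) i)) (nat_lit 7)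
noncomputable def tORK (i : Nat) : Nat := Nat.land (Nat.shiftRight tORK_L0 (Nat.mul (nat_lit 4) i)) (nat_lit 15)
noncomputable def tOPAR (i : Nat) : Nat := Nat.land (Nat.shiftRight tOPAR_L0 (Nat.mul (nat_lit 23) i)) (nat_lit 8388607)
noncomputable def tROOT (i : Nat) : Nat := Nat.land (Nat.shiftRight tROOT_L0 (Nat.mul (nat_lit 10) i)) (nat_lit 1023)
noncomputable def tJ_O (i : Nat) : Nat := Nat.land (Nat.shiftRight tJ_O_L0 (Nat.mul (nat_lit 20) i)) (nat_lit 1048575)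
noncomputable def tJ_s0_2 (j : Nat) : Nat := @Bool.rec (fun _ => Nat) tJ_P0 tJ_P1 (Nat.ble (nat_lit 1) j)
noncomputable def tJ_s2_5 (j : Nat) : Nat := @Bool.rec (fun _ => Nat) tJ_P2 (@Bool.rec (fun _ => Nat) tJ_P3 tJ_P4 (Nat.ble (nat_lit 4) j)) (Nat.ble (nat_lit 3) j)
noncomputable def tJ_s5_7 (j : Nat) : Nat := @Bool.rec (fun _ => Nat) tJ_P5 tJ_P6 (Nat.ble (nat_lit 6) j)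
noncomputable def tJ_s7_10 (j : Nat) : Nat := @Bool.rec (fun _ => Nat) tJ_P7 (@Bool.rec (fun _ => Nat) tJ_P8 tJ_P9 (Nat.ble (nat_lit 9) j)) (Nat.ble (nat_lit 8) j)
noncomputable def tJ_s10_12 (j : Nat) : Nat := @Bool.rec (fun _ => Nat) tJ_P10 tJ_P11 (Nat.ble (nat_lit 11) j)
noncomputable def tJ_s12_15 (j : Nat) : Nat := @Bool.rec (fun _ => Nat) tJ_P12 (@Bool.rec (fun _ => Nat) tJ_P13 tJ_P14 (Nat.ble (nat_lit 14) j)) (Nat.ble (nat_lit 13) j)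
noncomputable def tJ_s15_17 (j : Nat) : Nat := @Bool.rec (fun _ => Nat) tJ_P15 tJ_P16 (Nat.ble (nat_lit 16) j)
noncomputable def tJ_s17_20 (j : Nat) : Nat := @Bool.rec (fun _ => Nat) tJ_P17 (@Bool.rec (fun _ => Nat) tJ_P18 tJ_P19 (Nat.ble (nat_lit 19) j)) (Nat.ble (nat_lit 18) j)
noncomputable def tJ_s0_20 (j : Nat) : Nat := @Bool.rec (fun _ => Nat) (@Bool.rec (fun _ => Nat) (@Bool.rec (fun _ => Nat) (tJ_s0_2 j) (tJ_s2_5 j) (Nat.ble (nat_lit 2) j)) (@Bool.rec (fun _ => Nat) (tJ_s5_7 j) (tJ_s7_10 j) (Nat.ble (nat_lit 7) j)) (Nat.ble (nat_lit 5) j)) (@Bool.rec (fun _ => Nat) (@Bool.rec (fun _ => Nat) (tJ_s10_12 j) (tJ_s12_15 j) (Nat.ble (nat_lit 12) j)) (@Bool.rec (fun _ => Nat) (tJ_s15_17 j) (tJ_s17_20 j) (Nat.ble (nat_lit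 17) j)) (Nat.ble (nat_lit 15) j)) (Nat.ble (nat_lit 10) j)
noncomputable def tJ (i : Nat) : Nat := Nat.land (Nat.shiftRight (tJ_s0_20 (Nat.div i (nat_lit 2048))) (tJ_O i)) (nat_lit 102293456496754433437912178025862473506770063938845774671352855253004181137646079840102190385184504910965208878986252219038039267058918532916516487167)

noncomputable def rels : List (List Nat) := [[0, 0, 0], [2, 2, 2], [4, 4, 4], [6, 6, 6], [1, 2, 1, 2, 0, 3, 0, 3, 1, 0, 0, 2, 1, 2, 1, 3, 0, 3, 0, 3], [1, 3, 1, 3, 0, 2, 0, 2, 1, 0, 0, 3, 1, 3, 1, 2, 0, 2, 0, 2], [2, 0, 3, 0, 2, 0, 3, 0, 2, 0, 3, 1, 2, 1, 3, 1, 2, 1, 3, 1], [1, 2, 5, 2, 4, 2, 0, 2, 1, 3, 5, 3, 4, 3, 0, 2], [2, 0, 3, 1, 3, 1, 4, 2, 5, 0, 2, 0, 2, 1, 3, 5], [3, 0, 2, 1, 2,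 1, 4, 2, 5, 0, 3, 0, 3, 1, 2, 4], [1, 4, 2, 0, 2, 1, 3, 4, 2, 0, 3, 1, 3, 5, 0, 3], [3, 4, 3, 5, 3, 6, 2, 4, 2, 5, 2, 6], [4, 1, 4, 0, 0, 6, 1, 1, 5, 0, 5, 7], [6, 4, 4, 0, 7, 0, 6, 1, 5, 5, 7, 0], [5, 0, 3, 3, 3, 1, 7, 4, 6, 0, 2, 2, 2, 1, 4, 7], [3, 5, 3, 3, 3, 4, 2, 6, 3, 5, 2, 2, 2, 4, 2, 7], [2, 5, 3, 3, 3, 4, 3, 6, 2, 5, 2, 2, 2, 4, 3, 7], [3, 7, 3, 3, 3, 6, 2, 6, 3, 7, 2, 2, 2, 6, 2, 7], [7, 0, 3, 3, 3, 7, 4, 2, 5, 6, 2, 2, 2, 1, 6, 2], [4, 0, 3, 3, 3, 7, 5, 0, 4, 6, 2, 2, 2, 1, 5, 6], [4, 3, 5, 3, 4, 3, 5, 6, 4, 2, 5, 2, 4, 2, 5, 6], [1, 7, 5, 3, 4, 6, 0, 2, 1, 7, 5, 2, 4, 6, 0, 3], [2, 4, 3, 3, 5, 3, 3, 6, 2, 2, 4, 2, 2, 5, 3, 6], [3, 7, 4, 3, 5, 6, 3, 6, 2, 7, 4, 2, 5, 6, 2, 6], [3, 6, 3, 3, 6, 2, 4, 2, 5,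 3, 7, 2, 2, 7, 2, 6], [1, 5, 7, 3, 6, 4, 0, 2, 1, 5, 7, 2, 6, 4, 0, 3], [2, 1, 6, 3, 7, 0, 2, 6, 3, 1, 6, 2, 7, 0, 3, 6], [3, 7, 4, 3, 7, 4, 3, 6, 2, 5, 6, 2, 5, 6, 2, 6], [6, 4, 1, 4, 0, 0, 7, 0, 6, 1, 1, 5, 0, 5, 7, 1], [6, 5, 1, 4, 1, 5, 7, 2, 6, 4, 0, 5, 0, 4, 7, 3], [5, 2, 6, 4, 2, 6, 4, 2, 5, 7, 3, 5, 7, 3, 4, 6], [4, 3, 7, 4, 7, 3, 4, 2, 5, 2, 6, 5, 6, 2, 5, 3], [1, 5, 7, 4, 7, 5, 0, 2, 1, 4, 6, 5, 6, 4, 0, 3], [3, 7, 5, 5, 5, 6, 2, 4, 3, 7, 4, 4, 4, 6, 2, 5], [0, 6, 1, 5, 5, 7, 1, 6, 0, 6, 4, 4, 0, 7, 1, 6], [3, 6, 5, 5, 5, 7, 2, 4, 3, 6, 4, 4, 4, 7, 2, 5], [2, 7, 0, 5, 6, 2, 4, 0, 5, 3, 7, 4, 1, 6, 3, 4], [5, 2, 6, 5, 6, 2, 5, 2, 4, 3, 7, 4, 7, 3, 4, 3], [3, 7, 0, 5, 6, 3, 1, 4, 0, 2, 7, 4, 1, 6, 2, 4], [3,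 7, 0, 5, 6, 3, 1, 6, 0, 2, 7, 4, 1, 6, 2, 6], [5, 3, 6, 5, 6, 3, 5, 2, 4, 2, 7, 4, 7, 2, 4, 3], [5, 0, 6, 5, 6, 4, 0, 2, 1, 5, 7, 4, 7, 1, 4, 3], [3, 4, 6, 5, 6, 4, 2, 4, 3, 5, 7, 4, 7, 5, 2, 5], [3, 4, 6, 5, 6, 4, 2, 6, 3, 5, 7, 4, 7, 5, 2, 7], [5, 7, 5, 5, 6, 4, 7, 2, 6, 5, 7, 4, 4, 6, 4, 3], [1, 5, 1, 5, 6, 6, 0, 4, 1, 7, 7, 4, 0, 4, 0, 6], [5, 7, 5, 5, 6, 6, 5, 2, 4, 7, 7, 4, 4, 6, 4, 3], [1, 5, 1, 5, 7, 1, 1, 4, 0, 0, 6, 4, 0, 4, 0, 6], [6, 4, 1, 5, 7, 1, 7, 4, 6, 0, 6, 4, 0, 5, 7, 0], [1, 2, 7, 5, 7, 2, 0, 6, 1, 3, 6, 4, 6, 3, 0, 6], [1, 3, 7, 5, 7, 3, 0, 6, 1, 2, 6, 4, 6, 2, 0, 6], [0, 7, 5, 5, 7, 4, 1, 2, 0, 5, 6, 4, 4, 6, 1, 3], [1, 5, 1, 5, 7, 4, 1, 4, 0, 5, 6, 4, 0, 4, 0, 6], [2, 6, 3, 6, 2, 2, 4, 2, 5,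 3, 3, 7, 2, 7, 3, 7], [3, 6, 5, 6, 2, 4, 3, 4, 2, 5, 3, 7, 4, 7, 2, 5], [7, 0, 2, 6, 2, 6, 3, 6, 2, 7, 3, 7, 3, 1, 6, 3]]
noncomputable def subs : List (List Nat) := [[0], [2], [4]]
noncomputable def rels2 : List (List (List Nat)) := [[[0, 0, 0], [2, 2, 2], [4, 4, 4], [6, 6, 6], [1, 2, 1, 2, 0, 3, 0, 3, 1, 0, 0, 2, 1, 2, 1, 3, 0, 3, 0, 3], [1, 3, 1, 3, 0, 2, 0, 2, 1, 0, 0, 3, 1, 3, 1, 2, 0, 2, 0, 2], [2, 0, 3, 0, 2, 0, 3, 0, 2, 0, 3, 1, 2, 1, 3, 1, 2, 1, 3, 1], [1, 2, 5, 2, 4, 2, 0, 2, 1, 3, 5, 3, 4, 3, 0, 2]], [[2, 0, 3, 1, 3, 1, 4, 2, 5, 0, 2, 0, 2, 1, 3, 5], [3, 0, 2, 1, 2, 1, 4, 2, 5, 0, 3, 0, 3, 1, 2, 4], [1, 4, 2, 0, 2, 1, 3, 4, 2, 0, 3, 1, 3, 5, 0, 3], [3, 4, 3, 5, 3, 6, 2, 4, 2, 5, 2, 6], [4, 1, 4, 0, 0, 6,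 1, 1, 5, 0, 5, 7], [6, 4, 4, 0, 7, 0, 6, 1, 5, 5, 7, 0], [5, 0, 3, 3, 3, 1, 7, 4, 6, 0, 2, 2, 2, 1, 4, 7], [3, 5, 3, 3, 3, 4, 2, 6, 3, 5, 2, 2, 2, 4, 2, 7]], [[2, 5, 3, 3, 3, 4, 3, 6, 2, 5, 2, 2, 2, 4, 3, 7], [3, 7, 3, 3, 3, 6, 2, 6, 3, 7, 2, 2, 2, 6, 2, 7], [7, 0, 3, 3, 3, 7, 4, 2, 5, 6, 2, 2, 2, 1, 6, 2], [4, 0, 3, 3, 3, 7, 5, 0, 4, 6, 2, 2, 2, 1, 5, 6], [4, 3, 5, 3, 4, 3, 5, 6, 4, 2, 5, 2, 4, 2, 5, 6], [1, 7, 5, 3, 4, 6, 0, 2, 1, 7, 5, 2, 4, 6, 0, 3], [2, 4, 3, 3, 5, 3, 3, 6, 2, 2, 4, 2, 2, 5, 3, 6], [3, 7, 4, 3, 5, 6, 3, 6, 2, 7, 4, 2, 5, 6, 2, 6]], [[3, 6, 3, 3, 6, 2, 4, 2, 5, 3, 7, 2, 2, 7, 2, 6], [1, 5, 7, 3, 6, 4, 0, 2, 1, 5, 7, 2, 6, 4, 0, 3], [2, 1, 6, 3, 7, 0, 2, 6, 3, 1, 6, 2, 7, 0, 3, 6], [3, 7, 4, 3,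 7, 4, 3, 6, 2, 5, 6, 2, 5, 6, 2, 6], [6, 4, 1, 4, 0, 0, 7, 0, 6, 1, 1, 5, 0, 5, 7, 1], [6, 5, 1, 4, 1, 5, 7, 2, 6, 4, 0, 5, 0, 4, 7, 3], [5, 2, 6, 4, 2, 6, 4, 2, 5, 7, 3, 5, 7, 3, 4, 6], [4, 3, 7, 4, 7, 3, 4, 2, 5, 2, 6, 5, 6, 2, 5, 3]], [[1, 5, 7, 4, 7, 5, 0, 2, 1, 4, 6, 5, 6, 4, 0, 3], [3, 7, 5, 5, 5, 6, 2, 4, 3, 7, 4, 4, 4, 6, 2, 5], [0, 6, 1, 5, 5, 7, 1, 6, 0, 6, 4, 4, 0, 7, 1, 6], [3, 6, 5, 5, 5, 7, 2, 4, 3, 6, 4, 4, 4, 7, 2, 5], [2, 7, 0, 5, 6, 2, 4, 0, 5, 3, 7, 4, 1, 6, 3, 4], [5, 2, 6, 5, 6, 2, 5, 2, 4, 3, 7, 4, 7, 3, 4, 3], [3, 7, 0, 5, 6, 3, 1, 4, 0, 2, 7, 4, 1, 6, 2, 4], [3, 7, 0, 5, 6, 3, 1, 6, 0, 2, 7, 4, 1, 6, 2, 6]], [[5, 3, 6, 5, 6, 3, 5, 2, 4, 2, 7, 4, 7, 2, 4, 3], [5, 0, 6, 5, 6, 4, 0, 2, 1, 5, 7,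 4, 7, 1, 4, 3], [3, 4, 6, 5, 6, 4, 2, 4, 3, 5, 7, 4, 7, 5, 2, 5], [3, 4, 6, 5, 6, 4, 2, 6, 3, 5, 7, 4, 7, 5, 2, 7], [5, 7, 5, 5, 6, 4, 7, 2, 6, 5, 7, 4, 4, 6, 4, 3], [1, 5, 1, 5, 6, 6, 0, 4, 1, 7, 7, 4, 0, 4, 0, 6], [5, 7, 5, 5, 6, 6, 5, 2, 4, 7, 7, 4, 4, 6, 4, 3], [1, 5, 1, 5, 7, 1, 1, 4, 0, 0, 6, 4, 0, 4, 0, 6]], [[6, 4, 1, 5, 7, 1, 7, 4, 6, 0, 6, 4, 0, 5, 7, 0], [1, 2, 7, 5, 7, 2, 0, 6, 1, 3, 6, 4, 6, 3, 0, 6], [1, 3, 7, 5, 7, 3, 0, 6, 1, 2, 6, 4, 6, 2, 0, 6], [0, 7, 5, 5, 7, 4, 1, 2, 0, 5, 6, 4, 4, 6, 1, 3], [1, 5, 1, 5, 7, 4, 1, 4, 0, 5, 6, 4, 0, 4, 0, 6], [2, 6, 3, 6, 2, 2, 4, 2, 5, 3, 3, 7, 2, 7, 3, 7], [3, 6, 5, 6, 2, 4, 3, 4, 2, 5, 3, 7, 4, 7, 2, 5], [7, 0, 2, 6, 2, 6, 3, 6, 2, 7, 3, 7, 3, 1, 6, 3]]]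
noncomputable def cert : Cert := ⟨4, 4116, 39244, tF, tJ, tD, rels, subs, tT, tPP, tNO, tTAB, rels2, tORB, tORK, tOPAR, tROOT⟩

end Cfsg.Agent.Lib.Helper28.Mo3cData
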