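import Cfsg.Agent.Lib.Helper28.Mo5bData
import Cfsg.Agent.Lib.Helper28.TCFast

set_option autoImplicit false
set_option maxRecDepth 1000000
set_option linter.all false
set_option Elab.async false

namespace Cfsg.Agent.Lib.Helper28.Mo5bData

open Cfsg.Agent.Lib.Helper28

theorem chkP_200 : allRangeF (checkPointF cert) (nat_lit 200) (nat_lit 40) = true := by decide +kernel

theorem ptsRange_1 : ∀ i, 200 ≤ i → i < 240 → checkPoint cert i = true := by
  intro i hlo hhi
  exact allRangeF_sound _ _ (checkPointF_eq cert) 200 40 chkP_200 i (by omega) (by omega)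

end Cfsg.Agent.Lib.Helper28.Mo5bData
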