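import Cfsg.Agent.Lib.Helper28.Mo5cData
import Cfsg.Agent.Lib.Helper28.TCFastF

set_option autoImplicit false
set_option maxRecDepth 1000000
set_option linter.all false
set_option Elab.async false

namespace Cfsg.Agent.Lib.Helper28.Mo5cData

open Cfsg.Agent.Lib.Helper28

theorem chkF_174000 : allRangeF (checkFactF cert) (nat_lit 174000) (nat_lit 1000) = true := by decide +kernel
theorem chkF_175000 : allRangeF (checkFactF cert) (nat_lit 175000) (nat_lit 1000) = true := by decide +kernel
theorem chkF_176000 : allRangeF (checkFactF cert) (nat_lit 176000) (nat_lit 1000) = true := by decide +kernel
theorem chkF_177000 : allRangeF (checkFactF cert) (nat_lit 177000) (nat_lit 1000) = true := by decide +kernel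
theorem chkF_178000 : allRangeF (checkFactF cert) (nat_lit 178000) (nat_lit 1000) = true := by decide +kernel
theorem chkF_179000 : allRangeF (checkFactF cert) (nat_lit 179000) (nat_lit 1000) = true := by decide +kernel
theorem chkF_180000 : allRangeF (checkFactF cert) (nat_lit 180000) (nat_lit 1000) = true := by decide +kernel
theorem chkF_181000 : allRangeF (checkFactF cert) (nat_lit 181000) (nat_lit 1000) = true := by decide +kernel
theorem chkF_182000 : allRangeF (checkFactF cert) (nat_lit 182000) (nat_lit 1000) = true := by decide +kernel
theorem chkF_183000 : allRangeF (checkFactF cert) (nat_lit 183000) (nat_lit 1000) = true := by decide +kernel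
theorem chkF_184000 : allRangeF (checkFactF cert) (nat_lit 184000) (nat_lit 1000) = true := by decide +kernel
theorem chkF_185000 : allRangeF (checkFactF cert) (nat_lit 185000) (nat_lit 1000) = true := by decide +kernel
theorem chkF_186000 : allRangeF (checkFactF cert) (nat_lit 186000) (nat_lit 1000) = true := by decide +kernel
theorem chkF_187000 : allRangeF (checkFactF cert) (nat_lit 187000) (nat_lit 1000) = true := by decide +kernel
theorem chkF_188000 : allRangeF (checkFactF cert) (nat_lit 188000) (nat_lit 1000) = true := by decide +kernel
theorem chkF_189000 : allRangeF (checkFactF cert) (nat_lit 189000) (nat_lit 1000) = true := by decide +kernel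
theorem chkF_190000 : allRangeF (checkFactF cert) (nat_lit 190000) (nat_lit 1000) = true := by decide +kernel
theorem chkF_191000 : allRangeF (checkFactF cert) (nat_lit 191000) (nat_lit 1000) = true := by decide +kernel
theorem chkF_192000 : allRangeF (checkFactF cert) (nat_lit 192000) (nat_lit 1000) = true := by decide +kernel
theorem chkF_193000 : allRangeF (checkFactF cert) (nat_lit 193000) (nat_lit 1000) = true := by decide +kernel
theorem chkF_194000 : allRangeF (checkFactF cert) (nat_lit 194000) (nat_lit 1000) = true := by decide +kernel
theorem chkF_195000 : allRangeF (checkFactF cert) (nat_lit 195000) (nat_lit 1000) = true := by decide +kernel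
theorem chkF_196000 : allRangeF (checkFactF cert) (nat_lit 196000) (nat_lit 1000) = true := by decide +kernel
theorem chkF_197000 : allRangeF (checkFactF cert) (nat_lit 197000) (nat_lit 1000) = true := by decide +kernel
theorem chkF_198000 : allRangeF (checkFactF cert) (nat_lit 198000) (nat_lit 1000) = true := by decide +kernel
theorem chkF_199000 : allRangeF (checkFactF cert) (nat_lit 199000) (nat_lit 1000) = true := by decide +kernel
theorem chkF_200000 : allRangeF (checkFactF cert) (nat_lit 200000) (nat_lit 1000) = true := by decide +kernel
theorem chkF_201000 : allRangeF (checkFactF cert) (nat_lit 201000) (nat_lit 1000) = true := by decide +kernel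
theorem chkF_202000 : allRangeF (checkFactF cert) (nat_lit 202000) (nat_lit 1000) = true := by decide +kernel
theorem chkF_203000 : allRangeF (checkFactF cert) (nat_lit 203000) (nat_lit 1000) = true := by decide +kernel
theorem chkF_204000 : allRangeF (checkFactF cert) (nat_lit 204000) (nat_lit 1000) = true := by decide +kernel
theorem chkF_205000 : allRangeF (checkFactF cert) (nat_lit 205000) (nat_lit 1000) = true := by decide +kernel
theorem chkF_206000 : allRangeF (checkFactF cert) (nat_lit 206000) (nat_lit 1000) = true := by decide +kernel
theorem chkF_207000 : allRangeF (checkFactF cert) (nat_lit 207000) (nat_lit 1000) = true := by decide +kernel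
theorem chkF_208000 : allRangeF (checkFactF cert) (nat_lit 208000) (nat_lit 1000) = true := by decide +kernel
theorem chkF_209000 : allRangeF (checkFactF cert) (nat_lit 209000) (nat_lit 1000) = true := by decide +kernel
theorem chkF_210000 : allRangeF (checkFactF cert) (nat_lit 210000) (nat_lit 1000) = true := by decide +kernel
theorem chkF_211000 : allRangeF (checkFactF cert) (nat_lit 211000) (nat_lit 1000) = true := by decide +kernel
theorem chkF_212000 : allRangeF (checkFactF cert) (nat_lit 212000) (nat_lit 1000) = true := by decide +kernel
theorem chkF_213000 : allRangeF (checkFactF cert) (nat_lit 213000) (nat_lit 1000) = true := by decide +kernel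
theorem chkF_214000 : allRangeF (checkFactF cert) (nat_lit 214000) (nat_lit 1000) = true := by decide +kernel
theorem chkF_215000 : allRangeF (checkFactF cert) (nat_lit 215000) (nat_lit 1000) = true := by decide +kernel
theorem chkF_216000 : allRangeF (checkFactF cert) (nat_lit 216000) (nat_lit 1000) = true := by decide +kernel
theorem chkF_217000 : allRangeF (checkFactF cert) (nat_lit 217000) (nat_lit 1000) = true := by decide +kernel
theorem chkF_218000 : allRangeF (checkFactF cert) (nat_lit 218000) (nat_lit 1000) = true := by decide +kernel
theorem chkF_219000 : allRangeF (checkFactF cert) (nat_lit 219000) (nat_lit 1000) = true := by decide +kernel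
theorem chkF_220000 : allRangeF (checkFactF cert) (nat_lit 220000) (nat_lit 1000) = true := by decide +kernel
theorem chkF_221000 : allRangeF (checkFactF cert) (nat_lit 221000) (nat_lit 1000) = true := by decide +kernel
theorem chkF_222000 : allRangeF (checkFactF cert) (nat_lit 222000) (nat_lit 1000) = true := by decide +kernel
theorem chkF_223000 : allRangeF (checkFactF cert) (nat_lit 223000) (nat_lit 1000) = true := by decide +kernel
theorem chkF_224000 : allRangeF (checkFactF cert) (nat_lit 224000) (nat_lit 1000) = true := by decide +kernel
theorem chkF_225000 : allRangeF (checkFactF cert) (nat_lit 225000) (nat_lit 1000) = true := by decide +kernel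
theorem chkF_226000 : allRangeF (checkFactF cert) (nat_lit 226000) (nat_lit 1000) = true := by decide +kernel
theorem chkF_227000 : allRangeF (checkFactF cert) (nat_lit 227000) (nat_lit 1000) = true := by decide +kernel
theorem chkF_228000 : allRangeF (checkFactF cert) (nat_lit 228000) (nat_lit 1000) = true := by decide +kernel
theorem chkF_229000 : allRangeF (checkFactF cert) (nat_lit 229000) (nat_lit 1000) = true := by decide +kernel
theorem chkF_230000 : allRangeF (checkFactF cert) (nat_lit 230000) (nat_lit 1000) = true := by decide +kernel
theorem chkF_231000 : allRangeF (checkFactF cert) (nat_lit 231000) (nat_lit 1000) = true := by decide +kernel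
theorem chkF_232000 : allRangeF (checkFactF cert) (nat_lit 232000) (nat_lit 1000) = true := by decide +kernel
theorem chkF_233000 : allRangeF (checkFactF cert) (nat_lit 233000) (nat_lit 1000) = true := by decide +kernel
theorem chkF_234000 : allRangeF (checkFactF cert) (nat_lit 234000) (nat_lit 1000) = true := by decide +kernel
theorem chkF_235000 : allRangeF (checkFactF cert) (nat_lit 235000) (nat_lit 1000) = true := by decide +kernel
theorem chkF_236000 : allRangeF (checkFactF cert) (nat_lit 236000) (nat_lit 1000) = true := by decide +kernel
theorem chkF_237000 : allRangeF (checkFactF cert) (nat_lit 237000) (nat_lit 1000) = true := by decide +kernel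
theorem chkF_238000 : allRangeF (checkFactF cert) (nat_lit 238000) (nat_lit 1000) = true := by decide +kernel
theorem chkF_239000 : allRangeF (checkFactF cert) (nat_lit 239000) (nat_lit 1000) = true := by decide +kernel
theorem chkF_240000 : allRangeF (checkFactF cert) (nat_lit 240000) (nat_lit 1000) = true := by decide +kernel
theorem chkF_241000 : allRangeF (checkFactF cert) (nat_lit 241000) (nat_lit 1000) = true := by decide +kernel
theorem chkF_242000 : allRangeF (checkFactF cert) (nat_lit 242000) (nat_lit 1000) = true := by decide +kernel
theorem chkF_243000 : allRangeF (checkFactF cert) (nat_lit 243000) (nat_lit 1000) = true := by decide +kernel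
theorem chkF_244000 : allRangeF (checkFactF cert) (nat_lit 244000) (nat_lit 1000) = true := by decide +kernel
theorem chkF_245000 : allRangeF (checkFactF cert) (nat_lit 245000) (nat_lit 1000) = true := by decide +kernel
theorem chkF_246000 : allRangeF (checkFactF cert) (nat_lit 246000) (nat_lit 1000) = true := by decide +kernel
theorem chkF_247000 : allRangeF (checkFactF cert) (nat_lit 247000) (nat_lit 1000) = true := by decide +kernel
theorem chkF_248000 : allRangeF (checkFactF cert) (nat_lit 248000) (nat_lit 1000) = true := by decide +kernel
theorem chkF_249000 : allRangeF (checkFactF cert) (nat_lit 249000) (nat_lit 1000) = true := by decide +kernel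
theorem chkF_250000 : allRangeF (checkFactF cert) (nat_lit 250000) (nat_lit 1000) = true := by decide +kernel
theorem chkF_251000 : allRangeF (checkFactF cert) (nat_lit 251000) (nat_lit 1000) = true := by decide +kernel
theorem chkF_252000 : allRangeF (checkFactF cert) (nat_lit 252000) (nat_lit 1000) = true := by decide +kernel
theorem chkF_253000 : allRangeF (checkFactF cert) (nat_lit 253000) (nat_lit 1000) = true := by decide +kernel
theorem chkF_254000 : allRangeF (checkFactF cert) (nat_lit 254000) (nat_lit 1000) = true := by decide +kernel
theorem chkF_255000 : allRangeF (checkFactF cert) (nat_lit 255000) (nat_lit 1000) = true := by decide +kernel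
theorem chkF_256000 : allRangeF (checkFactF cert) (nat_lit 256000) (nat_lit 1000) = true := by decide +kernel
theorem chkF_257000 : allRangeF (checkFactF cert) (nat_lit 257000) (nat_lit 1000) = true := by decide +kernel
theorem chkF_258000 : allRangeF (checkFactF cert) (nat_lit 258000) (nat_lit 1000) = true := by decide +kernel
theorem chkF_259000 : allRangeF (checkFactF cert) (nat_lit 259000) (nat_lit 1000) = true := by decide +kernel
theorem chkF_260000 : allRangeF (checkFactF cert) (nat_lit 260000) (nat_lit 1000) = true := by decide +kernel

theorem factsRange_2 : ∀ i, 174000 ≤ i → i < 261000 → checkFact cert i = true := by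
  intro i hlo hhi
  rcases Nat.lt_or_ge i 217000 with h1 | h1
  · skip
    rcases Nat.lt_or_ge i 195000 with h2 | h2
    · skip
      rcases Nat.lt_or_ge i 184000 with h3 | h3
      · skip
        rcases Nat.lt_or_ge i 179000 with h4 | h4
        · skip
          rcases Nat.lt_or_ge i 176000 with h5 | h5
          · skip
            rcases Nat.lt_or_ge i 175000 with h6 | h6
            · skip
              exact allRangeF_sound _ _ (checkFactF_eq cert) 174000 1000 chkF_174000 i (by omega) (by omega)
            · skip
              exact allRangeF_sound _ _ (checkFactF_eq cert) 175000 1000 chkF_175000 i (by omega) (by omega)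
          · skip
            rcases Nat.lt_or_ge i 177000 with h6 | h6
            · skip
              exact allRangeF_sound _ _ (checkFactF_eq cert) 176000 1000 chkF_176000 i (by omega) (by omega)
            · skip
              rcases Nat.lt_or_ge i 178000 with h7 | h7
              · skip
                exact allRangeF_sound _ _ (checkFactF_eq cert) 177000 1000 chkF_177000 i (by omega) (by omega)
              · skip
                exact allRangeF_sound _ _ (checkFactF_eq cert) 178000 1000 chkF_178000 i (by omega) (by omega)
        · skip
          rcases Nat.lt_or_ge i 181000 with h5 | h5
          · skip
            rcases Nat.lt_or_ge i 180000 with h6 | h6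
            · skip
              exact allRangeF_sound _ _ (checkFactF_eq cert) 179000 1000 chkF_179000 i (by omega) (by omega)
            · skip
              exact allRangeF_sound _ _ (checkFactF_eq cert) 180000 1000 chkF_180000 i (by omega) (by omega)
          · skip
            rcases Nat.lt_or_ge i 182000 with h6 | h6
            · skip
              exact allRangeF_sound _ _ (checkFactF_eq cert) 181000 1000 chkF_181000 i (by omega) (by omega)
            · skip
              rcases Nat.lt_or_ge i 183000 with h7 | h7
              · skip
                exact allRangeF_sound _ _ (checkFactF_eq cert) 182000 1000 chkF_182000 i (by omega) (by omega)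
              · skip
                exact allRangeF_sound _ _ (checkFactF_eq cert) 183000 1000 chkF_183000 i (by omega) (by omega)
      · skip
        rcases Nat.lt_or_ge i 189000 with h4 | h4
        · skip
          rcases Nat.lt_or_ge i 186000 with h5 | h5
          · skip
            rcases Nat.lt_or_ge i 185000 with h6 | h6
            · skip
              exact allRangeF_sound _ _ (checkFactF_eq cert) 184000 1000 chkF_184000 i (by omega) (by omega)
            · skip
              exact allRangeF_sound _ _ (checkFactF_eq cert) 185000 1000 chkF_185000 i (by omega) (by omega)
          · skip
            rcases Nat.lt_or_ge i 187000 with h6 | h6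
            · skip
              exact allRangeF_sound _ _ (checkFactF_eq cert) 186000 1000 chkF_186000 i (by omega) (by omega)
            · skip
              rcases Nat.lt_or_ge i 188000 with h7 | h7
              · skip
                exact allRangeF_sound _ _ (checkFactF_eq cert) 187000 1000 chkF_187000 i (by omega) (by omega)
              · skip
                exact allRangeF_sound _ _ (checkFactF_eq cert) 188000 1000 chkF_188000 i (by omega) (by omega)
        · skip
          rcases Nat.lt_or_ge i 192000 with h5 | h5
          · skip
            rcases Nat.lt_or_ge i 190000 with h6 | h6
            · skip
              exact allRangeF_sound _ _ (checkFactF_eq cert) 189000 1000 chkF_189000 i (by omega) (by omega)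
            · skip
              rcases Nat.lt_or_ge i 191000 with h7 | h7
              · skip
                exact allRangeF_sound _ _ (checkFactF_eq cert) 190000 1000 chkF_190000 i (by omega) (by omega)
              · skip
                exact allRangeF_sound _ _ (checkFactF_eq cert) 191000 1000 chkF_191000 i (by omega) (by omega)
          · skip
            rcases Nat.lt_or_ge i 193000 with h6 | h6
            · skip
              exact allRangeF_sound _ _ (checkFactF_eq cert) 192000 1000 chkF_192000 i (by omega) (by omega)
            · skip
              rcases Nat.lt_or_ge i 194000 with h7 | h7
              · skip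
                exact allRangeF_sound _ _ (checkFactF_eq cert) 193000 1000 chkF_193000 i (by omega) (by omega)
              · skip
                exact allRangeF_sound _ _ (checkFactF_eq cert) 194000 1000 chkF_194000 i (by omega) (by omega)
    · skip
      rcases Nat.lt_or_ge i 206000 with h3 | h3
      · skip
        rcases Nat.lt_or_ge i 200000 with h4 | h4
        · skip
          rcases Nat.lt_or_ge i 197000 with h5 | h5
          · skip
            rcases Nat.lt_or_ge i 196000 with h6 | h6
            · skip
              exact allRangeF_sound _ _ (checkFactF_eq cert) 195000 1000 chkF_195000 i (by omega) (by omega)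
            · skip
              exact allRangeF_sound _ _ (checkFactF_eq cert) 196000 1000 chkF_196000 i (by omega) (by omega)
          · skip
            rcases Nat.lt_or_ge i 198000 with h6 | h6
            · skip
              exact allRangeF_sound _ _ (checkFactF_eq cert) 197000 1000 chkF_197000 i (by omega) (by omega)
            · skip
              rcases Nat.lt_or_ge i 199000 with h7 | h7
              · skip
                exact allRangeF_sound _ _ (checkFactF_eq cert) 198000 1000 chkF_198000 i (by omega) (by omega)
              · skip
                exact allRangeF_sound _ _ (checkFactF_eq cert) 199000 1000 chkF_199000 i (by omega) (by omega)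
        · skip
          rcases Nat.lt_or_ge i 203000 with h5 | h5
          · skip
            rcases Nat.lt_or_ge i 201000 with h6 | h6
            · skip
              exact allRangeF_sound _ _ (checkFactF_eq cert) 200000 1000 chkF_200000 i (by omega) (by omega)
            · skip
              rcases Nat.lt_or_ge i 202000 with h7 | h7
              · skip
                exact allRangeF_sound _ _ (checkFactF_eq cert) 201000 1000 chkF_201000 i (by omega) (by omega)
              · skip
                exact allRangeF_sound _ _ (checkFactF_eq cert) 202000 1000 chkF_202000 i (by omega) (by omega)
          · skip
            rcases Nat.lt_or_ge i 204000 with h6 | h6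
            · skip
              exact allRangeF_sound _ _ (checkFactF_eq cert) 203000 1000 chkF_203000 i (by omega) (by omega)
            · skip
              rcases Nat.lt_or_ge i 205000 with h7 | h7
              · skip
                exact allRangeF_sound _ _ (checkFactF_eq cert) 204000 1000 chkF_204000 i (by omega) (by omega)
              · skip
                exact allRangeF_sound _ _ (checkFactF_eq cert) 205000 1000 chkF_205000 i (by omega) (by omega)
      · skip
        rcases Nat.lt_or_ge i 211000 with h4 | h4
        · skip
          rcases Nat.lt_or_ge i 208000 with h5 | h5
          · skip
            rcases Nat.lt_or_ge i 207000 with h6 | h6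
            · skip
              exact allRangeF_sound _ _ (checkFactF_eq cert) 206000 1000 chkF_206000 i (by omega) (by omega)
            · skip
              exact allRangeF_sound _ _ (checkFactF_eq cert) 207000 1000 chkF_207000 i (by omega) (by omega)
          · skip
            rcases Nat.lt_or_ge i 209000 with h6 | h6
            · skip
              exact allRangeF_sound _ _ (checkFactF_eq cert) 208000 1000 chkF_208000 i (by omega) (by omega)
            · skip
              rcases Nat.lt_or_ge i 210000 with h7 | h7
              · skip
                exact allRangeF_sound _ _ (checkFactF_eq cert) 209000 1000 chkF_209000 i (by omega) (by omega)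
              · skip
                exact allRangeF_sound _ _ (checkFactF_eq cert) 210000 1000 chkF_210000 i (by omega) (by omega)
        · skip
          rcases Nat.lt_or_ge i 214000 with h5 | h5
          · skip
            rcases Nat.lt_or_ge i 212000 with h6 | h6
            · skip
              exact allRangeF_sound _ _ (checkFactF_eq cert) 211000 1000 chkF_211000 i (by omega) (by omega)
            · skip
              rcases Nat.lt_or_ge i 213000 with h7 | h7
              · skip
                exact allRangeF_sound _ _ (checkFactF_eq cert) 212000 1000 chkF_212000 i (by omega) (by omega)
              · skip
                exact allRangeF_sound _ _ (checkFactF_eq cert) 213000 1000 chkF_213000 i (by omega) (by omega)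
          · skip
            rcases Nat.lt_or_ge i 215000 with h6 | h6
            · skip
              exact allRangeF_sound _ _ (checkFactF_eq cert) 214000 1000 chkF_214000 i (by omega) (by omega)
            · skip
              rcases Nat.lt_or_ge i 216000 with h7 | h7
              · skip
                exact allRangeF_sound _ _ (checkFactF_eq cert) 215000 1000 chkF_215000 i (by omega) (by omega)
              · skip
                exact allRangeF_sound _ _ (checkFactF_eq cert) 216000 1000 chkF_216000 i (by omega) (by omega)
  · skip
    rcases Nat.lt_or_ge i 239000 with h2 | h2
    · skip
      rcases Nat.lt_or_ge i 228000 with h3 | h3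
      · skip
        rcases Nat.lt_or_ge i 222000 with h4 | h4
        · skip
          rcases Nat.lt_or_ge i 219000 with h5 | h5
          · skip
            rcases Nat.lt_or_ge i 218000 with h6 | h6
            · skip
              exact allRangeF_sound _ _ (checkFactF_eq cert) 217000 1000 chkF_217000 i (by omega) (by omega)
            · skip
              exact allRangeF_sound _ _ (checkFactF_eq cert) 218000 1000 chkF_218000 i (by omega) (by omega)
          · skip
            rcases Nat.lt_or_ge i 220000 with h6 | h6
            · skip
              exact allRangeF_sound _ _ (checkFactF_eq cert) 219000 1000 chkF_219000 i (by omega) (by omega)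
            · skip
              rcases Nat.lt_or_ge i 221000 with h7 | h7
              · skip
                exact allRangeF_sound _ _ (checkFactF_eq cert) 220000 1000 chkF_220000 i (by omega) (by omega)
              · skip
                exact allRangeF_sound _ _ (checkFactF_eq cert) 221000 1000 chkF_221000 i (by omega) (by omega)
        · skip
          rcases Nat.lt_or_ge i 225000 with h5 | h5
          · skip
            rcases Nat.lt_or_ge i 223000 with h6 | h6
            · skip
              exact allRangeF_sound _ _ (checkFactF_eq cert) 222000 1000 chkF_222000 i (by omega) (by omega)
            · skip
              rcases Nat.lt_or_ge i 224000 with h7 | h7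
              · skip
                exact allRangeF_sound _ _ (checkFactF_eq cert) 223000 1000 chkF_223000 i (by omega) (by omega)
              · skip
                exact allRangeF_sound _ _ (checkFactF_eq cert) 224000 1000 chkF_224000 i (by omega) (by omega)
          · skip
            rcases Nat.lt_or_ge i 226000 with h6 | h6
            · skip
              exact allRangeF_sound _ _ (checkFactF_eq cert) 225000 1000 chkF_225000 i (by omega) (by omega)
            · skip
              rcases Nat.lt_or_ge i 227000 with h7 | h7
              · skip
                exact allRangeF_sound _ _ (checkFactF_eq cert) 226000 1000 chkF_226000 i (by omega) (by omega)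
              · skip
                exact allRangeF_sound _ _ (checkFactF_eq cert) 227000 1000 chkF_227000 i (by omega) (by omega)
      · skip
        rcases Nat.lt_or_ge i 233000 with h4 | h4
        · skip
          rcases Nat.lt_or_ge i 230000 with h5 | h5
          · skip
            rcases Nat.lt_or_ge i 229000 with h6 | h6
            · skip
              exact allRangeF_sound _ _ (checkFactF_eq cert) 228000 1000 chkF_228000 i (by omega) (by omega)
            · skip
              exact allRangeF_sound _ _ (checkFactF_eq cert) 229000 1000 chkF_229000 i (by omega) (by omega)
          · skip
            rcases Nat.lt_or_ge i 231000 with h6 | h6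
            · skip
              exact allRangeF_sound _ _ (checkFactF_eq cert) 230000 1000 chkF_230000 i (by omega) (by omega)
            · skip
              rcases Nat.lt_or_ge i 232000 with h7 | h7
              · skip
                exact allRangeF_sound _ _ (checkFactF_eq cert) 231000 1000 chkF_231000 i (by omega) (by omega)
              · skip
                exact allRangeF_sound _ _ (checkFactF_eq cert) 232000 1000 chkF_232000 i (by omega) (by omega)
        · skip
          rcases Nat.lt_or_ge i 236000 with h5 | h5
          · skip
            rcases Nat.lt_or_ge i 234000 with h6 | h6
            · skip
              exact allRangeF_sound _ _ (checkFactF_eq cert) 233000 1000 chkF_233000 i (by omega) (by omega)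
            · skip
              rcases Nat.lt_or_ge i 235000 with h7 | h7
              · skip
                exact allRangeF_sound _ _ (checkFactF_eq cert) 234000 1000 chkF_234000 i (by omega) (by omega)
              · skip
                exact allRangeF_sound _ _ (checkFactF_eq cert) 235000 1000 chkF_235000 i (by omega) (by omega)
          · skip
            rcases Nat.lt_or_ge i 237000 with h6 | h6
            · skip
              exact allRangeF_sound _ _ (checkFactF_eq cert) 236000 1000 chkF_236000 i (by omega) (by omega)
            · skip
              rcases Nat.lt_or_ge i 238000 with h7 | h7
              · skip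
                exact allRangeF_sound _ _ (checkFactF_eq cert) 237000 1000 chkF_237000 i (by omega) (by omega)
              · skip
                exact allRangeF_sound _ _ (checkFactF_eq cert) 238000 1000 chkF_238000 i (by omega) (by omega)
    · skip
      rcases Nat.lt_or_ge i 250000 with h3 | h3
      · skip
        rcases Nat.lt_or_ge i 244000 with h4 | h4
        · skip
          rcases Nat.lt_or_ge i 241000 with h5 | h5
          · skip
            rcases Nat.lt_or_ge i 240000 with h6 | h6
            · skip
              exact allRangeF_sound _ _ (checkFactF_eq cert) 239000 1000 chkF_239000 i (by omega) (by omega)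
            · skip
              exact allRangeF_sound _ _ (checkFactF_eq cert) 240000 1000 chkF_240000 i (by omega) (by omega)
          · skip
            rcases Nat.lt_or_ge i 242000 with h6 | h6
            · skip
              exact allRangeF_sound _ _ (checkFactF_eq cert) 241000 1000 chkF_241000 i (by omega) (by omega)
            · skip
              rcases Nat.lt_or_ge i 243000 with h7 | h7
              · skip
                exact allRangeF_sound _ _ (checkFactF_eq cert) 242000 1000 chkF_242000 i (by omega) (by omega)
              · skip
                exact allRangeF_sound _ _ (checkFactF_eq cert) 243000 1000 chkF_243000 i (by omega) (by omega)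
        · skip
          rcases Nat.lt_or_ge i 247000 with h5 | h5
          · skip
            rcases Nat.lt_or_ge i 245000 with h6 | h6
            · skip
              exact allRangeF_sound _ _ (checkFactF_eq cert) 244000 1000 chkF_244000 i (by omega) (by omega)
            · skip
              rcases Nat.lt_or_ge i 246000 with h7 | h7
              · skip
                exact allRangeF_sound _ _ (checkFactF_eq cert) 245000 1000 chkF_245000 i (by omega) (by omega)
              · skip
                exact allRangeF_sound _ _ (checkFactF_eq cert) 246000 1000 chkF_246000 i (by omega) (by omega)
          · skip
            rcases Nat.lt_or_ge i 248000 with h6 | h6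
            · skip
              exact allRangeF_sound _ _ (checkFactF_eq cert) 247000 1000 chkF_247000 i (by omega) (by omega)
            · skip
              rcases Nat.lt_or_ge i 249000 with h7 | h7
              · skip
                exact allRangeF_sound _ _ (checkFactF_eq cert) 248000 1000 chkF_248000 i (by omega) (by omega)
              · skip
                exact allRangeF_sound _ _ (checkFactF_eq cert) 249000 1000 chkF_249000 i (by omega) (by omega)
      · skip
        rcases Nat.lt_or_ge i 255000 with h4 | h4
        · skip
          rcases Nat.lt_or_ge i 252000 with h5 | h5
          · skip
            rcases Nat.lt_or_ge i 251000 with h6 | h6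
            · skip
              exact allRangeF_sound _ _ (checkFactF_eq cert) 250000 1000 chkF_250000 i (by omega) (by omega)
            · skip
              exact allRangeF_sound _ _ (checkFactF_eq cert) 251000 1000 chkF_251000 i (by omega) (by omega)
          · skip
            rcases Nat.lt_or_ge i 253000 with h6 | h6
            · skip
              exact allRangeF_sound _ _ (checkFactF_eq cert) 252000 1000 chkF_252000 i (by omega) (by omega)
            · skip
              rcases Nat.lt_or_ge i 254000 with h7 | h7
              · skip
                exact allRangeF_sound _ _ (checkFactF_eq cert) 253000 1000 chkF_253000 i (by omega) (by omega)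
              · skip
                exact allRangeF_sound _ _ (checkFactF_eq cert) 254000 1000 chkF_254000 i (by omega) (by omega)
        · skip
          rcases Nat.lt_or_ge i 258000 with h5 | h5
          · skip
            rcases Nat.lt_or_ge i 256000 with h6 | h6
            · skip
              exact allRangeF_sound _ _ (checkFactF_eq cert) 255000 1000 chkF_255000 i (by omega) (by omega)
            · skip
              rcases Nat.lt_or_ge i 257000 with h7 | h7
              · skip
                exact allRangeF_sound _ _ (checkFactF_eq cert) 256000 1000 chkF_256000 i (by omega) (by omega)
              · skip
                exact allRangeF_sound _ _ (checkFactF_eq cert) 257000 1000 chkF_257000 i (by omega) (by omega)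
          · skip
            rcases Nat.lt_or_ge i 259000 with h6 | h6
            · skip
              exact allRangeF_sound _ _ (checkFactF_eq cert) 258000 1000 chkF_258000 i (by omega) (by omega)
            · skip
              rcases Nat.lt_or_ge i 260000 with h7 | h7
              · skip
                exact allRangeF_sound _ _ (checkFactF_eq cert) 259000 1000 chkF_259000 i (by omega) (by omega)
              · skip
                exact allRangeF_sound _ _ (checkFactF_eq cert) 260000 1000 chkF_260000 i (by omega) (by omega)

end Cfsg.Agent.Lib.Helper28.Mo5cData
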