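import Cfsg.Agent.Lib.Helper28.TCDefs
import Cfsg.Agent.Lib.Helper28.Mo5aDataP0

set_option autoImplicit false
set_option maxRecDepth 100000
set_option linter.all false

namespace Cfsg.Agent.Lib.Helper28.Mo5aData

open Cfsg.Agent.Lib.Helper28

noncomputable def tF_s0_8 (j : Nat) : Nat := @Bool.rec (fun _ => Nat) (@Bool.rec (fun _ => Nat) (@Bool.rec (fun _ => Nat) tF_L0 tF_L1 (Nat.ble (nat_lit 1) j)) (@Bool.rec (fun _ => Nat) tF_L2 tF_L3 (Nat.ble (nat_lit 3) j)) (Nat.ble (nat_lit 2) j)) (@Bool.rec (fun _ => Nat) (@Bool.rec (fun _ => Nat) tF_L4 tF_L5 (Nat.ble (nat_lit 5) j)) (@Bool.rec (fun _ => Nat) tF_L6 tF_L7 (Nat.ble (nat_lit 7) j)) (Nat.ble (nat_lit 6) j)) (Nat.ble (nat_lit 4) j)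
noncomputable def tF (i : Nat) : Nat := Nat.land (Nat.shiftRight (tF_s0_8 (Nat.div i (nat_lit 18181))) (Nat.mul (nat_lit 44) (Nat.mod i (nat_lit 18181)))) (nat_lit 17592186044415)
noncomputable def tD_s0_2 (j : Nat) : Nat := @Bool.rec (fun _ => Nat) tD_L0 tD_L1 (Nat.ble (nat_lit 1) j)
noncomputable def tD (i : Nat) : Nat := Nat.land (Nat.shiftRight (tD_s0_2 (Nat.div i (nat_lit 34782))) (Nat.mul (nat_lit 23) (Nat.mod i (nat_lit 34782)))) (nat_lit 8388607)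
noncomputable def tT (i : Nat) : Nat := Nat.land (Nat.shiftRight tT_L0 (Nat.mul (nat_lit 12) i)) (nat_lit 4095)
noncomputable def tPP (i : Nat) : Nat := Nat.land (Nat.shiftRight tPP_L0 (Nat.mul (nat_lit 15) i)) (nat_lit 32767)
noncomputable def tNO (i : Nat) : Nat := Nat.land (Nat.shiftRight tNO_L0 (Nat.mul (nat_lit 16) i)) (nat_lit 65535)
noncomputable def tTAB (i : Nat) : Nat := Nat.land (Nat.shiftRight tTAB_L0 (Nat.mul (nat_lit 17) i)) (nat_lit 131071)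
noncomputable def tORB (i : Nat) : Nat := Nat.land (Nat.shiftRight tORB_L0 (Nat.mul (nat_lit 12) i)) (nat_lit 4095)
noncomputable def tORK (i : Nat) : Nat := Nat.land (Nat.shiftRight tORK_L0 (Nat.mul (nat_lit 1) i)) (nat_lit 1)
noncomputable def tOPAR (i : Nat) : Nat := Nat.land (Nat.shiftRight tOPAR_L0 (Nat.mul (nat_lit 1) i)) (nat_lit 1)
noncomputable def tROOT (i : Nat) : Nat := Nat.land (Nat.shiftRight tROOT_L0 (Nat.mul (nat_lit 12) i)) (nat_lit 4095)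
noncomputable def tJ_O_s0_4 (j : Nat) : Nat := @Bool.rec (fun _ => Nat) (@Bool.rec (fun _ => Nat) tJ_O_L0 tJ_O_L1 (Nat.ble (nat_lit 1) j)) (@Bool.rec (fun _ => Nat) tJ_O_L2 tJ_O_L3 (Nat.ble (nat_lit 3) j)) (Nat.ble (nat_lit 2) j)
noncomputable def tJ_O (i : Nat) : Nat := Nat.land (Nat.shiftRight (tJ_O_s0_4 (Nat.div i (nat_lit 42105))) (Nat.mul (nat_lit 19) (Nat.mod i (nat_lit 42105)))) (nat_lit 524287)
noncomputable def tJ_s0_8 (j : Nat) : Nat := @Bool.rec (fun _ => Nat) (@Bool.rec (fun _ => Nat) (@Bool.rec (fun _ => Nat) tJ_P0 tJ_P1 (Nat.ble (nat_lit 1) j)) (@Bool.rec (fun _ => Nat) tJ_P2 tJ_P3 (Nat.ble (nat_lit 3) j)) (Nat.ble (nat_lit 2) j)) (@Bool.rec (fun _ => Nat) (@Bool.rec (fun _ => Nat) tJ_P4 tJ_P5 (Nat.ble (nat_lit 5) j)) (@Bool.rec (fun _ => Nat) tJ_P6 tJ_P7 (Nat.ble (nat_lit 7) j)) (Nat.ble (nat_lit 6) j)) (Nat.ble (nat_lit 4)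 j)
noncomputable def tJ_s8_16 (j : Nat) : Nat := @Bool.rec (fun _ => Nat) (@Bool.rec (fun _ => Nat) (@Bool.rec (fun _ => Nat) tJ_P8 tJ_P9 (Nat.ble (nat_lit 9) j)) (@Bool.rec (fun _ => Nat) tJ_P10 tJ_P11 (Nat.ble (nat_lit 11) j)) (Nat.ble (nat_lit 10) j)) (@Bool.rec (fun _ => Nat) (@Bool.rec (fun _ => Nat) tJ_P12 tJ_P13 (Nat.ble (nat_lit 13) j)) (@Bool.rec (fun _ => Nat) tJ_P14 tJ_P15 (Nat.ble (nat_lit 15) j)) (Nat.ble (nat_lit 14) j)) (Nat.ble (nat_lit 12) j)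
noncomputable def tJ_s16_24 (j : Nat) : Nat := @Bool.rec (fun _ => Nat) (@Bool.rec (fun _ => Nat) (@Bool.rec (fun _ => Nat) tJ_P16 tJ_P17 (Nat.ble (nat_lit 17) j)) (@Bool.rec (fun _ => Nat) tJ_P18 tJ_P19 (Nat.ble (nat_lit 19) j)) (Nat.ble (nat_lit 18) j)) (@Bool.rec (fun _ => Nat) (@Bool.rec (fun _ => Nat) tJ_P20 tJ_P21 (Nat.ble (nat_lit 21) j)) (@Bool.rec (fun _ => Nat) tJ_P22 tJ_P23 (Nat.ble (nat_lit 23) j)) (Nat.ble (nat_lit 22) j)) (Nat.ble (nat_lit 20) j)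
noncomputable def tJ_s24_32 (j : Nat) : Nat := @Bool.rec (fun _ => Nat) (@Bool.rec (fun _ => Nat) (@Bool.rec (fun _ => Nat) tJ_P24 tJ_P25 (Nat.ble (nat_lit 25) j)) (@Bool.rec (fun _ => Nat) tJ_P26 tJ_P27 (Nat.ble (nat_lit 27) j)) (Nat.ble (nat_lit 26) j)) (@Bool.rec (fun _ => Nat) (@Bool.rec (fun _ => Nat) tJ_P28 tJ_P29 (Nat.ble (nat_lit 29) j)) (@Bool.rec (fun _ => Nat) tJ_P30 tJ_P31 (Nat.ble (nat_lit 31) j)) (Nat.ble (nat_lit 30) j)) (Nat.ble (nat_lit 28) j)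
noncomputable def tJ_s32_40 (j : Nat) : Nat := @Bool.rec (fun _ => Nat) (@Bool.rec (fun _ => Nat) (@Bool.rec (fun _ => Nat) tJ_P32 tJ_P33 (Nat.ble (nat_lit 33) j)) (@Bool.rec (fun _ => Nat) tJ_P34 tJ_P35 (Nat.ble (nat_lit 35) j)) (Nat.ble (nat_lit 34) j)) (@Bool.rec (fun _ => Nat) (@Bool.rec (fun _ => Nat) tJ_P36 tJ_P37 (Nat.ble (nat_lit 37) j)) (@Bool.rec (fun _ => Nat) tJ_P38 tJ_P39 (Nat.ble (nat_lit 39) j)) (Nat.ble (nat_lit 38) j)) (Nat.ble (nat_lit 36) j)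
noncomputable def tJ_s40_48 (j : Nat) : Nat := @Bool.rec (fun _ => Nat) (@Bool.rec (fun _ => Nat) (@Bool.rec (fun _ => Nat) tJ_P40 tJ_P41 (Nat.ble (nat_lit 41) j)) (@Bool.rec (fun _ => Nat) tJ_P42 tJ_P43 (Nat.ble (nat_lit 43) j)) (Nat.ble (nat_lit 42) j)) (@Bool.rec (fun _ => Nat) (@Bool.rec (fun _ => Nat) tJ_P44 tJ_P45 (Nat.ble (nat_lit 45) j)) (@Bool.rec (fun _ => Nat) tJ_P46 tJ_P47 (Nat.ble (nat_lit 47) j)) (Nat.ble (nat_lit 46) j)) (Nat.ble (nat_lit 44) j)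
noncomputable def tJ_s48_56 (j : Nat) : Nat := @Bool.rec (fun _ => Nat) (@Bool.rec (fun _ => Nat) (@Bool.rec (fun _ => Nat) tJ_P48 tJ_P49 (Nat.ble (nat_lit 49) j)) (@Bool.rec (fun _ => Nat) tJ_P50 tJ_P51 (Nat.ble (nat_lit 51) j)) (Nat.ble (nat_lit 50) j)) (@Bool.rec (fun _ => Nat) (@Bool.rec (fun _ => Nat) tJ_P52 tJ_P53 (Nat.ble (nat_lit 53) j)) (@Bool.rec (fun _ => Nat) tJ_P54 tJ_P55 (Nat.ble (nat_lit 55) j)) (Nat.ble (nat_lit 54) j)) (Nat.ble (nat_lit 52) j)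
noncomputable def tJ_s56_64 (j : Nat) : Nat := @Bool.rec (fun _ => Nat) (@Bool.rec (fun _ => Nat) (@Bool.rec (fun _ => Nat) tJ_P56 tJ_P57 (Nat.ble (nat_lit 57) j)) (@Bool.rec (fun _ => Nat) tJ_P58 tJ_P59 (Nat.ble (nat_lit 59) j)) (Nat.ble (nat_lit 58) j)) (@Bool.rec (fun _ => Nat) (@Bool.rec (fun _ => Nat) tJ_P60 tJ_P61 (Nat.ble (nat_lit 61) j)) (@Bool.rec (fun _ => Nat) tJ_P62 tJ_P63 (Nat.ble (nat_lit 63) j)) (Nat.ble (nat_lit 62) j)) (Nat.ble (nat_lit 60) j)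
noncomputable def tJ_s0_64 (j : Nat) : Nat := @Bool.rec (fun _ => Nat) (@Bool.rec (fun _ => Nat) (@Bool.rec (fun _ => Nat) (tJ_s0_8 j) (tJ_s8_16 j) (Nat.ble (nat_lit 8) j)) (@Bool.rec (fun _ => Nat) (tJ_s16_24 j) (tJ_s24_32 j) (Nat.ble (nat_lit 24) j)) (Nat.ble (nat_lit 16) j)) (@Bool.rec (fun _ => Nat) (@Bool.rec (fun _ => Nat) (tJ_s32_40 j) (tJ_s40_48 j) (Nat.ble (nat_lit 40) j)) (@Bool.rec (fun _ => Nat) (tJ_s48_56 j) (tJ_s56_64 j) (Nat.ble (nat_lit 56) j)) (Nat.ble (nat_lit 48) j)) (Nat.ble (nat_lit 32) j)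
noncomputable def tJ (i : Nat) : Nat := Nat.land (Nat.shiftRight (tJ_s0_64 (Nat.div i (nat_lit 2048))) (tJ_O i)) (nat_lit 31658291388557380359744322690514840324496812684955115509000071179890844813636078997800499335839109758668501942530065835436974724391264154875845907853042325493325666835033489407)

noncomputable def rels : List (List Nat) := [[0, 0, 0, 0, 0], [2, 2, 2, 2, 2], [0, 0, 2, 0, 2, 1, 2, 2, 0, 0, 2, 0, 3, 1, 1, 3, 3, 0, 3, 1, 3, 1, 1, 0], [0, 0, 2, 0, 2, 1, 2, 2, 0, 0, 2, 2, 3, 1, 1, 3, 3, 0, 3, 1, 3, 1, 1, 2], [4], [6]]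
noncomputable def subs : List (List Nat) := []
noncomputable def rels2 : List (List (List Nat)) := [[[0, 0, 0, 0, 0], [2, 2, 2, 2, 2], [0, 0, 2, 0, 2, 1, 2, 2, 0, 0, 2, 0, 3, 1, 1, 3, 3, 0, 3, 1, 3, 1, 1, 0], [0, 0, 2, 0, 2, 1, 2, 2, 0, 0, 2, 2, 3, 1, 1, 3, 3, 0, 3, 1, 3, 1, 1, 2], [4], [6]]]
noncomputable def cert : Cert := ⟨4, 4080, 129201, tF, tJ, tD, rels, subs, tT, tPP, tNO, tTAB, rels2, tORB, tORK, tOPAR, tROOT⟩

end Cfsg.Agent.Lib.Helper28.Mo5aData
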