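import Cfsg.Agent.Lib.Helper28.TCDefs
import Cfsg.Agent.Lib.Helper28.Mo5bDataP0

set_option autoImplicit false
set_option maxRecDepth 100000
set_option linter.all false

namespace Cfsg.Agent.Lib.Helper28.Mo5bData

open Cfsg.Agent.Lib.Helper28

noncomputable def tF_s0_2 (j : Nat) : Nat := @Bool.rec (fun _ => Nat) tF_L0 tF_L1 (Nat.ble (nat_lit 1) j)
noncomputable def tF (i : Nat) : Nat := Nat.land (Nat.shiftRight (tF_s0_2 (Nat.div i (nat_lit 18181))) (Nat.mul (nat_lit 44) (Nat.mod i (nat_lit 18181)))) (nat_lit 17592186044415)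
noncomputable def tD (i : Nat) : Nat := Nat.land (Nat.shiftRight tD_L0 (Nat.mul (nat_lit 23) i)) (nat_lit 8388607)
noncomputable def tT (i : Nat) : Nat := Nat.land (Nat.shiftRight tT_L0 (Nat.mul (nat_lit 8) i)) (nat_lit 255)
noncomputable def tPP (i : Nat) : Nat := Nat.land (Nat.shiftRight tPP_L0 (Nat.mul (nat_lit 11) i)) (nat_lit 2047)
noncomputable def tNO (i : Nat) : Nat := Nat.land (Nat.shiftRight tNO_L0 (Nat.mul (nat_lit 13) i)) (nat_lit 8191)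
noncomputable def tTAB (i : Nat) : Nat := Nat.land (Nat.shiftRight tTAB_L0 (Nat.mul (nat_lit 16) i)) (nat_lit 65535)
noncomputable def tORB (i : Nat) : Nat := Nat.land (Nat.shiftRight tORB_L0 (Nat.mul (nat_lit 3) i)) (nat_lit 7)
noncomputable def tORK (i : Nat) : Nat := Nat.land (Nat.shiftRight tORK_L0 (Nat.mul (nat_lit 3) i)) (nat_lit 7)
noncomputable def tOPAR (i : Nat) : Nat := Nat.land (Nat.shiftRight tOPAR_L0 (Nat.mul (nat_lit 18) i)) (nat_lit 262143)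
noncomputable def tROOT (i : Nat) : Nat := Nat.land (Nat.shiftRight tROOT_L0 (Nat.mul (nat_lit 8) i)) (nat_lit 255)
noncomputable def tJ_O (i : Nat) : Nat := Nat.land (Nat.shiftRight tJ_O_L0 (Nat.mul (nat_lit 19) i)) (nat_lit 524287)
noncomputable def tJ_s0_2 (j : Nat) : Nat := @Bool.rec (fun _ => Nat) tJ_P0 tJ_P1 (Nat.ble (nat_lit 1) j)
noncomputable def tJ_s2_4 (j : Nat) : Nat := @Bool.rec (fun _ => Nat) tJ_P2 tJ_P3 (Nat.ble (nat_lit 3) j)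
noncomputable def tJ_s4_6 (j : Nat) : Nat := @Bool.rec (fun _ => Nat) tJ_P4 tJ_P5 (Nat.ble (nat_lit 5) j)
noncomputable def tJ_s6_9 (j : Nat) : Nat := @Bool.rec (fun _ => Nat) tJ_P6 (@Bool.rec (fun _ => Nat) tJ_P7 tJ_P8 (Nat.ble (nat_lit 8) j)) (Nat.ble (nat_lit 7) j)
noncomputable def tJ_s9_11 (j : Nat) : Nat := @Bool.rec (fun _ => Nat) tJ_P9 tJ_P10 (Nat.ble (nat_lit 10) j)
noncomputable def tJ_s11_13 (j : Nat) : Nat := @Bool.rec (fun _ => Nat) tJ_P11 tJ_P12 (Nat.ble (nat_lit 12) j)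
noncomputable def tJ_s13_15 (j : Nat) : Nat := @Bool.rec (fun _ => Nat) tJ_P13 tJ_P14 (Nat.ble (nat_lit 14) j)
noncomputable def tJ_s15_18 (j : Nat) : Nat := @Bool.rec (fun _ => Nat) tJ_P15 (@Bool.rec (fun _ => Nat) tJ_P16 tJ_P17 (Nat.ble (nat_lit 17) j)) (Nat.ble (nat_lit 16) j)
noncomputable def tJ_s0_18 (j : Nat) : Nat := @Bool.rec (fun _ => Nat) (@Bool.rec (fun _ => Nat) (@Bool.rec (fun _ => Nat) (tJ_s0_2 j) (tJ_s2_4 j) (Nat.ble (nat_lit 2) j)) (@Bool.rec (fun _ => Nat) (tJ_s4_6 j) (tJ_s6_9 j) (Nat.ble (nat_lit 6) j)) (Nat.ble (nat_lit 4) j)) (@Bool.rec (fun _ => Nat) (@Bool.rec (fun _ => Nat) (tJ_s9_11 j) (tJ_s11_13 j) (Nat.ble (nat_lit 11) j)) (@Bool.rec (fun _ => Nat) (tJ_s13_15 j) (tJ_s15_18 j) (Nat.ble (nat_lit 15) j)) (Nat.ble (nat_lit 13) j)) (Nat.ble (nat_lit 9) j)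
noncomputable def tJ (i : Nat) : Nat := Nat.land (Nat.shiftRight (tJ_s0_18 (Nat.div i (nat_lit 2048))) (tJ_O i)) (nat_lit 31658291388557380359744322690514840324496812684955115509000071179890844813636078997800499335839109758668501942530065835436974724391264154875845907853042325493325666835033489407)

noncomputable def rels : List (List Nat) := [[0, 0, 0, 0, 0], [2, 2, 2, 2, 2], [4, 4, 4, 4, 4], [0, 0, 2, 0, 2, 1, 2, 2, 0, 0, 2, 0, 3, 1, 1, 3, 3, 0, 3, 1, 3, 1, 1, 0], [0, 0, 2, 0, 2, 1, 2, 2, 0, 0, 2, 2, 3, 1, 1, 3, 3, 0, 3, 1, 3, 1, 1, 2], [5, 3, 4, 1, 3, 4, 2, 5, 2, 0, 5, 2, 4, 1], [5, 5, 0, 3, 5, 5, 2, 4, 4, 2, 1, 4, 4, 0], [0, 0, 4, 1, 5, 5, 4, 4, 4, 0, 5, 1, 1, 4], [0, 4, 1, 2, 1, 2, 4, 3, 0, 3, 0, 5, 1, 5], [0, 4, 4, 2, 1, 2, 4, 3, 0, 3, 5, 5, 1, 4], [1, 1, 2, 1, 4, 3, 4, 2, 5, 0, 3, 0, 0, 5], [1, 4, 2, 1, 4, 3, 4, 2,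 5, 0, 3, 5, 0, 4], [1, 5, 2, 1, 4, 3, 4, 2, 5, 0, 3, 4, 0, 0, 0], [6]]
noncomputable def subs : List (List Nat) := [[0], [2]]
noncomputable def rels2 : List (List (List Nat)) := [[[0, 0, 0, 0, 0], [2, 2, 2, 2, 2], [4, 4, 4, 4, 4], [0, 0, 2, 0, 2, 1, 2, 2, 0, 0, 2, 0, 3, 1, 1, 3, 3, 0, 3, 1, 3, 1, 1, 0], [0, 0, 2, 0, 2, 1, 2, 2, 0, 0, 2, 2, 3, 1, 1, 3, 3, 0, 3, 1, 3, 1, 1, 2], [5, 3, 4, 1, 3, 4, 2, 5, 2, 0, 5, 2, 4, 1], [5, 5, 0, 3, 5, 5, 2, 4, 4, 2, 1, 4, 4, 0], [0, 0, 4, 1, 5, 5, 4, 4, 4, 0, 5, 1, 1, 4]], [[0, 4, 1, 2, 1, 2, 4, 3, 0, 3, 0, 5, 1, 5], [0, 4, 4, 2, 1, 2, 4, 3, 0, 3, 5, 5, 1, 4], [1, 1, 2, 1, 4, 3, 4, 2, 5, 0, 3, 0, 0, 5], [1, 4, 2, 1, 4, 3, 4, 2, 5, 0, 3, 5, 0, 4], [1, 5, 2, 1, 4, 3, 4, 2, 5, 0, 3, 4, 0, 0, 0], [6]]]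
noncomputable def cert : Cert := ⟨4, 240, 35232, tF, tJ, tD, rels, subs, tT, tPP, tNO, tTAB, rels2, tORB, tORK, tOPAR, tROOT⟩

end Cfsg.Agent.Lib.Helper28.Mo5bData
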