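import Cfsg.Agent.Lib.Helper28.TCDefs
import Cfsg.Agent.Lib.Helper28.Mo5cDataP0
import Cfsg.Agent.Lib.Helper28.Mo5cDataP1

set_option autoImplicit false
set_option maxRecDepth 100000
set_option linter.all false

namespace Cfsg.Agent.Lib.Helper28.Mo5cData

open Cfsg.Agent.Lib.Helper28

noncomputable def tF_s0_2 (j : Nat) : Nat := @Bool.rec (fun _ => Nat) tF_L0 tF_L1 (Nat.ble (nat_lit 1) j)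
noncomputable def tF_s2_4 (j : Nat) : Nat := @Bool.rec (fun _ => Nat) tF_L2 tF_L3 (Nat.ble (nat_lit 3) j)
noncomputable def tF_s4_6 (j : Nat) : Nat := @Bool.rec (fun _ => Nat) tF_L4 tF_L5 (Nat.ble (nat_lit 5) j)
noncomputable def tF_s6_9 (j : Nat) : Nat := @Bool.rec (fun _ => Nat) tF_L6 (@Bool.rec (fun _ => Nat) tF_L7 tF_L8 (Nat.ble (nat_lit 8) j)) (Nat.ble (nat_lit 7) j)
noncomputable def tF_s9_11 (j : Nat) : Nat := @Bool.rec (fun _ => Nat) tF_L9 tF_L10 (Nat.ble (nat_lit 10) j)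
noncomputable def tF_s11_14 (j : Nat) : Nat := @Bool.rec (fun _ => Nat) tF_L11 (@Bool.rec (fun _ => Nat) tF_L12 tF_L13 (Nat.ble (nat_lit 13) j)) (Nat.ble (nat_lit 12) j)
noncomputable def tF_s14_16 (j : Nat) : Nat := @Bool.rec (fun _ => Nat) tF_L14 tF_L15 (Nat.ble (nat_lit 15) j)
noncomputable def tF_s16_19 (j : Nat) : Nat := @Bool.rec (fun _ => Nat) tF_L16 (@Bool.rec (fun _ => Nat) tF_L17 tF_L18 (Nat.ble (nat_lit 18) j)) (Nat.ble (nat_lit 17) j)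
noncomputable def tF_s0_19 (j : Nat) : Nat := @Bool.rec (fun _ => Nat) (@Bool.rec (fun _ => Nat) (@Bool.rec (fun _ => Nat) (tF_s0_2 j) (tF_s2_4 j) (Nat.ble (nat_lit 2) j)) (@Bool.rec (fun _ => Nat) (tF_s4_6 j) (tF_s6_9 j) (Nat.ble (nat_lit 6) j)) (Nat.ble (nat_lit 4) j)) (@Bool.rec (fun _ => Nat) (@Bool.rec (fun _ => Nat) (tF_s9_11 j) (tF_s11_14 j) (Nat.ble (nat_lit 11) j)) (@Bool.rec (fun _ => Nat) (tF_s14_16 j) (tF_s16_19 j) (Nat.ble (nat_lit 16) j)) (Nat.ble (nat_lit 14) j)) (Nat.ble (nat_lit 9) j)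
noncomputable def tF (i : Nat) : Nat := Nat.land (Nat.shiftRight (tF_s0_19 (Nat.div i (nat_lit 18181))) (Nat.mul (nat_lit 44) (Nat.mod i (nat_lit 18181)))) (nat_lit 17592186044415)
noncomputable def tD_s0_4 (j : Nat) : Nat := @Bool.rec (fun _ => Nat) (@Bool.rec (fun _ => Nat) tD_L0 tD_L1 (Nat.ble (nat_lit 1) j)) (@Bool.rec (fun _ => Nat) tD_L2 tD_L3 (Nat.ble (nat_lit 3) j)) (Nat.ble (nat_lit 2) j)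
noncomputable def tD (i : Nat) : Nat := Nat.land (Nat.shiftRight (tD_s0_4 (Nat.div i (nat_lit 34782))) (Nat.mul (nat_lit 23) (Nat.mod i (nat_lit 34782)))) (nat_lit 8388607)
noncomputable def tT (i : Nat) : Nat := Nat.land (Nat.shiftRight tT_L0 (Nat.mul (nat_lit 13) i)) (nat_lit 8191)
noncomputable def tPP (i : Nat) : Nat := Nat.land (Nat.shiftRight tPP_L0 (Nat.mul (nat_lit 15) i)) (nat_lit 32767)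
noncomputable def tNO (i : Nat) : Nat := Nat.land (Nat.shiftRight tNO_L0 (Nat.mul (nat_lit 17) i)) (nat_lit 131071)
noncomputable def tTAB (i : Nat) : Nat := Nat.land (Nat.shiftRight tTAB_L0 (Nat.mul (nat_lit 19) i)) (nat_lit 524287)
noncomputable def tORB (i : Nat) : Nat := Nat.land (Nat.shiftRight tORB_L0 (Nat.mul (nat_lit 3) i)) (nat_lit 7)
noncomputable def tORK (i : Nat) : Nat := Nat.land (Nat.shiftRight tORK_L0 (Nat.mul (nat_lit 3) i)) (nat_lit 7)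
noncomputable def tOPAR (i : Nat) : Nat := Nat.land (Nat.shiftRight tOPAR_L0 (Nat.mul (nat_lit 23) i)) (nat_lit 8388607)
noncomputable def tROOT (i : Nat) : Nat := Nat.land (Nat.shiftRight tROOT_L0 (Nat.mul (nat_lit 12) i)) (nat_lit 4095)
noncomputable def tJ_O_s7_9 (j : Nat) : Nat := @Bool.rec (fun _ => Nat) tJ_O_L7 tJ_O_L8 (Nat.ble (nat_lit 8) j)
noncomputable def tJ_O_s0_9 (j : Nat) : Nat := @Bool.rec (fun _ => Nat) (@Bool.rec (fun _ => Nat) (@Bool.rec (fun _ => Nat) tJ_O_L0 tJ_O_L1 (Nat.ble (nat_lit 1) j)) (@Bool.rec (fun _ => Nat) tJ_O_L2 tJ_O_L3 (Nat.ble (nat_lit 3) j)) (Nat.ble (nat_lit 2) j)) (@Bool.rec (fun _ => Nat) (@Bool.rec (fun _ => Nat) tJ_O_L4 tJ_O_L5 (Nat.ble (nat_lit 5) j)) (@Bool.rec (fun _ => Nat) tJ_O_L6 (tJ_O_s7_9 j) (Nat.ble (nat_lit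 7) j)) (Nat.ble (nat_lit 6) j)) (Nat.ble (nat_lit 4) j)
noncomputable def tJ_O (i : Nat) : Nat := Nat.land (Nat.shiftRight (tJ_O_s0_9 (Nat.div i (nat_lit 42105))) (Nat.mul (nat_lit 19) (Nat.mod i (nat_lit 42105)))) (nat_lit 524287)
noncomputable def tJ_s0_2 (j : Nat) : Nat := @Bool.rec (fun _ => Nat) tJ_P0 tJ_P1 (Nat.ble (nat_lit 1) j)
noncomputable def tJ_s2_5 (j : Nat) : Nat := @Bool.rec (fun _ => Nat) tJ_P2 (@Bool.rec (fun _ => Nat) tJ_P3 tJ_P4 (Nat.ble (nat_lit 4) j)) (Nat.ble (nat_lit 3) j)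
noncomputable def tJ_s5_7 (j : Nat) : Nat := @Bool.rec (fun _ => Nat) tJ_P5 tJ_P6 (Nat.ble (nat_lit 6) j)
noncomputable def tJ_s7_10 (j : Nat) : Nat := @Bool.rec (fun _ => Nat) tJ_P7 (@Bool.rec (fun _ => Nat) tJ_P8 tJ_P9 (Nat.ble (nat_lit 9) j)) (Nat.ble (nat_lit 8) j)
noncomputable def tJ_s10_12 (j : Nat) : Nat := @Bool.rec (fun _ => Nat) tJ_P10 tJ_P11 (Nat.ble (nat_lit 11) j)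
noncomputable def tJ_s12_15 (j : Nat) : Nat := @Bool.rec (fun _ => Nat) tJ_P12 (@Bool.rec (fun _ => Nat) tJ_P13 tJ_P14 (Nat.ble (nat_lit 14) j)) (Nat.ble (nat_lit 13) j)
noncomputable def tJ_s15_18 (j : Nat) : Nat := @Bool.rec (fun _ => Nat) tJ_P15 (@Bool.rec (fun _ => Nat) tJ_P16 tJ_P17 (Nat.ble (nat_lit 17) j)) (Nat.ble (nat_lit 16) j)
noncomputable def tJ_s18_21 (j : Nat) : Nat := @Bool.rec (fun _ => Nat) tJ_P18 (@Bool.rec (fun _ => Nat) tJ_P19 tJ_P20 (Nat.ble (nat_lit 20) j)) (Nat.ble (nat_lit 19) j)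
noncomputable def tJ_s0_21 (j : Nat) : Nat := @Bool.rec (fun _ => Nat) (@Bool.rec (fun _ => Nat) (@Bool.rec (fun _ => Nat) (tJ_s0_2 j) (tJ_s2_5 j) (Nat.ble (nat_lit 2) j)) (@Bool.rec (fun _ => Nat) (tJ_s5_7 j) (tJ_s7_10 j) (Nat.ble (nat_lit 7) j)) (Nat.ble (nat_lit 5) j)) (@Bool.rec (fun _ => Nat) (@Bool.rec (fun _ => Nat) (tJ_s10_12 j) (tJ_s12_15 j) (Nat.ble (nat_lit 12) j)) (@Bool.rec (fun _ => Nat) (tJ_s15_18 j) (tJ_s18_21 j) (Nat.ble (nat_lit 18) j)) (Nat.ble (nat_lit 15) j)) (Nat.ble (nat_lit 10) j)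
noncomputable def tJ_s21_23 (j : Nat) : Nat := @Bool.rec (fun _ => Nat) tJ_P21 tJ_P22 (Nat.ble (nat_lit 22) j)
noncomputable def tJ_s23_26 (j : Nat) : Nat := @Bool.rec (fun _ => Nat) tJ_P23 (@Bool.rec (fun _ => Nat) tJ_P24 tJ_P25 (Nat.ble (nat_lit 25) j)) (Nat.ble (nat_lit 24) j)
noncomputable def tJ_s26_28 (j : Nat) : Nat := @Bool.rec (fun _ => Nat) tJ_P26 tJ_P27 (Nat.ble (nat_lit 27) j)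
noncomputable def tJ_s28_31 (j : Nat) : Nat := @Bool.rec (fun _ => Nat) tJ_P28 (@Bool.rec (fun _ => Nat) tJ_P29 tJ_P30 (Nat.ble (nat_lit 30) j)) (Nat.ble (nat_lit 29) j)
noncomputable def tJ_s31_33 (j : Nat) : Nat := @Bool.rec (fun _ => Nat) tJ_P31 tJ_P32 (Nat.ble (nat_lit 32) j)
noncomputable def tJ_s33_36 (j : Nat) : Nat := @Bool.rec (fun _ => Nat) tJ_P33 (@Bool.rec (fun _ => Nat) tJ_P34 tJ_P35 (Nat.ble (nat_lit 35) j)) (Nat.ble (nat_lit 34) j)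
noncomputable def tJ_s36_39 (j : Nat) : Nat := @Bool.rec (fun _ => Nat) tJ_P36 (@Bool.rec (fun _ => Nat) tJ_P37 tJ_P38 (Nat.ble (nat_lit 38) j)) (Nat.ble (nat_lit 37) j)
noncomputable def tJ_s39_42 (j : Nat) : Nat := @Bool.rec (fun _ => Nat) tJ_P39 (@Bool.rec (fun _ => Nat) tJ_P40 tJ_P41 (Nat.ble (nat_lit 41) j)) (Nat.ble (nat_lit 40) j)
noncomputable def tJ_s21_42 (j : Nat) : Nat := @Bool.rec (fun _ => Nat) (@Bool.rec (fun _ => Nat) (@Bool.rec (fun _ => Nat) (tJ_s21_23 j) (tJ_s23_26 j) (Nat.ble (nat_lit 23) j)) (@Bool.rec (fun _ => Nat) (tJ_s26_28 j) (tJ_s28_31 j) (Nat.ble (nat_lit 28) j)) (Nat.ble (nat_lit 26) j)) (@Bool.rec (fun _ => Nat) (@Bool.rec (fun _ => Nat) (tJ_s31_33 j) (tJ_s33_36 j) (Nat.ble (nat_lit 33) j)) (@Bool.rec (fun _ => Nat) (tJ_s36_39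 j) (tJ_s39_42 j) (Nat.ble (nat_lit 39) j)) (Nat.ble (nat_lit 36) j)) (Nat.ble (nat_lit 31) j)
noncomputable def tJ_s42_44 (j : Nat) : Nat := @Bool.rec (fun _ => Nat) tJ_P42 tJ_P43 (Nat.ble (nat_lit 43) j)
noncomputable def tJ_s44_47 (j : Nat) : Nat := @Bool.rec (fun _ => Nat) tJ_P44 (@Bool.rec (fun _ => Nat) tJ_P45 tJ_P46 (Nat.ble (nat_lit 46) j)) (Nat.ble (nat_lit 45) j)
noncomputable def tJ_s47_49 (j : Nat) : Nat := @Bool.rec (fun _ => Nat) tJ_P47 tJ_P48 (Nat.ble (nat_lit 48) j)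
noncomputable def tJ_s49_52 (j : Nat) : Nat := @Bool.rec (fun _ => Nat) tJ_P49 (@Bool.rec (fun _ => Nat) tJ_P50 tJ_P51 (Nat.ble (nat_lit 51) j)) (Nat.ble (nat_lit 50) j)
noncomputable def tJ_s52_54 (j : Nat) : Nat := @Bool.rec (fun _ => Nat) tJ_P52 tJ_P53 (Nat.ble (nat_lit 53) j)
noncomputable def tJ_s54_57 (j : Nat) : Nat := @Bool.rec (fun _ => Nat) tJ_P54 (@Bool.rec (fun _ => Nat) tJ_P55 tJ_P56 (Nat.ble (nat_lit 56) j)) (Nat.ble (nat_lit 55) j)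
noncomputable def tJ_s57_60 (j : Nat) : Nat := @Bool.rec (fun _ => Nat) tJ_P57 (@Bool.rec (fun _ => Nat) tJ_P58 tJ_P59 (Nat.ble (nat_lit 59) j)) (Nat.ble (nat_lit 58) j)
noncomputable def tJ_s60_63 (j : Nat) : Nat := @Bool.rec (fun _ => Nat) tJ_P60 (@Bool.rec (fun _ => Nat) tJ_P61 tJ_P62 (Nat.ble (nat_lit 62) j)) (Nat.ble (nat_lit 61) j)
noncomputable def tJ_s42_63 (j : Nat) : Nat := @Bool.rec (fun _ => Nat) (@Bool.rec (fun _ => Nat) (@Bool.rec (fun _ => Nat) (tJ_s42_44 j) (tJ_s44_47 j) (Nat.ble (nat_lit 44) j)) (@Bool.rec (fun _ => Nat) (tJ_s47_49 j) (tJ_s49_52 j) (Nat.ble (nat_lit 49) j)) (Nat.ble (nat_lit 47) j)) (@Bool.rec (fun _ => Nat) (@Bool.rec (fun _ => Nat) (tJ_s52_54 j) (tJ_s54_57 j) (Nat.ble (nat_lit 54) j)) (@Bool.rec (fun _ => Nat) (tJ_s57_60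 j) (tJ_s60_63 j) (Nat.ble (nat_lit 60) j)) (Nat.ble (nat_lit 57) j)) (Nat.ble (nat_lit 52) j)
noncomputable def tJ_s63_65 (j : Nat) : Nat := @Bool.rec (fun _ => Nat) tJ_P63 tJ_P64 (Nat.ble (nat_lit 64) j)
noncomputable def tJ_s65_68 (j : Nat) : Nat := @Bool.rec (fun _ => Nat) tJ_P65 (@Bool.rec (fun _ => Nat) tJ_P66 tJ_P67 (Nat.ble (nat_lit 67) j)) (Nat.ble (nat_lit 66) j)
noncomputable def tJ_s68_70 (j : Nat) : Nat := @Bool.rec (fun _ => Nat) tJ_P68 tJ_P69 (Nat.ble (nat_lit 69) j)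
noncomputable def tJ_s70_73 (j : Nat) : Nat := @Bool.rec (fun _ => Nat) tJ_P70 (@Bool.rec (fun _ => Nat) tJ_P71 tJ_P72 (Nat.ble (nat_lit 72) j)) (Nat.ble (nat_lit 71) j)
noncomputable def tJ_s73_75 (j : Nat) : Nat := @Bool.rec (fun _ => Nat) tJ_P73 tJ_P74 (Nat.ble (nat_lit 74) j)
noncomputable def tJ_s75_78 (j : Nat) : Nat := @Bool.rec (fun _ => Nat) tJ_P75 (@Bool.rec (fun _ => Nat) tJ_P76 tJ_P77 (Nat.ble (nat_lit 77) j)) (Nat.ble (nat_lit 76) j)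
noncomputable def tJ_s78_81 (j : Nat) : Nat := @Bool.rec (fun _ => Nat) tJ_P78 (@Bool.rec (fun _ => Nat) tJ_P79 tJ_P80 (Nat.ble (nat_lit 80) j)) (Nat.ble (nat_lit 79) j)
noncomputable def tJ_s81_84 (j : Nat) : Nat := @Bool.rec (fun _ => Nat) tJ_P81 (@Bool.rec (fun _ => Nat) tJ_P82 tJ_P83 (Nat.ble (nat_lit 83) j)) (Nat.ble (nat_lit 82) j)
noncomputable def tJ_s63_84 (j : Nat) : Nat := @Bool.rec (fun _ => Nat) (@Bool.rec (fun _ => Nat) (@Bool.rec (fun _ => Nat) (tJ_s63_65 j) (tJ_s65_68 j) (Nat.ble (nat_lit 65) j)) (@Bool.rec (fun _ => Nat) (tJ_s68_70 j) (tJ_s70_73 j) (Nat.ble (nat_lit 70) j)) (Nat.ble (nat_lit 68) j)) (@Bool.rec (fun _ => Nat) (@Bool.rec (fun _ => Nat) (tJ_s73_75 j) (tJ_s75_78 j) (Nat.ble (nat_lit 75) j)) (@Bool.rec (fun _ => Nat) (tJ_s78_81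 j) (tJ_s81_84 j) (Nat.ble (nat_lit 81) j)) (Nat.ble (nat_lit 78) j)) (Nat.ble (nat_lit 73) j)
noncomputable def tJ_s84_86 (j : Nat) : Nat := @Bool.rec (fun _ => Nat) tJ_P84 tJ_P85 (Nat.ble (nat_lit 85) j)
noncomputable def tJ_s86_89 (j : Nat) : Nat := @Bool.rec (fun _ => Nat) tJ_P86 (@Bool.rec (fun _ => Nat) tJ_P87 tJ_P88 (Nat.ble (nat_lit 88) j)) (Nat.ble (nat_lit 87) j)
noncomputable def tJ_s89_91 (j : Nat) : Nat := @Bool.rec (fun _ => Nat) tJ_P89 tJ_P90 (Nat.ble (nat_lit 90) j)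
noncomputable def tJ_s91_94 (j : Nat) : Nat := @Bool.rec (fun _ => Nat) tJ_P91 (@Bool.rec (fun _ => Nat) tJ_P92 tJ_P93 (Nat.ble (nat_lit 93) j)) (Nat.ble (nat_lit 92) j)
noncomputable def tJ_s94_96 (j : Nat) : Nat := @Bool.rec (fun _ => Nat) tJ_P94 tJ_P95 (Nat.ble (nat_lit 95) j)
noncomputable def tJ_s96_99 (j : Nat) : Nat := @Bool.rec (fun _ => Nat) tJ_P96 (@Bool.rec (fun _ => Nat) tJ_P97 tJ_P98 (Nat.ble (nat_lit 98) j)) (Nat.ble (nat_lit 97) j)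
noncomputable def tJ_s99_102 (j : Nat) : Nat := @Bool.rec (fun _ => Nat) tJ_P99 (@Bool.rec (fun _ => Nat) tJ_P100 tJ_P101 (Nat.ble (nat_lit 101) j)) (Nat.ble (nat_lit 100) j)
noncomputable def tJ_s102_105 (j : Nat) : Nat := @Bool.rec (fun _ => Nat) tJ_P102 (@Bool.rec (fun _ => Nat) tJ_P103 tJ_P104 (Nat.ble (nat_lit 104) j)) (Nat.ble (nat_lit 103) j)
noncomputable def tJ_s84_105 (j : Nat) : Nat := @Bool.rec (fun _ => Nat) (@Bool.rec (fun _ => Nat) (@Bool.rec (fun _ => Nat) (tJ_s84_86 j) (tJ_s86_89 j) (Nat.ble (nat_lit 86) j)) (@Bool.rec (fun _ => Nat) (tJ_s89_91 j) (tJ_s91_94 j) (Nat.ble (nat_lit 91) j)) (Nat.ble (nat_lit 89) j)) (@Bool.rec (fun _ => Nat) (@Bool.rec (fun _ => Nat) (tJ_s94_96 j) (tJ_s96_99 j) (Nat.ble (nat_lit 96) j)) (@Bool.rec (fun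 _ => Nat) (tJ_s99_102 j) (tJ_s102_105 j) (Nat.ble (nat_lit 102) j)) (Nat.ble (nat_lit 99) j)) (Nat.ble (nat_lit 94) j)
noncomputable def tJ_s105_107 (j : Nat) : Nat := @Bool.rec (fun _ => Nat) tJ_P105 tJ_P106 (Nat.ble (nat_lit 106) j)
noncomputable def tJ_s107_110 (j : Nat) : Nat := @Bool.rec (fun _ => Nat) tJ_P107 (@Bool.rec (fun _ => Nat) tJ_P108 tJ_P109 (Nat.ble (nat_lit 109) j)) (Nat.ble (nat_lit 108) j)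
noncomputable def tJ_s110_112 (j : Nat) : Nat := @Bool.rec (fun _ => Nat) tJ_P110 tJ_P111 (Nat.ble (nat_lit 111) j)
noncomputable def tJ_s112_115 (j : Nat) : Nat := @Bool.rec (fun _ => Nat) tJ_P112 (@Bool.rec (fun _ => Nat) tJ_P113 tJ_P114 (Nat.ble (nat_lit 114) j)) (Nat.ble (nat_lit 113) j)
noncomputable def tJ_s115_117 (j : Nat) : Nat := @Bool.rec (fun _ => Nat) tJ_P115 tJ_P116 (Nat.ble (nat_lit 116) j)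
noncomputable def tJ_s117_120 (j : Nat) : Nat := @Bool.rec (fun _ => Nat) tJ_P117 (@Bool.rec (fun _ => Nat) tJ_P118 tJ_P119 (Nat.ble (nat_lit 119) j)) (Nat.ble (nat_lit 118) j)
noncomputable def tJ_s120_123 (j : Nat) : Nat := @Bool.rec (fun _ => Nat) tJ_P120 (@Bool.rec (fun _ => Nat) tJ_P121 tJ_P122 (Nat.ble (nat_lit 122) j)) (Nat.ble (nat_lit 121) j)
noncomputable def tJ_s123_126 (j : Nat) : Nat := @Bool.rec (fun _ => Nat) tJ_P123 (@Bool.rec (fun _ => Nat) tJ_P124 tJ_P125 (Nat.ble (nat_lit 125) j)) (Nat.ble (nat_lit 124) j)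
noncomputable def tJ_s105_126 (j : Nat) : Nat := @Bool.rec (fun _ => Nat) (@Bool.rec (fun _ => Nat) (@Bool.rec (fun _ => Nat) (tJ_s105_107 j) (tJ_s107_110 j) (Nat.ble (nat_lit 107) j)) (@Bool.rec (fun _ => Nat) (tJ_s110_112 j) (tJ_s112_115 j) (Nat.ble (nat_lit 112) j)) (Nat.ble (nat_lit 110) j)) (@Bool.rec (fun _ => Nat) (@Bool.rec (fun _ => Nat) (tJ_s115_117 j) (tJ_s117_120 j) (Nat.ble (nat_lit 117) j)) (@Bool.rec (fun _ => Nat) (tJ_s120_123 j) (tJ_s123_126 j) (Nat.ble (nat_lit 123) j)) (Nat.ble (nat_lit 120) j)) (Nat.ble (nat_lit 115) j)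
noncomputable def tJ_s126_128 (j : Nat) : Nat := @Bool.rec (fun _ => Nat) tJ_P126 tJ_P127 (Nat.ble (nat_lit 127) j)
noncomputable def tJ_s128_131 (j : Nat) : Nat := @Bool.rec (fun _ => Nat) tJ_P128 (@Bool.rec (fun _ => Nat) tJ_P129 tJ_P130 (Nat.ble (nat_lit 130) j)) (Nat.ble (nat_lit 129) j)
noncomputable def tJ_s131_133 (j : Nat) : Nat := @Bool.rec (fun _ => Nat) tJ_P131 tJ_P132 (Nat.ble (nat_lit 132) j)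
noncomputable def tJ_s133_136 (j : Nat) : Nat := @Bool.rec (fun _ => Nat) tJ_P133 (@Bool.rec (fun _ => Nat) tJ_P134 tJ_P135 (Nat.ble (nat_lit 135) j)) (Nat.ble (nat_lit 134) j)
noncomputable def tJ_s136_138 (j : Nat) : Nat := @Bool.rec (fun _ => Nat) tJ_P136 tJ_P137 (Nat.ble (nat_lit 137) j)
noncomputable def tJ_s138_141 (j : Nat) : Nat := @Bool.rec (fun _ => Nat) tJ_P138 (@Bool.rec (fun _ => Nat) tJ_P139 tJ_P140 (Nat.ble (nat_lit 140) j)) (Nat.ble (nat_lit 139) j)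
noncomputable def tJ_s141_144 (j : Nat) : Nat := @Bool.rec (fun _ => Nat) tJ_P141 (@Bool.rec (fun _ => Nat) tJ_P142 tJ_P143 (Nat.ble (nat_lit 143) j)) (Nat.ble (nat_lit 142) j)
noncomputable def tJ_s144_147 (j : Nat) : Nat := @Bool.rec (fun _ => Nat) tJ_P144 (@Bool.rec (fun _ => Nat) tJ_P145 tJ_P146 (Nat.ble (nat_lit 146) j)) (Nat.ble (nat_lit 145) j)
noncomputable def tJ_s126_147 (j : Nat) : Nat := @Bool.rec (fun _ => Nat) (@Bool.rec (fun _ => Nat) (@Bool.rec (fun _ => Nat) (tJ_s126_128 j) (tJ_s128_131 j) (Nat.ble (nat_lit 128) j)) (@Bool.rec (fun _ => Nat) (tJ_s131_133 j) (tJ_s133_136 j) (Nat.ble (nat_lit 133) j)) (Nat.ble (nat_lit 131) j)) (@Bool.rec (fun _ => Nat) (@Bool.rec (fun _ => Nat) (tJ_s136_138 j) (tJ_s138_141 j) (Nat.ble (nat_lit 138) j))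 (@Bool.rec (fun _ => Nat) (tJ_s141_144 j) (tJ_s144_147 j) (Nat.ble (nat_lit 144) j)) (Nat.ble (nat_lit 141) j)) (Nat.ble (nat_lit 136) j)
noncomputable def tJ_s147_149 (j : Nat) : Nat := @Bool.rec (fun _ => Nat) tJ_P147 tJ_P148 (Nat.ble (nat_lit 148) j)
noncomputable def tJ_s149_152 (j : Nat) : Nat := @Bool.rec (fun _ => Nat) tJ_P149 (@Bool.rec (fun _ => Nat) tJ_P150 tJ_P151 (Nat.ble (nat_lit 151) j)) (Nat.ble (nat_lit 150) j)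
noncomputable def tJ_s152_155 (j : Nat) : Nat := @Bool.rec (fun _ => Nat) tJ_P152 (@Bool.rec (fun _ => Nat) tJ_P153 tJ_P154 (Nat.ble (nat_lit 154) j)) (Nat.ble (nat_lit 153) j)
noncomputable def tJ_s155_158 (j : Nat) : Nat := @Bool.rec (fun _ => Nat) tJ_P155 (@Bool.rec (fun _ => Nat) tJ_P156 tJ_P157 (Nat.ble (nat_lit 157) j)) (Nat.ble (nat_lit 156) j)
noncomputable def tJ_s158_160 (j : Nat) : Nat := @Bool.rec (fun _ => Nat) tJ_P158 tJ_P159 (Nat.ble (nat_lit 159) j)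
noncomputable def tJ_s160_163 (j : Nat) : Nat := @Bool.rec (fun _ => Nat) tJ_P160 (@Bool.rec (fun _ => Nat) tJ_P161 tJ_P162 (Nat.ble (nat_lit 162) j)) (Nat.ble (nat_lit 161) j)
noncomputable def tJ_s163_166 (j : Nat) : Nat := @Bool.rec (fun _ => Nat) tJ_P163 (@Bool.rec (fun _ => Nat) tJ_P164 tJ_P165 (Nat.ble (nat_lit 165) j)) (Nat.ble (nat_lit 164) j)
noncomputable def tJ_s166_169 (j : Nat) : Nat := @Bool.rec (fun _ => Nat) tJ_P166 (@Bool.rec (fun _ => Nat) tJ_P167 tJ_P168 (Nat.ble (nat_lit 168) j)) (Nat.ble (nat_lit 167) j)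
noncomputable def tJ_s147_169 (j : Nat) : Nat := @Bool.rec (fun _ => Nat) (@Bool.rec (fun _ => Nat) (@Bool.rec (fun _ => Nat) (tJ_s147_149 j) (tJ_s149_152 j) (Nat.ble (nat_lit 149) j)) (@Bool.rec (fun _ => Nat) (tJ_s152_155 j) (tJ_s155_158 j) (Nat.ble (nat_lit 155) j)) (Nat.ble (nat_lit 152) j)) (@Bool.rec (fun _ => Nat) (@Bool.rec (fun _ => Nat) (tJ_s158_160 j) (tJ_s160_163 j) (Nat.ble (nat_lit 160) j)) (@Bool.rec (fun _ => Nat) (tJ_s163_166 j) (tJ_s166_169 j) (Nat.ble (nat_lit 166) j)) (Nat.ble (nat_lit 163) j)) (Nat.ble (nat_lit 158) j)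
noncomputable def tJ_s0_169 (j : Nat) : Nat := @Bool.rec (fun _ => Nat) (@Bool.rec (fun _ => Nat) (@Bool.rec (fun _ => Nat) (tJ_s0_21 j) (tJ_s21_42 j) (Nat.ble (nat_lit 21) j)) (@Bool.rec (fun _ => Nat) (tJ_s42_63 j) (tJ_s63_84 j) (Nat.ble (nat_lit 63) j)) (Nat.ble (nat_lit 42) j)) (@Bool.rec (fun _ => Nat) (@Bool.rec (fun _ => Nat) (tJ_s84_105 j) (tJ_s105_126 j) (Nat.ble (nat_lit 105) j)) (@Bool.rec (fun _ => Nat) (tJ_s126_147 j) (tJ_s147_169 j) (Nat.ble (nat_lit 147) j)) (Nat.ble (nat_lit 126) j)) (Nat.ble (nat_lit 84) j)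
noncomputable def tJ (i : Nat) : Nat := Nat.land (Nat.shiftRight (tJ_s0_169 (Nat.div i (nat_lit 2048))) (tJ_O i)) (nat_lit 31658291388557380359744322690514840324496812684955115509000071179890844813636078997800499335839109758668501942530065835436974724391264154875845907853042325493325666835033489407)

noncomputable def rels : List (List Nat) := [[0, 0, 0, 0, 0], [2, 2, 2, 2, 2], [4, 4, 4, 4, 4], [6, 6, 6, 6, 6], [0, 0, 2, 0, 2, 1, 2, 2, 0, 0, 2, 0, 3, 1, 1, 3, 3, 0, 3, 1, 3, 1, 1, 0], [0, 0, 2, 0, 2, 1, 2, 2, 0, 0, 2, 2, 3, 1, 1, 3, 3, 0, 3, 1, 3, 1, 1, 2], [5, 3, 4, 1, 3, 4, 2, 5, 2, 0, 5, 2, 4, 1], [5, 5, 0, 3, 5, 5, 2, 4, 4, 2, 1, 4, 4, 0], [0, 0, 4, 1, 5, 5, 4, 4, 4, 0, 5, 1, 1, 4], [0, 4, 1, 2, 1, 2, 4, 3, 0, 3, 0, 5, 1, 5], [0, 4, 4, 2, 1, 2, 4,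 3, 0, 3, 5, 5, 1, 4], [1, 1, 2, 1, 4, 3, 4, 2, 5, 0, 3, 0, 0, 5], [1, 4, 2, 1, 4, 3, 4, 2, 5, 0, 3, 5, 0, 4], [1, 5, 2, 1, 4, 3, 4, 2, 5, 0, 3, 4, 0, 0, 0], [6, 1, 1, 5, 1, 5, 0, 7, 2, 6, 1, 4, 0, 4, 0, 0, 7, 3], [5, 1, 1, 5, 1, 5, 0, 7, 4, 6, 1, 4, 0, 4, 0, 0, 4, 7], [2, 5, 5, 7, 5, 5, 7, 3, 0, 2, 6, 4, 4, 6, 4, 4, 3, 1], [2, 6, 5, 7, 5, 6, 4, 3, 6, 2, 5, 7, 4, 6, 4, 7, 3, 7], [5, 6, 5, 7, 5, 6, 4, 4, 0, 5, 5, 7, 4, 6, 4, 7, 4, 1], [6, 6, 5, 7, 5, 6, 4, 7, 0, 6, 5, 7, 4, 6, 4, 7, 7, 1], [5, 6, 5, 7, 5, 6, 5, 1, 4, 0, 4, 7, 4, 6, 4, 7, 4, 1, 1], [1, 6, 5, 7, 5, 6, 5, 5, 0, 4, 4, 7, 4, 6, 4, 7, 0, 4, 4], [0, 7, 5, 7, 5, 7, 0, 4, 2, 5, 1, 6, 4, 6, 4, 6, 1, 3], [0, 7, 5, 7, 5, 7, 0, 4, 6, 5, 1, 6, 4, 6, 4, 6, 1, 7], [0, 7, 5, 7, 5, 7, 0, 7, 4, 6, 1, 6,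 4, 6, 4, 6, 1, 7], [1, 6, 4, 7, 5, 7, 4, 0, 6, 1, 5, 6, 4, 6, 5, 7, 0, 7], [3, 4, 1, 1, 1, 1, 4, 0, 2, 6, 3, 1, 5, 0, 0, 0, 0, 5, 2, 7], [2, 4, 1, 1, 1, 1, 4, 0, 3, 6, 2, 1, 5, 0, 0, 0, 0, 5, 3, 7], [4, 4, 1, 1, 1, 1, 4, 0, 5, 6, 4, 1, 5, 0, 0, 0, 0, 5, 5, 7], [5, 6, 6, 2, 1, 2, 0, 3, 6, 0, 7, 2, 1, 3, 0, 3, 7, 7, 4, 0], [1, 3, 5, 5, 1, 2, 4, 1, 1, 6, 0, 0, 5, 3, 0, 4, 4, 2, 0, 6], [3, 3, 4, 4, 2, 5, 3, 7, 7, 4, 6, 6, 2, 4, 3, 5, 5, 2, 2, 6], [6, 1, 3, 1, 2, 7, 2, 7, 2, 6, 3, 6, 3, 6, 3, 0, 2, 0, 7, 2], [2, 4, 0, 0, 3, 0, 0, 5, 6, 0, 7, 4, 1, 1, 2, 1, 1, 5, 3, 7, 7], [2, 1, 3, 0, 3, 7, 5, 2, 1, 2, 0, 3, 4, 6, 2, 1, 2, 0, 3, 6, 6], [1, 1, 4, 1, 4, 0, 0, 0, 6, 4, 7, 1, 1, 1, 5, 0, 5, 0, 0, 7], [2, 5, 0, 6, 4, 4, 6, 3, 0, 4, 1, 2, 7, 5, 5, 7, 1, 4, 3,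 1, 1], [0, 5, 5, 6, 4, 4, 6, 5, 1, 6, 0, 4, 7, 5, 5, 7, 4, 4, 1, 7], [3, 0, 2, 6, 4, 4, 6, 5, 2, 0, 3, 4, 7, 5, 5, 7, 3, 1, 2, 1], [3, 5, 5, 6, 4, 4, 6, 5, 2, 6, 3, 4, 7, 5, 5, 7, 4, 4, 2, 7], [3, 7, 4, 4, 4, 7, 5, 5, 2, 0, 3, 4, 4, 6, 5, 5, 5, 6, 2, 1], [2, 7, 4, 4, 4, 7, 5, 5, 3, 0, 2, 4, 4, 6, 5, 5, 5, 6, 3, 1], [7, 7, 4, 4, 4, 7, 5, 5, 6, 2, 7, 4, 4, 6, 5, 5, 5, 6, 6, 3], [2, 5, 5, 3, 5, 5, 2, 6, 5, 6, 4, 7, 3, 4, 4, 2, 4, 4, 3, 6], [2, 5, 5, 3, 5, 5, 2, 6, 6, 4, 7, 7, 3, 4, 4, 2, 4, 4, 3, 6], [4, 2, 5, 3, 5, 5, 3, 3, 4, 6, 5, 2, 2, 4, 4, 2, 4, 3, 5, 7], [7, 7, 5, 5, 5, 5, 5, 6, 6, 0, 7, 7, 4, 4, 4, 4, 4, 6, 6, 1], [7, 7, 5, 5, 5, 5, 5, 6, 6, 2, 7, 7, 4, 4, 4, 4, 4, 6, 6, 3], [1, 6, 5, 5, 5, 5, 5, 7, 0, 2, 1, 6, 4, 4, 4, 4, 4, 7, 0, 3], [2, 6, 5,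 5, 5, 5, 5, 7, 3, 0, 2, 6, 4, 4, 4, 4, 4, 7, 3, 1], [2, 6, 5, 5, 5, 5, 5, 7, 3, 6, 2, 6, 4, 4, 4, 4, 4, 7, 3, 7], [4, 2, 6, 5, 5, 5, 6, 3, 0, 2, 1, 2, 7, 4, 4, 4, 7, 3, 5, 1], [2, 2, 6, 5, 5, 5, 6, 3, 5, 2, 4, 2, 7, 4, 4, 4, 7, 3, 3, 5, 5], [1, 4, 6, 5, 5, 5, 6, 4, 0, 2, 1, 5, 7, 4, 4, 4, 7, 5, 0, 3], [0, 7, 7, 4, 7, 0, 2, 4, 0, 2, 1, 5, 3, 1, 6, 5, 6, 6, 1, 5, 5], [1, 7, 5, 5, 7, 4, 4, 1, 5, 2, 4, 0, 5, 5, 6, 4, 4, 6, 0, 3], [1, 7, 5, 5, 7, 4, 4, 1, 6, 4, 7, 0, 5, 5, 6, 4, 4, 6, 0, 7], [1, 7, 5, 5, 7, 4, 4, 4, 0, 2, 1, 5, 5, 5, 6, 4, 4, 6, 0, 3], [1, 7, 5, 5, 7, 4, 4, 4, 0, 6, 1, 5, 5, 5, 6, 4, 4, 6, 0, 7], [3, 7, 5, 5, 7, 4, 4, 4, 2, 6, 3, 5, 5, 5, 6, 4, 4, 6, 2, 7], [2, 7, 5, 5, 7, 4, 4, 4, 3, 0, 2, 5, 5, 5, 6, 4, 4, 6, 3, 1], [2, 7, 5, 5, 7, 4,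 4, 4, 3, 6, 2, 5, 5, 5, 6, 4, 4, 6, 3, 7], [7, 7, 5, 5, 7, 4, 4, 4, 6, 0, 7, 5, 5, 5, 6, 4, 4, 6, 6, 1], [7, 7, 5, 5, 7, 4, 4, 4, 6, 2, 7, 5, 5, 5, 6, 4, 4, 6, 6, 3], [7, 7, 5, 5, 7, 4, 7, 4, 0, 4, 1, 5, 6, 5, 6, 4, 4, 6, 6, 1, 1], [7, 7, 5, 5, 7, 4, 7, 4, 3, 4, 2, 5, 6, 5, 6, 4, 4, 6, 6, 2, 2], [0, 6, 6, 5, 7, 4, 7, 4, 4, 0, 5, 5, 6, 5, 6, 4, 7, 7, 1, 4, 4], [4, 3, 5, 1, 1, 2, 0, 2, 1, 6, 0, 7, 0, 3, 1, 3, 0, 0, 4, 2, 5, 6, 6], [6, 5, 6, 3, 0, 2, 1, 2, 5, 3, 6, 2, 4, 3, 0, 3, 1, 2, 7, 4, 7, 1, 1], [0, 3, 5, 1, 1, 2, 1, 7, 1, 7, 0, 6, 0, 6, 0, 3, 0, 0, 4, 2, 1, 7], [7, 2, 1, 4, 0, 3, 0, 5, 1, 7, 4, 6, 0, 4, 1, 2, 1, 5, 0, 3, 6, 0, 0], [5, 2, 1, 3, 0, 3, 4, 7, 2, 1, 2, 0, 3, 6, 5, 2, 1, 2, 0, 3, 4, 6, 6], [3, 3, 4, 4, 0, 3, 5, 1, 2, 1, 6, 0, 3, 0, 4,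 2, 1, 5, 5, 2, 2, 6], [4, 3, 6, 0, 3, 3, 5, 1, 7, 1, 4, 0, 6, 0, 4, 2, 2, 1, 7, 2, 5, 0, 0], [2, 4, 0, 5, 0, 3, 5, 1, 7, 1, 6, 0, 6, 0, 4, 2, 1, 4, 1, 5, 3, 7, 7], [1, 2, 4, 0, 0, 3, 5, 6, 2, 1, 4, 0, 3, 7, 4, 2, 1, 1, 5, 3, 0, 7], [5, 2, 1, 3, 0, 3, 6, 6, 2, 1, 2, 0, 3, 7, 7, 2, 1, 2, 0, 3, 4, 7, 7], [1, 4, 1, 1, 3, 4, 1, 6, 6, 0, 4, 1, 7, 7, 0, 5, 2, 0, 0, 5, 0, 6], [4, 4, 3, 5, 2, 4, 4, 3, 3, 7, 4, 6, 2, 2, 5, 5, 3, 4, 2, 5, 5, 7], [4, 3, 4, 4, 2, 4, 4, 3, 4, 4, 6, 5, 5, 2, 5, 5, 3, 5, 5, 2, 5, 7], [4, 3, 4, 4, 2, 4, 4, 3, 4, 7, 4, 6, 5, 2, 5, 5, 3, 5, 5, 2, 5, 7], [6, 3, 4, 4, 2, 4, 4, 3, 6, 0, 4, 1, 7, 2, 5, 5, 3, 5, 5, 2, 7, 1, 1], [6, 3, 4, 4, 2, 4, 4, 3, 6, 3, 4, 2, 7, 2, 5, 5, 3, 5, 5, 2, 7, 2, 2], [4, 3, 4, 4, 2, 4, 4, 3, 6, 5, 6, 4, 7, 2,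 5, 5, 3, 5, 5, 2, 5, 6], [4, 6, 0, 5, 0, 5, 0, 5, 7, 5, 0, 4, 6, 4, 1, 4, 1, 4, 1, 7, 5, 1], [4, 6, 0, 5, 0, 5, 0, 5, 7, 5, 2, 4, 6, 4, 1, 4, 1, 4, 1, 7, 5, 3], [4, 6, 0, 5, 0, 5, 0, 6, 4, 6, 0, 7, 5, 7, 1, 4, 1, 4, 1, 7, 5, 1], [4, 6, 0, 5, 0, 5, 0, 6, 4, 6, 2, 7, 5, 7, 1, 4, 1, 4, 1, 7, 5, 3]]
noncomputable def subs : List (List Nat) := [[0], [2], [4]]
noncomputable def rels2 : List (List (List Nat)) := [[[0, 0, 0, 0, 0], [2, 2, 2, 2, 2], [4, 4, 4, 4, 4], [6, 6, 6, 6, 6], [0, 0, 2, 0, 2, 1, 2, 2, 0, 0, 2, 0, 3, 1, 1, 3, 3, 0, 3, 1, 3, 1, 1, 0], [0, 0, 2, 0, 2, 1, 2, 2, 0, 0, 2, 2, 3, 1, 1, 3, 3, 0, 3, 1, 3, 1, 1, 2], [5, 3, 4, 1, 3, 4, 2, 5, 2, 0, 5, 2, 4, 1], [5, 5, 0, 3, 5, 5, 2, 4, 4, 2, 1, 4, 4, 0]], [[0, 0, 4, 1, 5, 5, 4, 4, 4, 0, 5, 1, 1, 4],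 [0, 4, 1, 2, 1, 2, 4, 3, 0, 3, 0, 5, 1, 5], [0, 4, 4, 2, 1, 2, 4, 3, 0, 3, 5, 5, 1, 4], [1, 1, 2, 1, 4, 3, 4, 2, 5, 0, 3, 0, 0, 5], [1, 4, 2, 1, 4, 3, 4, 2, 5, 0, 3, 5, 0, 4], [1, 5, 2, 1, 4, 3, 4, 2, 5, 0, 3, 4, 0, 0, 0], [6, 1, 1, 5, 1, 5, 0, 7, 2, 6, 1, 4, 0, 4, 0, 0, 7, 3], [5, 1, 1, 5, 1, 5, 0, 7, 4, 6, 1, 4, 0, 4, 0, 0, 4, 7]], [[2, 5, 5, 7, 5, 5, 7, 3, 0, 2, 6, 4, 4, 6, 4, 4, 3, 1], [2, 6, 5, 7, 5, 6, 4, 3, 6, 2, 5, 7, 4, 6, 4, 7, 3, 7], [5, 6, 5, 7, 5, 6, 4, 4, 0, 5, 5, 7, 4, 6, 4, 7, 4, 1], [6, 6, 5, 7, 5, 6, 4, 7, 0, 6, 5, 7, 4, 6, 4, 7, 7, 1], [5, 6, 5, 7, 5, 6, 5, 1, 4, 0, 4, 7, 4, 6, 4, 7, 4, 1, 1], [1, 6, 5, 7, 5, 6, 5, 5, 0, 4, 4, 7, 4, 6, 4, 7, 0, 4, 4], [0, 7, 5, 7, 5, 7, 0, 4, 2, 5, 1, 6, 4, 6, 4, 6, 1, 3], [0, 7, 5, 7, 5, 7, 0, 4,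 6, 5, 1, 6, 4, 6, 4, 6, 1, 7]], [[0, 7, 5, 7, 5, 7, 0, 7, 4, 6, 1, 6, 4, 6, 4, 6, 1, 7], [1, 6, 4, 7, 5, 7, 4, 0, 6, 1, 5, 6, 4, 6, 5, 7, 0, 7], [3, 4, 1, 1, 1, 1, 4, 0, 2, 6, 3, 1, 5, 0, 0, 0, 0, 5, 2, 7], [2, 4, 1, 1, 1, 1, 4, 0, 3, 6, 2, 1, 5, 0, 0, 0, 0, 5, 3, 7], [4, 4, 1, 1, 1, 1, 4, 0, 5, 6, 4, 1, 5, 0, 0, 0, 0, 5, 5, 7], [5, 6, 6, 2, 1, 2, 0, 3, 6, 0, 7, 2, 1, 3, 0, 3, 7, 7, 4, 0], [1, 3, 5, 5, 1, 2, 4, 1, 1, 6, 0, 0, 5, 3, 0, 4, 4, 2, 0, 6], [3, 3, 4, 4, 2, 5, 3, 7, 7, 4, 6, 6, 2, 4, 3, 5, 5, 2, 2, 6]], [[6, 1, 3, 1, 2, 7, 2, 7, 2, 6, 3, 6, 3, 6, 3, 0, 2, 0, 7, 2], [2, 4, 0, 0, 3, 0, 0, 5, 6, 0, 7, 4, 1, 1, 2, 1, 1, 5, 3, 7, 7], [2, 1, 3, 0, 3, 7, 5, 2, 1, 2, 0, 3, 4, 6, 2, 1, 2, 0, 3, 6, 6], [1, 1, 4, 1, 4, 0, 0, 0, 6, 4, 7, 1, 1, 1, 5, 0,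 5, 0, 0, 7], [2, 5, 0, 6, 4, 4, 6, 3, 0, 4, 1, 2, 7, 5, 5, 7, 1, 4, 3, 1, 1], [0, 5, 5, 6, 4, 4, 6, 5, 1, 6, 0, 4, 7, 5, 5, 7, 4, 4, 1, 7], [3, 0, 2, 6, 4, 4, 6, 5, 2, 0, 3, 4, 7, 5, 5, 7, 3, 1, 2, 1], [3, 5, 5, 6, 4, 4, 6, 5, 2, 6, 3, 4, 7, 5, 5, 7, 4, 4, 2, 7]], [[3, 7, 4, 4, 4, 7, 5, 5, 2, 0, 3, 4, 4, 6, 5, 5, 5, 6, 2, 1], [2, 7, 4, 4, 4, 7, 5, 5, 3, 0, 2, 4, 4, 6, 5, 5, 5, 6, 3, 1], [7, 7, 4, 4, 4, 7, 5, 5, 6, 2, 7, 4, 4, 6, 5, 5, 5, 6, 6, 3], [2, 5, 5, 3, 5, 5, 2, 6, 5, 6, 4, 7, 3, 4, 4, 2, 4, 4, 3, 6], [2, 5, 5, 3, 5, 5, 2, 6, 6, 4, 7, 7, 3, 4, 4, 2, 4, 4, 3, 6], [4, 2, 5, 3, 5, 5, 3, 3, 4, 6, 5, 2, 2, 4, 4, 2, 4, 3, 5, 7], [7, 7, 5, 5, 5, 5, 5, 6, 6, 0, 7, 7, 4, 4, 4, 4, 4, 6, 6, 1], [7, 7, 5, 5, 5, 5, 5, 6, 6, 2, 7, 7, 4, 4, 4, 4, 4, 6, 6, 3]],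 [[1, 6, 5, 5, 5, 5, 5, 7, 0, 2, 1, 6, 4, 4, 4, 4, 4, 7, 0, 3], [2, 6, 5, 5, 5, 5, 5, 7, 3, 0, 2, 6, 4, 4, 4, 4, 4, 7, 3, 1], [2, 6, 5, 5, 5, 5, 5, 7, 3, 6, 2, 6, 4, 4, 4, 4, 4, 7, 3, 7], [4, 2, 6, 5, 5, 5, 6, 3, 0, 2, 1, 2, 7, 4, 4, 4, 7, 3, 5, 1], [2, 2, 6, 5, 5, 5, 6, 3, 5, 2, 4, 2, 7, 4, 4, 4, 7, 3, 3, 5, 5], [1, 4, 6, 5, 5, 5, 6, 4, 0, 2, 1, 5, 7, 4, 4, 4, 7, 5, 0, 3], [0, 7, 7, 4, 7, 0, 2, 4, 0, 2, 1, 5, 3, 1, 6, 5, 6, 6, 1, 5, 5], [1, 7, 5, 5, 7, 4, 4, 1, 5, 2, 4, 0, 5, 5, 6, 4, 4, 6, 0, 3]], [[1, 7, 5, 5, 7, 4, 4, 1, 6, 4, 7, 0, 5, 5, 6, 4, 4, 6, 0, 7], [1, 7, 5, 5, 7, 4, 4, 4, 0, 2, 1, 5, 5, 5, 6, 4, 4, 6, 0, 3], [1, 7, 5, 5, 7, 4, 4, 4, 0, 6, 1, 5, 5, 5, 6, 4, 4, 6, 0, 7], [3, 7, 5, 5, 7, 4, 4, 4, 2, 6, 3, 5, 5, 5, 6, 4, 4, 6, 2, 7], [2, 7,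 5, 5, 7, 4, 4, 4, 3, 0, 2, 5, 5, 5, 6, 4, 4, 6, 3, 1], [2, 7, 5, 5, 7, 4, 4, 4, 3, 6, 2, 5, 5, 5, 6, 4, 4, 6, 3, 7], [7, 7, 5, 5, 7, 4, 4, 4, 6, 0, 7, 5, 5, 5, 6, 4, 4, 6, 6, 1], [7, 7, 5, 5, 7, 4, 4, 4, 6, 2, 7, 5, 5, 5, 6, 4, 4, 6, 6, 3]], [[7, 7, 5, 5, 7, 4, 7, 4, 0, 4, 1, 5, 6, 5, 6, 4, 4, 6, 6, 1, 1], [7, 7, 5, 5, 7, 4, 7, 4, 3, 4, 2, 5, 6, 5, 6, 4, 4, 6, 6, 2, 2], [0, 6, 6, 5, 7, 4, 7, 4, 4, 0, 5, 5, 6, 5, 6, 4, 7, 7, 1, 4, 4], [4, 3, 5, 1, 1, 2, 0, 2, 1, 6, 0, 7, 0, 3, 1, 3, 0, 0, 4, 2, 5, 6, 6], [6, 5, 6, 3, 0, 2, 1, 2, 5, 3, 6, 2, 4, 3, 0, 3, 1, 2, 7, 4, 7, 1, 1], [0, 3, 5, 1, 1, 2, 1, 7, 1, 7, 0, 6, 0, 6, 0, 3, 0, 0, 4, 2, 1, 7], [7, 2, 1, 4, 0, 3, 0, 5, 1, 7, 4, 6, 0, 4, 1, 2, 1, 5, 0, 3, 6, 0, 0], [5, 2, 1, 3, 0, 3, 4, 7, 2, 1, 2, 0, 3,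 6, 5, 2, 1, 2, 0, 3, 4, 6, 6]], [[3, 3, 4, 4, 0, 3, 5, 1, 2, 1, 6, 0, 3, 0, 4, 2, 1, 5, 5, 2, 2, 6], [4, 3, 6, 0, 3, 3, 5, 1, 7, 1, 4, 0, 6, 0, 4, 2, 2, 1, 7, 2, 5, 0, 0], [2, 4, 0, 5, 0, 3, 5, 1, 7, 1, 6, 0, 6, 0, 4, 2, 1, 4, 1, 5, 3, 7, 7], [1, 2, 4, 0, 0, 3, 5, 6, 2, 1, 4, 0, 3, 7, 4, 2, 1, 1, 5, 3, 0, 7], [5, 2, 1, 3, 0, 3, 6, 6, 2, 1, 2, 0, 3, 7, 7, 2, 1, 2, 0, 3, 4, 7, 7], [1, 4, 1, 1, 3, 4, 1, 6, 6, 0, 4, 1, 7, 7, 0, 5, 2, 0, 0, 5, 0, 6], [4, 4, 3, 5, 2, 4, 4, 3, 3, 7, 4, 6, 2, 2, 5, 5, 3, 4, 2, 5, 5, 7], [4, 3, 4, 4, 2, 4, 4, 3, 4, 4, 6, 5, 5, 2, 5, 5, 3, 5, 5, 2, 5, 7]], [[4, 3, 4, 4, 2, 4, 4, 3, 4, 7, 4, 6, 5, 2, 5, 5, 3, 5, 5, 2, 5, 7], [6, 3, 4, 4, 2, 4, 4, 3, 6, 0, 4, 1, 7, 2, 5, 5, 3, 5, 5, 2, 7, 1, 1], [6, 3, 4, 4, 2, 4, 4, 3, 6, 3, 4,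 2, 7, 2, 5, 5, 3, 5, 5, 2, 7, 2, 2], [4, 3, 4, 4, 2, 4, 4, 3, 6, 5, 6, 4, 7, 2, 5, 5, 3, 5, 5, 2, 5, 6], [4, 6, 0, 5, 0, 5, 0, 5, 7, 5, 0, 4, 6, 4, 1, 4, 1, 4, 1, 7, 5, 1], [4, 6, 0, 5, 0, 5, 0, 5, 7, 5, 2, 4, 6, 4, 1, 4, 1, 4, 1, 7, 5, 3], [4, 6, 0, 5, 0, 5, 0, 6, 4, 6, 0, 7, 5, 7, 1, 4, 1, 4, 1, 7, 5, 1], [4, 6, 0, 5, 0, 5, 0, 6, 4, 6, 2, 7, 5, 7, 1, 4, 1, 4, 1, 7, 5, 3]]]
noncomputable def cert : Cert := ⟨4, 4116, 345051, tF, tJ, tD, rels, subs, tT, tPP, tNO, tTAB, rels2, tORB, tORK, tOPAR, tROOT⟩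

end Cfsg.Agent.Lib.Helper28.Mo5cData
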