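import Cfsg.Agent.Lib.Helper28.ON6Data
import Cfsg.Agent.Lib.Helper28.TCFast

set_option autoImplicit false
set_option maxRecDepth 1000000
set_option linter.all false
set_option Elab.async false

namespace Cfsg.Agent.Lib.Helper28.ON6Data

open Cfsg.Agent.Lib.Helper28

theorem chkP_8700 : allRangeF (checkPointF cert) (nat_lit 8700) (nat_lit 100) = true := by decide +kernel
theorem chkP_8800 : allRangeF (checkPointF cert) (nat_lit 8800) (nat_lit 100) = true := by decide +kernel
theorem chkP_8900 : allRangeF (checkPointF cert) (nat_lit 8900) (nat_lit 100) = true := by decide +kernel
theorem chkP_9000 : allRangeF (checkPointF cert) (nat_lit 9000) (nat_lit 100) = true := by decide +kernel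
theorem chkP_9100 : allRangeF (checkPointF cert) (nat_lit 9100) (nat_lit 100) = true := by decide +kernel
theorem chkP_9200 : allRangeF (checkPointF cert) (nat_lit 9200) (nat_lit 100) = true := by decide +kernel
theorem chkP_9300 : allRangeF (checkPointF cert) (nat_lit 9300) (nat_lit 100) = true := by decide +kernel
theorem chkP_9400 : allRangeF (checkPointF cert) (nat_lit 9400) (nat_lit 100) = true := by decide +kernel
theorem chkP_9500 : allRangeF (checkPointF cert) (nat_lit 9500) (nat_lit 100) = true := by decide +kernel
theorem chkP_9600 : allRangeF (checkPointF cert) (nat_lit 9600) (nat_lit 100) = true := by decide +kernel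
theorem chkP_9700 : allRangeF (checkPointF cert) (nat_lit 9700) (nat_lit 100) = true := by decide +kernel
theorem chkP_9800 : allRangeF (checkPointF cert) (nat_lit 9800) (nat_lit 100) = true := by decide +kernel
theorem chkP_9900 : allRangeF (checkPointF cert) (nat_lit 9900) (nat_lit 100) = true := by decide +kernel
theorem chkP_10000 : allRangeF (checkPointF cert) (nat_lit 10000) (nat_lit 100) = true := by decide +kernel
theorem chkP_10100 : allRangeF (checkPointF cert) (nat_lit 10100) (nat_lit 100) = true := by decide +kernel
theorem chkP_10200 : allRangeF (checkPointF cert) (nat_lit 10200) (nat_lit 100) = true := by decide +kernel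
theorem chkP_10300 : allRangeF (checkPointF cert) (nat_lit 10300) (nat_lit 100) = true := by decide +kernel
theorem chkP_10400 : allRangeF (checkPointF cert) (nat_lit 10400) (nat_lit 100) = true := by decide +kernel
theorem chkP_10500 : allRangeF (checkPointF cert) (nat_lit 10500) (nat_lit 100) = true := by decide +kernel
theorem chkP_10600 : allRangeF (checkPointF cert) (nat_lit 10600) (nat_lit 100) = true := by decide +kernel
theorem chkP_10700 : allRangeF (checkPointF cert) (nat_lit 10700) (nat_lit 100) = true := by decide +kernel
theorem chkP_10800 : allRangeF (checkPointF cert) (nat_lit 10800) (nat_lit 100) = true := by decide +kernel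
theorem chkP_10900 : allRangeF (checkPointF cert) (nat_lit 10900) (nat_lit 100) = true := by decide +kernel
theorem chkP_11000 : allRangeF (checkPointF cert) (nat_lit 11000) (nat_lit 100) = true := by decide +kernel
theorem chkP_11100 : allRangeF (checkPointF cert) (nat_lit 11100) (nat_lit 100) = true := by decide +kernel
theorem chkP_11200 : allRangeF (checkPointF cert) (nat_lit 11200) (nat_lit 100) = true := by decide +kernel
theorem chkP_11300 : allRangeF (checkPointF cert) (nat_lit 11300) (nat_lit 100) = true := by decide +kernel
theorem chkP_11400 : allRangeF (checkPointF cert) (nat_lit 11400) (nat_lit 100) = true := by decide +kernel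
theorem chkP_11500 : allRangeF (checkPointF cert) (nat_lit 11500) (nat_lit 100) = true := by decide +kernel
theorem chkP_11600 : allRangeF (checkPointF cert) (nat_lit 11600) (nat_lit 100) = true := by decide +kernel
theorem chkP_11700 : allRangeF (checkPointF cert) (nat_lit 11700) (nat_lit 100) = true := by decide +kernel
theorem chkP_11800 : allRangeF (checkPointF cert) (nat_lit 11800) (nat_lit 100) = true := by decide +kernel
theorem chkP_11900 : allRangeF (checkPointF cert) (nat_lit 11900) (nat_lit 100) = true := by decide +kernel
theorem chkP_12000 : allRangeF (checkPointF cert) (nat_lit 12000) (nat_lit 100) = true := by decide +kernel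
theorem chkP_12100 : allRangeF (checkPointF cert) (nat_lit 12100) (nat_lit 100) = true := by decide +kernel
theorem chkP_12200 : allRangeF (checkPointF cert) (nat_lit 12200) (nat_lit 100) = true := by decide +kernel
theorem chkP_12300 : allRangeF (checkPointF cert) (nat_lit 12300) (nat_lit 100) = true := by decide +kernel
theorem chkP_12400 : allRangeF (checkPointF cert) (nat_lit 12400) (nat_lit 100) = true := by decide +kernel
theorem chkP_12500 : allRangeF (checkPointF cert) (nat_lit 12500) (nat_lit 100) = true := by decide +kernel
theorem chkP_12600 : allRangeF (checkPointF cert) (nat_lit 12600) (nat_lit 100) = true := by decide +kernel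
theorem chkP_12700 : allRangeF (checkPointF cert) (nat_lit 12700) (nat_lit 100) = true := by decide +kernel
theorem chkP_12800 : allRangeF (checkPointF cert) (nat_lit 12800) (nat_lit 100) = true := by decide +kernel
theorem chkP_12900 : allRangeF (checkPointF cert) (nat_lit 12900) (nat_lit 100) = true := by decide +kernel
theorem chkP_13000 : allRangeF (checkPointF cert) (nat_lit 13000) (nat_lit 100) = true := by decide +kernel
theorem chkP_13100 : allRangeF (checkPointF cert) (nat_lit 13100) (nat_lit 100) = true := by decide +kernel
theorem chkP_13200 : allRangeF (checkPointF cert) (nat_lit 13200) (nat_lit 100) = true := by decide +kernel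
theorem chkP_13300 : allRangeF (checkPointF cert) (nat_lit 13300) (nat_lit 100) = true := by decide +kernel
theorem chkP_13400 : allRangeF (checkPointF cert) (nat_lit 13400) (nat_lit 100) = true := by decide +kernel
theorem chkP_13500 : allRangeF (checkPointF cert) (nat_lit 13500) (nat_lit 100) = true := by decide +kernel
theorem chkP_13600 : allRangeF (checkPointF cert) (nat_lit 13600) (nat_lit 100) = true := by decide +kernel
theorem chkP_13700 : allRangeF (checkPointF cert) (nat_lit 13700) (nat_lit 100) = true := by decide +kernel
theorem chkP_13800 : allRangeF (checkPointF cert) (nat_lit 13800) (nat_lit 100) = true := by decide +kernel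
theorem chkP_13900 : allRangeF (checkPointF cert) (nat_lit 13900) (nat_lit 100) = true := by decide +kernel
theorem chkP_14000 : allRangeF (checkPointF cert) (nat_lit 14000) (nat_lit 100) = true := by decide +kernel
theorem chkP_14100 : allRangeF (checkPointF cert) (nat_lit 14100) (nat_lit 100) = true := by decide +kernel
theorem chkP_14200 : allRangeF (checkPointF cert) (nat_lit 14200) (nat_lit 100) = true := by decide +kernel
theorem chkP_14300 : allRangeF (checkPointF cert) (nat_lit 14300) (nat_lit 100) = true := by decide +kernel
theorem chkP_14400 : allRangeF (checkPointF cert) (nat_lit 14400) (nat_lit 100) = true := by decide +kernel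
theorem chkP_14500 : allRangeF (checkPointF cert) (nat_lit 14500) (nat_lit 100) = true := by decide +kernel
theorem chkP_14600 : allRangeF (checkPointF cert) (nat_lit 14600) (nat_lit 100) = true := by decide +kernel
theorem chkP_14700 : allRangeF (checkPointF cert) (nat_lit 14700) (nat_lit 100) = true := by decide +kernel
theorem chkP_14800 : allRangeF (checkPointF cert) (nat_lit 14800) (nat_lit 100) = true := by decide +kernel
theorem chkP_14900 : allRangeF (checkPointF cert) (nat_lit 14900) (nat_lit 100) = true := by decide +kernel
theorem chkP_15000 : allRangeF (checkPointF cert) (nat_lit 15000) (nat_lit 100) = true := by decide +kernel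
theorem chkP_15100 : allRangeF (checkPointF cert) (nat_lit 15100) (nat_lit 100) = true := by decide +kernel
theorem chkP_15200 : allRangeF (checkPointF cert) (nat_lit 15200) (nat_lit 100) = true := by decide +kernel
theorem chkP_15300 : allRangeF (checkPointF cert) (nat_lit 15300) (nat_lit 100) = true := by decide +kernel
theorem chkP_15400 : allRangeF (checkPointF cert) (nat_lit 15400) (nat_lit 100) = true := by decide +kernel
theorem chkP_15500 : allRangeF (checkPointF cert) (nat_lit 15500) (nat_lit 100) = true := by decide +kernel
theorem chkP_15600 : allRangeF (checkPointF cert) (nat_lit 15600) (nat_lit 100) = true := by decide +kernel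
theorem chkP_15700 : allRangeF (checkPointF cert) (nat_lit 15700) (nat_lit 100) = true := by decide +kernel
theorem chkP_15800 : allRangeF (checkPointF cert) (nat_lit 15800) (nat_lit 100) = true := by decide +kernel
theorem chkP_15900 : allRangeF (checkPointF cert) (nat_lit 15900) (nat_lit 100) = true := by decide +kernel
theorem chkP_16000 : allRangeF (checkPointF cert) (nat_lit 16000) (nat_lit 100) = true := by decide +kernel
theorem chkP_16100 : allRangeF (checkPointF cert) (nat_lit 16100) (nat_lit 100) = true := by decide +kernel
theorem chkP_16200 : allRangeF (checkPointF cert) (nat_lit 16200) (nat_lit 100) = true := by decide +kernel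
theorem chkP_16300 : allRangeF (checkPointF cert) (nat_lit 16300) (nat_lit 100) = true := by decide +kernel
theorem chkP_16400 : allRangeF (checkPointF cert) (nat_lit 16400) (nat_lit 100) = true := by decide +kernel
theorem chkP_16500 : allRangeF (checkPointF cert) (nat_lit 16500) (nat_lit 100) = true := by decide +kernel
theorem chkP_16600 : allRangeF (checkPointF cert) (nat_lit 16600) (nat_lit 100) = true := by decide +kernel
theorem chkP_16700 : allRangeF (checkPointF cert) (nat_lit 16700) (nat_lit 100) = true := by decide +kernel
theorem chkP_16800 : allRangeF (checkPointF cert) (nat_lit 16800) (nat_lit 100) = true := by decide +kernel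
theorem chkP_16900 : allRangeF (checkPointF cert) (nat_lit 16900) (nat_lit 100) = true := by decide +kernel
theorem chkP_17000 : allRangeF (checkPointF cert) (nat_lit 17000) (nat_lit 100) = true := by decide +kernel
theorem chkP_17100 : allRangeF (checkPointF cert) (nat_lit 17100) (nat_lit 100) = true := by decide +kernel
theorem chkP_17200 : allRangeF (checkPointF cert) (nat_lit 17200) (nat_lit 100) = true := by decide +kernel
theorem chkP_17300 : allRangeF (checkPointF cert) (nat_lit 17300) (nat_lit 100) = true := by decide +kernel

theorem ptsRange_1 : ∀ i, 8700 ≤ i → i < 17400 → checkPoint cert i = true := by
  intro i hlo hhi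
  rcases Nat.lt_or_ge i 13000 with h1 | h1
  · skip
    rcases Nat.lt_or_ge i 10800 with h2 | h2
    · skip
      rcases Nat.lt_or_ge i 9700 with h3 | h3
      · skip
        rcases Nat.lt_or_ge i 9200 with h4 | h4
        · skip
          rcases Nat.lt_or_ge i 8900 with h5 | h5
          · skip
            rcases Nat.lt_or_ge i 8800 with h6 | h6
            · skip
              exact allRangeF_sound _ _ (checkPointF_eq cert) 8700 100 chkP_8700 i (by omega) (by omega)
            · skip
              exact allRangeF_sound _ _ (checkPointF_eq cert) 8800 100 chkP_8800 i (by omega) (by omega)
          · skip
            rcases Nat.lt_or_ge i 9000 with h6 | h6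
            · skip
              exact allRangeF_sound _ _ (checkPointF_eq cert) 8900 100 chkP_8900 i (by omega) (by omega)
            · skip
              rcases Nat.lt_or_ge i 9100 with h7 | h7
              · skip
                exact allRangeF_sound _ _ (checkPointF_eq cert) 9000 100 chkP_9000 i (by omega) (by omega)
              · skip
                exact allRangeF_sound _ _ (checkPointF_eq cert) 9100 100 chkP_9100 i (by omega) (by omega)
        · skip
          rcases Nat.lt_or_ge i 9400 with h5 | h5
          · skip
            rcases Nat.lt_or_ge i 9300 with h6 | h6
            · skip
              exact allRangeF_sound _ _ (checkPointF_eq cert) 9200 100 chkP_9200 i (by omega) (by omega)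
            · skip
              exact allRangeF_sound _ _ (checkPointF_eq cert) 9300 100 chkP_9300 i (by omega) (by omega)
          · skip
            rcases Nat.lt_or_ge i 9500 with h6 | h6
            · skip
              exact allRangeF_sound _ _ (checkPointF_eq cert) 9400 100 chkP_9400 i (by omega) (by omega)
            · skip
              rcases Nat.lt_or_ge i 9600 with h7 | h7
              · skip
                exact allRangeF_sound _ _ (checkPointF_eq cert) 9500 100 chkP_9500 i (by omega) (by omega)
              · skip
                exact allRangeF_sound _ _ (checkPointF_eq cert) 9600 100 chkP_9600 i (by omega) (by omega)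
      · skip
        rcases Nat.lt_or_ge i 10200 with h4 | h4
        · skip
          rcases Nat.lt_or_ge i 9900 with h5 | h5
          · skip
            rcases Nat.lt_or_ge i 9800 with h6 | h6
            · skip
              exact allRangeF_sound _ _ (checkPointF_eq cert) 9700 100 chkP_9700 i (by omega) (by omega)
            · skip
              exact allRangeF_sound _ _ (checkPointF_eq cert) 9800 100 chkP_9800 i (by omega) (by omega)
          · skip
            rcases Nat.lt_or_ge i 10000 with h6 | h6
            · skip
              exact allRangeF_sound _ _ (checkPointF_eq cert) 9900 100 chkP_9900 i (by omega) (by omega)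
            · skip
              rcases Nat.lt_or_ge i 10100 with h7 | h7
              · skip
                exact allRangeF_sound _ _ (checkPointF_eq cert) 10000 100 chkP_10000 i (by omega) (by omega)
              · skip
                exact allRangeF_sound _ _ (checkPointF_eq cert) 10100 100 chkP_10100 i (by omega) (by omega)
        · skip
          rcases Nat.lt_or_ge i 10500 with h5 | h5
          · skip
            rcases Nat.lt_or_ge i 10300 with h6 | h6
            · skip
              exact allRangeF_sound _ _ (checkPointF_eq cert) 10200 100 chkP_10200 i (by omega) (by omega)
            · skip
              rcases Nat.lt_or_ge i 10400 with h7 | h7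
              · skip
                exact allRangeF_sound _ _ (checkPointF_eq cert) 10300 100 chkP_10300 i (by omega) (by omega)
              · skip
                exact allRangeF_sound _ _ (checkPointF_eq cert) 10400 100 chkP_10400 i (by omega) (by omega)
          · skip
            rcases Nat.lt_or_ge i 10600 with h6 | h6
            · skip
              exact allRangeF_sound _ _ (checkPointF_eq cert) 10500 100 chkP_10500 i (by omega) (by omega)
            · skip
              rcases Nat.lt_or_ge i 10700 with h7 | h7
              · skip
                exact allRangeF_sound _ _ (checkPointF_eq cert) 10600 100 chkP_10600 i (by omega) (by omega)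
              · skip
                exact allRangeF_sound _ _ (checkPointF_eq cert) 10700 100 chkP_10700 i (by omega) (by omega)
    · skip
      rcases Nat.lt_or_ge i 11900 with h3 | h3
      · skip
        rcases Nat.lt_or_ge i 11300 with h4 | h4
        · skip
          rcases Nat.lt_or_ge i 11000 with h5 | h5
          · skip
            rcases Nat.lt_or_ge i 10900 with h6 | h6
            · skip
              exact allRangeF_sound _ _ (checkPointF_eq cert) 10800 100 chkP_10800 i (by omega) (by omega)
            · skip
              exact allRangeF_sound _ _ (checkPointF_eq cert) 10900 100 chkP_10900 i (by omega) (by omega)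
          · skip
            rcases Nat.lt_or_ge i 11100 with h6 | h6
            · skip
              exact allRangeF_sound _ _ (checkPointF_eq cert) 11000 100 chkP_11000 i (by omega) (by omega)
            · skip
              rcases Nat.lt_or_ge i 11200 with h7 | h7
              · skip
                exact allRangeF_sound _ _ (checkPointF_eq cert) 11100 100 chkP_11100 i (by omega) (by omega)
              · skip
                exact allRangeF_sound _ _ (checkPointF_eq cert) 11200 100 chkP_11200 i (by omega) (by omega)
        · skip
          rcases Nat.lt_or_ge i 11600 with h5 | h5
          · skip
            rcases Nat.lt_or_ge i 11400 with h6 | h6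
            · skip
              exact allRangeF_sound _ _ (checkPointF_eq cert) 11300 100 chkP_11300 i (by omega) (by omega)
            · skip
              rcases Nat.lt_or_ge i 11500 with h7 | h7
              · skip
                exact allRangeF_sound _ _ (checkPointF_eq cert) 11400 100 chkP_11400 i (by omega) (by omega)
              · skip
                exact allRangeF_sound _ _ (checkPointF_eq cert) 11500 100 chkP_11500 i (by omega) (by omega)
          · skip
            rcases Nat.lt_or_ge i 11700 with h6 | h6
            · skip
              exact allRangeF_sound _ _ (checkPointF_eq cert) 11600 100 chkP_11600 i (by omega) (by omega)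
            · skip
              rcases Nat.lt_or_ge i 11800 with h7 | h7
              · skip
                exact allRangeF_sound _ _ (checkPointF_eq cert) 11700 100 chkP_11700 i (by omega) (by omega)
              · skip
                exact allRangeF_sound _ _ (checkPointF_eq cert) 11800 100 chkP_11800 i (by omega) (by omega)
      · skip
        rcases Nat.lt_or_ge i 12400 with h4 | h4
        · skip
          rcases Nat.lt_or_ge i 12100 with h5 | h5
          · skip
            rcases Nat.lt_or_ge i 12000 with h6 | h6
            · skip
              exact allRangeF_sound _ _ (checkPointF_eq cert) 11900 100 chkP_11900 i (by omega) (by omega)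
            · skip
              exact allRangeF_sound _ _ (checkPointF_eq cert) 12000 100 chkP_12000 i (by omega) (by omega)
          · skip
            rcases Nat.lt_or_ge i 12200 with h6 | h6
            · skip
              exact allRangeF_sound _ _ (checkPointF_eq cert) 12100 100 chkP_12100 i (by omega) (by omega)
            · skip
              rcases Nat.lt_or_ge i 12300 with h7 | h7
              · skip
                exact allRangeF_sound _ _ (checkPointF_eq cert) 12200 100 chkP_12200 i (by omega) (by omega)
              · skip
                exact allRangeF_sound _ _ (checkPointF_eq cert) 12300 100 chkP_12300 i (by omega) (by omega)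
        · skip
          rcases Nat.lt_or_ge i 12700 with h5 | h5
          · skip
            rcases Nat.lt_or_ge i 12500 with h6 | h6
            · skip
              exact allRangeF_sound _ _ (checkPointF_eq cert) 12400 100 chkP_12400 i (by omega) (by omega)
            · skip
              rcases Nat.lt_or_ge i 12600 with h7 | h7
              · skip
                exact allRangeF_sound _ _ (checkPointF_eq cert) 12500 100 chkP_12500 i (by omega) (by omega)
              · skip
                exact allRangeF_sound _ _ (checkPointF_eq cert) 12600 100 chkP_12600 i (by omega) (by omega)
          · skip
            rcases Nat.lt_or_ge i 12800 with h6 | h6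
            · skip
              exact allRangeF_sound _ _ (checkPointF_eq cert) 12700 100 chkP_12700 i (by omega) (by omega)
            · skip
              rcases Nat.lt_or_ge i 12900 with h7 | h7
              · skip
                exact allRangeF_sound _ _ (checkPointF_eq cert) 12800 100 chkP_12800 i (by omega) (by omega)
              · skip
                exact allRangeF_sound _ _ (checkPointF_eq cert) 12900 100 chkP_12900 i (by omega) (by omega)
  · skip
    rcases Nat.lt_or_ge i 15200 with h2 | h2
    · skip
      rcases Nat.lt_or_ge i 14100 with h3 | h3
      · skip
        rcases Nat.lt_or_ge i 13500 with h4 | h4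
        · skip
          rcases Nat.lt_or_ge i 13200 with h5 | h5
          · skip
            rcases Nat.lt_or_ge i 13100 with h6 | h6
            · skip
              exact allRangeF_sound _ _ (checkPointF_eq cert) 13000 100 chkP_13000 i (by omega) (by omega)
            · skip
              exact allRangeF_sound _ _ (checkPointF_eq cert) 13100 100 chkP_13100 i (by omega) (by omega)
          · skip
            rcases Nat.lt_or_ge i 13300 with h6 | h6
            · skip
              exact allRangeF_sound _ _ (checkPointF_eq cert) 13200 100 chkP_13200 i (by omega) (by omega)
            · skip
              rcases Nat.lt_or_ge i 13400 with h7 | h7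
              · skip
                exact allRangeF_sound _ _ (checkPointF_eq cert) 13300 100 chkP_13300 i (by omega) (by omega)
              · skip
                exact allRangeF_sound _ _ (checkPointF_eq cert) 13400 100 chkP_13400 i (by omega) (by omega)
        · skip
          rcases Nat.lt_or_ge i 13800 with h5 | h5
          · skip
            rcases Nat.lt_or_ge i 13600 with h6 | h6
            · skip
              exact allRangeF_sound _ _ (checkPointF_eq cert) 13500 100 chkP_13500 i (by omega) (by omega)
            · skip
              rcases Nat.lt_or_ge i 13700 with h7 | h7
              · skip
                exact allRangeF_sound _ _ (checkPointF_eq cert) 13600 100 chkP_13600 i (by omega) (by omega)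
              · skip
                exact allRangeF_sound _ _ (checkPointF_eq cert) 13700 100 chkP_13700 i (by omega) (by omega)
          · skip
            rcases Nat.lt_or_ge i 13900 with h6 | h6
            · skip
              exact allRangeF_sound _ _ (checkPointF_eq cert) 13800 100 chkP_13800 i (by omega) (by omega)
            · skip
              rcases Nat.lt_or_ge i 14000 with h7 | h7
              · skip
                exact allRangeF_sound _ _ (checkPointF_eq cert) 13900 100 chkP_13900 i (by omega) (by omega)
              · skip
                exact allRangeF_sound _ _ (checkPointF_eq cert) 14000 100 chkP_14000 i (by omega) (by omega)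
      · skip
        rcases Nat.lt_or_ge i 14600 with h4 | h4
        · skip
          rcases Nat.lt_or_ge i 14300 with h5 | h5
          · skip
            rcases Nat.lt_or_ge i 14200 with h6 | h6
            · skip
              exact allRangeF_sound _ _ (checkPointF_eq cert) 14100 100 chkP_14100 i (by omega) (by omega)
            · skip
              exact allRangeF_sound _ _ (checkPointF_eq cert) 14200 100 chkP_14200 i (by omega) (by omega)
          · skip
            rcases Nat.lt_or_ge i 14400 with h6 | h6
            · skip
              exact allRangeF_sound _ _ (checkPointF_eq cert) 14300 100 chkP_14300 i (by omega) (by omega)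
            · skip
              rcases Nat.lt_or_ge i 14500 with h7 | h7
              · skip
                exact allRangeF_sound _ _ (checkPointF_eq cert) 14400 100 chkP_14400 i (by omega) (by omega)
              · skip
                exact allRangeF_sound _ _ (checkPointF_eq cert) 14500 100 chkP_14500 i (by omega) (by omega)
        · skip
          rcases Nat.lt_or_ge i 14900 with h5 | h5
          · skip
            rcases Nat.lt_or_ge i 14700 with h6 | h6
            · skip
              exact allRangeF_sound _ _ (checkPointF_eq cert) 14600 100 chkP_14600 i (by omega) (by omega)
            · skip
              rcases Nat.lt_or_ge i 14800 with h7 | h7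
              · skip
                exact allRangeF_sound _ _ (checkPointF_eq cert) 14700 100 chkP_14700 i (by omega) (by omega)
              · skip
                exact allRangeF_sound _ _ (checkPointF_eq cert) 14800 100 chkP_14800 i (by omega) (by omega)
          · skip
            rcases Nat.lt_or_ge i 15000 with h6 | h6
            · skip
              exact allRangeF_sound _ _ (checkPointF_eq cert) 14900 100 chkP_14900 i (by omega) (by omega)
            · skip
              rcases Nat.lt_or_ge i 15100 with h7 | h7
              · skip
                exact allRangeF_sound _ _ (checkPointF_eq cert) 15000 100 chkP_15000 i (by omega) (by omega)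
              · skip
                exact allRangeF_sound _ _ (checkPointF_eq cert) 15100 100 chkP_15100 i (by omega) (by omega)
    · skip
      rcases Nat.lt_or_ge i 16300 with h3 | h3
      · skip
        rcases Nat.lt_or_ge i 15700 with h4 | h4
        · skip
          rcases Nat.lt_or_ge i 15400 with h5 | h5
          · skip
            rcases Nat.lt_or_ge i 15300 with h6 | h6
            · skip
              exact allRangeF_sound _ _ (checkPointF_eq cert) 15200 100 chkP_15200 i (by omega) (by omega)
            · skip
              exact allRangeF_sound _ _ (checkPointF_eq cert) 15300 100 chkP_15300 i (by omega) (by omega)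
          · skip
            rcases Nat.lt_or_ge i 15500 with h6 | h6
            · skip
              exact allRangeF_sound _ _ (checkPointF_eq cert) 15400 100 chkP_15400 i (by omega) (by omega)
            · skip
              rcases Nat.lt_or_ge i 15600 with h7 | h7
              · skip
                exact allRangeF_sound _ _ (checkPointF_eq cert) 15500 100 chkP_15500 i (by omega) (by omega)
              · skip
                exact allRangeF_sound _ _ (checkPointF_eq cert) 15600 100 chkP_15600 i (by omega) (by omega)
        · skip
          rcases Nat.lt_or_ge i 16000 with h5 | h5
          · skip
            rcases Nat.lt_or_ge i 15800 with h6 | h6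
            · skip
              exact allRangeF_sound _ _ (checkPointF_eq cert) 15700 100 chkP_15700 i (by omega) (by omega)
            · skip
              rcases Nat.lt_or_ge i 15900 with h7 | h7
              · skip
                exact allRangeF_sound _ _ (checkPointF_eq cert) 15800 100 chkP_15800 i (by omega) (by omega)
              · skip
                exact allRangeF_sound _ _ (checkPointF_eq cert) 15900 100 chkP_15900 i (by omega) (by omega)
          · skip
            rcases Nat.lt_or_ge i 16100 with h6 | h6
            · skip
              exact allRangeF_sound _ _ (checkPointF_eq cert) 16000 100 chkP_16000 i (by omega) (by omega)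
            · skip
              rcases Nat.lt_or_ge i 16200 with h7 | h7
              · skip
                exact allRangeF_sound _ _ (checkPointF_eq cert) 16100 100 chkP_16100 i (by omega) (by omega)
              · skip
                exact allRangeF_sound _ _ (checkPointF_eq cert) 16200 100 chkP_16200 i (by omega) (by omega)
      · skip
        rcases Nat.lt_or_ge i 16800 with h4 | h4
        · skip
          rcases Nat.lt_or_ge i 16500 with h5 | h5
          · skip
            rcases Nat.lt_or_ge i 16400 with h6 | h6
            · skip
              exact allRangeF_sound _ _ (checkPointF_eq cert) 16300 100 chkP_16300 i (by omega) (by omega)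
            · skip
              exact allRangeF_sound _ _ (checkPointF_eq cert) 16400 100 chkP_16400 i (by omega) (by omega)
          · skip
            rcases Nat.lt_or_ge i 16600 with h6 | h6
            · skip
              exact allRangeF_sound _ _ (checkPointF_eq cert) 16500 100 chkP_16500 i (by omega) (by omega)
            · skip
              rcases Nat.lt_or_ge i 16700 with h7 | h7
              · skip
                exact allRangeF_sound _ _ (checkPointF_eq cert) 16600 100 chkP_16600 i (by omega) (by omega)
              · skip
                exact allRangeF_sound _ _ (checkPointF_eq cert) 16700 100 chkP_16700 i (by omega) (by omega)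
        · skip
          rcases Nat.lt_or_ge i 17100 with h5 | h5
          · skip
            rcases Nat.lt_or_ge i 16900 with h6 | h6
            · skip
              exact allRangeF_sound _ _ (checkPointF_eq cert) 16800 100 chkP_16800 i (by omega) (by omega)
            · skip
              rcases Nat.lt_or_ge i 17000 with h7 | h7
              · skip
                exact allRangeF_sound _ _ (checkPointF_eq cert) 16900 100 chkP_16900 i (by omega) (by omega)
              · skip
                exact allRangeF_sound _ _ (checkPointF_eq cert) 17000 100 chkP_17000 i (by omega) (by omega)
          · skip
            rcases Nat.lt_or_ge i 17200 with h6 | h6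
            · skip
              exact allRangeF_sound _ _ (checkPointF_eq cert) 17100 100 chkP_17100 i (by omega) (by omega)
            · skip
              rcases Nat.lt_or_ge i 17300 with h7 | h7
              · skip
                exact allRangeF_sound _ _ (checkPointF_eq cert) 17200 100 chkP_17200 i (by omega) (by omega)
              · skip
                exact allRangeF_sound _ _ (checkPointF_eq cert) 17300 100 chkP_17300 i (by omega) (by omega)

end Cfsg.Agent.Lib.Helper28.ON6Data
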