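import Cfsg.Agent.Lib.Helper28.ON6Data
import Cfsg.Agent.Lib.Helper28.TCFast

set_option autoImplicit false
set_option maxRecDepth 1000000
set_option linter.all false
set_option Elab.async false

namespace Cfsg.Agent.Lib.Helper28.ON6Data

open Cfsg.Agent.Lib.Helper28

theorem chkP_17400 : allRangeF (checkPointF cert) (nat_lit 17400) (nat_lit 100) = true := by decide +kernel
theorem chkP_17500 : allRangeF (checkPointF cert) (nat_lit 17500) (nat_lit 100) = true := by decide +kernel
theorem chkP_17600 : allRangeF (checkPointF cert) (nat_lit 17600) (nat_lit 100) = true := by decide +kernel
theorem chkP_17700 : allRangeF (checkPointF cert) (nat_lit 17700) (nat_lit 100) = true := by decide +kernel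
theorem chkP_17800 : allRangeF (checkPointF cert) (nat_lit 17800) (nat_lit 100) = true := by decide +kernel
theorem chkP_17900 : allRangeF (checkPointF cert) (nat_lit 17900) (nat_lit 100) = true := by decide +kernel
theorem chkP_18000 : allRangeF (checkPointF cert) (nat_lit 18000) (nat_lit 100) = true := by decide +kernel
theorem chkP_18100 : allRangeF (checkPointF cert) (nat_lit 18100) (nat_lit 100) = true := by decide +kernel
theorem chkP_18200 : allRangeF (checkPointF cert) (nat_lit 18200) (nat_lit 100) = true := by decide +kernel
theorem chkP_18300 : allRangeF (checkPointF cert) (nat_lit 18300) (nat_lit 100) = true := by decide +kernel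
theorem chkP_18400 : allRangeF (checkPointF cert) (nat_lit 18400) (nat_lit 100) = true := by decide +kernel
theorem chkP_18500 : allRangeF (checkPointF cert) (nat_lit 18500) (nat_lit 100) = true := by decide +kernel
theorem chkP_18600 : allRangeF (checkPointF cert) (nat_lit 18600) (nat_lit 100) = true := by decide +kernel
theorem chkP_18700 : allRangeF (checkPointF cert) (nat_lit 18700) (nat_lit 100) = true := by decide +kernel
theorem chkP_18800 : allRangeF (checkPointF cert) (nat_lit 18800) (nat_lit 100) = true := by decide +kernel
theorem chkP_18900 : allRangeF (checkPointF cert) (nat_lit 18900) (nat_lit 100) = true := by decide +kernel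
theorem chkP_19000 : allRangeF (checkPointF cert) (nat_lit 19000) (nat_lit 100) = true := by decide +kernel
theorem chkP_19100 : allRangeF (checkPointF cert) (nat_lit 19100) (nat_lit 100) = true := by decide +kernel
theorem chkP_19200 : allRangeF (checkPointF cert) (nat_lit 19200) (nat_lit 100) = true := by decide +kernel
theorem chkP_19300 : allRangeF (checkPointF cert) (nat_lit 19300) (nat_lit 100) = true := by decide +kernel
theorem chkP_19400 : allRangeF (checkPointF cert) (nat_lit 19400) (nat_lit 100) = true := by decide +kernel
theorem chkP_19500 : allRangeF (checkPointF cert) (nat_lit 19500) (nat_lit 100) = true := by decide +kernel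
theorem chkP_19600 : allRangeF (checkPointF cert) (nat_lit 19600) (nat_lit 100) = true := by decide +kernel
theorem chkP_19700 : allRangeF (checkPointF cert) (nat_lit 19700) (nat_lit 100) = true := by decide +kernel
theorem chkP_19800 : allRangeF (checkPointF cert) (nat_lit 19800) (nat_lit 100) = true := by decide +kernel
theorem chkP_19900 : allRangeF (checkPointF cert) (nat_lit 19900) (nat_lit 100) = true := by decide +kernel
theorem chkP_20000 : allRangeF (checkPointF cert) (nat_lit 20000) (nat_lit 100) = true := by decide +kernel
theorem chkP_20100 : allRangeF (checkPointF cert) (nat_lit 20100) (nat_lit 100) = true := by decide +kernel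
theorem chkP_20200 : allRangeF (checkPointF cert) (nat_lit 20200) (nat_lit 100) = true := by decide +kernel
theorem chkP_20300 : allRangeF (checkPointF cert) (nat_lit 20300) (nat_lit 100) = true := by decide +kernel
theorem chkP_20400 : allRangeF (checkPointF cert) (nat_lit 20400) (nat_lit 100) = true := by decide +kernel
theorem chkP_20500 : allRangeF (checkPointF cert) (nat_lit 20500) (nat_lit 100) = true := by decide +kernel
theorem chkP_20600 : allRangeF (checkPointF cert) (nat_lit 20600) (nat_lit 100) = true := by decide +kernel
theorem chkP_20700 : allRangeF (checkPointF cert) (nat_lit 20700) (nat_lit 100) = true := by decide +kernel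
theorem chkP_20800 : allRangeF (checkPointF cert) (nat_lit 20800) (nat_lit 100) = true := by decide +kernel
theorem chkP_20900 : allRangeF (checkPointF cert) (nat_lit 20900) (nat_lit 100) = true := by decide +kernel
theorem chkP_21000 : allRangeF (checkPointF cert) (nat_lit 21000) (nat_lit 100) = true := by decide +kernel
theorem chkP_21100 : allRangeF (checkPointF cert) (nat_lit 21100) (nat_lit 100) = true := by decide +kernel
theorem chkP_21200 : allRangeF (checkPointF cert) (nat_lit 21200) (nat_lit 100) = true := by decide +kernel
theorem chkP_21300 : allRangeF (checkPointF cert) (nat_lit 21300) (nat_lit 100) = true := by decide +kernel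
theorem chkP_21400 : allRangeF (checkPointF cert) (nat_lit 21400) (nat_lit 100) = true := by decide +kernel
theorem chkP_21500 : allRangeF (checkPointF cert) (nat_lit 21500) (nat_lit 100) = true := by decide +kernel
theorem chkP_21600 : allRangeF (checkPointF cert) (nat_lit 21600) (nat_lit 100) = true := by decide +kernel
theorem chkP_21700 : allRangeF (checkPointF cert) (nat_lit 21700) (nat_lit 100) = true := by decide +kernel
theorem chkP_21800 : allRangeF (checkPointF cert) (nat_lit 21800) (nat_lit 100) = true := by decide +kernel
theorem chkP_21900 : allRangeF (checkPointF cert) (nat_lit 21900) (nat_lit 100) = true := by decide +kernel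
theorem chkP_22000 : allRangeF (checkPointF cert) (nat_lit 22000) (nat_lit 100) = true := by decide +kernel
theorem chkP_22100 : allRangeF (checkPointF cert) (nat_lit 22100) (nat_lit 100) = true := by decide +kernel
theorem chkP_22200 : allRangeF (checkPointF cert) (nat_lit 22200) (nat_lit 100) = true := by decide +kernel
theorem chkP_22300 : allRangeF (checkPointF cert) (nat_lit 22300) (nat_lit 100) = true := by decide +kernel
theorem chkP_22400 : allRangeF (checkPointF cert) (nat_lit 22400) (nat_lit 100) = true := by decide +kernel
theorem chkP_22500 : allRangeF (checkPointF cert) (nat_lit 22500) (nat_lit 100) = true := by decide +kernel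
theorem chkP_22600 : allRangeF (checkPointF cert) (nat_lit 22600) (nat_lit 100) = true := by decide +kernel
theorem chkP_22700 : allRangeF (checkPointF cert) (nat_lit 22700) (nat_lit 100) = true := by decide +kernel
theorem chkP_22800 : allRangeF (checkPointF cert) (nat_lit 22800) (nat_lit 100) = true := by decide +kernel
theorem chkP_22900 : allRangeF (checkPointF cert) (nat_lit 22900) (nat_lit 100) = true := by decide +kernel
theorem chkP_23000 : allRangeF (checkPointF cert) (nat_lit 23000) (nat_lit 100) = true := by decide +kernel
theorem chkP_23100 : allRangeF (checkPointF cert) (nat_lit 23100) (nat_lit 100) = true := by decide +kernel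
theorem chkP_23200 : allRangeF (checkPointF cert) (nat_lit 23200) (nat_lit 100) = true := by decide +kernel
theorem chkP_23300 : allRangeF (checkPointF cert) (nat_lit 23300) (nat_lit 100) = true := by decide +kernel
theorem chkP_23400 : allRangeF (checkPointF cert) (nat_lit 23400) (nat_lit 100) = true := by decide +kernel
theorem chkP_23500 : allRangeF (checkPointF cert) (nat_lit 23500) (nat_lit 100) = true := by decide +kernel
theorem chkP_23600 : allRangeF (checkPointF cert) (nat_lit 23600) (nat_lit 100) = true := by decide +kernel
theorem chkP_23700 : allRangeF (checkPointF cert) (nat_lit 23700) (nat_lit 100) = true := by decide +kernel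
theorem chkP_23800 : allRangeF (checkPointF cert) (nat_lit 23800) (nat_lit 100) = true := by decide +kernel
theorem chkP_23900 : allRangeF (checkPointF cert) (nat_lit 23900) (nat_lit 100) = true := by decide +kernel
theorem chkP_24000 : allRangeF (checkPointF cert) (nat_lit 24000) (nat_lit 100) = true := by decide +kernel
theorem chkP_24100 : allRangeF (checkPointF cert) (nat_lit 24100) (nat_lit 100) = true := by decide +kernel
theorem chkP_24200 : allRangeF (checkPointF cert) (nat_lit 24200) (nat_lit 100) = true := by decide +kernel
theorem chkP_24300 : allRangeF (checkPointF cert) (nat_lit 24300) (nat_lit 100) = true := by decide +kernel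
theorem chkP_24400 : allRangeF (checkPointF cert) (nat_lit 24400) (nat_lit 100) = true := by decide +kernel
theorem chkP_24500 : allRangeF (checkPointF cert) (nat_lit 24500) (nat_lit 100) = true := by decide +kernel
theorem chkP_24600 : allRangeF (checkPointF cert) (nat_lit 24600) (nat_lit 100) = true := by decide +kernel
theorem chkP_24700 : allRangeF (checkPointF cert) (nat_lit 24700) (nat_lit 100) = true := by decide +kernel
theorem chkP_24800 : allRangeF (checkPointF cert) (nat_lit 24800) (nat_lit 100) = true := by decide +kernel
theorem chkP_24900 : allRangeF (checkPointF cert) (nat_lit 24900) (nat_lit 100) = true := by decide +kernel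
theorem chkP_25000 : allRangeF (checkPointF cert) (nat_lit 25000) (nat_lit 100) = true := by decide +kernel
theorem chkP_25100 : allRangeF (checkPointF cert) (nat_lit 25100) (nat_lit 100) = true := by decide +kernel
theorem chkP_25200 : allRangeF (checkPointF cert) (nat_lit 25200) (nat_lit 100) = true := by decide +kernel
theorem chkP_25300 : allRangeF (checkPointF cert) (nat_lit 25300) (nat_lit 100) = true := by decide +kernel
theorem chkP_25400 : allRangeF (checkPointF cert) (nat_lit 25400) (nat_lit 100) = true := by decide +kernel
theorem chkP_25500 : allRangeF (checkPointF cert) (nat_lit 25500) (nat_lit 100) = true := by decide +kernel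
theorem chkP_25600 : allRangeF (checkPointF cert) (nat_lit 25600) (nat_lit 100) = true := by decide +kernel
theorem chkP_25700 : allRangeF (checkPointF cert) (nat_lit 25700) (nat_lit 100) = true := by decide +kernel
theorem chkP_25800 : allRangeF (checkPointF cert) (nat_lit 25800) (nat_lit 100) = true := by decide +kernel
theorem chkP_25900 : allRangeF (checkPointF cert) (nat_lit 25900) (nat_lit 100) = true := by decide +kernel
theorem chkP_26000 : allRangeF (checkPointF cert) (nat_lit 26000) (nat_lit 68) = true := by decide +kernel

theorem ptsRange_2 : ∀ i, 17400 ≤ i → i < 26068 → checkPoint cert i = true := by
  intro i hlo hhi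
  rcases Nat.lt_or_ge i 21700 with h1 | h1
  · skip
    rcases Nat.lt_or_ge i 19500 with h2 | h2
    · skip
      rcases Nat.lt_or_ge i 18400 with h3 | h3
      · skip
        rcases Nat.lt_or_ge i 17900 with h4 | h4
        · skip
          rcases Nat.lt_or_ge i 17600 with h5 | h5
          · skip
            rcases Nat.lt_or_ge i 17500 with h6 | h6
            · skip
              exact allRangeF_sound _ _ (checkPointF_eq cert) 17400 100 chkP_17400 i (by omega) (by omega)
            · skip
              exact allRangeF_sound _ _ (checkPointF_eq cert) 17500 100 chkP_17500 i (by omega) (by omega)
          · skip
            rcases Nat.lt_or_ge i 17700 with h6 | h6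
            · skip
              exact allRangeF_sound _ _ (checkPointF_eq cert) 17600 100 chkP_17600 i (by omega) (by omega)
            · skip
              rcases Nat.lt_or_ge i 17800 with h7 | h7
              · skip
                exact allRangeF_sound _ _ (checkPointF_eq cert) 17700 100 chkP_17700 i (by omega) (by omega)
              · skip
                exact allRangeF_sound _ _ (checkPointF_eq cert) 17800 100 chkP_17800 i (by omega) (by omega)
        · skip
          rcases Nat.lt_or_ge i 18100 with h5 | h5
          · skip
            rcases Nat.lt_or_ge i 18000 with h6 | h6
            · skip
              exact allRangeF_sound _ _ (checkPointF_eq cert) 17900 100 chkP_17900 i (by omega) (by omega)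
            · skip
              exact allRangeF_sound _ _ (checkPointF_eq cert) 18000 100 chkP_18000 i (by omega) (by omega)
          · skip
            rcases Nat.lt_or_ge i 18200 with h6 | h6
            · skip
              exact allRangeF_sound _ _ (checkPointF_eq cert) 18100 100 chkP_18100 i (by omega) (by omega)
            · skip
              rcases Nat.lt_or_ge i 18300 with h7 | h7
              · skip
                exact allRangeF_sound _ _ (checkPointF_eq cert) 18200 100 chkP_18200 i (by omega) (by omega)
              · skip
                exact allRangeF_sound _ _ (checkPointF_eq cert) 18300 100 chkP_18300 i (by omega) (by omega)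
      · skip
        rcases Nat.lt_or_ge i 18900 with h4 | h4
        · skip
          rcases Nat.lt_or_ge i 18600 with h5 | h5
          · skip
            rcases Nat.lt_or_ge i 18500 with h6 | h6
            · skip
              exact allRangeF_sound _ _ (checkPointF_eq cert) 18400 100 chkP_18400 i (by omega) (by omega)
            · skip
              exact allRangeF_sound _ _ (checkPointF_eq cert) 18500 100 chkP_18500 i (by omega) (by omega)
          · skip
            rcases Nat.lt_or_ge i 18700 with h6 | h6
            · skip
              exact allRangeF_sound _ _ (checkPointF_eq cert) 18600 100 chkP_18600 i (by omega) (by omega)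
            · skip
              rcases Nat.lt_or_ge i 18800 with h7 | h7
              · skip
                exact allRangeF_sound _ _ (checkPointF_eq cert) 18700 100 chkP_18700 i (by omega) (by omega)
              · skip
                exact allRangeF_sound _ _ (checkPointF_eq cert) 18800 100 chkP_18800 i (by omega) (by omega)
        · skip
          rcases Nat.lt_or_ge i 19200 with h5 | h5
          · skip
            rcases Nat.lt_or_ge i 19000 with h6 | h6
            · skip
              exact allRangeF_sound _ _ (checkPointF_eq cert) 18900 100 chkP_18900 i (by omega) (by omega)
            · skip
              rcases Nat.lt_or_ge i 19100 with h7 | h7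
              · skip
                exact allRangeF_sound _ _ (checkPointF_eq cert) 19000 100 chkP_19000 i (by omega) (by omega)
              · skip
                exact allRangeF_sound _ _ (checkPointF_eq cert) 19100 100 chkP_19100 i (by omega) (by omega)
          · skip
            rcases Nat.lt_or_ge i 19300 with h6 | h6
            · skip
              exact allRangeF_sound _ _ (checkPointF_eq cert) 19200 100 chkP_19200 i (by omega) (by omega)
            · skip
              rcases Nat.lt_or_ge i 19400 with h7 | h7
              · skip
                exact allRangeF_sound _ _ (checkPointF_eq cert) 19300 100 chkP_19300 i (by omega) (by omega)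
              · skip
                exact allRangeF_sound _ _ (checkPointF_eq cert) 19400 100 chkP_19400 i (by omega) (by omega)
    · skip
      rcases Nat.lt_or_ge i 20600 with h3 | h3
      · skip
        rcases Nat.lt_or_ge i 20000 with h4 | h4
        · skip
          rcases Nat.lt_or_ge i 19700 with h5 | h5
          · skip
            rcases Nat.lt_or_ge i 19600 with h6 | h6
            · skip
              exact allRangeF_sound _ _ (checkPointF_eq cert) 19500 100 chkP_19500 i (by omega) (by omega)
            · skip
              exact allRangeF_sound _ _ (checkPointF_eq cert) 19600 100 chkP_19600 i (by omega) (by omega)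
          · skip
            rcases Nat.lt_or_ge i 19800 with h6 | h6
            · skip
              exact allRangeF_sound _ _ (checkPointF_eq cert) 19700 100 chkP_19700 i (by omega) (by omega)
            · skip
              rcases Nat.lt_or_ge i 19900 with h7 | h7
              · skip
                exact allRangeF_sound _ _ (checkPointF_eq cert) 19800 100 chkP_19800 i (by omega) (by omega)
              · skip
                exact allRangeF_sound _ _ (checkPointF_eq cert) 19900 100 chkP_19900 i (by omega) (by omega)
        · skip
          rcases Nat.lt_or_ge i 20300 with h5 | h5
          · skip
            rcases Nat.lt_or_ge i 20100 with h6 | h6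
            · skip
              exact allRangeF_sound _ _ (checkPointF_eq cert) 20000 100 chkP_20000 i (by omega) (by omega)
            · skip
              rcases Nat.lt_or_ge i 20200 with h7 | h7
              · skip
                exact allRangeF_sound _ _ (checkPointF_eq cert) 20100 100 chkP_20100 i (by omega) (by omega)
              · skip
                exact allRangeF_sound _ _ (checkPointF_eq cert) 20200 100 chkP_20200 i (by omega) (by omega)
          · skip
            rcases Nat.lt_or_ge i 20400 with h6 | h6
            · skip
              exact allRangeF_sound _ _ (checkPointF_eq cert) 20300 100 chkP_20300 i (by omega) (by omega)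
            · skip
              rcases Nat.lt_or_ge i 20500 with h7 | h7
              · skip
                exact allRangeF_sound _ _ (checkPointF_eq cert) 20400 100 chkP_20400 i (by omega) (by omega)
              · skip
                exact allRangeF_sound _ _ (checkPointF_eq cert) 20500 100 chkP_20500 i (by omega) (by omega)
      · skip
        rcases Nat.lt_or_ge i 21100 with h4 | h4
        · skip
          rcases Nat.lt_or_ge i 20800 with h5 | h5
          · skip
            rcases Nat.lt_or_ge i 20700 with h6 | h6
            · skip
              exact allRangeF_sound _ _ (checkPointF_eq cert) 20600 100 chkP_20600 i (by omega) (by omega)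
            · skip
              exact allRangeF_sound _ _ (checkPointF_eq cert) 20700 100 chkP_20700 i (by omega) (by omega)
          · skip
            rcases Nat.lt_or_ge i 20900 with h6 | h6
            · skip
              exact allRangeF_sound _ _ (checkPointF_eq cert) 20800 100 chkP_20800 i (by omega) (by omega)
            · skip
              rcases Nat.lt_or_ge i 21000 with h7 | h7
              · skip
                exact allRangeF_sound _ _ (checkPointF_eq cert) 20900 100 chkP_20900 i (by omega) (by omega)
              · skip
                exact allRangeF_sound _ _ (checkPointF_eq cert) 21000 100 chkP_21000 i (by omega) (by omega)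
        · skip
          rcases Nat.lt_or_ge i 21400 with h5 | h5
          · skip
            rcases Nat.lt_or_ge i 21200 with h6 | h6
            · skip
              exact allRangeF_sound _ _ (checkPointF_eq cert) 21100 100 chkP_21100 i (by omega) (by omega)
            · skip
              rcases Nat.lt_or_ge i 21300 with h7 | h7
              · skip
                exact allRangeF_sound _ _ (checkPointF_eq cert) 21200 100 chkP_21200 i (by omega) (by omega)
              · skip
                exact allRangeF_sound _ _ (checkPointF_eq cert) 21300 100 chkP_21300 i (by omega) (by omega)
          · skip
            rcases Nat.lt_or_ge i 21500 with h6 | h6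
            · skip
              exact allRangeF_sound _ _ (checkPointF_eq cert) 21400 100 chkP_21400 i (by omega) (by omega)
            · skip
              rcases Nat.lt_or_ge i 21600 with h7 | h7
              · skip
                exact allRangeF_sound _ _ (checkPointF_eq cert) 21500 100 chkP_21500 i (by omega) (by omega)
              · skip
                exact allRangeF_sound _ _ (checkPointF_eq cert) 21600 100 chkP_21600 i (by omega) (by omega)
  · skip
    rcases Nat.lt_or_ge i 23900 with h2 | h2
    · skip
      rcases Nat.lt_or_ge i 22800 with h3 | h3
      · skip
        rcases Nat.lt_or_ge i 22200 with h4 | h4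
        · skip
          rcases Nat.lt_or_ge i 21900 with h5 | h5
          · skip
            rcases Nat.lt_or_ge i 21800 with h6 | h6
            · skip
              exact allRangeF_sound _ _ (checkPointF_eq cert) 21700 100 chkP_21700 i (by omega) (by omega)
            · skip
              exact allRangeF_sound _ _ (checkPointF_eq cert) 21800 100 chkP_21800 i (by omega) (by omega)
          · skip
            rcases Nat.lt_or_ge i 22000 with h6 | h6
            · skip
              exact allRangeF_sound _ _ (checkPointF_eq cert) 21900 100 chkP_21900 i (by omega) (by omega)
            · skip
              rcases Nat.lt_or_ge i 22100 with h7 | h7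
              · skip
                exact allRangeF_sound _ _ (checkPointF_eq cert) 22000 100 chkP_22000 i (by omega) (by omega)
              · skip
                exact allRangeF_sound _ _ (checkPointF_eq cert) 22100 100 chkP_22100 i (by omega) (by omega)
        · skip
          rcases Nat.lt_or_ge i 22500 with h5 | h5
          · skip
            rcases Nat.lt_or_ge i 22300 with h6 | h6
            · skip
              exact allRangeF_sound _ _ (checkPointF_eq cert) 22200 100 chkP_22200 i (by omega) (by omega)
            · skip
              rcases Nat.lt_or_ge i 22400 with h7 | h7
              · skip
                exact allRangeF_sound _ _ (checkPointF_eq cert) 22300 100 chkP_22300 i (by omega) (by omega)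
              · skip
                exact allRangeF_sound _ _ (checkPointF_eq cert) 22400 100 chkP_22400 i (by omega) (by omega)
          · skip
            rcases Nat.lt_or_ge i 22600 with h6 | h6
            · skip
              exact allRangeF_sound _ _ (checkPointF_eq cert) 22500 100 chkP_22500 i (by omega) (by omega)
            · skip
              rcases Nat.lt_or_ge i 22700 with h7 | h7
              · skip
                exact allRangeF_sound _ _ (checkPointF_eq cert) 22600 100 chkP_22600 i (by omega) (by omega)
              · skip
                exact allRangeF_sound _ _ (checkPointF_eq cert) 22700 100 chkP_22700 i (by omega) (by omega)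
      · skip
        rcases Nat.lt_or_ge i 23300 with h4 | h4
        · skip
          rcases Nat.lt_or_ge i 23000 with h5 | h5
          · skip
            rcases Nat.lt_or_ge i 22900 with h6 | h6
            · skip
              exact allRangeF_sound _ _ (checkPointF_eq cert) 22800 100 chkP_22800 i (by omega) (by omega)
            · skip
              exact allRangeF_sound _ _ (checkPointF_eq cert) 22900 100 chkP_22900 i (by omega) (by omega)
          · skip
            rcases Nat.lt_or_ge i 23100 with h6 | h6
            · skip
              exact allRangeF_sound _ _ (checkPointF_eq cert) 23000 100 chkP_23000 i (by omega) (by omega)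
            · skip
              rcases Nat.lt_or_ge i 23200 with h7 | h7
              · skip
                exact allRangeF_sound _ _ (checkPointF_eq cert) 23100 100 chkP_23100 i (by omega) (by omega)
              · skip
                exact allRangeF_sound _ _ (checkPointF_eq cert) 23200 100 chkP_23200 i (by omega) (by omega)
        · skip
          rcases Nat.lt_or_ge i 23600 with h5 | h5
          · skip
            rcases Nat.lt_or_ge i 23400 with h6 | h6
            · skip
              exact allRangeF_sound _ _ (checkPointF_eq cert) 23300 100 chkP_23300 i (by omega) (by omega)
            · skip
              rcases Nat.lt_or_ge i 23500 with h7 | h7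
              · skip
                exact allRangeF_sound _ _ (checkPointF_eq cert) 23400 100 chkP_23400 i (by omega) (by omega)
              · skip
                exact allRangeF_sound _ _ (checkPointF_eq cert) 23500 100 chkP_23500 i (by omega) (by omega)
          · skip
            rcases Nat.lt_or_ge i 23700 with h6 | h6
            · skip
              exact allRangeF_sound _ _ (checkPointF_eq cert) 23600 100 chkP_23600 i (by omega) (by omega)
            · skip
              rcases Nat.lt_or_ge i 23800 with h7 | h7
              · skip
                exact allRangeF_sound _ _ (checkPointF_eq cert) 23700 100 chkP_23700 i (by omega) (by omega)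
              · skip
                exact allRangeF_sound _ _ (checkPointF_eq cert) 23800 100 chkP_23800 i (by omega) (by omega)
    · skip
      rcases Nat.lt_or_ge i 25000 with h3 | h3
      · skip
        rcases Nat.lt_or_ge i 24400 with h4 | h4
        · skip
          rcases Nat.lt_or_ge i 24100 with h5 | h5
          · skip
            rcases Nat.lt_or_ge i 24000 with h6 | h6
            · skip
              exact allRangeF_sound _ _ (checkPointF_eq cert) 23900 100 chkP_23900 i (by omega) (by omega)
            · skip
              exact allRangeF_sound _ _ (checkPointF_eq cert) 24000 100 chkP_24000 i (by omega) (by omega)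
          · skip
            rcases Nat.lt_or_ge i 24200 with h6 | h6
            · skip
              exact allRangeF_sound _ _ (checkPointF_eq cert) 24100 100 chkP_24100 i (by omega) (by omega)
            · skip
              rcases Nat.lt_or_ge i 24300 with h7 | h7
              · skip
                exact allRangeF_sound _ _ (checkPointF_eq cert) 24200 100 chkP_24200 i (by omega) (by omega)
              · skip
                exact allRangeF_sound _ _ (checkPointF_eq cert) 24300 100 chkP_24300 i (by omega) (by omega)
        · skip
          rcases Nat.lt_or_ge i 24700 with h5 | h5
          · skip
            rcases Nat.lt_or_ge i 24500 with h6 | h6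
            · skip
              exact allRangeF_sound _ _ (checkPointF_eq cert) 24400 100 chkP_24400 i (by omega) (by omega)
            · skip
              rcases Nat.lt_or_ge i 24600 with h7 | h7
              · skip
                exact allRangeF_sound _ _ (checkPointF_eq cert) 24500 100 chkP_24500 i (by omega) (by omega)
              · skip
                exact allRangeF_sound _ _ (checkPointF_eq cert) 24600 100 chkP_24600 i (by omega) (by omega)
          · skip
            rcases Nat.lt_or_ge i 24800 with h6 | h6
            · skip
              exact allRangeF_sound _ _ (checkPointF_eq cert) 24700 100 chkP_24700 i (by omega) (by omega)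
            · skip
              rcases Nat.lt_or_ge i 24900 with h7 | h7
              · skip
                exact allRangeF_sound _ _ (checkPointF_eq cert) 24800 100 chkP_24800 i (by omega) (by omega)
              · skip
                exact allRangeF_sound _ _ (checkPointF_eq cert) 24900 100 chkP_24900 i (by omega) (by omega)
      · skip
        rcases Nat.lt_or_ge i 25500 with h4 | h4
        · skip
          rcases Nat.lt_or_ge i 25200 with h5 | h5
          · skip
            rcases Nat.lt_or_ge i 25100 with h6 | h6
            · skip
              exact allRangeF_sound _ _ (checkPointF_eq cert) 25000 100 chkP_25000 i (by omega) (by omega)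
            · skip
              exact allRangeF_sound _ _ (checkPointF_eq cert) 25100 100 chkP_25100 i (by omega) (by omega)
          · skip
            rcases Nat.lt_or_ge i 25300 with h6 | h6
            · skip
              exact allRangeF_sound _ _ (checkPointF_eq cert) 25200 100 chkP_25200 i (by omega) (by omega)
            · skip
              rcases Nat.lt_or_ge i 25400 with h7 | h7
              · skip
                exact allRangeF_sound _ _ (checkPointF_eq cert) 25300 100 chkP_25300 i (by omega) (by omega)
              · skip
                exact allRangeF_sound _ _ (checkPointF_eq cert) 25400 100 chkP_25400 i (by omega) (by omega)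
        · skip
          rcases Nat.lt_or_ge i 25800 with h5 | h5
          · skip
            rcases Nat.lt_or_ge i 25600 with h6 | h6
            · skip
              exact allRangeF_sound _ _ (checkPointF_eq cert) 25500 100 chkP_25500 i (by omega) (by omega)
            · skip
              rcases Nat.lt_or_ge i 25700 with h7 | h7
              · skip
                exact allRangeF_sound _ _ (checkPointF_eq cert) 25600 100 chkP_25600 i (by omega) (by omega)
              · skip
                exact allRangeF_sound _ _ (checkPointF_eq cert) 25700 100 chkP_25700 i (by omega) (by omega)
          · skip
            rcases Nat.lt_or_ge i 25900 with h6 | h6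
            · skip
              exact allRangeF_sound _ _ (checkPointF_eq cert) 25800 100 chkP_25800 i (by omega) (by omega)
            · skip
              rcases Nat.lt_or_ge i 26000 with h7 | h7
              · skip
                exact allRangeF_sound _ _ (checkPointF_eq cert) 25900 100 chkP_25900 i (by omega) (by omega)
              · skip
                exact allRangeF_sound _ _ (checkPointF_eq cert) 26000 68 chkP_26000 i (by omega) (by omega)

end Cfsg.Agent.Lib.Helper28.ON6Data
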