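import Cfsg.Agent.Lib.Helper28.TCDefs
import Cfsg.Agent.Lib.Helper28.ON6DataP0
import Cfsg.Agent.Lib.Helper28.ON6DataP1

set_option autoImplicit false
set_option maxRecDepth 100000
set_option linter.all false

namespace Cfsg.Agent.Lib.Helper28.ON6Data

open Cfsg.Agent.Lib.Helper28

noncomputable def tF_s1_3 (j : Nat) : Nat := @Bool.rec (fun _ => Nat) tF_L1 tF_L2 (Nat.ble (nat_lit 2) j)
noncomputable def tF_s4_6 (j : Nat) : Nat := @Bool.rec (fun _ => Nat) tF_L4 tF_L5 (Nat.ble (nat_lit 5) j)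
noncomputable def tF_s7_9 (j : Nat) : Nat := @Bool.rec (fun _ => Nat) tF_L7 tF_L8 (Nat.ble (nat_lit 8) j)
noncomputable def tF_s9_11 (j : Nat) : Nat := @Bool.rec (fun _ => Nat) tF_L9 tF_L10 (Nat.ble (nat_lit 10) j)
noncomputable def tF_s11_13 (j : Nat) : Nat := @Bool.rec (fun _ => Nat) tF_L11 tF_L12 (Nat.ble (nat_lit 12) j)
noncomputable def tF_s0_13 (j : Nat) : Nat := @Bool.rec (fun _ => Nat) (@Bool.rec (fun _ => Nat) (@Bool.rec (fun _ => Nat) tF_L0 (tF_s1_3 j) (Nat.ble (nat_lit 1) j)) (@Bool.rec (fun _ => Nat) tF_L3 (tF_s4_6 j) (Nat.ble (nat_lit 4) j)) (Nat.ble (nat_lit 3) j)) (@Bool.rec (fun _ => Nat) (@Bool.rec (fun _ => Nat) tF_L6 (tF_s7_9 j) (Nat.ble (nat_lit 7) j)) (@Bool.rec (fun _ => Nat) (tF_s9_11 j) (tF_s11_13 j) (Nat.ble (nat_lit 11) j)) (Nat.ble (nat_lit 9) j)) (Nat.ble (nat_lit 6) j)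
noncomputable def tF (i : Nat) : Nat := Nat.land (Nat.shiftRight (tF_s0_13 (Nat.div i (nat_lit 18181))) (Nat.mul (nat_lit 44) (Nat.mod i (nat_lit 18181)))) (nat_lit 17592186044415)
noncomputable def tD_s0_2 (j : Nat) : Nat := @Bool.rec (fun _ => Nat) tD_L0 tD_L1 (Nat.ble (nat_lit 1) j)
noncomputable def tD (i : Nat) : Nat := Nat.land (Nat.shiftRight (tD_s0_2 (Nat.div i (nat_lit 33333))) (Nat.mul (nat_lit 24) (Nat.mod i (nat_lit 33333)))) (nat_lit 16777215)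
noncomputable def tT_s0_7 (j : Nat) : Nat := @Bool.rec (fun _ => Nat) (@Bool.rec (fun _ => Nat) tT_L0 (@Bool.rec (fun _ => Nat) tT_L1 tT_L2 (Nat.ble (nat_lit 2) j)) (Nat.ble (nat_lit 1) j)) (@Bool.rec (fun _ => Nat) (@Bool.rec (fun _ => Nat) tT_L3 tT_L4 (Nat.ble (nat_lit 4) j)) (@Bool.rec (fun _ => Nat) tT_L5 tT_L6 (Nat.ble (nat_lit 6) j)) (Nat.ble (nat_lit 5) j)) (Nat.ble (nat_lit 3) j)
noncomputable def tT (i : Nat) : Nat := Nat.land (Nat.shiftRight (tT_s0_7 (Nat.div i (nat_lit 53333))) (Nat.mul (nat_lit 15) (Nat.mod i (nat_lit 53333)))) (nat_lit 32767)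
noncomputable def tPP (i : Nat) : Nat := Nat.land (Nat.shiftRight tPP_L0 (Nat.mul (nat_lit 19) i)) (nat_lit 524287)
noncomputable def tNO (i : Nat) : Nat := Nat.land (Nat.shiftRight tNO_L0 (Nat.mul (nat_lit 16) i)) (nat_lit 65535)
noncomputable def tTAB_s0_5 (j : Nat) : Nat := @Bool.rec (fun _ => Nat) (@Bool.rec (fun _ => Nat) tTAB_L0 tTAB_L1 (Nat.ble (nat_lit 1) j)) (@Bool.rec (fun _ => Nat) tTAB_L2 (@Bool.rec (fun _ => Nat) tTAB_L3 tTAB_L4 (Nat.ble (nat_lit 4) j)) (Nat.ble (nat_lit 3) j)) (Nat.ble (nat_lit 2) j)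
noncomputable def tTAB (i : Nat) : Nat := Nat.land (Nat.shiftRight (tTAB_s0_5 (Nat.div i (nat_lit 44444))) (Nat.mul (nat_lit 18) (Nat.mod i (nat_lit 44444)))) (nat_lit 262143)
noncomputable def tORB (i : Nat) : Nat := Nat.land (Nat.shiftRight tORB_L0 (Nat.mul (nat_lit 8) i)) (nat_lit 255)
noncomputable def tORK (i : Nat) : Nat := Nat.land (Nat.shiftRight tORK_L0 (Nat.mul (nat_lit 4) i)) (nat_lit 15)
noncomputable def tOPAR (i : Nat) : Nat := Nat.land (Nat.shiftRight tOPAR_L0 (Nat.mul (nat_lit 25) i)) (nat_lit 33554431)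
noncomputable def tROOT (i : Nat) : Nat := Nat.land (Nat.shiftRight tROOT_L0 (Nat.mul (nat_lit 15) i)) (nat_lit 32767)
noncomputable def tJ_O_s0_6 (j : Nat) : Nat := @Bool.rec (fun _ => Nat) (@Bool.rec (fun _ => Nat) tJ_O_L0 (@Bool.rec (fun _ => Nat) tJ_O_L1 tJ_O_L2 (Nat.ble (nat_lit 2) j)) (Nat.ble (nat_lit 1) j)) (@Bool.rec (fun _ => Nat) tJ_O_L3 (@Bool.rec (fun _ => Nat) tJ_O_L4 tJ_O_L5 (Nat.ble (nat_lit 5) j)) (Nat.ble (nat_lit 4) j)) (Nat.ble (nat_lit 3) j)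
noncomputable def tJ_O (i : Nat) : Nat := Nat.land (Nat.shiftRight (tJ_O_s0_6 (Nat.div i (nat_lit 44444))) (Nat.mul (nat_lit 18) (Nat.mod i (nat_lit 44444)))) (nat_lit 262143)
noncomputable def tJ_s1_3 (j : Nat) : Nat := @Bool.rec (fun _ => Nat) tJ_P1 tJ_P2 (Nat.ble (nat_lit 2) j)
noncomputable def tJ_s3_5 (j : Nat) : Nat := @Bool.rec (fun _ => Nat) tJ_P3 tJ_P4 (Nat.ble (nat_lit 4) j)
noncomputable def tJ_s5_7 (j : Nat) : Nat := @Bool.rec (fun _ => Nat) tJ_P5 tJ_P6 (Nat.ble (nat_lit 6) j)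
noncomputable def tJ_s8_10 (j : Nat) : Nat := @Bool.rec (fun _ => Nat) tJ_P8 tJ_P9 (Nat.ble (nat_lit 9) j)
noncomputable def tJ_s10_12 (j : Nat) : Nat := @Bool.rec (fun _ => Nat) tJ_P10 tJ_P11 (Nat.ble (nat_lit 11) j)
noncomputable def tJ_s12_14 (j : Nat) : Nat := @Bool.rec (fun _ => Nat) tJ_P12 tJ_P13 (Nat.ble (nat_lit 13) j)
noncomputable def tJ_s0_14 (j : Nat) : Nat := @Bool.rec (fun _ => Nat) (@Bool.rec (fun _ => Nat) (@Bool.rec (fun _ => Nat) tJ_P0 (tJ_s1_3 j) (Nat.ble (nat_lit 1) j)) (@Bool.rec (fun _ => Nat) (tJ_s3_5 j) (tJ_s5_7 j) (Nat.ble (nat_lit 5) j)) (Nat.ble (nat_lit 3) j)) (@Bool.rec (fun _ => Nat) (@Bool.rec (fun _ => Nat) tJ_P7 (tJ_s8_10 j) (Nat.ble (nat_lit 8) j)) (@Bool.rec (fun _ => Nat) (tJ_s10_12 j) (tJ_s12_14 j) (Nat.ble (nat_lit 12) j)) (Nat.ble (nat_lit 10) j)) (Nat.ble (nat_lit 7) j)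
noncomputable def tJ_s15_17 (j : Nat) : Nat := @Bool.rec (fun _ => Nat) tJ_P15 tJ_P16 (Nat.ble (nat_lit 16) j)
noncomputable def tJ_s17_19 (j : Nat) : Nat := @Bool.rec (fun _ => Nat) tJ_P17 tJ_P18 (Nat.ble (nat_lit 18) j)
noncomputable def tJ_s19_21 (j : Nat) : Nat := @Bool.rec (fun _ => Nat) tJ_P19 tJ_P20 (Nat.ble (nat_lit 20) j)
noncomputable def tJ_s22_24 (j : Nat) : Nat := @Bool.rec (fun _ => Nat) tJ_P22 tJ_P23 (Nat.ble (nat_lit 23) j)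
noncomputable def tJ_s24_26 (j : Nat) : Nat := @Bool.rec (fun _ => Nat) tJ_P24 tJ_P25 (Nat.ble (nat_lit 25) j)
noncomputable def tJ_s26_28 (j : Nat) : Nat := @Bool.rec (fun _ => Nat) tJ_P26 tJ_P27 (Nat.ble (nat_lit 27) j)
noncomputable def tJ_s14_28 (j : Nat) : Nat := @Bool.rec (fun _ => Nat) (@Bool.rec (fun _ => Nat) (@Bool.rec (fun _ => Nat) tJ_P14 (tJ_s15_17 j) (Nat.ble (nat_lit 15) j)) (@Bool.rec (fun _ => Nat) (tJ_s17_19 j) (tJ_s19_21 j) (Nat.ble (nat_lit 19) j)) (Nat.ble (nat_lit 17) j)) (@Bool.rec (fun _ => Nat) (@Bool.rec (fun _ => Nat) tJ_P21 (tJ_s22_24 j) (Nat.ble (nat_lit 22) j)) (@Bool.rec (fun _ => Nat) (tJ_s24_26 j) (tJ_s26_28 j) (Nat.ble (nat_lit 26) j)) (Nat.ble (nat_lit 24) j)) (Nat.ble (nat_lit 21) j)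
noncomputable def tJ_s29_31 (j : Nat) : Nat := @Bool.rec (fun _ => Nat) tJ_P29 tJ_P30 (Nat.ble (nat_lit 30) j)
noncomputable def tJ_s31_33 (j : Nat) : Nat := @Bool.rec (fun _ => Nat) tJ_P31 tJ_P32 (Nat.ble (nat_lit 32) j)
noncomputable def tJ_s33_35 (j : Nat) : Nat := @Bool.rec (fun _ => Nat) tJ_P33 tJ_P34 (Nat.ble (nat_lit 34) j)
noncomputable def tJ_s36_38 (j : Nat) : Nat := @Bool.rec (fun _ => Nat) tJ_P36 tJ_P37 (Nat.ble (nat_lit 37) j)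
noncomputable def tJ_s38_40 (j : Nat) : Nat := @Bool.rec (fun _ => Nat) tJ_P38 tJ_P39 (Nat.ble (nat_lit 39) j)
noncomputable def tJ_s40_42 (j : Nat) : Nat := @Bool.rec (fun _ => Nat) tJ_P40 tJ_P41 (Nat.ble (nat_lit 41) j)
noncomputable def tJ_s28_42 (j : Nat) : Nat := @Bool.rec (fun _ => Nat) (@Bool.rec (fun _ => Nat) (@Bool.rec (fun _ => Nat) tJ_P28 (tJ_s29_31 j) (Nat.ble (nat_lit 29) j)) (@Bool.rec (fun _ => Nat) (tJ_s31_33 j) (tJ_s33_35 j) (Nat.ble (nat_lit 33) j)) (Nat.ble (nat_lit 31) j)) (@Bool.rec (fun _ => Nat) (@Bool.rec (fun _ => Nat) tJ_P35 (tJ_s36_38 j) (Nat.ble (nat_lit 36) j)) (@Bool.rec (fun _ => Nat) (tJ_s38_40 j) (tJ_s40_42 j) (Nat.ble (nat_lit 40) j)) (Nat.ble (nat_lit 38) j)) (Nat.ble (nat_lit 35) j)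
noncomputable def tJ_s43_45 (j : Nat) : Nat := @Bool.rec (fun _ => Nat) tJ_P43 tJ_P44 (Nat.ble (nat_lit 44) j)
noncomputable def tJ_s45_47 (j : Nat) : Nat := @Bool.rec (fun _ => Nat) tJ_P45 tJ_P46 (Nat.ble (nat_lit 46) j)
noncomputable def tJ_s47_49 (j : Nat) : Nat := @Bool.rec (fun _ => Nat) tJ_P47 tJ_P48 (Nat.ble (nat_lit 48) j)
noncomputable def tJ_s49_51 (j : Nat) : Nat := @Bool.rec (fun _ => Nat) tJ_P49 tJ_P50 (Nat.ble (nat_lit 50) j)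
noncomputable def tJ_s51_53 (j : Nat) : Nat := @Bool.rec (fun _ => Nat) tJ_P51 tJ_P52 (Nat.ble (nat_lit 52) j)
noncomputable def tJ_s53_55 (j : Nat) : Nat := @Bool.rec (fun _ => Nat) tJ_P53 tJ_P54 (Nat.ble (nat_lit 54) j)
noncomputable def tJ_s55_57 (j : Nat) : Nat := @Bool.rec (fun _ => Nat) tJ_P55 tJ_P56 (Nat.ble (nat_lit 56) j)
noncomputable def tJ_s42_57 (j : Nat) : Nat := @Bool.rec (fun _ => Nat) (@Bool.rec (fun _ => Nat) (@Bool.rec (fun _ => Nat) tJ_P42 (tJ_s43_45 j) (Nat.ble (nat_lit 43) j)) (@Bool.rec (fun _ => Nat) (tJ_s45_47 j) (tJ_s47_49 j) (Nat.ble (nat_lit 47) j)) (Nat.ble (nat_lit 45) j)) (@Bool.rec (fun _ => Nat) (@Bool.rec (fun _ => Nat) (tJ_s49_51 j) (tJ_s51_53 j) (Nat.ble (nat_lit 51) j)) (@Bool.rec (fun _ => Nat) (tJ_s53_55 j) (tJ_s55_57 j) (Nat.ble (nat_lit 55) j)) (Nat.ble (nat_lit 53) j)) (Nat.ble (nat_lit 49) j)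
noncomputable def tJ_s58_60 (j : Nat) : Nat := @Bool.rec (fun _ => Nat) tJ_P58 tJ_P59 (Nat.ble (nat_lit 59) j)
noncomputable def tJ_s60_62 (j : Nat) : Nat := @Bool.rec (fun _ => Nat) tJ_P60 tJ_P61 (Nat.ble (nat_lit 61) j)
noncomputable def tJ_s62_64 (j : Nat) : Nat := @Bool.rec (fun _ => Nat) tJ_P62 tJ_P63 (Nat.ble (nat_lit 63) j)
noncomputable def tJ_s65_67 (j : Nat) : Nat := @Bool.rec (fun _ => Nat) tJ_P65 tJ_P66 (Nat.ble (nat_lit 66) j)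
noncomputable def tJ_s67_69 (j : Nat) : Nat := @Bool.rec (fun _ => Nat) tJ_P67 tJ_P68 (Nat.ble (nat_lit 68) j)
noncomputable def tJ_s69_71 (j : Nat) : Nat := @Bool.rec (fun _ => Nat) tJ_P69 tJ_P70 (Nat.ble (nat_lit 70) j)
noncomputable def tJ_s57_71 (j : Nat) : Nat := @Bool.rec (fun _ => Nat) (@Bool.rec (fun _ => Nat) (@Bool.rec (fun _ => Nat) tJ_P57 (tJ_s58_60 j) (Nat.ble (nat_lit 58) j)) (@Bool.rec (fun _ => Nat) (tJ_s60_62 j) (tJ_s62_64 j) (Nat.ble (nat_lit 62) j)) (Nat.ble (nat_lit 60) j)) (@Bool.rec (fun _ => Nat) (@Bool.rec (fun _ => Nat) tJ_P64 (tJ_s65_67 j) (Nat.ble (nat_lit 65) j)) (@Bool.rec (fun _ => Nat) (tJ_s67_69 j) (tJ_s69_71 j) (Nat.ble (nat_lit 69) j)) (Nat.ble (nat_lit 67) j)) (Nat.ble (nat_lit 64) j)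
noncomputable def tJ_s72_74 (j : Nat) : Nat := @Bool.rec (fun _ => Nat) tJ_P72 tJ_P73 (Nat.ble (nat_lit 73) j)
noncomputable def tJ_s74_76 (j : Nat) : Nat := @Bool.rec (fun _ => Nat) tJ_P74 tJ_P75 (Nat.ble (nat_lit 75) j)
noncomputable def tJ_s76_78 (j : Nat) : Nat := @Bool.rec (fun _ => Nat) tJ_P76 tJ_P77 (Nat.ble (nat_lit 77) j)
noncomputable def tJ_s78_80 (j : Nat) : Nat := @Bool.rec (fun _ => Nat) tJ_P78 tJ_P79 (Nat.ble (nat_lit 79) j)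
noncomputable def tJ_s80_82 (j : Nat) : Nat := @Bool.rec (fun _ => Nat) tJ_P80 tJ_P81 (Nat.ble (nat_lit 81) j)
noncomputable def tJ_s82_84 (j : Nat) : Nat := @Bool.rec (fun _ => Nat) tJ_P82 tJ_P83 (Nat.ble (nat_lit 83) j)
noncomputable def tJ_s84_86 (j : Nat) : Nat := @Bool.rec (fun _ => Nat) tJ_P84 tJ_P85 (Nat.ble (nat_lit 85) j)
noncomputable def tJ_s71_86 (j : Nat) : Nat := @Bool.rec (fun _ => Nat) (@Bool.rec (fun _ => Nat) (@Bool.rec (fun _ => Nat) tJ_P71 (tJ_s72_74 j) (Nat.ble (nat_lit 72) j)) (@Bool.rec (fun _ => Nat) (tJ_s74_76 j) (tJ_s76_78 j) (Nat.ble (nat_lit 76) j)) (Nat.ble (nat_lit 74) j)) (@Bool.rec (fun _ => Nat) (@Bool.rec (fun _ => Nat) (tJ_s78_80 j) (tJ_s80_82 j) (Nat.ble (nat_lit 80) j)) (@Bool.rec (fun _ => Nat) (tJ_s82_84 j) (tJ_s84_86 j) (Nat.ble (nat_lit 84) j)) (Nat.ble (nat_lit 82) j)) (Nat.ble (nat_lit 78) j)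
noncomputable def tJ_s87_89 (j : Nat) : Nat := @Bool.rec (fun _ => Nat) tJ_P87 tJ_P88 (Nat.ble (nat_lit 88) j)
noncomputable def tJ_s89_91 (j : Nat) : Nat := @Bool.rec (fun _ => Nat) tJ_P89 tJ_P90 (Nat.ble (nat_lit 90) j)
noncomputable def tJ_s91_93 (j : Nat) : Nat := @Bool.rec (fun _ => Nat) tJ_P91 tJ_P92 (Nat.ble (nat_lit 92) j)
noncomputable def tJ_s94_96 (j : Nat) : Nat := @Bool.rec (fun _ => Nat) tJ_P94 tJ_P95 (Nat.ble (nat_lit 95) j)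
noncomputable def tJ_s96_98 (j : Nat) : Nat := @Bool.rec (fun _ => Nat) tJ_P96 tJ_P97 (Nat.ble (nat_lit 97) j)
noncomputable def tJ_s98_100 (j : Nat) : Nat := @Bool.rec (fun _ => Nat) tJ_P98 tJ_P99 (Nat.ble (nat_lit 99) j)
noncomputable def tJ_s86_100 (j : Nat) : Nat := @Bool.rec (fun _ => Nat) (@Bool.rec (fun _ => Nat) (@Bool.rec (fun _ => Nat) tJ_P86 (tJ_s87_89 j) (Nat.ble (nat_lit 87) j)) (@Bool.rec (fun _ => Nat) (tJ_s89_91 j) (tJ_s91_93 j) (Nat.ble (nat_lit 91) j)) (Nat.ble (nat_lit 89) j)) (@Bool.rec (fun _ => Nat) (@Bool.rec (fun _ => Nat) tJ_P93 (tJ_s94_96 j) (Nat.ble (nat_lit 94) j)) (@Bool.rec (fun _ => Nat) (tJ_s96_98 j) (tJ_s98_100 j) (Nat.ble (nat_lit 98) j)) (Nat.ble (nat_lit 96) j)) (Nat.ble (nat_lit 93) j)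
noncomputable def tJ_s101_103 (j : Nat) : Nat := @Bool.rec (fun _ => Nat) tJ_P101 tJ_P102 (Nat.ble (nat_lit 102) j)
noncomputable def tJ_s103_105 (j : Nat) : Nat := @Bool.rec (fun _ => Nat) tJ_P103 tJ_P104 (Nat.ble (nat_lit 104) j)
noncomputable def tJ_s105_107 (j : Nat) : Nat := @Bool.rec (fun _ => Nat) tJ_P105 tJ_P106 (Nat.ble (nat_lit 106) j)
noncomputable def tJ_s107_109 (j : Nat) : Nat := @Bool.rec (fun _ => Nat) tJ_P107 tJ_P108 (Nat.ble (nat_lit 108) j)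
noncomputable def tJ_s109_111 (j : Nat) : Nat := @Bool.rec (fun _ => Nat) tJ_P109 tJ_P110 (Nat.ble (nat_lit 110) j)
noncomputable def tJ_s111_113 (j : Nat) : Nat := @Bool.rec (fun _ => Nat) tJ_P111 tJ_P112 (Nat.ble (nat_lit 112) j)
noncomputable def tJ_s113_115 (j : Nat) : Nat := @Bool.rec (fun _ => Nat) tJ_P113 tJ_P114 (Nat.ble (nat_lit 114) j)
noncomputable def tJ_s100_115 (j : Nat) : Nat := @Bool.rec (fun _ => Nat) (@Bool.rec (fun _ => Nat) (@Bool.rec (fun _ => Nat) tJ_P100 (tJ_s101_103 j) (Nat.ble (nat_lit 101) j)) (@Bool.rec (fun _ => Nat) (tJ_s103_105 j) (tJ_s105_107 j) (Nat.ble (nat_lit 105) j)) (Nat.ble (nat_lit 103) j)) (@Bool.rec (fun _ => Nat) (@Bool.rec (fun _ => Nat) (tJ_s107_109 j) (tJ_s109_111 j) (Nat.ble (nat_lit 109) j)) (@Bool.rec (fun _ => Nat) (tJ_s111_113 j) (tJ_s113_115 j) (Nat.ble (nat_lit 113) j)) (Nat.ble (nat_lit 111) j))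 (Nat.ble (nat_lit 107) j)
noncomputable def tJ_s0_115 (j : Nat) : Nat := @Bool.rec (fun _ => Nat) (@Bool.rec (fun _ => Nat) (@Bool.rec (fun _ => Nat) (tJ_s0_14 j) (tJ_s14_28 j) (Nat.ble (nat_lit 14) j)) (@Bool.rec (fun _ => Nat) (tJ_s28_42 j) (tJ_s42_57 j) (Nat.ble (nat_lit 42) j)) (Nat.ble (nat_lit 28) j)) (@Bool.rec (fun _ => Nat) (@Bool.rec (fun _ => Nat) (tJ_s57_71 j) (tJ_s71_86 j) (Nat.ble (nat_lit 71) j)) (@Bool.rec (fun _ => Nat) (tJ_s86_100 j) (tJ_s100_115 j) (Nat.ble (nat_lit 100) j)) (Nat.ble (nat_lit 86) j)) (Nat.ble (nat_lit 57) j)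
noncomputable def tJ (i : Nat) : Nat := Nat.land (Nat.shiftRight (tJ_s0_115 (Nat.div i (nat_lit 2048))) (tJ_O i)) (nat_lit 78804012392788958424558080200287227610159478540930893335896586808491443542994421222828532509769831281613255980613631)

noncomputable def rels : List (List Nat) := [[2, 2], [2, 4, 2, 4, 2, 4], [2, 6, 2, 6], [2, 8, 2, 8], [2, 10, 2, 10], [2, 12, 2, 12], [4, 4], [4, 6, 4, 6, 4, 6], [4, 8, 4, 8], [4, 10, 4, 10], [4, 12, 4, 12], [6, 6], [6, 8, 6, 8, 6, 8, 6, 8, 6, 8, 6, 8, 6, 8, 6, 8], [6, 10, 6, 10], [6, 12, 6, 12], [8, 8], [8, 10, 8, 10, 8, 10], [8, 12, 8, 12], [10, 10], [10, 12, 10, 12, 10, 12], [12, 12], [2, 12, 9, 7, 9, 7, 9, 7, 9, 7], [0]]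
noncomputable def subs : List (List Nat) := [[2], [4], [6], [10], [12]]
noncomputable def rels2 : List (List (List Nat)) := [[[2, 2], [2, 4, 2, 4, 2, 4], [2, 6, 2, 6], [2, 8, 2, 8], [2, 10, 2, 10], [2, 12, 2, 12], [4, 4], [4, 6, 4, 6, 4, 6]], [[4, 8, 4, 8], [4, 10, 4, 10], [4, 12, 4, 12], [6, 6], [6, 8, 6, 8, 6, 8, 6, 8, 6, 8, 6, 8, 6, 8, 6, 8], [6, 10, 6, 10], [6, 12, 6, 12], [8, 8]], [[8, 10, 8, 10, 8, 10], [8, 12, 8, 12], [10, 10], [10, 12, 10, 12, 10, 12], [12, 12], [2, 12, 9, 7, 9, 7, 9, 7, 9, 7], [0]]]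
noncomputable def cert : Cert := ⟨7, 26068, 234779, tF, tJ, tD, rels, subs, tT, tPP, tNO, tTAB, rels2, tORB, tORK, tOPAR, tROOT⟩

end Cfsg.Agent.Lib.Helper28.ON6Data
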