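import Cfsg.Agent.Lib.Helper28.ONData
import Cfsg.Agent.Lib.Helper28.TCSound

set_option autoImplicit false
set_option maxRecDepth 1000000
set_option linter.all false
set_option Elab.async false

namespace Cfsg.Agent.Lib.Helper28.ONData

open Cfsg.Agent.Lib.Helper28

theorem chkF_2000 : allRange (checkFact cert) 2000 2000 = true := by decide +kernel
theorem chkF_66000 : allRange (checkFact cert) 66000 2000 = true := by decide +kernel
theorem chkF_130000 : allRange (checkFact cert) 130000 2000 = true := by decide +kernel
theorem chkF_194000 : allRange (checkFact cert) 194000 2000 = true := by decide +kernel
theorem chkF_258000 : allRange (checkFact cert) 258000 2000 = true := by decide +kernel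
theorem chkF_322000 : allRange (checkFact cert) 322000 2000 = true := by decide +kernel
theorem chkF_386000 : allRange (checkFact cert) 386000 2000 = true := by decide +kernel
theorem chkF_450000 : allRange (checkFact cert) 450000 2000 = true := by decide +kernel
theorem chkF_514000 : allRange (checkFact cert) 514000 2000 = true := by decide +kernel
theorem chkF_578000 : allRange (checkFact cert) 578000 2000 = true := by decide +kernel
theorem chkF_642000 : allRange (checkFact cert) 642000 2000 = true := by decide +kernel
theorem chkF_706000 : allRange (checkFact cert) 706000 2000 = true := by decide +kernel
theorem chkF_770000 : allRange (checkFact cert) 770000 2000 = true := by decide +kernel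
theorem chkF_834000 : allRange (checkFact cert) 834000 2000 = true := by decide +kernel
theorem chkF_898000 : allRange (checkFact cert) 898000 2000 = true := by decide +kernel
theorem chkF_962000 : allRange (checkFact cert) 962000 2000 = true := by decide +kernel
theorem chkF_1026000 : allRange (checkFact cert) 1026000 2000 = true := by decide +kernel
theorem chkF_1090000 : allRange (checkFact cert) 1090000 2000 = true := by decide +kernel
theorem chkF_1154000 : allRange (checkFact cert) 1154000 2000 = true := by decide +kernel
theorem chkP_400 : allRange (fun p => checkPoint cert p && checkOrb cert p) 400 100 = true := by decide +kernel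
theorem chkP_3600 : allRange (fun p => checkPoint cert p && checkOrb cert p) 3600 100 = true := by decide +kernel
theorem chkP_6800 : allRange (fun p => checkPoint cert p && checkOrb cert p) 6800 100 = true := by decide +kernel
theorem chkP_10000 : allRange (fun p => checkPoint cert p && checkOrb cert p) 10000 100 = true := by decide +kernel
theorem chkP_13200 : allRange (fun p => checkPoint cert p && checkOrb cert p) 13200 100 = true := by decide +kernel
theorem chkP_16400 : allRange (fun p => checkPoint cert p && checkOrb cert p) 16400 100 = true := by decide +kernel
theorem chkP_19600 : allRange (fun p => checkPoint cert p && checkOrb cert p) 19600 100 = true := by decide +kernel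
theorem chkP_22800 : allRange (fun p => checkPoint cert p && checkOrb cert p) 22800 100 = true := by decide +kernel
theorem chkP_26000 : allRange (fun p => checkPoint cert p && checkOrb cert p) 26000 100 = true := by decide +kernel
theorem chkP_29200 : allRange (fun p => checkPoint cert p && checkOrb cert p) 29200 100 = true := by decide +kernel
theorem chkP_32400 : allRange (fun p => checkPoint cert p && checkOrb cert p) 32400 100 = true := by decide +kernel
theorem chkP_35600 : allRange (fun p => checkPoint cert p && checkOrb cert p) 35600 100 = true := by decide +kernel
theorem chkP_38800 : allRange (fun p => checkPoint cert p && checkOrb cert p) 38800 100 = true := by decide +kernel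
theorem chkP_42000 : allRange (fun p => checkPoint cert p && checkOrb cert p) 42000 100 = true := by decide +kernel
theorem chkP_45200 : allRange (fun p => checkPoint cert p && checkOrb cert p) 45200 100 = true := by decide +kernel
theorem chkP_48400 : allRange (fun p => checkPoint cert p && checkOrb cert p) 48400 100 = true := by decide +kernel
theorem chkP_51600 : allRange (fun p => checkPoint cert p && checkOrb cert p) 51600 100 = true := by decide +kernel
theorem chkP_54800 : allRange (fun p => checkPoint cert p && checkOrb cert p) 54800 100 = true := by decide +kernel
theorem chkP_58000 : allRange (fun p => checkPoint cert p && checkOrb cert p) 58000 100 = true := by decide +kernel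
theorem chkP_61200 : allRange (fun p => checkPoint cert p && checkOrb cert p) 61200 100 = true := by decide +kernel
theorem chkP_64400 : allRange (fun p => checkPoint cert p && checkOrb cert p) 64400 100 = true := by decide +kernel
theorem chkP_67600 : allRange (fun p => checkPoint cert p && checkOrb cert p) 67600 100 = true := by decide +kernel
theorem chkP_70800 : allRange (fun p => checkPoint cert p && checkOrb cert p) 70800 100 = true := by decide +kernel
theorem chkP_74000 : allRange (fun p => checkPoint cert p && checkOrb cert p) 74000 100 = true := by decide +kernel
theorem chkP_77200 : allRange (fun p => checkPoint cert p && checkOrb cert p) 77200 100 = true := by decide +kernel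
theorem chkP_80400 : allRange (fun p => checkPoint cert p && checkOrb cert p) 80400 100 = true := by decide +kernel
theorem chkP_83600 : allRange (fun p => checkPoint cert p && checkOrb cert p) 83600 100 = true := by decide +kernel
theorem chkP_86800 : allRange (fun p => checkPoint cert p && checkOrb cert p) 86800 100 = true := by decide +kernel
theorem chkP_90000 : allRange (fun p => checkPoint cert p && checkOrb cert p) 90000 100 = true := by decide +kernel
theorem chkP_93200 : allRange (fun p => checkPoint cert p && checkOrb cert p) 93200 100 = true := by decide +kernel
theorem chkP_96400 : allRange (fun p => checkPoint cert p && checkOrb cert p) 96400 100 = true := by decide +kernel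
theorem chkP_99600 : allRange (fun p => checkPoint cert p && checkOrb cert p) 99600 100 = true := by decide +kernel
theorem chkP_102800 : allRange (fun p => checkPoint cert p && checkOrb cert p) 102800 100 = true := by decide +kernel
theorem chkP_106000 : allRange (fun p => checkPoint cert p && checkOrb cert p) 106000 100 = true := by decide +kernel
theorem chkP_109200 : allRange (fun p => checkPoint cert p && checkOrb cert p) 109200 100 = true := by decide +kernel
theorem chkP_112400 : allRange (fun p => checkPoint cert p && checkOrb cert p) 112400 100 = true := by decide +kernel
theorem chkP_115600 : allRange (fun p => checkPoint cert p && checkOrb cert p) 115600 100 = true := by decide +kernel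
theorem chkP_118800 : allRange (fun p => checkPoint cert p && checkOrb cert p) 118800 100 = true := by decide +kernel
theorem chkP_122000 : allRange (fun p => checkPoint cert p && checkOrb cert p) 122000 100 = true := by decide +kernel

end Cfsg.Agent.Lib.Helper28.ONData
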