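import Cfsg.Agent.Lib.Helper28.ONData
import Cfsg.Agent.Lib.Helper28.TCSound

set_option autoImplicit false
set_option maxRecDepth 1000000
set_option linter.all false
set_option Elab.async false

namespace Cfsg.Agent.Lib.Helper28.ONData

open Cfsg.Agent.Lib.Helper28

theorem chkF_20000 : allRange (checkFact cert) 20000 2000 = true := by decide +kernel
theorem chkF_84000 : allRange (checkFact cert) 84000 2000 = true := by decide +kernel
theorem chkF_148000 : allRange (checkFact cert) 148000 2000 = true := by decide +kernel
theorem chkF_212000 : allRange (checkFact cert) 212000 2000 = true := by decide +kernel
theorem chkF_276000 : allRange (checkFact cert) 276000 2000 = true := by decide +kernel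
theorem chkF_340000 : allRange (checkFact cert) 340000 2000 = true := by decide +kernel
theorem chkF_404000 : allRange (checkFact cert) 404000 2000 = true := by decide +kernel
theorem chkF_468000 : allRange (checkFact cert) 468000 2000 = true := by decide +kernel
theorem chkF_532000 : allRange (checkFact cert) 532000 2000 = true := by decide +kernel
theorem chkF_596000 : allRange (checkFact cert) 596000 2000 = true := by decide +kernel
theorem chkF_660000 : allRange (checkFact cert) 660000 2000 = true := by decide +kernel
theorem chkF_724000 : allRange (checkFact cert) 724000 2000 = true := by decide +kernel
theorem chkF_788000 : allRange (checkFact cert) 788000 2000 = true := by decide +kernel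
theorem chkF_852000 : allRange (checkFact cert) 852000 2000 = true := by decide +kernel
theorem chkF_916000 : allRange (checkFact cert) 916000 2000 = true := by decide +kernel
theorem chkF_980000 : allRange (checkFact cert) 980000 2000 = true := by decide +kernel
theorem chkF_1044000 : allRange (checkFact cert) 1044000 2000 = true := by decide +kernel
theorem chkF_1108000 : allRange (checkFact cert) 1108000 2000 = true := by decide +kernel
theorem chkF_1172000 : allRange (checkFact cert) 1172000 2000 = true := by decide +kernel
theorem chkP_1300 : allRange (fun p => checkPoint cert p && checkOrb cert p) 1300 100 = true := by decide +kernel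
theorem chkP_4500 : allRange (fun p => checkPoint cert p && checkOrb cert p) 4500 100 = true := by decide +kernel
theorem chkP_7700 : allRange (fun p => checkPoint cert p && checkOrb cert p) 7700 100 = true := by decide +kernel
theorem chkP_10900 : allRange (fun p => checkPoint cert p && checkOrb cert p) 10900 100 = true := by decide +kernel
theorem chkP_14100 : allRange (fun p => checkPoint cert p && checkOrb cert p) 14100 100 = true := by decide +kernel
theorem chkP_17300 : allRange (fun p => checkPoint cert p && checkOrb cert p) 17300 100 = true := by decide +kernel
theorem chkP_20500 : allRange (fun p => checkPoint cert p && checkOrb cert p) 20500 100 = true := by decide +kernel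
theorem chkP_23700 : allRange (fun p => checkPoint cert p && checkOrb cert p) 23700 100 = true := by decide +kernel
theorem chkP_26900 : allRange (fun p => checkPoint cert p && checkOrb cert p) 26900 100 = true := by decide +kernel
theorem chkP_30100 : allRange (fun p => checkPoint cert p && checkOrb cert p) 30100 100 = true := by decide +kernel
theorem chkP_33300 : allRange (fun p => checkPoint cert p && checkOrb cert p) 33300 100 = true := by decide +kernel
theorem chkP_36500 : allRange (fun p => checkPoint cert p && checkOrb cert p) 36500 100 = true := by decide +kernel
theorem chkP_39700 : allRange (fun p => checkPoint cert p && checkOrb cert p) 39700 100 = true := by decide +kernel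
theorem chkP_42900 : allRange (fun p => checkPoint cert p && checkOrb cert p) 42900 100 = true := by decide +kernel
theorem chkP_46100 : allRange (fun p => checkPoint cert p && checkOrb cert p) 46100 100 = true := by decide +kernel
theorem chkP_49300 : allRange (fun p => checkPoint cert p && checkOrb cert p) 49300 100 = true := by decide +kernel
theorem chkP_52500 : allRange (fun p => checkPoint cert p && checkOrb cert p) 52500 100 = true := by decide +kernel
theorem chkP_55700 : allRange (fun p => checkPoint cert p && checkOrb cert p) 55700 100 = true := by decide +kernel
theorem chkP_58900 : allRange (fun p => checkPoint cert p && checkOrb cert p) 58900 100 = true := by decide +kernel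
theorem chkP_62100 : allRange (fun p => checkPoint cert p && checkOrb cert p) 62100 100 = true := by decide +kernel
theorem chkP_65300 : allRange (fun p => checkPoint cert p && checkOrb cert p) 65300 100 = true := by decide +kernel
theorem chkP_68500 : allRange (fun p => checkPoint cert p && checkOrb cert p) 68500 100 = true := by decide +kernel
theorem chkP_71700 : allRange (fun p => checkPoint cert p && checkOrb cert p) 71700 100 = true := by decide +kernel
theorem chkP_74900 : allRange (fun p => checkPoint cert p && checkOrb cert p) 74900 100 = true := by decide +kernel
theorem chkP_78100 : allRange (fun p => checkPoint cert p && checkOrb cert p) 78100 100 = true := by decide +kernel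
theorem chkP_81300 : allRange (fun p => checkPoint cert p && checkOrb cert p) 81300 100 = true := by decide +kernel
theorem chkP_84500 : allRange (fun p => checkPoint cert p && checkOrb cert p) 84500 100 = true := by decide +kernel
theorem chkP_87700 : allRange (fun p => checkPoint cert p && checkOrb cert p) 87700 100 = true := by decide +kernel
theorem chkP_90900 : allRange (fun p => checkPoint cert p && checkOrb cert p) 90900 100 = true := by decide +kernel
theorem chkP_94100 : allRange (fun p => checkPoint cert p && checkOrb cert p) 94100 100 = true := by decide +kernel
theorem chkP_97300 : allRange (fun p => checkPoint cert p && checkOrb cert p) 97300 100 = true := by decide +kernel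
theorem chkP_100500 : allRange (fun p => checkPoint cert p && checkOrb cert p) 100500 100 = true := by decide +kernel
theorem chkP_103700 : allRange (fun p => checkPoint cert p && checkOrb cert p) 103700 100 = true := by decide +kernel
theorem chkP_106900 : allRange (fun p => checkPoint cert p && checkOrb cert p) 106900 100 = true := by decide +kernel
theorem chkP_110100 : allRange (fun p => checkPoint cert p && checkOrb cert p) 110100 100 = true := by decide +kernel
theorem chkP_113300 : allRange (fun p => checkPoint cert p && checkOrb cert p) 113300 100 = true := by decide +kernel
theorem chkP_116500 : allRange (fun p => checkPoint cert p && checkOrb cert p) 116500 100 = true := by decide +kernel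
theorem chkP_119700 : allRange (fun p => checkPoint cert p && checkOrb cert p) 119700 100 = true := by decide +kernel

end Cfsg.Agent.Lib.Helper28.ONData
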