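import Cfsg.Agent.Lib.Helper28.ONData
import Cfsg.Agent.Lib.Helper28.TCSound

set_option autoImplicit false
set_option maxRecDepth 1000000
set_option linter.all false
set_option Elab.async false

namespace Cfsg.Agent.Lib.Helper28.ONData

open Cfsg.Agent.Lib.Helper28

theorem chkF_22000 : allRange (checkFact cert) 22000 2000 = true := by decide +kernel
theorem chkF_86000 : allRange (checkFact cert) 86000 2000 = true := by decide +kernel
theorem chkF_150000 : allRange (checkFact cert) 150000 2000 = true := by decide +kernel
theorem chkF_214000 : allRange (checkFact cert) 214000 2000 = true := by decide +kernel
theorem chkF_278000 : allRange (checkFact cert) 278000 2000 = true := by decide +kernel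
theorem chkF_342000 : allRange (checkFact cert) 342000 2000 = true := by decide +kernel
theorem chkF_406000 : allRange (checkFact cert) 406000 2000 = true := by decide +kernel
theorem chkF_470000 : allRange (checkFact cert) 470000 2000 = true := by decide +kernel
theorem chkF_534000 : allRange (checkFact cert) 534000 2000 = true := by decide +kernel
theorem chkF_598000 : allRange (checkFact cert) 598000 2000 = true := by decide +kernel
theorem chkF_662000 : allRange (checkFact cert) 662000 2000 = true := by decide +kernel
theorem chkF_726000 : allRange (checkFact cert) 726000 2000 = true := by decide +kernel
theorem chkF_790000 : allRange (checkFact cert) 790000 2000 = true := by decide +kernel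
theorem chkF_854000 : allRange (checkFact cert) 854000 2000 = true := by decide +kernel
theorem chkF_918000 : allRange (checkFact cert) 918000 2000 = true := by decide +kernel
theorem chkF_982000 : allRange (checkFact cert) 982000 2000 = true := by decide +kernel
theorem chkF_1046000 : allRange (checkFact cert) 1046000 2000 = true := by decide +kernel
theorem chkF_1110000 : allRange (checkFact cert) 1110000 2000 = true := by decide +kernel
theorem chkF_1174000 : allRange (checkFact cert) 1174000 2000 = true := by decide +kernel
theorem chkP_1400 : allRange (fun p => checkPoint cert p && checkOrb cert p) 1400 100 = true := by decide +kernel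
theorem chkP_4600 : allRange (fun p => checkPoint cert p && checkOrb cert p) 4600 100 = true := by decide +kernel
theorem chkP_7800 : allRange (fun p => checkPoint cert p && checkOrb cert p) 7800 100 = true := by decide +kernel
theorem chkP_11000 : allRange (fun p => checkPoint cert p && checkOrb cert p) 11000 100 = true := by decide +kernel
theorem chkP_14200 : allRange (fun p => checkPoint cert p && checkOrb cert p) 14200 100 = true := by decide +kernel
theorem chkP_17400 : allRange (fun p => checkPoint cert p && checkOrb cert p) 17400 100 = true := by decide +kernel
theorem chkP_20600 : allRange (fun p => checkPoint cert p && checkOrb cert p) 20600 100 = true := by decide +kernel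
theorem chkP_23800 : allRange (fun p => checkPoint cert p && checkOrb cert p) 23800 100 = true := by decide +kernel
theorem chkP_27000 : allRange (fun p => checkPoint cert p && checkOrb cert p) 27000 100 = true := by decide +kernel
theorem chkP_30200 : allRange (fun p => checkPoint cert p && checkOrb cert p) 30200 100 = true := by decide +kernel
theorem chkP_33400 : allRange (fun p => checkPoint cert p && checkOrb cert p) 33400 100 = true := by decide +kernel
theorem chkP_36600 : allRange (fun p => checkPoint cert p && checkOrb cert p) 36600 100 = true := by decide +kernel
theorem chkP_39800 : allRange (fun p => checkPoint cert p && checkOrb cert p) 39800 100 = true := by decide +kernel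
theorem chkP_43000 : allRange (fun p => checkPoint cert p && checkOrb cert p) 43000 100 = true := by decide +kernel
theorem chkP_46200 : allRange (fun p => checkPoint cert p && checkOrb cert p) 46200 100 = true := by decide +kernel
theorem chkP_49400 : allRange (fun p => checkPoint cert p && checkOrb cert p) 49400 100 = true := by decide +kernel
theorem chkP_52600 : allRange (fun p => checkPoint cert p && checkOrb cert p) 52600 100 = true := by decide +kernel
theorem chkP_55800 : allRange (fun p => checkPoint cert p && checkOrb cert p) 55800 100 = true := by decide +kernel
theorem chkP_59000 : allRange (fun p => checkPoint cert p && checkOrb cert p) 59000 100 = true := by decide +kernel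
theorem chkP_62200 : allRange (fun p => checkPoint cert p && checkOrb cert p) 62200 100 = true := by decide +kernel
theorem chkP_65400 : allRange (fun p => checkPoint cert p && checkOrb cert p) 65400 100 = true := by decide +kernel
theorem chkP_68600 : allRange (fun p => checkPoint cert p && checkOrb cert p) 68600 100 = true := by decide +kernel
theorem chkP_71800 : allRange (fun p => checkPoint cert p && checkOrb cert p) 71800 100 = true := by decide +kernel
theorem chkP_75000 : allRange (fun p => checkPoint cert p && checkOrb cert p) 75000 100 = true := by decide +kernel
theorem chkP_78200 : allRange (fun p => checkPoint cert p && checkOrb cert p) 78200 100 = true := by decide +kernel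
theorem chkP_81400 : allRange (fun p => checkPoint cert p && checkOrb cert p) 81400 100 = true := by decide +kernel
theorem chkP_84600 : allRange (fun p => checkPoint cert p && checkOrb cert p) 84600 100 = true := by decide +kernel
theorem chkP_87800 : allRange (fun p => checkPoint cert p && checkOrb cert p) 87800 100 = true := by decide +kernel
theorem chkP_91000 : allRange (fun p => checkPoint cert p && checkOrb cert p) 91000 100 = true := by decide +kernel
theorem chkP_94200 : allRange (fun p => checkPoint cert p && checkOrb cert p) 94200 100 = true := by decide +kernel
theorem chkP_97400 : allRange (fun p => checkPoint cert p && checkOrb cert p) 97400 100 = true := by decide +kernel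
theorem chkP_100600 : allRange (fun p => checkPoint cert p && checkOrb cert p) 100600 100 = true := by decide +kernel
theorem chkP_103800 : allRange (fun p => checkPoint cert p && checkOrb cert p) 103800 100 = true := by decide +kernel
theorem chkP_107000 : allRange (fun p => checkPoint cert p && checkOrb cert p) 107000 100 = true := by decide +kernel
theorem chkP_110200 : allRange (fun p => checkPoint cert p && checkOrb cert p) 110200 100 = true := by decide +kernel
theorem chkP_113400 : allRange (fun p => checkPoint cert p && checkOrb cert p) 113400 100 = true := by decide +kernel
theorem chkP_116600 : allRange (fun p => checkPoint cert p && checkOrb cert p) 116600 100 = true := by decide +kernel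
theorem chkP_119800 : allRange (fun p => checkPoint cert p && checkOrb cert p) 119800 100 = true := by decide +kernel

end Cfsg.Agent.Lib.Helper28.ONData
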