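import Cfsg.Agent.Lib.Helper28.ONData
import Cfsg.Agent.Lib.Helper28.TCSound

set_option autoImplicit false
set_option maxRecDepth 1000000
set_option linter.all false
set_option Elab.async false

namespace Cfsg.Agent.Lib.Helper28.ONData

open Cfsg.Agent.Lib.Helper28

theorem chkF_24000 : allRange (checkFact cert) 24000 2000 = true := by decide +kernel
theorem chkF_88000 : allRange (checkFact cert) 88000 2000 = true := by decide +kernel
theorem chkF_152000 : allRange (checkFact cert) 152000 2000 = true := by decide +kernel
theorem chkF_216000 : allRange (checkFact cert) 216000 2000 = true := by decide +kernel
theorem chkF_280000 : allRange (checkFact cert) 280000 2000 = true := by decide +kernel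
theorem chkF_344000 : allRange (checkFact cert) 344000 2000 = true := by decide +kernel
theorem chkF_408000 : allRange (checkFact cert) 408000 2000 = true := by decide +kernel
theorem chkF_472000 : allRange (checkFact cert) 472000 2000 = true := by decide +kernel
theorem chkF_536000 : allRange (checkFact cert) 536000 2000 = true := by decide +kernel
theorem chkF_600000 : allRange (checkFact cert) 600000 2000 = true := by decide +kernel
theorem chkF_664000 : allRange (checkFact cert) 664000 2000 = true := by decide +kernel
theorem chkF_728000 : allRange (checkFact cert) 728000 2000 = true := by decide +kernel
theorem chkF_792000 : allRange (checkFact cert) 792000 2000 = true := by decide +kernel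
theorem chkF_856000 : allRange (checkFact cert) 856000 2000 = true := by decide +kernel
theorem chkF_920000 : allRange (checkFact cert) 920000 2000 = true := by decide +kernel
theorem chkF_984000 : allRange (checkFact cert) 984000 2000 = true := by decide +kernel
theorem chkF_1048000 : allRange (checkFact cert) 1048000 2000 = true := by decide +kernel
theorem chkF_1112000 : allRange (checkFact cert) 1112000 2000 = true := by decide +kernel
theorem chkF_1176000 : allRange (checkFact cert) 1176000 2000 = true := by decide +kernel
theorem chkP_1500 : allRange (fun p => checkPoint cert p && checkOrb cert p) 1500 100 = true := by decide +kernel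
theorem chkP_4700 : allRange (fun p => checkPoint cert p && checkOrb cert p) 4700 100 = true := by decide +kernel
theorem chkP_7900 : allRange (fun p => checkPoint cert p && checkOrb cert p) 7900 100 = true := by decide +kernel
theorem chkP_11100 : allRange (fun p => checkPoint cert p && checkOrb cert p) 11100 100 = true := by decide +kernel
theorem chkP_14300 : allRange (fun p => checkPoint cert p && checkOrb cert p) 14300 100 = true := by decide +kernel
theorem chkP_17500 : allRange (fun p => checkPoint cert p && checkOrb cert p) 17500 100 = true := by decide +kernel
theorem chkP_20700 : allRange (fun p => checkPoint cert p && checkOrb cert p) 20700 100 = true := by decide +kernel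
theorem chkP_23900 : allRange (fun p => checkPoint cert p && checkOrb cert p) 23900 100 = true := by decide +kernel
theorem chkP_27100 : allRange (fun p => checkPoint cert p && checkOrb cert p) 27100 100 = true := by decide +kernel
theorem chkP_30300 : allRange (fun p => checkPoint cert p && checkOrb cert p) 30300 100 = true := by decide +kernel
theorem chkP_33500 : allRange (fun p => checkPoint cert p && checkOrb cert p) 33500 100 = true := by decide +kernel
theorem chkP_36700 : allRange (fun p => checkPoint cert p && checkOrb cert p) 36700 100 = true := by decide +kernel
theorem chkP_39900 : allRange (fun p => checkPoint cert p && checkOrb cert p) 39900 100 = true := by decide +kernel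
theorem chkP_43100 : allRange (fun p => checkPoint cert p && checkOrb cert p) 43100 100 = true := by decide +kernel
theorem chkP_46300 : allRange (fun p => checkPoint cert p && checkOrb cert p) 46300 100 = true := by decide +kernel
theorem chkP_49500 : allRange (fun p => checkPoint cert p && checkOrb cert p) 49500 100 = true := by decide +kernel
theorem chkP_52700 : allRange (fun p => checkPoint cert p && checkOrb cert p) 52700 100 = true := by decide +kernel
theorem chkP_55900 : allRange (fun p => checkPoint cert p && checkOrb cert p) 55900 100 = true := by decide +kernel
theorem chkP_59100 : allRange (fun p => checkPoint cert p && checkOrb cert p) 59100 100 = true := by decide +kernel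
theorem chkP_62300 : allRange (fun p => checkPoint cert p && checkOrb cert p) 62300 100 = true := by decide +kernel
theorem chkP_65500 : allRange (fun p => checkPoint cert p && checkOrb cert p) 65500 100 = true := by decide +kernel
theorem chkP_68700 : allRange (fun p => checkPoint cert p && checkOrb cert p) 68700 100 = true := by decide +kernel
theorem chkP_71900 : allRange (fun p => checkPoint cert p && checkOrb cert p) 71900 100 = true := by decide +kernel
theorem chkP_75100 : allRange (fun p => checkPoint cert p && checkOrb cert p) 75100 100 = true := by decide +kernel
theorem chkP_78300 : allRange (fun p => checkPoint cert p && checkOrb cert p) 78300 100 = true := by decide +kernel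
theorem chkP_81500 : allRange (fun p => checkPoint cert p && checkOrb cert p) 81500 100 = true := by decide +kernel
theorem chkP_84700 : allRange (fun p => checkPoint cert p && checkOrb cert p) 84700 100 = true := by decide +kernel
theorem chkP_87900 : allRange (fun p => checkPoint cert p && checkOrb cert p) 87900 100 = true := by decide +kernel
theorem chkP_91100 : allRange (fun p => checkPoint cert p && checkOrb cert p) 91100 100 = true := by decide +kernel
theorem chkP_94300 : allRange (fun p => checkPoint cert p && checkOrb cert p) 94300 100 = true := by decide +kernel
theorem chkP_97500 : allRange (fun p => checkPoint cert p && checkOrb cert p) 97500 100 = true := by decide +kernel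
theorem chkP_100700 : allRange (fun p => checkPoint cert p && checkOrb cert p) 100700 100 = true := by decide +kernel
theorem chkP_103900 : allRange (fun p => checkPoint cert p && checkOrb cert p) 103900 100 = true := by decide +kernel
theorem chkP_107100 : allRange (fun p => checkPoint cert p && checkOrb cert p) 107100 100 = true := by decide +kernel
theorem chkP_110300 : allRange (fun p => checkPoint cert p && checkOrb cert p) 110300 100 = true := by decide +kernel
theorem chkP_113500 : allRange (fun p => checkPoint cert p && checkOrb cert p) 113500 100 = true := by decide +kernel
theorem chkP_116700 : allRange (fun p => checkPoint cert p && checkOrb cert p) 116700 100 = true := by decide +kernel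
theorem chkP_119900 : allRange (fun p => checkPoint cert p && checkOrb cert p) 119900 100 = true := by decide +kernel

end Cfsg.Agent.Lib.Helper28.ONData
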