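import Cfsg.Agent.Lib.Helper28.ONData
import Cfsg.Agent.Lib.Helper28.TCSound

set_option autoImplicit false
set_option maxRecDepth 1000000
set_option linter.all false
set_option Elab.async false

namespace Cfsg.Agent.Lib.Helper28.ONData

open Cfsg.Agent.Lib.Helper28

theorem chkF_26000 : allRange (checkFact cert) 26000 2000 = true := by decide +kernel
theorem chkF_90000 : allRange (checkFact cert) 90000 2000 = true := by decide +kernel
theorem chkF_154000 : allRange (checkFact cert) 154000 2000 = true := by decide +kernel
theorem chkF_218000 : allRange (checkFact cert) 218000 2000 = true := by decide +kernel
theorem chkF_282000 : allRange (checkFact cert) 282000 2000 = true := by decide +kernel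
theorem chkF_346000 : allRange (checkFact cert) 346000 2000 = true := by decide +kernel
theorem chkF_410000 : allRange (checkFact cert) 410000 2000 = true := by decide +kernel
theorem chkF_474000 : allRange (checkFact cert) 474000 2000 = true := by decide +kernel
theorem chkF_538000 : allRange (checkFact cert) 538000 2000 = true := by decide +kernel
theorem chkF_602000 : allRange (checkFact cert) 602000 2000 = true := by decide +kernel
theorem chkF_666000 : allRange (checkFact cert) 666000 2000 = true := by decide +kernel
theorem chkF_730000 : allRange (checkFact cert) 730000 2000 = true := by decide +kernel
theorem chkF_794000 : allRange (checkFact cert) 794000 2000 = true := by decide +kernel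
theorem chkF_858000 : allRange (checkFact cert) 858000 2000 = true := by decide +kernel
theorem chkF_922000 : allRange (checkFact cert) 922000 2000 = true := by decide +kernel
theorem chkF_986000 : allRange (checkFact cert) 986000 2000 = true := by decide +kernel
theorem chkF_1050000 : allRange (checkFact cert) 1050000 2000 = true := by decide +kernel
theorem chkF_1114000 : allRange (checkFact cert) 1114000 2000 = true := by decide +kernel
theorem chkF_1178000 : allRange (checkFact cert) 1178000 2000 = true := by decide +kernel
theorem chkP_1600 : allRange (fun p => checkPoint cert p && checkOrb cert p) 1600 100 = true := by decide +kernel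
theorem chkP_4800 : allRange (fun p => checkPoint cert p && checkOrb cert p) 4800 100 = true := by decide +kernel
theorem chkP_8000 : allRange (fun p => checkPoint cert p && checkOrb cert p) 8000 100 = true := by decide +kernel
theorem chkP_11200 : allRange (fun p => checkPoint cert p && checkOrb cert p) 11200 100 = true := by decide +kernel
theorem chkP_14400 : allRange (fun p => checkPoint cert p && checkOrb cert p) 14400 100 = true := by decide +kernel
theorem chkP_17600 : allRange (fun p => checkPoint cert p && checkOrb cert p) 17600 100 = true := by decide +kernel
theorem chkP_20800 : allRange (fun p => checkPoint cert p && checkOrb cert p) 20800 100 = true := by decide +kernel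
theorem chkP_24000 : allRange (fun p => checkPoint cert p && checkOrb cert p) 24000 100 = true := by decide +kernel
theorem chkP_27200 : allRange (fun p => checkPoint cert p && checkOrb cert p) 27200 100 = true := by decide +kernel
theorem chkP_30400 : allRange (fun p => checkPoint cert p && checkOrb cert p) 30400 100 = true := by decide +kernel
theorem chkP_33600 : allRange (fun p => checkPoint cert p && checkOrb cert p) 33600 100 = true := by decide +kernel
theorem chkP_36800 : allRange (fun p => checkPoint cert p && checkOrb cert p) 36800 100 = true := by decide +kernel
theorem chkP_40000 : allRange (fun p => checkPoint cert p && checkOrb cert p) 40000 100 = true := by decide +kernel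
theorem chkP_43200 : allRange (fun p => checkPoint cert p && checkOrb cert p) 43200 100 = true := by decide +kernel
theorem chkP_46400 : allRange (fun p => checkPoint cert p && checkOrb cert p) 46400 100 = true := by decide +kernel
theorem chkP_49600 : allRange (fun p => checkPoint cert p && checkOrb cert p) 49600 100 = true := by decide +kernel
theorem chkP_52800 : allRange (fun p => checkPoint cert p && checkOrb cert p) 52800 100 = true := by decide +kernel
theorem chkP_56000 : allRange (fun p => checkPoint cert p && checkOrb cert p) 56000 100 = true := by decide +kernel
theorem chkP_59200 : allRange (fun p => checkPoint cert p && checkOrb cert p) 59200 100 = true := by decide +kernel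
theorem chkP_62400 : allRange (fun p => checkPoint cert p && checkOrb cert p) 62400 100 = true := by decide +kernel
theorem chkP_65600 : allRange (fun p => checkPoint cert p && checkOrb cert p) 65600 100 = true := by decide +kernel
theorem chkP_68800 : allRange (fun p => checkPoint cert p && checkOrb cert p) 68800 100 = true := by decide +kernel
theorem chkP_72000 : allRange (fun p => checkPoint cert p && checkOrb cert p) 72000 100 = true := by decide +kernel
theorem chkP_75200 : allRange (fun p => checkPoint cert p && checkOrb cert p) 75200 100 = true := by decide +kernel
theorem chkP_78400 : allRange (fun p => checkPoint cert p && checkOrb cert p) 78400 100 = true := by decide +kernel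
theorem chkP_81600 : allRange (fun p => checkPoint cert p && checkOrb cert p) 81600 100 = true := by decide +kernel
theorem chkP_84800 : allRange (fun p => checkPoint cert p && checkOrb cert p) 84800 100 = true := by decide +kernel
theorem chkP_88000 : allRange (fun p => checkPoint cert p && checkOrb cert p) 88000 100 = true := by decide +kernel
theorem chkP_91200 : allRange (fun p => checkPoint cert p && checkOrb cert p) 91200 100 = true := by decide +kernel
theorem chkP_94400 : allRange (fun p => checkPoint cert p && checkOrb cert p) 94400 100 = true := by decide +kernel
theorem chkP_97600 : allRange (fun p => checkPoint cert p && checkOrb cert p) 97600 100 = true := by decide +kernel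
theorem chkP_100800 : allRange (fun p => checkPoint cert p && checkOrb cert p) 100800 100 = true := by decide +kernel
theorem chkP_104000 : allRange (fun p => checkPoint cert p && checkOrb cert p) 104000 100 = true := by decide +kernel
theorem chkP_107200 : allRange (fun p => checkPoint cert p && checkOrb cert p) 107200 100 = true := by decide +kernel
theorem chkP_110400 : allRange (fun p => checkPoint cert p && checkOrb cert p) 110400 100 = true := by decide +kernel
theorem chkP_113600 : allRange (fun p => checkPoint cert p && checkOrb cert p) 113600 100 = true := by decide +kernel
theorem chkP_116800 : allRange (fun p => checkPoint cert p && checkOrb cert p) 116800 100 = true := by decide +kernel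
theorem chkP_120000 : allRange (fun p => checkPoint cert p && checkOrb cert p) 120000 100 = true := by decide +kernel

end Cfsg.Agent.Lib.Helper28.ONData
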