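import Cfsg.Agent.Lib.Helper28.ONData
import Cfsg.Agent.Lib.Helper28.TCSound

set_option autoImplicit false
set_option maxRecDepth 1000000
set_option linter.all false
set_option Elab.async false

namespace Cfsg.Agent.Lib.Helper28.ONData

open Cfsg.Agent.Lib.Helper28

theorem chkF_28000 : allRange (checkFact cert) 28000 2000 = true := by decide +kernel
theorem chkF_92000 : allRange (checkFact cert) 92000 2000 = true := by decide +kernel
theorem chkF_156000 : allRange (checkFact cert) 156000 2000 = true := by decide +kernel
theorem chkF_220000 : allRange (checkFact cert) 220000 2000 = true := by decide +kernel
theorem chkF_284000 : allRange (checkFact cert) 284000 2000 = true := by decide +kernel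
theorem chkF_348000 : allRange (checkFact cert) 348000 2000 = true := by decide +kernel
theorem chkF_412000 : allRange (checkFact cert) 412000 2000 = true := by decide +kernel
theorem chkF_476000 : allRange (checkFact cert) 476000 2000 = true := by decide +kernel
theorem chkF_540000 : allRange (checkFact cert) 540000 2000 = true := by decide +kernel
theorem chkF_604000 : allRange (checkFact cert) 604000 2000 = true := by decide +kernel
theorem chkF_668000 : allRange (checkFact cert) 668000 2000 = true := by decide +kernel
theorem chkF_732000 : allRange (checkFact cert) 732000 2000 = true := by decide +kernel
theorem chkF_796000 : allRange (checkFact cert) 796000 2000 = true := by decide +kernel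
theorem chkF_860000 : allRange (checkFact cert) 860000 2000 = true := by decide +kernel
theorem chkF_924000 : allRange (checkFact cert) 924000 2000 = true := by decide +kernel
theorem chkF_988000 : allRange (checkFact cert) 988000 2000 = true := by decide +kernel
theorem chkF_1052000 : allRange (checkFact cert) 1052000 2000 = true := by decide +kernel
theorem chkF_1116000 : allRange (checkFact cert) 1116000 2000 = true := by decide +kernel
theorem chkF_1180000 : allRange (checkFact cert) 1180000 2000 = true := by decide +kernel
theorem chkP_1700 : allRange (fun p => checkPoint cert p && checkOrb cert p) 1700 100 = true := by decide +kernel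
theorem chkP_4900 : allRange (fun p => checkPoint cert p && checkOrb cert p) 4900 100 = true := by decide +kernel
theorem chkP_8100 : allRange (fun p => checkPoint cert p && checkOrb cert p) 8100 100 = true := by decide +kernel
theorem chkP_11300 : allRange (fun p => checkPoint cert p && checkOrb cert p) 11300 100 = true := by decide +kernel
theorem chkP_14500 : allRange (fun p => checkPoint cert p && checkOrb cert p) 14500 100 = true := by decide +kernel
theorem chkP_17700 : allRange (fun p => checkPoint cert p && checkOrb cert p) 17700 100 = true := by decide +kernel
theorem chkP_20900 : allRange (fun p => checkPoint cert p && checkOrb cert p) 20900 100 = true := by decide +kernel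
theorem chkP_24100 : allRange (fun p => checkPoint cert p && checkOrb cert p) 24100 100 = true := by decide +kernel
theorem chkP_27300 : allRange (fun p => checkPoint cert p && checkOrb cert p) 27300 100 = true := by decide +kernel
theorem chkP_30500 : allRange (fun p => checkPoint cert p && checkOrb cert p) 30500 100 = true := by decide +kernel
theorem chkP_33700 : allRange (fun p => checkPoint cert p && checkOrb cert p) 33700 100 = true := by decide +kernel
theorem chkP_36900 : allRange (fun p => checkPoint cert p && checkOrb cert p) 36900 100 = true := by decide +kernel
theorem chkP_40100 : allRange (fun p => checkPoint cert p && checkOrb cert p) 40100 100 = true := by decide +kernel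
theorem chkP_43300 : allRange (fun p => checkPoint cert p && checkOrb cert p) 43300 100 = true := by decide +kernel
theorem chkP_46500 : allRange (fun p => checkPoint cert p && checkOrb cert p) 46500 100 = true := by decide +kernel
theorem chkP_49700 : allRange (fun p => checkPoint cert p && checkOrb cert p) 49700 100 = true := by decide +kernel
theorem chkP_52900 : allRange (fun p => checkPoint cert p && checkOrb cert p) 52900 100 = true := by decide +kernel
theorem chkP_56100 : allRange (fun p => checkPoint cert p && checkOrb cert p) 56100 100 = true := by decide +kernel
theorem chkP_59300 : allRange (fun p => checkPoint cert p && checkOrb cert p) 59300 100 = true := by decide +kernel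
theorem chkP_62500 : allRange (fun p => checkPoint cert p && checkOrb cert p) 62500 100 = true := by decide +kernel
theorem chkP_65700 : allRange (fun p => checkPoint cert p && checkOrb cert p) 65700 100 = true := by decide +kernel
theorem chkP_68900 : allRange (fun p => checkPoint cert p && checkOrb cert p) 68900 100 = true := by decide +kernel
theorem chkP_72100 : allRange (fun p => checkPoint cert p && checkOrb cert p) 72100 100 = true := by decide +kernel
theorem chkP_75300 : allRange (fun p => checkPoint cert p && checkOrb cert p) 75300 100 = true := by decide +kernel
theorem chkP_78500 : allRange (fun p => checkPoint cert p && checkOrb cert p) 78500 100 = true := by decide +kernel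
theorem chkP_81700 : allRange (fun p => checkPoint cert p && checkOrb cert p) 81700 100 = true := by decide +kernel
theorem chkP_84900 : allRange (fun p => checkPoint cert p && checkOrb cert p) 84900 100 = true := by decide +kernel
theorem chkP_88100 : allRange (fun p => checkPoint cert p && checkOrb cert p) 88100 100 = true := by decide +kernel
theorem chkP_91300 : allRange (fun p => checkPoint cert p && checkOrb cert p) 91300 100 = true := by decide +kernel
theorem chkP_94500 : allRange (fun p => checkPoint cert p && checkOrb cert p) 94500 100 = true := by decide +kernel
theorem chkP_97700 : allRange (fun p => checkPoint cert p && checkOrb cert p) 97700 100 = true := by decide +kernel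
theorem chkP_100900 : allRange (fun p => checkPoint cert p && checkOrb cert p) 100900 100 = true := by decide +kernel
theorem chkP_104100 : allRange (fun p => checkPoint cert p && checkOrb cert p) 104100 100 = true := by decide +kernel
theorem chkP_107300 : allRange (fun p => checkPoint cert p && checkOrb cert p) 107300 100 = true := by decide +kernel
theorem chkP_110500 : allRange (fun p => checkPoint cert p && checkOrb cert p) 110500 100 = true := by decide +kernel
theorem chkP_113700 : allRange (fun p => checkPoint cert p && checkOrb cert p) 113700 100 = true := by decide +kernel
theorem chkP_116900 : allRange (fun p => checkPoint cert p && checkOrb cert p) 116900 100 = true := by decide +kernel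
theorem chkP_120100 : allRange (fun p => checkPoint cert p && checkOrb cert p) 120100 100 = true := by decide +kernel

end Cfsg.Agent.Lib.Helper28.ONData
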