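import Cfsg.Agent.Lib.Helper28.ONData
import Cfsg.Agent.Lib.Helper28.TCSound

set_option autoImplicit false
set_option maxRecDepth 1000000
set_option linter.all false
set_option Elab.async false

namespace Cfsg.Agent.Lib.Helper28.ONData

open Cfsg.Agent.Lib.Helper28

theorem chkF_30000 : allRange (checkFact cert) 30000 2000 = true := by decide +kernel
theorem chkF_94000 : allRange (checkFact cert) 94000 2000 = true := by decide +kernel
theorem chkF_158000 : allRange (checkFact cert) 158000 2000 = true := by decide +kernel
theorem chkF_222000 : allRange (checkFact cert) 222000 2000 = true := by decide +kernel
theorem chkF_286000 : allRange (checkFact cert) 286000 2000 = true := by decide +kernel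
theorem chkF_350000 : allRange (checkFact cert) 350000 2000 = true := by decide +kernel
theorem chkF_414000 : allRange (checkFact cert) 414000 2000 = true := by decide +kernel
theorem chkF_478000 : allRange (checkFact cert) 478000 2000 = true := by decide +kernel
theorem chkF_542000 : allRange (checkFact cert) 542000 2000 = true := by decide +kernel
theorem chkF_606000 : allRange (checkFact cert) 606000 2000 = true := by decide +kernel
theorem chkF_670000 : allRange (checkFact cert) 670000 2000 = true := by decide +kernel
theorem chkF_734000 : allRange (checkFact cert) 734000 2000 = true := by decide +kernel
theorem chkF_798000 : allRange (checkFact cert) 798000 2000 = true := by decide +kernel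
theorem chkF_862000 : allRange (checkFact cert) 862000 2000 = true := by decide +kernel
theorem chkF_926000 : allRange (checkFact cert) 926000 2000 = true := by decide +kernel
theorem chkF_990000 : allRange (checkFact cert) 990000 2000 = true := by decide +kernel
theorem chkF_1054000 : allRange (checkFact cert) 1054000 2000 = true := by decide +kernel
theorem chkF_1118000 : allRange (checkFact cert) 1118000 2000 = true := by decide +kernel
theorem chkF_1182000 : allRange (checkFact cert) 1182000 2000 = true := by decide +kernel
theorem chkP_1800 : allRange (fun p => checkPoint cert p && checkOrb cert p) 1800 100 = true := by decide +kernel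
theorem chkP_5000 : allRange (fun p => checkPoint cert p && checkOrb cert p) 5000 100 = true := by decide +kernel
theorem chkP_8200 : allRange (fun p => checkPoint cert p && checkOrb cert p) 8200 100 = true := by decide +kernel
theorem chkP_11400 : allRange (fun p => checkPoint cert p && checkOrb cert p) 11400 100 = true := by decide +kernel
theorem chkP_14600 : allRange (fun p => checkPoint cert p && checkOrb cert p) 14600 100 = true := by decide +kernel
theorem chkP_17800 : allRange (fun p => checkPoint cert p && checkOrb cert p) 17800 100 = true := by decide +kernel
theorem chkP_21000 : allRange (fun p => checkPoint cert p && checkOrb cert p) 21000 100 = true := by decide +kernel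
theorem chkP_24200 : allRange (fun p => checkPoint cert p && checkOrb cert p) 24200 100 = true := by decide +kernel
theorem chkP_27400 : allRange (fun p => checkPoint cert p && checkOrb cert p) 27400 100 = true := by decide +kernel
theorem chkP_30600 : allRange (fun p => checkPoint cert p && checkOrb cert p) 30600 100 = true := by decide +kernel
theorem chkP_33800 : allRange (fun p => checkPoint cert p && checkOrb cert p) 33800 100 = true := by decide +kernel
theorem chkP_37000 : allRange (fun p => checkPoint cert p && checkOrb cert p) 37000 100 = true := by decide +kernel
theorem chkP_40200 : allRange (fun p => checkPoint cert p && checkOrb cert p) 40200 100 = true := by decide +kernel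
theorem chkP_43400 : allRange (fun p => checkPoint cert p && checkOrb cert p) 43400 100 = true := by decide +kernel
theorem chkP_46600 : allRange (fun p => checkPoint cert p && checkOrb cert p) 46600 100 = true := by decide +kernel
theorem chkP_49800 : allRange (fun p => checkPoint cert p && checkOrb cert p) 49800 100 = true := by decide +kernel
theorem chkP_53000 : allRange (fun p => checkPoint cert p && checkOrb cert p) 53000 100 = true := by decide +kernel
theorem chkP_56200 : allRange (fun p => checkPoint cert p && checkOrb cert p) 56200 100 = true := by decide +kernel
theorem chkP_59400 : allRange (fun p => checkPoint cert p && checkOrb cert p) 59400 100 = true := by decide +kernel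
theorem chkP_62600 : allRange (fun p => checkPoint cert p && checkOrb cert p) 62600 100 = true := by decide +kernel
theorem chkP_65800 : allRange (fun p => checkPoint cert p && checkOrb cert p) 65800 100 = true := by decide +kernel
theorem chkP_69000 : allRange (fun p => checkPoint cert p && checkOrb cert p) 69000 100 = true := by decide +kernel
theorem chkP_72200 : allRange (fun p => checkPoint cert p && checkOrb cert p) 72200 100 = true := by decide +kernel
theorem chkP_75400 : allRange (fun p => checkPoint cert p && checkOrb cert p) 75400 100 = true := by decide +kernel
theorem chkP_78600 : allRange (fun p => checkPoint cert p && checkOrb cert p) 78600 100 = true := by decide +kernel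
theorem chkP_81800 : allRange (fun p => checkPoint cert p && checkOrb cert p) 81800 100 = true := by decide +kernel
theorem chkP_85000 : allRange (fun p => checkPoint cert p && checkOrb cert p) 85000 100 = true := by decide +kernel
theorem chkP_88200 : allRange (fun p => checkPoint cert p && checkOrb cert p) 88200 100 = true := by decide +kernel
theorem chkP_91400 : allRange (fun p => checkPoint cert p && checkOrb cert p) 91400 100 = true := by decide +kernel
theorem chkP_94600 : allRange (fun p => checkPoint cert p && checkOrb cert p) 94600 100 = true := by decide +kernel
theorem chkP_97800 : allRange (fun p => checkPoint cert p && checkOrb cert p) 97800 100 = true := by decide +kernel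
theorem chkP_101000 : allRange (fun p => checkPoint cert p && checkOrb cert p) 101000 100 = true := by decide +kernel
theorem chkP_104200 : allRange (fun p => checkPoint cert p && checkOrb cert p) 104200 100 = true := by decide +kernel
theorem chkP_107400 : allRange (fun p => checkPoint cert p && checkOrb cert p) 107400 100 = true := by decide +kernel
theorem chkP_110600 : allRange (fun p => checkPoint cert p && checkOrb cert p) 110600 100 = true := by decide +kernel
theorem chkP_113800 : allRange (fun p => checkPoint cert p && checkOrb cert p) 113800 100 = true := by decide +kernel
theorem chkP_117000 : allRange (fun p => checkPoint cert p && checkOrb cert p) 117000 100 = true := by decide +kernel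
theorem chkP_120200 : allRange (fun p => checkPoint cert p && checkOrb cert p) 120200 100 = true := by decide +kernel

end Cfsg.Agent.Lib.Helper28.ONData
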