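import Cfsg.Agent.Lib.Helper28.ONData
import Cfsg.Agent.Lib.Helper28.TCSound

set_option autoImplicit false
set_option maxRecDepth 1000000
set_option linter.all false
set_option Elab.async false

namespace Cfsg.Agent.Lib.Helper28.ONData

open Cfsg.Agent.Lib.Helper28

theorem chkF_32000 : allRange (checkFact cert) 32000 2000 = true := by decide +kernel
theorem chkF_96000 : allRange (checkFact cert) 96000 2000 = true := by decide +kernel
theorem chkF_160000 : allRange (checkFact cert) 160000 2000 = true := by decide +kernel
theorem chkF_224000 : allRange (checkFact cert) 224000 2000 = true := by decide +kernel
theorem chkF_288000 : allRange (checkFact cert) 288000 2000 = true := by decide +kernel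
theorem chkF_352000 : allRange (checkFact cert) 352000 2000 = true := by decide +kernel
theorem chkF_416000 : allRange (checkFact cert) 416000 2000 = true := by decide +kernel
theorem chkF_480000 : allRange (checkFact cert) 480000 2000 = true := by decide +kernel
theorem chkF_544000 : allRange (checkFact cert) 544000 2000 = true := by decide +kernel
theorem chkF_608000 : allRange (checkFact cert) 608000 2000 = true := by decide +kernel
theorem chkF_672000 : allRange (checkFact cert) 672000 2000 = true := by decide +kernel
theorem chkF_736000 : allRange (checkFact cert) 736000 2000 = true := by decide +kernel
theorem chkF_800000 : allRange (checkFact cert) 800000 2000 = true := by decide +kernel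
theorem chkF_864000 : allRange (checkFact cert) 864000 2000 = true := by decide +kernel
theorem chkF_928000 : allRange (checkFact cert) 928000 2000 = true := by decide +kernel
theorem chkF_992000 : allRange (checkFact cert) 992000 2000 = true := by decide +kernel
theorem chkF_1056000 : allRange (checkFact cert) 1056000 2000 = true := by decide +kernel
theorem chkF_1120000 : allRange (checkFact cert) 1120000 2000 = true := by decide +kernel
theorem chkF_1184000 : allRange (checkFact cert) 1184000 2000 = true := by decide +kernel
theorem chkP_1900 : allRange (fun p => checkPoint cert p && checkOrb cert p) 1900 100 = true := by decide +kernel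
theorem chkP_5100 : allRange (fun p => checkPoint cert p && checkOrb cert p) 5100 100 = true := by decide +kernel
theorem chkP_8300 : allRange (fun p => checkPoint cert p && checkOrb cert p) 8300 100 = true := by decide +kernel
theorem chkP_11500 : allRange (fun p => checkPoint cert p && checkOrb cert p) 11500 100 = true := by decide +kernel
theorem chkP_14700 : allRange (fun p => checkPoint cert p && checkOrb cert p) 14700 100 = true := by decide +kernel
theorem chkP_17900 : allRange (fun p => checkPoint cert p && checkOrb cert p) 17900 100 = true := by decide +kernel
theorem chkP_21100 : allRange (fun p => checkPoint cert p && checkOrb cert p) 21100 100 = true := by decide +kernel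
theorem chkP_24300 : allRange (fun p => checkPoint cert p && checkOrb cert p) 24300 100 = true := by decide +kernel
theorem chkP_27500 : allRange (fun p => checkPoint cert p && checkOrb cert p) 27500 100 = true := by decide +kernel
theorem chkP_30700 : allRange (fun p => checkPoint cert p && checkOrb cert p) 30700 100 = true := by decide +kernel
theorem chkP_33900 : allRange (fun p => checkPoint cert p && checkOrb cert p) 33900 100 = true := by decide +kernel
theorem chkP_37100 : allRange (fun p => checkPoint cert p && checkOrb cert p) 37100 100 = true := by decide +kernel
theorem chkP_40300 : allRange (fun p => checkPoint cert p && checkOrb cert p) 40300 100 = true := by decide +kernel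
theorem chkP_43500 : allRange (fun p => checkPoint cert p && checkOrb cert p) 43500 100 = true := by decide +kernel
theorem chkP_46700 : allRange (fun p => checkPoint cert p && checkOrb cert p) 46700 100 = true := by decide +kernel
theorem chkP_49900 : allRange (fun p => checkPoint cert p && checkOrb cert p) 49900 100 = true := by decide +kernel
theorem chkP_53100 : allRange (fun p => checkPoint cert p && checkOrb cert p) 53100 100 = true := by decide +kernel
theorem chkP_56300 : allRange (fun p => checkPoint cert p && checkOrb cert p) 56300 100 = true := by decide +kernel
theorem chkP_59500 : allRange (fun p => checkPoint cert p && checkOrb cert p) 59500 100 = true := by decide +kernel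
theorem chkP_62700 : allRange (fun p => checkPoint cert p && checkOrb cert p) 62700 100 = true := by decide +kernel
theorem chkP_65900 : allRange (fun p => checkPoint cert p && checkOrb cert p) 65900 100 = true := by decide +kernel
theorem chkP_69100 : allRange (fun p => checkPoint cert p && checkOrb cert p) 69100 100 = true := by decide +kernel
theorem chkP_72300 : allRange (fun p => checkPoint cert p && checkOrb cert p) 72300 100 = true := by decide +kernel
theorem chkP_75500 : allRange (fun p => checkPoint cert p && checkOrb cert p) 75500 100 = true := by decide +kernel
theorem chkP_78700 : allRange (fun p => checkPoint cert p && checkOrb cert p) 78700 100 = true := by decide +kernel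
theorem chkP_81900 : allRange (fun p => checkPoint cert p && checkOrb cert p) 81900 100 = true := by decide +kernel
theorem chkP_85100 : allRange (fun p => checkPoint cert p && checkOrb cert p) 85100 100 = true := by decide +kernel
theorem chkP_88300 : allRange (fun p => checkPoint cert p && checkOrb cert p) 88300 100 = true := by decide +kernel
theorem chkP_91500 : allRange (fun p => checkPoint cert p && checkOrb cert p) 91500 100 = true := by decide +kernel
theorem chkP_94700 : allRange (fun p => checkPoint cert p && checkOrb cert p) 94700 100 = true := by decide +kernel
theorem chkP_97900 : allRange (fun p => checkPoint cert p && checkOrb cert p) 97900 100 = true := by decide +kernel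
theorem chkP_101100 : allRange (fun p => checkPoint cert p && checkOrb cert p) 101100 100 = true := by decide +kernel
theorem chkP_104300 : allRange (fun p => checkPoint cert p && checkOrb cert p) 104300 100 = true := by decide +kernel
theorem chkP_107500 : allRange (fun p => checkPoint cert p && checkOrb cert p) 107500 100 = true := by decide +kernel
theorem chkP_110700 : allRange (fun p => checkPoint cert p && checkOrb cert p) 110700 100 = true := by decide +kernel
theorem chkP_113900 : allRange (fun p => checkPoint cert p && checkOrb cert p) 113900 100 = true := by decide +kernel
theorem chkP_117100 : allRange (fun p => checkPoint cert p && checkOrb cert p) 117100 100 = true := by decide +kernel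
theorem chkP_120300 : allRange (fun p => checkPoint cert p && checkOrb cert p) 120300 100 = true := by decide +kernel

end Cfsg.Agent.Lib.Helper28.ONData
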