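import Cfsg.Agent.Lib.Helper28.ONData
import Cfsg.Agent.Lib.Helper28.TCSound

set_option autoImplicit false
set_option maxRecDepth 1000000
set_option linter.all false
set_option Elab.async false

namespace Cfsg.Agent.Lib.Helper28.ONData

open Cfsg.Agent.Lib.Helper28

theorem chkF_34000 : allRange (checkFact cert) 34000 2000 = true := by decide +kernel
theorem chkF_98000 : allRange (checkFact cert) 98000 2000 = true := by decide +kernel
theorem chkF_162000 : allRange (checkFact cert) 162000 2000 = true := by decide +kernel
theorem chkF_226000 : allRange (checkFact cert) 226000 2000 = true := by decide +kernel
theorem chkF_290000 : allRange (checkFact cert) 290000 2000 = true := by decide +kernel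
theorem chkF_354000 : allRange (checkFact cert) 354000 2000 = true := by decide +kernel
theorem chkF_418000 : allRange (checkFact cert) 418000 2000 = true := by decide +kernel
theorem chkF_482000 : allRange (checkFact cert) 482000 2000 = true := by decide +kernel
theorem chkF_546000 : allRange (checkFact cert) 546000 2000 = true := by decide +kernel
theorem chkF_610000 : allRange (checkFact cert) 610000 2000 = true := by decide +kernel
theorem chkF_674000 : allRange (checkFact cert) 674000 2000 = true := by decide +kernel
theorem chkF_738000 : allRange (checkFact cert) 738000 2000 = true := by decide +kernel
theorem chkF_802000 : allRange (checkFact cert) 802000 2000 = true := by decide +kernel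
theorem chkF_866000 : allRange (checkFact cert) 866000 2000 = true := by decide +kernel
theorem chkF_930000 : allRange (checkFact cert) 930000 2000 = true := by decide +kernel
theorem chkF_994000 : allRange (checkFact cert) 994000 2000 = true := by decide +kernel
theorem chkF_1058000 : allRange (checkFact cert) 1058000 2000 = true := by decide +kernel
theorem chkF_1122000 : allRange (checkFact cert) 1122000 2000 = true := by decide +kernel
theorem chkF_1186000 : allRange (checkFact cert) 1186000 2000 = true := by decide +kernel
theorem chkP_2000 : allRange (fun p => checkPoint cert p && checkOrb cert p) 2000 100 = true := by decide +kernel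
theorem chkP_5200 : allRange (fun p => checkPoint cert p && checkOrb cert p) 5200 100 = true := by decide +kernel
theorem chkP_8400 : allRange (fun p => checkPoint cert p && checkOrb cert p) 8400 100 = true := by decide +kernel
theorem chkP_11600 : allRange (fun p => checkPoint cert p && checkOrb cert p) 11600 100 = true := by decide +kernel
theorem chkP_14800 : allRange (fun p => checkPoint cert p && checkOrb cert p) 14800 100 = true := by decide +kernel
theorem chkP_18000 : allRange (fun p => checkPoint cert p && checkOrb cert p) 18000 100 = true := by decide +kernel
theorem chkP_21200 : allRange (fun p => checkPoint cert p && checkOrb cert p) 21200 100 = true := by decide +kernel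
theorem chkP_24400 : allRange (fun p => checkPoint cert p && checkOrb cert p) 24400 100 = true := by decide +kernel
theorem chkP_27600 : allRange (fun p => checkPoint cert p && checkOrb cert p) 27600 100 = true := by decide +kernel
theorem chkP_30800 : allRange (fun p => checkPoint cert p && checkOrb cert p) 30800 100 = true := by decide +kernel
theorem chkP_34000 : allRange (fun p => checkPoint cert p && checkOrb cert p) 34000 100 = true := by decide +kernel
theorem chkP_37200 : allRange (fun p => checkPoint cert p && checkOrb cert p) 37200 100 = true := by decide +kernel
theorem chkP_40400 : allRange (fun p => checkPoint cert p && checkOrb cert p) 40400 100 = true := by decide +kernel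
theorem chkP_43600 : allRange (fun p => checkPoint cert p && checkOrb cert p) 43600 100 = true := by decide +kernel
theorem chkP_46800 : allRange (fun p => checkPoint cert p && checkOrb cert p) 46800 100 = true := by decide +kernel
theorem chkP_50000 : allRange (fun p => checkPoint cert p && checkOrb cert p) 50000 100 = true := by decide +kernel
theorem chkP_53200 : allRange (fun p => checkPoint cert p && checkOrb cert p) 53200 100 = true := by decide +kernel
theorem chkP_56400 : allRange (fun p => checkPoint cert p && checkOrb cert p) 56400 100 = true := by decide +kernel
theorem chkP_59600 : allRange (fun p => checkPoint cert p && checkOrb cert p) 59600 100 = true := by decide +kernel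
theorem chkP_62800 : allRange (fun p => checkPoint cert p && checkOrb cert p) 62800 100 = true := by decide +kernel
theorem chkP_66000 : allRange (fun p => checkPoint cert p && checkOrb cert p) 66000 100 = true := by decide +kernel
theorem chkP_69200 : allRange (fun p => checkPoint cert p && checkOrb cert p) 69200 100 = true := by decide +kernel
theorem chkP_72400 : allRange (fun p => checkPoint cert p && checkOrb cert p) 72400 100 = true := by decide +kernel
theorem chkP_75600 : allRange (fun p => checkPoint cert p && checkOrb cert p) 75600 100 = true := by decide +kernel
theorem chkP_78800 : allRange (fun p => checkPoint cert p && checkOrb cert p) 78800 100 = true := by decide +kernel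
theorem chkP_82000 : allRange (fun p => checkPoint cert p && checkOrb cert p) 82000 100 = true := by decide +kernel
theorem chkP_85200 : allRange (fun p => checkPoint cert p && checkOrb cert p) 85200 100 = true := by decide +kernel
theorem chkP_88400 : allRange (fun p => checkPoint cert p && checkOrb cert p) 88400 100 = true := by decide +kernel
theorem chkP_91600 : allRange (fun p => checkPoint cert p && checkOrb cert p) 91600 100 = true := by decide +kernel
theorem chkP_94800 : allRange (fun p => checkPoint cert p && checkOrb cert p) 94800 100 = true := by decide +kernel
theorem chkP_98000 : allRange (fun p => checkPoint cert p && checkOrb cert p) 98000 100 = true := by decide +kernel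
theorem chkP_101200 : allRange (fun p => checkPoint cert p && checkOrb cert p) 101200 100 = true := by decide +kernel
theorem chkP_104400 : allRange (fun p => checkPoint cert p && checkOrb cert p) 104400 100 = true := by decide +kernel
theorem chkP_107600 : allRange (fun p => checkPoint cert p && checkOrb cert p) 107600 100 = true := by decide +kernel
theorem chkP_110800 : allRange (fun p => checkPoint cert p && checkOrb cert p) 110800 100 = true := by decide +kernel
theorem chkP_114000 : allRange (fun p => checkPoint cert p && checkOrb cert p) 114000 100 = true := by decide +kernel
theorem chkP_117200 : allRange (fun p => checkPoint cert p && checkOrb cert p) 117200 100 = true := by decide +kernel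
theorem chkP_120400 : allRange (fun p => checkPoint cert p && checkOrb cert p) 120400 100 = true := by decide +kernel

end Cfsg.Agent.Lib.Helper28.ONData
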