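import Cfsg.Agent.Lib.Helper28.ONData
import Cfsg.Agent.Lib.Helper28.TCSound

set_option autoImplicit false
set_option maxRecDepth 1000000
set_option linter.all false
set_option Elab.async false

namespace Cfsg.Agent.Lib.Helper28.ONData

open Cfsg.Agent.Lib.Helper28

theorem chkF_36000 : allRange (checkFact cert) 36000 2000 = true := by decide +kernel
theorem chkF_100000 : allRange (checkFact cert) 100000 2000 = true := by decide +kernel
theorem chkF_164000 : allRange (checkFact cert) 164000 2000 = true := by decide +kernel
theorem chkF_228000 : allRange (checkFact cert) 228000 2000 = true := by decide +kernel
theorem chkF_292000 : allRange (checkFact cert) 292000 2000 = true := by decide +kernel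
theorem chkF_356000 : allRange (checkFact cert) 356000 2000 = true := by decide +kernel
theorem chkF_420000 : allRange (checkFact cert) 420000 2000 = true := by decide +kernel
theorem chkF_484000 : allRange (checkFact cert) 484000 2000 = true := by decide +kernel
theorem chkF_548000 : allRange (checkFact cert) 548000 2000 = true := by decide +kernel
theorem chkF_612000 : allRange (checkFact cert) 612000 2000 = true := by decide +kernel
theorem chkF_676000 : allRange (checkFact cert) 676000 2000 = true := by decide +kernel
theorem chkF_740000 : allRange (checkFact cert) 740000 2000 = true := by decide +kernel
theorem chkF_804000 : allRange (checkFact cert) 804000 2000 = true := by decide +kernel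
theorem chkF_868000 : allRange (checkFact cert) 868000 2000 = true := by decide +kernel
theorem chkF_932000 : allRange (checkFact cert) 932000 2000 = true := by decide +kernel
theorem chkF_996000 : allRange (checkFact cert) 996000 2000 = true := by decide +kernel
theorem chkF_1060000 : allRange (checkFact cert) 1060000 2000 = true := by decide +kernel
theorem chkF_1124000 : allRange (checkFact cert) 1124000 2000 = true := by decide +kernel
theorem chkF_1188000 : allRange (checkFact cert) 1188000 2000 = true := by decide +kernel
theorem chkP_2100 : allRange (fun p => checkPoint cert p && checkOrb cert p) 2100 100 = true := by decide +kernel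
theorem chkP_5300 : allRange (fun p => checkPoint cert p && checkOrb cert p) 5300 100 = true := by decide +kernel
theorem chkP_8500 : allRange (fun p => checkPoint cert p && checkOrb cert p) 8500 100 = true := by decide +kernel
theorem chkP_11700 : allRange (fun p => checkPoint cert p && checkOrb cert p) 11700 100 = true := by decide +kernel
theorem chkP_14900 : allRange (fun p => checkPoint cert p && checkOrb cert p) 14900 100 = true := by decide +kernel
theorem chkP_18100 : allRange (fun p => checkPoint cert p && checkOrb cert p) 18100 100 = true := by decide +kernel
theorem chkP_21300 : allRange (fun p => checkPoint cert p && checkOrb cert p) 21300 100 = true := by decide +kernel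
theorem chkP_24500 : allRange (fun p => checkPoint cert p && checkOrb cert p) 24500 100 = true := by decide +kernel
theorem chkP_27700 : allRange (fun p => checkPoint cert p && checkOrb cert p) 27700 100 = true := by decide +kernel
theorem chkP_30900 : allRange (fun p => checkPoint cert p && checkOrb cert p) 30900 100 = true := by decide +kernel
theorem chkP_34100 : allRange (fun p => checkPoint cert p && checkOrb cert p) 34100 100 = true := by decide +kernel
theorem chkP_37300 : allRange (fun p => checkPoint cert p && checkOrb cert p) 37300 100 = true := by decide +kernel
theorem chkP_40500 : allRange (fun p => checkPoint cert p && checkOrb cert p) 40500 100 = true := by decide +kernel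
theorem chkP_43700 : allRange (fun p => checkPoint cert p && checkOrb cert p) 43700 100 = true := by decide +kernel
theorem chkP_46900 : allRange (fun p => checkPoint cert p && checkOrb cert p) 46900 100 = true := by decide +kernel
theorem chkP_50100 : allRange (fun p => checkPoint cert p && checkOrb cert p) 50100 100 = true := by decide +kernel
theorem chkP_53300 : allRange (fun p => checkPoint cert p && checkOrb cert p) 53300 100 = true := by decide +kernel
theorem chkP_56500 : allRange (fun p => checkPoint cert p && checkOrb cert p) 56500 100 = true := by decide +kernel
theorem chkP_59700 : allRange (fun p => checkPoint cert p && checkOrb cert p) 59700 100 = true := by decide +kernel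
theorem chkP_62900 : allRange (fun p => checkPoint cert p && checkOrb cert p) 62900 100 = true := by decide +kernel
theorem chkP_66100 : allRange (fun p => checkPoint cert p && checkOrb cert p) 66100 100 = true := by decide +kernel
theorem chkP_69300 : allRange (fun p => checkPoint cert p && checkOrb cert p) 69300 100 = true := by decide +kernel
theorem chkP_72500 : allRange (fun p => checkPoint cert p && checkOrb cert p) 72500 100 = true := by decide +kernel
theorem chkP_75700 : allRange (fun p => checkPoint cert p && checkOrb cert p) 75700 100 = true := by decide +kernel
theorem chkP_78900 : allRange (fun p => checkPoint cert p && checkOrb cert p) 78900 100 = true := by decide +kernel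
theorem chkP_82100 : allRange (fun p => checkPoint cert p && checkOrb cert p) 82100 100 = true := by decide +kernel
theorem chkP_85300 : allRange (fun p => checkPoint cert p && checkOrb cert p) 85300 100 = true := by decide +kernel
theorem chkP_88500 : allRange (fun p => checkPoint cert p && checkOrb cert p) 88500 100 = true := by decide +kernel
theorem chkP_91700 : allRange (fun p => checkPoint cert p && checkOrb cert p) 91700 100 = true := by decide +kernel
theorem chkP_94900 : allRange (fun p => checkPoint cert p && checkOrb cert p) 94900 100 = true := by decide +kernel
theorem chkP_98100 : allRange (fun p => checkPoint cert p && checkOrb cert p) 98100 100 = true := by decide +kernel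
theorem chkP_101300 : allRange (fun p => checkPoint cert p && checkOrb cert p) 101300 100 = true := by decide +kernel
theorem chkP_104500 : allRange (fun p => checkPoint cert p && checkOrb cert p) 104500 100 = true := by decide +kernel
theorem chkP_107700 : allRange (fun p => checkPoint cert p && checkOrb cert p) 107700 100 = true := by decide +kernel
theorem chkP_110900 : allRange (fun p => checkPoint cert p && checkOrb cert p) 110900 100 = true := by decide +kernel
theorem chkP_114100 : allRange (fun p => checkPoint cert p && checkOrb cert p) 114100 100 = true := by decide +kernel
theorem chkP_117300 : allRange (fun p => checkPoint cert p && checkOrb cert p) 117300 100 = true := by decide +kernel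
theorem chkP_120500 : allRange (fun p => checkPoint cert p && checkOrb cert p) 120500 100 = true := by decide +kernel

end Cfsg.Agent.Lib.Helper28.ONData
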