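import Cfsg.Agent.Lib.Helper28.ONData
import Cfsg.Agent.Lib.Helper28.TCSound

set_option autoImplicit false
set_option maxRecDepth 1000000
set_option linter.all false
set_option Elab.async false

namespace Cfsg.Agent.Lib.Helper28.ONData

open Cfsg.Agent.Lib.Helper28

theorem chkF_38000 : allRange (checkFact cert) 38000 2000 = true := by decide +kernel
theorem chkF_102000 : allRange (checkFact cert) 102000 2000 = true := by decide +kernel
theorem chkF_166000 : allRange (checkFact cert) 166000 2000 = true := by decide +kernel
theorem chkF_230000 : allRange (checkFact cert) 230000 2000 = true := by decide +kernel
theorem chkF_294000 : allRange (checkFact cert) 294000 2000 = true := by decide +kernel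
theorem chkF_358000 : allRange (checkFact cert) 358000 2000 = true := by decide +kernel
theorem chkF_422000 : allRange (checkFact cert) 422000 2000 = true := by decide +kernel
theorem chkF_486000 : allRange (checkFact cert) 486000 2000 = true := by decide +kernel
theorem chkF_550000 : allRange (checkFact cert) 550000 2000 = true := by decide +kernel
theorem chkF_614000 : allRange (checkFact cert) 614000 2000 = true := by decide +kernel
theorem chkF_678000 : allRange (checkFact cert) 678000 2000 = true := by decide +kernel
theorem chkF_742000 : allRange (checkFact cert) 742000 2000 = true := by decide +kernel
theorem chkF_806000 : allRange (checkFact cert) 806000 2000 = true := by decide +kernel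
theorem chkF_870000 : allRange (checkFact cert) 870000 2000 = true := by decide +kernel
theorem chkF_934000 : allRange (checkFact cert) 934000 2000 = true := by decide +kernel
theorem chkF_998000 : allRange (checkFact cert) 998000 2000 = true := by decide +kernel
theorem chkF_1062000 : allRange (checkFact cert) 1062000 2000 = true := by decide +kernel
theorem chkF_1126000 : allRange (checkFact cert) 1126000 2000 = true := by decide +kernel
theorem chkF_1190000 : allRange (checkFact cert) 1190000 2000 = true := by decide +kernel
theorem chkP_2200 : allRange (fun p => checkPoint cert p && checkOrb cert p) 2200 100 = true := by decide +kernel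
theorem chkP_5400 : allRange (fun p => checkPoint cert p && checkOrb cert p) 5400 100 = true := by decide +kernel
theorem chkP_8600 : allRange (fun p => checkPoint cert p && checkOrb cert p) 8600 100 = true := by decide +kernel
theorem chkP_11800 : allRange (fun p => checkPoint cert p && checkOrb cert p) 11800 100 = true := by decide +kernel
theorem chkP_15000 : allRange (fun p => checkPoint cert p && checkOrb cert p) 15000 100 = true := by decide +kernel
theorem chkP_18200 : allRange (fun p => checkPoint cert p && checkOrb cert p) 18200 100 = true := by decide +kernel
theorem chkP_21400 : allRange (fun p => checkPoint cert p && checkOrb cert p) 21400 100 = true := by decide +kernel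
theorem chkP_24600 : allRange (fun p => checkPoint cert p && checkOrb cert p) 24600 100 = true := by decide +kernel
theorem chkP_27800 : allRange (fun p => checkPoint cert p && checkOrb cert p) 27800 100 = true := by decide +kernel
theorem chkP_31000 : allRange (fun p => checkPoint cert p && checkOrb cert p) 31000 100 = true := by decide +kernel
theorem chkP_34200 : allRange (fun p => checkPoint cert p && checkOrb cert p) 34200 100 = true := by decide +kernel
theorem chkP_37400 : allRange (fun p => checkPoint cert p && checkOrb cert p) 37400 100 = true := by decide +kernel
theorem chkP_40600 : allRange (fun p => checkPoint cert p && checkOrb cert p) 40600 100 = true := by decide +kernel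
theorem chkP_43800 : allRange (fun p => checkPoint cert p && checkOrb cert p) 43800 100 = true := by decide +kernel
theorem chkP_47000 : allRange (fun p => checkPoint cert p && checkOrb cert p) 47000 100 = true := by decide +kernel
theorem chkP_50200 : allRange (fun p => checkPoint cert p && checkOrb cert p) 50200 100 = true := by decide +kernel
theorem chkP_53400 : allRange (fun p => checkPoint cert p && checkOrb cert p) 53400 100 = true := by decide +kernel
theorem chkP_56600 : allRange (fun p => checkPoint cert p && checkOrb cert p) 56600 100 = true := by decide +kernel
theorem chkP_59800 : allRange (fun p => checkPoint cert p && checkOrb cert p) 59800 100 = true := by decide +kernel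
theorem chkP_63000 : allRange (fun p => checkPoint cert p && checkOrb cert p) 63000 100 = true := by decide +kernel
theorem chkP_66200 : allRange (fun p => checkPoint cert p && checkOrb cert p) 66200 100 = true := by decide +kernel
theorem chkP_69400 : allRange (fun p => checkPoint cert p && checkOrb cert p) 69400 100 = true := by decide +kernel
theorem chkP_72600 : allRange (fun p => checkPoint cert p && checkOrb cert p) 72600 100 = true := by decide +kernel
theorem chkP_75800 : allRange (fun p => checkPoint cert p && checkOrb cert p) 75800 100 = true := by decide +kernel
theorem chkP_79000 : allRange (fun p => checkPoint cert p && checkOrb cert p) 79000 100 = true := by decide +kernel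
theorem chkP_82200 : allRange (fun p => checkPoint cert p && checkOrb cert p) 82200 100 = true := by decide +kernel
theorem chkP_85400 : allRange (fun p => checkPoint cert p && checkOrb cert p) 85400 100 = true := by decide +kernel
theorem chkP_88600 : allRange (fun p => checkPoint cert p && checkOrb cert p) 88600 100 = true := by decide +kernel
theorem chkP_91800 : allRange (fun p => checkPoint cert p && checkOrb cert p) 91800 100 = true := by decide +kernel
theorem chkP_95000 : allRange (fun p => checkPoint cert p && checkOrb cert p) 95000 100 = true := by decide +kernel
theorem chkP_98200 : allRange (fun p => checkPoint cert p && checkOrb cert p) 98200 100 = true := by decide +kernel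
theorem chkP_101400 : allRange (fun p => checkPoint cert p && checkOrb cert p) 101400 100 = true := by decide +kernel
theorem chkP_104600 : allRange (fun p => checkPoint cert p && checkOrb cert p) 104600 100 = true := by decide +kernel
theorem chkP_107800 : allRange (fun p => checkPoint cert p && checkOrb cert p) 107800 100 = true := by decide +kernel
theorem chkP_111000 : allRange (fun p => checkPoint cert p && checkOrb cert p) 111000 100 = true := by decide +kernel
theorem chkP_114200 : allRange (fun p => checkPoint cert p && checkOrb cert p) 114200 100 = true := by decide +kernel
theorem chkP_117400 : allRange (fun p => checkPoint cert p && checkOrb cert p) 117400 100 = true := by decide +kernel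
theorem chkP_120600 : allRange (fun p => checkPoint cert p && checkOrb cert p) 120600 100 = true := by decide +kernel

end Cfsg.Agent.Lib.Helper28.ONData
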