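import Cfsg.Agent.Lib.Helper28.ONData
import Cfsg.Agent.Lib.Helper28.TCSound

set_option autoImplicit false
set_option maxRecDepth 1000000
set_option linter.all false
set_option Elab.async false

namespace Cfsg.Agent.Lib.Helper28.ONData

open Cfsg.Agent.Lib.Helper28

theorem chkF_4000 : allRange (checkFact cert) 4000 2000 = true := by decide +kernel
theorem chkF_68000 : allRange (checkFact cert) 68000 2000 = true := by decide +kernel
theorem chkF_132000 : allRange (checkFact cert) 132000 2000 = true := by decide +kernel
theorem chkF_196000 : allRange (checkFact cert) 196000 2000 = true := by decide +kernel
theorem chkF_260000 : allRange (checkFact cert) 260000 2000 = true := by decide +kernel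
theorem chkF_324000 : allRange (checkFact cert) 324000 2000 = true := by decide +kernel
theorem chkF_388000 : allRange (checkFact cert) 388000 2000 = true := by decide +kernel
theorem chkF_452000 : allRange (checkFact cert) 452000 2000 = true := by decide +kernel
theorem chkF_516000 : allRange (checkFact cert) 516000 2000 = true := by decide +kernel
theorem chkF_580000 : allRange (checkFact cert) 580000 2000 = true := by decide +kernel
theorem chkF_644000 : allRange (checkFact cert) 644000 2000 = true := by decide +kernel
theorem chkF_708000 : allRange (checkFact cert) 708000 2000 = true := by decide +kernel
theorem chkF_772000 : allRange (checkFact cert) 772000 2000 = true := by decide +kernel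
theorem chkF_836000 : allRange (checkFact cert) 836000 2000 = true := by decide +kernel
theorem chkF_900000 : allRange (checkFact cert) 900000 2000 = true := by decide +kernel
theorem chkF_964000 : allRange (checkFact cert) 964000 2000 = true := by decide +kernel
theorem chkF_1028000 : allRange (checkFact cert) 1028000 2000 = true := by decide +kernel
theorem chkF_1092000 : allRange (checkFact cert) 1092000 2000 = true := by decide +kernel
theorem chkF_1156000 : allRange (checkFact cert) 1156000 2000 = true := by decide +kernel
theorem chkP_500 : allRange (fun p => checkPoint cert p && checkOrb cert p) 500 100 = true := by decide +kernel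
theorem chkP_3700 : allRange (fun p => checkPoint cert p && checkOrb cert p) 3700 100 = true := by decide +kernel
theorem chkP_6900 : allRange (fun p => checkPoint cert p && checkOrb cert p) 6900 100 = true := by decide +kernel
theorem chkP_10100 : allRange (fun p => checkPoint cert p && checkOrb cert p) 10100 100 = true := by decide +kernel
theorem chkP_13300 : allRange (fun p => checkPoint cert p && checkOrb cert p) 13300 100 = true := by decide +kernel
theorem chkP_16500 : allRange (fun p => checkPoint cert p && checkOrb cert p) 16500 100 = true := by decide +kernel
theorem chkP_19700 : allRange (fun p => checkPoint cert p && checkOrb cert p) 19700 100 = true := by decide +kernel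
theorem chkP_22900 : allRange (fun p => checkPoint cert p && checkOrb cert p) 22900 100 = true := by decide +kernel
theorem chkP_26100 : allRange (fun p => checkPoint cert p && checkOrb cert p) 26100 100 = true := by decide +kernel
theorem chkP_29300 : allRange (fun p => checkPoint cert p && checkOrb cert p) 29300 100 = true := by decide +kernel
theorem chkP_32500 : allRange (fun p => checkPoint cert p && checkOrb cert p) 32500 100 = true := by decide +kernel
theorem chkP_35700 : allRange (fun p => checkPoint cert p && checkOrb cert p) 35700 100 = true := by decide +kernel
theorem chkP_38900 : allRange (fun p => checkPoint cert p && checkOrb cert p) 38900 100 = true := by decide +kernel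
theorem chkP_42100 : allRange (fun p => checkPoint cert p && checkOrb cert p) 42100 100 = true := by decide +kernel
theorem chkP_45300 : allRange (fun p => checkPoint cert p && checkOrb cert p) 45300 100 = true := by decide +kernel
theorem chkP_48500 : allRange (fun p => checkPoint cert p && checkOrb cert p) 48500 100 = true := by decide +kernel
theorem chkP_51700 : allRange (fun p => checkPoint cert p && checkOrb cert p) 51700 100 = true := by decide +kernel
theorem chkP_54900 : allRange (fun p => checkPoint cert p && checkOrb cert p) 54900 100 = true := by decide +kernel
theorem chkP_58100 : allRange (fun p => checkPoint cert p && checkOrb cert p) 58100 100 = true := by decide +kernel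
theorem chkP_61300 : allRange (fun p => checkPoint cert p && checkOrb cert p) 61300 100 = true := by decide +kernel
theorem chkP_64500 : allRange (fun p => checkPoint cert p && checkOrb cert p) 64500 100 = true := by decide +kernel
theorem chkP_67700 : allRange (fun p => checkPoint cert p && checkOrb cert p) 67700 100 = true := by decide +kernel
theorem chkP_70900 : allRange (fun p => checkPoint cert p && checkOrb cert p) 70900 100 = true := by decide +kernel
theorem chkP_74100 : allRange (fun p => checkPoint cert p && checkOrb cert p) 74100 100 = true := by decide +kernel
theorem chkP_77300 : allRange (fun p => checkPoint cert p && checkOrb cert p) 77300 100 = true := by decide +kernel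
theorem chkP_80500 : allRange (fun p => checkPoint cert p && checkOrb cert p) 80500 100 = true := by decide +kernel
theorem chkP_83700 : allRange (fun p => checkPoint cert p && checkOrb cert p) 83700 100 = true := by decide +kernel
theorem chkP_86900 : allRange (fun p => checkPoint cert p && checkOrb cert p) 86900 100 = true := by decide +kernel
theorem chkP_90100 : allRange (fun p => checkPoint cert p && checkOrb cert p) 90100 100 = true := by decide +kernel
theorem chkP_93300 : allRange (fun p => checkPoint cert p && checkOrb cert p) 93300 100 = true := by decide +kernel
theorem chkP_96500 : allRange (fun p => checkPoint cert p && checkOrb cert p) 96500 100 = true := by decide +kernel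
theorem chkP_99700 : allRange (fun p => checkPoint cert p && checkOrb cert p) 99700 100 = true := by decide +kernel
theorem chkP_102900 : allRange (fun p => checkPoint cert p && checkOrb cert p) 102900 100 = true := by decide +kernel
theorem chkP_106100 : allRange (fun p => checkPoint cert p && checkOrb cert p) 106100 100 = true := by decide +kernel
theorem chkP_109300 : allRange (fun p => checkPoint cert p && checkOrb cert p) 109300 100 = true := by decide +kernel
theorem chkP_112500 : allRange (fun p => checkPoint cert p && checkOrb cert p) 112500 100 = true := by decide +kernel
theorem chkP_115700 : allRange (fun p => checkPoint cert p && checkOrb cert p) 115700 100 = true := by decide +kernel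
theorem chkP_118900 : allRange (fun p => checkPoint cert p && checkOrb cert p) 118900 100 = true := by decide +kernel
theorem chkP_122100 : allRange (fun p => checkPoint cert p && checkOrb cert p) 122100 100 = true := by decide +kernel

end Cfsg.Agent.Lib.Helper28.ONData
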