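import Cfsg.Agent.Lib.Helper28.ONData
import Cfsg.Agent.Lib.Helper28.TCSound

set_option autoImplicit false
set_option maxRecDepth 1000000
set_option linter.all false
set_option Elab.async false

namespace Cfsg.Agent.Lib.Helper28.ONData

open Cfsg.Agent.Lib.Helper28

theorem chkF_42000 : allRange (checkFact cert) 42000 2000 = true := by decide +kernel
theorem chkF_106000 : allRange (checkFact cert) 106000 2000 = true := by decide +kernel
theorem chkF_170000 : allRange (checkFact cert) 170000 2000 = true := by decide +kernel
theorem chkF_234000 : allRange (checkFact cert) 234000 2000 = true := by decide +kernel
theorem chkF_298000 : allRange (checkFact cert) 298000 2000 = true := by decide +kernel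
theorem chkF_362000 : allRange (checkFact cert) 362000 2000 = true := by decide +kernel
theorem chkF_426000 : allRange (checkFact cert) 426000 2000 = true := by decide +kernel
theorem chkF_490000 : allRange (checkFact cert) 490000 2000 = true := by decide +kernel
theorem chkF_554000 : allRange (checkFact cert) 554000 2000 = true := by decide +kernel
theorem chkF_618000 : allRange (checkFact cert) 618000 2000 = true := by decide +kernel
theorem chkF_682000 : allRange (checkFact cert) 682000 2000 = true := by decide +kernel
theorem chkF_746000 : allRange (checkFact cert) 746000 2000 = true := by decide +kernel
theorem chkF_810000 : allRange (checkFact cert) 810000 2000 = true := by decide +kernel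
theorem chkF_874000 : allRange (checkFact cert) 874000 2000 = true := by decide +kernel
theorem chkF_938000 : allRange (checkFact cert) 938000 2000 = true := by decide +kernel
theorem chkF_1002000 : allRange (checkFact cert) 1002000 2000 = true := by decide +kernel
theorem chkF_1066000 : allRange (checkFact cert) 1066000 2000 = true := by decide +kernel
theorem chkF_1130000 : allRange (checkFact cert) 1130000 2000 = true := by decide +kernel
theorem chkF_1194000 : allRange (checkFact cert) 1194000 2000 = true := by decide +kernel
theorem chkP_2400 : allRange (fun p => checkPoint cert p && checkOrb cert p) 2400 100 = true := by decide +kernel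
theorem chkP_5600 : allRange (fun p => checkPoint cert p && checkOrb cert p) 5600 100 = true := by decide +kernel
theorem chkP_8800 : allRange (fun p => checkPoint cert p && checkOrb cert p) 8800 100 = true := by decide +kernel
theorem chkP_12000 : allRange (fun p => checkPoint cert p && checkOrb cert p) 12000 100 = true := by decide +kernel
theorem chkP_15200 : allRange (fun p => checkPoint cert p && checkOrb cert p) 15200 100 = true := by decide +kernel
theorem chkP_18400 : allRange (fun p => checkPoint cert p && checkOrb cert p) 18400 100 = true := by decide +kernel
theorem chkP_21600 : allRange (fun p => checkPoint cert p && checkOrb cert p) 21600 100 = true := by decide +kernel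
theorem chkP_24800 : allRange (fun p => checkPoint cert p && checkOrb cert p) 24800 100 = true := by decide +kernel
theorem chkP_28000 : allRange (fun p => checkPoint cert p && checkOrb cert p) 28000 100 = true := by decide +kernel
theorem chkP_31200 : allRange (fun p => checkPoint cert p && checkOrb cert p) 31200 100 = true := by decide +kernel
theorem chkP_34400 : allRange (fun p => checkPoint cert p && checkOrb cert p) 34400 100 = true := by decide +kernel
theorem chkP_37600 : allRange (fun p => checkPoint cert p && checkOrb cert p) 37600 100 = true := by decide +kernel
theorem chkP_40800 : allRange (fun p => checkPoint cert p && checkOrb cert p) 40800 100 = true := by decide +kernel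
theorem chkP_44000 : allRange (fun p => checkPoint cert p && checkOrb cert p) 44000 100 = true := by decide +kernel
theorem chkP_47200 : allRange (fun p => checkPoint cert p && checkOrb cert p) 47200 100 = true := by decide +kernel
theorem chkP_50400 : allRange (fun p => checkPoint cert p && checkOrb cert p) 50400 100 = true := by decide +kernel
theorem chkP_53600 : allRange (fun p => checkPoint cert p && checkOrb cert p) 53600 100 = true := by decide +kernel
theorem chkP_56800 : allRange (fun p => checkPoint cert p && checkOrb cert p) 56800 100 = true := by decide +kernel
theorem chkP_60000 : allRange (fun p => checkPoint cert p && checkOrb cert p) 60000 100 = true := by decide +kernel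
theorem chkP_63200 : allRange (fun p => checkPoint cert p && checkOrb cert p) 63200 100 = true := by decide +kernel
theorem chkP_66400 : allRange (fun p => checkPoint cert p && checkOrb cert p) 66400 100 = true := by decide +kernel
theorem chkP_69600 : allRange (fun p => checkPoint cert p && checkOrb cert p) 69600 100 = true := by decide +kernel
theorem chkP_72800 : allRange (fun p => checkPoint cert p && checkOrb cert p) 72800 100 = true := by decide +kernel
theorem chkP_76000 : allRange (fun p => checkPoint cert p && checkOrb cert p) 76000 100 = true := by decide +kernel
theorem chkP_79200 : allRange (fun p => checkPoint cert p && checkOrb cert p) 79200 100 = true := by decide +kernel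
theorem chkP_82400 : allRange (fun p => checkPoint cert p && checkOrb cert p) 82400 100 = true := by decide +kernel
theorem chkP_85600 : allRange (fun p => checkPoint cert p && checkOrb cert p) 85600 100 = true := by decide +kernel
theorem chkP_88800 : allRange (fun p => checkPoint cert p && checkOrb cert p) 88800 100 = true := by decide +kernel
theorem chkP_92000 : allRange (fun p => checkPoint cert p && checkOrb cert p) 92000 100 = true := by decide +kernel
theorem chkP_95200 : allRange (fun p => checkPoint cert p && checkOrb cert p) 95200 100 = true := by decide +kernel
theorem chkP_98400 : allRange (fun p => checkPoint cert p && checkOrb cert p) 98400 100 = true := by decide +kernel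
theorem chkP_101600 : allRange (fun p => checkPoint cert p && checkOrb cert p) 101600 100 = true := by decide +kernel
theorem chkP_104800 : allRange (fun p => checkPoint cert p && checkOrb cert p) 104800 100 = true := by decide +kernel
theorem chkP_108000 : allRange (fun p => checkPoint cert p && checkOrb cert p) 108000 100 = true := by decide +kernel
theorem chkP_111200 : allRange (fun p => checkPoint cert p && checkOrb cert p) 111200 100 = true := by decide +kernel
theorem chkP_114400 : allRange (fun p => checkPoint cert p && checkOrb cert p) 114400 100 = true := by decide +kernel
theorem chkP_117600 : allRange (fun p => checkPoint cert p && checkOrb cert p) 117600 100 = true := by decide +kernel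
theorem chkP_120800 : allRange (fun p => checkPoint cert p && checkOrb cert p) 120800 100 = true := by decide +kernel

end Cfsg.Agent.Lib.Helper28.ONData
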