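import Cfsg.Agent.Lib.Helper28.ONData
import Cfsg.Agent.Lib.Helper28.TCSound

set_option autoImplicit false
set_option maxRecDepth 1000000
set_option linter.all false
set_option Elab.async false

namespace Cfsg.Agent.Lib.Helper28.ONData

open Cfsg.Agent.Lib.Helper28

theorem chkF_44000 : allRange (checkFact cert) 44000 2000 = true := by decide +kernel
theorem chkF_108000 : allRange (checkFact cert) 108000 2000 = true := by decide +kernel
theorem chkF_172000 : allRange (checkFact cert) 172000 2000 = true := by decide +kernel
theorem chkF_236000 : allRange (checkFact cert) 236000 2000 = true := by decide +kernel
theorem chkF_300000 : allRange (checkFact cert) 300000 2000 = true := by decide +kernel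
theorem chkF_364000 : allRange (checkFact cert) 364000 2000 = true := by decide +kernel
theorem chkF_428000 : allRange (checkFact cert) 428000 2000 = true := by decide +kernel
theorem chkF_492000 : allRange (checkFact cert) 492000 2000 = true := by decide +kernel
theorem chkF_556000 : allRange (checkFact cert) 556000 2000 = true := by decide +kernel
theorem chkF_620000 : allRange (checkFact cert) 620000 2000 = true := by decide +kernel
theorem chkF_684000 : allRange (checkFact cert) 684000 2000 = true := by decide +kernel
theorem chkF_748000 : allRange (checkFact cert) 748000 2000 = true := by decide +kernel
theorem chkF_812000 : allRange (checkFact cert) 812000 2000 = true := by decide +kernel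
theorem chkF_876000 : allRange (checkFact cert) 876000 2000 = true := by decide +kernel
theorem chkF_940000 : allRange (checkFact cert) 940000 2000 = true := by decide +kernel
theorem chkF_1004000 : allRange (checkFact cert) 1004000 2000 = true := by decide +kernel
theorem chkF_1068000 : allRange (checkFact cert) 1068000 2000 = true := by decide +kernel
theorem chkF_1132000 : allRange (checkFact cert) 1132000 2000 = true := by decide +kernel
theorem chkF_1196000 : allRange (checkFact cert) 1196000 2000 = true := by decide +kernel
theorem chkP_2500 : allRange (fun p => checkPoint cert p && checkOrb cert p) 2500 100 = true := by decide +kernel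
theorem chkP_5700 : allRange (fun p => checkPoint cert p && checkOrb cert p) 5700 100 = true := by decide +kernel
theorem chkP_8900 : allRange (fun p => checkPoint cert p && checkOrb cert p) 8900 100 = true := by decide +kernel
theorem chkP_12100 : allRange (fun p => checkPoint cert p && checkOrb cert p) 12100 100 = true := by decide +kernel
theorem chkP_15300 : allRange (fun p => checkPoint cert p && checkOrb cert p) 15300 100 = true := by decide +kernel
theorem chkP_18500 : allRange (fun p => checkPoint cert p && checkOrb cert p) 18500 100 = true := by decide +kernel
theorem chkP_21700 : allRange (fun p => checkPoint cert p && checkOrb cert p) 21700 100 = true := by decide +kernel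
theorem chkP_24900 : allRange (fun p => checkPoint cert p && checkOrb cert p) 24900 100 = true := by decide +kernel
theorem chkP_28100 : allRange (fun p => checkPoint cert p && checkOrb cert p) 28100 100 = true := by decide +kernel
theorem chkP_31300 : allRange (fun p => checkPoint cert p && checkOrb cert p) 31300 100 = true := by decide +kernel
theorem chkP_34500 : allRange (fun p => checkPoint cert p && checkOrb cert p) 34500 100 = true := by decide +kernel
theorem chkP_37700 : allRange (fun p => checkPoint cert p && checkOrb cert p) 37700 100 = true := by decide +kernel
theorem chkP_40900 : allRange (fun p => checkPoint cert p && checkOrb cert p) 40900 100 = true := by decide +kernel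
theorem chkP_44100 : allRange (fun p => checkPoint cert p && checkOrb cert p) 44100 100 = true := by decide +kernel
theorem chkP_47300 : allRange (fun p => checkPoint cert p && checkOrb cert p) 47300 100 = true := by decide +kernel
theorem chkP_50500 : allRange (fun p => checkPoint cert p && checkOrb cert p) 50500 100 = true := by decide +kernel
theorem chkP_53700 : allRange (fun p => checkPoint cert p && checkOrb cert p) 53700 100 = true := by decide +kernel
theorem chkP_56900 : allRange (fun p => checkPoint cert p && checkOrb cert p) 56900 100 = true := by decide +kernel
theorem chkP_60100 : allRange (fun p => checkPoint cert p && checkOrb cert p) 60100 100 = true := by decide +kernel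
theorem chkP_63300 : allRange (fun p => checkPoint cert p && checkOrb cert p) 63300 100 = true := by decide +kernel
theorem chkP_66500 : allRange (fun p => checkPoint cert p && checkOrb cert p) 66500 100 = true := by decide +kernel
theorem chkP_69700 : allRange (fun p => checkPoint cert p && checkOrb cert p) 69700 100 = true := by decide +kernel
theorem chkP_72900 : allRange (fun p => checkPoint cert p && checkOrb cert p) 72900 100 = true := by decide +kernel
theorem chkP_76100 : allRange (fun p => checkPoint cert p && checkOrb cert p) 76100 100 = true := by decide +kernel
theorem chkP_79300 : allRange (fun p => checkPoint cert p && checkOrb cert p) 79300 100 = true := by decide +kernel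
theorem chkP_82500 : allRange (fun p => checkPoint cert p && checkOrb cert p) 82500 100 = true := by decide +kernel
theorem chkP_85700 : allRange (fun p => checkPoint cert p && checkOrb cert p) 85700 100 = true := by decide +kernel
theorem chkP_88900 : allRange (fun p => checkPoint cert p && checkOrb cert p) 88900 100 = true := by decide +kernel
theorem chkP_92100 : allRange (fun p => checkPoint cert p && checkOrb cert p) 92100 100 = true := by decide +kernel
theorem chkP_95300 : allRange (fun p => checkPoint cert p && checkOrb cert p) 95300 100 = true := by decide +kernel
theorem chkP_98500 : allRange (fun p => checkPoint cert p && checkOrb cert p) 98500 100 = true := by decide +kernel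
theorem chkP_101700 : allRange (fun p => checkPoint cert p && checkOrb cert p) 101700 100 = true := by decide +kernel
theorem chkP_104900 : allRange (fun p => checkPoint cert p && checkOrb cert p) 104900 100 = true := by decide +kernel
theorem chkP_108100 : allRange (fun p => checkPoint cert p && checkOrb cert p) 108100 100 = true := by decide +kernel
theorem chkP_111300 : allRange (fun p => checkPoint cert p && checkOrb cert p) 111300 100 = true := by decide +kernel
theorem chkP_114500 : allRange (fun p => checkPoint cert p && checkOrb cert p) 114500 100 = true := by decide +kernel
theorem chkP_117700 : allRange (fun p => checkPoint cert p && checkOrb cert p) 117700 100 = true := by decide +kernel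
theorem chkP_120900 : allRange (fun p => checkPoint cert p && checkOrb cert p) 120900 100 = true := by decide +kernel

end Cfsg.Agent.Lib.Helper28.ONData
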