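import Cfsg.Agent.Lib.Helper28.ONData
import Cfsg.Agent.Lib.Helper28.TCSound

set_option autoImplicit false
set_option maxRecDepth 1000000
set_option linter.all false
set_option Elab.async false

namespace Cfsg.Agent.Lib.Helper28.ONData

open Cfsg.Agent.Lib.Helper28

theorem chkF_46000 : allRange (checkFact cert) 46000 2000 = true := by decide +kernel
theorem chkF_110000 : allRange (checkFact cert) 110000 2000 = true := by decide +kernel
theorem chkF_174000 : allRange (checkFact cert) 174000 2000 = true := by decide +kernel
theorem chkF_238000 : allRange (checkFact cert) 238000 2000 = true := by decide +kernel
theorem chkF_302000 : allRange (checkFact cert) 302000 2000 = true := by decide +kernel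
theorem chkF_366000 : allRange (checkFact cert) 366000 2000 = true := by decide +kernel
theorem chkF_430000 : allRange (checkFact cert) 430000 2000 = true := by decide +kernel
theorem chkF_494000 : allRange (checkFact cert) 494000 2000 = true := by decide +kernel
theorem chkF_558000 : allRange (checkFact cert) 558000 2000 = true := by decide +kernel
theorem chkF_622000 : allRange (checkFact cert) 622000 2000 = true := by decide +kernel
theorem chkF_686000 : allRange (checkFact cert) 686000 2000 = true := by decide +kernel
theorem chkF_750000 : allRange (checkFact cert) 750000 2000 = true := by decide +kernel
theorem chkF_814000 : allRange (checkFact cert) 814000 2000 = true := by decide +kernel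
theorem chkF_878000 : allRange (checkFact cert) 878000 2000 = true := by decide +kernel
theorem chkF_942000 : allRange (checkFact cert) 942000 2000 = true := by decide +kernel
theorem chkF_1006000 : allRange (checkFact cert) 1006000 2000 = true := by decide +kernel
theorem chkF_1070000 : allRange (checkFact cert) 1070000 2000 = true := by decide +kernel
theorem chkF_1134000 : allRange (checkFact cert) 1134000 2000 = true := by decide +kernel
theorem chkF_1198000 : allRange (checkFact cert) 1198000 2000 = true := by decide +kernel
theorem chkP_2600 : allRange (fun p => checkPoint cert p && checkOrb cert p) 2600 100 = true := by decide +kernel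
theorem chkP_5800 : allRange (fun p => checkPoint cert p && checkOrb cert p) 5800 100 = true := by decide +kernel
theorem chkP_9000 : allRange (fun p => checkPoint cert p && checkOrb cert p) 9000 100 = true := by decide +kernel
theorem chkP_12200 : allRange (fun p => checkPoint cert p && checkOrb cert p) 12200 100 = true := by decide +kernel
theorem chkP_15400 : allRange (fun p => checkPoint cert p && checkOrb cert p) 15400 100 = true := by decide +kernel
theorem chkP_18600 : allRange (fun p => checkPoint cert p && checkOrb cert p) 18600 100 = true := by decide +kernel
theorem chkP_21800 : allRange (fun p => checkPoint cert p && checkOrb cert p) 21800 100 = true := by decide +kernel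
theorem chkP_25000 : allRange (fun p => checkPoint cert p && checkOrb cert p) 25000 100 = true := by decide +kernel
theorem chkP_28200 : allRange (fun p => checkPoint cert p && checkOrb cert p) 28200 100 = true := by decide +kernel
theorem chkP_31400 : allRange (fun p => checkPoint cert p && checkOrb cert p) 31400 100 = true := by decide +kernel
theorem chkP_34600 : allRange (fun p => checkPoint cert p && checkOrb cert p) 34600 100 = true := by decide +kernel
theorem chkP_37800 : allRange (fun p => checkPoint cert p && checkOrb cert p) 37800 100 = true := by decide +kernel
theorem chkP_41000 : allRange (fun p => checkPoint cert p && checkOrb cert p) 41000 100 = true := by decide +kernel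
theorem chkP_44200 : allRange (fun p => checkPoint cert p && checkOrb cert p) 44200 100 = true := by decide +kernel
theorem chkP_47400 : allRange (fun p => checkPoint cert p && checkOrb cert p) 47400 100 = true := by decide +kernel
theorem chkP_50600 : allRange (fun p => checkPoint cert p && checkOrb cert p) 50600 100 = true := by decide +kernel
theorem chkP_53800 : allRange (fun p => checkPoint cert p && checkOrb cert p) 53800 100 = true := by decide +kernel
theorem chkP_57000 : allRange (fun p => checkPoint cert p && checkOrb cert p) 57000 100 = true := by decide +kernel
theorem chkP_60200 : allRange (fun p => checkPoint cert p && checkOrb cert p) 60200 100 = true := by decide +kernel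
theorem chkP_63400 : allRange (fun p => checkPoint cert p && checkOrb cert p) 63400 100 = true := by decide +kernel
theorem chkP_66600 : allRange (fun p => checkPoint cert p && checkOrb cert p) 66600 100 = true := by decide +kernel
theorem chkP_69800 : allRange (fun p => checkPoint cert p && checkOrb cert p) 69800 100 = true := by decide +kernel
theorem chkP_73000 : allRange (fun p => checkPoint cert p && checkOrb cert p) 73000 100 = true := by decide +kernel
theorem chkP_76200 : allRange (fun p => checkPoint cert p && checkOrb cert p) 76200 100 = true := by decide +kernel
theorem chkP_79400 : allRange (fun p => checkPoint cert p && checkOrb cert p) 79400 100 = true := by decide +kernel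
theorem chkP_82600 : allRange (fun p => checkPoint cert p && checkOrb cert p) 82600 100 = true := by decide +kernel
theorem chkP_85800 : allRange (fun p => checkPoint cert p && checkOrb cert p) 85800 100 = true := by decide +kernel
theorem chkP_89000 : allRange (fun p => checkPoint cert p && checkOrb cert p) 89000 100 = true := by decide +kernel
theorem chkP_92200 : allRange (fun p => checkPoint cert p && checkOrb cert p) 92200 100 = true := by decide +kernel
theorem chkP_95400 : allRange (fun p => checkPoint cert p && checkOrb cert p) 95400 100 = true := by decide +kernel
theorem chkP_98600 : allRange (fun p => checkPoint cert p && checkOrb cert p) 98600 100 = true := by decide +kernel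
theorem chkP_101800 : allRange (fun p => checkPoint cert p && checkOrb cert p) 101800 100 = true := by decide +kernel
theorem chkP_105000 : allRange (fun p => checkPoint cert p && checkOrb cert p) 105000 100 = true := by decide +kernel
theorem chkP_108200 : allRange (fun p => checkPoint cert p && checkOrb cert p) 108200 100 = true := by decide +kernel
theorem chkP_111400 : allRange (fun p => checkPoint cert p && checkOrb cert p) 111400 100 = true := by decide +kernel
theorem chkP_114600 : allRange (fun p => checkPoint cert p && checkOrb cert p) 114600 100 = true := by decide +kernel
theorem chkP_117800 : allRange (fun p => checkPoint cert p && checkOrb cert p) 117800 100 = true := by decide +kernel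
theorem chkP_121000 : allRange (fun p => checkPoint cert p && checkOrb cert p) 121000 100 = true := by decide +kernel

end Cfsg.Agent.Lib.Helper28.ONData
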