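import Cfsg.Agent.Lib.Helper28.ONData
import Cfsg.Agent.Lib.Helper28.TCSound

set_option autoImplicit false
set_option maxRecDepth 1000000
set_option linter.all false
set_option Elab.async false

namespace Cfsg.Agent.Lib.Helper28.ONData

open Cfsg.Agent.Lib.Helper28

theorem chkF_48000 : allRange (checkFact cert) 48000 2000 = true := by decide +kernel
theorem chkF_112000 : allRange (checkFact cert) 112000 2000 = true := by decide +kernel
theorem chkF_176000 : allRange (checkFact cert) 176000 2000 = true := by decide +kernel
theorem chkF_240000 : allRange (checkFact cert) 240000 2000 = true := by decide +kernel
theorem chkF_304000 : allRange (checkFact cert) 304000 2000 = true := by decide +kernel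
theorem chkF_368000 : allRange (checkFact cert) 368000 2000 = true := by decide +kernel
theorem chkF_432000 : allRange (checkFact cert) 432000 2000 = true := by decide +kernel
theorem chkF_496000 : allRange (checkFact cert) 496000 2000 = true := by decide +kernel
theorem chkF_560000 : allRange (checkFact cert) 560000 2000 = true := by decide +kernel
theorem chkF_624000 : allRange (checkFact cert) 624000 2000 = true := by decide +kernel
theorem chkF_688000 : allRange (checkFact cert) 688000 2000 = true := by decide +kernel
theorem chkF_752000 : allRange (checkFact cert) 752000 2000 = true := by decide +kernel
theorem chkF_816000 : allRange (checkFact cert) 816000 2000 = true := by decide +kernel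
theorem chkF_880000 : allRange (checkFact cert) 880000 2000 = true := by decide +kernel
theorem chkF_944000 : allRange (checkFact cert) 944000 2000 = true := by decide +kernel
theorem chkF_1008000 : allRange (checkFact cert) 1008000 2000 = true := by decide +kernel
theorem chkF_1072000 : allRange (checkFact cert) 1072000 2000 = true := by decide +kernel
theorem chkF_1136000 : allRange (checkFact cert) 1136000 2000 = true := by decide +kernel
theorem chkF_1200000 : allRange (checkFact cert) 1200000 2000 = true := by decide +kernel
theorem chkP_2700 : allRange (fun p => checkPoint cert p && checkOrb cert p) 2700 100 = true := by decide +kernel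
theorem chkP_5900 : allRange (fun p => checkPoint cert p && checkOrb cert p) 5900 100 = true := by decide +kernel
theorem chkP_9100 : allRange (fun p => checkPoint cert p && checkOrb cert p) 9100 100 = true := by decide +kernel
theorem chkP_12300 : allRange (fun p => checkPoint cert p && checkOrb cert p) 12300 100 = true := by decide +kernel
theorem chkP_15500 : allRange (fun p => checkPoint cert p && checkOrb cert p) 15500 100 = true := by decide +kernel
theorem chkP_18700 : allRange (fun p => checkPoint cert p && checkOrb cert p) 18700 100 = true := by decide +kernel
theorem chkP_21900 : allRange (fun p => checkPoint cert p && checkOrb cert p) 21900 100 = true := by decide +kernel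
theorem chkP_25100 : allRange (fun p => checkPoint cert p && checkOrb cert p) 25100 100 = true := by decide +kernel
theorem chkP_28300 : allRange (fun p => checkPoint cert p && checkOrb cert p) 28300 100 = true := by decide +kernel
theorem chkP_31500 : allRange (fun p => checkPoint cert p && checkOrb cert p) 31500 100 = true := by decide +kernel
theorem chkP_34700 : allRange (fun p => checkPoint cert p && checkOrb cert p) 34700 100 = true := by decide +kernel
theorem chkP_37900 : allRange (fun p => checkPoint cert p && checkOrb cert p) 37900 100 = true := by decide +kernel
theorem chkP_41100 : allRange (fun p => checkPoint cert p && checkOrb cert p) 41100 100 = true := by decide +kernel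
theorem chkP_44300 : allRange (fun p => checkPoint cert p && checkOrb cert p) 44300 100 = true := by decide +kernel
theorem chkP_47500 : allRange (fun p => checkPoint cert p && checkOrb cert p) 47500 100 = true := by decide +kernel
theorem chkP_50700 : allRange (fun p => checkPoint cert p && checkOrb cert p) 50700 100 = true := by decide +kernel
theorem chkP_53900 : allRange (fun p => checkPoint cert p && checkOrb cert p) 53900 100 = true := by decide +kernel
theorem chkP_57100 : allRange (fun p => checkPoint cert p && checkOrb cert p) 57100 100 = true := by decide +kernel
theorem chkP_60300 : allRange (fun p => checkPoint cert p && checkOrb cert p) 60300 100 = true := by decide +kernel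
theorem chkP_63500 : allRange (fun p => checkPoint cert p && checkOrb cert p) 63500 100 = true := by decide +kernel
theorem chkP_66700 : allRange (fun p => checkPoint cert p && checkOrb cert p) 66700 100 = true := by decide +kernel
theorem chkP_69900 : allRange (fun p => checkPoint cert p && checkOrb cert p) 69900 100 = true := by decide +kernel
theorem chkP_73100 : allRange (fun p => checkPoint cert p && checkOrb cert p) 73100 100 = true := by decide +kernel
theorem chkP_76300 : allRange (fun p => checkPoint cert p && checkOrb cert p) 76300 100 = true := by decide +kernel
theorem chkP_79500 : allRange (fun p => checkPoint cert p && checkOrb cert p) 79500 100 = true := by decide +kernel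
theorem chkP_82700 : allRange (fun p => checkPoint cert p && checkOrb cert p) 82700 100 = true := by decide +kernel
theorem chkP_85900 : allRange (fun p => checkPoint cert p && checkOrb cert p) 85900 100 = true := by decide +kernel
theorem chkP_89100 : allRange (fun p => checkPoint cert p && checkOrb cert p) 89100 100 = true := by decide +kernel
theorem chkP_92300 : allRange (fun p => checkPoint cert p && checkOrb cert p) 92300 100 = true := by decide +kernel
theorem chkP_95500 : allRange (fun p => checkPoint cert p && checkOrb cert p) 95500 100 = true := by decide +kernel
theorem chkP_98700 : allRange (fun p => checkPoint cert p && checkOrb cert p) 98700 100 = true := by decide +kernel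
theorem chkP_101900 : allRange (fun p => checkPoint cert p && checkOrb cert p) 101900 100 = true := by decide +kernel
theorem chkP_105100 : allRange (fun p => checkPoint cert p && checkOrb cert p) 105100 100 = true := by decide +kernel
theorem chkP_108300 : allRange (fun p => checkPoint cert p && checkOrb cert p) 108300 100 = true := by decide +kernel
theorem chkP_111500 : allRange (fun p => checkPoint cert p && checkOrb cert p) 111500 100 = true := by decide +kernel
theorem chkP_114700 : allRange (fun p => checkPoint cert p && checkOrb cert p) 114700 100 = true := by decide +kernel
theorem chkP_117900 : allRange (fun p => checkPoint cert p && checkOrb cert p) 117900 100 = true := by decide +kernel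
theorem chkP_121100 : allRange (fun p => checkPoint cert p && checkOrb cert p) 121100 100 = true := by decide +kernel

end Cfsg.Agent.Lib.Helper28.ONData
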