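import Cfsg.Agent.Lib.Helper28.ONData
import Cfsg.Agent.Lib.Helper28.TCSound

set_option autoImplicit false
set_option maxRecDepth 1000000
set_option linter.all false
set_option Elab.async false

namespace Cfsg.Agent.Lib.Helper28.ONData

open Cfsg.Agent.Lib.Helper28

theorem chkF_50000 : allRange (checkFact cert) 50000 2000 = true := by decide +kernel
theorem chkF_114000 : allRange (checkFact cert) 114000 2000 = true := by decide +kernel
theorem chkF_178000 : allRange (checkFact cert) 178000 2000 = true := by decide +kernel
theorem chkF_242000 : allRange (checkFact cert) 242000 2000 = true := by decide +kernel
theorem chkF_306000 : allRange (checkFact cert) 306000 2000 = true := by decide +kernel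
theorem chkF_370000 : allRange (checkFact cert) 370000 2000 = true := by decide +kernel
theorem chkF_434000 : allRange (checkFact cert) 434000 2000 = true := by decide +kernel
theorem chkF_498000 : allRange (checkFact cert) 498000 2000 = true := by decide +kernel
theorem chkF_562000 : allRange (checkFact cert) 562000 2000 = true := by decide +kernel
theorem chkF_626000 : allRange (checkFact cert) 626000 2000 = true := by decide +kernel
theorem chkF_690000 : allRange (checkFact cert) 690000 2000 = true := by decide +kernel
theorem chkF_754000 : allRange (checkFact cert) 754000 2000 = true := by decide +kernel
theorem chkF_818000 : allRange (checkFact cert) 818000 2000 = true := by decide +kernel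
theorem chkF_882000 : allRange (checkFact cert) 882000 2000 = true := by decide +kernel
theorem chkF_946000 : allRange (checkFact cert) 946000 2000 = true := by decide +kernel
theorem chkF_1010000 : allRange (checkFact cert) 1010000 2000 = true := by decide +kernel
theorem chkF_1074000 : allRange (checkFact cert) 1074000 2000 = true := by decide +kernel
theorem chkF_1138000 : allRange (checkFact cert) 1138000 2000 = true := by decide +kernel
theorem chkF_1202000 : allRange (checkFact cert) 1202000 2000 = true := by decide +kernel
theorem chkP_2800 : allRange (fun p => checkPoint cert p && checkOrb cert p) 2800 100 = true := by decide +kernel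
theorem chkP_6000 : allRange (fun p => checkPoint cert p && checkOrb cert p) 6000 100 = true := by decide +kernel
theorem chkP_9200 : allRange (fun p => checkPoint cert p && checkOrb cert p) 9200 100 = true := by decide +kernel
theorem chkP_12400 : allRange (fun p => checkPoint cert p && checkOrb cert p) 12400 100 = true := by decide +kernel
theorem chkP_15600 : allRange (fun p => checkPoint cert p && checkOrb cert p) 15600 100 = true := by decide +kernel
theorem chkP_18800 : allRange (fun p => checkPoint cert p && checkOrb cert p) 18800 100 = true := by decide +kernel
theorem chkP_22000 : allRange (fun p => checkPoint cert p && checkOrb cert p) 22000 100 = true := by decide +kernel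
theorem chkP_25200 : allRange (fun p => checkPoint cert p && checkOrb cert p) 25200 100 = true := by decide +kernel
theorem chkP_28400 : allRange (fun p => checkPoint cert p && checkOrb cert p) 28400 100 = true := by decide +kernel
theorem chkP_31600 : allRange (fun p => checkPoint cert p && checkOrb cert p) 31600 100 = true := by decide +kernel
theorem chkP_34800 : allRange (fun p => checkPoint cert p && checkOrb cert p) 34800 100 = true := by decide +kernel
theorem chkP_38000 : allRange (fun p => checkPoint cert p && checkOrb cert p) 38000 100 = true := by decide +kernel
theorem chkP_41200 : allRange (fun p => checkPoint cert p && checkOrb cert p) 41200 100 = true := by decide +kernel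
theorem chkP_44400 : allRange (fun p => checkPoint cert p && checkOrb cert p) 44400 100 = true := by decide +kernel
theorem chkP_47600 : allRange (fun p => checkPoint cert p && checkOrb cert p) 47600 100 = true := by decide +kernel
theorem chkP_50800 : allRange (fun p => checkPoint cert p && checkOrb cert p) 50800 100 = true := by decide +kernel
theorem chkP_54000 : allRange (fun p => checkPoint cert p && checkOrb cert p) 54000 100 = true := by decide +kernel
theorem chkP_57200 : allRange (fun p => checkPoint cert p && checkOrb cert p) 57200 100 = true := by decide +kernel
theorem chkP_60400 : allRange (fun p => checkPoint cert p && checkOrb cert p) 60400 100 = true := by decide +kernel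
theorem chkP_63600 : allRange (fun p => checkPoint cert p && checkOrb cert p) 63600 100 = true := by decide +kernel
theorem chkP_66800 : allRange (fun p => checkPoint cert p && checkOrb cert p) 66800 100 = true := by decide +kernel
theorem chkP_70000 : allRange (fun p => checkPoint cert p && checkOrb cert p) 70000 100 = true := by decide +kernel
theorem chkP_73200 : allRange (fun p => checkPoint cert p && checkOrb cert p) 73200 100 = true := by decide +kernel
theorem chkP_76400 : allRange (fun p => checkPoint cert p && checkOrb cert p) 76400 100 = true := by decide +kernel
theorem chkP_79600 : allRange (fun p => checkPoint cert p && checkOrb cert p) 79600 100 = true := by decide +kernel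
theorem chkP_82800 : allRange (fun p => checkPoint cert p && checkOrb cert p) 82800 100 = true := by decide +kernel
theorem chkP_86000 : allRange (fun p => checkPoint cert p && checkOrb cert p) 86000 100 = true := by decide +kernel
theorem chkP_89200 : allRange (fun p => checkPoint cert p && checkOrb cert p) 89200 100 = true := by decide +kernel
theorem chkP_92400 : allRange (fun p => checkPoint cert p && checkOrb cert p) 92400 100 = true := by decide +kernel
theorem chkP_95600 : allRange (fun p => checkPoint cert p && checkOrb cert p) 95600 100 = true := by decide +kernel
theorem chkP_98800 : allRange (fun p => checkPoint cert p && checkOrb cert p) 98800 100 = true := by decide +kernel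
theorem chkP_102000 : allRange (fun p => checkPoint cert p && checkOrb cert p) 102000 100 = true := by decide +kernel
theorem chkP_105200 : allRange (fun p => checkPoint cert p && checkOrb cert p) 105200 100 = true := by decide +kernel
theorem chkP_108400 : allRange (fun p => checkPoint cert p && checkOrb cert p) 108400 100 = true := by decide +kernel
theorem chkP_111600 : allRange (fun p => checkPoint cert p && checkOrb cert p) 111600 100 = true := by decide +kernel
theorem chkP_114800 : allRange (fun p => checkPoint cert p && checkOrb cert p) 114800 100 = true := by decide +kernel
theorem chkP_118000 : allRange (fun p => checkPoint cert p && checkOrb cert p) 118000 100 = true := by decide +kernel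
theorem chkP_121200 : allRange (fun p => checkPoint cert p && checkOrb cert p) 121200 100 = true := by decide +kernel

end Cfsg.Agent.Lib.Helper28.ONData
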