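import Cfsg.Agent.Lib.Helper28.ONData
import Cfsg.Agent.Lib.Helper28.TCSound

set_option autoImplicit false
set_option maxRecDepth 1000000
set_option linter.all false
set_option Elab.async false

namespace Cfsg.Agent.Lib.Helper28.ONData

open Cfsg.Agent.Lib.Helper28

theorem chkF_52000 : allRange (checkFact cert) 52000 2000 = true := by decide +kernel
theorem chkF_116000 : allRange (checkFact cert) 116000 2000 = true := by decide +kernel
theorem chkF_180000 : allRange (checkFact cert) 180000 2000 = true := by decide +kernel
theorem chkF_244000 : allRange (checkFact cert) 244000 2000 = true := by decide +kernel
theorem chkF_308000 : allRange (checkFact cert) 308000 2000 = true := by decide +kernel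
theorem chkF_372000 : allRange (checkFact cert) 372000 2000 = true := by decide +kernel
theorem chkF_436000 : allRange (checkFact cert) 436000 2000 = true := by decide +kernel
theorem chkF_500000 : allRange (checkFact cert) 500000 2000 = true := by decide +kernel
theorem chkF_564000 : allRange (checkFact cert) 564000 2000 = true := by decide +kernel
theorem chkF_628000 : allRange (checkFact cert) 628000 2000 = true := by decide +kernel
theorem chkF_692000 : allRange (checkFact cert) 692000 2000 = true := by decide +kernel
theorem chkF_756000 : allRange (checkFact cert) 756000 2000 = true := by decide +kernel
theorem chkF_820000 : allRange (checkFact cert) 820000 2000 = true := by decide +kernel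
theorem chkF_884000 : allRange (checkFact cert) 884000 2000 = true := by decide +kernel
theorem chkF_948000 : allRange (checkFact cert) 948000 2000 = true := by decide +kernel
theorem chkF_1012000 : allRange (checkFact cert) 1012000 2000 = true := by decide +kernel
theorem chkF_1076000 : allRange (checkFact cert) 1076000 2000 = true := by decide +kernel
theorem chkF_1140000 : allRange (checkFact cert) 1140000 2000 = true := by decide +kernel
theorem chkF_1204000 : allRange (checkFact cert) 1204000 2000 = true := by decide +kernel
theorem chkP_2900 : allRange (fun p => checkPoint cert p && checkOrb cert p) 2900 100 = true := by decide +kernel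
theorem chkP_6100 : allRange (fun p => checkPoint cert p && checkOrb cert p) 6100 100 = true := by decide +kernel
theorem chkP_9300 : allRange (fun p => checkPoint cert p && checkOrb cert p) 9300 100 = true := by decide +kernel
theorem chkP_12500 : allRange (fun p => checkPoint cert p && checkOrb cert p) 12500 100 = true := by decide +kernel
theorem chkP_15700 : allRange (fun p => checkPoint cert p && checkOrb cert p) 15700 100 = true := by decide +kernel
theorem chkP_18900 : allRange (fun p => checkPoint cert p && checkOrb cert p) 18900 100 = true := by decide +kernel
theorem chkP_22100 : allRange (fun p => checkPoint cert p && checkOrb cert p) 22100 100 = true := by decide +kernel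
theorem chkP_25300 : allRange (fun p => checkPoint cert p && checkOrb cert p) 25300 100 = true := by decide +kernel
theorem chkP_28500 : allRange (fun p => checkPoint cert p && checkOrb cert p) 28500 100 = true := by decide +kernel
theorem chkP_31700 : allRange (fun p => checkPoint cert p && checkOrb cert p) 31700 100 = true := by decide +kernel
theorem chkP_34900 : allRange (fun p => checkPoint cert p && checkOrb cert p) 34900 100 = true := by decide +kernel
theorem chkP_38100 : allRange (fun p => checkPoint cert p && checkOrb cert p) 38100 100 = true := by decide +kernel
theorem chkP_41300 : allRange (fun p => checkPoint cert p && checkOrb cert p) 41300 100 = true := by decide +kernel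
theorem chkP_44500 : allRange (fun p => checkPoint cert p && checkOrb cert p) 44500 100 = true := by decide +kernel
theorem chkP_47700 : allRange (fun p => checkPoint cert p && checkOrb cert p) 47700 100 = true := by decide +kernel
theorem chkP_50900 : allRange (fun p => checkPoint cert p && checkOrb cert p) 50900 100 = true := by decide +kernel
theorem chkP_54100 : allRange (fun p => checkPoint cert p && checkOrb cert p) 54100 100 = true := by decide +kernel
theorem chkP_57300 : allRange (fun p => checkPoint cert p && checkOrb cert p) 57300 100 = true := by decide +kernel
theorem chkP_60500 : allRange (fun p => checkPoint cert p && checkOrb cert p) 60500 100 = true := by decide +kernel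
theorem chkP_63700 : allRange (fun p => checkPoint cert p && checkOrb cert p) 63700 100 = true := by decide +kernel
theorem chkP_66900 : allRange (fun p => checkPoint cert p && checkOrb cert p) 66900 100 = true := by decide +kernel
theorem chkP_70100 : allRange (fun p => checkPoint cert p && checkOrb cert p) 70100 100 = true := by decide +kernel
theorem chkP_73300 : allRange (fun p => checkPoint cert p && checkOrb cert p) 73300 100 = true := by decide +kernel
theorem chkP_76500 : allRange (fun p => checkPoint cert p && checkOrb cert p) 76500 100 = true := by decide +kernel
theorem chkP_79700 : allRange (fun p => checkPoint cert p && checkOrb cert p) 79700 100 = true := by decide +kernel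
theorem chkP_82900 : allRange (fun p => checkPoint cert p && checkOrb cert p) 82900 100 = true := by decide +kernel
theorem chkP_86100 : allRange (fun p => checkPoint cert p && checkOrb cert p) 86100 100 = true := by decide +kernel
theorem chkP_89300 : allRange (fun p => checkPoint cert p && checkOrb cert p) 89300 100 = true := by decide +kernel
theorem chkP_92500 : allRange (fun p => checkPoint cert p && checkOrb cert p) 92500 100 = true := by decide +kernel
theorem chkP_95700 : allRange (fun p => checkPoint cert p && checkOrb cert p) 95700 100 = true := by decide +kernel
theorem chkP_98900 : allRange (fun p => checkPoint cert p && checkOrb cert p) 98900 100 = true := by decide +kernel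
theorem chkP_102100 : allRange (fun p => checkPoint cert p && checkOrb cert p) 102100 100 = true := by decide +kernel
theorem chkP_105300 : allRange (fun p => checkPoint cert p && checkOrb cert p) 105300 100 = true := by decide +kernel
theorem chkP_108500 : allRange (fun p => checkPoint cert p && checkOrb cert p) 108500 100 = true := by decide +kernel
theorem chkP_111700 : allRange (fun p => checkPoint cert p && checkOrb cert p) 111700 100 = true := by decide +kernel
theorem chkP_114900 : allRange (fun p => checkPoint cert p && checkOrb cert p) 114900 100 = true := by decide +kernel
theorem chkP_118100 : allRange (fun p => checkPoint cert p && checkOrb cert p) 118100 100 = true := by decide +kernel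
theorem chkP_121300 : allRange (fun p => checkPoint cert p && checkOrb cert p) 121300 100 = true := by decide +kernel

end Cfsg.Agent.Lib.Helper28.ONData
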