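import Cfsg.Agent.Lib.Helper28.ONData
import Cfsg.Agent.Lib.Helper28.TCSound

set_option autoImplicit false
set_option maxRecDepth 1000000
set_option linter.all false
set_option Elab.async false

namespace Cfsg.Agent.Lib.Helper28.ONData

open Cfsg.Agent.Lib.Helper28

theorem chkF_54000 : allRange (checkFact cert) 54000 2000 = true := by decide +kernel
theorem chkF_118000 : allRange (checkFact cert) 118000 2000 = true := by decide +kernel
theorem chkF_182000 : allRange (checkFact cert) 182000 2000 = true := by decide +kernel
theorem chkF_246000 : allRange (checkFact cert) 246000 2000 = true := by decide +kernel
theorem chkF_310000 : allRange (checkFact cert) 310000 2000 = true := by decide +kernel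
theorem chkF_374000 : allRange (checkFact cert) 374000 2000 = true := by decide +kernel
theorem chkF_438000 : allRange (checkFact cert) 438000 2000 = true := by decide +kernel
theorem chkF_502000 : allRange (checkFact cert) 502000 2000 = true := by decide +kernel
theorem chkF_566000 : allRange (checkFact cert) 566000 2000 = true := by decide +kernel
theorem chkF_630000 : allRange (checkFact cert) 630000 2000 = true := by decide +kernel
theorem chkF_694000 : allRange (checkFact cert) 694000 2000 = true := by decide +kernel
theorem chkF_758000 : allRange (checkFact cert) 758000 2000 = true := by decide +kernel
theorem chkF_822000 : allRange (checkFact cert) 822000 2000 = true := by decide +kernel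
theorem chkF_886000 : allRange (checkFact cert) 886000 2000 = true := by decide +kernel
theorem chkF_950000 : allRange (checkFact cert) 950000 2000 = true := by decide +kernel
theorem chkF_1014000 : allRange (checkFact cert) 1014000 2000 = true := by decide +kernel
theorem chkF_1078000 : allRange (checkFact cert) 1078000 2000 = true := by decide +kernel
theorem chkF_1142000 : allRange (checkFact cert) 1142000 2000 = true := by decide +kernel
theorem chkF_1206000 : allRange (checkFact cert) 1206000 2000 = true := by decide +kernel
theorem chkP_3000 : allRange (fun p => checkPoint cert p && checkOrb cert p) 3000 100 = true := by decide +kernel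
theorem chkP_6200 : allRange (fun p => checkPoint cert p && checkOrb cert p) 6200 100 = true := by decide +kernel
theorem chkP_9400 : allRange (fun p => checkPoint cert p && checkOrb cert p) 9400 100 = true := by decide +kernel
theorem chkP_12600 : allRange (fun p => checkPoint cert p && checkOrb cert p) 12600 100 = true := by decide +kernel
theorem chkP_15800 : allRange (fun p => checkPoint cert p && checkOrb cert p) 15800 100 = true := by decide +kernel
theorem chkP_19000 : allRange (fun p => checkPoint cert p && checkOrb cert p) 19000 100 = true := by decide +kernel
theorem chkP_22200 : allRange (fun p => checkPoint cert p && checkOrb cert p) 22200 100 = true := by decide +kernel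
theorem chkP_25400 : allRange (fun p => checkPoint cert p && checkOrb cert p) 25400 100 = true := by decide +kernel
theorem chkP_28600 : allRange (fun p => checkPoint cert p && checkOrb cert p) 28600 100 = true := by decide +kernel
theorem chkP_31800 : allRange (fun p => checkPoint cert p && checkOrb cert p) 31800 100 = true := by decide +kernel
theorem chkP_35000 : allRange (fun p => checkPoint cert p && checkOrb cert p) 35000 100 = true := by decide +kernel
theorem chkP_38200 : allRange (fun p => checkPoint cert p && checkOrb cert p) 38200 100 = true := by decide +kernel
theorem chkP_41400 : allRange (fun p => checkPoint cert p && checkOrb cert p) 41400 100 = true := by decide +kernel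
theorem chkP_44600 : allRange (fun p => checkPoint cert p && checkOrb cert p) 44600 100 = true := by decide +kernel
theorem chkP_47800 : allRange (fun p => checkPoint cert p && checkOrb cert p) 47800 100 = true := by decide +kernel
theorem chkP_51000 : allRange (fun p => checkPoint cert p && checkOrb cert p) 51000 100 = true := by decide +kernel
theorem chkP_54200 : allRange (fun p => checkPoint cert p && checkOrb cert p) 54200 100 = true := by decide +kernel
theorem chkP_57400 : allRange (fun p => checkPoint cert p && checkOrb cert p) 57400 100 = true := by decide +kernel
theorem chkP_60600 : allRange (fun p => checkPoint cert p && checkOrb cert p) 60600 100 = true := by decide +kernel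
theorem chkP_63800 : allRange (fun p => checkPoint cert p && checkOrb cert p) 63800 100 = true := by decide +kernel
theorem chkP_67000 : allRange (fun p => checkPoint cert p && checkOrb cert p) 67000 100 = true := by decide +kernel
theorem chkP_70200 : allRange (fun p => checkPoint cert p && checkOrb cert p) 70200 100 = true := by decide +kernel
theorem chkP_73400 : allRange (fun p => checkPoint cert p && checkOrb cert p) 73400 100 = true := by decide +kernel
theorem chkP_76600 : allRange (fun p => checkPoint cert p && checkOrb cert p) 76600 100 = true := by decide +kernel
theorem chkP_79800 : allRange (fun p => checkPoint cert p && checkOrb cert p) 79800 100 = true := by decide +kernel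
theorem chkP_83000 : allRange (fun p => checkPoint cert p && checkOrb cert p) 83000 100 = true := by decide +kernel
theorem chkP_86200 : allRange (fun p => checkPoint cert p && checkOrb cert p) 86200 100 = true := by decide +kernel
theorem chkP_89400 : allRange (fun p => checkPoint cert p && checkOrb cert p) 89400 100 = true := by decide +kernel
theorem chkP_92600 : allRange (fun p => checkPoint cert p && checkOrb cert p) 92600 100 = true := by decide +kernel
theorem chkP_95800 : allRange (fun p => checkPoint cert p && checkOrb cert p) 95800 100 = true := by decide +kernel
theorem chkP_99000 : allRange (fun p => checkPoint cert p && checkOrb cert p) 99000 100 = true := by decide +kernel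
theorem chkP_102200 : allRange (fun p => checkPoint cert p && checkOrb cert p) 102200 100 = true := by decide +kernel
theorem chkP_105400 : allRange (fun p => checkPoint cert p && checkOrb cert p) 105400 100 = true := by decide +kernel
theorem chkP_108600 : allRange (fun p => checkPoint cert p && checkOrb cert p) 108600 100 = true := by decide +kernel
theorem chkP_111800 : allRange (fun p => checkPoint cert p && checkOrb cert p) 111800 100 = true := by decide +kernel
theorem chkP_115000 : allRange (fun p => checkPoint cert p && checkOrb cert p) 115000 100 = true := by decide +kernel
theorem chkP_118200 : allRange (fun p => checkPoint cert p && checkOrb cert p) 118200 100 = true := by decide +kernel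
theorem chkP_121400 : allRange (fun p => checkPoint cert p && checkOrb cert p) 121400 100 = true := by decide +kernel

end Cfsg.Agent.Lib.Helper28.ONData
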