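import Cfsg.Agent.Lib.Helper28.ONData
import Cfsg.Agent.Lib.Helper28.TCSound

set_option autoImplicit false
set_option maxRecDepth 1000000
set_option linter.all false
set_option Elab.async false

namespace Cfsg.Agent.Lib.Helper28.ONData

open Cfsg.Agent.Lib.Helper28

theorem chkF_56000 : allRange (checkFact cert) 56000 2000 = true := by decide +kernel
theorem chkF_120000 : allRange (checkFact cert) 120000 2000 = true := by decide +kernel
theorem chkF_184000 : allRange (checkFact cert) 184000 2000 = true := by decide +kernel
theorem chkF_248000 : allRange (checkFact cert) 248000 2000 = true := by decide +kernel
theorem chkF_312000 : allRange (checkFact cert) 312000 2000 = true := by decide +kernel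
theorem chkF_376000 : allRange (checkFact cert) 376000 2000 = true := by decide +kernel
theorem chkF_440000 : allRange (checkFact cert) 440000 2000 = true := by decide +kernel
theorem chkF_504000 : allRange (checkFact cert) 504000 2000 = true := by decide +kernel
theorem chkF_568000 : allRange (checkFact cert) 568000 2000 = true := by decide +kernel
theorem chkF_632000 : allRange (checkFact cert) 632000 2000 = true := by decide +kernel
theorem chkF_696000 : allRange (checkFact cert) 696000 2000 = true := by decide +kernel
theorem chkF_760000 : allRange (checkFact cert) 760000 2000 = true := by decide +kernel
theorem chkF_824000 : allRange (checkFact cert) 824000 2000 = true := by decide +kernel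
theorem chkF_888000 : allRange (checkFact cert) 888000 2000 = true := by decide +kernel
theorem chkF_952000 : allRange (checkFact cert) 952000 2000 = true := by decide +kernel
theorem chkF_1016000 : allRange (checkFact cert) 1016000 2000 = true := by decide +kernel
theorem chkF_1080000 : allRange (checkFact cert) 1080000 2000 = true := by decide +kernel
theorem chkF_1144000 : allRange (checkFact cert) 1144000 2000 = true := by decide +kernel
theorem chkF_1208000 : allRange (checkFact cert) 1208000 137 = true := by decide +kernel
theorem chkP_3100 : allRange (fun p => checkPoint cert p && checkOrb cert p) 3100 100 = true := by decide +kernel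
theorem chkP_6300 : allRange (fun p => checkPoint cert p && checkOrb cert p) 6300 100 = true := by decide +kernel
theorem chkP_9500 : allRange (fun p => checkPoint cert p && checkOrb cert p) 9500 100 = true := by decide +kernel
theorem chkP_12700 : allRange (fun p => checkPoint cert p && checkOrb cert p) 12700 100 = true := by decide +kernel
theorem chkP_15900 : allRange (fun p => checkPoint cert p && checkOrb cert p) 15900 100 = true := by decide +kernel
theorem chkP_19100 : allRange (fun p => checkPoint cert p && checkOrb cert p) 19100 100 = true := by decide +kernel
theorem chkP_22300 : allRange (fun p => checkPoint cert p && checkOrb cert p) 22300 100 = true := by decide +kernel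
theorem chkP_25500 : allRange (fun p => checkPoint cert p && checkOrb cert p) 25500 100 = true := by decide +kernel
theorem chkP_28700 : allRange (fun p => checkPoint cert p && checkOrb cert p) 28700 100 = true := by decide +kernel
theorem chkP_31900 : allRange (fun p => checkPoint cert p && checkOrb cert p) 31900 100 = true := by decide +kernel
theorem chkP_35100 : allRange (fun p => checkPoint cert p && checkOrb cert p) 35100 100 = true := by decide +kernel
theorem chkP_38300 : allRange (fun p => checkPoint cert p && checkOrb cert p) 38300 100 = true := by decide +kernel
theorem chkP_41500 : allRange (fun p => checkPoint cert p && checkOrb cert p) 41500 100 = true := by decide +kernel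
theorem chkP_44700 : allRange (fun p => checkPoint cert p && checkOrb cert p) 44700 100 = true := by decide +kernel
theorem chkP_47900 : allRange (fun p => checkPoint cert p && checkOrb cert p) 47900 100 = true := by decide +kernel
theorem chkP_51100 : allRange (fun p => checkPoint cert p && checkOrb cert p) 51100 100 = true := by decide +kernel
theorem chkP_54300 : allRange (fun p => checkPoint cert p && checkOrb cert p) 54300 100 = true := by decide +kernel
theorem chkP_57500 : allRange (fun p => checkPoint cert p && checkOrb cert p) 57500 100 = true := by decide +kernel
theorem chkP_60700 : allRange (fun p => checkPoint cert p && checkOrb cert p) 60700 100 = true := by decide +kernel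
theorem chkP_63900 : allRange (fun p => checkPoint cert p && checkOrb cert p) 63900 100 = true := by decide +kernel
theorem chkP_67100 : allRange (fun p => checkPoint cert p && checkOrb cert p) 67100 100 = true := by decide +kernel
theorem chkP_70300 : allRange (fun p => checkPoint cert p && checkOrb cert p) 70300 100 = true := by decide +kernel
theorem chkP_73500 : allRange (fun p => checkPoint cert p && checkOrb cert p) 73500 100 = true := by decide +kernel
theorem chkP_76700 : allRange (fun p => checkPoint cert p && checkOrb cert p) 76700 100 = true := by decide +kernel
theorem chkP_79900 : allRange (fun p => checkPoint cert p && checkOrb cert p) 79900 100 = true := by decide +kernel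
theorem chkP_83100 : allRange (fun p => checkPoint cert p && checkOrb cert p) 83100 100 = true := by decide +kernel
theorem chkP_86300 : allRange (fun p => checkPoint cert p && checkOrb cert p) 86300 100 = true := by decide +kernel
theorem chkP_89500 : allRange (fun p => checkPoint cert p && checkOrb cert p) 89500 100 = true := by decide +kernel
theorem chkP_92700 : allRange (fun p => checkPoint cert p && checkOrb cert p) 92700 100 = true := by decide +kernel
theorem chkP_95900 : allRange (fun p => checkPoint cert p && checkOrb cert p) 95900 100 = true := by decide +kernel
theorem chkP_99100 : allRange (fun p => checkPoint cert p && checkOrb cert p) 99100 100 = true := by decide +kernel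
theorem chkP_102300 : allRange (fun p => checkPoint cert p && checkOrb cert p) 102300 100 = true := by decide +kernel
theorem chkP_105500 : allRange (fun p => checkPoint cert p && checkOrb cert p) 105500 100 = true := by decide +kernel
theorem chkP_108700 : allRange (fun p => checkPoint cert p && checkOrb cert p) 108700 100 = true := by decide +kernel
theorem chkP_111900 : allRange (fun p => checkPoint cert p && checkOrb cert p) 111900 100 = true := by decide +kernel
theorem chkP_115100 : allRange (fun p => checkPoint cert p && checkOrb cert p) 115100 100 = true := by decide +kernel
theorem chkP_118300 : allRange (fun p => checkPoint cert p && checkOrb cert p) 118300 100 = true := by decide +kernel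
theorem chkP_121500 : allRange (fun p => checkPoint cert p && checkOrb cert p) 121500 100 = true := by decide +kernel

end Cfsg.Agent.Lib.Helper28.ONData
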