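import Cfsg.Agent.Lib.Helper28.ONData
import Cfsg.Agent.Lib.Helper28.TCSound

set_option autoImplicit false
set_option maxRecDepth 1000000
set_option linter.all false
set_option Elab.async false

namespace Cfsg.Agent.Lib.Helper28.ONData

open Cfsg.Agent.Lib.Helper28

theorem chkF_58000 : allRange (checkFact cert) 58000 2000 = true := by decide +kernel
theorem chkF_122000 : allRange (checkFact cert) 122000 2000 = true := by decide +kernel
theorem chkF_186000 : allRange (checkFact cert) 186000 2000 = true := by decide +kernel
theorem chkF_250000 : allRange (checkFact cert) 250000 2000 = true := by decide +kernel
theorem chkF_314000 : allRange (checkFact cert) 314000 2000 = true := by decide +kernel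
theorem chkF_378000 : allRange (checkFact cert) 378000 2000 = true := by decide +kernel
theorem chkF_442000 : allRange (checkFact cert) 442000 2000 = true := by decide +kernel
theorem chkF_506000 : allRange (checkFact cert) 506000 2000 = true := by decide +kernel
theorem chkF_570000 : allRange (checkFact cert) 570000 2000 = true := by decide +kernel
theorem chkF_634000 : allRange (checkFact cert) 634000 2000 = true := by decide +kernel
theorem chkF_698000 : allRange (checkFact cert) 698000 2000 = true := by decide +kernel
theorem chkF_762000 : allRange (checkFact cert) 762000 2000 = true := by decide +kernel
theorem chkF_826000 : allRange (checkFact cert) 826000 2000 = true := by decide +kernel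
theorem chkF_890000 : allRange (checkFact cert) 890000 2000 = true := by decide +kernel
theorem chkF_954000 : allRange (checkFact cert) 954000 2000 = true := by decide +kernel
theorem chkF_1018000 : allRange (checkFact cert) 1018000 2000 = true := by decide +kernel
theorem chkF_1082000 : allRange (checkFact cert) 1082000 2000 = true := by decide +kernel
theorem chkF_1146000 : allRange (checkFact cert) 1146000 2000 = true := by decide +kernel
theorem chkP_0 : allRange (fun p => checkPoint cert p && checkOrb cert p) 0 100 = true := by decide +kernel
theorem chkP_3200 : allRange (fun p => checkPoint cert p && checkOrb cert p) 3200 100 = true := by decide +kernel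
theorem chkP_6400 : allRange (fun p => checkPoint cert p && checkOrb cert p) 6400 100 = true := by decide +kernel
theorem chkP_9600 : allRange (fun p => checkPoint cert p && checkOrb cert p) 9600 100 = true := by decide +kernel
theorem chkP_12800 : allRange (fun p => checkPoint cert p && checkOrb cert p) 12800 100 = true := by decide +kernel
theorem chkP_16000 : allRange (fun p => checkPoint cert p && checkOrb cert p) 16000 100 = true := by decide +kernel
theorem chkP_19200 : allRange (fun p => checkPoint cert p && checkOrb cert p) 19200 100 = true := by decide +kernel
theorem chkP_22400 : allRange (fun p => checkPoint cert p && checkOrb cert p) 22400 100 = true := by decide +kernel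
theorem chkP_25600 : allRange (fun p => checkPoint cert p && checkOrb cert p) 25600 100 = true := by decide +kernel
theorem chkP_28800 : allRange (fun p => checkPoint cert p && checkOrb cert p) 28800 100 = true := by decide +kernel
theorem chkP_32000 : allRange (fun p => checkPoint cert p && checkOrb cert p) 32000 100 = true := by decide +kernel
theorem chkP_35200 : allRange (fun p => checkPoint cert p && checkOrb cert p) 35200 100 = true := by decide +kernel
theorem chkP_38400 : allRange (fun p => checkPoint cert p && checkOrb cert p) 38400 100 = true := by decide +kernel
theorem chkP_41600 : allRange (fun p => checkPoint cert p && checkOrb cert p) 41600 100 = true := by decide +kernel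
theorem chkP_44800 : allRange (fun p => checkPoint cert p && checkOrb cert p) 44800 100 = true := by decide +kernel
theorem chkP_48000 : allRange (fun p => checkPoint cert p && checkOrb cert p) 48000 100 = true := by decide +kernel
theorem chkP_51200 : allRange (fun p => checkPoint cert p && checkOrb cert p) 51200 100 = true := by decide +kernel
theorem chkP_54400 : allRange (fun p => checkPoint cert p && checkOrb cert p) 54400 100 = true := by decide +kernel
theorem chkP_57600 : allRange (fun p => checkPoint cert p && checkOrb cert p) 57600 100 = true := by decide +kernel
theorem chkP_60800 : allRange (fun p => checkPoint cert p && checkOrb cert p) 60800 100 = true := by decide +kernel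
theorem chkP_64000 : allRange (fun p => checkPoint cert p && checkOrb cert p) 64000 100 = true := by decide +kernel
theorem chkP_67200 : allRange (fun p => checkPoint cert p && checkOrb cert p) 67200 100 = true := by decide +kernel
theorem chkP_70400 : allRange (fun p => checkPoint cert p && checkOrb cert p) 70400 100 = true := by decide +kernel
theorem chkP_73600 : allRange (fun p => checkPoint cert p && checkOrb cert p) 73600 100 = true := by decide +kernel
theorem chkP_76800 : allRange (fun p => checkPoint cert p && checkOrb cert p) 76800 100 = true := by decide +kernel
theorem chkP_80000 : allRange (fun p => checkPoint cert p && checkOrb cert p) 80000 100 = true := by decide +kernel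
theorem chkP_83200 : allRange (fun p => checkPoint cert p && checkOrb cert p) 83200 100 = true := by decide +kernel
theorem chkP_86400 : allRange (fun p => checkPoint cert p && checkOrb cert p) 86400 100 = true := by decide +kernel
theorem chkP_89600 : allRange (fun p => checkPoint cert p && checkOrb cert p) 89600 100 = true := by decide +kernel
theorem chkP_92800 : allRange (fun p => checkPoint cert p && checkOrb cert p) 92800 100 = true := by decide +kernel
theorem chkP_96000 : allRange (fun p => checkPoint cert p && checkOrb cert p) 96000 100 = true := by decide +kernel
theorem chkP_99200 : allRange (fun p => checkPoint cert p && checkOrb cert p) 99200 100 = true := by decide +kernel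
theorem chkP_102400 : allRange (fun p => checkPoint cert p && checkOrb cert p) 102400 100 = true := by decide +kernel
theorem chkP_105600 : allRange (fun p => checkPoint cert p && checkOrb cert p) 105600 100 = true := by decide +kernel
theorem chkP_108800 : allRange (fun p => checkPoint cert p && checkOrb cert p) 108800 100 = true := by decide +kernel
theorem chkP_112000 : allRange (fun p => checkPoint cert p && checkOrb cert p) 112000 100 = true := by decide +kernel
theorem chkP_115200 : allRange (fun p => checkPoint cert p && checkOrb cert p) 115200 100 = true := by decide +kernel
theorem chkP_118400 : allRange (fun p => checkPoint cert p && checkOrb cert p) 118400 100 = true := by decide +kernel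
theorem chkP_121600 : allRange (fun p => checkPoint cert p && checkOrb cert p) 121600 100 = true := by decide +kernel

end Cfsg.Agent.Lib.Helper28.ONData
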