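import Cfsg.Agent.Lib.Helper28.ONData
import Cfsg.Agent.Lib.Helper28.TCSound

set_option autoImplicit false
set_option maxRecDepth 1000000
set_option linter.all false
set_option Elab.async false

namespace Cfsg.Agent.Lib.Helper28.ONData

open Cfsg.Agent.Lib.Helper28

theorem chkF_6000 : allRange (checkFact cert) 6000 2000 = true := by decide +kernel
theorem chkF_70000 : allRange (checkFact cert) 70000 2000 = true := by decide +kernel
theorem chkF_134000 : allRange (checkFact cert) 134000 2000 = true := by decide +kernel
theorem chkF_198000 : allRange (checkFact cert) 198000 2000 = true := by decide +kernel
theorem chkF_262000 : allRange (checkFact cert) 262000 2000 = true := by decide +kernel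
theorem chkF_326000 : allRange (checkFact cert) 326000 2000 = true := by decide +kernel
theorem chkF_390000 : allRange (checkFact cert) 390000 2000 = true := by decide +kernel
theorem chkF_454000 : allRange (checkFact cert) 454000 2000 = true := by decide +kernel
theorem chkF_518000 : allRange (checkFact cert) 518000 2000 = true := by decide +kernel
theorem chkF_582000 : allRange (checkFact cert) 582000 2000 = true := by decide +kernel
theorem chkF_646000 : allRange (checkFact cert) 646000 2000 = true := by decide +kernel
theorem chkF_710000 : allRange (checkFact cert) 710000 2000 = true := by decide +kernel
theorem chkF_774000 : allRange (checkFact cert) 774000 2000 = true := by decide +kernel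
theorem chkF_838000 : allRange (checkFact cert) 838000 2000 = true := by decide +kernel
theorem chkF_902000 : allRange (checkFact cert) 902000 2000 = true := by decide +kernel
theorem chkF_966000 : allRange (checkFact cert) 966000 2000 = true := by decide +kernel
theorem chkF_1030000 : allRange (checkFact cert) 1030000 2000 = true := by decide +kernel
theorem chkF_1094000 : allRange (checkFact cert) 1094000 2000 = true := by decide +kernel
theorem chkF_1158000 : allRange (checkFact cert) 1158000 2000 = true := by decide +kernel
theorem chkP_600 : allRange (fun p => checkPoint cert p && checkOrb cert p) 600 100 = true := by decide +kernel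
theorem chkP_3800 : allRange (fun p => checkPoint cert p && checkOrb cert p) 3800 100 = true := by decide +kernel
theorem chkP_7000 : allRange (fun p => checkPoint cert p && checkOrb cert p) 7000 100 = true := by decide +kernel
theorem chkP_10200 : allRange (fun p => checkPoint cert p && checkOrb cert p) 10200 100 = true := by decide +kernel
theorem chkP_13400 : allRange (fun p => checkPoint cert p && checkOrb cert p) 13400 100 = true := by decide +kernel
theorem chkP_16600 : allRange (fun p => checkPoint cert p && checkOrb cert p) 16600 100 = true := by decide +kernel
theorem chkP_19800 : allRange (fun p => checkPoint cert p && checkOrb cert p) 19800 100 = true := by decide +kernel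
theorem chkP_23000 : allRange (fun p => checkPoint cert p && checkOrb cert p) 23000 100 = true := by decide +kernel
theorem chkP_26200 : allRange (fun p => checkPoint cert p && checkOrb cert p) 26200 100 = true := by decide +kernel
theorem chkP_29400 : allRange (fun p => checkPoint cert p && checkOrb cert p) 29400 100 = true := by decide +kernel
theorem chkP_32600 : allRange (fun p => checkPoint cert p && checkOrb cert p) 32600 100 = true := by decide +kernel
theorem chkP_35800 : allRange (fun p => checkPoint cert p && checkOrb cert p) 35800 100 = true := by decide +kernel
theorem chkP_39000 : allRange (fun p => checkPoint cert p && checkOrb cert p) 39000 100 = true := by decide +kernel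
theorem chkP_42200 : allRange (fun p => checkPoint cert p && checkOrb cert p) 42200 100 = true := by decide +kernel
theorem chkP_45400 : allRange (fun p => checkPoint cert p && checkOrb cert p) 45400 100 = true := by decide +kernel
theorem chkP_48600 : allRange (fun p => checkPoint cert p && checkOrb cert p) 48600 100 = true := by decide +kernel
theorem chkP_51800 : allRange (fun p => checkPoint cert p && checkOrb cert p) 51800 100 = true := by decide +kernel
theorem chkP_55000 : allRange (fun p => checkPoint cert p && checkOrb cert p) 55000 100 = true := by decide +kernel
theorem chkP_58200 : allRange (fun p => checkPoint cert p && checkOrb cert p) 58200 100 = true := by decide +kernel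
theorem chkP_61400 : allRange (fun p => checkPoint cert p && checkOrb cert p) 61400 100 = true := by decide +kernel
theorem chkP_64600 : allRange (fun p => checkPoint cert p && checkOrb cert p) 64600 100 = true := by decide +kernel
theorem chkP_67800 : allRange (fun p => checkPoint cert p && checkOrb cert p) 67800 100 = true := by decide +kernel
theorem chkP_71000 : allRange (fun p => checkPoint cert p && checkOrb cert p) 71000 100 = true := by decide +kernel
theorem chkP_74200 : allRange (fun p => checkPoint cert p && checkOrb cert p) 74200 100 = true := by decide +kernel
theorem chkP_77400 : allRange (fun p => checkPoint cert p && checkOrb cert p) 77400 100 = true := by decide +kernel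
theorem chkP_80600 : allRange (fun p => checkPoint cert p && checkOrb cert p) 80600 100 = true := by decide +kernel
theorem chkP_83800 : allRange (fun p => checkPoint cert p && checkOrb cert p) 83800 100 = true := by decide +kernel
theorem chkP_87000 : allRange (fun p => checkPoint cert p && checkOrb cert p) 87000 100 = true := by decide +kernel
theorem chkP_90200 : allRange (fun p => checkPoint cert p && checkOrb cert p) 90200 100 = true := by decide +kernel
theorem chkP_93400 : allRange (fun p => checkPoint cert p && checkOrb cert p) 93400 100 = true := by decide +kernel
theorem chkP_96600 : allRange (fun p => checkPoint cert p && checkOrb cert p) 96600 100 = true := by decide +kernel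
theorem chkP_99800 : allRange (fun p => checkPoint cert p && checkOrb cert p) 99800 100 = true := by decide +kernel
theorem chkP_103000 : allRange (fun p => checkPoint cert p && checkOrb cert p) 103000 100 = true := by decide +kernel
theorem chkP_106200 : allRange (fun p => checkPoint cert p && checkOrb cert p) 106200 100 = true := by decide +kernel
theorem chkP_109400 : allRange (fun p => checkPoint cert p && checkOrb cert p) 109400 100 = true := by decide +kernel
theorem chkP_112600 : allRange (fun p => checkPoint cert p && checkOrb cert p) 112600 100 = true := by decide +kernel
theorem chkP_115800 : allRange (fun p => checkPoint cert p && checkOrb cert p) 115800 100 = true := by decide +kernel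
theorem chkP_119000 : allRange (fun p => checkPoint cert p && checkOrb cert p) 119000 100 = true := by decide +kernel
theorem chkP_122200 : allRange (fun p => checkPoint cert p && checkOrb cert p) 122200 100 = true := by decide +kernel

end Cfsg.Agent.Lib.Helper28.ONData
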