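import Cfsg.Agent.Lib.Helper28.ONData
import Cfsg.Agent.Lib.Helper28.TCSound

set_option autoImplicit false
set_option maxRecDepth 1000000
set_option linter.all false
set_option Elab.async false

namespace Cfsg.Agent.Lib.Helper28.ONData

open Cfsg.Agent.Lib.Helper28

theorem chkF_60000 : allRange (checkFact cert) 60000 2000 = true := by decide +kernel
theorem chkF_124000 : allRange (checkFact cert) 124000 2000 = true := by decide +kernel
theorem chkF_188000 : allRange (checkFact cert) 188000 2000 = true := by decide +kernel
theorem chkF_252000 : allRange (checkFact cert) 252000 2000 = true := by decide +kernel
theorem chkF_316000 : allRange (checkFact cert) 316000 2000 = true := by decide +kernel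
theorem chkF_380000 : allRange (checkFact cert) 380000 2000 = true := by decide +kernel
theorem chkF_444000 : allRange (checkFact cert) 444000 2000 = true := by decide +kernel
theorem chkF_508000 : allRange (checkFact cert) 508000 2000 = true := by decide +kernel
theorem chkF_572000 : allRange (checkFact cert) 572000 2000 = true := by decide +kernel
theorem chkF_636000 : allRange (checkFact cert) 636000 2000 = true := by decide +kernel
theorem chkF_700000 : allRange (checkFact cert) 700000 2000 = true := by decide +kernel
theorem chkF_764000 : allRange (checkFact cert) 764000 2000 = true := by decide +kernel
theorem chkF_828000 : allRange (checkFact cert) 828000 2000 = true := by decide +kernel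
theorem chkF_892000 : allRange (checkFact cert) 892000 2000 = true := by decide +kernel
theorem chkF_956000 : allRange (checkFact cert) 956000 2000 = true := by decide +kernel
theorem chkF_1020000 : allRange (checkFact cert) 1020000 2000 = true := by decide +kernel
theorem chkF_1084000 : allRange (checkFact cert) 1084000 2000 = true := by decide +kernel
theorem chkF_1148000 : allRange (checkFact cert) 1148000 2000 = true := by decide +kernel
theorem chkP_100 : allRange (fun p => checkPoint cert p && checkOrb cert p) 100 100 = true := by decide +kernel
theorem chkP_3300 : allRange (fun p => checkPoint cert p && checkOrb cert p) 3300 100 = true := by decide +kernel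
theorem chkP_6500 : allRange (fun p => checkPoint cert p && checkOrb cert p) 6500 100 = true := by decide +kernel
theorem chkP_9700 : allRange (fun p => checkPoint cert p && checkOrb cert p) 9700 100 = true := by decide +kernel
theorem chkP_12900 : allRange (fun p => checkPoint cert p && checkOrb cert p) 12900 100 = true := by decide +kernel
theorem chkP_16100 : allRange (fun p => checkPoint cert p && checkOrb cert p) 16100 100 = true := by decide +kernel
theorem chkP_19300 : allRange (fun p => checkPoint cert p && checkOrb cert p) 19300 100 = true := by decide +kernel
theorem chkP_22500 : allRange (fun p => checkPoint cert p && checkOrb cert p) 22500 100 = true := by decide +kernel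
theorem chkP_25700 : allRange (fun p => checkPoint cert p && checkOrb cert p) 25700 100 = true := by decide +kernel
theorem chkP_28900 : allRange (fun p => checkPoint cert p && checkOrb cert p) 28900 100 = true := by decide +kernel
theorem chkP_32100 : allRange (fun p => checkPoint cert p && checkOrb cert p) 32100 100 = true := by decide +kernel
theorem chkP_35300 : allRange (fun p => checkPoint cert p && checkOrb cert p) 35300 100 = true := by decide +kernel
theorem chkP_38500 : allRange (fun p => checkPoint cert p && checkOrb cert p) 38500 100 = true := by decide +kernel
theorem chkP_41700 : allRange (fun p => checkPoint cert p && checkOrb cert p) 41700 100 = true := by decide +kernel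
theorem chkP_44900 : allRange (fun p => checkPoint cert p && checkOrb cert p) 44900 100 = true := by decide +kernel
theorem chkP_48100 : allRange (fun p => checkPoint cert p && checkOrb cert p) 48100 100 = true := by decide +kernel
theorem chkP_51300 : allRange (fun p => checkPoint cert p && checkOrb cert p) 51300 100 = true := by decide +kernel
theorem chkP_54500 : allRange (fun p => checkPoint cert p && checkOrb cert p) 54500 100 = true := by decide +kernel
theorem chkP_57700 : allRange (fun p => checkPoint cert p && checkOrb cert p) 57700 100 = true := by decide +kernel
theorem chkP_60900 : allRange (fun p => checkPoint cert p && checkOrb cert p) 60900 100 = true := by decide +kernel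
theorem chkP_64100 : allRange (fun p => checkPoint cert p && checkOrb cert p) 64100 100 = true := by decide +kernel
theorem chkP_67300 : allRange (fun p => checkPoint cert p && checkOrb cert p) 67300 100 = true := by decide +kernel
theorem chkP_70500 : allRange (fun p => checkPoint cert p && checkOrb cert p) 70500 100 = true := by decide +kernel
theorem chkP_73700 : allRange (fun p => checkPoint cert p && checkOrb cert p) 73700 100 = true := by decide +kernel
theorem chkP_76900 : allRange (fun p => checkPoint cert p && checkOrb cert p) 76900 100 = true := by decide +kernel
theorem chkP_80100 : allRange (fun p => checkPoint cert p && checkOrb cert p) 80100 100 = true := by decide +kernel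
theorem chkP_83300 : allRange (fun p => checkPoint cert p && checkOrb cert p) 83300 100 = true := by decide +kernel
theorem chkP_86500 : allRange (fun p => checkPoint cert p && checkOrb cert p) 86500 100 = true := by decide +kernel
theorem chkP_89700 : allRange (fun p => checkPoint cert p && checkOrb cert p) 89700 100 = true := by decide +kernel
theorem chkP_92900 : allRange (fun p => checkPoint cert p && checkOrb cert p) 92900 100 = true := by decide +kernel
theorem chkP_96100 : allRange (fun p => checkPoint cert p && checkOrb cert p) 96100 100 = true := by decide +kernel
theorem chkP_99300 : allRange (fun p => checkPoint cert p && checkOrb cert p) 99300 100 = true := by decide +kernel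
theorem chkP_102500 : allRange (fun p => checkPoint cert p && checkOrb cert p) 102500 100 = true := by decide +kernel
theorem chkP_105700 : allRange (fun p => checkPoint cert p && checkOrb cert p) 105700 100 = true := by decide +kernel
theorem chkP_108900 : allRange (fun p => checkPoint cert p && checkOrb cert p) 108900 100 = true := by decide +kernel
theorem chkP_112100 : allRange (fun p => checkPoint cert p && checkOrb cert p) 112100 100 = true := by decide +kernel
theorem chkP_115300 : allRange (fun p => checkPoint cert p && checkOrb cert p) 115300 100 = true := by decide +kernel
theorem chkP_118500 : allRange (fun p => checkPoint cert p && checkOrb cert p) 118500 100 = true := by decide +kernel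
theorem chkP_121700 : allRange (fun p => checkPoint cert p && checkOrb cert p) 121700 100 = true := by decide +kernel

end Cfsg.Agent.Lib.Helper28.ONData
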