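import Cfsg.Agent.Lib.Helper28.ONData
import Cfsg.Agent.Lib.Helper28.TCSound

set_option autoImplicit false
set_option maxRecDepth 1000000
set_option linter.all false
set_option Elab.async false

namespace Cfsg.Agent.Lib.Helper28.ONData

open Cfsg.Agent.Lib.Helper28

theorem chkF_62000 : allRange (checkFact cert) 62000 2000 = true := by decide +kernel
theorem chkF_126000 : allRange (checkFact cert) 126000 2000 = true := by decide +kernel
theorem chkF_190000 : allRange (checkFact cert) 190000 2000 = true := by decide +kernel
theorem chkF_254000 : allRange (checkFact cert) 254000 2000 = true := by decide +kernel
theorem chkF_318000 : allRange (checkFact cert) 318000 2000 = true := by decide +kernel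
theorem chkF_382000 : allRange (checkFact cert) 382000 2000 = true := by decide +kernel
theorem chkF_446000 : allRange (checkFact cert) 446000 2000 = true := by decide +kernel
theorem chkF_510000 : allRange (checkFact cert) 510000 2000 = true := by decide +kernel
theorem chkF_574000 : allRange (checkFact cert) 574000 2000 = true := by decide +kernel
theorem chkF_638000 : allRange (checkFact cert) 638000 2000 = true := by decide +kernel
theorem chkF_702000 : allRange (checkFact cert) 702000 2000 = true := by decide +kernel
theorem chkF_766000 : allRange (checkFact cert) 766000 2000 = true := by decide +kernel
theorem chkF_830000 : allRange (checkFact cert) 830000 2000 = true := by decide +kernel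
theorem chkF_894000 : allRange (checkFact cert) 894000 2000 = true := by decide +kernel
theorem chkF_958000 : allRange (checkFact cert) 958000 2000 = true := by decide +kernel
theorem chkF_1022000 : allRange (checkFact cert) 1022000 2000 = true := by decide +kernel
theorem chkF_1086000 : allRange (checkFact cert) 1086000 2000 = true := by decide +kernel
theorem chkF_1150000 : allRange (checkFact cert) 1150000 2000 = true := by decide +kernel
theorem chkP_200 : allRange (fun p => checkPoint cert p && checkOrb cert p) 200 100 = true := by decide +kernel
theorem chkP_3400 : allRange (fun p => checkPoint cert p && checkOrb cert p) 3400 100 = true := by decide +kernel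
theorem chkP_6600 : allRange (fun p => checkPoint cert p && checkOrb cert p) 6600 100 = true := by decide +kernel
theorem chkP_9800 : allRange (fun p => checkPoint cert p && checkOrb cert p) 9800 100 = true := by decide +kernel
theorem chkP_13000 : allRange (fun p => checkPoint cert p && checkOrb cert p) 13000 100 = true := by decide +kernel
theorem chkP_16200 : allRange (fun p => checkPoint cert p && checkOrb cert p) 16200 100 = true := by decide +kernel
theorem chkP_19400 : allRange (fun p => checkPoint cert p && checkOrb cert p) 19400 100 = true := by decide +kernel
theorem chkP_22600 : allRange (fun p => checkPoint cert p && checkOrb cert p) 22600 100 = true := by decide +kernel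
theorem chkP_25800 : allRange (fun p => checkPoint cert p && checkOrb cert p) 25800 100 = true := by decide +kernel
theorem chkP_29000 : allRange (fun p => checkPoint cert p && checkOrb cert p) 29000 100 = true := by decide +kernel
theorem chkP_32200 : allRange (fun p => checkPoint cert p && checkOrb cert p) 32200 100 = true := by decide +kernel
theorem chkP_35400 : allRange (fun p => checkPoint cert p && checkOrb cert p) 35400 100 = true := by decide +kernel
theorem chkP_38600 : allRange (fun p => checkPoint cert p && checkOrb cert p) 38600 100 = true := by decide +kernel
theorem chkP_41800 : allRange (fun p => checkPoint cert p && checkOrb cert p) 41800 100 = true := by decide +kernel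
theorem chkP_45000 : allRange (fun p => checkPoint cert p && checkOrb cert p) 45000 100 = true := by decide +kernel
theorem chkP_48200 : allRange (fun p => checkPoint cert p && checkOrb cert p) 48200 100 = true := by decide +kernel
theorem chkP_51400 : allRange (fun p => checkPoint cert p && checkOrb cert p) 51400 100 = true := by decide +kernel
theorem chkP_54600 : allRange (fun p => checkPoint cert p && checkOrb cert p) 54600 100 = true := by decide +kernel
theorem chkP_57800 : allRange (fun p => checkPoint cert p && checkOrb cert p) 57800 100 = true := by decide +kernel
theorem chkP_61000 : allRange (fun p => checkPoint cert p && checkOrb cert p) 61000 100 = true := by decide +kernel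
theorem chkP_64200 : allRange (fun p => checkPoint cert p && checkOrb cert p) 64200 100 = true := by decide +kernel
theorem chkP_67400 : allRange (fun p => checkPoint cert p && checkOrb cert p) 67400 100 = true := by decide +kernel
theorem chkP_70600 : allRange (fun p => checkPoint cert p && checkOrb cert p) 70600 100 = true := by decide +kernel
theorem chkP_73800 : allRange (fun p => checkPoint cert p && checkOrb cert p) 73800 100 = true := by decide +kernel
theorem chkP_77000 : allRange (fun p => checkPoint cert p && checkOrb cert p) 77000 100 = true := by decide +kernel
theorem chkP_80200 : allRange (fun p => checkPoint cert p && checkOrb cert p) 80200 100 = true := by decide +kernel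
theorem chkP_83400 : allRange (fun p => checkPoint cert p && checkOrb cert p) 83400 100 = true := by decide +kernel
theorem chkP_86600 : allRange (fun p => checkPoint cert p && checkOrb cert p) 86600 100 = true := by decide +kernel
theorem chkP_89800 : allRange (fun p => checkPoint cert p && checkOrb cert p) 89800 100 = true := by decide +kernel
theorem chkP_93000 : allRange (fun p => checkPoint cert p && checkOrb cert p) 93000 100 = true := by decide +kernel
theorem chkP_96200 : allRange (fun p => checkPoint cert p && checkOrb cert p) 96200 100 = true := by decide +kernel
theorem chkP_99400 : allRange (fun p => checkPoint cert p && checkOrb cert p) 99400 100 = true := by decide +kernel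
theorem chkP_102600 : allRange (fun p => checkPoint cert p && checkOrb cert p) 102600 100 = true := by decide +kernel
theorem chkP_105800 : allRange (fun p => checkPoint cert p && checkOrb cert p) 105800 100 = true := by decide +kernel
theorem chkP_109000 : allRange (fun p => checkPoint cert p && checkOrb cert p) 109000 100 = true := by decide +kernel
theorem chkP_112200 : allRange (fun p => checkPoint cert p && checkOrb cert p) 112200 100 = true := by decide +kernel
theorem chkP_115400 : allRange (fun p => checkPoint cert p && checkOrb cert p) 115400 100 = true := by decide +kernel
theorem chkP_118600 : allRange (fun p => checkPoint cert p && checkOrb cert p) 118600 100 = true := by decide +kernel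
theorem chkP_121800 : allRange (fun p => checkPoint cert p && checkOrb cert p) 121800 100 = true := by decide +kernel

end Cfsg.Agent.Lib.Helper28.ONData
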