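import Cfsg.Agent.Lib.Helper28.ONData
import Cfsg.Agent.Lib.Helper28.TCSound

set_option autoImplicit false
set_option maxRecDepth 1000000
set_option linter.all false
set_option Elab.async false

namespace Cfsg.Agent.Lib.Helper28.ONData

open Cfsg.Agent.Lib.Helper28

theorem chkF_8000 : allRange (checkFact cert) 8000 2000 = true := by decide +kernel
theorem chkF_72000 : allRange (checkFact cert) 72000 2000 = true := by decide +kernel
theorem chkF_136000 : allRange (checkFact cert) 136000 2000 = true := by decide +kernel
theorem chkF_200000 : allRange (checkFact cert) 200000 2000 = true := by decide +kernel
theorem chkF_264000 : allRange (checkFact cert) 264000 2000 = true := by decide +kernel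
theorem chkF_328000 : allRange (checkFact cert) 328000 2000 = true := by decide +kernel
theorem chkF_392000 : allRange (checkFact cert) 392000 2000 = true := by decide +kernel
theorem chkF_456000 : allRange (checkFact cert) 456000 2000 = true := by decide +kernel
theorem chkF_520000 : allRange (checkFact cert) 520000 2000 = true := by decide +kernel
theorem chkF_584000 : allRange (checkFact cert) 584000 2000 = true := by decide +kernel
theorem chkF_648000 : allRange (checkFact cert) 648000 2000 = true := by decide +kernel
theorem chkF_712000 : allRange (checkFact cert) 712000 2000 = true := by decide +kernel
theorem chkF_776000 : allRange (checkFact cert) 776000 2000 = true := by decide +kernel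
theorem chkF_840000 : allRange (checkFact cert) 840000 2000 = true := by decide +kernel
theorem chkF_904000 : allRange (checkFact cert) 904000 2000 = true := by decide +kernel
theorem chkF_968000 : allRange (checkFact cert) 968000 2000 = true := by decide +kernel
theorem chkF_1032000 : allRange (checkFact cert) 1032000 2000 = true := by decide +kernel
theorem chkF_1096000 : allRange (checkFact cert) 1096000 2000 = true := by decide +kernel
theorem chkF_1160000 : allRange (checkFact cert) 1160000 2000 = true := by decide +kernel
theorem chkP_700 : allRange (fun p => checkPoint cert p && checkOrb cert p) 700 100 = true := by decide +kernel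
theorem chkP_3900 : allRange (fun p => checkPoint cert p && checkOrb cert p) 3900 100 = true := by decide +kernel
theorem chkP_7100 : allRange (fun p => checkPoint cert p && checkOrb cert p) 7100 100 = true := by decide +kernel
theorem chkP_10300 : allRange (fun p => checkPoint cert p && checkOrb cert p) 10300 100 = true := by decide +kernel
theorem chkP_13500 : allRange (fun p => checkPoint cert p && checkOrb cert p) 13500 100 = true := by decide +kernel
theorem chkP_16700 : allRange (fun p => checkPoint cert p && checkOrb cert p) 16700 100 = true := by decide +kernel
theorem chkP_19900 : allRange (fun p => checkPoint cert p && checkOrb cert p) 19900 100 = true := by decide +kernel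
theorem chkP_23100 : allRange (fun p => checkPoint cert p && checkOrb cert p) 23100 100 = true := by decide +kernel
theorem chkP_26300 : allRange (fun p => checkPoint cert p && checkOrb cert p) 26300 100 = true := by decide +kernel
theorem chkP_29500 : allRange (fun p => checkPoint cert p && checkOrb cert p) 29500 100 = true := by decide +kernel
theorem chkP_32700 : allRange (fun p => checkPoint cert p && checkOrb cert p) 32700 100 = true := by decide +kernel
theorem chkP_35900 : allRange (fun p => checkPoint cert p && checkOrb cert p) 35900 100 = true := by decide +kernel
theorem chkP_39100 : allRange (fun p => checkPoint cert p && checkOrb cert p) 39100 100 = true := by decide +kernel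
theorem chkP_42300 : allRange (fun p => checkPoint cert p && checkOrb cert p) 42300 100 = true := by decide +kernel
theorem chkP_45500 : allRange (fun p => checkPoint cert p && checkOrb cert p) 45500 100 = true := by decide +kernel
theorem chkP_48700 : allRange (fun p => checkPoint cert p && checkOrb cert p) 48700 100 = true := by decide +kernel
theorem chkP_51900 : allRange (fun p => checkPoint cert p && checkOrb cert p) 51900 100 = true := by decide +kernel
theorem chkP_55100 : allRange (fun p => checkPoint cert p && checkOrb cert p) 55100 100 = true := by decide +kernel
theorem chkP_58300 : allRange (fun p => checkPoint cert p && checkOrb cert p) 58300 100 = true := by decide +kernel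
theorem chkP_61500 : allRange (fun p => checkPoint cert p && checkOrb cert p) 61500 100 = true := by decide +kernel
theorem chkP_64700 : allRange (fun p => checkPoint cert p && checkOrb cert p) 64700 100 = true := by decide +kernel
theorem chkP_67900 : allRange (fun p => checkPoint cert p && checkOrb cert p) 67900 100 = true := by decide +kernel
theorem chkP_71100 : allRange (fun p => checkPoint cert p && checkOrb cert p) 71100 100 = true := by decide +kernel
theorem chkP_74300 : allRange (fun p => checkPoint cert p && checkOrb cert p) 74300 100 = true := by decide +kernel
theorem chkP_77500 : allRange (fun p => checkPoint cert p && checkOrb cert p) 77500 100 = true := by decide +kernel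
theorem chkP_80700 : allRange (fun p => checkPoint cert p && checkOrb cert p) 80700 100 = true := by decide +kernel
theorem chkP_83900 : allRange (fun p => checkPoint cert p && checkOrb cert p) 83900 100 = true := by decide +kernel
theorem chkP_87100 : allRange (fun p => checkPoint cert p && checkOrb cert p) 87100 100 = true := by decide +kernel
theorem chkP_90300 : allRange (fun p => checkPoint cert p && checkOrb cert p) 90300 100 = true := by decide +kernel
theorem chkP_93500 : allRange (fun p => checkPoint cert p && checkOrb cert p) 93500 100 = true := by decide +kernel
theorem chkP_96700 : allRange (fun p => checkPoint cert p && checkOrb cert p) 96700 100 = true := by decide +kernel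
theorem chkP_99900 : allRange (fun p => checkPoint cert p && checkOrb cert p) 99900 100 = true := by decide +kernel
theorem chkP_103100 : allRange (fun p => checkPoint cert p && checkOrb cert p) 103100 100 = true := by decide +kernel
theorem chkP_106300 : allRange (fun p => checkPoint cert p && checkOrb cert p) 106300 100 = true := by decide +kernel
theorem chkP_109500 : allRange (fun p => checkPoint cert p && checkOrb cert p) 109500 100 = true := by decide +kernel
theorem chkP_112700 : allRange (fun p => checkPoint cert p && checkOrb cert p) 112700 100 = true := by decide +kernel
theorem chkP_115900 : allRange (fun p => checkPoint cert p && checkOrb cert p) 115900 100 = true := by decide +kernel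
theorem chkP_119100 : allRange (fun p => checkPoint cert p && checkOrb cert p) 119100 100 = true := by decide +kernel
theorem chkP_122300 : allRange (fun p => checkPoint cert p && checkOrb cert p) 122300 100 = true := by decide +kernel

end Cfsg.Agent.Lib.Helper28.ONData
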