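import Cfsg.Agent.Lib.Helper28.ONData
import Cfsg.Agent.Lib.Helper28.TCSound

set_option autoImplicit false
set_option maxRecDepth 1000000
set_option linter.all false
set_option Elab.async false

namespace Cfsg.Agent.Lib.Helper28.ONData

open Cfsg.Agent.Lib.Helper28

theorem chkF_10000 : allRange (checkFact cert) 10000 2000 = true := by decide +kernel
theorem chkF_74000 : allRange (checkFact cert) 74000 2000 = true := by decide +kernel
theorem chkF_138000 : allRange (checkFact cert) 138000 2000 = true := by decide +kernel
theorem chkF_202000 : allRange (checkFact cert) 202000 2000 = true := by decide +kernel
theorem chkF_266000 : allRange (checkFact cert) 266000 2000 = true := by decide +kernel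
theorem chkF_330000 : allRange (checkFact cert) 330000 2000 = true := by decide +kernel
theorem chkF_394000 : allRange (checkFact cert) 394000 2000 = true := by decide +kernel
theorem chkF_458000 : allRange (checkFact cert) 458000 2000 = true := by decide +kernel
theorem chkF_522000 : allRange (checkFact cert) 522000 2000 = true := by decide +kernel
theorem chkF_586000 : allRange (checkFact cert) 586000 2000 = true := by decide +kernel
theorem chkF_650000 : allRange (checkFact cert) 650000 2000 = true := by decide +kernel
theorem chkF_714000 : allRange (checkFact cert) 714000 2000 = true := by decide +kernel
theorem chkF_778000 : allRange (checkFact cert) 778000 2000 = true := by decide +kernel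
theorem chkF_842000 : allRange (checkFact cert) 842000 2000 = true := by decide +kernel
theorem chkF_906000 : allRange (checkFact cert) 906000 2000 = true := by decide +kernel
theorem chkF_970000 : allRange (checkFact cert) 970000 2000 = true := by decide +kernel
theorem chkF_1034000 : allRange (checkFact cert) 1034000 2000 = true := by decide +kernel
theorem chkF_1098000 : allRange (checkFact cert) 1098000 2000 = true := by decide +kernel
theorem chkF_1162000 : allRange (checkFact cert) 1162000 2000 = true := by decide +kernel
theorem chkP_800 : allRange (fun p => checkPoint cert p && checkOrb cert p) 800 100 = true := by decide +kernel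
theorem chkP_4000 : allRange (fun p => checkPoint cert p && checkOrb cert p) 4000 100 = true := by decide +kernel
theorem chkP_7200 : allRange (fun p => checkPoint cert p && checkOrb cert p) 7200 100 = true := by decide +kernel
theorem chkP_10400 : allRange (fun p => checkPoint cert p && checkOrb cert p) 10400 100 = true := by decide +kernel
theorem chkP_13600 : allRange (fun p => checkPoint cert p && checkOrb cert p) 13600 100 = true := by decide +kernel
theorem chkP_16800 : allRange (fun p => checkPoint cert p && checkOrb cert p) 16800 100 = true := by decide +kernel
theorem chkP_20000 : allRange (fun p => checkPoint cert p && checkOrb cert p) 20000 100 = true := by decide +kernel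
theorem chkP_23200 : allRange (fun p => checkPoint cert p && checkOrb cert p) 23200 100 = true := by decide +kernel
theorem chkP_26400 : allRange (fun p => checkPoint cert p && checkOrb cert p) 26400 100 = true := by decide +kernel
theorem chkP_29600 : allRange (fun p => checkPoint cert p && checkOrb cert p) 29600 100 = true := by decide +kernel
theorem chkP_32800 : allRange (fun p => checkPoint cert p && checkOrb cert p) 32800 100 = true := by decide +kernel
theorem chkP_36000 : allRange (fun p => checkPoint cert p && checkOrb cert p) 36000 100 = true := by decide +kernel
theorem chkP_39200 : allRange (fun p => checkPoint cert p && checkOrb cert p) 39200 100 = true := by decide +kernel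
theorem chkP_42400 : allRange (fun p => checkPoint cert p && checkOrb cert p) 42400 100 = true := by decide +kernel
theorem chkP_45600 : allRange (fun p => checkPoint cert p && checkOrb cert p) 45600 100 = true := by decide +kernel
theorem chkP_48800 : allRange (fun p => checkPoint cert p && checkOrb cert p) 48800 100 = true := by decide +kernel
theorem chkP_52000 : allRange (fun p => checkPoint cert p && checkOrb cert p) 52000 100 = true := by decide +kernel
theorem chkP_55200 : allRange (fun p => checkPoint cert p && checkOrb cert p) 55200 100 = true := by decide +kernel
theorem chkP_58400 : allRange (fun p => checkPoint cert p && checkOrb cert p) 58400 100 = true := by decide +kernel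
theorem chkP_61600 : allRange (fun p => checkPoint cert p && checkOrb cert p) 61600 100 = true := by decide +kernel
theorem chkP_64800 : allRange (fun p => checkPoint cert p && checkOrb cert p) 64800 100 = true := by decide +kernel
theorem chkP_68000 : allRange (fun p => checkPoint cert p && checkOrb cert p) 68000 100 = true := by decide +kernel
theorem chkP_71200 : allRange (fun p => checkPoint cert p && checkOrb cert p) 71200 100 = true := by decide +kernel
theorem chkP_74400 : allRange (fun p => checkPoint cert p && checkOrb cert p) 74400 100 = true := by decide +kernel
theorem chkP_77600 : allRange (fun p => checkPoint cert p && checkOrb cert p) 77600 100 = true := by decide +kernel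
theorem chkP_80800 : allRange (fun p => checkPoint cert p && checkOrb cert p) 80800 100 = true := by decide +kernel
theorem chkP_84000 : allRange (fun p => checkPoint cert p && checkOrb cert p) 84000 100 = true := by decide +kernel
theorem chkP_87200 : allRange (fun p => checkPoint cert p && checkOrb cert p) 87200 100 = true := by decide +kernel
theorem chkP_90400 : allRange (fun p => checkPoint cert p && checkOrb cert p) 90400 100 = true := by decide +kernel
theorem chkP_93600 : allRange (fun p => checkPoint cert p && checkOrb cert p) 93600 100 = true := by decide +kernel
theorem chkP_96800 : allRange (fun p => checkPoint cert p && checkOrb cert p) 96800 100 = true := by decide +kernel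
theorem chkP_100000 : allRange (fun p => checkPoint cert p && checkOrb cert p) 100000 100 = true := by decide +kernel
theorem chkP_103200 : allRange (fun p => checkPoint cert p && checkOrb cert p) 103200 100 = true := by decide +kernel
theorem chkP_106400 : allRange (fun p => checkPoint cert p && checkOrb cert p) 106400 100 = true := by decide +kernel
theorem chkP_109600 : allRange (fun p => checkPoint cert p && checkOrb cert p) 109600 100 = true := by decide +kernel
theorem chkP_112800 : allRange (fun p => checkPoint cert p && checkOrb cert p) 112800 100 = true := by decide +kernel
theorem chkP_116000 : allRange (fun p => checkPoint cert p && checkOrb cert p) 116000 100 = true := by decide +kernel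
theorem chkP_119200 : allRange (fun p => checkPoint cert p && checkOrb cert p) 119200 100 = true := by decide +kernel
theorem chkP_122400 : allRange (fun p => checkPoint cert p && checkOrb cert p) 122400 100 = true := by decide +kernel

end Cfsg.Agent.Lib.Helper28.ONData
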