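import Cfsg.Agent.Lib.Helper28.ONData
import Cfsg.Agent.Lib.Helper28.TCSound

set_option autoImplicit false
set_option maxRecDepth 1000000
set_option linter.all false
set_option Elab.async false

namespace Cfsg.Agent.Lib.Helper28.ONData

open Cfsg.Agent.Lib.Helper28

theorem chkF_12000 : allRange (checkFact cert) 12000 2000 = true := by decide +kernel
theorem chkF_76000 : allRange (checkFact cert) 76000 2000 = true := by decide +kernel
theorem chkF_140000 : allRange (checkFact cert) 140000 2000 = true := by decide +kernel
theorem chkF_204000 : allRange (checkFact cert) 204000 2000 = true := by decide +kernel
theorem chkF_268000 : allRange (checkFact cert) 268000 2000 = true := by decide +kernel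
theorem chkF_332000 : allRange (checkFact cert) 332000 2000 = true := by decide +kernel
theorem chkF_396000 : allRange (checkFact cert) 396000 2000 = true := by decide +kernel
theorem chkF_460000 : allRange (checkFact cert) 460000 2000 = true := by decide +kernel
theorem chkF_524000 : allRange (checkFact cert) 524000 2000 = true := by decide +kernel
theorem chkF_588000 : allRange (checkFact cert) 588000 2000 = true := by decide +kernel
theorem chkF_652000 : allRange (checkFact cert) 652000 2000 = true := by decide +kernel
theorem chkF_716000 : allRange (checkFact cert) 716000 2000 = true := by decide +kernel
theorem chkF_780000 : allRange (checkFact cert) 780000 2000 = true := by decide +kernel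
theorem chkF_844000 : allRange (checkFact cert) 844000 2000 = true := by decide +kernel
theorem chkF_908000 : allRange (checkFact cert) 908000 2000 = true := by decide +kernel
theorem chkF_972000 : allRange (checkFact cert) 972000 2000 = true := by decide +kernel
theorem chkF_1036000 : allRange (checkFact cert) 1036000 2000 = true := by decide +kernel
theorem chkF_1100000 : allRange (checkFact cert) 1100000 2000 = true := by decide +kernel
theorem chkF_1164000 : allRange (checkFact cert) 1164000 2000 = true := by decide +kernel
theorem chkP_900 : allRange (fun p => checkPoint cert p && checkOrb cert p) 900 100 = true := by decide +kernel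
theorem chkP_4100 : allRange (fun p => checkPoint cert p && checkOrb cert p) 4100 100 = true := by decide +kernel
theorem chkP_7300 : allRange (fun p => checkPoint cert p && checkOrb cert p) 7300 100 = true := by decide +kernel
theorem chkP_10500 : allRange (fun p => checkPoint cert p && checkOrb cert p) 10500 100 = true := by decide +kernel
theorem chkP_13700 : allRange (fun p => checkPoint cert p && checkOrb cert p) 13700 100 = true := by decide +kernel
theorem chkP_16900 : allRange (fun p => checkPoint cert p && checkOrb cert p) 16900 100 = true := by decide +kernel
theorem chkP_20100 : allRange (fun p => checkPoint cert p && checkOrb cert p) 20100 100 = true := by decide +kernel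
theorem chkP_23300 : allRange (fun p => checkPoint cert p && checkOrb cert p) 23300 100 = true := by decide +kernel
theorem chkP_26500 : allRange (fun p => checkPoint cert p && checkOrb cert p) 26500 100 = true := by decide +kernel
theorem chkP_29700 : allRange (fun p => checkPoint cert p && checkOrb cert p) 29700 100 = true := by decide +kernel
theorem chkP_32900 : allRange (fun p => checkPoint cert p && checkOrb cert p) 32900 100 = true := by decide +kernel
theorem chkP_36100 : allRange (fun p => checkPoint cert p && checkOrb cert p) 36100 100 = true := by decide +kernel
theorem chkP_39300 : allRange (fun p => checkPoint cert p && checkOrb cert p) 39300 100 = true := by decide +kernel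
theorem chkP_42500 : allRange (fun p => checkPoint cert p && checkOrb cert p) 42500 100 = true := by decide +kernel
theorem chkP_45700 : allRange (fun p => checkPoint cert p && checkOrb cert p) 45700 100 = true := by decide +kernel
theorem chkP_48900 : allRange (fun p => checkPoint cert p && checkOrb cert p) 48900 100 = true := by decide +kernel
theorem chkP_52100 : allRange (fun p => checkPoint cert p && checkOrb cert p) 52100 100 = true := by decide +kernel
theorem chkP_55300 : allRange (fun p => checkPoint cert p && checkOrb cert p) 55300 100 = true := by decide +kernel
theorem chkP_58500 : allRange (fun p => checkPoint cert p && checkOrb cert p) 58500 100 = true := by decide +kernel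
theorem chkP_61700 : allRange (fun p => checkPoint cert p && checkOrb cert p) 61700 100 = true := by decide +kernel
theorem chkP_64900 : allRange (fun p => checkPoint cert p && checkOrb cert p) 64900 100 = true := by decide +kernel
theorem chkP_68100 : allRange (fun p => checkPoint cert p && checkOrb cert p) 68100 100 = true := by decide +kernel
theorem chkP_71300 : allRange (fun p => checkPoint cert p && checkOrb cert p) 71300 100 = true := by decide +kernel
theorem chkP_74500 : allRange (fun p => checkPoint cert p && checkOrb cert p) 74500 100 = true := by decide +kernel
theorem chkP_77700 : allRange (fun p => checkPoint cert p && checkOrb cert p) 77700 100 = true := by decide +kernel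
theorem chkP_80900 : allRange (fun p => checkPoint cert p && checkOrb cert p) 80900 100 = true := by decide +kernel
theorem chkP_84100 : allRange (fun p => checkPoint cert p && checkOrb cert p) 84100 100 = true := by decide +kernel
theorem chkP_87300 : allRange (fun p => checkPoint cert p && checkOrb cert p) 87300 100 = true := by decide +kernel
theorem chkP_90500 : allRange (fun p => checkPoint cert p && checkOrb cert p) 90500 100 = true := by decide +kernel
theorem chkP_93700 : allRange (fun p => checkPoint cert p && checkOrb cert p) 93700 100 = true := by decide +kernel
theorem chkP_96900 : allRange (fun p => checkPoint cert p && checkOrb cert p) 96900 100 = true := by decide +kernel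
theorem chkP_100100 : allRange (fun p => checkPoint cert p && checkOrb cert p) 100100 100 = true := by decide +kernel
theorem chkP_103300 : allRange (fun p => checkPoint cert p && checkOrb cert p) 103300 100 = true := by decide +kernel
theorem chkP_106500 : allRange (fun p => checkPoint cert p && checkOrb cert p) 106500 100 = true := by decide +kernel
theorem chkP_109700 : allRange (fun p => checkPoint cert p && checkOrb cert p) 109700 100 = true := by decide +kernel
theorem chkP_112900 : allRange (fun p => checkPoint cert p && checkOrb cert p) 112900 100 = true := by decide +kernel
theorem chkP_116100 : allRange (fun p => checkPoint cert p && checkOrb cert p) 116100 100 = true := by decide +kernel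
theorem chkP_119300 : allRange (fun p => checkPoint cert p && checkOrb cert p) 119300 100 = true := by decide +kernel
theorem chkP_122500 : allRange (fun p => checkPoint cert p && checkOrb cert p) 122500 100 = true := by decide +kernel

end Cfsg.Agent.Lib.Helper28.ONData
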