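import Cfsg.Agent.Lib.Helper28.ONData
import Cfsg.Agent.Lib.Helper28.TCSound

set_option autoImplicit false
set_option maxRecDepth 1000000
set_option linter.all false
set_option Elab.async false

namespace Cfsg.Agent.Lib.Helper28.ONData

open Cfsg.Agent.Lib.Helper28

theorem chkF_14000 : allRange (checkFact cert) 14000 2000 = true := by decide +kernel
theorem chkF_78000 : allRange (checkFact cert) 78000 2000 = true := by decide +kernel
theorem chkF_142000 : allRange (checkFact cert) 142000 2000 = true := by decide +kernel
theorem chkF_206000 : allRange (checkFact cert) 206000 2000 = true := by decide +kernel
theorem chkF_270000 : allRange (checkFact cert) 270000 2000 = true := by decide +kernel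
theorem chkF_334000 : allRange (checkFact cert) 334000 2000 = true := by decide +kernel
theorem chkF_398000 : allRange (checkFact cert) 398000 2000 = true := by decide +kernel
theorem chkF_462000 : allRange (checkFact cert) 462000 2000 = true := by decide +kernel
theorem chkF_526000 : allRange (checkFact cert) 526000 2000 = true := by decide +kernel
theorem chkF_590000 : allRange (checkFact cert) 590000 2000 = true := by decide +kernel
theorem chkF_654000 : allRange (checkFact cert) 654000 2000 = true := by decide +kernel
theorem chkF_718000 : allRange (checkFact cert) 718000 2000 = true := by decide +kernel
theorem chkF_782000 : allRange (checkFact cert) 782000 2000 = true := by decide +kernel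
theorem chkF_846000 : allRange (checkFact cert) 846000 2000 = true := by decide +kernel
theorem chkF_910000 : allRange (checkFact cert) 910000 2000 = true := by decide +kernel
theorem chkF_974000 : allRange (checkFact cert) 974000 2000 = true := by decide +kernel
theorem chkF_1038000 : allRange (checkFact cert) 1038000 2000 = true := by decide +kernel
theorem chkF_1102000 : allRange (checkFact cert) 1102000 2000 = true := by decide +kernel
theorem chkF_1166000 : allRange (checkFact cert) 1166000 2000 = true := by decide +kernel
theorem chkP_1000 : allRange (fun p => checkPoint cert p && checkOrb cert p) 1000 100 = true := by decide +kernel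
theorem chkP_4200 : allRange (fun p => checkPoint cert p && checkOrb cert p) 4200 100 = true := by decide +kernel
theorem chkP_7400 : allRange (fun p => checkPoint cert p && checkOrb cert p) 7400 100 = true := by decide +kernel
theorem chkP_10600 : allRange (fun p => checkPoint cert p && checkOrb cert p) 10600 100 = true := by decide +kernel
theorem chkP_13800 : allRange (fun p => checkPoint cert p && checkOrb cert p) 13800 100 = true := by decide +kernel
theorem chkP_17000 : allRange (fun p => checkPoint cert p && checkOrb cert p) 17000 100 = true := by decide +kernel
theorem chkP_20200 : allRange (fun p => checkPoint cert p && checkOrb cert p) 20200 100 = true := by decide +kernel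
theorem chkP_23400 : allRange (fun p => checkPoint cert p && checkOrb cert p) 23400 100 = true := by decide +kernel
theorem chkP_26600 : allRange (fun p => checkPoint cert p && checkOrb cert p) 26600 100 = true := by decide +kernel
theorem chkP_29800 : allRange (fun p => checkPoint cert p && checkOrb cert p) 29800 100 = true := by decide +kernel
theorem chkP_33000 : allRange (fun p => checkPoint cert p && checkOrb cert p) 33000 100 = true := by decide +kernel
theorem chkP_36200 : allRange (fun p => checkPoint cert p && checkOrb cert p) 36200 100 = true := by decide +kernel
theorem chkP_39400 : allRange (fun p => checkPoint cert p && checkOrb cert p) 39400 100 = true := by decide +kernel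
theorem chkP_42600 : allRange (fun p => checkPoint cert p && checkOrb cert p) 42600 100 = true := by decide +kernel
theorem chkP_45800 : allRange (fun p => checkPoint cert p && checkOrb cert p) 45800 100 = true := by decide +kernel
theorem chkP_49000 : allRange (fun p => checkPoint cert p && checkOrb cert p) 49000 100 = true := by decide +kernel
theorem chkP_52200 : allRange (fun p => checkPoint cert p && checkOrb cert p) 52200 100 = true := by decide +kernel
theorem chkP_55400 : allRange (fun p => checkPoint cert p && checkOrb cert p) 55400 100 = true := by decide +kernel
theorem chkP_58600 : allRange (fun p => checkPoint cert p && checkOrb cert p) 58600 100 = true := by decide +kernel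
theorem chkP_61800 : allRange (fun p => checkPoint cert p && checkOrb cert p) 61800 100 = true := by decide +kernel
theorem chkP_65000 : allRange (fun p => checkPoint cert p && checkOrb cert p) 65000 100 = true := by decide +kernel
theorem chkP_68200 : allRange (fun p => checkPoint cert p && checkOrb cert p) 68200 100 = true := by decide +kernel
theorem chkP_71400 : allRange (fun p => checkPoint cert p && checkOrb cert p) 71400 100 = true := by decide +kernel
theorem chkP_74600 : allRange (fun p => checkPoint cert p && checkOrb cert p) 74600 100 = true := by decide +kernel
theorem chkP_77800 : allRange (fun p => checkPoint cert p && checkOrb cert p) 77800 100 = true := by decide +kernel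
theorem chkP_81000 : allRange (fun p => checkPoint cert p && checkOrb cert p) 81000 100 = true := by decide +kernel
theorem chkP_84200 : allRange (fun p => checkPoint cert p && checkOrb cert p) 84200 100 = true := by decide +kernel
theorem chkP_87400 : allRange (fun p => checkPoint cert p && checkOrb cert p) 87400 100 = true := by decide +kernel
theorem chkP_90600 : allRange (fun p => checkPoint cert p && checkOrb cert p) 90600 100 = true := by decide +kernel
theorem chkP_93800 : allRange (fun p => checkPoint cert p && checkOrb cert p) 93800 100 = true := by decide +kernel
theorem chkP_97000 : allRange (fun p => checkPoint cert p && checkOrb cert p) 97000 100 = true := by decide +kernel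
theorem chkP_100200 : allRange (fun p => checkPoint cert p && checkOrb cert p) 100200 100 = true := by decide +kernel
theorem chkP_103400 : allRange (fun p => checkPoint cert p && checkOrb cert p) 103400 100 = true := by decide +kernel
theorem chkP_106600 : allRange (fun p => checkPoint cert p && checkOrb cert p) 106600 100 = true := by decide +kernel
theorem chkP_109800 : allRange (fun p => checkPoint cert p && checkOrb cert p) 109800 100 = true := by decide +kernel
theorem chkP_113000 : allRange (fun p => checkPoint cert p && checkOrb cert p) 113000 100 = true := by decide +kernel
theorem chkP_116200 : allRange (fun p => checkPoint cert p && checkOrb cert p) 116200 100 = true := by decide +kernel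
theorem chkP_119400 : allRange (fun p => checkPoint cert p && checkOrb cert p) 119400 100 = true := by decide +kernel
theorem chkP_122600 : allRange (fun p => checkPoint cert p && checkOrb cert p) 122600 100 = true := by decide +kernel

end Cfsg.Agent.Lib.Helper28.ONData
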