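import Cfsg.Agent.Lib.Helper28.ONData
import Cfsg.Agent.Lib.Helper28.TCSound

set_option autoImplicit false
set_option maxRecDepth 1000000
set_option linter.all false
set_option Elab.async false

namespace Cfsg.Agent.Lib.Helper28.ONData

open Cfsg.Agent.Lib.Helper28

theorem chkF_16000 : allRange (checkFact cert) 16000 2000 = true := by decide +kernel
theorem chkF_80000 : allRange (checkFact cert) 80000 2000 = true := by decide +kernel
theorem chkF_144000 : allRange (checkFact cert) 144000 2000 = true := by decide +kernel
theorem chkF_208000 : allRange (checkFact cert) 208000 2000 = true := by decide +kernel
theorem chkF_272000 : allRange (checkFact cert) 272000 2000 = true := by decide +kernel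
theorem chkF_336000 : allRange (checkFact cert) 336000 2000 = true := by decide +kernel
theorem chkF_400000 : allRange (checkFact cert) 400000 2000 = true := by decide +kernel
theorem chkF_464000 : allRange (checkFact cert) 464000 2000 = true := by decide +kernel
theorem chkF_528000 : allRange (checkFact cert) 528000 2000 = true := by decide +kernel
theorem chkF_592000 : allRange (checkFact cert) 592000 2000 = true := by decide +kernel
theorem chkF_656000 : allRange (checkFact cert) 656000 2000 = true := by decide +kernel
theorem chkF_720000 : allRange (checkFact cert) 720000 2000 = true := by decide +kernel
theorem chkF_784000 : allRange (checkFact cert) 784000 2000 = true := by decide +kernel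
theorem chkF_848000 : allRange (checkFact cert) 848000 2000 = true := by decide +kernel
theorem chkF_912000 : allRange (checkFact cert) 912000 2000 = true := by decide +kernel
theorem chkF_976000 : allRange (checkFact cert) 976000 2000 = true := by decide +kernel
theorem chkF_1040000 : allRange (checkFact cert) 1040000 2000 = true := by decide +kernel
theorem chkF_1104000 : allRange (checkFact cert) 1104000 2000 = true := by decide +kernel
theorem chkF_1168000 : allRange (checkFact cert) 1168000 2000 = true := by decide +kernel
theorem chkP_1100 : allRange (fun p => checkPoint cert p && checkOrb cert p) 1100 100 = true := by decide +kernel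
theorem chkP_4300 : allRange (fun p => checkPoint cert p && checkOrb cert p) 4300 100 = true := by decide +kernel
theorem chkP_7500 : allRange (fun p => checkPoint cert p && checkOrb cert p) 7500 100 = true := by decide +kernel
theorem chkP_10700 : allRange (fun p => checkPoint cert p && checkOrb cert p) 10700 100 = true := by decide +kernel
theorem chkP_13900 : allRange (fun p => checkPoint cert p && checkOrb cert p) 13900 100 = true := by decide +kernel
theorem chkP_17100 : allRange (fun p => checkPoint cert p && checkOrb cert p) 17100 100 = true := by decide +kernel
theorem chkP_20300 : allRange (fun p => checkPoint cert p && checkOrb cert p) 20300 100 = true := by decide +kernel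
theorem chkP_23500 : allRange (fun p => checkPoint cert p && checkOrb cert p) 23500 100 = true := by decide +kernel
theorem chkP_26700 : allRange (fun p => checkPoint cert p && checkOrb cert p) 26700 100 = true := by decide +kernel
theorem chkP_29900 : allRange (fun p => checkPoint cert p && checkOrb cert p) 29900 100 = true := by decide +kernel
theorem chkP_33100 : allRange (fun p => checkPoint cert p && checkOrb cert p) 33100 100 = true := by decide +kernel
theorem chkP_36300 : allRange (fun p => checkPoint cert p && checkOrb cert p) 36300 100 = true := by decide +kernel
theorem chkP_39500 : allRange (fun p => checkPoint cert p && checkOrb cert p) 39500 100 = true := by decide +kernel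
theorem chkP_42700 : allRange (fun p => checkPoint cert p && checkOrb cert p) 42700 100 = true := by decide +kernel
theorem chkP_45900 : allRange (fun p => checkPoint cert p && checkOrb cert p) 45900 100 = true := by decide +kernel
theorem chkP_49100 : allRange (fun p => checkPoint cert p && checkOrb cert p) 49100 100 = true := by decide +kernel
theorem chkP_52300 : allRange (fun p => checkPoint cert p && checkOrb cert p) 52300 100 = true := by decide +kernel
theorem chkP_55500 : allRange (fun p => checkPoint cert p && checkOrb cert p) 55500 100 = true := by decide +kernel
theorem chkP_58700 : allRange (fun p => checkPoint cert p && checkOrb cert p) 58700 100 = true := by decide +kernel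
theorem chkP_61900 : allRange (fun p => checkPoint cert p && checkOrb cert p) 61900 100 = true := by decide +kernel
theorem chkP_65100 : allRange (fun p => checkPoint cert p && checkOrb cert p) 65100 100 = true := by decide +kernel
theorem chkP_68300 : allRange (fun p => checkPoint cert p && checkOrb cert p) 68300 100 = true := by decide +kernel
theorem chkP_71500 : allRange (fun p => checkPoint cert p && checkOrb cert p) 71500 100 = true := by decide +kernel
theorem chkP_74700 : allRange (fun p => checkPoint cert p && checkOrb cert p) 74700 100 = true := by decide +kernel
theorem chkP_77900 : allRange (fun p => checkPoint cert p && checkOrb cert p) 77900 100 = true := by decide +kernel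
theorem chkP_81100 : allRange (fun p => checkPoint cert p && checkOrb cert p) 81100 100 = true := by decide +kernel
theorem chkP_84300 : allRange (fun p => checkPoint cert p && checkOrb cert p) 84300 100 = true := by decide +kernel
theorem chkP_87500 : allRange (fun p => checkPoint cert p && checkOrb cert p) 87500 100 = true := by decide +kernel
theorem chkP_90700 : allRange (fun p => checkPoint cert p && checkOrb cert p) 90700 100 = true := by decide +kernel
theorem chkP_93900 : allRange (fun p => checkPoint cert p && checkOrb cert p) 93900 100 = true := by decide +kernel
theorem chkP_97100 : allRange (fun p => checkPoint cert p && checkOrb cert p) 97100 100 = true := by decide +kernel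
theorem chkP_100300 : allRange (fun p => checkPoint cert p && checkOrb cert p) 100300 100 = true := by decide +kernel
theorem chkP_103500 : allRange (fun p => checkPoint cert p && checkOrb cert p) 103500 100 = true := by decide +kernel
theorem chkP_106700 : allRange (fun p => checkPoint cert p && checkOrb cert p) 106700 100 = true := by decide +kernel
theorem chkP_109900 : allRange (fun p => checkPoint cert p && checkOrb cert p) 109900 100 = true := by decide +kernel
theorem chkP_113100 : allRange (fun p => checkPoint cert p && checkOrb cert p) 113100 100 = true := by decide +kernel
theorem chkP_116300 : allRange (fun p => checkPoint cert p && checkOrb cert p) 116300 100 = true := by decide +kernel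
theorem chkP_119500 : allRange (fun p => checkPoint cert p && checkOrb cert p) 119500 100 = true := by decide +kernel
theorem chkP_122700 : allRange (fun p => checkPoint cert p && checkOrb cert p) 122700 60 = true := by decide +kernel

end Cfsg.Agent.Lib.Helper28.ONData
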