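import Cfsg.Agent.Lib.Helper28.ONData
import Cfsg.Agent.Lib.Helper28.TCSound

set_option autoImplicit false
set_option maxRecDepth 1000000
set_option linter.all false
set_option Elab.async false

namespace Cfsg.Agent.Lib.Helper28.ONData

open Cfsg.Agent.Lib.Helper28

theorem chkF_18000 : allRange (checkFact cert) 18000 2000 = true := by decide +kernel
theorem chkF_82000 : allRange (checkFact cert) 82000 2000 = true := by decide +kernel
theorem chkF_146000 : allRange (checkFact cert) 146000 2000 = true := by decide +kernel
theorem chkF_210000 : allRange (checkFact cert) 210000 2000 = true := by decide +kernel
theorem chkF_274000 : allRange (checkFact cert) 274000 2000 = true := by decide +kernel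
theorem chkF_338000 : allRange (checkFact cert) 338000 2000 = true := by decide +kernel
theorem chkF_402000 : allRange (checkFact cert) 402000 2000 = true := by decide +kernel
theorem chkF_466000 : allRange (checkFact cert) 466000 2000 = true := by decide +kernel
theorem chkF_530000 : allRange (checkFact cert) 530000 2000 = true := by decide +kernel
theorem chkF_594000 : allRange (checkFact cert) 594000 2000 = true := by decide +kernel
theorem chkF_658000 : allRange (checkFact cert) 658000 2000 = true := by decide +kernel
theorem chkF_722000 : allRange (checkFact cert) 722000 2000 = true := by decide +kernel
theorem chkF_786000 : allRange (checkFact cert) 786000 2000 = true := by decide +kernel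
theorem chkF_850000 : allRange (checkFact cert) 850000 2000 = true := by decide +kernel
theorem chkF_914000 : allRange (checkFact cert) 914000 2000 = true := by decide +kernel
theorem chkF_978000 : allRange (checkFact cert) 978000 2000 = true := by decide +kernel
theorem chkF_1042000 : allRange (checkFact cert) 1042000 2000 = true := by decide +kernel
theorem chkF_1106000 : allRange (checkFact cert) 1106000 2000 = true := by decide +kernel
theorem chkF_1170000 : allRange (checkFact cert) 1170000 2000 = true := by decide +kernel
theorem chkP_1200 : allRange (fun p => checkPoint cert p && checkOrb cert p) 1200 100 = true := by decide +kernel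
theorem chkP_4400 : allRange (fun p => checkPoint cert p && checkOrb cert p) 4400 100 = true := by decide +kernel
theorem chkP_7600 : allRange (fun p => checkPoint cert p && checkOrb cert p) 7600 100 = true := by decide +kernel
theorem chkP_10800 : allRange (fun p => checkPoint cert p && checkOrb cert p) 10800 100 = true := by decide +kernel
theorem chkP_14000 : allRange (fun p => checkPoint cert p && checkOrb cert p) 14000 100 = true := by decide +kernel
theorem chkP_17200 : allRange (fun p => checkPoint cert p && checkOrb cert p) 17200 100 = true := by decide +kernel
theorem chkP_20400 : allRange (fun p => checkPoint cert p && checkOrb cert p) 20400 100 = true := by decide +kernel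
theorem chkP_23600 : allRange (fun p => checkPoint cert p && checkOrb cert p) 23600 100 = true := by decide +kernel
theorem chkP_26800 : allRange (fun p => checkPoint cert p && checkOrb cert p) 26800 100 = true := by decide +kernel
theorem chkP_30000 : allRange (fun p => checkPoint cert p && checkOrb cert p) 30000 100 = true := by decide +kernel
theorem chkP_33200 : allRange (fun p => checkPoint cert p && checkOrb cert p) 33200 100 = true := by decide +kernel
theorem chkP_36400 : allRange (fun p => checkPoint cert p && checkOrb cert p) 36400 100 = true := by decide +kernel
theorem chkP_39600 : allRange (fun p => checkPoint cert p && checkOrb cert p) 39600 100 = true := by decide +kernel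
theorem chkP_42800 : allRange (fun p => checkPoint cert p && checkOrb cert p) 42800 100 = true := by decide +kernel
theorem chkP_46000 : allRange (fun p => checkPoint cert p && checkOrb cert p) 46000 100 = true := by decide +kernel
theorem chkP_49200 : allRange (fun p => checkPoint cert p && checkOrb cert p) 49200 100 = true := by decide +kernel
theorem chkP_52400 : allRange (fun p => checkPoint cert p && checkOrb cert p) 52400 100 = true := by decide +kernel
theorem chkP_55600 : allRange (fun p => checkPoint cert p && checkOrb cert p) 55600 100 = true := by decide +kernel
theorem chkP_58800 : allRange (fun p => checkPoint cert p && checkOrb cert p) 58800 100 = true := by decide +kernel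
theorem chkP_62000 : allRange (fun p => checkPoint cert p && checkOrb cert p) 62000 100 = true := by decide +kernel
theorem chkP_65200 : allRange (fun p => checkPoint cert p && checkOrb cert p) 65200 100 = true := by decide +kernel
theorem chkP_68400 : allRange (fun p => checkPoint cert p && checkOrb cert p) 68400 100 = true := by decide +kernel
theorem chkP_71600 : allRange (fun p => checkPoint cert p && checkOrb cert p) 71600 100 = true := by decide +kernel
theorem chkP_74800 : allRange (fun p => checkPoint cert p && checkOrb cert p) 74800 100 = true := by decide +kernel
theorem chkP_78000 : allRange (fun p => checkPoint cert p && checkOrb cert p) 78000 100 = true := by decide +kernel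
theorem chkP_81200 : allRange (fun p => checkPoint cert p && checkOrb cert p) 81200 100 = true := by decide +kernel
theorem chkP_84400 : allRange (fun p => checkPoint cert p && checkOrb cert p) 84400 100 = true := by decide +kernel
theorem chkP_87600 : allRange (fun p => checkPoint cert p && checkOrb cert p) 87600 100 = true := by decide +kernel
theorem chkP_90800 : allRange (fun p => checkPoint cert p && checkOrb cert p) 90800 100 = true := by decide +kernel
theorem chkP_94000 : allRange (fun p => checkPoint cert p && checkOrb cert p) 94000 100 = true := by decide +kernel
theorem chkP_97200 : allRange (fun p => checkPoint cert p && checkOrb cert p) 97200 100 = true := by decide +kernel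
theorem chkP_100400 : allRange (fun p => checkPoint cert p && checkOrb cert p) 100400 100 = true := by decide +kernel
theorem chkP_103600 : allRange (fun p => checkPoint cert p && checkOrb cert p) 103600 100 = true := by decide +kernel
theorem chkP_106800 : allRange (fun p => checkPoint cert p && checkOrb cert p) 106800 100 = true := by decide +kernel
theorem chkP_110000 : allRange (fun p => checkPoint cert p && checkOrb cert p) 110000 100 = true := by decide +kernel
theorem chkP_113200 : allRange (fun p => checkPoint cert p && checkOrb cert p) 113200 100 = true := by decide +kernel
theorem chkP_116400 : allRange (fun p => checkPoint cert p && checkOrb cert p) 116400 100 = true := by decide +kernel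
theorem chkP_119600 : allRange (fun p => checkPoint cert p && checkOrb cert p) 119600 100 = true := by decide +kernel

end Cfsg.Agent.Lib.Helper28.ONData
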