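import Cfsg.Agent.Lib.Helper28.ONChk0
import Cfsg.Agent.Lib.Helper28.ONChk1
import Cfsg.Agent.Lib.Helper28.ONChk2
import Cfsg.Agent.Lib.Helper28.ONChk3
import Cfsg.Agent.Lib.Helper28.ONChk4
import Cfsg.Agent.Lib.Helper28.ONChk5
import Cfsg.Agent.Lib.Helper28.ONChk6
import Cfsg.Agent.Lib.Helper28.ONChk7
import Cfsg.Agent.Lib.Helper28.ONChk8
import Cfsg.Agent.Lib.Helper28.ONChk9
import Cfsg.Agent.Lib.Helper28.ONChk10
import Cfsg.Agent.Lib.Helper28.ONChk11
import Cfsg.Agent.Lib.Helper28.ONChk12
import Cfsg.Agent.Lib.Helper28.ONChk13
import Cfsg.Agent.Lib.Helper28.ONChk14
import Cfsg.Agent.Lib.Helper28.ONChk15
import Cfsg.Agent.Lib.Helper28.ONChk16
import Cfsg.Agent.Lib.Helper28.ONChk17
import Cfsg.Agent.Lib.Helper28.ONChk18
import Cfsg.Agent.Lib.Helper28.ONChk19
import Cfsg.Agent.Lib.Helper28.ONChk20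
import Cfsg.Agent.Lib.Helper28.ONChk21
import Cfsg.Agent.Lib.Helper28.ONChk22
import Cfsg.Agent.Lib.Helper28.ONChk23
import Cfsg.Agent.Lib.Helper28.ONChk24
import Cfsg.Agent.Lib.Helper28.ONChk25
import Cfsg.Agent.Lib.Helper28.ONChk26
import Cfsg.Agent.Lib.Helper28.ONChk27
import Cfsg.Agent.Lib.Helper28.ONChk28
import Cfsg.Agent.Lib.Helper28.ONChk29
import Cfsg.Agent.Lib.Helper28.ONChk30
import Cfsg.Agent.Lib.Helper28.ONChk31
import Cfsg.Agent.Lib.Helper28.TCOrbit

set_option autoImplicit false
set_option linter.all false
set_option Elab.async false

namespace Cfsg.Agent.Lib.Helper28.ONData

open Cfsg.Agent.Lib.Helper28

theorem chkG : checkGlobal cert = true := by decide +kernel

theorem chkR2 : checkRels2 cert = true := by decide +kernel

theorem facts_ok : ∀ i, i < cert.nF → checkFact cert i = true := by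
  intro i hi
  have hn : cert.nF = 1208137 := rfl
  rw [hn] at hi
  rcases Nat.lt_or_ge i 604000 with h1 | h1
  · skip
    rcases Nat.lt_or_ge i 302000 with h2 | h2
    · skip
      rcases Nat.lt_or_ge i 150000 with h3 | h3
      · skip
        rcases Nat.lt_or_ge i 74000 with h4 | h4
        · skip
          rcases Nat.lt_or_ge i 36000 with h5 | h5
          · skip
            rcases Nat.lt_or_ge i 18000 with h6 | h6
            · skip
              rcases Nat.lt_or_ge i 8000 with h7 | h7
              · skip
                rcases Nat.lt_or_ge i 4000 with h8 | h8
                · skip
                  rcases Nat.lt_or_ge i 2000 with h9 | h9
                  · skip
                    exact allRange_sound _ 0 2000 chkF_0 i (by omega) (by omega)
                  · skip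
                    exact allRange_sound _ 2000 2000 chkF_2000 i (by omega) (by omega)
                · skip
                  rcases Nat.lt_or_ge i 6000 with h9 | h9
                  · skip
                    exact allRange_sound _ 4000 2000 chkF_4000 i (by omega) (by omega)
                  · skip
                    exact allRange_sound _ 6000 2000 chkF_6000 i (by omega) (by omega)
              · skip
                rcases Nat.lt_or_ge i 12000 with h8 | h8
                · skip
                  rcases Nat.lt_or_ge i 10000 with h9 | h9
                  · skip
                    exact allRange_sound _ 8000 2000 chkF_8000 i (by omega) (by omega)
                  · skip
                    exact allRange_sound _ 10000 2000 chkF_10000 i (by omega) (by omega)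
                · skip
                  rcases Nat.lt_or_ge i 14000 with h9 | h9
                  · skip
                    exact allRange_sound _ 12000 2000 chkF_12000 i (by omega) (by omega)
                  · skip
                    rcases Nat.lt_or_ge i 16000 with h10 | h10
                    · skip
                      exact allRange_sound _ 14000 2000 chkF_14000 i (by omega) (by omega)
                    · skip
                      exact allRange_sound _ 16000 2000 chkF_16000 i (by omega) (by omega)
            · skip
              rcases Nat.lt_or_ge i 26000 with h7 | h7
              · skip
                rcases Nat.lt_or_ge i 22000 with h8 | h8
                · skip
                  rcases Nat.lt_or_ge i 20000 with h9 | h9
                  · skip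
                    exact allRange_sound _ 18000 2000 chkF_18000 i (by omega) (by omega)
                  · skip
                    exact allRange_sound _ 20000 2000 chkF_20000 i (by omega) (by omega)
                · skip
                  rcases Nat.lt_or_ge i 24000 with h9 | h9
                  · skip
                    exact allRange_sound _ 22000 2000 chkF_22000 i (by omega) (by omega)
                  · skip
                    exact allRange_sound _ 24000 2000 chkF_24000 i (by omega) (by omega)
              · skip
                rcases Nat.lt_or_ge i 30000 with h8 | h8
                · skip
                  rcases Nat.lt_or_ge i 28000 with h9 | h9
                  · skip
                    exact allRange_sound _ 26000 2000 chkF_26000 i (by omega) (by omega)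
                  · skip
                    exact allRange_sound _ 28000 2000 chkF_28000 i (by omega) (by omega)
                · skip
                  rcases Nat.lt_or_ge i 32000 with h9 | h9
                  · skip
                    exact allRange_sound _ 30000 2000 chkF_30000 i (by omega) (by omega)
                  · skip
                    rcases Nat.lt_or_ge i 34000 with h10 | h10
                    · skip
                      exact allRange_sound _ 32000 2000 chkF_32000 i (by omega) (by omega)
                    · skip
                      exact allRange_sound _ 34000 2000 chkF_34000 i (by omega) (by omega)
          · skip
            rcases Nat.lt_or_ge i 54000 with h6 | h6
            · skip
              rcases Nat.lt_or_ge i 44000 with h7 | h7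
              · skip
                rcases Nat.lt_or_ge i 40000 with h8 | h8
                · skip
                  rcases Nat.lt_or_ge i 38000 with h9 | h9
                  · skip
                    exact allRange_sound _ 36000 2000 chkF_36000 i (by omega) (by omega)
                  · skip
                    exact allRange_sound _ 38000 2000 chkF_38000 i (by omega) (by omega)
                · skip
                  rcases Nat.lt_or_ge i 42000 with h9 | h9
                  · skip
                    exact allRange_sound _ 40000 2000 chkF_40000 i (by omega) (by omega)
                  · skip
                    exact allRange_sound _ 42000 2000 chkF_42000 i (by omega) (by omega)
              · skip
                rcases Nat.lt_or_ge i 48000 with h8 | h8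
                · skip
                  rcases Nat.lt_or_ge i 46000 with h9 | h9
                  · skip
                    exact allRange_sound _ 44000 2000 chkF_44000 i (by omega) (by omega)
                  · skip
                    exact allRange_sound _ 46000 2000 chkF_46000 i (by omega) (by omega)
                · skip
                  rcases Nat.lt_or_ge i 50000 with h9 | h9
                  · skip
                    exact allRange_sound _ 48000 2000 chkF_48000 i (by omega) (by omega)
                  · skip
                    rcases Nat.lt_or_ge i 52000 with h10 | h10
                    · skip
                      exact allRange_sound _ 50000 2000 chkF_50000 i (by omega) (by omega)
                    · skip
                      exact allRange_sound _ 52000 2000 chkF_52000 i (by omega) (by omega)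
            · skip
              rcases Nat.lt_or_ge i 64000 with h7 | h7
              · skip
                rcases Nat.lt_or_ge i 58000 with h8 | h8
                · skip
                  rcases Nat.lt_or_ge i 56000 with h9 | h9
                  · skip
                    exact allRange_sound _ 54000 2000 chkF_54000 i (by omega) (by omega)
                  · skip
                    exact allRange_sound _ 56000 2000 chkF_56000 i (by omega) (by omega)
                · skip
                  rcases Nat.lt_or_ge i 60000 with h9 | h9
                  · skip
                    exact allRange_sound _ 58000 2000 chkF_58000 i (by omega) (by omega)
                  · skip
                    rcases Nat.lt_or_ge i 62000 with h10 | h10
                    · skip
                      exact allRange_sound _ 60000 2000 chkF_60000 i (by omega) (by omega)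
                    · skip
                      exact allRange_sound _ 62000 2000 chkF_62000 i (by omega) (by omega)
              · skip
                rcases Nat.lt_or_ge i 68000 with h8 | h8
                · skip
                  rcases Nat.lt_or_ge i 66000 with h9 | h9
                  · skip
                    exact allRange_sound _ 64000 2000 chkF_64000 i (by omega) (by omega)
                  · skip
                    exact allRange_sound _ 66000 2000 chkF_66000 i (by omega) (by omega)
                · skip
                  rcases Nat.lt_or_ge i 70000 with h9 | h9
                  · skip
                    exact allRange_sound _ 68000 2000 chkF_68000 i (by omega) (by omega)
                  · skip
                    rcases Nat.lt_or_ge i 72000 with h10 | h10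
                    · skip
                      exact allRange_sound _ 70000 2000 chkF_70000 i (by omega) (by omega)
                    · skip
                      exact allRange_sound _ 72000 2000 chkF_72000 i (by omega) (by omega)
        · skip
          rcases Nat.lt_or_ge i 112000 with h5 | h5
          · skip
            rcases Nat.lt_or_ge i 92000 with h6 | h6
            · skip
              rcases Nat.lt_or_ge i 82000 with h7 | h7
              · skip
                rcases Nat.lt_or_ge i 78000 with h8 | h8
                · skip
                  rcases Nat.lt_or_ge i 76000 with h9 | h9
                  · skip
                    exact allRange_sound _ 74000 2000 chkF_74000 i (by omega) (by omega)
                  · skip
                    exact allRange_sound _ 76000 2000 chkF_76000 i (by omega) (by omega)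
                · skip
                  rcases Nat.lt_or_ge i 80000 with h9 | h9
                  · skip
                    exact allRange_sound _ 78000 2000 chkF_78000 i (by omega) (by omega)
                  · skip
                    exact allRange_sound _ 80000 2000 chkF_80000 i (by omega) (by omega)
              · skip
                rcases Nat.lt_or_ge i 86000 with h8 | h8
                · skip
                  rcases Nat.lt_or_ge i 84000 with h9 | h9
                  · skip
                    exact allRange_sound _ 82000 2000 chkF_82000 i (by omega) (by omega)
                  · skip
                    exact allRange_sound _ 84000 2000 chkF_84000 i (by omega) (by omega)
                · skip
                  rcases Nat.lt_or_ge i 88000 with h9 | h9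
                  · skip
                    exact allRange_sound _ 86000 2000 chkF_86000 i (by omega) (by omega)
                  · skip
                    rcases Nat.lt_or_ge i 90000 with h10 | h10
                    · skip
                      exact allRange_sound _ 88000 2000 chkF_88000 i (by omega) (by omega)
                    · skip
                      exact allRange_sound _ 90000 2000 chkF_90000 i (by omega) (by omega)
            · skip
              rcases Nat.lt_or_ge i 102000 with h7 | h7
              · skip
                rcases Nat.lt_or_ge i 96000 with h8 | h8
                · skip
                  rcases Nat.lt_or_ge i 94000 with h9 | h9
                  · skip
                    exact allRange_sound _ 92000 2000 chkF_92000 i (by omega) (by omega)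
                  · skip
                    exact allRange_sound _ 94000 2000 chkF_94000 i (by omega) (by omega)
                · skip
                  rcases Nat.lt_or_ge i 98000 with h9 | h9
                  · skip
                    exact allRange_sound _ 96000 2000 chkF_96000 i (by omega) (by omega)
                  · skip
                    rcases Nat.lt_or_ge i 100000 with h10 | h10
                    · skip
                      exact allRange_sound _ 98000 2000 chkF_98000 i (by omega) (by omega)
                    · skip
                      exact allRange_sound _ 100000 2000 chkF_100000 i (by omega) (by omega)
              · skip
                rcases Nat.lt_or_ge i 106000 with h8 | h8
                · skip
                  rcases Nat.lt_or_ge i 104000 with h9 | h9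
                  · skip
                    exact allRange_sound _ 102000 2000 chkF_102000 i (by omega) (by omega)
                  · skip
                    exact allRange_sound _ 104000 2000 chkF_104000 i (by omega) (by omega)
                · skip
                  rcases Nat.lt_or_ge i 108000 with h9 | h9
                  · skip
                    exact allRange_sound _ 106000 2000 chkF_106000 i (by omega) (by omega)
                  · skip
                    rcases Nat.lt_or_ge i 110000 with h10 | h10
                    · skip
                      exact allRange_sound _ 108000 2000 chkF_108000 i (by omega) (by omega)
                    · skip
                      exact allRange_sound _ 110000 2000 chkF_110000 i (by omega) (by omega)
          · skip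
            rcases Nat.lt_or_ge i 130000 with h6 | h6
            · skip
              rcases Nat.lt_or_ge i 120000 with h7 | h7
              · skip
                rcases Nat.lt_or_ge i 116000 with h8 | h8
                · skip
                  rcases Nat.lt_or_ge i 114000 with h9 | h9
                  · skip
                    exact allRange_sound _ 112000 2000 chkF_112000 i (by omega) (by omega)
                  · skip
                    exact allRange_sound _ 114000 2000 chkF_114000 i (by omega) (by omega)
                · skip
                  rcases Nat.lt_or_ge i 118000 with h9 | h9
                  · skip
                    exact allRange_sound _ 116000 2000 chkF_116000 i (by omega) (by omega)
                  · skip
                    exact allRange_sound _ 118000 2000 chkF_118000 i (by omega) (by omega)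
              · skip
                rcases Nat.lt_or_ge i 124000 with h8 | h8
                · skip
                  rcases Nat.lt_or_ge i 122000 with h9 | h9
                  · skip
                    exact allRange_sound _ 120000 2000 chkF_120000 i (by omega) (by omega)
                  · skip
                    exact allRange_sound _ 122000 2000 chkF_122000 i (by omega) (by omega)
                · skip
                  rcases Nat.lt_or_ge i 126000 with h9 | h9
                  · skip
                    exact allRange_sound _ 124000 2000 chkF_124000 i (by omega) (by omega)
                  · skip
                    rcases Nat.lt_or_ge i 128000 with h10 | h10
                    · skip
                      exact allRange_sound _ 126000 2000 chkF_126000 i (by omega) (by omega)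
                    · skip
                      exact allRange_sound _ 128000 2000 chkF_128000 i (by omega) (by omega)
            · skip
              rcases Nat.lt_or_ge i 140000 with h7 | h7
              · skip
                rcases Nat.lt_or_ge i 134000 with h8 | h8
                · skip
                  rcases Nat.lt_or_ge i 132000 with h9 | h9
                  · skip
                    exact allRange_sound _ 130000 2000 chkF_130000 i (by omega) (by omega)
                  · skip
                    exact allRange_sound _ 132000 2000 chkF_132000 i (by omega) (by omega)
                · skip
                  rcases Nat.lt_or_ge i 136000 with h9 | h9
                  · skip
                    exact allRange_sound _ 134000 2000 chkF_134000 i (by omega) (by omega)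
                  · skip
                    rcases Nat.lt_or_ge i 138000 with h10 | h10
                    · skip
                      exact allRange_sound _ 136000 2000 chkF_136000 i (by omega) (by omega)
                    · skip
                      exact allRange_sound _ 138000 2000 chkF_138000 i (by omega) (by omega)
              · skip
                rcases Nat.lt_or_ge i 144000 with h8 | h8
                · skip
                  rcases Nat.lt_or_ge i 142000 with h9 | h9
                  · skip
                    exact allRange_sound _ 140000 2000 chkF_140000 i (by omega) (by omega)
                  · skip
                    exact allRange_sound _ 142000 2000 chkF_142000 i (by omega) (by omega)
                · skip
                  rcases Nat.lt_or_ge i 146000 with h9 | h9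
                  · skip
                    exact allRange_sound _ 144000 2000 chkF_144000 i (by omega) (by omega)
                  · skip
                    rcases Nat.lt_or_ge i 148000 with h10 | h10
                    · skip
                      exact allRange_sound _ 146000 2000 chkF_146000 i (by omega) (by omega)
                    · skip
                      exact allRange_sound _ 148000 2000 chkF_148000 i (by omega) (by omega)
      · skip
        rcases Nat.lt_or_ge i 226000 with h4 | h4
        · skip
          rcases Nat.lt_or_ge i 188000 with h5 | h5
          · skip
            rcases Nat.lt_or_ge i 168000 with h6 | h6
            · skip
              rcases Nat.lt_or_ge i 158000 with h7 | h7
              · skip
                rcases Nat.lt_or_ge i 154000 with h8 | h8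
                · skip
                  rcases Nat.lt_or_ge i 152000 with h9 | h9
                  · skip
                    exact allRange_sound _ 150000 2000 chkF_150000 i (by omega) (by omega)
                  · skip
                    exact allRange_sound _ 152000 2000 chkF_152000 i (by omega) (by omega)
                · skip
                  rcases Nat.lt_or_ge i 156000 with h9 | h9
                  · skip
                    exact allRange_sound _ 154000 2000 chkF_154000 i (by omega) (by omega)
                  · skip
                    exact allRange_sound _ 156000 2000 chkF_156000 i (by omega) (by omega)
              · skip
                rcases Nat.lt_or_ge i 162000 with h8 | h8
                · skip
                  rcases Nat.lt_or_ge i 160000 with h9 | h9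
                  · skip
                    exact allRange_sound _ 158000 2000 chkF_158000 i (by omega) (by omega)
                  · skip
                    exact allRange_sound _ 160000 2000 chkF_160000 i (by omega) (by omega)
                · skip
                  rcases Nat.lt_or_ge i 164000 with h9 | h9
                  · skip
                    exact allRange_sound _ 162000 2000 chkF_162000 i (by omega) (by omega)
                  · skip
                    rcases Nat.lt_or_ge i 166000 with h10 | h10
                    · skip
                      exact allRange_sound _ 164000 2000 chkF_164000 i (by omega) (by omega)
                    · skip
                      exact allRange_sound _ 166000 2000 chkF_166000 i (by omega) (by omega)
            · skip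
              rcases Nat.lt_or_ge i 178000 with h7 | h7
              · skip
                rcases Nat.lt_or_ge i 172000 with h8 | h8
                · skip
                  rcases Nat.lt_or_ge i 170000 with h9 | h9
                  · skip
                    exact allRange_sound _ 168000 2000 chkF_168000 i (by omega) (by omega)
                  · skip
                    exact allRange_sound _ 170000 2000 chkF_170000 i (by omega) (by omega)
                · skip
                  rcases Nat.lt_or_ge i 174000 with h9 | h9
                  · skip
                    exact allRange_sound _ 172000 2000 chkF_172000 i (by omega) (by omega)
                  · skip
                    rcases Nat.lt_or_ge i 176000 with h10 | h10
                    · skip
                      exact allRange_sound _ 174000 2000 chkF_174000 i (by omega) (by omega)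
                    · skip
                      exact allRange_sound _ 176000 2000 chkF_176000 i (by omega) (by omega)
              · skip
                rcases Nat.lt_or_ge i 182000 with h8 | h8
                · skip
                  rcases Nat.lt_or_ge i 180000 with h9 | h9
                  · skip
                    exact allRange_sound _ 178000 2000 chkF_178000 i (by omega) (by omega)
                  · skip
                    exact allRange_sound _ 180000 2000 chkF_180000 i (by omega) (by omega)
                · skip
                  rcases Nat.lt_or_ge i 184000 with h9 | h9
                  · skip
                    exact allRange_sound _ 182000 2000 chkF_182000 i (by omega) (by omega)
                  · skip
                    rcases Nat.lt_or_ge i 186000 with h10 | h10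
                    · skip
                      exact allRange_sound _ 184000 2000 chkF_184000 i (by omega) (by omega)
                    · skip
                      exact allRange_sound _ 186000 2000 chkF_186000 i (by omega) (by omega)
          · skip
            rcases Nat.lt_or_ge i 206000 with h6 | h6
            · skip
              rcases Nat.lt_or_ge i 196000 with h7 | h7
              · skip
                rcases Nat.lt_or_ge i 192000 with h8 | h8
                · skip
                  rcases Nat.lt_or_ge i 190000 with h9 | h9
                  · skip
                    exact allRange_sound _ 188000 2000 chkF_188000 i (by omega) (by omega)
                  · skip
                    exact allRange_sound _ 190000 2000 chkF_190000 i (by omega) (by omega)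
                · skip
                  rcases Nat.lt_or_ge i 194000 with h9 | h9
                  · skip
                    exact allRange_sound _ 192000 2000 chkF_192000 i (by omega) (by omega)
                  · skip
                    exact allRange_sound _ 194000 2000 chkF_194000 i (by omega) (by omega)
              · skip
                rcases Nat.lt_or_ge i 200000 with h8 | h8
                · skip
                  rcases Nat.lt_or_ge i 198000 with h9 | h9
                  · skip
                    exact allRange_sound _ 196000 2000 chkF_196000 i (by omega) (by omega)
                  · skip
                    exact allRange_sound _ 198000 2000 chkF_198000 i (by omega) (by omega)
                · skip
                  rcases Nat.lt_or_ge i 202000 with h9 | h9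
                  · skip
                    exact allRange_sound _ 200000 2000 chkF_200000 i (by omega) (by omega)
                  · skip
                    rcases Nat.lt_or_ge i 204000 with h10 | h10
                    · skip
                      exact allRange_sound _ 202000 2000 chkF_202000 i (by omega) (by omega)
                    · skip
                      exact allRange_sound _ 204000 2000 chkF_204000 i (by omega) (by omega)
            · skip
              rcases Nat.lt_or_ge i 216000 with h7 | h7
              · skip
                rcases Nat.lt_or_ge i 210000 with h8 | h8
                · skip
                  rcases Nat.lt_or_ge i 208000 with h9 | h9
                  · skip
                    exact allRange_sound _ 206000 2000 chkF_206000 i (by omega) (by omega)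
                  · skip
                    exact allRange_sound _ 208000 2000 chkF_208000 i (by omega) (by omega)
                · skip
                  rcases Nat.lt_or_ge i 212000 with h9 | h9
                  · skip
                    exact allRange_sound _ 210000 2000 chkF_210000 i (by omega) (by omega)
                  · skip
                    rcases Nat.lt_or_ge i 214000 with h10 | h10
                    · skip
                      exact allRange_sound _ 212000 2000 chkF_212000 i (by omega) (by omega)
                    · skip
                      exact allRange_sound _ 214000 2000 chkF_214000 i (by omega) (by omega)
              · skip
                rcases Nat.lt_or_ge i 220000 with h8 | h8
                · skip
                  rcases Nat.lt_or_ge i 218000 with h9 | h9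
                  · skip
                    exact allRange_sound _ 216000 2000 chkF_216000 i (by omega) (by omega)
                  · skip
                    exact allRange_sound _ 218000 2000 chkF_218000 i (by omega) (by omega)
                · skip
                  rcases Nat.lt_or_ge i 222000 with h9 | h9
                  · skip
                    exact allRange_sound _ 220000 2000 chkF_220000 i (by omega) (by omega)
                  · skip
                    rcases Nat.lt_or_ge i 224000 with h10 | h10
                    · skip
                      exact allRange_sound _ 222000 2000 chkF_222000 i (by omega) (by omega)
                    · skip
                      exact allRange_sound _ 224000 2000 chkF_224000 i (by omega) (by omega)
        · skip
          rcases Nat.lt_or_ge i 264000 with h5 | h5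
          · skip
            rcases Nat.lt_or_ge i 244000 with h6 | h6
            · skip
              rcases Nat.lt_or_ge i 234000 with h7 | h7
              · skip
                rcases Nat.lt_or_ge i 230000 with h8 | h8
                · skip
                  rcases Nat.lt_or_ge i 228000 with h9 | h9
                  · skip
                    exact allRange_sound _ 226000 2000 chkF_226000 i (by omega) (by omega)
                  · skip
                    exact allRange_sound _ 228000 2000 chkF_228000 i (by omega) (by omega)
                · skip
                  rcases Nat.lt_or_ge i 232000 with h9 | h9
                  · skip
                    exact allRange_sound _ 230000 2000 chkF_230000 i (by omega) (by omega)
                  · skip
                    exact allRange_sound _ 232000 2000 chkF_232000 i (by omega) (by omega)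
              · skip
                rcases Nat.lt_or_ge i 238000 with h8 | h8
                · skip
                  rcases Nat.lt_or_ge i 236000 with h9 | h9
                  · skip
                    exact allRange_sound _ 234000 2000 chkF_234000 i (by omega) (by omega)
                  · skip
                    exact allRange_sound _ 236000 2000 chkF_236000 i (by omega) (by omega)
                · skip
                  rcases Nat.lt_or_ge i 240000 with h9 | h9
                  · skip
                    exact allRange_sound _ 238000 2000 chkF_238000 i (by omega) (by omega)
                  · skip
                    rcases Nat.lt_or_ge i 242000 with h10 | h10
                    · skip
                      exact allRange_sound _ 240000 2000 chkF_240000 i (by omega) (by omega)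
                    · skip
                      exact allRange_sound _ 242000 2000 chkF_242000 i (by omega) (by omega)
            · skip
              rcases Nat.lt_or_ge i 254000 with h7 | h7
              · skip
                rcases Nat.lt_or_ge i 248000 with h8 | h8
                · skip
                  rcases Nat.lt_or_ge i 246000 with h9 | h9
                  · skip
                    exact allRange_sound _ 244000 2000 chkF_244000 i (by omega) (by omega)
                  · skip
                    exact allRange_sound _ 246000 2000 chkF_246000 i (by omega) (by omega)
                · skip
                  rcases Nat.lt_or_ge i 250000 with h9 | h9
                  · skip
                    exact allRange_sound _ 248000 2000 chkF_248000 i (by omega) (by omega)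
                  · skip
                    rcases Nat.lt_or_ge i 252000 with h10 | h10
                    · skip
                      exact allRange_sound _ 250000 2000 chkF_250000 i (by omega) (by omega)
                    · skip
                      exact allRange_sound _ 252000 2000 chkF_252000 i (by omega) (by omega)
              · skip
                rcases Nat.lt_or_ge i 258000 with h8 | h8
                · skip
                  rcases Nat.lt_or_ge i 256000 with h9 | h9
                  · skip
                    exact allRange_sound _ 254000 2000 chkF_254000 i (by omega) (by omega)
                  · skip
                    exact allRange_sound _ 256000 2000 chkF_256000 i (by omega) (by omega)
                · skip
                  rcases Nat.lt_or_ge i 260000 with h9 | h9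
                  · skip
                    exact allRange_sound _ 258000 2000 chkF_258000 i (by omega) (by omega)
                  · skip
                    rcases Nat.lt_or_ge i 262000 with h10 | h10
                    · skip
                      exact allRange_sound _ 260000 2000 chkF_260000 i (by omega) (by omega)
                    · skip
                      exact allRange_sound _ 262000 2000 chkF_262000 i (by omega) (by omega)
          · skip
            rcases Nat.lt_or_ge i 282000 with h6 | h6
            · skip
              rcases Nat.lt_or_ge i 272000 with h7 | h7
              · skip
                rcases Nat.lt_or_ge i 268000 with h8 | h8
                · skip
                  rcases Nat.lt_or_ge i 266000 with h9 | h9
                  · skip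
                    exact allRange_sound _ 264000 2000 chkF_264000 i (by omega) (by omega)
                  · skip
                    exact allRange_sound _ 266000 2000 chkF_266000 i (by omega) (by omega)
                · skip
                  rcases Nat.lt_or_ge i 270000 with h9 | h9
                  · skip
                    exact allRange_sound _ 268000 2000 chkF_268000 i (by omega) (by omega)
                  · skip
                    exact allRange_sound _ 270000 2000 chkF_270000 i (by omega) (by omega)
              · skip
                rcases Nat.lt_or_ge i 276000 with h8 | h8
                · skip
                  rcases Nat.lt_or_ge i 274000 with h9 | h9
                  · skip
                    exact allRange_sound _ 272000 2000 chkF_272000 i (by omega) (by omega)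
                  · skip
                    exact allRange_sound _ 274000 2000 chkF_274000 i (by omega) (by omega)
                · skip
                  rcases Nat.lt_or_ge i 278000 with h9 | h9
                  · skip
                    exact allRange_sound _ 276000 2000 chkF_276000 i (by omega) (by omega)
                  · skip
                    rcases Nat.lt_or_ge i 280000 with h10 | h10
                    · skip
                      exact allRange_sound _ 278000 2000 chkF_278000 i (by omega) (by omega)
                    · skip
                      exact allRange_sound _ 280000 2000 chkF_280000 i (by omega) (by omega)
            · skip
              rcases Nat.lt_or_ge i 292000 with h7 | h7
              · skip
                rcases Nat.lt_or_ge i 286000 with h8 | h8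
                · skip
                  rcases Nat.lt_or_ge i 284000 with h9 | h9
                  · skip
                    exact allRange_sound _ 282000 2000 chkF_282000 i (by omega) (by omega)
                  · skip
                    exact allRange_sound _ 284000 2000 chkF_284000 i (by omega) (by omega)
                · skip
                  rcases Nat.lt_or_ge i 288000 with h9 | h9
                  · skip
                    exact allRange_sound _ 286000 2000 chkF_286000 i (by omega) (by omega)
                  · skip
                    rcases Nat.lt_or_ge i 290000 with h10 | h10
                    · skip
                      exact allRange_sound _ 288000 2000 chkF_288000 i (by omega) (by omega)
                    · skip
                      exact allRange_sound _ 290000 2000 chkF_290000 i (by omega) (by omega)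
              · skip
                rcases Nat.lt_or_ge i 296000 with h8 | h8
                · skip
                  rcases Nat.lt_or_ge i 294000 with h9 | h9
                  · skip
                    exact allRange_sound _ 292000 2000 chkF_292000 i (by omega) (by omega)
                  · skip
                    exact allRange_sound _ 294000 2000 chkF_294000 i (by omega) (by omega)
                · skip
                  rcases Nat.lt_or_ge i 298000 with h9 | h9
                  · skip
                    exact allRange_sound _ 296000 2000 chkF_296000 i (by omega) (by omega)
                  · skip
                    rcases Nat.lt_or_ge i 300000 with h10 | h10
                    · skip
                      exact allRange_sound _ 298000 2000 chkF_298000 i (by omega) (by omega)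
                    · skip
                      exact allRange_sound _ 300000 2000 chkF_300000 i (by omega) (by omega)
    · skip
      rcases Nat.lt_or_ge i 452000 with h3 | h3
      · skip
        rcases Nat.lt_or_ge i 376000 with h4 | h4
        · skip
          rcases Nat.lt_or_ge i 338000 with h5 | h5
          · skip
            rcases Nat.lt_or_ge i 320000 with h6 | h6
            · skip
              rcases Nat.lt_or_ge i 310000 with h7 | h7
              · skip
                rcases Nat.lt_or_ge i 306000 with h8 | h8
                · skip
                  rcases Nat.lt_or_ge i 304000 with h9 | h9
                  · skip
                    exact allRange_sound _ 302000 2000 chkF_302000 i (by omega) (by omega)
                  · skip
                    exact allRange_sound _ 304000 2000 chkF_304000 i (by omega) (by omega)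
                · skip
                  rcases Nat.lt_or_ge i 308000 with h9 | h9
                  · skip
                    exact allRange_sound _ 306000 2000 chkF_306000 i (by omega) (by omega)
                  · skip
                    exact allRange_sound _ 308000 2000 chkF_308000 i (by omega) (by omega)
              · skip
                rcases Nat.lt_or_ge i 314000 with h8 | h8
                · skip
                  rcases Nat.lt_or_ge i 312000 with h9 | h9
                  · skip
                    exact allRange_sound _ 310000 2000 chkF_310000 i (by omega) (by omega)
                  · skip
                    exact allRange_sound _ 312000 2000 chkF_312000 i (by omega) (by omega)
                · skip
                  rcases Nat.lt_or_ge i 316000 with h9 | h9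
                  · skip
                    exact allRange_sound _ 314000 2000 chkF_314000 i (by omega) (by omega)
                  · skip
                    rcases Nat.lt_or_ge i 318000 with h10 | h10
                    · skip
                      exact allRange_sound _ 316000 2000 chkF_316000 i (by omega) (by omega)
                    · skip
                      exact allRange_sound _ 318000 2000 chkF_318000 i (by omega) (by omega)
            · skip
              rcases Nat.lt_or_ge i 328000 with h7 | h7
              · skip
                rcases Nat.lt_or_ge i 324000 with h8 | h8
                · skip
                  rcases Nat.lt_or_ge i 322000 with h9 | h9
                  · skip
                    exact allRange_sound _ 320000 2000 chkF_320000 i (by omega) (by omega)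
                  · skip
                    exact allRange_sound _ 322000 2000 chkF_322000 i (by omega) (by omega)
                · skip
                  rcases Nat.lt_or_ge i 326000 with h9 | h9
                  · skip
                    exact allRange_sound _ 324000 2000 chkF_324000 i (by omega) (by omega)
                  · skip
                    exact allRange_sound _ 326000 2000 chkF_326000 i (by omega) (by omega)
              · skip
                rcases Nat.lt_or_ge i 332000 with h8 | h8
                · skip
                  rcases Nat.lt_or_ge i 330000 with h9 | h9
                  · skip
                    exact allRange_sound _ 328000 2000 chkF_328000 i (by omega) (by omega)
                  · skip
                    exact allRange_sound _ 330000 2000 chkF_330000 i (by omega) (by omega)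
                · skip
                  rcases Nat.lt_or_ge i 334000 with h9 | h9
                  · skip
                    exact allRange_sound _ 332000 2000 chkF_332000 i (by omega) (by omega)
                  · skip
                    rcases Nat.lt_or_ge i 336000 with h10 | h10
                    · skip
                      exact allRange_sound _ 334000 2000 chkF_334000 i (by omega) (by omega)
                    · skip
                      exact allRange_sound _ 336000 2000 chkF_336000 i (by omega) (by omega)
          · skip
            rcases Nat.lt_or_ge i 356000 with h6 | h6
            · skip
              rcases Nat.lt_or_ge i 346000 with h7 | h7
              · skip
                rcases Nat.lt_or_ge i 342000 with h8 | h8
                · skip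
                  rcases Nat.lt_or_ge i 340000 with h9 | h9
                  · skip
                    exact allRange_sound _ 338000 2000 chkF_338000 i (by omega) (by omega)
                  · skip
                    exact allRange_sound _ 340000 2000 chkF_340000 i (by omega) (by omega)
                · skip
                  rcases Nat.lt_or_ge i 344000 with h9 | h9
                  · skip
                    exact allRange_sound _ 342000 2000 chkF_342000 i (by omega) (by omega)
                  · skip
                    exact allRange_sound _ 344000 2000 chkF_344000 i (by omega) (by omega)
              · skip
                rcases Nat.lt_or_ge i 350000 with h8 | h8
                · skip
                  rcases Nat.lt_or_ge i 348000 with h9 | h9
                  · skip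
                    exact allRange_sound _ 346000 2000 chkF_346000 i (by omega) (by omega)
                  · skip
                    exact allRange_sound _ 348000 2000 chkF_348000 i (by omega) (by omega)
                · skip
                  rcases Nat.lt_or_ge i 352000 with h9 | h9
                  · skip
                    exact allRange_sound _ 350000 2000 chkF_350000 i (by omega) (by omega)
                  · skip
                    rcases Nat.lt_or_ge i 354000 with h10 | h10
                    · skip
                      exact allRange_sound _ 352000 2000 chkF_352000 i (by omega) (by omega)
                    · skip
                      exact allRange_sound _ 354000 2000 chkF_354000 i (by omega) (by omega)
            · skip
              rcases Nat.lt_or_ge i 366000 with h7 | h7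
              · skip
                rcases Nat.lt_or_ge i 360000 with h8 | h8
                · skip
                  rcases Nat.lt_or_ge i 358000 with h9 | h9
                  · skip
                    exact allRange_sound _ 356000 2000 chkF_356000 i (by omega) (by omega)
                  · skip
                    exact allRange_sound _ 358000 2000 chkF_358000 i (by omega) (by omega)
                · skip
                  rcases Nat.lt_or_ge i 362000 with h9 | h9
                  · skip
                    exact allRange_sound _ 360000 2000 chkF_360000 i (by omega) (by omega)
                  · skip
                    rcases Nat.lt_or_ge i 364000 with h10 | h10
                    · skip
                      exact allRange_sound _ 362000 2000 chkF_362000 i (by omega) (by omega)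
                    · skip
                      exact allRange_sound _ 364000 2000 chkF_364000 i (by omega) (by omega)
              · skip
                rcases Nat.lt_or_ge i 370000 with h8 | h8
                · skip
                  rcases Nat.lt_or_ge i 368000 with h9 | h9
                  · skip
                    exact allRange_sound _ 366000 2000 chkF_366000 i (by omega) (by omega)
                  · skip
                    exact allRange_sound _ 368000 2000 chkF_368000 i (by omega) (by omega)
                · skip
                  rcases Nat.lt_or_ge i 372000 with h9 | h9
                  · skip
                    exact allRange_sound _ 370000 2000 chkF_370000 i (by omega) (by omega)
                  · skip
                    rcases Nat.lt_or_ge i 374000 with h10 | h10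
                    · skip
                      exact allRange_sound _ 372000 2000 chkF_372000 i (by omega) (by omega)
                    · skip
                      exact allRange_sound _ 374000 2000 chkF_374000 i (by omega) (by omega)
        · skip
          rcases Nat.lt_or_ge i 414000 with h5 | h5
          · skip
            rcases Nat.lt_or_ge i 394000 with h6 | h6
            · skip
              rcases Nat.lt_or_ge i 384000 with h7 | h7
              · skip
                rcases Nat.lt_or_ge i 380000 with h8 | h8
                · skip
                  rcases Nat.lt_or_ge i 378000 with h9 | h9
                  · skip
                    exact allRange_sound _ 376000 2000 chkF_376000 i (by omega) (by omega)
                  · skip
                    exact allRange_sound _ 378000 2000 chkF_378000 i (by omega) (by omega)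
                · skip
                  rcases Nat.lt_or_ge i 382000 with h9 | h9
                  · skip
                    exact allRange_sound _ 380000 2000 chkF_380000 i (by omega) (by omega)
                  · skip
                    exact allRange_sound _ 382000 2000 chkF_382000 i (by omega) (by omega)
              · skip
                rcases Nat.lt_or_ge i 388000 with h8 | h8
                · skip
                  rcases Nat.lt_or_ge i 386000 with h9 | h9
                  · skip
                    exact allRange_sound _ 384000 2000 chkF_384000 i (by omega) (by omega)
                  · skip
                    exact allRange_sound _ 386000 2000 chkF_386000 i (by omega) (by omega)
                · skip
                  rcases Nat.lt_or_ge i 390000 with h9 | h9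
                  · skip
                    exact allRange_sound _ 388000 2000 chkF_388000 i (by omega) (by omega)
                  · skip
                    rcases Nat.lt_or_ge i 392000 with h10 | h10
                    · skip
                      exact allRange_sound _ 390000 2000 chkF_390000 i (by omega) (by omega)
                    · skip
                      exact allRange_sound _ 392000 2000 chkF_392000 i (by omega) (by omega)
            · skip
              rcases Nat.lt_or_ge i 404000 with h7 | h7
              · skip
                rcases Nat.lt_or_ge i 398000 with h8 | h8
                · skip
                  rcases Nat.lt_or_ge i 396000 with h9 | h9
                  · skip
                    exact allRange_sound _ 394000 2000 chkF_394000 i (by omega) (by omega)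
                  · skip
                    exact allRange_sound _ 396000 2000 chkF_396000 i (by omega) (by omega)
                · skip
                  rcases Nat.lt_or_ge i 400000 with h9 | h9
                  · skip
                    exact allRange_sound _ 398000 2000 chkF_398000 i (by omega) (by omega)
                  · skip
                    rcases Nat.lt_or_ge i 402000 with h10 | h10
                    · skip
                      exact allRange_sound _ 400000 2000 chkF_400000 i (by omega) (by omega)
                    · skip
                      exact allRange_sound _ 402000 2000 chkF_402000 i (by omega) (by omega)
              · skip
                rcases Nat.lt_or_ge i 408000 with h8 | h8
                · skip
                  rcases Nat.lt_or_ge i 406000 with h9 | h9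
                  · skip
                    exact allRange_sound _ 404000 2000 chkF_404000 i (by omega) (by omega)
                  · skip
                    exact allRange_sound _ 406000 2000 chkF_406000 i (by omega) (by omega)
                · skip
                  rcases Nat.lt_or_ge i 410000 with h9 | h9
                  · skip
                    exact allRange_sound _ 408000 2000 chkF_408000 i (by omega) (by omega)
                  · skip
                    rcases Nat.lt_or_ge i 412000 with h10 | h10
                    · skip
                      exact allRange_sound _ 410000 2000 chkF_410000 i (by omega) (by omega)
                    · skip
                      exact allRange_sound _ 412000 2000 chkF_412000 i (by omega) (by omega)
          · skip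
            rcases Nat.lt_or_ge i 432000 with h6 | h6
            · skip
              rcases Nat.lt_or_ge i 422000 with h7 | h7
              · skip
                rcases Nat.lt_or_ge i 418000 with h8 | h8
                · skip
                  rcases Nat.lt_or_ge i 416000 with h9 | h9
                  · skip
                    exact allRange_sound _ 414000 2000 chkF_414000 i (by omega) (by omega)
                  · skip
                    exact allRange_sound _ 416000 2000 chkF_416000 i (by omega) (by omega)
                · skip
                  rcases Nat.lt_or_ge i 420000 with h9 | h9
                  · skip
                    exact allRange_sound _ 418000 2000 chkF_418000 i (by omega) (by omega)
                  · skip
                    exact allRange_sound _ 420000 2000 chkF_420000 i (by omega) (by omega)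
              · skip
                rcases Nat.lt_or_ge i 426000 with h8 | h8
                · skip
                  rcases Nat.lt_or_ge i 424000 with h9 | h9
                  · skip
                    exact allRange_sound _ 422000 2000 chkF_422000 i (by omega) (by omega)
                  · skip
                    exact allRange_sound _ 424000 2000 chkF_424000 i (by omega) (by omega)
                · skip
                  rcases Nat.lt_or_ge i 428000 with h9 | h9
                  · skip
                    exact allRange_sound _ 426000 2000 chkF_426000 i (by omega) (by omega)
                  · skip
                    rcases Nat.lt_or_ge i 430000 with h10 | h10
                    · skip
                      exact allRange_sound _ 428000 2000 chkF_428000 i (by omega) (by omega)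
                    · skip
                      exact allRange_sound _ 430000 2000 chkF_430000 i (by omega) (by omega)
            · skip
              rcases Nat.lt_or_ge i 442000 with h7 | h7
              · skip
                rcases Nat.lt_or_ge i 436000 with h8 | h8
                · skip
                  rcases Nat.lt_or_ge i 434000 with h9 | h9
                  · skip
                    exact allRange_sound _ 432000 2000 chkF_432000 i (by omega) (by omega)
                  · skip
                    exact allRange_sound _ 434000 2000 chkF_434000 i (by omega) (by omega)
                · skip
                  rcases Nat.lt_or_ge i 438000 with h9 | h9
                  · skip
                    exact allRange_sound _ 436000 2000 chkF_436000 i (by omega) (by omega)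
                  · skip
                    rcases Nat.lt_or_ge i 440000 with h10 | h10
                    · skip
                      exact allRange_sound _ 438000 2000 chkF_438000 i (by omega) (by omega)
                    · skip
                      exact allRange_sound _ 440000 2000 chkF_440000 i (by omega) (by omega)
              · skip
                rcases Nat.lt_or_ge i 446000 with h8 | h8
                · skip
                  rcases Nat.lt_or_ge i 444000 with h9 | h9
                  · skip
                    exact allRange_sound _ 442000 2000 chkF_442000 i (by omega) (by omega)
                  · skip
                    exact allRange_sound _ 444000 2000 chkF_444000 i (by omega) (by omega)
                · skip
                  rcases Nat.lt_or_ge i 448000 with h9 | h9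
                  · skip
                    exact allRange_sound _ 446000 2000 chkF_446000 i (by omega) (by omega)
                  · skip
                    rcases Nat.lt_or_ge i 450000 with h10 | h10
                    · skip
                      exact allRange_sound _ 448000 2000 chkF_448000 i (by omega) (by omega)
                    · skip
                      exact allRange_sound _ 450000 2000 chkF_450000 i (by omega) (by omega)
      · skip
        rcases Nat.lt_or_ge i 528000 with h4 | h4
        · skip
          rcases Nat.lt_or_ge i 490000 with h5 | h5
          · skip
            rcases Nat.lt_or_ge i 470000 with h6 | h6
            · skip
              rcases Nat.lt_or_ge i 460000 with h7 | h7
              · skip
                rcases Nat.lt_or_ge i 456000 with h8 | h8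
                · skip
                  rcases Nat.lt_or_ge i 454000 with h9 | h9
                  · skip
                    exact allRange_sound _ 452000 2000 chkF_452000 i (by omega) (by omega)
                  · skip
                    exact allRange_sound _ 454000 2000 chkF_454000 i (by omega) (by omega)
                · skip
                  rcases Nat.lt_or_ge i 458000 with h9 | h9
                  · skip
                    exact allRange_sound _ 456000 2000 chkF_456000 i (by omega) (by omega)
                  · skip
                    exact allRange_sound _ 458000 2000 chkF_458000 i (by omega) (by omega)
              · skip
                rcases Nat.lt_or_ge i 464000 with h8 | h8
                · skip
                  rcases Nat.lt_or_ge i 462000 with h9 | h9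
                  · skip
                    exact allRange_sound _ 460000 2000 chkF_460000 i (by omega) (by omega)
                  · skip
                    exact allRange_sound _ 462000 2000 chkF_462000 i (by omega) (by omega)
                · skip
                  rcases Nat.lt_or_ge i 466000 with h9 | h9
                  · skip
                    exact allRange_sound _ 464000 2000 chkF_464000 i (by omega) (by omega)
                  · skip
                    rcases Nat.lt_or_ge i 468000 with h10 | h10
                    · skip
                      exact allRange_sound _ 466000 2000 chkF_466000 i (by omega) (by omega)
                    · skip
                      exact allRange_sound _ 468000 2000 chkF_468000 i (by omega) (by omega)
            · skip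
              rcases Nat.lt_or_ge i 480000 with h7 | h7
              · skip
                rcases Nat.lt_or_ge i 474000 with h8 | h8
                · skip
                  rcases Nat.lt_or_ge i 472000 with h9 | h9
                  · skip
                    exact allRange_sound _ 470000 2000 chkF_470000 i (by omega) (by omega)
                  · skip
                    exact allRange_sound _ 472000 2000 chkF_472000 i (by omega) (by omega)
                · skip
                  rcases Nat.lt_or_ge i 476000 with h9 | h9
                  · skip
                    exact allRange_sound _ 474000 2000 chkF_474000 i (by omega) (by omega)
                  · skip
                    rcases Nat.lt_or_ge i 478000 with h10 | h10
                    · skip
                      exact allRange_sound _ 476000 2000 chkF_476000 i (by omega) (by omega)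
                    · skip
                      exact allRange_sound _ 478000 2000 chkF_478000 i (by omega) (by omega)
              · skip
                rcases Nat.lt_or_ge i 484000 with h8 | h8
                · skip
                  rcases Nat.lt_or_ge i 482000 with h9 | h9
                  · skip
                    exact allRange_sound _ 480000 2000 chkF_480000 i (by omega) (by omega)
                  · skip
                    exact allRange_sound _ 482000 2000 chkF_482000 i (by omega) (by omega)
                · skip
                  rcases Nat.lt_or_ge i 486000 with h9 | h9
                  · skip
                    exact allRange_sound _ 484000 2000 chkF_484000 i (by omega) (by omega)
                  · skip
                    rcases Nat.lt_or_ge i 488000 with h10 | h10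
                    · skip
                      exact allRange_sound _ 486000 2000 chkF_486000 i (by omega) (by omega)
                    · skip
                      exact allRange_sound _ 488000 2000 chkF_488000 i (by omega) (by omega)
          · skip
            rcases Nat.lt_or_ge i 508000 with h6 | h6
            · skip
              rcases Nat.lt_or_ge i 498000 with h7 | h7
              · skip
                rcases Nat.lt_or_ge i 494000 with h8 | h8
                · skip
                  rcases Nat.lt_or_ge i 492000 with h9 | h9
                  · skip
                    exact allRange_sound _ 490000 2000 chkF_490000 i (by omega) (by omega)
                  · skip
                    exact allRange_sound _ 492000 2000 chkF_492000 i (by omega) (by omega)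
                · skip
                  rcases Nat.lt_or_ge i 496000 with h9 | h9
                  · skip
                    exact allRange_sound _ 494000 2000 chkF_494000 i (by omega) (by omega)
                  · skip
                    exact allRange_sound _ 496000 2000 chkF_496000 i (by omega) (by omega)
              · skip
                rcases Nat.lt_or_ge i 502000 with h8 | h8
                · skip
                  rcases Nat.lt_or_ge i 500000 with h9 | h9
                  · skip
                    exact allRange_sound _ 498000 2000 chkF_498000 i (by omega) (by omega)
                  · skip
                    exact allRange_sound _ 500000 2000 chkF_500000 i (by omega) (by omega)
                · skip
                  rcases Nat.lt_or_ge i 504000 with h9 | h9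
                  · skip
                    exact allRange_sound _ 502000 2000 chkF_502000 i (by omega) (by omega)
                  · skip
                    rcases Nat.lt_or_ge i 506000 with h10 | h10
                    · skip
                      exact allRange_sound _ 504000 2000 chkF_504000 i (by omega) (by omega)
                    · skip
                      exact allRange_sound _ 506000 2000 chkF_506000 i (by omega) (by omega)
            · skip
              rcases Nat.lt_or_ge i 518000 with h7 | h7
              · skip
                rcases Nat.lt_or_ge i 512000 with h8 | h8
                · skip
                  rcases Nat.lt_or_ge i 510000 with h9 | h9
                  · skip
                    exact allRange_sound _ 508000 2000 chkF_508000 i (by omega) (by omega)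
                  · skip
                    exact allRange_sound _ 510000 2000 chkF_510000 i (by omega) (by omega)
                · skip
                  rcases Nat.lt_or_ge i 514000 with h9 | h9
                  · skip
                    exact allRange_sound _ 512000 2000 chkF_512000 i (by omega) (by omega)
                  · skip
                    rcases Nat.lt_or_ge i 516000 with h10 | h10
                    · skip
                      exact allRange_sound _ 514000 2000 chkF_514000 i (by omega) (by omega)
                    · skip
                      exact allRange_sound _ 516000 2000 chkF_516000 i (by omega) (by omega)
              · skip
                rcases Nat.lt_or_ge i 522000 with h8 | h8
                · skip
                  rcases Nat.lt_or_ge i 520000 with h9 | h9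
                  · skip
                    exact allRange_sound _ 518000 2000 chkF_518000 i (by omega) (by omega)
                  · skip
                    exact allRange_sound _ 520000 2000 chkF_520000 i (by omega) (by omega)
                · skip
                  rcases Nat.lt_or_ge i 524000 with h9 | h9
                  · skip
                    exact allRange_sound _ 522000 2000 chkF_522000 i (by omega) (by omega)
                  · skip
                    rcases Nat.lt_or_ge i 526000 with h10 | h10
                    · skip
                      exact allRange_sound _ 524000 2000 chkF_524000 i (by omega) (by omega)
                    · skip
                      exact allRange_sound _ 526000 2000 chkF_526000 i (by omega) (by omega)
        · skip
          rcases Nat.lt_or_ge i 566000 with h5 | h5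
          · skip
            rcases Nat.lt_or_ge i 546000 with h6 | h6
            · skip
              rcases Nat.lt_or_ge i 536000 with h7 | h7
              · skip
                rcases Nat.lt_or_ge i 532000 with h8 | h8
                · skip
                  rcases Nat.lt_or_ge i 530000 with h9 | h9
                  · skip
                    exact allRange_sound _ 528000 2000 chkF_528000 i (by omega) (by omega)
                  · skip
                    exact allRange_sound _ 530000 2000 chkF_530000 i (by omega) (by omega)
                · skip
                  rcases Nat.lt_or_ge i 534000 with h9 | h9
                  · skip
                    exact allRange_sound _ 532000 2000 chkF_532000 i (by omega) (by omega)
                  · skip
                    exact allRange_sound _ 534000 2000 chkF_534000 i (by omega) (by omega)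
              · skip
                rcases Nat.lt_or_ge i 540000 with h8 | h8
                · skip
                  rcases Nat.lt_or_ge i 538000 with h9 | h9
                  · skip
                    exact allRange_sound _ 536000 2000 chkF_536000 i (by omega) (by omega)
                  · skip
                    exact allRange_sound _ 538000 2000 chkF_538000 i (by omega) (by omega)
                · skip
                  rcases Nat.lt_or_ge i 542000 with h9 | h9
                  · skip
                    exact allRange_sound _ 540000 2000 chkF_540000 i (by omega) (by omega)
                  · skip
                    rcases Nat.lt_or_ge i 544000 with h10 | h10
                    · skip
                      exact allRange_sound _ 542000 2000 chkF_542000 i (by omega) (by omega)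
                    · skip
                      exact allRange_sound _ 544000 2000 chkF_544000 i (by omega) (by omega)
            · skip
              rcases Nat.lt_or_ge i 556000 with h7 | h7
              · skip
                rcases Nat.lt_or_ge i 550000 with h8 | h8
                · skip
                  rcases Nat.lt_or_ge i 548000 with h9 | h9
                  · skip
                    exact allRange_sound _ 546000 2000 chkF_546000 i (by omega) (by omega)
                  · skip
                    exact allRange_sound _ 548000 2000 chkF_548000 i (by omega) (by omega)
                · skip
                  rcases Nat.lt_or_ge i 552000 with h9 | h9
                  · skip
                    exact allRange_sound _ 550000 2000 chkF_550000 i (by omega) (by omega)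
                  · skip
                    rcases Nat.lt_or_ge i 554000 with h10 | h10
                    · skip
                      exact allRange_sound _ 552000 2000 chkF_552000 i (by omega) (by omega)
                    · skip
                      exact allRange_sound _ 554000 2000 chkF_554000 i (by omega) (by omega)
              · skip
                rcases Nat.lt_or_ge i 560000 with h8 | h8
                · skip
                  rcases Nat.lt_or_ge i 558000 with h9 | h9
                  · skip
                    exact allRange_sound _ 556000 2000 chkF_556000 i (by omega) (by omega)
                  · skip
                    exact allRange_sound _ 558000 2000 chkF_558000 i (by omega) (by omega)
                · skip
                  rcases Nat.lt_or_ge i 562000 with h9 | h9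
                  · skip
                    exact allRange_sound _ 560000 2000 chkF_560000 i (by omega) (by omega)
                  · skip
                    rcases Nat.lt_or_ge i 564000 with h10 | h10
                    · skip
                      exact allRange_sound _ 562000 2000 chkF_562000 i (by omega) (by omega)
                    · skip
                      exact allRange_sound _ 564000 2000 chkF_564000 i (by omega) (by omega)
          · skip
            rcases Nat.lt_or_ge i 584000 with h6 | h6
            · skip
              rcases Nat.lt_or_ge i 574000 with h7 | h7
              · skip
                rcases Nat.lt_or_ge i 570000 with h8 | h8
                · skip
                  rcases Nat.lt_or_ge i 568000 with h9 | h9
                  · skip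
                    exact allRange_sound _ 566000 2000 chkF_566000 i (by omega) (by omega)
                  · skip
                    exact allRange_sound _ 568000 2000 chkF_568000 i (by omega) (by omega)
                · skip
                  rcases Nat.lt_or_ge i 572000 with h9 | h9
                  · skip
                    exact allRange_sound _ 570000 2000 chkF_570000 i (by omega) (by omega)
                  · skip
                    exact allRange_sound _ 572000 2000 chkF_572000 i (by omega) (by omega)
              · skip
                rcases Nat.lt_or_ge i 578000 with h8 | h8
                · skip
                  rcases Nat.lt_or_ge i 576000 with h9 | h9
                  · skip
                    exact allRange_sound _ 574000 2000 chkF_574000 i (by omega) (by omega)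
                  · skip
                    exact allRange_sound _ 576000 2000 chkF_576000 i (by omega) (by omega)
                · skip
                  rcases Nat.lt_or_ge i 580000 with h9 | h9
                  · skip
                    exact allRange_sound _ 578000 2000 chkF_578000 i (by omega) (by omega)
                  · skip
                    rcases Nat.lt_or_ge i 582000 with h10 | h10
                    · skip
                      exact allRange_sound _ 580000 2000 chkF_580000 i (by omega) (by omega)
                    · skip
                      exact allRange_sound _ 582000 2000 chkF_582000 i (by omega) (by omega)
            · skip
              rcases Nat.lt_or_ge i 594000 with h7 | h7
              · skip
                rcases Nat.lt_or_ge i 588000 with h8 | h8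
                · skip
                  rcases Nat.lt_or_ge i 586000 with h9 | h9
                  · skip
                    exact allRange_sound _ 584000 2000 chkF_584000 i (by omega) (by omega)
                  · skip
                    exact allRange_sound _ 586000 2000 chkF_586000 i (by omega) (by omega)
                · skip
                  rcases Nat.lt_or_ge i 590000 with h9 | h9
                  · skip
                    exact allRange_sound _ 588000 2000 chkF_588000 i (by omega) (by omega)
                  · skip
                    rcases Nat.lt_or_ge i 592000 with h10 | h10
                    · skip
                      exact allRange_sound _ 590000 2000 chkF_590000 i (by omega) (by omega)
                    · skip
                      exact allRange_sound _ 592000 2000 chkF_592000 i (by omega) (by omega)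
              · skip
                rcases Nat.lt_or_ge i 598000 with h8 | h8
                · skip
                  rcases Nat.lt_or_ge i 596000 with h9 | h9
                  · skip
                    exact allRange_sound _ 594000 2000 chkF_594000 i (by omega) (by omega)
                  · skip
                    exact allRange_sound _ 596000 2000 chkF_596000 i (by omega) (by omega)
                · skip
                  rcases Nat.lt_or_ge i 600000 with h9 | h9
                  · skip
                    exact allRange_sound _ 598000 2000 chkF_598000 i (by omega) (by omega)
                  · skip
                    rcases Nat.lt_or_ge i 602000 with h10 | h10
                    · skip
                      exact allRange_sound _ 600000 2000 chkF_600000 i (by omega) (by omega)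
                    · skip
                      exact allRange_sound _ 602000 2000 chkF_602000 i (by omega) (by omega)
  · skip
    rcases Nat.lt_or_ge i 906000 with h2 | h2
    · skip
      rcases Nat.lt_or_ge i 754000 with h3 | h3
      · skip
        rcases Nat.lt_or_ge i 678000 with h4 | h4
        · skip
          rcases Nat.lt_or_ge i 640000 with h5 | h5
          · skip
            rcases Nat.lt_or_ge i 622000 with h6 | h6
            · skip
              rcases Nat.lt_or_ge i 612000 with h7 | h7
              · skip
                rcases Nat.lt_or_ge i 608000 with h8 | h8
                · skip
                  rcases Nat.lt_or_ge i 606000 with h9 | h9
                  · skip
                    exact allRange_sound _ 604000 2000 chkF_604000 i (by omega) (by omega)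
                  · skip
                    exact allRange_sound _ 606000 2000 chkF_606000 i (by omega) (by omega)
                · skip
                  rcases Nat.lt_or_ge i 610000 with h9 | h9
                  · skip
                    exact allRange_sound _ 608000 2000 chkF_608000 i (by omega) (by omega)
                  · skip
                    exact allRange_sound _ 610000 2000 chkF_610000 i (by omega) (by omega)
              · skip
                rcases Nat.lt_or_ge i 616000 with h8 | h8
                · skip
                  rcases Nat.lt_or_ge i 614000 with h9 | h9
                  · skip
                    exact allRange_sound _ 612000 2000 chkF_612000 i (by omega) (by omega)
                  · skip
                    exact allRange_sound _ 614000 2000 chkF_614000 i (by omega) (by omega)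
                · skip
                  rcases Nat.lt_or_ge i 618000 with h9 | h9
                  · skip
                    exact allRange_sound _ 616000 2000 chkF_616000 i (by omega) (by omega)
                  · skip
                    rcases Nat.lt_or_ge i 620000 with h10 | h10
                    · skip
                      exact allRange_sound _ 618000 2000 chkF_618000 i (by omega) (by omega)
                    · skip
                      exact allRange_sound _ 620000 2000 chkF_620000 i (by omega) (by omega)
            · skip
              rcases Nat.lt_or_ge i 630000 with h7 | h7
              · skip
                rcases Nat.lt_or_ge i 626000 with h8 | h8
                · skip
                  rcases Nat.lt_or_ge i 624000 with h9 | h9
                  · skip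
                    exact allRange_sound _ 622000 2000 chkF_622000 i (by omega) (by omega)
                  · skip
                    exact allRange_sound _ 624000 2000 chkF_624000 i (by omega) (by omega)
                · skip
                  rcases Nat.lt_or_ge i 628000 with h9 | h9
                  · skip
                    exact allRange_sound _ 626000 2000 chkF_626000 i (by omega) (by omega)
                  · skip
                    exact allRange_sound _ 628000 2000 chkF_628000 i (by omega) (by omega)
              · skip
                rcases Nat.lt_or_ge i 634000 with h8 | h8
                · skip
                  rcases Nat.lt_or_ge i 632000 with h9 | h9
                  · skip
                    exact allRange_sound _ 630000 2000 chkF_630000 i (by omega) (by omega)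
                  · skip
                    exact allRange_sound _ 632000 2000 chkF_632000 i (by omega) (by omega)
                · skip
                  rcases Nat.lt_or_ge i 636000 with h9 | h9
                  · skip
                    exact allRange_sound _ 634000 2000 chkF_634000 i (by omega) (by omega)
                  · skip
                    rcases Nat.lt_or_ge i 638000 with h10 | h10
                    · skip
                      exact allRange_sound _ 636000 2000 chkF_636000 i (by omega) (by omega)
                    · skip
                      exact allRange_sound _ 638000 2000 chkF_638000 i (by omega) (by omega)
          · skip
            rcases Nat.lt_or_ge i 658000 with h6 | h6
            · skip
              rcases Nat.lt_or_ge i 648000 with h7 | h7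
              · skip
                rcases Nat.lt_or_ge i 644000 with h8 | h8
                · skip
                  rcases Nat.lt_or_ge i 642000 with h9 | h9
                  · skip
                    exact allRange_sound _ 640000 2000 chkF_640000 i (by omega) (by omega)
                  · skip
                    exact allRange_sound _ 642000 2000 chkF_642000 i (by omega) (by omega)
                · skip
                  rcases Nat.lt_or_ge i 646000 with h9 | h9
                  · skip
                    exact allRange_sound _ 644000 2000 chkF_644000 i (by omega) (by omega)
                  · skip
                    exact allRange_sound _ 646000 2000 chkF_646000 i (by omega) (by omega)
              · skip
                rcases Nat.lt_or_ge i 652000 with h8 | h8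
                · skip
                  rcases Nat.lt_or_ge i 650000 with h9 | h9
                  · skip
                    exact allRange_sound _ 648000 2000 chkF_648000 i (by omega) (by omega)
                  · skip
                    exact allRange_sound _ 650000 2000 chkF_650000 i (by omega) (by omega)
                · skip
                  rcases Nat.lt_or_ge i 654000 with h9 | h9
                  · skip
                    exact allRange_sound _ 652000 2000 chkF_652000 i (by omega) (by omega)
                  · skip
                    rcases Nat.lt_or_ge i 656000 with h10 | h10
                    · skip
                      exact allRange_sound _ 654000 2000 chkF_654000 i (by omega) (by omega)
                    · skip
                      exact allRange_sound _ 656000 2000 chkF_656000 i (by omega) (by omega)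
            · skip
              rcases Nat.lt_or_ge i 668000 with h7 | h7
              · skip
                rcases Nat.lt_or_ge i 662000 with h8 | h8
                · skip
                  rcases Nat.lt_or_ge i 660000 with h9 | h9
                  · skip
                    exact allRange_sound _ 658000 2000 chkF_658000 i (by omega) (by omega)
                  · skip
                    exact allRange_sound _ 660000 2000 chkF_660000 i (by omega) (by omega)
                · skip
                  rcases Nat.lt_or_ge i 664000 with h9 | h9
                  · skip
                    exact allRange_sound _ 662000 2000 chkF_662000 i (by omega) (by omega)
                  · skip
                    rcases Nat.lt_or_ge i 666000 with h10 | h10
                    · skip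
                      exact allRange_sound _ 664000 2000 chkF_664000 i (by omega) (by omega)
                    · skip
                      exact allRange_sound _ 666000 2000 chkF_666000 i (by omega) (by omega)
              · skip
                rcases Nat.lt_or_ge i 672000 with h8 | h8
                · skip
                  rcases Nat.lt_or_ge i 670000 with h9 | h9
                  · skip
                    exact allRange_sound _ 668000 2000 chkF_668000 i (by omega) (by omega)
                  · skip
                    exact allRange_sound _ 670000 2000 chkF_670000 i (by omega) (by omega)
                · skip
                  rcases Nat.lt_or_ge i 674000 with h9 | h9
                  · skip
                    exact allRange_sound _ 672000 2000 chkF_672000 i (by omega) (by omega)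
                  · skip
                    rcases Nat.lt_or_ge i 676000 with h10 | h10
                    · skip
                      exact allRange_sound _ 674000 2000 chkF_674000 i (by omega) (by omega)
                    · skip
                      exact allRange_sound _ 676000 2000 chkF_676000 i (by omega) (by omega)
        · skip
          rcases Nat.lt_or_ge i 716000 with h5 | h5
          · skip
            rcases Nat.lt_or_ge i 696000 with h6 | h6
            · skip
              rcases Nat.lt_or_ge i 686000 with h7 | h7
              · skip
                rcases Nat.lt_or_ge i 682000 with h8 | h8
                · skip
                  rcases Nat.lt_or_ge i 680000 with h9 | h9
                  · skip
                    exact allRange_sound _ 678000 2000 chkF_678000 i (by omega) (by omega)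
                  · skip
                    exact allRange_sound _ 680000 2000 chkF_680000 i (by omega) (by omega)
                · skip
                  rcases Nat.lt_or_ge i 684000 with h9 | h9
                  · skip
                    exact allRange_sound _ 682000 2000 chkF_682000 i (by omega) (by omega)
                  · skip
                    exact allRange_sound _ 684000 2000 chkF_684000 i (by omega) (by omega)
              · skip
                rcases Nat.lt_or_ge i 690000 with h8 | h8
                · skip
                  rcases Nat.lt_or_ge i 688000 with h9 | h9
                  · skip
                    exact allRange_sound _ 686000 2000 chkF_686000 i (by omega) (by omega)
                  · skip
                    exact allRange_sound _ 688000 2000 chkF_688000 i (by omega) (by omega)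
                · skip
                  rcases Nat.lt_or_ge i 692000 with h9 | h9
                  · skip
                    exact allRange_sound _ 690000 2000 chkF_690000 i (by omega) (by omega)
                  · skip
                    rcases Nat.lt_or_ge i 694000 with h10 | h10
                    · skip
                      exact allRange_sound _ 692000 2000 chkF_692000 i (by omega) (by omega)
                    · skip
                      exact allRange_sound _ 694000 2000 chkF_694000 i (by omega) (by omega)
            · skip
              rcases Nat.lt_or_ge i 706000 with h7 | h7
              · skip
                rcases Nat.lt_or_ge i 700000 with h8 | h8
                · skip
                  rcases Nat.lt_or_ge i 698000 with h9 | h9
                  · skip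
                    exact allRange_sound _ 696000 2000 chkF_696000 i (by omega) (by omega)
                  · skip
                    exact allRange_sound _ 698000 2000 chkF_698000 i (by omega) (by omega)
                · skip
                  rcases Nat.lt_or_ge i 702000 with h9 | h9
                  · skip
                    exact allRange_sound _ 700000 2000 chkF_700000 i (by omega) (by omega)
                  · skip
                    rcases Nat.lt_or_ge i 704000 with h10 | h10
                    · skip
                      exact allRange_sound _ 702000 2000 chkF_702000 i (by omega) (by omega)
                    · skip
                      exact allRange_sound _ 704000 2000 chkF_704000 i (by omega) (by omega)
              · skip
                rcases Nat.lt_or_ge i 710000 with h8 | h8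
                · skip
                  rcases Nat.lt_or_ge i 708000 with h9 | h9
                  · skip
                    exact allRange_sound _ 706000 2000 chkF_706000 i (by omega) (by omega)
                  · skip
                    exact allRange_sound _ 708000 2000 chkF_708000 i (by omega) (by omega)
                · skip
                  rcases Nat.lt_or_ge i 712000 with h9 | h9
                  · skip
                    exact allRange_sound _ 710000 2000 chkF_710000 i (by omega) (by omega)
                  · skip
                    rcases Nat.lt_or_ge i 714000 with h10 | h10
                    · skip
                      exact allRange_sound _ 712000 2000 chkF_712000 i (by omega) (by omega)
                    · skip
                      exact allRange_sound _ 714000 2000 chkF_714000 i (by omega) (by omega)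
          · skip
            rcases Nat.lt_or_ge i 734000 with h6 | h6
            · skip
              rcases Nat.lt_or_ge i 724000 with h7 | h7
              · skip
                rcases Nat.lt_or_ge i 720000 with h8 | h8
                · skip
                  rcases Nat.lt_or_ge i 718000 with h9 | h9
                  · skip
                    exact allRange_sound _ 716000 2000 chkF_716000 i (by omega) (by omega)
                  · skip
                    exact allRange_sound _ 718000 2000 chkF_718000 i (by omega) (by omega)
                · skip
                  rcases Nat.lt_or_ge i 722000 with h9 | h9
                  · skip
                    exact allRange_sound _ 720000 2000 chkF_720000 i (by omega) (by omega)
                  · skip
                    exact allRange_sound _ 722000 2000 chkF_722000 i (by omega) (by omega)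
              · skip
                rcases Nat.lt_or_ge i 728000 with h8 | h8
                · skip
                  rcases Nat.lt_or_ge i 726000 with h9 | h9
                  · skip
                    exact allRange_sound _ 724000 2000 chkF_724000 i (by omega) (by omega)
                  · skip
                    exact allRange_sound _ 726000 2000 chkF_726000 i (by omega) (by omega)
                · skip
                  rcases Nat.lt_or_ge i 730000 with h9 | h9
                  · skip
                    exact allRange_sound _ 728000 2000 chkF_728000 i (by omega) (by omega)
                  · skip
                    rcases Nat.lt_or_ge i 732000 with h10 | h10
                    · skip
                      exact allRange_sound _ 730000 2000 chkF_730000 i (by omega) (by omega)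
                    · skip
                      exact allRange_sound _ 732000 2000 chkF_732000 i (by omega) (by omega)
            · skip
              rcases Nat.lt_or_ge i 744000 with h7 | h7
              · skip
                rcases Nat.lt_or_ge i 738000 with h8 | h8
                · skip
                  rcases Nat.lt_or_ge i 736000 with h9 | h9
                  · skip
                    exact allRange_sound _ 734000 2000 chkF_734000 i (by omega) (by omega)
                  · skip
                    exact allRange_sound _ 736000 2000 chkF_736000 i (by omega) (by omega)
                · skip
                  rcases Nat.lt_or_ge i 740000 with h9 | h9
                  · skip
                    exact allRange_sound _ 738000 2000 chkF_738000 i (by omega) (by omega)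
                  · skip
                    rcases Nat.lt_or_ge i 742000 with h10 | h10
                    · skip
                      exact allRange_sound _ 740000 2000 chkF_740000 i (by omega) (by omega)
                    · skip
                      exact allRange_sound _ 742000 2000 chkF_742000 i (by omega) (by omega)
              · skip
                rcases Nat.lt_or_ge i 748000 with h8 | h8
                · skip
                  rcases Nat.lt_or_ge i 746000 with h9 | h9
                  · skip
                    exact allRange_sound _ 744000 2000 chkF_744000 i (by omega) (by omega)
                  · skip
                    exact allRange_sound _ 746000 2000 chkF_746000 i (by omega) (by omega)
                · skip
                  rcases Nat.lt_or_ge i 750000 with h9 | h9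
                  · skip
                    exact allRange_sound _ 748000 2000 chkF_748000 i (by omega) (by omega)
                  · skip
                    rcases Nat.lt_or_ge i 752000 with h10 | h10
                    · skip
                      exact allRange_sound _ 750000 2000 chkF_750000 i (by omega) (by omega)
                    · skip
                      exact allRange_sound _ 752000 2000 chkF_752000 i (by omega) (by omega)
      · skip
        rcases Nat.lt_or_ge i 830000 with h4 | h4
        · skip
          rcases Nat.lt_or_ge i 792000 with h5 | h5
          · skip
            rcases Nat.lt_or_ge i 772000 with h6 | h6
            · skip
              rcases Nat.lt_or_ge i 762000 with h7 | h7
              · skip
                rcases Nat.lt_or_ge i 758000 with h8 | h8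
                · skip
                  rcases Nat.lt_or_ge i 756000 with h9 | h9
                  · skip
                    exact allRange_sound _ 754000 2000 chkF_754000 i (by omega) (by omega)
                  · skip
                    exact allRange_sound _ 756000 2000 chkF_756000 i (by omega) (by omega)
                · skip
                  rcases Nat.lt_or_ge i 760000 with h9 | h9
                  · skip
                    exact allRange_sound _ 758000 2000 chkF_758000 i (by omega) (by omega)
                  · skip
                    exact allRange_sound _ 760000 2000 chkF_760000 i (by omega) (by omega)
              · skip
                rcases Nat.lt_or_ge i 766000 with h8 | h8
                · skip
                  rcases Nat.lt_or_ge i 764000 with h9 | h9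
                  · skip
                    exact allRange_sound _ 762000 2000 chkF_762000 i (by omega) (by omega)
                  · skip
                    exact allRange_sound _ 764000 2000 chkF_764000 i (by omega) (by omega)
                · skip
                  rcases Nat.lt_or_ge i 768000 with h9 | h9
                  · skip
                    exact allRange_sound _ 766000 2000 chkF_766000 i (by omega) (by omega)
                  · skip
                    rcases Nat.lt_or_ge i 770000 with h10 | h10
                    · skip
                      exact allRange_sound _ 768000 2000 chkF_768000 i (by omega) (by omega)
                    · skip
                      exact allRange_sound _ 770000 2000 chkF_770000 i (by omega) (by omega)
            · skip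
              rcases Nat.lt_or_ge i 782000 with h7 | h7
              · skip
                rcases Nat.lt_or_ge i 776000 with h8 | h8
                · skip
                  rcases Nat.lt_or_ge i 774000 with h9 | h9
                  · skip
                    exact allRange_sound _ 772000 2000 chkF_772000 i (by omega) (by omega)
                  · skip
                    exact allRange_sound _ 774000 2000 chkF_774000 i (by omega) (by omega)
                · skip
                  rcases Nat.lt_or_ge i 778000 with h9 | h9
                  · skip
                    exact allRange_sound _ 776000 2000 chkF_776000 i (by omega) (by omega)
                  · skip
                    rcases Nat.lt_or_ge i 780000 with h10 | h10
                    · skip
                      exact allRange_sound _ 778000 2000 chkF_778000 i (by omega) (by omega)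
                    · skip
                      exact allRange_sound _ 780000 2000 chkF_780000 i (by omega) (by omega)
              · skip
                rcases Nat.lt_or_ge i 786000 with h8 | h8
                · skip
                  rcases Nat.lt_or_ge i 784000 with h9 | h9
                  · skip
                    exact allRange_sound _ 782000 2000 chkF_782000 i (by omega) (by omega)
                  · skip
                    exact allRange_sound _ 784000 2000 chkF_784000 i (by omega) (by omega)
                · skip
                  rcases Nat.lt_or_ge i 788000 with h9 | h9
                  · skip
                    exact allRange_sound _ 786000 2000 chkF_786000 i (by omega) (by omega)
                  · skip
                    rcases Nat.lt_or_ge i 790000 with h10 | h10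
                    · skip
                      exact allRange_sound _ 788000 2000 chkF_788000 i (by omega) (by omega)
                    · skip
                      exact allRange_sound _ 790000 2000 chkF_790000 i (by omega) (by omega)
          · skip
            rcases Nat.lt_or_ge i 810000 with h6 | h6
            · skip
              rcases Nat.lt_or_ge i 800000 with h7 | h7
              · skip
                rcases Nat.lt_or_ge i 796000 with h8 | h8
                · skip
                  rcases Nat.lt_or_ge i 794000 with h9 | h9
                  · skip
                    exact allRange_sound _ 792000 2000 chkF_792000 i (by omega) (by omega)
                  · skip
                    exact allRange_sound _ 794000 2000 chkF_794000 i (by omega) (by omega)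
                · skip
                  rcases Nat.lt_or_ge i 798000 with h9 | h9
                  · skip
                    exact allRange_sound _ 796000 2000 chkF_796000 i (by omega) (by omega)
                  · skip
                    exact allRange_sound _ 798000 2000 chkF_798000 i (by omega) (by omega)
              · skip
                rcases Nat.lt_or_ge i 804000 with h8 | h8
                · skip
                  rcases Nat.lt_or_ge i 802000 with h9 | h9
                  · skip
                    exact allRange_sound _ 800000 2000 chkF_800000 i (by omega) (by omega)
                  · skip
                    exact allRange_sound _ 802000 2000 chkF_802000 i (by omega) (by omega)
                · skip
                  rcases Nat.lt_or_ge i 806000 with h9 | h9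
                  · skip
                    exact allRange_sound _ 804000 2000 chkF_804000 i (by omega) (by omega)
                  · skip
                    rcases Nat.lt_or_ge i 808000 with h10 | h10
                    · skip
                      exact allRange_sound _ 806000 2000 chkF_806000 i (by omega) (by omega)
                    · skip
                      exact allRange_sound _ 808000 2000 chkF_808000 i (by omega) (by omega)
            · skip
              rcases Nat.lt_or_ge i 820000 with h7 | h7
              · skip
                rcases Nat.lt_or_ge i 814000 with h8 | h8
                · skip
                  rcases Nat.lt_or_ge i 812000 with h9 | h9
                  · skip
                    exact allRange_sound _ 810000 2000 chkF_810000 i (by omega) (by omega)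
                  · skip
                    exact allRange_sound _ 812000 2000 chkF_812000 i (by omega) (by omega)
                · skip
                  rcases Nat.lt_or_ge i 816000 with h9 | h9
                  · skip
                    exact allRange_sound _ 814000 2000 chkF_814000 i (by omega) (by omega)
                  · skip
                    rcases Nat.lt_or_ge i 818000 with h10 | h10
                    · skip
                      exact allRange_sound _ 816000 2000 chkF_816000 i (by omega) (by omega)
                    · skip
                      exact allRange_sound _ 818000 2000 chkF_818000 i (by omega) (by omega)
              · skip
                rcases Nat.lt_or_ge i 824000 with h8 | h8
                · skip
                  rcases Nat.lt_or_ge i 822000 with h9 | h9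
                  · skip
                    exact allRange_sound _ 820000 2000 chkF_820000 i (by omega) (by omega)
                  · skip
                    exact allRange_sound _ 822000 2000 chkF_822000 i (by omega) (by omega)
                · skip
                  rcases Nat.lt_or_ge i 826000 with h9 | h9
                  · skip
                    exact allRange_sound _ 824000 2000 chkF_824000 i (by omega) (by omega)
                  · skip
                    rcases Nat.lt_or_ge i 828000 with h10 | h10
                    · skip
                      exact allRange_sound _ 826000 2000 chkF_826000 i (by omega) (by omega)
                    · skip
                      exact allRange_sound _ 828000 2000 chkF_828000 i (by omega) (by omega)
        · skip
          rcases Nat.lt_or_ge i 868000 with h5 | h5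
          · skip
            rcases Nat.lt_or_ge i 848000 with h6 | h6
            · skip
              rcases Nat.lt_or_ge i 838000 with h7 | h7
              · skip
                rcases Nat.lt_or_ge i 834000 with h8 | h8
                · skip
                  rcases Nat.lt_or_ge i 832000 with h9 | h9
                  · skip
                    exact allRange_sound _ 830000 2000 chkF_830000 i (by omega) (by omega)
                  · skip
                    exact allRange_sound _ 832000 2000 chkF_832000 i (by omega) (by omega)
                · skip
                  rcases Nat.lt_or_ge i 836000 with h9 | h9
                  · skip
                    exact allRange_sound _ 834000 2000 chkF_834000 i (by omega) (by omega)
                  · skip
                    exact allRange_sound _ 836000 2000 chkF_836000 i (by omega) (by omega)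
              · skip
                rcases Nat.lt_or_ge i 842000 with h8 | h8
                · skip
                  rcases Nat.lt_or_ge i 840000 with h9 | h9
                  · skip
                    exact allRange_sound _ 838000 2000 chkF_838000 i (by omega) (by omega)
                  · skip
                    exact allRange_sound _ 840000 2000 chkF_840000 i (by omega) (by omega)
                · skip
                  rcases Nat.lt_or_ge i 844000 with h9 | h9
                  · skip
                    exact allRange_sound _ 842000 2000 chkF_842000 i (by omega) (by omega)
                  · skip
                    rcases Nat.lt_or_ge i 846000 with h10 | h10
                    · skip
                      exact allRange_sound _ 844000 2000 chkF_844000 i (by omega) (by omega)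
                    · skip
                      exact allRange_sound _ 846000 2000 chkF_846000 i (by omega) (by omega)
            · skip
              rcases Nat.lt_or_ge i 858000 with h7 | h7
              · skip
                rcases Nat.lt_or_ge i 852000 with h8 | h8
                · skip
                  rcases Nat.lt_or_ge i 850000 with h9 | h9
                  · skip
                    exact allRange_sound _ 848000 2000 chkF_848000 i (by omega) (by omega)
                  · skip
                    exact allRange_sound _ 850000 2000 chkF_850000 i (by omega) (by omega)
                · skip
                  rcases Nat.lt_or_ge i 854000 with h9 | h9
                  · skip
                    exact allRange_sound _ 852000 2000 chkF_852000 i (by omega) (by omega)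
                  · skip
                    rcases Nat.lt_or_ge i 856000 with h10 | h10
                    · skip
                      exact allRange_sound _ 854000 2000 chkF_854000 i (by omega) (by omega)
                    · skip
                      exact allRange_sound _ 856000 2000 chkF_856000 i (by omega) (by omega)
              · skip
                rcases Nat.lt_or_ge i 862000 with h8 | h8
                · skip
                  rcases Nat.lt_or_ge i 860000 with h9 | h9
                  · skip
                    exact allRange_sound _ 858000 2000 chkF_858000 i (by omega) (by omega)
                  · skip
                    exact allRange_sound _ 860000 2000 chkF_860000 i (by omega) (by omega)
                · skip
                  rcases Nat.lt_or_ge i 864000 with h9 | h9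
                  · skip
                    exact allRange_sound _ 862000 2000 chkF_862000 i (by omega) (by omega)
                  · skip
                    rcases Nat.lt_or_ge i 866000 with h10 | h10
                    · skip
                      exact allRange_sound _ 864000 2000 chkF_864000 i (by omega) (by omega)
                    · skip
                      exact allRange_sound _ 866000 2000 chkF_866000 i (by omega) (by omega)
          · skip
            rcases Nat.lt_or_ge i 886000 with h6 | h6
            · skip
              rcases Nat.lt_or_ge i 876000 with h7 | h7
              · skip
                rcases Nat.lt_or_ge i 872000 with h8 | h8
                · skip
                  rcases Nat.lt_or_ge i 870000 with h9 | h9
                  · skip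
                    exact allRange_sound _ 868000 2000 chkF_868000 i (by omega) (by omega)
                  · skip
                    exact allRange_sound _ 870000 2000 chkF_870000 i (by omega) (by omega)
                · skip
                  rcases Nat.lt_or_ge i 874000 with h9 | h9
                  · skip
                    exact allRange_sound _ 872000 2000 chkF_872000 i (by omega) (by omega)
                  · skip
                    exact allRange_sound _ 874000 2000 chkF_874000 i (by omega) (by omega)
              · skip
                rcases Nat.lt_or_ge i 880000 with h8 | h8
                · skip
                  rcases Nat.lt_or_ge i 878000 with h9 | h9
                  · skip
                    exact allRange_sound _ 876000 2000 chkF_876000 i (by omega) (by omega)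
                  · skip
                    exact allRange_sound _ 878000 2000 chkF_878000 i (by omega) (by omega)
                · skip
                  rcases Nat.lt_or_ge i 882000 with h9 | h9
                  · skip
                    exact allRange_sound _ 880000 2000 chkF_880000 i (by omega) (by omega)
                  · skip
                    rcases Nat.lt_or_ge i 884000 with h10 | h10
                    · skip
                      exact allRange_sound _ 882000 2000 chkF_882000 i (by omega) (by omega)
                    · skip
                      exact allRange_sound _ 884000 2000 chkF_884000 i (by omega) (by omega)
            · skip
              rcases Nat.lt_or_ge i 896000 with h7 | h7
              · skip
                rcases Nat.lt_or_ge i 890000 with h8 | h8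
                · skip
                  rcases Nat.lt_or_ge i 888000 with h9 | h9
                  · skip
                    exact allRange_sound _ 886000 2000 chkF_886000 i (by omega) (by omega)
                  · skip
                    exact allRange_sound _ 888000 2000 chkF_888000 i (by omega) (by omega)
                · skip
                  rcases Nat.lt_or_ge i 892000 with h9 | h9
                  · skip
                    exact allRange_sound _ 890000 2000 chkF_890000 i (by omega) (by omega)
                  · skip
                    rcases Nat.lt_or_ge i 894000 with h10 | h10
                    · skip
                      exact allRange_sound _ 892000 2000 chkF_892000 i (by omega) (by omega)
                    · skip
                      exact allRange_sound _ 894000 2000 chkF_894000 i (by omega) (by omega)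
              · skip
                rcases Nat.lt_or_ge i 900000 with h8 | h8
                · skip
                  rcases Nat.lt_or_ge i 898000 with h9 | h9
                  · skip
                    exact allRange_sound _ 896000 2000 chkF_896000 i (by omega) (by omega)
                  · skip
                    exact allRange_sound _ 898000 2000 chkF_898000 i (by omega) (by omega)
                · skip
                  rcases Nat.lt_or_ge i 902000 with h9 | h9
                  · skip
                    exact allRange_sound _ 900000 2000 chkF_900000 i (by omega) (by omega)
                  · skip
                    rcases Nat.lt_or_ge i 904000 with h10 | h10
                    · skip
                      exact allRange_sound _ 902000 2000 chkF_902000 i (by omega) (by omega)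
                    · skip
                      exact allRange_sound _ 904000 2000 chkF_904000 i (by omega) (by omega)
    · skip
      rcases Nat.lt_or_ge i 1058000 with h3 | h3
      · skip
        rcases Nat.lt_or_ge i 982000 with h4 | h4
        · skip
          rcases Nat.lt_or_ge i 944000 with h5 | h5
          · skip
            rcases Nat.lt_or_ge i 924000 with h6 | h6
            · skip
              rcases Nat.lt_or_ge i 914000 with h7 | h7
              · skip
                rcases Nat.lt_or_ge i 910000 with h8 | h8
                · skip
                  rcases Nat.lt_or_ge i 908000 with h9 | h9
                  · skip
                    exact allRange_sound _ 906000 2000 chkF_906000 i (by omega) (by omega)
                  · skip
                    exact allRange_sound _ 908000 2000 chkF_908000 i (by omega) (by omega)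
                · skip
                  rcases Nat.lt_or_ge i 912000 with h9 | h9
                  · skip
                    exact allRange_sound _ 910000 2000 chkF_910000 i (by omega) (by omega)
                  · skip
                    exact allRange_sound _ 912000 2000 chkF_912000 i (by omega) (by omega)
              · skip
                rcases Nat.lt_or_ge i 918000 with h8 | h8
                · skip
                  rcases Nat.lt_or_ge i 916000 with h9 | h9
                  · skip
                    exact allRange_sound _ 914000 2000 chkF_914000 i (by omega) (by omega)
                  · skip
                    exact allRange_sound _ 916000 2000 chkF_916000 i (by omega) (by omega)
                · skip
                  rcases Nat.lt_or_ge i 920000 with h9 | h9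
                  · skip
                    exact allRange_sound _ 918000 2000 chkF_918000 i (by omega) (by omega)
                  · skip
                    rcases Nat.lt_or_ge i 922000 with h10 | h10
                    · skip
                      exact allRange_sound _ 920000 2000 chkF_920000 i (by omega) (by omega)
                    · skip
                      exact allRange_sound _ 922000 2000 chkF_922000 i (by omega) (by omega)
            · skip
              rcases Nat.lt_or_ge i 934000 with h7 | h7
              · skip
                rcases Nat.lt_or_ge i 928000 with h8 | h8
                · skip
                  rcases Nat.lt_or_ge i 926000 with h9 | h9
                  · skip
                    exact allRange_sound _ 924000 2000 chkF_924000 i (by omega) (by omega)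
                  · skip
                    exact allRange_sound _ 926000 2000 chkF_926000 i (by omega) (by omega)
                · skip
                  rcases Nat.lt_or_ge i 930000 with h9 | h9
                  · skip
                    exact allRange_sound _ 928000 2000 chkF_928000 i (by omega) (by omega)
                  · skip
                    rcases Nat.lt_or_ge i 932000 with h10 | h10
                    · skip
                      exact allRange_sound _ 930000 2000 chkF_930000 i (by omega) (by omega)
                    · skip
                      exact allRange_sound _ 932000 2000 chkF_932000 i (by omega) (by omega)
              · skip
                rcases Nat.lt_or_ge i 938000 with h8 | h8
                · skip
                  rcases Nat.lt_or_ge i 936000 with h9 | h9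
                  · skip
                    exact allRange_sound _ 934000 2000 chkF_934000 i (by omega) (by omega)
                  · skip
                    exact allRange_sound _ 936000 2000 chkF_936000 i (by omega) (by omega)
                · skip
                  rcases Nat.lt_or_ge i 940000 with h9 | h9
                  · skip
                    exact allRange_sound _ 938000 2000 chkF_938000 i (by omega) (by omega)
                  · skip
                    rcases Nat.lt_or_ge i 942000 with h10 | h10
                    · skip
                      exact allRange_sound _ 940000 2000 chkF_940000 i (by omega) (by omega)
                    · skip
                      exact allRange_sound _ 942000 2000 chkF_942000 i (by omega) (by omega)
          · skip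
            rcases Nat.lt_or_ge i 962000 with h6 | h6
            · skip
              rcases Nat.lt_or_ge i 952000 with h7 | h7
              · skip
                rcases Nat.lt_or_ge i 948000 with h8 | h8
                · skip
                  rcases Nat.lt_or_ge i 946000 with h9 | h9
                  · skip
                    exact allRange_sound _ 944000 2000 chkF_944000 i (by omega) (by omega)
                  · skip
                    exact allRange_sound _ 946000 2000 chkF_946000 i (by omega) (by omega)
                · skip
                  rcases Nat.lt_or_ge i 950000 with h9 | h9
                  · skip
                    exact allRange_sound _ 948000 2000 chkF_948000 i (by omega) (by omega)
                  · skip
                    exact allRange_sound _ 950000 2000 chkF_950000 i (by omega) (by omega)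
              · skip
                rcases Nat.lt_or_ge i 956000 with h8 | h8
                · skip
                  rcases Nat.lt_or_ge i 954000 with h9 | h9
                  · skip
                    exact allRange_sound _ 952000 2000 chkF_952000 i (by omega) (by omega)
                  · skip
                    exact allRange_sound _ 954000 2000 chkF_954000 i (by omega) (by omega)
                · skip
                  rcases Nat.lt_or_ge i 958000 with h9 | h9
                  · skip
                    exact allRange_sound _ 956000 2000 chkF_956000 i (by omega) (by omega)
                  · skip
                    rcases Nat.lt_or_ge i 960000 with h10 | h10
                    · skip
                      exact allRange_sound _ 958000 2000 chkF_958000 i (by omega) (by omega)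
                    · skip
                      exact allRange_sound _ 960000 2000 chkF_960000 i (by omega) (by omega)
            · skip
              rcases Nat.lt_or_ge i 972000 with h7 | h7
              · skip
                rcases Nat.lt_or_ge i 966000 with h8 | h8
                · skip
                  rcases Nat.lt_or_ge i 964000 with h9 | h9
                  · skip
                    exact allRange_sound _ 962000 2000 chkF_962000 i (by omega) (by omega)
                  · skip
                    exact allRange_sound _ 964000 2000 chkF_964000 i (by omega) (by omega)
                · skip
                  rcases Nat.lt_or_ge i 968000 with h9 | h9
                  · skip
                    exact allRange_sound _ 966000 2000 chkF_966000 i (by omega) (by omega)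
                  · skip
                    rcases Nat.lt_or_ge i 970000 with h10 | h10
                    · skip
                      exact allRange_sound _ 968000 2000 chkF_968000 i (by omega) (by omega)
                    · skip
                      exact allRange_sound _ 970000 2000 chkF_970000 i (by omega) (by omega)
              · skip
                rcases Nat.lt_or_ge i 976000 with h8 | h8
                · skip
                  rcases Nat.lt_or_ge i 974000 with h9 | h9
                  · skip
                    exact allRange_sound _ 972000 2000 chkF_972000 i (by omega) (by omega)
                  · skip
                    exact allRange_sound _ 974000 2000 chkF_974000 i (by omega) (by omega)
                · skip
                  rcases Nat.lt_or_ge i 978000 with h9 | h9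
                  · skip
                    exact allRange_sound _ 976000 2000 chkF_976000 i (by omega) (by omega)
                  · skip
                    rcases Nat.lt_or_ge i 980000 with h10 | h10
                    · skip
                      exact allRange_sound _ 978000 2000 chkF_978000 i (by omega) (by omega)
                    · skip
                      exact allRange_sound _ 980000 2000 chkF_980000 i (by omega) (by omega)
        · skip
          rcases Nat.lt_or_ge i 1020000 with h5 | h5
          · skip
            rcases Nat.lt_or_ge i 1000000 with h6 | h6
            · skip
              rcases Nat.lt_or_ge i 990000 with h7 | h7
              · skip
                rcases Nat.lt_or_ge i 986000 with h8 | h8
                · skip
                  rcases Nat.lt_or_ge i 984000 with h9 | h9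
                  · skip
                    exact allRange_sound _ 982000 2000 chkF_982000 i (by omega) (by omega)
                  · skip
                    exact allRange_sound _ 984000 2000 chkF_984000 i (by omega) (by omega)
                · skip
                  rcases Nat.lt_or_ge i 988000 with h9 | h9
                  · skip
                    exact allRange_sound _ 986000 2000 chkF_986000 i (by omega) (by omega)
                  · skip
                    exact allRange_sound _ 988000 2000 chkF_988000 i (by omega) (by omega)
              · skip
                rcases Nat.lt_or_ge i 994000 with h8 | h8
                · skip
                  rcases Nat.lt_or_ge i 992000 with h9 | h9
                  · skip
                    exact allRange_sound _ 990000 2000 chkF_990000 i (by omega) (by omega)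
                  · skip
                    exact allRange_sound _ 992000 2000 chkF_992000 i (by omega) (by omega)
                · skip
                  rcases Nat.lt_or_ge i 996000 with h9 | h9
                  · skip
                    exact allRange_sound _ 994000 2000 chkF_994000 i (by omega) (by omega)
                  · skip
                    rcases Nat.lt_or_ge i 998000 with h10 | h10
                    · skip
                      exact allRange_sound _ 996000 2000 chkF_996000 i (by omega) (by omega)
                    · skip
                      exact allRange_sound _ 998000 2000 chkF_998000 i (by omega) (by omega)
            · skip
              rcases Nat.lt_or_ge i 1010000 with h7 | h7
              · skip
                rcases Nat.lt_or_ge i 1004000 with h8 | h8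
                · skip
                  rcases Nat.lt_or_ge i 1002000 with h9 | h9
                  · skip
                    exact allRange_sound _ 1000000 2000 chkF_1000000 i (by omega) (by omega)
                  · skip
                    exact allRange_sound _ 1002000 2000 chkF_1002000 i (by omega) (by omega)
                · skip
                  rcases Nat.lt_or_ge i 1006000 with h9 | h9
                  · skip
                    exact allRange_sound _ 1004000 2000 chkF_1004000 i (by omega) (by omega)
                  · skip
                    rcases Nat.lt_or_ge i 1008000 with h10 | h10
                    · skip
                      exact allRange_sound _ 1006000 2000 chkF_1006000 i (by omega) (by omega)
                    · skip
                      exact allRange_sound _ 1008000 2000 chkF_1008000 i (by omega) (by omega)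
              · skip
                rcases Nat.lt_or_ge i 1014000 with h8 | h8
                · skip
                  rcases Nat.lt_or_ge i 1012000 with h9 | h9
                  · skip
                    exact allRange_sound _ 1010000 2000 chkF_1010000 i (by omega) (by omega)
                  · skip
                    exact allRange_sound _ 1012000 2000 chkF_1012000 i (by omega) (by omega)
                · skip
                  rcases Nat.lt_or_ge i 1016000 with h9 | h9
                  · skip
                    exact allRange_sound _ 1014000 2000 chkF_1014000 i (by omega) (by omega)
                  · skip
                    rcases Nat.lt_or_ge i 1018000 with h10 | h10
                    · skip
                      exact allRange_sound _ 1016000 2000 chkF_1016000 i (by omega) (by omega)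
                    · skip
                      exact allRange_sound _ 1018000 2000 chkF_1018000 i (by omega) (by omega)
          · skip
            rcases Nat.lt_or_ge i 1038000 with h6 | h6
            · skip
              rcases Nat.lt_or_ge i 1028000 with h7 | h7
              · skip
                rcases Nat.lt_or_ge i 1024000 with h8 | h8
                · skip
                  rcases Nat.lt_or_ge i 1022000 with h9 | h9
                  · skip
                    exact allRange_sound _ 1020000 2000 chkF_1020000 i (by omega) (by omega)
                  · skip
                    exact allRange_sound _ 1022000 2000 chkF_1022000 i (by omega) (by omega)
                · skip
                  rcases Nat.lt_or_ge i 1026000 with h9 | h9
                  · skip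
                    exact allRange_sound _ 1024000 2000 chkF_1024000 i (by omega) (by omega)
                  · skip
                    exact allRange_sound _ 1026000 2000 chkF_1026000 i (by omega) (by omega)
              · skip
                rcases Nat.lt_or_ge i 1032000 with h8 | h8
                · skip
                  rcases Nat.lt_or_ge i 1030000 with h9 | h9
                  · skip
                    exact allRange_sound _ 1028000 2000 chkF_1028000 i (by omega) (by omega)
                  · skip
                    exact allRange_sound _ 1030000 2000 chkF_1030000 i (by omega) (by omega)
                · skip
                  rcases Nat.lt_or_ge i 1034000 with h9 | h9
                  · skip
                    exact allRange_sound _ 1032000 2000 chkF_1032000 i (by omega) (by omega)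
                  · skip
                    rcases Nat.lt_or_ge i 1036000 with h10 | h10
                    · skip
                      exact allRange_sound _ 1034000 2000 chkF_1034000 i (by omega) (by omega)
                    · skip
                      exact allRange_sound _ 1036000 2000 chkF_1036000 i (by omega) (by omega)
            · skip
              rcases Nat.lt_or_ge i 1048000 with h7 | h7
              · skip
                rcases Nat.lt_or_ge i 1042000 with h8 | h8
                · skip
                  rcases Nat.lt_or_ge i 1040000 with h9 | h9
                  · skip
                    exact allRange_sound _ 1038000 2000 chkF_1038000 i (by omega) (by omega)
                  · skip
                    exact allRange_sound _ 1040000 2000 chkF_1040000 i (by omega) (by omega)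
                · skip
                  rcases Nat.lt_or_ge i 1044000 with h9 | h9
                  · skip
                    exact allRange_sound _ 1042000 2000 chkF_1042000 i (by omega) (by omega)
                  · skip
                    rcases Nat.lt_or_ge i 1046000 with h10 | h10
                    · skip
                      exact allRange_sound _ 1044000 2000 chkF_1044000 i (by omega) (by omega)
                    · skip
                      exact allRange_sound _ 1046000 2000 chkF_1046000 i (by omega) (by omega)
              · skip
                rcases Nat.lt_or_ge i 1052000 with h8 | h8
                · skip
                  rcases Nat.lt_or_ge i 1050000 with h9 | h9
                  · skip
                    exact allRange_sound _ 1048000 2000 chkF_1048000 i (by omega) (by omega)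
                  · skip
                    exact allRange_sound _ 1050000 2000 chkF_1050000 i (by omega) (by omega)
                · skip
                  rcases Nat.lt_or_ge i 1054000 with h9 | h9
                  · skip
                    exact allRange_sound _ 1052000 2000 chkF_1052000 i (by omega) (by omega)
                  · skip
                    rcases Nat.lt_or_ge i 1056000 with h10 | h10
                    · skip
                      exact allRange_sound _ 1054000 2000 chkF_1054000 i (by omega) (by omega)
                    · skip
                      exact allRange_sound _ 1056000 2000 chkF_1056000 i (by omega) (by omega)
      · skip
        rcases Nat.lt_or_ge i 1134000 with h4 | h4
        · skip
          rcases Nat.lt_or_ge i 1096000 with h5 | h5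
          · skip
            rcases Nat.lt_or_ge i 1076000 with h6 | h6
            · skip
              rcases Nat.lt_or_ge i 1066000 with h7 | h7
              · skip
                rcases Nat.lt_or_ge i 1062000 with h8 | h8
                · skip
                  rcases Nat.lt_or_ge i 1060000 with h9 | h9
                  · skip
                    exact allRange_sound _ 1058000 2000 chkF_1058000 i (by omega) (by omega)
                  · skip
                    exact allRange_sound _ 1060000 2000 chkF_1060000 i (by omega) (by omega)
                · skip
                  rcases Nat.lt_or_ge i 1064000 with h9 | h9
                  · skip
                    exact allRange_sound _ 1062000 2000 chkF_1062000 i (by omega) (by omega)
                  · skip
                    exact allRange_sound _ 1064000 2000 chkF_1064000 i (by omega) (by omega)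
              · skip
                rcases Nat.lt_or_ge i 1070000 with h8 | h8
                · skip
                  rcases Nat.lt_or_ge i 1068000 with h9 | h9
                  · skip
                    exact allRange_sound _ 1066000 2000 chkF_1066000 i (by omega) (by omega)
                  · skip
                    exact allRange_sound _ 1068000 2000 chkF_1068000 i (by omega) (by omega)
                · skip
                  rcases Nat.lt_or_ge i 1072000 with h9 | h9
                  · skip
                    exact allRange_sound _ 1070000 2000 chkF_1070000 i (by omega) (by omega)
                  · skip
                    rcases Nat.lt_or_ge i 1074000 with h10 | h10
                    · skip
                      exact allRange_sound _ 1072000 2000 chkF_1072000 i (by omega) (by omega)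
                    · skip
                      exact allRange_sound _ 1074000 2000 chkF_1074000 i (by omega) (by omega)
            · skip
              rcases Nat.lt_or_ge i 1086000 with h7 | h7
              · skip
                rcases Nat.lt_or_ge i 1080000 with h8 | h8
                · skip
                  rcases Nat.lt_or_ge i 1078000 with h9 | h9
                  · skip
                    exact allRange_sound _ 1076000 2000 chkF_1076000 i (by omega) (by omega)
                  · skip
                    exact allRange_sound _ 1078000 2000 chkF_1078000 i (by omega) (by omega)
                · skip
                  rcases Nat.lt_or_ge i 1082000 with h9 | h9
                  · skip
                    exact allRange_sound _ 1080000 2000 chkF_1080000 i (by omega) (by omega)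
                  · skip
                    rcases Nat.lt_or_ge i 1084000 with h10 | h10
                    · skip
                      exact allRange_sound _ 1082000 2000 chkF_1082000 i (by omega) (by omega)
                    · skip
                      exact allRange_sound _ 1084000 2000 chkF_1084000 i (by omega) (by omega)
              · skip
                rcases Nat.lt_or_ge i 1090000 with h8 | h8
                · skip
                  rcases Nat.lt_or_ge i 1088000 with h9 | h9
                  · skip
                    exact allRange_sound _ 1086000 2000 chkF_1086000 i (by omega) (by omega)
                  · skip
                    exact allRange_sound _ 1088000 2000 chkF_1088000 i (by omega) (by omega)
                · skip
                  rcases Nat.lt_or_ge i 1092000 with h9 | h9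
                  · skip
                    exact allRange_sound _ 1090000 2000 chkF_1090000 i (by omega) (by omega)
                  · skip
                    rcases Nat.lt_or_ge i 1094000 with h10 | h10
                    · skip
                      exact allRange_sound _ 1092000 2000 chkF_1092000 i (by omega) (by omega)
                    · skip
                      exact allRange_sound _ 1094000 2000 chkF_1094000 i (by omega) (by omega)
          · skip
            rcases Nat.lt_or_ge i 1114000 with h6 | h6
            · skip
              rcases Nat.lt_or_ge i 1104000 with h7 | h7
              · skip
                rcases Nat.lt_or_ge i 1100000 with h8 | h8
                · skip
                  rcases Nat.lt_or_ge i 1098000 with h9 | h9
                  · skip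
                    exact allRange_sound _ 1096000 2000 chkF_1096000 i (by omega) (by omega)
                  · skip
                    exact allRange_sound _ 1098000 2000 chkF_1098000 i (by omega) (by omega)
                · skip
                  rcases Nat.lt_or_ge i 1102000 with h9 | h9
                  · skip
                    exact allRange_sound _ 1100000 2000 chkF_1100000 i (by omega) (by omega)
                  · skip
                    exact allRange_sound _ 1102000 2000 chkF_1102000 i (by omega) (by omega)
              · skip
                rcases Nat.lt_or_ge i 1108000 with h8 | h8
                · skip
                  rcases Nat.lt_or_ge i 1106000 with h9 | h9
                  · skip
                    exact allRange_sound _ 1104000 2000 chkF_1104000 i (by omega) (by omega)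
                  · skip
                    exact allRange_sound _ 1106000 2000 chkF_1106000 i (by omega) (by omega)
                · skip
                  rcases Nat.lt_or_ge i 1110000 with h9 | h9
                  · skip
                    exact allRange_sound _ 1108000 2000 chkF_1108000 i (by omega) (by omega)
                  · skip
                    rcases Nat.lt_or_ge i 1112000 with h10 | h10
                    · skip
                      exact allRange_sound _ 1110000 2000 chkF_1110000 i (by omega) (by omega)
                    · skip
                      exact allRange_sound _ 1112000 2000 chkF_1112000 i (by omega) (by omega)
            · skip
              rcases Nat.lt_or_ge i 1124000 with h7 | h7
              · skip
                rcases Nat.lt_or_ge i 1118000 with h8 | h8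
                · skip
                  rcases Nat.lt_or_ge i 1116000 with h9 | h9
                  · skip
                    exact allRange_sound _ 1114000 2000 chkF_1114000 i (by omega) (by omega)
                  · skip
                    exact allRange_sound _ 1116000 2000 chkF_1116000 i (by omega) (by omega)
                · skip
                  rcases Nat.lt_or_ge i 1120000 with h9 | h9
                  · skip
                    exact allRange_sound _ 1118000 2000 chkF_1118000 i (by omega) (by omega)
                  · skip
                    rcases Nat.lt_or_ge i 1122000 with h10 | h10
                    · skip
                      exact allRange_sound _ 1120000 2000 chkF_1120000 i (by omega) (by omega)
                    · skip
                      exact allRange_sound _ 1122000 2000 chkF_1122000 i (by omega) (by omega)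
              · skip
                rcases Nat.lt_or_ge i 1128000 with h8 | h8
                · skip
                  rcases Nat.lt_or_ge i 1126000 with h9 | h9
                  · skip
                    exact allRange_sound _ 1124000 2000 chkF_1124000 i (by omega) (by omega)
                  · skip
                    exact allRange_sound _ 1126000 2000 chkF_1126000 i (by omega) (by omega)
                · skip
                  rcases Nat.lt_or_ge i 1130000 with h9 | h9
                  · skip
                    exact allRange_sound _ 1128000 2000 chkF_1128000 i (by omega) (by omega)
                  · skip
                    rcases Nat.lt_or_ge i 1132000 with h10 | h10
                    · skip
                      exact allRange_sound _ 1130000 2000 chkF_1130000 i (by omega) (by omega)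
                    · skip
                      exact allRange_sound _ 1132000 2000 chkF_1132000 i (by omega) (by omega)
        · skip
          rcases Nat.lt_or_ge i 1172000 with h5 | h5
          · skip
            rcases Nat.lt_or_ge i 1152000 with h6 | h6
            · skip
              rcases Nat.lt_or_ge i 1142000 with h7 | h7
              · skip
                rcases Nat.lt_or_ge i 1138000 with h8 | h8
                · skip
                  rcases Nat.lt_or_ge i 1136000 with h9 | h9
                  · skip
                    exact allRange_sound _ 1134000 2000 chkF_1134000 i (by omega) (by omega)
                  · skip
                    exact allRange_sound _ 1136000 2000 chkF_1136000 i (by omega) (by omega)
                · skip
                  rcases Nat.lt_or_ge i 1140000 with h9 | h9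
                  · skip
                    exact allRange_sound _ 1138000 2000 chkF_1138000 i (by omega) (by omega)
                  · skip
                    exact allRange_sound _ 1140000 2000 chkF_1140000 i (by omega) (by omega)
              · skip
                rcases Nat.lt_or_ge i 1146000 with h8 | h8
                · skip
                  rcases Nat.lt_or_ge i 1144000 with h9 | h9
                  · skip
                    exact allRange_sound _ 1142000 2000 chkF_1142000 i (by omega) (by omega)
                  · skip
                    exact allRange_sound _ 1144000 2000 chkF_1144000 i (by omega) (by omega)
                · skip
                  rcases Nat.lt_or_ge i 1148000 with h9 | h9
                  · skip
                    exact allRange_sound _ 1146000 2000 chkF_1146000 i (by omega) (by omega)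
                  · skip
                    rcases Nat.lt_or_ge i 1150000 with h10 | h10
                    · skip
                      exact allRange_sound _ 1148000 2000 chkF_1148000 i (by omega) (by omega)
                    · skip
                      exact allRange_sound _ 1150000 2000 chkF_1150000 i (by omega) (by omega)
            · skip
              rcases Nat.lt_or_ge i 1162000 with h7 | h7
              · skip
                rcases Nat.lt_or_ge i 1156000 with h8 | h8
                · skip
                  rcases Nat.lt_or_ge i 1154000 with h9 | h9
                  · skip
                    exact allRange_sound _ 1152000 2000 chkF_1152000 i (by omega) (by omega)
                  · skip
                    exact allRange_sound _ 1154000 2000 chkF_1154000 i (by omega) (by omega)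
                · skip
                  rcases Nat.lt_or_ge i 1158000 with h9 | h9
                  · skip
                    exact allRange_sound _ 1156000 2000 chkF_1156000 i (by omega) (by omega)
                  · skip
                    rcases Nat.lt_or_ge i 1160000 with h10 | h10
                    · skip
                      exact allRange_sound _ 1158000 2000 chkF_1158000 i (by omega) (by omega)
                    · skip
                      exact allRange_sound _ 1160000 2000 chkF_1160000 i (by omega) (by omega)
              · skip
                rcases Nat.lt_or_ge i 1166000 with h8 | h8
                · skip
                  rcases Nat.lt_or_ge i 1164000 with h9 | h9
                  · skip
                    exact allRange_sound _ 1162000 2000 chkF_1162000 i (by omega) (by omega)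
                  · skip
                    exact allRange_sound _ 1164000 2000 chkF_1164000 i (by omega) (by omega)
                · skip
                  rcases Nat.lt_or_ge i 1168000 with h9 | h9
                  · skip
                    exact allRange_sound _ 1166000 2000 chkF_1166000 i (by omega) (by omega)
                  · skip
                    rcases Nat.lt_or_ge i 1170000 with h10 | h10
                    · skip
                      exact allRange_sound _ 1168000 2000 chkF_1168000 i (by omega) (by omega)
                    · skip
                      exact allRange_sound _ 1170000 2000 chkF_1170000 i (by omega) (by omega)
          · skip
            rcases Nat.lt_or_ge i 1190000 with h6 | h6
            · skip
              rcases Nat.lt_or_ge i 1180000 with h7 | h7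
              · skip
                rcases Nat.lt_or_ge i 1176000 with h8 | h8
                · skip
                  rcases Nat.lt_or_ge i 1174000 with h9 | h9
                  · skip
                    exact allRange_sound _ 1172000 2000 chkF_1172000 i (by omega) (by omega)
                  · skip
                    exact allRange_sound _ 1174000 2000 chkF_1174000 i (by omega) (by omega)
                · skip
                  rcases Nat.lt_or_ge i 1178000 with h9 | h9
                  · skip
                    exact allRange_sound _ 1176000 2000 chkF_1176000 i (by omega) (by omega)
                  · skip
                    exact allRange_sound _ 1178000 2000 chkF_1178000 i (by omega) (by omega)
              · skip
                rcases Nat.lt_or_ge i 1184000 with h8 | h8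
                · skip
                  rcases Nat.lt_or_ge i 1182000 with h9 | h9
                  · skip
                    exact allRange_sound _ 1180000 2000 chkF_1180000 i (by omega) (by omega)
                  · skip
                    exact allRange_sound _ 1182000 2000 chkF_1182000 i (by omega) (by omega)
                · skip
                  rcases Nat.lt_or_ge i 1186000 with h9 | h9
                  · skip
                    exact allRange_sound _ 1184000 2000 chkF_1184000 i (by omega) (by omega)
                  · skip
                    rcases Nat.lt_or_ge i 1188000 with h10 | h10
                    · skip
                      exact allRange_sound _ 1186000 2000 chkF_1186000 i (by omega) (by omega)
                    · skip
                      exact allRange_sound _ 1188000 2000 chkF_1188000 i (by omega) (by omega)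
            · skip
              rcases Nat.lt_or_ge i 1200000 with h7 | h7
              · skip
                rcases Nat.lt_or_ge i 1194000 with h8 | h8
                · skip
                  rcases Nat.lt_or_ge i 1192000 with h9 | h9
                  · skip
                    exact allRange_sound _ 1190000 2000 chkF_1190000 i (by omega) (by omega)
                  · skip
                    exact allRange_sound _ 1192000 2000 chkF_1192000 i (by omega) (by omega)
                · skip
                  rcases Nat.lt_or_ge i 1196000 with h9 | h9
                  · skip
                    exact allRange_sound _ 1194000 2000 chkF_1194000 i (by omega) (by omega)
                  · skip
                    rcases Nat.lt_or_ge i 1198000 with h10 | h10
                    · skip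
                      exact allRange_sound _ 1196000 2000 chkF_1196000 i (by omega) (by omega)
                    · skip
                      exact allRange_sound _ 1198000 2000 chkF_1198000 i (by omega) (by omega)
              · skip
                rcases Nat.lt_or_ge i 1204000 with h8 | h8
                · skip
                  rcases Nat.lt_or_ge i 1202000 with h9 | h9
                  · skip
                    exact allRange_sound _ 1200000 2000 chkF_1200000 i (by omega) (by omega)
                  · skip
                    exact allRange_sound _ 1202000 2000 chkF_1202000 i (by omega) (by omega)
                · skip
                  rcases Nat.lt_or_ge i 1206000 with h9 | h9
                  · skip
                    exact allRange_sound _ 1204000 2000 chkF_1204000 i (by omega) (by omega)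
                  · skip
                    rcases Nat.lt_or_ge i 1208000 with h10 | h10
                    · skip
                      exact allRange_sound _ 1206000 2000 chkF_1206000 i (by omega) (by omega)
                    · skip
                      exact allRange_sound _ 1208000 137 chkF_1208000 i (by omega) (by omega)

theorem pts_both : ∀ p, p < cert.n → (checkPoint cert p && checkOrb cert p) = true := by
  intro i hi
  have hn : cert.n = 122760 := rfl
  rw [hn] at hi
  rcases Nat.lt_or_ge i 61400 with h1 | h1
  · skip
    rcases Nat.lt_or_ge i 30700 with h2 | h2
    · skip
      rcases Nat.lt_or_ge i 15300 with h3 | h3
      · skip
        rcases Nat.lt_or_ge i 7600 with h4 | h4
        · skip
          rcases Nat.lt_or_ge i 3800 with h5 | h5
          · skip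
            rcases Nat.lt_or_ge i 1900 with h6 | h6
            · skip
              rcases Nat.lt_or_ge i 900 with h7 | h7
              · skip
                rcases Nat.lt_or_ge i 400 with h8 | h8
                · skip
                  rcases Nat.lt_or_ge i 200 with h9 | h9
                  · skip
                    rcases Nat.lt_or_ge i 100 with h10 | h10
                    · skip
                      exact allRange_sound _ 0 100 chkP_0 i (by omega) (by omega)
                    · skip
                      exact allRange_sound _ 100 100 chkP_100 i (by omega) (by omega)
                  · skip
                    rcases Nat.lt_or_ge i 300 with h10 | h10
                    · skip
                      exact allRange_sound _ 200 100 chkP_200 i (by omega) (by omega)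
                    · skip
                      exact allRange_sound _ 300 100 chkP_300 i (by omega) (by omega)
                · skip
                  rcases Nat.lt_or_ge i 600 with h9 | h9
                  · skip
                    rcases Nat.lt_or_ge i 500 with h10 | h10
                    · skip
                      exact allRange_sound _ 400 100 chkP_400 i (by omega) (by omega)
                    · skip
                      exact allRange_sound _ 500 100 chkP_500 i (by omega) (by omega)
                  · skip
                    rcases Nat.lt_or_ge i 700 with h10 | h10
                    · skip
                      exact allRange_sound _ 600 100 chkP_600 i (by omega) (by omega)
                    · skip
                      rcases Nat.lt_or_ge i 800 with h11 | h11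
                      · skip
                        exact allRange_sound _ 700 100 chkP_700 i (by omega) (by omega)
                      · skip
                        exact allRange_sound _ 800 100 chkP_800 i (by omega) (by omega)
              · skip
                rcases Nat.lt_or_ge i 1400 with h8 | h8
                · skip
                  rcases Nat.lt_or_ge i 1100 with h9 | h9
                  · skip
                    rcases Nat.lt_or_ge i 1000 with h10 | h10
                    · skip
                      exact allRange_sound _ 900 100 chkP_900 i (by omega) (by omega)
                    · skip
                      exact allRange_sound _ 1000 100 chkP_1000 i (by omega) (by omega)
                  · skip
                    rcases Nat.lt_or_ge i 1200 with h10 | h10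
                    · skip
                      exact allRange_sound _ 1100 100 chkP_1100 i (by omega) (by omega)
                    · skip
                      rcases Nat.lt_or_ge i 1300 with h11 | h11
                      · skip
                        exact allRange_sound _ 1200 100 chkP_1200 i (by omega) (by omega)
                      · skip
                        exact allRange_sound _ 1300 100 chkP_1300 i (by omega) (by omega)
                · skip
                  rcases Nat.lt_or_ge i 1600 with h9 | h9
                  · skip
                    rcases Nat.lt_or_ge i 1500 with h10 | h10
                    · skip
                      exact allRange_sound _ 1400 100 chkP_1400 i (by omega) (by omega)
                    · skip
                      exact allRange_sound _ 1500 100 chkP_1500 i (by omega) (by omega)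
                  · skip
                    rcases Nat.lt_or_ge i 1700 with h10 | h10
                    · skip
                      exact allRange_sound _ 1600 100 chkP_1600 i (by omega) (by omega)
                    · skip
                      rcases Nat.lt_or_ge i 1800 with h11 | h11
                      · skip
                        exact allRange_sound _ 1700 100 chkP_1700 i (by omega) (by omega)
                      · skip
                        exact allRange_sound _ 1800 100 chkP_1800 i (by omega) (by omega)
            · skip
              rcases Nat.lt_or_ge i 2800 with h7 | h7
              · skip
                rcases Nat.lt_or_ge i 2300 with h8 | h8
                · skip
                  rcases Nat.lt_or_ge i 2100 with h9 | h9
                  · skip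
                    rcases Nat.lt_or_ge i 2000 with h10 | h10
                    · skip
                      exact allRange_sound _ 1900 100 chkP_1900 i (by omega) (by omega)
                    · skip
                      exact allRange_sound _ 2000 100 chkP_2000 i (by omega) (by omega)
                  · skip
                    rcases Nat.lt_or_ge i 2200 with h10 | h10
                    · skip
                      exact allRange_sound _ 2100 100 chkP_2100 i (by omega) (by omega)
                    · skip
                      exact allRange_sound _ 2200 100 chkP_2200 i (by omega) (by omega)
                · skip
                  rcases Nat.lt_or_ge i 2500 with h9 | h9
                  · skip
                    rcases Nat.lt_or_ge i 2400 with h10 | h10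
                    · skip
                      exact allRange_sound _ 2300 100 chkP_2300 i (by omega) (by omega)
                    · skip
                      exact allRange_sound _ 2400 100 chkP_2400 i (by omega) (by omega)
                  · skip
                    rcases Nat.lt_or_ge i 2600 with h10 | h10
                    · skip
                      exact allRange_sound _ 2500 100 chkP_2500 i (by omega) (by omega)
                    · skip
                      rcases Nat.lt_or_ge i 2700 with h11 | h11
                      · skip
                        exact allRange_sound _ 2600 100 chkP_2600 i (by omega) (by omega)
                      · skip
                        exact allRange_sound _ 2700 100 chkP_2700 i (by omega) (by omega)
              · skip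
                rcases Nat.lt_or_ge i 3300 with h8 | h8
                · skip
                  rcases Nat.lt_or_ge i 3000 with h9 | h9
                  · skip
                    rcases Nat.lt_or_ge i 2900 with h10 | h10
                    · skip
                      exact allRange_sound _ 2800 100 chkP_2800 i (by omega) (by omega)
                    · skip
                      exact allRange_sound _ 2900 100 chkP_2900 i (by omega) (by omega)
                  · skip
                    rcases Nat.lt_or_ge i 3100 with h10 | h10
                    · skip
                      exact allRange_sound _ 3000 100 chkP_3000 i (by omega) (by omega)
                    · skip
                      rcases Nat.lt_or_ge i 3200 with h11 | h11
                      · skip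
                        exact allRange_sound _ 3100 100 chkP_3100 i (by omega) (by omega)
                      · skip
                        exact allRange_sound _ 3200 100 chkP_3200 i (by omega) (by omega)
                · skip
                  rcases Nat.lt_or_ge i 3500 with h9 | h9
                  · skip
                    rcases Nat.lt_or_ge i 3400 with h10 | h10
                    · skip
                      exact allRange_sound _ 3300 100 chkP_3300 i (by omega) (by omega)
                    · skip
                      exact allRange_sound _ 3400 100 chkP_3400 i (by omega) (by omega)
                  · skip
                    rcases Nat.lt_or_ge i 3600 with h10 | h10
                    · skip
                      exact allRange_sound _ 3500 100 chkP_3500 i (by omega) (by omega)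
                    · skip
                      rcases Nat.lt_or_ge i 3700 with h11 | h11
                      · skip
                        exact allRange_sound _ 3600 100 chkP_3600 i (by omega) (by omega)
                      · skip
                        exact allRange_sound _ 3700 100 chkP_3700 i (by omega) (by omega)
          · skip
            rcases Nat.lt_or_ge i 5700 with h6 | h6
            · skip
              rcases Nat.lt_or_ge i 4700 with h7 | h7
              · skip
                rcases Nat.lt_or_ge i 4200 with h8 | h8
                · skip
                  rcases Nat.lt_or_ge i 4000 with h9 | h9
                  · skip
                    rcases Nat.lt_or_ge i 3900 with h10 | h10
                    · skip
                      exact allRange_sound _ 3800 100 chkP_3800 i (by omega) (by omega)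
                    · skip
                      exact allRange_sound _ 3900 100 chkP_3900 i (by omega) (by omega)
                  · skip
                    rcases Nat.lt_or_ge i 4100 with h10 | h10
                    · skip
                      exact allRange_sound _ 4000 100 chkP_4000 i (by omega) (by omega)
                    · skip
                      exact allRange_sound _ 4100 100 chkP_4100 i (by omega) (by omega)
                · skip
                  rcases Nat.lt_or_ge i 4400 with h9 | h9
                  · skip
                    rcases Nat.lt_or_ge i 4300 with h10 | h10
                    · skip
                      exact allRange_sound _ 4200 100 chkP_4200 i (by omega) (by omega)
                    · skip
                      exact allRange_sound _ 4300 100 chkP_4300 i (by omega) (by omega)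
                  · skip
                    rcases Nat.lt_or_ge i 4500 with h10 | h10
                    · skip
                      exact allRange_sound _ 4400 100 chkP_4400 i (by omega) (by omega)
                    · skip
                      rcases Nat.lt_or_ge i 4600 with h11 | h11
                      · skip
                        exact allRange_sound _ 4500 100 chkP_4500 i (by omega) (by omega)
                      · skip
                        exact allRange_sound _ 4600 100 chkP_4600 i (by omega) (by omega)
              · skip
                rcases Nat.lt_or_ge i 5200 with h8 | h8
                · skip
                  rcases Nat.lt_or_ge i 4900 with h9 | h9
                  · skip
                    rcases Nat.lt_or_ge i 4800 with h10 | h10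
                    · skip
                      exact allRange_sound _ 4700 100 chkP_4700 i (by omega) (by omega)
                    · skip
                      exact allRange_sound _ 4800 100 chkP_4800 i (by omega) (by omega)
                  · skip
                    rcases Nat.lt_or_ge i 5000 with h10 | h10
                    · skip
                      exact allRange_sound _ 4900 100 chkP_4900 i (by omega) (by omega)
                    · skip
                      rcases Nat.lt_or_ge i 5100 with h11 | h11
                      · skip
                        exact allRange_sound _ 5000 100 chkP_5000 i (by omega) (by omega)
                      · skip
                        exact allRange_sound _ 5100 100 chkP_5100 i (by omega) (by omega)
                · skip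
                  rcases Nat.lt_or_ge i 5400 with h9 | h9
                  · skip
                    rcases Nat.lt_or_ge i 5300 with h10 | h10
                    · skip
                      exact allRange_sound _ 5200 100 chkP_5200 i (by omega) (by omega)
                    · skip
                      exact allRange_sound _ 5300 100 chkP_5300 i (by omega) (by omega)
                  · skip
                    rcases Nat.lt_or_ge i 5500 with h10 | h10
                    · skip
                      exact allRange_sound _ 5400 100 chkP_5400 i (by omega) (by omega)
                    · skip
                      rcases Nat.lt_or_ge i 5600 with h11 | h11
                      · skip
                        exact allRange_sound _ 5500 100 chkP_5500 i (by omega) (by omega)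
                      · skip
                        exact allRange_sound _ 5600 100 chkP_5600 i (by omega) (by omega)
            · skip
              rcases Nat.lt_or_ge i 6600 with h7 | h7
              · skip
                rcases Nat.lt_or_ge i 6100 with h8 | h8
                · skip
                  rcases Nat.lt_or_ge i 5900 with h9 | h9
                  · skip
                    rcases Nat.lt_or_ge i 5800 with h10 | h10
                    · skip
                      exact allRange_sound _ 5700 100 chkP_5700 i (by omega) (by omega)
                    · skip
                      exact allRange_sound _ 5800 100 chkP_5800 i (by omega) (by omega)
                  · skip
                    rcases Nat.lt_or_ge i 6000 with h10 | h10
                    · skip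
                      exact allRange_sound _ 5900 100 chkP_5900 i (by omega) (by omega)
                    · skip
                      exact allRange_sound _ 6000 100 chkP_6000 i (by omega) (by omega)
                · skip
                  rcases Nat.lt_or_ge i 6300 with h9 | h9
                  · skip
                    rcases Nat.lt_or_ge i 6200 with h10 | h10
                    · skip
                      exact allRange_sound _ 6100 100 chkP_6100 i (by omega) (by omega)
                    · skip
                      exact allRange_sound _ 6200 100 chkP_6200 i (by omega) (by omega)
                  · skip
                    rcases Nat.lt_or_ge i 6400 with h10 | h10
                    · skip
                      exact allRange_sound _ 6300 100 chkP_6300 i (by omega) (by omega)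
                    · skip
                      rcases Nat.lt_or_ge i 6500 with h11 | h11
                      · skip
                        exact allRange_sound _ 6400 100 chkP_6400 i (by omega) (by omega)
                      · skip
                        exact allRange_sound _ 6500 100 chkP_6500 i (by omega) (by omega)
              · skip
                rcases Nat.lt_or_ge i 7100 with h8 | h8
                · skip
                  rcases Nat.lt_or_ge i 6800 with h9 | h9
                  · skip
                    rcases Nat.lt_or_ge i 6700 with h10 | h10
                    · skip
                      exact allRange_sound _ 6600 100 chkP_6600 i (by omega) (by omega)
                    · skip
                      exact allRange_sound _ 6700 100 chkP_6700 i (by omega) (by omega)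
                  · skip
                    rcases Nat.lt_or_ge i 6900 with h10 | h10
                    · skip
                      exact allRange_sound _ 6800 100 chkP_6800 i (by omega) (by omega)
                    · skip
                      rcases Nat.lt_or_ge i 7000 with h11 | h11
                      · skip
                        exact allRange_sound _ 6900 100 chkP_6900 i (by omega) (by omega)
                      · skip
                        exact allRange_sound _ 7000 100 chkP_7000 i (by omega) (by omega)
                · skip
                  rcases Nat.lt_or_ge i 7300 with h9 | h9
                  · skip
                    rcases Nat.lt_or_ge i 7200 with h10 | h10
                    · skip
                      exact allRange_sound _ 7100 100 chkP_7100 i (by omega) (by omega)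
                    · skip
                      exact allRange_sound _ 7200 100 chkP_7200 i (by omega) (by omega)
                  · skip
                    rcases Nat.lt_or_ge i 7400 with h10 | h10
                    · skip
                      exact allRange_sound _ 7300 100 chkP_7300 i (by omega) (by omega)
                    · skip
                      rcases Nat.lt_or_ge i 7500 with h11 | h11
                      · skip
                        exact allRange_sound _ 7400 100 chkP_7400 i (by omega) (by omega)
                      · skip
                        exact allRange_sound _ 7500 100 chkP_7500 i (by omega) (by omega)
        · skip
          rcases Nat.lt_or_ge i 11400 with h5 | h5
          · skip
            rcases Nat.lt_or_ge i 9500 with h6 | h6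
            · skip
              rcases Nat.lt_or_ge i 8500 with h7 | h7
              · skip
                rcases Nat.lt_or_ge i 8000 with h8 | h8
                · skip
                  rcases Nat.lt_or_ge i 7800 with h9 | h9
                  · skip
                    rcases Nat.lt_or_ge i 7700 with h10 | h10
                    · skip
                      exact allRange_sound _ 7600 100 chkP_7600 i (by omega) (by omega)
                    · skip
                      exact allRange_sound _ 7700 100 chkP_7700 i (by omega) (by omega)
                  · skip
                    rcases Nat.lt_or_ge i 7900 with h10 | h10
                    · skip
                      exact allRange_sound _ 7800 100 chkP_7800 i (by omega) (by omega)
                    · skip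
                      exact allRange_sound _ 7900 100 chkP_7900 i (by omega) (by omega)
                · skip
                  rcases Nat.lt_or_ge i 8200 with h9 | h9
                  · skip
                    rcases Nat.lt_or_ge i 8100 with h10 | h10
                    · skip
                      exact allRange_sound _ 8000 100 chkP_8000 i (by omega) (by omega)
                    · skip
                      exact allRange_sound _ 8100 100 chkP_8100 i (by omega) (by omega)
                  · skip
                    rcases Nat.lt_or_ge i 8300 with h10 | h10
                    · skip
                      exact allRange_sound _ 8200 100 chkP_8200 i (by omega) (by omega)
                    · skip
                      rcases Nat.lt_or_ge i 8400 with h11 | h11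
                      · skip
                        exact allRange_sound _ 8300 100 chkP_8300 i (by omega) (by omega)
                      · skip
                        exact allRange_sound _ 8400 100 chkP_8400 i (by omega) (by omega)
              · skip
                rcases Nat.lt_or_ge i 9000 with h8 | h8
                · skip
                  rcases Nat.lt_or_ge i 8700 with h9 | h9
                  · skip
                    rcases Nat.lt_or_ge i 8600 with h10 | h10
                    · skip
                      exact allRange_sound _ 8500 100 chkP_8500 i (by omega) (by omega)
                    · skip
                      exact allRange_sound _ 8600 100 chkP_8600 i (by omega) (by omega)
                  · skip
                    rcases Nat.lt_or_ge i 8800 with h10 | h10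
                    · skip
                      exact allRange_sound _ 8700 100 chkP_8700 i (by omega) (by omega)
                    · skip
                      rcases Nat.lt_or_ge i 8900 with h11 | h11
                      · skip
                        exact allRange_sound _ 8800 100 chkP_8800 i (by omega) (by omega)
                      · skip
                        exact allRange_sound _ 8900 100 chkP_8900 i (by omega) (by omega)
                · skip
                  rcases Nat.lt_or_ge i 9200 with h9 | h9
                  · skip
                    rcases Nat.lt_or_ge i 9100 with h10 | h10
                    · skip
                      exact allRange_sound _ 9000 100 chkP_9000 i (by omega) (by omega)
                    · skip
                      exact allRange_sound _ 9100 100 chkP_9100 i (by omega) (by omega)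
                  · skip
                    rcases Nat.lt_or_ge i 9300 with h10 | h10
                    · skip
                      exact allRange_sound _ 9200 100 chkP_9200 i (by omega) (by omega)
                    · skip
                      rcases Nat.lt_or_ge i 9400 with h11 | h11
                      · skip
                        exact allRange_sound _ 9300 100 chkP_9300 i (by omega) (by omega)
                      · skip
                        exact allRange_sound _ 9400 100 chkP_9400 i (by omega) (by omega)
            · skip
              rcases Nat.lt_or_ge i 10400 with h7 | h7
              · skip
                rcases Nat.lt_or_ge i 9900 with h8 | h8
                · skip
                  rcases Nat.lt_or_ge i 9700 with h9 | h9
                  · skip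
                    rcases Nat.lt_or_ge i 9600 with h10 | h10
                    · skip
                      exact allRange_sound _ 9500 100 chkP_9500 i (by omega) (by omega)
                    · skip
                      exact allRange_sound _ 9600 100 chkP_9600 i (by omega) (by omega)
                  · skip
                    rcases Nat.lt_or_ge i 9800 with h10 | h10
                    · skip
                      exact allRange_sound _ 9700 100 chkP_9700 i (by omega) (by omega)
                    · skip
                      exact allRange_sound _ 9800 100 chkP_9800 i (by omega) (by omega)
                · skip
                  rcases Nat.lt_or_ge i 10100 with h9 | h9
                  · skip
                    rcases Nat.lt_or_ge i 10000 with h10 | h10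
                    · skip
                      exact allRange_sound _ 9900 100 chkP_9900 i (by omega) (by omega)
                    · skip
                      exact allRange_sound _ 10000 100 chkP_10000 i (by omega) (by omega)
                  · skip
                    rcases Nat.lt_or_ge i 10200 with h10 | h10
                    · skip
                      exact allRange_sound _ 10100 100 chkP_10100 i (by omega) (by omega)
                    · skip
                      rcases Nat.lt_or_ge i 10300 with h11 | h11
                      · skip
                        exact allRange_sound _ 10200 100 chkP_10200 i (by omega) (by omega)
                      · skip
                        exact allRange_sound _ 10300 100 chkP_10300 i (by omega) (by omega)
              · skip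
                rcases Nat.lt_or_ge i 10900 with h8 | h8
                · skip
                  rcases Nat.lt_or_ge i 10600 with h9 | h9
                  · skip
                    rcases Nat.lt_or_ge i 10500 with h10 | h10
                    · skip
                      exact allRange_sound _ 10400 100 chkP_10400 i (by omega) (by omega)
                    · skip
                      exact allRange_sound _ 10500 100 chkP_10500 i (by omega) (by omega)
                  · skip
                    rcases Nat.lt_or_ge i 10700 with h10 | h10
                    · skip
                      exact allRange_sound _ 10600 100 chkP_10600 i (by omega) (by omega)
                    · skip
                      rcases Nat.lt_or_ge i 10800 with h11 | h11
                      · skip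
                        exact allRange_sound _ 10700 100 chkP_10700 i (by omega) (by omega)
                      · skip
                        exact allRange_sound _ 10800 100 chkP_10800 i (by omega) (by omega)
                · skip
                  rcases Nat.lt_or_ge i 11100 with h9 | h9
                  · skip
                    rcases Nat.lt_or_ge i 11000 with h10 | h10
                    · skip
                      exact allRange_sound _ 10900 100 chkP_10900 i (by omega) (by omega)
                    · skip
                      exact allRange_sound _ 11000 100 chkP_11000 i (by omega) (by omega)
                  · skip
                    rcases Nat.lt_or_ge i 11200 with h10 | h10
                    · skip
                      exact allRange_sound _ 11100 100 chkP_11100 i (by omega) (by omega)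
                    · skip
                      rcases Nat.lt_or_ge i 11300 with h11 | h11
                      · skip
                        exact allRange_sound _ 11200 100 chkP_11200 i (by omega) (by omega)
                      · skip
                        exact allRange_sound _ 11300 100 chkP_11300 i (by omega) (by omega)
          · skip
            rcases Nat.lt_or_ge i 13300 with h6 | h6
            · skip
              rcases Nat.lt_or_ge i 12300 with h7 | h7
              · skip
                rcases Nat.lt_or_ge i 11800 with h8 | h8
                · skip
                  rcases Nat.lt_or_ge i 11600 with h9 | h9
                  · skip
                    rcases Nat.lt_or_ge i 11500 with h10 | h10
                    · skip
                      exact allRange_sound _ 11400 100 chkP_11400 i (by omega) (by omega)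
                    · skip
                      exact allRange_sound _ 11500 100 chkP_11500 i (by omega) (by omega)
                  · skip
                    rcases Nat.lt_or_ge i 11700 with h10 | h10
                    · skip
                      exact allRange_sound _ 11600 100 chkP_11600 i (by omega) (by omega)
                    · skip
                      exact allRange_sound _ 11700 100 chkP_11700 i (by omega) (by omega)
                · skip
                  rcases Nat.lt_or_ge i 12000 with h9 | h9
                  · skip
                    rcases Nat.lt_or_ge i 11900 with h10 | h10
                    · skip
                      exact allRange_sound _ 11800 100 chkP_11800 i (by omega) (by omega)
                    · skip
                      exact allRange_sound _ 11900 100 chkP_11900 i (by omega) (by omega)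
                  · skip
                    rcases Nat.lt_or_ge i 12100 with h10 | h10
                    · skip
                      exact allRange_sound _ 12000 100 chkP_12000 i (by omega) (by omega)
                    · skip
                      rcases Nat.lt_or_ge i 12200 with h11 | h11
                      · skip
                        exact allRange_sound _ 12100 100 chkP_12100 i (by omega) (by omega)
                      · skip
                        exact allRange_sound _ 12200 100 chkP_12200 i (by omega) (by omega)
              · skip
                rcases Nat.lt_or_ge i 12800 with h8 | h8
                · skip
                  rcases Nat.lt_or_ge i 12500 with h9 | h9
                  · skip
                    rcases Nat.lt_or_ge i 12400 with h10 | h10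
                    · skip
                      exact allRange_sound _ 12300 100 chkP_12300 i (by omega) (by omega)
                    · skip
                      exact allRange_sound _ 12400 100 chkP_12400 i (by omega) (by omega)
                  · skip
                    rcases Nat.lt_or_ge i 12600 with h10 | h10
                    · skip
                      exact allRange_sound _ 12500 100 chkP_12500 i (by omega) (by omega)
                    · skip
                      rcases Nat.lt_or_ge i 12700 with h11 | h11
                      · skip
                        exact allRange_sound _ 12600 100 chkP_12600 i (by omega) (by omega)
                      · skip
                        exact allRange_sound _ 12700 100 chkP_12700 i (by omega) (by omega)
                · skip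
                  rcases Nat.lt_or_ge i 13000 with h9 | h9
                  · skip
                    rcases Nat.lt_or_ge i 12900 with h10 | h10
                    · skip
                      exact allRange_sound _ 12800 100 chkP_12800 i (by omega) (by omega)
                    · skip
                      exact allRange_sound _ 12900 100 chkP_12900 i (by omega) (by omega)
                  · skip
                    rcases Nat.lt_or_ge i 13100 with h10 | h10
                    · skip
                      exact allRange_sound _ 13000 100 chkP_13000 i (by omega) (by omega)
                    · skip
                      rcases Nat.lt_or_ge i 13200 with h11 | h11
                      · skip
                        exact allRange_sound _ 13100 100 chkP_13100 i (by omega) (by omega)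
                      · skip
                        exact allRange_sound _ 13200 100 chkP_13200 i (by omega) (by omega)
            · skip
              rcases Nat.lt_or_ge i 14300 with h7 | h7
              · skip
                rcases Nat.lt_or_ge i 13800 with h8 | h8
                · skip
                  rcases Nat.lt_or_ge i 13500 with h9 | h9
                  · skip
                    rcases Nat.lt_or_ge i 13400 with h10 | h10
                    · skip
                      exact allRange_sound _ 13300 100 chkP_13300 i (by omega) (by omega)
                    · skip
                      exact allRange_sound _ 13400 100 chkP_13400 i (by omega) (by omega)
                  · skip
                    rcases Nat.lt_or_ge i 13600 with h10 | h10
                    · skip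
                      exact allRange_sound _ 13500 100 chkP_13500 i (by omega) (by omega)
                    · skip
                      rcases Nat.lt_or_ge i 13700 with h11 | h11
                      · skip
                        exact allRange_sound _ 13600 100 chkP_13600 i (by omega) (by omega)
                      · skip
                        exact allRange_sound _ 13700 100 chkP_13700 i (by omega) (by omega)
                · skip
                  rcases Nat.lt_or_ge i 14000 with h9 | h9
                  · skip
                    rcases Nat.lt_or_ge i 13900 with h10 | h10
                    · skip
                      exact allRange_sound _ 13800 100 chkP_13800 i (by omega) (by omega)
                    · skip
                      exact allRange_sound _ 13900 100 chkP_13900 i (by omega) (by omega)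
                  · skip
                    rcases Nat.lt_or_ge i 14100 with h10 | h10
                    · skip
                      exact allRange_sound _ 14000 100 chkP_14000 i (by omega) (by omega)
                    · skip
                      rcases Nat.lt_or_ge i 14200 with h11 | h11
                      · skip
                        exact allRange_sound _ 14100 100 chkP_14100 i (by omega) (by omega)
                      · skip
                        exact allRange_sound _ 14200 100 chkP_14200 i (by omega) (by omega)
              · skip
                rcases Nat.lt_or_ge i 14800 with h8 | h8
                · skip
                  rcases Nat.lt_or_ge i 14500 with h9 | h9
                  · skip
                    rcases Nat.lt_or_ge i 14400 with h10 | h10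
                    · skip
                      exact allRange_sound _ 14300 100 chkP_14300 i (by omega) (by omega)
                    · skip
                      exact allRange_sound _ 14400 100 chkP_14400 i (by omega) (by omega)
                  · skip
                    rcases Nat.lt_or_ge i 14600 with h10 | h10
                    · skip
                      exact allRange_sound _ 14500 100 chkP_14500 i (by omega) (by omega)
                    · skip
                      rcases Nat.lt_or_ge i 14700 with h11 | h11
                      · skip
                        exact allRange_sound _ 14600 100 chkP_14600 i (by omega) (by omega)
                      · skip
                        exact allRange_sound _ 14700 100 chkP_14700 i (by omega) (by omega)
                · skip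
                  rcases Nat.lt_or_ge i 15000 with h9 | h9
                  · skip
                    rcases Nat.lt_or_ge i 14900 with h10 | h10
                    · skip
                      exact allRange_sound _ 14800 100 chkP_14800 i (by omega) (by omega)
                    · skip
                      exact allRange_sound _ 14900 100 chkP_14900 i (by omega) (by omega)
                  · skip
                    rcases Nat.lt_or_ge i 15100 with h10 | h10
                    · skip
                      exact allRange_sound _ 15000 100 chkP_15000 i (by omega) (by omega)
                    · skip
                      rcases Nat.lt_or_ge i 15200 with h11 | h11
                      · skip
                        exact allRange_sound _ 15100 100 chkP_15100 i (by omega) (by omega)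
                      · skip
                        exact allRange_sound _ 15200 100 chkP_15200 i (by omega) (by omega)
      · skip
        rcases Nat.lt_or_ge i 23000 with h4 | h4
        · skip
          rcases Nat.lt_or_ge i 19100 with h5 | h5
          · skip
            rcases Nat.lt_or_ge i 17200 with h6 | h6
            · skip
              rcases Nat.lt_or_ge i 16200 with h7 | h7
              · skip
                rcases Nat.lt_or_ge i 15700 with h8 | h8
                · skip
                  rcases Nat.lt_or_ge i 15500 with h9 | h9
                  · skip
                    rcases Nat.lt_or_ge i 15400 with h10 | h10
                    · skip
                      exact allRange_sound _ 15300 100 chkP_15300 i (by omega) (by omega)
                    · skip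
                      exact allRange_sound _ 15400 100 chkP_15400 i (by omega) (by omega)
                  · skip
                    rcases Nat.lt_or_ge i 15600 with h10 | h10
                    · skip
                      exact allRange_sound _ 15500 100 chkP_15500 i (by omega) (by omega)
                    · skip
                      exact allRange_sound _ 15600 100 chkP_15600 i (by omega) (by omega)
                · skip
                  rcases Nat.lt_or_ge i 15900 with h9 | h9
                  · skip
                    rcases Nat.lt_or_ge i 15800 with h10 | h10
                    · skip
                      exact allRange_sound _ 15700 100 chkP_15700 i (by omega) (by omega)
                    · skip
                      exact allRange_sound _ 15800 100 chkP_15800 i (by omega) (by omega)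
                  · skip
                    rcases Nat.lt_or_ge i 16000 with h10 | h10
                    · skip
                      exact allRange_sound _ 15900 100 chkP_15900 i (by omega) (by omega)
                    · skip
                      rcases Nat.lt_or_ge i 16100 with h11 | h11
                      · skip
                        exact allRange_sound _ 16000 100 chkP_16000 i (by omega) (by omega)
                      · skip
                        exact allRange_sound _ 16100 100 chkP_16100 i (by omega) (by omega)
              · skip
                rcases Nat.lt_or_ge i 16700 with h8 | h8
                · skip
                  rcases Nat.lt_or_ge i 16400 with h9 | h9
                  · skip
                    rcases Nat.lt_or_ge i 16300 with h10 | h10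
                    · skip
                      exact allRange_sound _ 16200 100 chkP_16200 i (by omega) (by omega)
                    · skip
                      exact allRange_sound _ 16300 100 chkP_16300 i (by omega) (by omega)
                  · skip
                    rcases Nat.lt_or_ge i 16500 with h10 | h10
                    · skip
                      exact allRange_sound _ 16400 100 chkP_16400 i (by omega) (by omega)
                    · skip
                      rcases Nat.lt_or_ge i 16600 with h11 | h11
                      · skip
                        exact allRange_sound _ 16500 100 chkP_16500 i (by omega) (by omega)
                      · skip
                        exact allRange_sound _ 16600 100 chkP_16600 i (by omega) (by omega)
                · skip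
                  rcases Nat.lt_or_ge i 16900 with h9 | h9
                  · skip
                    rcases Nat.lt_or_ge i 16800 with h10 | h10
                    · skip
                      exact allRange_sound _ 16700 100 chkP_16700 i (by omega) (by omega)
                    · skip
                      exact allRange_sound _ 16800 100 chkP_16800 i (by omega) (by omega)
                  · skip
                    rcases Nat.lt_or_ge i 17000 with h10 | h10
                    · skip
                      exact allRange_sound _ 16900 100 chkP_16900 i (by omega) (by omega)
                    · skip
                      rcases Nat.lt_or_ge i 17100 with h11 | h11
                      · skip
                        exact allRange_sound _ 17000 100 chkP_17000 i (by omega) (by omega)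
                      · skip
                        exact allRange_sound _ 17100 100 chkP_17100 i (by omega) (by omega)
            · skip
              rcases Nat.lt_or_ge i 18100 with h7 | h7
              · skip
                rcases Nat.lt_or_ge i 17600 with h8 | h8
                · skip
                  rcases Nat.lt_or_ge i 17400 with h9 | h9
                  · skip
                    rcases Nat.lt_or_ge i 17300 with h10 | h10
                    · skip
                      exact allRange_sound _ 17200 100 chkP_17200 i (by omega) (by omega)
                    · skip
                      exact allRange_sound _ 17300 100 chkP_17300 i (by omega) (by omega)
                  · skip
                    rcases Nat.lt_or_ge i 17500 with h10 | h10
                    · skip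
                      exact allRange_sound _ 17400 100 chkP_17400 i (by omega) (by omega)
                    · skip
                      exact allRange_sound _ 17500 100 chkP_17500 i (by omega) (by omega)
                · skip
                  rcases Nat.lt_or_ge i 17800 with h9 | h9
                  · skip
                    rcases Nat.lt_or_ge i 17700 with h10 | h10
                    · skip
                      exact allRange_sound _ 17600 100 chkP_17600 i (by omega) (by omega)
                    · skip
                      exact allRange_sound _ 17700 100 chkP_17700 i (by omega) (by omega)
                  · skip
                    rcases Nat.lt_or_ge i 17900 with h10 | h10
                    · skip
                      exact allRange_sound _ 17800 100 chkP_17800 i (by omega) (by omega)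
                    · skip
                      rcases Nat.lt_or_ge i 18000 with h11 | h11
                      · skip
                        exact allRange_sound _ 17900 100 chkP_17900 i (by omega) (by omega)
                      · skip
                        exact allRange_sound _ 18000 100 chkP_18000 i (by omega) (by omega)
              · skip
                rcases Nat.lt_or_ge i 18600 with h8 | h8
                · skip
                  rcases Nat.lt_or_ge i 18300 with h9 | h9
                  · skip
                    rcases Nat.lt_or_ge i 18200 with h10 | h10
                    · skip
                      exact allRange_sound _ 18100 100 chkP_18100 i (by omega) (by omega)
                    · skip
                      exact allRange_sound _ 18200 100 chkP_18200 i (by omega) (by omega)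
                  · skip
                    rcases Nat.lt_or_ge i 18400 with h10 | h10
                    · skip
                      exact allRange_sound _ 18300 100 chkP_18300 i (by omega) (by omega)
                    · skip
                      rcases Nat.lt_or_ge i 18500 with h11 | h11
                      · skip
                        exact allRange_sound _ 18400 100 chkP_18400 i (by omega) (by omega)
                      · skip
                        exact allRange_sound _ 18500 100 chkP_18500 i (by omega) (by omega)
                · skip
                  rcases Nat.lt_or_ge i 18800 with h9 | h9
                  · skip
                    rcases Nat.lt_or_ge i 18700 with h10 | h10
                    · skip
                      exact allRange_sound _ 18600 100 chkP_18600 i (by omega) (by omega)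
                    · skip
                      exact allRange_sound _ 18700 100 chkP_18700 i (by omega) (by omega)
                  · skip
                    rcases Nat.lt_or_ge i 18900 with h10 | h10
                    · skip
                      exact allRange_sound _ 18800 100 chkP_18800 i (by omega) (by omega)
                    · skip
                      rcases Nat.lt_or_ge i 19000 with h11 | h11
                      · skip
                        exact allRange_sound _ 18900 100 chkP_18900 i (by omega) (by omega)
                      · skip
                        exact allRange_sound _ 19000 100 chkP_19000 i (by omega) (by omega)
          · skip
            rcases Nat.lt_or_ge i 21000 with h6 | h6
            · skip
              rcases Nat.lt_or_ge i 20000 with h7 | h7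
              · skip
                rcases Nat.lt_or_ge i 19500 with h8 | h8
                · skip
                  rcases Nat.lt_or_ge i 19300 with h9 | h9
                  · skip
                    rcases Nat.lt_or_ge i 19200 with h10 | h10
                    · skip
                      exact allRange_sound _ 19100 100 chkP_19100 i (by omega) (by omega)
                    · skip
                      exact allRange_sound _ 19200 100 chkP_19200 i (by omega) (by omega)
                  · skip
                    rcases Nat.lt_or_ge i 19400 with h10 | h10
                    · skip
                      exact allRange_sound _ 19300 100 chkP_19300 i (by omega) (by omega)
                    · skip
                      exact allRange_sound _ 19400 100 chkP_19400 i (by omega) (by omega)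
                · skip
                  rcases Nat.lt_or_ge i 19700 with h9 | h9
                  · skip
                    rcases Nat.lt_or_ge i 19600 with h10 | h10
                    · skip
                      exact allRange_sound _ 19500 100 chkP_19500 i (by omega) (by omega)
                    · skip
                      exact allRange_sound _ 19600 100 chkP_19600 i (by omega) (by omega)
                  · skip
                    rcases Nat.lt_or_ge i 19800 with h10 | h10
                    · skip
                      exact allRange_sound _ 19700 100 chkP_19700 i (by omega) (by omega)
                    · skip
                      rcases Nat.lt_or_ge i 19900 with h11 | h11
                      · skip
                        exact allRange_sound _ 19800 100 chkP_19800 i (by omega) (by omega)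
                      · skip
                        exact allRange_sound _ 19900 100 chkP_19900 i (by omega) (by omega)
              · skip
                rcases Nat.lt_or_ge i 20500 with h8 | h8
                · skip
                  rcases Nat.lt_or_ge i 20200 with h9 | h9
                  · skip
                    rcases Nat.lt_or_ge i 20100 with h10 | h10
                    · skip
                      exact allRange_sound _ 20000 100 chkP_20000 i (by omega) (by omega)
                    · skip
                      exact allRange_sound _ 20100 100 chkP_20100 i (by omega) (by omega)
                  · skip
                    rcases Nat.lt_or_ge i 20300 with h10 | h10
                    · skip
                      exact allRange_sound _ 20200 100 chkP_20200 i (by omega) (by omega)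
                    · skip
                      rcases Nat.lt_or_ge i 20400 with h11 | h11
                      · skip
                        exact allRange_sound _ 20300 100 chkP_20300 i (by omega) (by omega)
                      · skip
                        exact allRange_sound _ 20400 100 chkP_20400 i (by omega) (by omega)
                · skip
                  rcases Nat.lt_or_ge i 20700 with h9 | h9
                  · skip
                    rcases Nat.lt_or_ge i 20600 with h10 | h10
                    · skip
                      exact allRange_sound _ 20500 100 chkP_20500 i (by omega) (by omega)
                    · skip
                      exact allRange_sound _ 20600 100 chkP_20600 i (by omega) (by omega)
                  · skip
                    rcases Nat.lt_or_ge i 20800 with h10 | h10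
                    · skip
                      exact allRange_sound _ 20700 100 chkP_20700 i (by omega) (by omega)
                    · skip
                      rcases Nat.lt_or_ge i 20900 with h11 | h11
                      · skip
                        exact allRange_sound _ 20800 100 chkP_20800 i (by omega) (by omega)
                      · skip
                        exact allRange_sound _ 20900 100 chkP_20900 i (by omega) (by omega)
            · skip
              rcases Nat.lt_or_ge i 22000 with h7 | h7
              · skip
                rcases Nat.lt_or_ge i 21500 with h8 | h8
                · skip
                  rcases Nat.lt_or_ge i 21200 with h9 | h9
                  · skip
                    rcases Nat.lt_or_ge i 21100 with h10 | h10
                    · skip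
                      exact allRange_sound _ 21000 100 chkP_21000 i (by omega) (by omega)
                    · skip
                      exact allRange_sound _ 21100 100 chkP_21100 i (by omega) (by omega)
                  · skip
                    rcases Nat.lt_or_ge i 21300 with h10 | h10
                    · skip
                      exact allRange_sound _ 21200 100 chkP_21200 i (by omega) (by omega)
                    · skip
                      rcases Nat.lt_or_ge i 21400 with h11 | h11
                      · skip
                        exact allRange_sound _ 21300 100 chkP_21300 i (by omega) (by omega)
                      · skip
                        exact allRange_sound _ 21400 100 chkP_21400 i (by omega) (by omega)
                · skip
                  rcases Nat.lt_or_ge i 21700 with h9 | h9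
                  · skip
                    rcases Nat.lt_or_ge i 21600 with h10 | h10
                    · skip
                      exact allRange_sound _ 21500 100 chkP_21500 i (by omega) (by omega)
                    · skip
                      exact allRange_sound _ 21600 100 chkP_21600 i (by omega) (by omega)
                  · skip
                    rcases Nat.lt_or_ge i 21800 with h10 | h10
                    · skip
                      exact allRange_sound _ 21700 100 chkP_21700 i (by omega) (by omega)
                    · skip
                      rcases Nat.lt_or_ge i 21900 with h11 | h11
                      · skip
                        exact allRange_sound _ 21800 100 chkP_21800 i (by omega) (by omega)
                      · skip
                        exact allRange_sound _ 21900 100 chkP_21900 i (by omega) (by omega)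
              · skip
                rcases Nat.lt_or_ge i 22500 with h8 | h8
                · skip
                  rcases Nat.lt_or_ge i 22200 with h9 | h9
                  · skip
                    rcases Nat.lt_or_ge i 22100 with h10 | h10
                    · skip
                      exact allRange_sound _ 22000 100 chkP_22000 i (by omega) (by omega)
                    · skip
                      exact allRange_sound _ 22100 100 chkP_22100 i (by omega) (by omega)
                  · skip
                    rcases Nat.lt_or_ge i 22300 with h10 | h10
                    · skip
                      exact allRange_sound _ 22200 100 chkP_22200 i (by omega) (by omega)
                    · skip
                      rcases Nat.lt_or_ge i 22400 with h11 | h11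
                      · skip
                        exact allRange_sound _ 22300 100 chkP_22300 i (by omega) (by omega)
                      · skip
                        exact allRange_sound _ 22400 100 chkP_22400 i (by omega) (by omega)
                · skip
                  rcases Nat.lt_or_ge i 22700 with h9 | h9
                  · skip
                    rcases Nat.lt_or_ge i 22600 with h10 | h10
                    · skip
                      exact allRange_sound _ 22500 100 chkP_22500 i (by omega) (by omega)
                    · skip
                      exact allRange_sound _ 22600 100 chkP_22600 i (by omega) (by omega)
                  · skip
                    rcases Nat.lt_or_ge i 22800 with h10 | h10
                    · skip
                      exact allRange_sound _ 22700 100 chkP_22700 i (by omega) (by omega)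
                    · skip
                      rcases Nat.lt_or_ge i 22900 with h11 | h11
                      · skip
                        exact allRange_sound _ 22800 100 chkP_22800 i (by omega) (by omega)
                      · skip
                        exact allRange_sound _ 22900 100 chkP_22900 i (by omega) (by omega)
        · skip
          rcases Nat.lt_or_ge i 26800 with h5 | h5
          · skip
            rcases Nat.lt_or_ge i 24900 with h6 | h6
            · skip
              rcases Nat.lt_or_ge i 23900 with h7 | h7
              · skip
                rcases Nat.lt_or_ge i 23400 with h8 | h8
                · skip
                  rcases Nat.lt_or_ge i 23200 with h9 | h9
                  · skip
                    rcases Nat.lt_or_ge i 23100 with h10 | h10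
                    · skip
                      exact allRange_sound _ 23000 100 chkP_23000 i (by omega) (by omega)
                    · skip
                      exact allRange_sound _ 23100 100 chkP_23100 i (by omega) (by omega)
                  · skip
                    rcases Nat.lt_or_ge i 23300 with h10 | h10
                    · skip
                      exact allRange_sound _ 23200 100 chkP_23200 i (by omega) (by omega)
                    · skip
                      exact allRange_sound _ 23300 100 chkP_23300 i (by omega) (by omega)
                · skip
                  rcases Nat.lt_or_ge i 23600 with h9 | h9
                  · skip
                    rcases Nat.lt_or_ge i 23500 with h10 | h10
                    · skip
                      exact allRange_sound _ 23400 100 chkP_23400 i (by omega) (by omega)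
                    · skip
                      exact allRange_sound _ 23500 100 chkP_23500 i (by omega) (by omega)
                  · skip
                    rcases Nat.lt_or_ge i 23700 with h10 | h10
                    · skip
                      exact allRange_sound _ 23600 100 chkP_23600 i (by omega) (by omega)
                    · skip
                      rcases Nat.lt_or_ge i 23800 with h11 | h11
                      · skip
                        exact allRange_sound _ 23700 100 chkP_23700 i (by omega) (by omega)
                      · skip
                        exact allRange_sound _ 23800 100 chkP_23800 i (by omega) (by omega)
              · skip
                rcases Nat.lt_or_ge i 24400 with h8 | h8
                · skip
                  rcases Nat.lt_or_ge i 24100 with h9 | h9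
                  · skip
                    rcases Nat.lt_or_ge i 24000 with h10 | h10
                    · skip
                      exact allRange_sound _ 23900 100 chkP_23900 i (by omega) (by omega)
                    · skip
                      exact allRange_sound _ 24000 100 chkP_24000 i (by omega) (by omega)
                  · skip
                    rcases Nat.lt_or_ge i 24200 with h10 | h10
                    · skip
                      exact allRange_sound _ 24100 100 chkP_24100 i (by omega) (by omega)
                    · skip
                      rcases Nat.lt_or_ge i 24300 with h11 | h11
                      · skip
                        exact allRange_sound _ 24200 100 chkP_24200 i (by omega) (by omega)
                      · skip
                        exact allRange_sound _ 24300 100 chkP_24300 i (by omega) (by omega)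
                · skip
                  rcases Nat.lt_or_ge i 24600 with h9 | h9
                  · skip
                    rcases Nat.lt_or_ge i 24500 with h10 | h10
                    · skip
                      exact allRange_sound _ 24400 100 chkP_24400 i (by omega) (by omega)
                    · skip
                      exact allRange_sound _ 24500 100 chkP_24500 i (by omega) (by omega)
                  · skip
                    rcases Nat.lt_or_ge i 24700 with h10 | h10
                    · skip
                      exact allRange_sound _ 24600 100 chkP_24600 i (by omega) (by omega)
                    · skip
                      rcases Nat.lt_or_ge i 24800 with h11 | h11
                      · skip
                        exact allRange_sound _ 24700 100 chkP_24700 i (by omega) (by omega)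
                      · skip
                        exact allRange_sound _ 24800 100 chkP_24800 i (by omega) (by omega)
            · skip
              rcases Nat.lt_or_ge i 25800 with h7 | h7
              · skip
                rcases Nat.lt_or_ge i 25300 with h8 | h8
                · skip
                  rcases Nat.lt_or_ge i 25100 with h9 | h9
                  · skip
                    rcases Nat.lt_or_ge i 25000 with h10 | h10
                    · skip
                      exact allRange_sound _ 24900 100 chkP_24900 i (by omega) (by omega)
                    · skip
                      exact allRange_sound _ 25000 100 chkP_25000 i (by omega) (by omega)
                  · skip
                    rcases Nat.lt_or_ge i 25200 with h10 | h10
                    · skip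
                      exact allRange_sound _ 25100 100 chkP_25100 i (by omega) (by omega)
                    · skip
                      exact allRange_sound _ 25200 100 chkP_25200 i (by omega) (by omega)
                · skip
                  rcases Nat.lt_or_ge i 25500 with h9 | h9
                  · skip
                    rcases Nat.lt_or_ge i 25400 with h10 | h10
                    · skip
                      exact allRange_sound _ 25300 100 chkP_25300 i (by omega) (by omega)
                    · skip
                      exact allRange_sound _ 25400 100 chkP_25400 i (by omega) (by omega)
                  · skip
                    rcases Nat.lt_or_ge i 25600 with h10 | h10
                    · skip
                      exact allRange_sound _ 25500 100 chkP_25500 i (by omega) (by omega)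
                    · skip
                      rcases Nat.lt_or_ge i 25700 with h11 | h11
                      · skip
                        exact allRange_sound _ 25600 100 chkP_25600 i (by omega) (by omega)
                      · skip
                        exact allRange_sound _ 25700 100 chkP_25700 i (by omega) (by omega)
              · skip
                rcases Nat.lt_or_ge i 26300 with h8 | h8
                · skip
                  rcases Nat.lt_or_ge i 26000 with h9 | h9
                  · skip
                    rcases Nat.lt_or_ge i 25900 with h10 | h10
                    · skip
                      exact allRange_sound _ 25800 100 chkP_25800 i (by omega) (by omega)
                    · skip
                      exact allRange_sound _ 25900 100 chkP_25900 i (by omega) (by omega)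
                  · skip
                    rcases Nat.lt_or_ge i 26100 with h10 | h10
                    · skip
                      exact allRange_sound _ 26000 100 chkP_26000 i (by omega) (by omega)
                    · skip
                      rcases Nat.lt_or_ge i 26200 with h11 | h11
                      · skip
                        exact allRange_sound _ 26100 100 chkP_26100 i (by omega) (by omega)
                      · skip
                        exact allRange_sound _ 26200 100 chkP_26200 i (by omega) (by omega)
                · skip
                  rcases Nat.lt_or_ge i 26500 with h9 | h9
                  · skip
                    rcases Nat.lt_or_ge i 26400 with h10 | h10
                    · skip
                      exact allRange_sound _ 26300 100 chkP_26300 i (by omega) (by omega)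
                    · skip
                      exact allRange_sound _ 26400 100 chkP_26400 i (by omega) (by omega)
                  · skip
                    rcases Nat.lt_or_ge i 26600 with h10 | h10
                    · skip
                      exact allRange_sound _ 26500 100 chkP_26500 i (by omega) (by omega)
                    · skip
                      rcases Nat.lt_or_ge i 26700 with h11 | h11
                      · skip
                        exact allRange_sound _ 26600 100 chkP_26600 i (by omega) (by omega)
                      · skip
                        exact allRange_sound _ 26700 100 chkP_26700 i (by omega) (by omega)
          · skip
            rcases Nat.lt_or_ge i 28700 with h6 | h6
            · skip
              rcases Nat.lt_or_ge i 27700 with h7 | h7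
              · skip
                rcases Nat.lt_or_ge i 27200 with h8 | h8
                · skip
                  rcases Nat.lt_or_ge i 27000 with h9 | h9
                  · skip
                    rcases Nat.lt_or_ge i 26900 with h10 | h10
                    · skip
                      exact allRange_sound _ 26800 100 chkP_26800 i (by omega) (by omega)
                    · skip
                      exact allRange_sound _ 26900 100 chkP_26900 i (by omega) (by omega)
                  · skip
                    rcases Nat.lt_or_ge i 27100 with h10 | h10
                    · skip
                      exact allRange_sound _ 27000 100 chkP_27000 i (by omega) (by omega)
                    · skip
                      exact allRange_sound _ 27100 100 chkP_27100 i (by omega) (by omega)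
                · skip
                  rcases Nat.lt_or_ge i 27400 with h9 | h9
                  · skip
                    rcases Nat.lt_or_ge i 27300 with h10 | h10
                    · skip
                      exact allRange_sound _ 27200 100 chkP_27200 i (by omega) (by omega)
                    · skip
                      exact allRange_sound _ 27300 100 chkP_27300 i (by omega) (by omega)
                  · skip
                    rcases Nat.lt_or_ge i 27500 with h10 | h10
                    · skip
                      exact allRange_sound _ 27400 100 chkP_27400 i (by omega) (by omega)
                    · skip
                      rcases Nat.lt_or_ge i 27600 with h11 | h11
                      · skip
                        exact allRange_sound _ 27500 100 chkP_27500 i (by omega) (by omega)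
                      · skip
                        exact allRange_sound _ 27600 100 chkP_27600 i (by omega) (by omega)
              · skip
                rcases Nat.lt_or_ge i 28200 with h8 | h8
                · skip
                  rcases Nat.lt_or_ge i 27900 with h9 | h9
                  · skip
                    rcases Nat.lt_or_ge i 27800 with h10 | h10
                    · skip
                      exact allRange_sound _ 27700 100 chkP_27700 i (by omega) (by omega)
                    · skip
                      exact allRange_sound _ 27800 100 chkP_27800 i (by omega) (by omega)
                  · skip
                    rcases Nat.lt_or_ge i 28000 with h10 | h10
                    · skip
                      exact allRange_sound _ 27900 100 chkP_27900 i (by omega) (by omega)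
                    · skip
                      rcases Nat.lt_or_ge i 28100 with h11 | h11
                      · skip
                        exact allRange_sound _ 28000 100 chkP_28000 i (by omega) (by omega)
                      · skip
                        exact allRange_sound _ 28100 100 chkP_28100 i (by omega) (by omega)
                · skip
                  rcases Nat.lt_or_ge i 28400 with h9 | h9
                  · skip
                    rcases Nat.lt_or_ge i 28300 with h10 | h10
                    · skip
                      exact allRange_sound _ 28200 100 chkP_28200 i (by omega) (by omega)
                    · skip
                      exact allRange_sound _ 28300 100 chkP_28300 i (by omega) (by omega)
                  · skip
                    rcases Nat.lt_or_ge i 28500 with h10 | h10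
                    · skip
                      exact allRange_sound _ 28400 100 chkP_28400 i (by omega) (by omega)
                    · skip
                      rcases Nat.lt_or_ge i 28600 with h11 | h11
                      · skip
                        exact allRange_sound _ 28500 100 chkP_28500 i (by omega) (by omega)
                      · skip
                        exact allRange_sound _ 28600 100 chkP_28600 i (by omega) (by omega)
            · skip
              rcases Nat.lt_or_ge i 29700 with h7 | h7
              · skip
                rcases Nat.lt_or_ge i 29200 with h8 | h8
                · skip
                  rcases Nat.lt_or_ge i 28900 with h9 | h9
                  · skip
                    rcases Nat.lt_or_ge i 28800 with h10 | h10
                    · skip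
                      exact allRange_sound _ 28700 100 chkP_28700 i (by omega) (by omega)
                    · skip
                      exact allRange_sound _ 28800 100 chkP_28800 i (by omega) (by omega)
                  · skip
                    rcases Nat.lt_or_ge i 29000 with h10 | h10
                    · skip
                      exact allRange_sound _ 28900 100 chkP_28900 i (by omega) (by omega)
                    · skip
                      rcases Nat.lt_or_ge i 29100 with h11 | h11
                      · skip
                        exact allRange_sound _ 29000 100 chkP_29000 i (by omega) (by omega)
                      · skip
                        exact allRange_sound _ 29100 100 chkP_29100 i (by omega) (by omega)
                · skip
                  rcases Nat.lt_or_ge i 29400 with h9 | h9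
                  · skip
                    rcases Nat.lt_or_ge i 29300 with h10 | h10
                    · skip
                      exact allRange_sound _ 29200 100 chkP_29200 i (by omega) (by omega)
                    · skip
                      exact allRange_sound _ 29300 100 chkP_29300 i (by omega) (by omega)
                  · skip
                    rcases Nat.lt_or_ge i 29500 with h10 | h10
                    · skip
                      exact allRange_sound _ 29400 100 chkP_29400 i (by omega) (by omega)
                    · skip
                      rcases Nat.lt_or_ge i 29600 with h11 | h11
                      · skip
                        exact allRange_sound _ 29500 100 chkP_29500 i (by omega) (by omega)
                      · skip
                        exact allRange_sound _ 29600 100 chkP_29600 i (by omega) (by omega)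
              · skip
                rcases Nat.lt_or_ge i 30200 with h8 | h8
                · skip
                  rcases Nat.lt_or_ge i 29900 with h9 | h9
                  · skip
                    rcases Nat.lt_or_ge i 29800 with h10 | h10
                    · skip
                      exact allRange_sound _ 29700 100 chkP_29700 i (by omega) (by omega)
                    · skip
                      exact allRange_sound _ 29800 100 chkP_29800 i (by omega) (by omega)
                  · skip
                    rcases Nat.lt_or_ge i 30000 with h10 | h10
                    · skip
                      exact allRange_sound _ 29900 100 chkP_29900 i (by omega) (by omega)
                    · skip
                      rcases Nat.lt_or_ge i 30100 with h11 | h11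
                      · skip
                        exact allRange_sound _ 30000 100 chkP_30000 i (by omega) (by omega)
                      · skip
                        exact allRange_sound _ 30100 100 chkP_30100 i (by omega) (by omega)
                · skip
                  rcases Nat.lt_or_ge i 30400 with h9 | h9
                  · skip
                    rcases Nat.lt_or_ge i 30300 with h10 | h10
                    · skip
                      exact allRange_sound _ 30200 100 chkP_30200 i (by omega) (by omega)
                    · skip
                      exact allRange_sound _ 30300 100 chkP_30300 i (by omega) (by omega)
                  · skip
                    rcases Nat.lt_or_ge i 30500 with h10 | h10
                    · skip
                      exact allRange_sound _ 30400 100 chkP_30400 i (by omega) (by omega)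
                    · skip
                      rcases Nat.lt_or_ge i 30600 with h11 | h11
                      · skip
                        exact allRange_sound _ 30500 100 chkP_30500 i (by omega) (by omega)
                      · skip
                        exact allRange_sound _ 30600 100 chkP_30600 i (by omega) (by omega)
    · skip
      rcases Nat.lt_or_ge i 46000 with h3 | h3
      · skip
        rcases Nat.lt_or_ge i 38300 with h4 | h4
        · skip
          rcases Nat.lt_or_ge i 34500 with h5 | h5
          · skip
            rcases Nat.lt_or_ge i 32600 with h6 | h6
            · skip
              rcases Nat.lt_or_ge i 31600 with h7 | h7
              · skip
                rcases Nat.lt_or_ge i 31100 with h8 | h8
                · skip
                  rcases Nat.lt_or_ge i 30900 with h9 | h9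
                  · skip
                    rcases Nat.lt_or_ge i 30800 with h10 | h10
                    · skip
                      exact allRange_sound _ 30700 100 chkP_30700 i (by omega) (by omega)
                    · skip
                      exact allRange_sound _ 30800 100 chkP_30800 i (by omega) (by omega)
                  · skip
                    rcases Nat.lt_or_ge i 31000 with h10 | h10
                    · skip
                      exact allRange_sound _ 30900 100 chkP_30900 i (by omega) (by omega)
                    · skip
                      exact allRange_sound _ 31000 100 chkP_31000 i (by omega) (by omega)
                · skip
                  rcases Nat.lt_or_ge i 31300 with h9 | h9
                  · skip
                    rcases Nat.lt_or_ge i 31200 with h10 | h10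
                    · skip
                      exact allRange_sound _ 31100 100 chkP_31100 i (by omega) (by omega)
                    · skip
                      exact allRange_sound _ 31200 100 chkP_31200 i (by omega) (by omega)
                  · skip
                    rcases Nat.lt_or_ge i 31400 with h10 | h10
                    · skip
                      exact allRange_sound _ 31300 100 chkP_31300 i (by omega) (by omega)
                    · skip
                      rcases Nat.lt_or_ge i 31500 with h11 | h11
                      · skip
                        exact allRange_sound _ 31400 100 chkP_31400 i (by omega) (by omega)
                      · skip
                        exact allRange_sound _ 31500 100 chkP_31500 i (by omega) (by omega)
              · skip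
                rcases Nat.lt_or_ge i 32100 with h8 | h8
                · skip
                  rcases Nat.lt_or_ge i 31800 with h9 | h9
                  · skip
                    rcases Nat.lt_or_ge i 31700 with h10 | h10
                    · skip
                      exact allRange_sound _ 31600 100 chkP_31600 i (by omega) (by omega)
                    · skip
                      exact allRange_sound _ 31700 100 chkP_31700 i (by omega) (by omega)
                  · skip
                    rcases Nat.lt_or_ge i 31900 with h10 | h10
                    · skip
                      exact allRange_sound _ 31800 100 chkP_31800 i (by omega) (by omega)
                    · skip
                      rcases Nat.lt_or_ge i 32000 with h11 | h11
                      · skip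
                        exact allRange_sound _ 31900 100 chkP_31900 i (by omega) (by omega)
                      · skip
                        exact allRange_sound _ 32000 100 chkP_32000 i (by omega) (by omega)
                · skip
                  rcases Nat.lt_or_ge i 32300 with h9 | h9
                  · skip
                    rcases Nat.lt_or_ge i 32200 with h10 | h10
                    · skip
                      exact allRange_sound _ 32100 100 chkP_32100 i (by omega) (by omega)
                    · skip
                      exact allRange_sound _ 32200 100 chkP_32200 i (by omega) (by omega)
                  · skip
                    rcases Nat.lt_or_ge i 32400 with h10 | h10
                    · skip
                      exact allRange_sound _ 32300 100 chkP_32300 i (by omega) (by omega)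
                    · skip
                      rcases Nat.lt_or_ge i 32500 with h11 | h11
                      · skip
                        exact allRange_sound _ 32400 100 chkP_32400 i (by omega) (by omega)
                      · skip
                        exact allRange_sound _ 32500 100 chkP_32500 i (by omega) (by omega)
            · skip
              rcases Nat.lt_or_ge i 33500 with h7 | h7
              · skip
                rcases Nat.lt_or_ge i 33000 with h8 | h8
                · skip
                  rcases Nat.lt_or_ge i 32800 with h9 | h9
                  · skip
                    rcases Nat.lt_or_ge i 32700 with h10 | h10
                    · skip
                      exact allRange_sound _ 32600 100 chkP_32600 i (by omega) (by omega)
                    · skip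
                      exact allRange_sound _ 32700 100 chkP_32700 i (by omega) (by omega)
                  · skip
                    rcases Nat.lt_or_ge i 32900 with h10 | h10
                    · skip
                      exact allRange_sound _ 32800 100 chkP_32800 i (by omega) (by omega)
                    · skip
                      exact allRange_sound _ 32900 100 chkP_32900 i (by omega) (by omega)
                · skip
                  rcases Nat.lt_or_ge i 33200 with h9 | h9
                  · skip
                    rcases Nat.lt_or_ge i 33100 with h10 | h10
                    · skip
                      exact allRange_sound _ 33000 100 chkP_33000 i (by omega) (by omega)
                    · skip
                      exact allRange_sound _ 33100 100 chkP_33100 i (by omega) (by omega)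
                  · skip
                    rcases Nat.lt_or_ge i 33300 with h10 | h10
                    · skip
                      exact allRange_sound _ 33200 100 chkP_33200 i (by omega) (by omega)
                    · skip
                      rcases Nat.lt_or_ge i 33400 with h11 | h11
                      · skip
                        exact allRange_sound _ 33300 100 chkP_33300 i (by omega) (by omega)
                      · skip
                        exact allRange_sound _ 33400 100 chkP_33400 i (by omega) (by omega)
              · skip
                rcases Nat.lt_or_ge i 34000 with h8 | h8
                · skip
                  rcases Nat.lt_or_ge i 33700 with h9 | h9
                  · skip
                    rcases Nat.lt_or_ge i 33600 with h10 | h10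
                    · skip
                      exact allRange_sound _ 33500 100 chkP_33500 i (by omega) (by omega)
                    · skip
                      exact allRange_sound _ 33600 100 chkP_33600 i (by omega) (by omega)
                  · skip
                    rcases Nat.lt_or_ge i 33800 with h10 | h10
                    · skip
                      exact allRange_sound _ 33700 100 chkP_33700 i (by omega) (by omega)
                    · skip
                      rcases Nat.lt_or_ge i 33900 with h11 | h11
                      · skip
                        exact allRange_sound _ 33800 100 chkP_33800 i (by omega) (by omega)
                      · skip
                        exact allRange_sound _ 33900 100 chkP_33900 i (by omega) (by omega)
                · skip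
                  rcases Nat.lt_or_ge i 34200 with h9 | h9
                  · skip
                    rcases Nat.lt_or_ge i 34100 with h10 | h10
                    · skip
                      exact allRange_sound _ 34000 100 chkP_34000 i (by omega) (by omega)
                    · skip
                      exact allRange_sound _ 34100 100 chkP_34100 i (by omega) (by omega)
                  · skip
                    rcases Nat.lt_or_ge i 34300 with h10 | h10
                    · skip
                      exact allRange_sound _ 34200 100 chkP_34200 i (by omega) (by omega)
                    · skip
                      rcases Nat.lt_or_ge i 34400 with h11 | h11
                      · skip
                        exact allRange_sound _ 34300 100 chkP_34300 i (by omega) (by omega)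
                      · skip
                        exact allRange_sound _ 34400 100 chkP_34400 i (by omega) (by omega)
          · skip
            rcases Nat.lt_or_ge i 36400 with h6 | h6
            · skip
              rcases Nat.lt_or_ge i 35400 with h7 | h7
              · skip
                rcases Nat.lt_or_ge i 34900 with h8 | h8
                · skip
                  rcases Nat.lt_or_ge i 34700 with h9 | h9
                  · skip
                    rcases Nat.lt_or_ge i 34600 with h10 | h10
                    · skip
                      exact allRange_sound _ 34500 100 chkP_34500 i (by omega) (by omega)
                    · skip
                      exact allRange_sound _ 34600 100 chkP_34600 i (by omega) (by omega)
                  · skip
                    rcases Nat.lt_or_ge i 34800 with h10 | h10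
                    · skip
                      exact allRange_sound _ 34700 100 chkP_34700 i (by omega) (by omega)
                    · skip
                      exact allRange_sound _ 34800 100 chkP_34800 i (by omega) (by omega)
                · skip
                  rcases Nat.lt_or_ge i 35100 with h9 | h9
                  · skip
                    rcases Nat.lt_or_ge i 35000 with h10 | h10
                    · skip
                      exact allRange_sound _ 34900 100 chkP_34900 i (by omega) (by omega)
                    · skip
                      exact allRange_sound _ 35000 100 chkP_35000 i (by omega) (by omega)
                  · skip
                    rcases Nat.lt_or_ge i 35200 with h10 | h10
                    · skip
                      exact allRange_sound _ 35100 100 chkP_35100 i (by omega) (by omega)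
                    · skip
                      rcases Nat.lt_or_ge i 35300 with h11 | h11
                      · skip
                        exact allRange_sound _ 35200 100 chkP_35200 i (by omega) (by omega)
                      · skip
                        exact allRange_sound _ 35300 100 chkP_35300 i (by omega) (by omega)
              · skip
                rcases Nat.lt_or_ge i 35900 with h8 | h8
                · skip
                  rcases Nat.lt_or_ge i 35600 with h9 | h9
                  · skip
                    rcases Nat.lt_or_ge i 35500 with h10 | h10
                    · skip
                      exact allRange_sound _ 35400 100 chkP_35400 i (by omega) (by omega)
                    · skip
                      exact allRange_sound _ 35500 100 chkP_35500 i (by omega) (by omega)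
                  · skip
                    rcases Nat.lt_or_ge i 35700 with h10 | h10
                    · skip
                      exact allRange_sound _ 35600 100 chkP_35600 i (by omega) (by omega)
                    · skip
                      rcases Nat.lt_or_ge i 35800 with h11 | h11
                      · skip
                        exact allRange_sound _ 35700 100 chkP_35700 i (by omega) (by omega)
                      · skip
                        exact allRange_sound _ 35800 100 chkP_35800 i (by omega) (by omega)
                · skip
                  rcases Nat.lt_or_ge i 36100 with h9 | h9
                  · skip
                    rcases Nat.lt_or_ge i 36000 with h10 | h10
                    · skip
                      exact allRange_sound _ 35900 100 chkP_35900 i (by omega) (by omega)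
                    · skip
                      exact allRange_sound _ 36000 100 chkP_36000 i (by omega) (by omega)
                  · skip
                    rcases Nat.lt_or_ge i 36200 with h10 | h10
                    · skip
                      exact allRange_sound _ 36100 100 chkP_36100 i (by omega) (by omega)
                    · skip
                      rcases Nat.lt_or_ge i 36300 with h11 | h11
                      · skip
                        exact allRange_sound _ 36200 100 chkP_36200 i (by omega) (by omega)
                      · skip
                        exact allRange_sound _ 36300 100 chkP_36300 i (by omega) (by omega)
            · skip
              rcases Nat.lt_or_ge i 37300 with h7 | h7
              · skip
                rcases Nat.lt_or_ge i 36800 with h8 | h8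
                · skip
                  rcases Nat.lt_or_ge i 36600 with h9 | h9
                  · skip
                    rcases Nat.lt_or_ge i 36500 with h10 | h10
                    · skip
                      exact allRange_sound _ 36400 100 chkP_36400 i (by omega) (by omega)
                    · skip
                      exact allRange_sound _ 36500 100 chkP_36500 i (by omega) (by omega)
                  · skip
                    rcases Nat.lt_or_ge i 36700 with h10 | h10
                    · skip
                      exact allRange_sound _ 36600 100 chkP_36600 i (by omega) (by omega)
                    · skip
                      exact allRange_sound _ 36700 100 chkP_36700 i (by omega) (by omega)
                · skip
                  rcases Nat.lt_or_ge i 37000 with h9 | h9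
                  · skip
                    rcases Nat.lt_or_ge i 36900 with h10 | h10
                    · skip
                      exact allRange_sound _ 36800 100 chkP_36800 i (by omega) (by omega)
                    · skip
                      exact allRange_sound _ 36900 100 chkP_36900 i (by omega) (by omega)
                  · skip
                    rcases Nat.lt_or_ge i 37100 with h10 | h10
                    · skip
                      exact allRange_sound _ 37000 100 chkP_37000 i (by omega) (by omega)
                    · skip
                      rcases Nat.lt_or_ge i 37200 with h11 | h11
                      · skip
                        exact allRange_sound _ 37100 100 chkP_37100 i (by omega) (by omega)
                      · skip
                        exact allRange_sound _ 37200 100 chkP_37200 i (by omega) (by omega)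
              · skip
                rcases Nat.lt_or_ge i 37800 with h8 | h8
                · skip
                  rcases Nat.lt_or_ge i 37500 with h9 | h9
                  · skip
                    rcases Nat.lt_or_ge i 37400 with h10 | h10
                    · skip
                      exact allRange_sound _ 37300 100 chkP_37300 i (by omega) (by omega)
                    · skip
                      exact allRange_sound _ 37400 100 chkP_37400 i (by omega) (by omega)
                  · skip
                    rcases Nat.lt_or_ge i 37600 with h10 | h10
                    · skip
                      exact allRange_sound _ 37500 100 chkP_37500 i (by omega) (by omega)
                    · skip
                      rcases Nat.lt_or_ge i 37700 with h11 | h11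
                      · skip
                        exact allRange_sound _ 37600 100 chkP_37600 i (by omega) (by omega)
                      · skip
                        exact allRange_sound _ 37700 100 chkP_37700 i (by omega) (by omega)
                · skip
                  rcases Nat.lt_or_ge i 38000 with h9 | h9
                  · skip
                    rcases Nat.lt_or_ge i 37900 with h10 | h10
                    · skip
                      exact allRange_sound _ 37800 100 chkP_37800 i (by omega) (by omega)
                    · skip
                      exact allRange_sound _ 37900 100 chkP_37900 i (by omega) (by omega)
                  · skip
                    rcases Nat.lt_or_ge i 38100 with h10 | h10
                    · skip
                      exact allRange_sound _ 38000 100 chkP_38000 i (by omega) (by omega)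
                    · skip
                      rcases Nat.lt_or_ge i 38200 with h11 | h11
                      · skip
                        exact allRange_sound _ 38100 100 chkP_38100 i (by omega) (by omega)
                      · skip
                        exact allRange_sound _ 38200 100 chkP_38200 i (by omega) (by omega)
        · skip
          rcases Nat.lt_or_ge i 42100 with h5 | h5
          · skip
            rcases Nat.lt_or_ge i 40200 with h6 | h6
            · skip
              rcases Nat.lt_or_ge i 39200 with h7 | h7
              · skip
                rcases Nat.lt_or_ge i 38700 with h8 | h8
                · skip
                  rcases Nat.lt_or_ge i 38500 with h9 | h9
                  · skip
                    rcases Nat.lt_or_ge i 38400 with h10 | h10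
                    · skip
                      exact allRange_sound _ 38300 100 chkP_38300 i (by omega) (by omega)
                    · skip
                      exact allRange_sound _ 38400 100 chkP_38400 i (by omega) (by omega)
                  · skip
                    rcases Nat.lt_or_ge i 38600 with h10 | h10
                    · skip
                      exact allRange_sound _ 38500 100 chkP_38500 i (by omega) (by omega)
                    · skip
                      exact allRange_sound _ 38600 100 chkP_38600 i (by omega) (by omega)
                · skip
                  rcases Nat.lt_or_ge i 38900 with h9 | h9
                  · skip
                    rcases Nat.lt_or_ge i 38800 with h10 | h10
                    · skip
                      exact allRange_sound _ 38700 100 chkP_38700 i (by omega) (by omega)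
                    · skip
                      exact allRange_sound _ 38800 100 chkP_38800 i (by omega) (by omega)
                  · skip
                    rcases Nat.lt_or_ge i 39000 with h10 | h10
                    · skip
                      exact allRange_sound _ 38900 100 chkP_38900 i (by omega) (by omega)
                    · skip
                      rcases Nat.lt_or_ge i 39100 with h11 | h11
                      · skip
                        exact allRange_sound _ 39000 100 chkP_39000 i (by omega) (by omega)
                      · skip
                        exact allRange_sound _ 39100 100 chkP_39100 i (by omega) (by omega)
              · skip
                rcases Nat.lt_or_ge i 39700 with h8 | h8
                · skip
                  rcases Nat.lt_or_ge i 39400 with h9 | h9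
                  · skip
                    rcases Nat.lt_or_ge i 39300 with h10 | h10
                    · skip
                      exact allRange_sound _ 39200 100 chkP_39200 i (by omega) (by omega)
                    · skip
                      exact allRange_sound _ 39300 100 chkP_39300 i (by omega) (by omega)
                  · skip
                    rcases Nat.lt_or_ge i 39500 with h10 | h10
                    · skip
                      exact allRange_sound _ 39400 100 chkP_39400 i (by omega) (by omega)
                    · skip
                      rcases Nat.lt_or_ge i 39600 with h11 | h11
                      · skip
                        exact allRange_sound _ 39500 100 chkP_39500 i (by omega) (by omega)
                      · skip
                        exact allRange_sound _ 39600 100 chkP_39600 i (by omega) (by omega)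
                · skip
                  rcases Nat.lt_or_ge i 39900 with h9 | h9
                  · skip
                    rcases Nat.lt_or_ge i 39800 with h10 | h10
                    · skip
                      exact allRange_sound _ 39700 100 chkP_39700 i (by omega) (by omega)
                    · skip
                      exact allRange_sound _ 39800 100 chkP_39800 i (by omega) (by omega)
                  · skip
                    rcases Nat.lt_or_ge i 40000 with h10 | h10
                    · skip
                      exact allRange_sound _ 39900 100 chkP_39900 i (by omega) (by omega)
                    · skip
                      rcases Nat.lt_or_ge i 40100 with h11 | h11
                      · skip
                        exact allRange_sound _ 40000 100 chkP_40000 i (by omega) (by omega)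
                      · skip
                        exact allRange_sound _ 40100 100 chkP_40100 i (by omega) (by omega)
            · skip
              rcases Nat.lt_or_ge i 41100 with h7 | h7
              · skip
                rcases Nat.lt_or_ge i 40600 with h8 | h8
                · skip
                  rcases Nat.lt_or_ge i 40400 with h9 | h9
                  · skip
                    rcases Nat.lt_or_ge i 40300 with h10 | h10
                    · skip
                      exact allRange_sound _ 40200 100 chkP_40200 i (by omega) (by omega)
                    · skip
                      exact allRange_sound _ 40300 100 chkP_40300 i (by omega) (by omega)
                  · skip
                    rcases Nat.lt_or_ge i 40500 with h10 | h10
                    · skip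
                      exact allRange_sound _ 40400 100 chkP_40400 i (by omega) (by omega)
                    · skip
                      exact allRange_sound _ 40500 100 chkP_40500 i (by omega) (by omega)
                · skip
                  rcases Nat.lt_or_ge i 40800 with h9 | h9
                  · skip
                    rcases Nat.lt_or_ge i 40700 with h10 | h10
                    · skip
                      exact allRange_sound _ 40600 100 chkP_40600 i (by omega) (by omega)
                    · skip
                      exact allRange_sound _ 40700 100 chkP_40700 i (by omega) (by omega)
                  · skip
                    rcases Nat.lt_or_ge i 40900 with h10 | h10
                    · skip
                      exact allRange_sound _ 40800 100 chkP_40800 i (by omega) (by omega)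
                    · skip
                      rcases Nat.lt_or_ge i 41000 with h11 | h11
                      · skip
                        exact allRange_sound _ 40900 100 chkP_40900 i (by omega) (by omega)
                      · skip
                        exact allRange_sound _ 41000 100 chkP_41000 i (by omega) (by omega)
              · skip
                rcases Nat.lt_or_ge i 41600 with h8 | h8
                · skip
                  rcases Nat.lt_or_ge i 41300 with h9 | h9
                  · skip
                    rcases Nat.lt_or_ge i 41200 with h10 | h10
                    · skip
                      exact allRange_sound _ 41100 100 chkP_41100 i (by omega) (by omega)
                    · skip
                      exact allRange_sound _ 41200 100 chkP_41200 i (by omega) (by omega)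
                  · skip
                    rcases Nat.lt_or_ge i 41400 with h10 | h10
                    · skip
                      exact allRange_sound _ 41300 100 chkP_41300 i (by omega) (by omega)
                    · skip
                      rcases Nat.lt_or_ge i 41500 with h11 | h11
                      · skip
                        exact allRange_sound _ 41400 100 chkP_41400 i (by omega) (by omega)
                      · skip
                        exact allRange_sound _ 41500 100 chkP_41500 i (by omega) (by omega)
                · skip
                  rcases Nat.lt_or_ge i 41800 with h9 | h9
                  · skip
                    rcases Nat.lt_or_ge i 41700 with h10 | h10
                    · skip
                      exact allRange_sound _ 41600 100 chkP_41600 i (by omega) (by omega)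
                    · skip
                      exact allRange_sound _ 41700 100 chkP_41700 i (by omega) (by omega)
                  · skip
                    rcases Nat.lt_or_ge i 41900 with h10 | h10
                    · skip
                      exact allRange_sound _ 41800 100 chkP_41800 i (by omega) (by omega)
                    · skip
                      rcases Nat.lt_or_ge i 42000 with h11 | h11
                      · skip
                        exact allRange_sound _ 41900 100 chkP_41900 i (by omega) (by omega)
                      · skip
                        exact allRange_sound _ 42000 100 chkP_42000 i (by omega) (by omega)
          · skip
            rcases Nat.lt_or_ge i 44000 with h6 | h6
            · skip
              rcases Nat.lt_or_ge i 43000 with h7 | h7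
              · skip
                rcases Nat.lt_or_ge i 42500 with h8 | h8
                · skip
                  rcases Nat.lt_or_ge i 42300 with h9 | h9
                  · skip
                    rcases Nat.lt_or_ge i 42200 with h10 | h10
                    · skip
                      exact allRange_sound _ 42100 100 chkP_42100 i (by omega) (by omega)
                    · skip
                      exact allRange_sound _ 42200 100 chkP_42200 i (by omega) (by omega)
                  · skip
                    rcases Nat.lt_or_ge i 42400 with h10 | h10
                    · skip
                      exact allRange_sound _ 42300 100 chkP_42300 i (by omega) (by omega)
                    · skip
                      exact allRange_sound _ 42400 100 chkP_42400 i (by omega) (by omega)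
                · skip
                  rcases Nat.lt_or_ge i 42700 with h9 | h9
                  · skip
                    rcases Nat.lt_or_ge i 42600 with h10 | h10
                    · skip
                      exact allRange_sound _ 42500 100 chkP_42500 i (by omega) (by omega)
                    · skip
                      exact allRange_sound _ 42600 100 chkP_42600 i (by omega) (by omega)
                  · skip
                    rcases Nat.lt_or_ge i 42800 with h10 | h10
                    · skip
                      exact allRange_sound _ 42700 100 chkP_42700 i (by omega) (by omega)
                    · skip
                      rcases Nat.lt_or_ge i 42900 with h11 | h11
                      · skip
                        exact allRange_sound _ 42800 100 chkP_42800 i (by omega) (by omega)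
                      · skip
                        exact allRange_sound _ 42900 100 chkP_42900 i (by omega) (by omega)
              · skip
                rcases Nat.lt_or_ge i 43500 with h8 | h8
                · skip
                  rcases Nat.lt_or_ge i 43200 with h9 | h9
                  · skip
                    rcases Nat.lt_or_ge i 43100 with h10 | h10
                    · skip
                      exact allRange_sound _ 43000 100 chkP_43000 i (by omega) (by omega)
                    · skip
                      exact allRange_sound _ 43100 100 chkP_43100 i (by omega) (by omega)
                  · skip
                    rcases Nat.lt_or_ge i 43300 with h10 | h10
                    · skip
                      exact allRange_sound _ 43200 100 chkP_43200 i (by omega) (by omega)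
                    · skip
                      rcases Nat.lt_or_ge i 43400 with h11 | h11
                      · skip
                        exact allRange_sound _ 43300 100 chkP_43300 i (by omega) (by omega)
                      · skip
                        exact allRange_sound _ 43400 100 chkP_43400 i (by omega) (by omega)
                · skip
                  rcases Nat.lt_or_ge i 43700 with h9 | h9
                  · skip
                    rcases Nat.lt_or_ge i 43600 with h10 | h10
                    · skip
                      exact allRange_sound _ 43500 100 chkP_43500 i (by omega) (by omega)
                    · skip
                      exact allRange_sound _ 43600 100 chkP_43600 i (by omega) (by omega)
                  · skip
                    rcases Nat.lt_or_ge i 43800 with h10 | h10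
                    · skip
                      exact allRange_sound _ 43700 100 chkP_43700 i (by omega) (by omega)
                    · skip
                      rcases Nat.lt_or_ge i 43900 with h11 | h11
                      · skip
                        exact allRange_sound _ 43800 100 chkP_43800 i (by omega) (by omega)
                      · skip
                        exact allRange_sound _ 43900 100 chkP_43900 i (by omega) (by omega)
            · skip
              rcases Nat.lt_or_ge i 45000 with h7 | h7
              · skip
                rcases Nat.lt_or_ge i 44500 with h8 | h8
                · skip
                  rcases Nat.lt_or_ge i 44200 with h9 | h9
                  · skip
                    rcases Nat.lt_or_ge i 44100 with h10 | h10
                    · skip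
                      exact allRange_sound _ 44000 100 chkP_44000 i (by omega) (by omega)
                    · skip
                      exact allRange_sound _ 44100 100 chkP_44100 i (by omega) (by omega)
                  · skip
                    rcases Nat.lt_or_ge i 44300 with h10 | h10
                    · skip
                      exact allRange_sound _ 44200 100 chkP_44200 i (by omega) (by omega)
                    · skip
                      rcases Nat.lt_or_ge i 44400 with h11 | h11
                      · skip
                        exact allRange_sound _ 44300 100 chkP_44300 i (by omega) (by omega)
                      · skip
                        exact allRange_sound _ 44400 100 chkP_44400 i (by omega) (by omega)
                · skip
                  rcases Nat.lt_or_ge i 44700 with h9 | h9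
                  · skip
                    rcases Nat.lt_or_ge i 44600 with h10 | h10
                    · skip
                      exact allRange_sound _ 44500 100 chkP_44500 i (by omega) (by omega)
                    · skip
                      exact allRange_sound _ 44600 100 chkP_44600 i (by omega) (by omega)
                  · skip
                    rcases Nat.lt_or_ge i 44800 with h10 | h10
                    · skip
                      exact allRange_sound _ 44700 100 chkP_44700 i (by omega) (by omega)
                    · skip
                      rcases Nat.lt_or_ge i 44900 with h11 | h11
                      · skip
                        exact allRange_sound _ 44800 100 chkP_44800 i (by omega) (by omega)
                      · skip
                        exact allRange_sound _ 44900 100 chkP_44900 i (by omega) (by omega)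
              · skip
                rcases Nat.lt_or_ge i 45500 with h8 | h8
                · skip
                  rcases Nat.lt_or_ge i 45200 with h9 | h9
                  · skip
                    rcases Nat.lt_or_ge i 45100 with h10 | h10
                    · skip
                      exact allRange_sound _ 45000 100 chkP_45000 i (by omega) (by omega)
                    · skip
                      exact allRange_sound _ 45100 100 chkP_45100 i (by omega) (by omega)
                  · skip
                    rcases Nat.lt_or_ge i 45300 with h10 | h10
                    · skip
                      exact allRange_sound _ 45200 100 chkP_45200 i (by omega) (by omega)
                    · skip
                      rcases Nat.lt_or_ge i 45400 with h11 | h11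
                      · skip
                        exact allRange_sound _ 45300 100 chkP_45300 i (by omega) (by omega)
                      · skip
                        exact allRange_sound _ 45400 100 chkP_45400 i (by omega) (by omega)
                · skip
                  rcases Nat.lt_or_ge i 45700 with h9 | h9
                  · skip
                    rcases Nat.lt_or_ge i 45600 with h10 | h10
                    · skip
                      exact allRange_sound _ 45500 100 chkP_45500 i (by omega) (by omega)
                    · skip
                      exact allRange_sound _ 45600 100 chkP_45600 i (by omega) (by omega)
                  · skip
                    rcases Nat.lt_or_ge i 45800 with h10 | h10
                    · skip
                      exact allRange_sound _ 45700 100 chkP_45700 i (by omega) (by omega)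
                    · skip
                      rcases Nat.lt_or_ge i 45900 with h11 | h11
                      · skip
                        exact allRange_sound _ 45800 100 chkP_45800 i (by omega) (by omega)
                      · skip
                        exact allRange_sound _ 45900 100 chkP_45900 i (by omega) (by omega)
      · skip
        rcases Nat.lt_or_ge i 53700 with h4 | h4
        · skip
          rcases Nat.lt_or_ge i 49800 with h5 | h5
          · skip
            rcases Nat.lt_or_ge i 47900 with h6 | h6
            · skip
              rcases Nat.lt_or_ge i 46900 with h7 | h7
              · skip
                rcases Nat.lt_or_ge i 46400 with h8 | h8
                · skip
                  rcases Nat.lt_or_ge i 46200 with h9 | h9
                  · skip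
                    rcases Nat.lt_or_ge i 46100 with h10 | h10
                    · skip
                      exact allRange_sound _ 46000 100 chkP_46000 i (by omega) (by omega)
                    · skip
                      exact allRange_sound _ 46100 100 chkP_46100 i (by omega) (by omega)
                  · skip
                    rcases Nat.lt_or_ge i 46300 with h10 | h10
                    · skip
                      exact allRange_sound _ 46200 100 chkP_46200 i (by omega) (by omega)
                    · skip
                      exact allRange_sound _ 46300 100 chkP_46300 i (by omega) (by omega)
                · skip
                  rcases Nat.lt_or_ge i 46600 with h9 | h9
                  · skip
                    rcases Nat.lt_or_ge i 46500 with h10 | h10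
                    · skip
                      exact allRange_sound _ 46400 100 chkP_46400 i (by omega) (by omega)
                    · skip
                      exact allRange_sound _ 46500 100 chkP_46500 i (by omega) (by omega)
                  · skip
                    rcases Nat.lt_or_ge i 46700 with h10 | h10
                    · skip
                      exact allRange_sound _ 46600 100 chkP_46600 i (by omega) (by omega)
                    · skip
                      rcases Nat.lt_or_ge i 46800 with h11 | h11
                      · skip
                        exact allRange_sound _ 46700 100 chkP_46700 i (by omega) (by omega)
                      · skip
                        exact allRange_sound _ 46800 100 chkP_46800 i (by omega) (by omega)
              · skip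
                rcases Nat.lt_or_ge i 47400 with h8 | h8
                · skip
                  rcases Nat.lt_or_ge i 47100 with h9 | h9
                  · skip
                    rcases Nat.lt_or_ge i 47000 with h10 | h10
                    · skip
                      exact allRange_sound _ 46900 100 chkP_46900 i (by omega) (by omega)
                    · skip
                      exact allRange_sound _ 47000 100 chkP_47000 i (by omega) (by omega)
                  · skip
                    rcases Nat.lt_or_ge i 47200 with h10 | h10
                    · skip
                      exact allRange_sound _ 47100 100 chkP_47100 i (by omega) (by omega)
                    · skip
                      rcases Nat.lt_or_ge i 47300 with h11 | h11
                      · skip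
                        exact allRange_sound _ 47200 100 chkP_47200 i (by omega) (by omega)
                      · skip
                        exact allRange_sound _ 47300 100 chkP_47300 i (by omega) (by omega)
                · skip
                  rcases Nat.lt_or_ge i 47600 with h9 | h9
                  · skip
                    rcases Nat.lt_or_ge i 47500 with h10 | h10
                    · skip
                      exact allRange_sound _ 47400 100 chkP_47400 i (by omega) (by omega)
                    · skip
                      exact allRange_sound _ 47500 100 chkP_47500 i (by omega) (by omega)
                  · skip
                    rcases Nat.lt_or_ge i 47700 with h10 | h10
                    · skip
                      exact allRange_sound _ 47600 100 chkP_47600 i (by omega) (by omega)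
                    · skip
                      rcases Nat.lt_or_ge i 47800 with h11 | h11
                      · skip
                        exact allRange_sound _ 47700 100 chkP_47700 i (by omega) (by omega)
                      · skip
                        exact allRange_sound _ 47800 100 chkP_47800 i (by omega) (by omega)
            · skip
              rcases Nat.lt_or_ge i 48800 with h7 | h7
              · skip
                rcases Nat.lt_or_ge i 48300 with h8 | h8
                · skip
                  rcases Nat.lt_or_ge i 48100 with h9 | h9
                  · skip
                    rcases Nat.lt_or_ge i 48000 with h10 | h10
                    · skip
                      exact allRange_sound _ 47900 100 chkP_47900 i (by omega) (by omega)
                    · skip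
                      exact allRange_sound _ 48000 100 chkP_48000 i (by omega) (by omega)
                  · skip
                    rcases Nat.lt_or_ge i 48200 with h10 | h10
                    · skip
                      exact allRange_sound _ 48100 100 chkP_48100 i (by omega) (by omega)
                    · skip
                      exact allRange_sound _ 48200 100 chkP_48200 i (by omega) (by omega)
                · skip
                  rcases Nat.lt_or_ge i 48500 with h9 | h9
                  · skip
                    rcases Nat.lt_or_ge i 48400 with h10 | h10
                    · skip
                      exact allRange_sound _ 48300 100 chkP_48300 i (by omega) (by omega)
                    · skip
                      exact allRange_sound _ 48400 100 chkP_48400 i (by omega) (by omega)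
                  · skip
                    rcases Nat.lt_or_ge i 48600 with h10 | h10
                    · skip
                      exact allRange_sound _ 48500 100 chkP_48500 i (by omega) (by omega)
                    · skip
                      rcases Nat.lt_or_ge i 48700 with h11 | h11
                      · skip
                        exact allRange_sound _ 48600 100 chkP_48600 i (by omega) (by omega)
                      · skip
                        exact allRange_sound _ 48700 100 chkP_48700 i (by omega) (by omega)
              · skip
                rcases Nat.lt_or_ge i 49300 with h8 | h8
                · skip
                  rcases Nat.lt_or_ge i 49000 with h9 | h9
                  · skip
                    rcases Nat.lt_or_ge i 48900 with h10 | h10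
                    · skip
                      exact allRange_sound _ 48800 100 chkP_48800 i (by omega) (by omega)
                    · skip
                      exact allRange_sound _ 48900 100 chkP_48900 i (by omega) (by omega)
                  · skip
                    rcases Nat.lt_or_ge i 49100 with h10 | h10
                    · skip
                      exact allRange_sound _ 49000 100 chkP_49000 i (by omega) (by omega)
                    · skip
                      rcases Nat.lt_or_ge i 49200 with h11 | h11
                      · skip
                        exact allRange_sound _ 49100 100 chkP_49100 i (by omega) (by omega)
                      · skip
                        exact allRange_sound _ 49200 100 chkP_49200 i (by omega) (by omega)
                · skip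
                  rcases Nat.lt_or_ge i 49500 with h9 | h9
                  · skip
                    rcases Nat.lt_or_ge i 49400 with h10 | h10
                    · skip
                      exact allRange_sound _ 49300 100 chkP_49300 i (by omega) (by omega)
                    · skip
                      exact allRange_sound _ 49400 100 chkP_49400 i (by omega) (by omega)
                  · skip
                    rcases Nat.lt_or_ge i 49600 with h10 | h10
                    · skip
                      exact allRange_sound _ 49500 100 chkP_49500 i (by omega) (by omega)
                    · skip
                      rcases Nat.lt_or_ge i 49700 with h11 | h11
                      · skip
                        exact allRange_sound _ 49600 100 chkP_49600 i (by omega) (by omega)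
                      · skip
                        exact allRange_sound _ 49700 100 chkP_49700 i (by omega) (by omega)
          · skip
            rcases Nat.lt_or_ge i 51700 with h6 | h6
            · skip
              rcases Nat.lt_or_ge i 50700 with h7 | h7
              · skip
                rcases Nat.lt_or_ge i 50200 with h8 | h8
                · skip
                  rcases Nat.lt_or_ge i 50000 with h9 | h9
                  · skip
                    rcases Nat.lt_or_ge i 49900 with h10 | h10
                    · skip
                      exact allRange_sound _ 49800 100 chkP_49800 i (by omega) (by omega)
                    · skip
                      exact allRange_sound _ 49900 100 chkP_49900 i (by omega) (by omega)
                  · skip
                    rcases Nat.lt_or_ge i 50100 with h10 | h10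
                    · skip
                      exact allRange_sound _ 50000 100 chkP_50000 i (by omega) (by omega)
                    · skip
                      exact allRange_sound _ 50100 100 chkP_50100 i (by omega) (by omega)
                · skip
                  rcases Nat.lt_or_ge i 50400 with h9 | h9
                  · skip
                    rcases Nat.lt_or_ge i 50300 with h10 | h10
                    · skip
                      exact allRange_sound _ 50200 100 chkP_50200 i (by omega) (by omega)
                    · skip
                      exact allRange_sound _ 50300 100 chkP_50300 i (by omega) (by omega)
                  · skip
                    rcases Nat.lt_or_ge i 50500 with h10 | h10
                    · skip
                      exact allRange_sound _ 50400 100 chkP_50400 i (by omega) (by omega)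
                    · skip
                      rcases Nat.lt_or_ge i 50600 with h11 | h11
                      · skip
                        exact allRange_sound _ 50500 100 chkP_50500 i (by omega) (by omega)
                      · skip
                        exact allRange_sound _ 50600 100 chkP_50600 i (by omega) (by omega)
              · skip
                rcases Nat.lt_or_ge i 51200 with h8 | h8
                · skip
                  rcases Nat.lt_or_ge i 50900 with h9 | h9
                  · skip
                    rcases Nat.lt_or_ge i 50800 with h10 | h10
                    · skip
                      exact allRange_sound _ 50700 100 chkP_50700 i (by omega) (by omega)
                    · skip
                      exact allRange_sound _ 50800 100 chkP_50800 i (by omega) (by omega)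
                  · skip
                    rcases Nat.lt_or_ge i 51000 with h10 | h10
                    · skip
                      exact allRange_sound _ 50900 100 chkP_50900 i (by omega) (by omega)
                    · skip
                      rcases Nat.lt_or_ge i 51100 with h11 | h11
                      · skip
                        exact allRange_sound _ 51000 100 chkP_51000 i (by omega) (by omega)
                      · skip
                        exact allRange_sound _ 51100 100 chkP_51100 i (by omega) (by omega)
                · skip
                  rcases Nat.lt_or_ge i 51400 with h9 | h9
                  · skip
                    rcases Nat.lt_or_ge i 51300 with h10 | h10
                    · skip
                      exact allRange_sound _ 51200 100 chkP_51200 i (by omega) (by omega)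
                    · skip
                      exact allRange_sound _ 51300 100 chkP_51300 i (by omega) (by omega)
                  · skip
                    rcases Nat.lt_or_ge i 51500 with h10 | h10
                    · skip
                      exact allRange_sound _ 51400 100 chkP_51400 i (by omega) (by omega)
                    · skip
                      rcases Nat.lt_or_ge i 51600 with h11 | h11
                      · skip
                        exact allRange_sound _ 51500 100 chkP_51500 i (by omega) (by omega)
                      · skip
                        exact allRange_sound _ 51600 100 chkP_51600 i (by omega) (by omega)
            · skip
              rcases Nat.lt_or_ge i 52700 with h7 | h7
              · skip
                rcases Nat.lt_or_ge i 52200 with h8 | h8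
                · skip
                  rcases Nat.lt_or_ge i 51900 with h9 | h9
                  · skip
                    rcases Nat.lt_or_ge i 51800 with h10 | h10
                    · skip
                      exact allRange_sound _ 51700 100 chkP_51700 i (by omega) (by omega)
                    · skip
                      exact allRange_sound _ 51800 100 chkP_51800 i (by omega) (by omega)
                  · skip
                    rcases Nat.lt_or_ge i 52000 with h10 | h10
                    · skip
                      exact allRange_sound _ 51900 100 chkP_51900 i (by omega) (by omega)
                    · skip
                      rcases Nat.lt_or_ge i 52100 with h11 | h11
                      · skip
                        exact allRange_sound _ 52000 100 chkP_52000 i (by omega) (by omega)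
                      · skip
                        exact allRange_sound _ 52100 100 chkP_52100 i (by omega) (by omega)
                · skip
                  rcases Nat.lt_or_ge i 52400 with h9 | h9
                  · skip
                    rcases Nat.lt_or_ge i 52300 with h10 | h10
                    · skip
                      exact allRange_sound _ 52200 100 chkP_52200 i (by omega) (by omega)
                    · skip
                      exact allRange_sound _ 52300 100 chkP_52300 i (by omega) (by omega)
                  · skip
                    rcases Nat.lt_or_ge i 52500 with h10 | h10
                    · skip
                      exact allRange_sound _ 52400 100 chkP_52400 i (by omega) (by omega)
                    · skip
                      rcases Nat.lt_or_ge i 52600 with h11 | h11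
                      · skip
                        exact allRange_sound _ 52500 100 chkP_52500 i (by omega) (by omega)
                      · skip
                        exact allRange_sound _ 52600 100 chkP_52600 i (by omega) (by omega)
              · skip
                rcases Nat.lt_or_ge i 53200 with h8 | h8
                · skip
                  rcases Nat.lt_or_ge i 52900 with h9 | h9
                  · skip
                    rcases Nat.lt_or_ge i 52800 with h10 | h10
                    · skip
                      exact allRange_sound _ 52700 100 chkP_52700 i (by omega) (by omega)
                    · skip
                      exact allRange_sound _ 52800 100 chkP_52800 i (by omega) (by omega)
                  · skip
                    rcases Nat.lt_or_ge i 53000 with h10 | h10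
                    · skip
                      exact allRange_sound _ 52900 100 chkP_52900 i (by omega) (by omega)
                    · skip
                      rcases Nat.lt_or_ge i 53100 with h11 | h11
                      · skip
                        exact allRange_sound _ 53000 100 chkP_53000 i (by omega) (by omega)
                      · skip
                        exact allRange_sound _ 53100 100 chkP_53100 i (by omega) (by omega)
                · skip
                  rcases Nat.lt_or_ge i 53400 with h9 | h9
                  · skip
                    rcases Nat.lt_or_ge i 53300 with h10 | h10
                    · skip
                      exact allRange_sound _ 53200 100 chkP_53200 i (by omega) (by omega)
                    · skip
                      exact allRange_sound _ 53300 100 chkP_53300 i (by omega) (by omega)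
                  · skip
                    rcases Nat.lt_or_ge i 53500 with h10 | h10
                    · skip
                      exact allRange_sound _ 53400 100 chkP_53400 i (by omega) (by omega)
                    · skip
                      rcases Nat.lt_or_ge i 53600 with h11 | h11
                      · skip
                        exact allRange_sound _ 53500 100 chkP_53500 i (by omega) (by omega)
                      · skip
                        exact allRange_sound _ 53600 100 chkP_53600 i (by omega) (by omega)
        · skip
          rcases Nat.lt_or_ge i 57500 with h5 | h5
          · skip
            rcases Nat.lt_or_ge i 55600 with h6 | h6
            · skip
              rcases Nat.lt_or_ge i 54600 with h7 | h7
              · skip
                rcases Nat.lt_or_ge i 54100 with h8 | h8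
                · skip
                  rcases Nat.lt_or_ge i 53900 with h9 | h9
                  · skip
                    rcases Nat.lt_or_ge i 53800 with h10 | h10
                    · skip
                      exact allRange_sound _ 53700 100 chkP_53700 i (by omega) (by omega)
                    · skip
                      exact allRange_sound _ 53800 100 chkP_53800 i (by omega) (by omega)
                  · skip
                    rcases Nat.lt_or_ge i 54000 with h10 | h10
                    · skip
                      exact allRange_sound _ 53900 100 chkP_53900 i (by omega) (by omega)
                    · skip
                      exact allRange_sound _ 54000 100 chkP_54000 i (by omega) (by omega)
                · skip
                  rcases Nat.lt_or_ge i 54300 with h9 | h9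
                  · skip
                    rcases Nat.lt_or_ge i 54200 with h10 | h10
                    · skip
                      exact allRange_sound _ 54100 100 chkP_54100 i (by omega) (by omega)
                    · skip
                      exact allRange_sound _ 54200 100 chkP_54200 i (by omega) (by omega)
                  · skip
                    rcases Nat.lt_or_ge i 54400 with h10 | h10
                    · skip
                      exact allRange_sound _ 54300 100 chkP_54300 i (by omega) (by omega)
                    · skip
                      rcases Nat.lt_or_ge i 54500 with h11 | h11
                      · skip
                        exact allRange_sound _ 54400 100 chkP_54400 i (by omega) (by omega)
                      · skip
                        exact allRange_sound _ 54500 100 chkP_54500 i (by omega) (by omega)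
              · skip
                rcases Nat.lt_or_ge i 55100 with h8 | h8
                · skip
                  rcases Nat.lt_or_ge i 54800 with h9 | h9
                  · skip
                    rcases Nat.lt_or_ge i 54700 with h10 | h10
                    · skip
                      exact allRange_sound _ 54600 100 chkP_54600 i (by omega) (by omega)
                    · skip
                      exact allRange_sound _ 54700 100 chkP_54700 i (by omega) (by omega)
                  · skip
                    rcases Nat.lt_or_ge i 54900 with h10 | h10
                    · skip
                      exact allRange_sound _ 54800 100 chkP_54800 i (by omega) (by omega)
                    · skip
                      rcases Nat.lt_or_ge i 55000 with h11 | h11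
                      · skip
                        exact allRange_sound _ 54900 100 chkP_54900 i (by omega) (by omega)
                      · skip
                        exact allRange_sound _ 55000 100 chkP_55000 i (by omega) (by omega)
                · skip
                  rcases Nat.lt_or_ge i 55300 with h9 | h9
                  · skip
                    rcases Nat.lt_or_ge i 55200 with h10 | h10
                    · skip
                      exact allRange_sound _ 55100 100 chkP_55100 i (by omega) (by omega)
                    · skip
                      exact allRange_sound _ 55200 100 chkP_55200 i (by omega) (by omega)
                  · skip
                    rcases Nat.lt_or_ge i 55400 with h10 | h10
                    · skip
                      exact allRange_sound _ 55300 100 chkP_55300 i (by omega) (by omega)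
                    · skip
                      rcases Nat.lt_or_ge i 55500 with h11 | h11
                      · skip
                        exact allRange_sound _ 55400 100 chkP_55400 i (by omega) (by omega)
                      · skip
                        exact allRange_sound _ 55500 100 chkP_55500 i (by omega) (by omega)
            · skip
              rcases Nat.lt_or_ge i 56500 with h7 | h7
              · skip
                rcases Nat.lt_or_ge i 56000 with h8 | h8
                · skip
                  rcases Nat.lt_or_ge i 55800 with h9 | h9
                  · skip
                    rcases Nat.lt_or_ge i 55700 with h10 | h10
                    · skip
                      exact allRange_sound _ 55600 100 chkP_55600 i (by omega) (by omega)
                    · skip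
                      exact allRange_sound _ 55700 100 chkP_55700 i (by omega) (by omega)
                  · skip
                    rcases Nat.lt_or_ge i 55900 with h10 | h10
                    · skip
                      exact allRange_sound _ 55800 100 chkP_55800 i (by omega) (by omega)
                    · skip
                      exact allRange_sound _ 55900 100 chkP_55900 i (by omega) (by omega)
                · skip
                  rcases Nat.lt_or_ge i 56200 with h9 | h9
                  · skip
                    rcases Nat.lt_or_ge i 56100 with h10 | h10
                    · skip
                      exact allRange_sound _ 56000 100 chkP_56000 i (by omega) (by omega)
                    · skip
                      exact allRange_sound _ 56100 100 chkP_56100 i (by omega) (by omega)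
                  · skip
                    rcases Nat.lt_or_ge i 56300 with h10 | h10
                    · skip
                      exact allRange_sound _ 56200 100 chkP_56200 i (by omega) (by omega)
                    · skip
                      rcases Nat.lt_or_ge i 56400 with h11 | h11
                      · skip
                        exact allRange_sound _ 56300 100 chkP_56300 i (by omega) (by omega)
                      · skip
                        exact allRange_sound _ 56400 100 chkP_56400 i (by omega) (by omega)
              · skip
                rcases Nat.lt_or_ge i 57000 with h8 | h8
                · skip
                  rcases Nat.lt_or_ge i 56700 with h9 | h9
                  · skip
                    rcases Nat.lt_or_ge i 56600 with h10 | h10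
                    · skip
                      exact allRange_sound _ 56500 100 chkP_56500 i (by omega) (by omega)
                    · skip
                      exact allRange_sound _ 56600 100 chkP_56600 i (by omega) (by omega)
                  · skip
                    rcases Nat.lt_or_ge i 56800 with h10 | h10
                    · skip
                      exact allRange_sound _ 56700 100 chkP_56700 i (by omega) (by omega)
                    · skip
                      rcases Nat.lt_or_ge i 56900 with h11 | h11
                      · skip
                        exact allRange_sound _ 56800 100 chkP_56800 i (by omega) (by omega)
                      · skip
                        exact allRange_sound _ 56900 100 chkP_56900 i (by omega) (by omega)
                · skip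
                  rcases Nat.lt_or_ge i 57200 with h9 | h9
                  · skip
                    rcases Nat.lt_or_ge i 57100 with h10 | h10
                    · skip
                      exact allRange_sound _ 57000 100 chkP_57000 i (by omega) (by omega)
                    · skip
                      exact allRange_sound _ 57100 100 chkP_57100 i (by omega) (by omega)
                  · skip
                    rcases Nat.lt_or_ge i 57300 with h10 | h10
                    · skip
                      exact allRange_sound _ 57200 100 chkP_57200 i (by omega) (by omega)
                    · skip
                      rcases Nat.lt_or_ge i 57400 with h11 | h11
                      · skip
                        exact allRange_sound _ 57300 100 chkP_57300 i (by omega) (by omega)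
                      · skip
                        exact allRange_sound _ 57400 100 chkP_57400 i (by omega) (by omega)
          · skip
            rcases Nat.lt_or_ge i 59400 with h6 | h6
            · skip
              rcases Nat.lt_or_ge i 58400 with h7 | h7
              · skip
                rcases Nat.lt_or_ge i 57900 with h8 | h8
                · skip
                  rcases Nat.lt_or_ge i 57700 with h9 | h9
                  · skip
                    rcases Nat.lt_or_ge i 57600 with h10 | h10
                    · skip
                      exact allRange_sound _ 57500 100 chkP_57500 i (by omega) (by omega)
                    · skip
                      exact allRange_sound _ 57600 100 chkP_57600 i (by omega) (by omega)
                  · skip
                    rcases Nat.lt_or_ge i 57800 with h10 | h10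
                    · skip
                      exact allRange_sound _ 57700 100 chkP_57700 i (by omega) (by omega)
                    · skip
                      exact allRange_sound _ 57800 100 chkP_57800 i (by omega) (by omega)
                · skip
                  rcases Nat.lt_or_ge i 58100 with h9 | h9
                  · skip
                    rcases Nat.lt_or_ge i 58000 with h10 | h10
                    · skip
                      exact allRange_sound _ 57900 100 chkP_57900 i (by omega) (by omega)
                    · skip
                      exact allRange_sound _ 58000 100 chkP_58000 i (by omega) (by omega)
                  · skip
                    rcases Nat.lt_or_ge i 58200 with h10 | h10
                    · skip
                      exact allRange_sound _ 58100 100 chkP_58100 i (by omega) (by omega)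
                    · skip
                      rcases Nat.lt_or_ge i 58300 with h11 | h11
                      · skip
                        exact allRange_sound _ 58200 100 chkP_58200 i (by omega) (by omega)
                      · skip
                        exact allRange_sound _ 58300 100 chkP_58300 i (by omega) (by omega)
              · skip
                rcases Nat.lt_or_ge i 58900 with h8 | h8
                · skip
                  rcases Nat.lt_or_ge i 58600 with h9 | h9
                  · skip
                    rcases Nat.lt_or_ge i 58500 with h10 | h10
                    · skip
                      exact allRange_sound _ 58400 100 chkP_58400 i (by omega) (by omega)
                    · skip
                      exact allRange_sound _ 58500 100 chkP_58500 i (by omega) (by omega)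
                  · skip
                    rcases Nat.lt_or_ge i 58700 with h10 | h10
                    · skip
                      exact allRange_sound _ 58600 100 chkP_58600 i (by omega) (by omega)
                    · skip
                      rcases Nat.lt_or_ge i 58800 with h11 | h11
                      · skip
                        exact allRange_sound _ 58700 100 chkP_58700 i (by omega) (by omega)
                      · skip
                        exact allRange_sound _ 58800 100 chkP_58800 i (by omega) (by omega)
                · skip
                  rcases Nat.lt_or_ge i 59100 with h9 | h9
                  · skip
                    rcases Nat.lt_or_ge i 59000 with h10 | h10
                    · skip
                      exact allRange_sound _ 58900 100 chkP_58900 i (by omega) (by omega)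
                    · skip
                      exact allRange_sound _ 59000 100 chkP_59000 i (by omega) (by omega)
                  · skip
                    rcases Nat.lt_or_ge i 59200 with h10 | h10
                    · skip
                      exact allRange_sound _ 59100 100 chkP_59100 i (by omega) (by omega)
                    · skip
                      rcases Nat.lt_or_ge i 59300 with h11 | h11
                      · skip
                        exact allRange_sound _ 59200 100 chkP_59200 i (by omega) (by omega)
                      · skip
                        exact allRange_sound _ 59300 100 chkP_59300 i (by omega) (by omega)
            · skip
              rcases Nat.lt_or_ge i 60400 with h7 | h7
              · skip
                rcases Nat.lt_or_ge i 59900 with h8 | h8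
                · skip
                  rcases Nat.lt_or_ge i 59600 with h9 | h9
                  · skip
                    rcases Nat.lt_or_ge i 59500 with h10 | h10
                    · skip
                      exact allRange_sound _ 59400 100 chkP_59400 i (by omega) (by omega)
                    · skip
                      exact allRange_sound _ 59500 100 chkP_59500 i (by omega) (by omega)
                  · skip
                    rcases Nat.lt_or_ge i 59700 with h10 | h10
                    · skip
                      exact allRange_sound _ 59600 100 chkP_59600 i (by omega) (by omega)
                    · skip
                      rcases Nat.lt_or_ge i 59800 with h11 | h11
                      · skip
                        exact allRange_sound _ 59700 100 chkP_59700 i (by omega) (by omega)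
                      · skip
                        exact allRange_sound _ 59800 100 chkP_59800 i (by omega) (by omega)
                · skip
                  rcases Nat.lt_or_ge i 60100 with h9 | h9
                  · skip
                    rcases Nat.lt_or_ge i 60000 with h10 | h10
                    · skip
                      exact allRange_sound _ 59900 100 chkP_59900 i (by omega) (by omega)
                    · skip
                      exact allRange_sound _ 60000 100 chkP_60000 i (by omega) (by omega)
                  · skip
                    rcases Nat.lt_or_ge i 60200 with h10 | h10
                    · skip
                      exact allRange_sound _ 60100 100 chkP_60100 i (by omega) (by omega)
                    · skip
                      rcases Nat.lt_or_ge i 60300 with h11 | h11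
                      · skip
                        exact allRange_sound _ 60200 100 chkP_60200 i (by omega) (by omega)
                      · skip
                        exact allRange_sound _ 60300 100 chkP_60300 i (by omega) (by omega)
              · skip
                rcases Nat.lt_or_ge i 60900 with h8 | h8
                · skip
                  rcases Nat.lt_or_ge i 60600 with h9 | h9
                  · skip
                    rcases Nat.lt_or_ge i 60500 with h10 | h10
                    · skip
                      exact allRange_sound _ 60400 100 chkP_60400 i (by omega) (by omega)
                    · skip
                      exact allRange_sound _ 60500 100 chkP_60500 i (by omega) (by omega)
                  · skip
                    rcases Nat.lt_or_ge i 60700 with h10 | h10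
                    · skip
                      exact allRange_sound _ 60600 100 chkP_60600 i (by omega) (by omega)
                    · skip
                      rcases Nat.lt_or_ge i 60800 with h11 | h11
                      · skip
                        exact allRange_sound _ 60700 100 chkP_60700 i (by omega) (by omega)
                      · skip
                        exact allRange_sound _ 60800 100 chkP_60800 i (by omega) (by omega)
                · skip
                  rcases Nat.lt_or_ge i 61100 with h9 | h9
                  · skip
                    rcases Nat.lt_or_ge i 61000 with h10 | h10
                    · skip
                      exact allRange_sound _ 60900 100 chkP_60900 i (by omega) (by omega)
                    · skip
                      exact allRange_sound _ 61000 100 chkP_61000 i (by omega) (by omega)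
                  · skip
                    rcases Nat.lt_or_ge i 61200 with h10 | h10
                    · skip
                      exact allRange_sound _ 61100 100 chkP_61100 i (by omega) (by omega)
                    · skip
                      rcases Nat.lt_or_ge i 61300 with h11 | h11
                      · skip
                        exact allRange_sound _ 61200 100 chkP_61200 i (by omega) (by omega)
                      · skip
                        exact allRange_sound _ 61300 100 chkP_61300 i (by omega) (by omega)
  · skip
    rcases Nat.lt_or_ge i 92100 with h2 | h2
    · skip
      rcases Nat.lt_or_ge i 76700 with h3 | h3
      · skip
        rcases Nat.lt_or_ge i 69000 with h4 | h4
        · skip
          rcases Nat.lt_or_ge i 65200 with h5 | h5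
          · skip
            rcases Nat.lt_or_ge i 63300 with h6 | h6
            · skip
              rcases Nat.lt_or_ge i 62300 with h7 | h7
              · skip
                rcases Nat.lt_or_ge i 61800 with h8 | h8
                · skip
                  rcases Nat.lt_or_ge i 61600 with h9 | h9
                  · skip
                    rcases Nat.lt_or_ge i 61500 with h10 | h10
                    · skip
                      exact allRange_sound _ 61400 100 chkP_61400 i (by omega) (by omega)
                    · skip
                      exact allRange_sound _ 61500 100 chkP_61500 i (by omega) (by omega)
                  · skip
                    rcases Nat.lt_or_ge i 61700 with h10 | h10
                    · skip
                      exact allRange_sound _ 61600 100 chkP_61600 i (by omega) (by omega)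
                    · skip
                      exact allRange_sound _ 61700 100 chkP_61700 i (by omega) (by omega)
                · skip
                  rcases Nat.lt_or_ge i 62000 with h9 | h9
                  · skip
                    rcases Nat.lt_or_ge i 61900 with h10 | h10
                    · skip
                      exact allRange_sound _ 61800 100 chkP_61800 i (by omega) (by omega)
                    · skip
                      exact allRange_sound _ 61900 100 chkP_61900 i (by omega) (by omega)
                  · skip
                    rcases Nat.lt_or_ge i 62100 with h10 | h10
                    · skip
                      exact allRange_sound _ 62000 100 chkP_62000 i (by omega) (by omega)
                    · skip
                      rcases Nat.lt_or_ge i 62200 with h11 | h11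
                      · skip
                        exact allRange_sound _ 62100 100 chkP_62100 i (by omega) (by omega)
                      · skip
                        exact allRange_sound _ 62200 100 chkP_62200 i (by omega) (by omega)
              · skip
                rcases Nat.lt_or_ge i 62800 with h8 | h8
                · skip
                  rcases Nat.lt_or_ge i 62500 with h9 | h9
                  · skip
                    rcases Nat.lt_or_ge i 62400 with h10 | h10
                    · skip
                      exact allRange_sound _ 62300 100 chkP_62300 i (by omega) (by omega)
                    · skip
                      exact allRange_sound _ 62400 100 chkP_62400 i (by omega) (by omega)
                  · skip
                    rcases Nat.lt_or_ge i 62600 with h10 | h10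
                    · skip
                      exact allRange_sound _ 62500 100 chkP_62500 i (by omega) (by omega)
                    · skip
                      rcases Nat.lt_or_ge i 62700 with h11 | h11
                      · skip
                        exact allRange_sound _ 62600 100 chkP_62600 i (by omega) (by omega)
                      · skip
                        exact allRange_sound _ 62700 100 chkP_62700 i (by omega) (by omega)
                · skip
                  rcases Nat.lt_or_ge i 63000 with h9 | h9
                  · skip
                    rcases Nat.lt_or_ge i 62900 with h10 | h10
                    · skip
                      exact allRange_sound _ 62800 100 chkP_62800 i (by omega) (by omega)
                    · skip
                      exact allRange_sound _ 62900 100 chkP_62900 i (by omega) (by omega)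
                  · skip
                    rcases Nat.lt_or_ge i 63100 with h10 | h10
                    · skip
                      exact allRange_sound _ 63000 100 chkP_63000 i (by omega) (by omega)
                    · skip
                      rcases Nat.lt_or_ge i 63200 with h11 | h11
                      · skip
                        exact allRange_sound _ 63100 100 chkP_63100 i (by omega) (by omega)
                      · skip
                        exact allRange_sound _ 63200 100 chkP_63200 i (by omega) (by omega)
            · skip
              rcases Nat.lt_or_ge i 64200 with h7 | h7
              · skip
                rcases Nat.lt_or_ge i 63700 with h8 | h8
                · skip
                  rcases Nat.lt_or_ge i 63500 with h9 | h9
                  · skip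
                    rcases Nat.lt_or_ge i 63400 with h10 | h10
                    · skip
                      exact allRange_sound _ 63300 100 chkP_63300 i (by omega) (by omega)
                    · skip
                      exact allRange_sound _ 63400 100 chkP_63400 i (by omega) (by omega)
                  · skip
                    rcases Nat.lt_or_ge i 63600 with h10 | h10
                    · skip
                      exact allRange_sound _ 63500 100 chkP_63500 i (by omega) (by omega)
                    · skip
                      exact allRange_sound _ 63600 100 chkP_63600 i (by omega) (by omega)
                · skip
                  rcases Nat.lt_or_ge i 63900 with h9 | h9
                  · skip
                    rcases Nat.lt_or_ge i 63800 with h10 | h10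
                    · skip
                      exact allRange_sound _ 63700 100 chkP_63700 i (by omega) (by omega)
                    · skip
                      exact allRange_sound _ 63800 100 chkP_63800 i (by omega) (by omega)
                  · skip
                    rcases Nat.lt_or_ge i 64000 with h10 | h10
                    · skip
                      exact allRange_sound _ 63900 100 chkP_63900 i (by omega) (by omega)
                    · skip
                      rcases Nat.lt_or_ge i 64100 with h11 | h11
                      · skip
                        exact allRange_sound _ 64000 100 chkP_64000 i (by omega) (by omega)
                      · skip
                        exact allRange_sound _ 64100 100 chkP_64100 i (by omega) (by omega)
              · skip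
                rcases Nat.lt_or_ge i 64700 with h8 | h8
                · skip
                  rcases Nat.lt_or_ge i 64400 with h9 | h9
                  · skip
                    rcases Nat.lt_or_ge i 64300 with h10 | h10
                    · skip
                      exact allRange_sound _ 64200 100 chkP_64200 i (by omega) (by omega)
                    · skip
                      exact allRange_sound _ 64300 100 chkP_64300 i (by omega) (by omega)
                  · skip
                    rcases Nat.lt_or_ge i 64500 with h10 | h10
                    · skip
                      exact allRange_sound _ 64400 100 chkP_64400 i (by omega) (by omega)
                    · skip
                      rcases Nat.lt_or_ge i 64600 with h11 | h11
                      · skip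
                        exact allRange_sound _ 64500 100 chkP_64500 i (by omega) (by omega)
                      · skip
                        exact allRange_sound _ 64600 100 chkP_64600 i (by omega) (by omega)
                · skip
                  rcases Nat.lt_or_ge i 64900 with h9 | h9
                  · skip
                    rcases Nat.lt_or_ge i 64800 with h10 | h10
                    · skip
                      exact allRange_sound _ 64700 100 chkP_64700 i (by omega) (by omega)
                    · skip
                      exact allRange_sound _ 64800 100 chkP_64800 i (by omega) (by omega)
                  · skip
                    rcases Nat.lt_or_ge i 65000 with h10 | h10
                    · skip
                      exact allRange_sound _ 64900 100 chkP_64900 i (by omega) (by omega)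
                    · skip
                      rcases Nat.lt_or_ge i 65100 with h11 | h11
                      · skip
                        exact allRange_sound _ 65000 100 chkP_65000 i (by omega) (by omega)
                      · skip
                        exact allRange_sound _ 65100 100 chkP_65100 i (by omega) (by omega)
          · skip
            rcases Nat.lt_or_ge i 67100 with h6 | h6
            · skip
              rcases Nat.lt_or_ge i 66100 with h7 | h7
              · skip
                rcases Nat.lt_or_ge i 65600 with h8 | h8
                · skip
                  rcases Nat.lt_or_ge i 65400 with h9 | h9
                  · skip
                    rcases Nat.lt_or_ge i 65300 with h10 | h10
                    · skip
                      exact allRange_sound _ 65200 100 chkP_65200 i (by omega) (by omega)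
                    · skip
                      exact allRange_sound _ 65300 100 chkP_65300 i (by omega) (by omega)
                  · skip
                    rcases Nat.lt_or_ge i 65500 with h10 | h10
                    · skip
                      exact allRange_sound _ 65400 100 chkP_65400 i (by omega) (by omega)
                    · skip
                      exact allRange_sound _ 65500 100 chkP_65500 i (by omega) (by omega)
                · skip
                  rcases Nat.lt_or_ge i 65800 with h9 | h9
                  · skip
                    rcases Nat.lt_or_ge i 65700 with h10 | h10
                    · skip
                      exact allRange_sound _ 65600 100 chkP_65600 i (by omega) (by omega)
                    · skip
                      exact allRange_sound _ 65700 100 chkP_65700 i (by omega) (by omega)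
                  · skip
                    rcases Nat.lt_or_ge i 65900 with h10 | h10
                    · skip
                      exact allRange_sound _ 65800 100 chkP_65800 i (by omega) (by omega)
                    · skip
                      rcases Nat.lt_or_ge i 66000 with h11 | h11
                      · skip
                        exact allRange_sound _ 65900 100 chkP_65900 i (by omega) (by omega)
                      · skip
                        exact allRange_sound _ 66000 100 chkP_66000 i (by omega) (by omega)
              · skip
                rcases Nat.lt_or_ge i 66600 with h8 | h8
                · skip
                  rcases Nat.lt_or_ge i 66300 with h9 | h9
                  · skip
                    rcases Nat.lt_or_ge i 66200 with h10 | h10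
                    · skip
                      exact allRange_sound _ 66100 100 chkP_66100 i (by omega) (by omega)
                    · skip
                      exact allRange_sound _ 66200 100 chkP_66200 i (by omega) (by omega)
                  · skip
                    rcases Nat.lt_or_ge i 66400 with h10 | h10
                    · skip
                      exact allRange_sound _ 66300 100 chkP_66300 i (by omega) (by omega)
                    · skip
                      rcases Nat.lt_or_ge i 66500 with h11 | h11
                      · skip
                        exact allRange_sound _ 66400 100 chkP_66400 i (by omega) (by omega)
                      · skip
                        exact allRange_sound _ 66500 100 chkP_66500 i (by omega) (by omega)
                · skip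
                  rcases Nat.lt_or_ge i 66800 with h9 | h9
                  · skip
                    rcases Nat.lt_or_ge i 66700 with h10 | h10
                    · skip
                      exact allRange_sound _ 66600 100 chkP_66600 i (by omega) (by omega)
                    · skip
                      exact allRange_sound _ 66700 100 chkP_66700 i (by omega) (by omega)
                  · skip
                    rcases Nat.lt_or_ge i 66900 with h10 | h10
                    · skip
                      exact allRange_sound _ 66800 100 chkP_66800 i (by omega) (by omega)
                    · skip
                      rcases Nat.lt_or_ge i 67000 with h11 | h11
                      · skip
                        exact allRange_sound _ 66900 100 chkP_66900 i (by omega) (by omega)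
                      · skip
                        exact allRange_sound _ 67000 100 chkP_67000 i (by omega) (by omega)
            · skip
              rcases Nat.lt_or_ge i 68000 with h7 | h7
              · skip
                rcases Nat.lt_or_ge i 67500 with h8 | h8
                · skip
                  rcases Nat.lt_or_ge i 67300 with h9 | h9
                  · skip
                    rcases Nat.lt_or_ge i 67200 with h10 | h10
                    · skip
                      exact allRange_sound _ 67100 100 chkP_67100 i (by omega) (by omega)
                    · skip
                      exact allRange_sound _ 67200 100 chkP_67200 i (by omega) (by omega)
                  · skip
                    rcases Nat.lt_or_ge i 67400 with h10 | h10
                    · skip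
                      exact allRange_sound _ 67300 100 chkP_67300 i (by omega) (by omega)
                    · skip
                      exact allRange_sound _ 67400 100 chkP_67400 i (by omega) (by omega)
                · skip
                  rcases Nat.lt_or_ge i 67700 with h9 | h9
                  · skip
                    rcases Nat.lt_or_ge i 67600 with h10 | h10
                    · skip
                      exact allRange_sound _ 67500 100 chkP_67500 i (by omega) (by omega)
                    · skip
                      exact allRange_sound _ 67600 100 chkP_67600 i (by omega) (by omega)
                  · skip
                    rcases Nat.lt_or_ge i 67800 with h10 | h10
                    · skip
                      exact allRange_sound _ 67700 100 chkP_67700 i (by omega) (by omega)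
                    · skip
                      rcases Nat.lt_or_ge i 67900 with h11 | h11
                      · skip
                        exact allRange_sound _ 67800 100 chkP_67800 i (by omega) (by omega)
                      · skip
                        exact allRange_sound _ 67900 100 chkP_67900 i (by omega) (by omega)
              · skip
                rcases Nat.lt_or_ge i 68500 with h8 | h8
                · skip
                  rcases Nat.lt_or_ge i 68200 with h9 | h9
                  · skip
                    rcases Nat.lt_or_ge i 68100 with h10 | h10
                    · skip
                      exact allRange_sound _ 68000 100 chkP_68000 i (by omega) (by omega)
                    · skip
                      exact allRange_sound _ 68100 100 chkP_68100 i (by omega) (by omega)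
                  · skip
                    rcases Nat.lt_or_ge i 68300 with h10 | h10
                    · skip
                      exact allRange_sound _ 68200 100 chkP_68200 i (by omega) (by omega)
                    · skip
                      rcases Nat.lt_or_ge i 68400 with h11 | h11
                      · skip
                        exact allRange_sound _ 68300 100 chkP_68300 i (by omega) (by omega)
                      · skip
                        exact allRange_sound _ 68400 100 chkP_68400 i (by omega) (by omega)
                · skip
                  rcases Nat.lt_or_ge i 68700 with h9 | h9
                  · skip
                    rcases Nat.lt_or_ge i 68600 with h10 | h10
                    · skip
                      exact allRange_sound _ 68500 100 chkP_68500 i (by omega) (by omega)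
                    · skip
                      exact allRange_sound _ 68600 100 chkP_68600 i (by omega) (by omega)
                  · skip
                    rcases Nat.lt_or_ge i 68800 with h10 | h10
                    · skip
                      exact allRange_sound _ 68700 100 chkP_68700 i (by omega) (by omega)
                    · skip
                      rcases Nat.lt_or_ge i 68900 with h11 | h11
                      · skip
                        exact allRange_sound _ 68800 100 chkP_68800 i (by omega) (by omega)
                      · skip
                        exact allRange_sound _ 68900 100 chkP_68900 i (by omega) (by omega)
        · skip
          rcases Nat.lt_or_ge i 72800 with h5 | h5
          · skip
            rcases Nat.lt_or_ge i 70900 with h6 | h6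
            · skip
              rcases Nat.lt_or_ge i 69900 with h7 | h7
              · skip
                rcases Nat.lt_or_ge i 69400 with h8 | h8
                · skip
                  rcases Nat.lt_or_ge i 69200 with h9 | h9
                  · skip
                    rcases Nat.lt_or_ge i 69100 with h10 | h10
                    · skip
                      exact allRange_sound _ 69000 100 chkP_69000 i (by omega) (by omega)
                    · skip
                      exact allRange_sound _ 69100 100 chkP_69100 i (by omega) (by omega)
                  · skip
                    rcases Nat.lt_or_ge i 69300 with h10 | h10
                    · skip
                      exact allRange_sound _ 69200 100 chkP_69200 i (by omega) (by omega)
                    · skip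
                      exact allRange_sound _ 69300 100 chkP_69300 i (by omega) (by omega)
                · skip
                  rcases Nat.lt_or_ge i 69600 with h9 | h9
                  · skip
                    rcases Nat.lt_or_ge i 69500 with h10 | h10
                    · skip
                      exact allRange_sound _ 69400 100 chkP_69400 i (by omega) (by omega)
                    · skip
                      exact allRange_sound _ 69500 100 chkP_69500 i (by omega) (by omega)
                  · skip
                    rcases Nat.lt_or_ge i 69700 with h10 | h10
                    · skip
                      exact allRange_sound _ 69600 100 chkP_69600 i (by omega) (by omega)
                    · skip
                      rcases Nat.lt_or_ge i 69800 with h11 | h11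
                      · skip
                        exact allRange_sound _ 69700 100 chkP_69700 i (by omega) (by omega)
                      · skip
                        exact allRange_sound _ 69800 100 chkP_69800 i (by omega) (by omega)
              · skip
                rcases Nat.lt_or_ge i 70400 with h8 | h8
                · skip
                  rcases Nat.lt_or_ge i 70100 with h9 | h9
                  · skip
                    rcases Nat.lt_or_ge i 70000 with h10 | h10
                    · skip
                      exact allRange_sound _ 69900 100 chkP_69900 i (by omega) (by omega)
                    · skip
                      exact allRange_sound _ 70000 100 chkP_70000 i (by omega) (by omega)
                  · skip
                    rcases Nat.lt_or_ge i 70200 with h10 | h10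
                    · skip
                      exact allRange_sound _ 70100 100 chkP_70100 i (by omega) (by omega)
                    · skip
                      rcases Nat.lt_or_ge i 70300 with h11 | h11
                      · skip
                        exact allRange_sound _ 70200 100 chkP_70200 i (by omega) (by omega)
                      · skip
                        exact allRange_sound _ 70300 100 chkP_70300 i (by omega) (by omega)
                · skip
                  rcases Nat.lt_or_ge i 70600 with h9 | h9
                  · skip
                    rcases Nat.lt_or_ge i 70500 with h10 | h10
                    · skip
                      exact allRange_sound _ 70400 100 chkP_70400 i (by omega) (by omega)
                    · skip
                      exact allRange_sound _ 70500 100 chkP_70500 i (by omega) (by omega)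
                  · skip
                    rcases Nat.lt_or_ge i 70700 with h10 | h10
                    · skip
                      exact allRange_sound _ 70600 100 chkP_70600 i (by omega) (by omega)
                    · skip
                      rcases Nat.lt_or_ge i 70800 with h11 | h11
                      · skip
                        exact allRange_sound _ 70700 100 chkP_70700 i (by omega) (by omega)
                      · skip
                        exact allRange_sound _ 70800 100 chkP_70800 i (by omega) (by omega)
            · skip
              rcases Nat.lt_or_ge i 71800 with h7 | h7
              · skip
                rcases Nat.lt_or_ge i 71300 with h8 | h8
                · skip
                  rcases Nat.lt_or_ge i 71100 with h9 | h9
                  · skip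
                    rcases Nat.lt_or_ge i 71000 with h10 | h10
                    · skip
                      exact allRange_sound _ 70900 100 chkP_70900 i (by omega) (by omega)
                    · skip
                      exact allRange_sound _ 71000 100 chkP_71000 i (by omega) (by omega)
                  · skip
                    rcases Nat.lt_or_ge i 71200 with h10 | h10
                    · skip
                      exact allRange_sound _ 71100 100 chkP_71100 i (by omega) (by omega)
                    · skip
                      exact allRange_sound _ 71200 100 chkP_71200 i (by omega) (by omega)
                · skip
                  rcases Nat.lt_or_ge i 71500 with h9 | h9
                  · skip
                    rcases Nat.lt_or_ge i 71400 with h10 | h10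
                    · skip
                      exact allRange_sound _ 71300 100 chkP_71300 i (by omega) (by omega)
                    · skip
                      exact allRange_sound _ 71400 100 chkP_71400 i (by omega) (by omega)
                  · skip
                    rcases Nat.lt_or_ge i 71600 with h10 | h10
                    · skip
                      exact allRange_sound _ 71500 100 chkP_71500 i (by omega) (by omega)
                    · skip
                      rcases Nat.lt_or_ge i 71700 with h11 | h11
                      · skip
                        exact allRange_sound _ 71600 100 chkP_71600 i (by omega) (by omega)
                      · skip
                        exact allRange_sound _ 71700 100 chkP_71700 i (by omega) (by omega)
              · skip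
                rcases Nat.lt_or_ge i 72300 with h8 | h8
                · skip
                  rcases Nat.lt_or_ge i 72000 with h9 | h9
                  · skip
                    rcases Nat.lt_or_ge i 71900 with h10 | h10
                    · skip
                      exact allRange_sound _ 71800 100 chkP_71800 i (by omega) (by omega)
                    · skip
                      exact allRange_sound _ 71900 100 chkP_71900 i (by omega) (by omega)
                  · skip
                    rcases Nat.lt_or_ge i 72100 with h10 | h10
                    · skip
                      exact allRange_sound _ 72000 100 chkP_72000 i (by omega) (by omega)
                    · skip
                      rcases Nat.lt_or_ge i 72200 with h11 | h11
                      · skip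
                        exact allRange_sound _ 72100 100 chkP_72100 i (by omega) (by omega)
                      · skip
                        exact allRange_sound _ 72200 100 chkP_72200 i (by omega) (by omega)
                · skip
                  rcases Nat.lt_or_ge i 72500 with h9 | h9
                  · skip
                    rcases Nat.lt_or_ge i 72400 with h10 | h10
                    · skip
                      exact allRange_sound _ 72300 100 chkP_72300 i (by omega) (by omega)
                    · skip
                      exact allRange_sound _ 72400 100 chkP_72400 i (by omega) (by omega)
                  · skip
                    rcases Nat.lt_or_ge i 72600 with h10 | h10
                    · skip
                      exact allRange_sound _ 72500 100 chkP_72500 i (by omega) (by omega)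
                    · skip
                      rcases Nat.lt_or_ge i 72700 with h11 | h11
                      · skip
                        exact allRange_sound _ 72600 100 chkP_72600 i (by omega) (by omega)
                      · skip
                        exact allRange_sound _ 72700 100 chkP_72700 i (by omega) (by omega)
          · skip
            rcases Nat.lt_or_ge i 74700 with h6 | h6
            · skip
              rcases Nat.lt_or_ge i 73700 with h7 | h7
              · skip
                rcases Nat.lt_or_ge i 73200 with h8 | h8
                · skip
                  rcases Nat.lt_or_ge i 73000 with h9 | h9
                  · skip
                    rcases Nat.lt_or_ge i 72900 with h10 | h10
                    · skip
                      exact allRange_sound _ 72800 100 chkP_72800 i (by omega) (by omega)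
                    · skip
                      exact allRange_sound _ 72900 100 chkP_72900 i (by omega) (by omega)
                  · skip
                    rcases Nat.lt_or_ge i 73100 with h10 | h10
                    · skip
                      exact allRange_sound _ 73000 100 chkP_73000 i (by omega) (by omega)
                    · skip
                      exact allRange_sound _ 73100 100 chkP_73100 i (by omega) (by omega)
                · skip
                  rcases Nat.lt_or_ge i 73400 with h9 | h9
                  · skip
                    rcases Nat.lt_or_ge i 73300 with h10 | h10
                    · skip
                      exact allRange_sound _ 73200 100 chkP_73200 i (by omega) (by omega)
                    · skip
                      exact allRange_sound _ 73300 100 chkP_73300 i (by omega) (by omega)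
                  · skip
                    rcases Nat.lt_or_ge i 73500 with h10 | h10
                    · skip
                      exact allRange_sound _ 73400 100 chkP_73400 i (by omega) (by omega)
                    · skip
                      rcases Nat.lt_or_ge i 73600 with h11 | h11
                      · skip
                        exact allRange_sound _ 73500 100 chkP_73500 i (by omega) (by omega)
                      · skip
                        exact allRange_sound _ 73600 100 chkP_73600 i (by omega) (by omega)
              · skip
                rcases Nat.lt_or_ge i 74200 with h8 | h8
                · skip
                  rcases Nat.lt_or_ge i 73900 with h9 | h9
                  · skip
                    rcases Nat.lt_or_ge i 73800 with h10 | h10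
                    · skip
                      exact allRange_sound _ 73700 100 chkP_73700 i (by omega) (by omega)
                    · skip
                      exact allRange_sound _ 73800 100 chkP_73800 i (by omega) (by omega)
                  · skip
                    rcases Nat.lt_or_ge i 74000 with h10 | h10
                    · skip
                      exact allRange_sound _ 73900 100 chkP_73900 i (by omega) (by omega)
                    · skip
                      rcases Nat.lt_or_ge i 74100 with h11 | h11
                      · skip
                        exact allRange_sound _ 74000 100 chkP_74000 i (by omega) (by omega)
                      · skip
                        exact allRange_sound _ 74100 100 chkP_74100 i (by omega) (by omega)
                · skip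
                  rcases Nat.lt_or_ge i 74400 with h9 | h9
                  · skip
                    rcases Nat.lt_or_ge i 74300 with h10 | h10
                    · skip
                      exact allRange_sound _ 74200 100 chkP_74200 i (by omega) (by omega)
                    · skip
                      exact allRange_sound _ 74300 100 chkP_74300 i (by omega) (by omega)
                  · skip
                    rcases Nat.lt_or_ge i 74500 with h10 | h10
                    · skip
                      exact allRange_sound _ 74400 100 chkP_74400 i (by omega) (by omega)
                    · skip
                      rcases Nat.lt_or_ge i 74600 with h11 | h11
                      · skip
                        exact allRange_sound _ 74500 100 chkP_74500 i (by omega) (by omega)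
                      · skip
                        exact allRange_sound _ 74600 100 chkP_74600 i (by omega) (by omega)
            · skip
              rcases Nat.lt_or_ge i 75700 with h7 | h7
              · skip
                rcases Nat.lt_or_ge i 75200 with h8 | h8
                · skip
                  rcases Nat.lt_or_ge i 74900 with h9 | h9
                  · skip
                    rcases Nat.lt_or_ge i 74800 with h10 | h10
                    · skip
                      exact allRange_sound _ 74700 100 chkP_74700 i (by omega) (by omega)
                    · skip
                      exact allRange_sound _ 74800 100 chkP_74800 i (by omega) (by omega)
                  · skip
                    rcases Nat.lt_or_ge i 75000 with h10 | h10
                    · skip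
                      exact allRange_sound _ 74900 100 chkP_74900 i (by omega) (by omega)
                    · skip
                      rcases Nat.lt_or_ge i 75100 with h11 | h11
                      · skip
                        exact allRange_sound _ 75000 100 chkP_75000 i (by omega) (by omega)
                      · skip
                        exact allRange_sound _ 75100 100 chkP_75100 i (by omega) (by omega)
                · skip
                  rcases Nat.lt_or_ge i 75400 with h9 | h9
                  · skip
                    rcases Nat.lt_or_ge i 75300 with h10 | h10
                    · skip
                      exact allRange_sound _ 75200 100 chkP_75200 i (by omega) (by omega)
                    · skip
                      exact allRange_sound _ 75300 100 chkP_75300 i (by omega) (by omega)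
                  · skip
                    rcases Nat.lt_or_ge i 75500 with h10 | h10
                    · skip
                      exact allRange_sound _ 75400 100 chkP_75400 i (by omega) (by omega)
                    · skip
                      rcases Nat.lt_or_ge i 75600 with h11 | h11
                      · skip
                        exact allRange_sound _ 75500 100 chkP_75500 i (by omega) (by omega)
                      · skip
                        exact allRange_sound _ 75600 100 chkP_75600 i (by omega) (by omega)
              · skip
                rcases Nat.lt_or_ge i 76200 with h8 | h8
                · skip
                  rcases Nat.lt_or_ge i 75900 with h9 | h9
                  · skip
                    rcases Nat.lt_or_ge i 75800 with h10 | h10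
                    · skip
                      exact allRange_sound _ 75700 100 chkP_75700 i (by omega) (by omega)
                    · skip
                      exact allRange_sound _ 75800 100 chkP_75800 i (by omega) (by omega)
                  · skip
                    rcases Nat.lt_or_ge i 76000 with h10 | h10
                    · skip
                      exact allRange_sound _ 75900 100 chkP_75900 i (by omega) (by omega)
                    · skip
                      rcases Nat.lt_or_ge i 76100 with h11 | h11
                      · skip
                        exact allRange_sound _ 76000 100 chkP_76000 i (by omega) (by omega)
                      · skip
                        exact allRange_sound _ 76100 100 chkP_76100 i (by omega) (by omega)
                · skip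
                  rcases Nat.lt_or_ge i 76400 with h9 | h9
                  · skip
                    rcases Nat.lt_or_ge i 76300 with h10 | h10
                    · skip
                      exact allRange_sound _ 76200 100 chkP_76200 i (by omega) (by omega)
                    · skip
                      exact allRange_sound _ 76300 100 chkP_76300 i (by omega) (by omega)
                  · skip
                    rcases Nat.lt_or_ge i 76500 with h10 | h10
                    · skip
                      exact allRange_sound _ 76400 100 chkP_76400 i (by omega) (by omega)
                    · skip
                      rcases Nat.lt_or_ge i 76600 with h11 | h11
                      · skip
                        exact allRange_sound _ 76500 100 chkP_76500 i (by omega) (by omega)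
                      · skip
                        exact allRange_sound _ 76600 100 chkP_76600 i (by omega) (by omega)
      · skip
        rcases Nat.lt_or_ge i 84400 with h4 | h4
        · skip
          rcases Nat.lt_or_ge i 80500 with h5 | h5
          · skip
            rcases Nat.lt_or_ge i 78600 with h6 | h6
            · skip
              rcases Nat.lt_or_ge i 77600 with h7 | h7
              · skip
                rcases Nat.lt_or_ge i 77100 with h8 | h8
                · skip
                  rcases Nat.lt_or_ge i 76900 with h9 | h9
                  · skip
                    rcases Nat.lt_or_ge i 76800 with h10 | h10
                    · skip
                      exact allRange_sound _ 76700 100 chkP_76700 i (by omega) (by omega)
                    · skip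
                      exact allRange_sound _ 76800 100 chkP_76800 i (by omega) (by omega)
                  · skip
                    rcases Nat.lt_or_ge i 77000 with h10 | h10
                    · skip
                      exact allRange_sound _ 76900 100 chkP_76900 i (by omega) (by omega)
                    · skip
                      exact allRange_sound _ 77000 100 chkP_77000 i (by omega) (by omega)
                · skip
                  rcases Nat.lt_or_ge i 77300 with h9 | h9
                  · skip
                    rcases Nat.lt_or_ge i 77200 with h10 | h10
                    · skip
                      exact allRange_sound _ 77100 100 chkP_77100 i (by omega) (by omega)
                    · skip
                      exact allRange_sound _ 77200 100 chkP_77200 i (by omega) (by omega)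
                  · skip
                    rcases Nat.lt_or_ge i 77400 with h10 | h10
                    · skip
                      exact allRange_sound _ 77300 100 chkP_77300 i (by omega) (by omega)
                    · skip
                      rcases Nat.lt_or_ge i 77500 with h11 | h11
                      · skip
                        exact allRange_sound _ 77400 100 chkP_77400 i (by omega) (by omega)
                      · skip
                        exact allRange_sound _ 77500 100 chkP_77500 i (by omega) (by omega)
              · skip
                rcases Nat.lt_or_ge i 78100 with h8 | h8
                · skip
                  rcases Nat.lt_or_ge i 77800 with h9 | h9
                  · skip
                    rcases Nat.lt_or_ge i 77700 with h10 | h10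
                    · skip
                      exact allRange_sound _ 77600 100 chkP_77600 i (by omega) (by omega)
                    · skip
                      exact allRange_sound _ 77700 100 chkP_77700 i (by omega) (by omega)
                  · skip
                    rcases Nat.lt_or_ge i 77900 with h10 | h10
                    · skip
                      exact allRange_sound _ 77800 100 chkP_77800 i (by omega) (by omega)
                    · skip
                      rcases Nat.lt_or_ge i 78000 with h11 | h11
                      · skip
                        exact allRange_sound _ 77900 100 chkP_77900 i (by omega) (by omega)
                      · skip
                        exact allRange_sound _ 78000 100 chkP_78000 i (by omega) (by omega)
                · skip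
                  rcases Nat.lt_or_ge i 78300 with h9 | h9
                  · skip
                    rcases Nat.lt_or_ge i 78200 with h10 | h10
                    · skip
                      exact allRange_sound _ 78100 100 chkP_78100 i (by omega) (by omega)
                    · skip
                      exact allRange_sound _ 78200 100 chkP_78200 i (by omega) (by omega)
                  · skip
                    rcases Nat.lt_or_ge i 78400 with h10 | h10
                    · skip
                      exact allRange_sound _ 78300 100 chkP_78300 i (by omega) (by omega)
                    · skip
                      rcases Nat.lt_or_ge i 78500 with h11 | h11
                      · skip
                        exact allRange_sound _ 78400 100 chkP_78400 i (by omega) (by omega)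
                      · skip
                        exact allRange_sound _ 78500 100 chkP_78500 i (by omega) (by omega)
            · skip
              rcases Nat.lt_or_ge i 79500 with h7 | h7
              · skip
                rcases Nat.lt_or_ge i 79000 with h8 | h8
                · skip
                  rcases Nat.lt_or_ge i 78800 with h9 | h9
                  · skip
                    rcases Nat.lt_or_ge i 78700 with h10 | h10
                    · skip
                      exact allRange_sound _ 78600 100 chkP_78600 i (by omega) (by omega)
                    · skip
                      exact allRange_sound _ 78700 100 chkP_78700 i (by omega) (by omega)
                  · skip
                    rcases Nat.lt_or_ge i 78900 with h10 | h10
                    · skip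
                      exact allRange_sound _ 78800 100 chkP_78800 i (by omega) (by omega)
                    · skip
                      exact allRange_sound _ 78900 100 chkP_78900 i (by omega) (by omega)
                · skip
                  rcases Nat.lt_or_ge i 79200 with h9 | h9
                  · skip
                    rcases Nat.lt_or_ge i 79100 with h10 | h10
                    · skip
                      exact allRange_sound _ 79000 100 chkP_79000 i (by omega) (by omega)
                    · skip
                      exact allRange_sound _ 79100 100 chkP_79100 i (by omega) (by omega)
                  · skip
                    rcases Nat.lt_or_ge i 79300 with h10 | h10
                    · skip
                      exact allRange_sound _ 79200 100 chkP_79200 i (by omega) (by omega)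
                    · skip
                      rcases Nat.lt_or_ge i 79400 with h11 | h11
                      · skip
                        exact allRange_sound _ 79300 100 chkP_79300 i (by omega) (by omega)
                      · skip
                        exact allRange_sound _ 79400 100 chkP_79400 i (by omega) (by omega)
              · skip
                rcases Nat.lt_or_ge i 80000 with h8 | h8
                · skip
                  rcases Nat.lt_or_ge i 79700 with h9 | h9
                  · skip
                    rcases Nat.lt_or_ge i 79600 with h10 | h10
                    · skip
                      exact allRange_sound _ 79500 100 chkP_79500 i (by omega) (by omega)
                    · skip
                      exact allRange_sound _ 79600 100 chkP_79600 i (by omega) (by omega)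
                  · skip
                    rcases Nat.lt_or_ge i 79800 with h10 | h10
                    · skip
                      exact allRange_sound _ 79700 100 chkP_79700 i (by omega) (by omega)
                    · skip
                      rcases Nat.lt_or_ge i 79900 with h11 | h11
                      · skip
                        exact allRange_sound _ 79800 100 chkP_79800 i (by omega) (by omega)
                      · skip
                        exact allRange_sound _ 79900 100 chkP_79900 i (by omega) (by omega)
                · skip
                  rcases Nat.lt_or_ge i 80200 with h9 | h9
                  · skip
                    rcases Nat.lt_or_ge i 80100 with h10 | h10
                    · skip
                      exact allRange_sound _ 80000 100 chkP_80000 i (by omega) (by omega)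
                    · skip
                      exact allRange_sound _ 80100 100 chkP_80100 i (by omega) (by omega)
                  · skip
                    rcases Nat.lt_or_ge i 80300 with h10 | h10
                    · skip
                      exact allRange_sound _ 80200 100 chkP_80200 i (by omega) (by omega)
                    · skip
                      rcases Nat.lt_or_ge i 80400 with h11 | h11
                      · skip
                        exact allRange_sound _ 80300 100 chkP_80300 i (by omega) (by omega)
                      · skip
                        exact allRange_sound _ 80400 100 chkP_80400 i (by omega) (by omega)
          · skip
            rcases Nat.lt_or_ge i 82400 with h6 | h6
            · skip
              rcases Nat.lt_or_ge i 81400 with h7 | h7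
              · skip
                rcases Nat.lt_or_ge i 80900 with h8 | h8
                · skip
                  rcases Nat.lt_or_ge i 80700 with h9 | h9
                  · skip
                    rcases Nat.lt_or_ge i 80600 with h10 | h10
                    · skip
                      exact allRange_sound _ 80500 100 chkP_80500 i (by omega) (by omega)
                    · skip
                      exact allRange_sound _ 80600 100 chkP_80600 i (by omega) (by omega)
                  · skip
                    rcases Nat.lt_or_ge i 80800 with h10 | h10
                    · skip
                      exact allRange_sound _ 80700 100 chkP_80700 i (by omega) (by omega)
                    · skip
                      exact allRange_sound _ 80800 100 chkP_80800 i (by omega) (by omega)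
                · skip
                  rcases Nat.lt_or_ge i 81100 with h9 | h9
                  · skip
                    rcases Nat.lt_or_ge i 81000 with h10 | h10
                    · skip
                      exact allRange_sound _ 80900 100 chkP_80900 i (by omega) (by omega)
                    · skip
                      exact allRange_sound _ 81000 100 chkP_81000 i (by omega) (by omega)
                  · skip
                    rcases Nat.lt_or_ge i 81200 with h10 | h10
                    · skip
                      exact allRange_sound _ 81100 100 chkP_81100 i (by omega) (by omega)
                    · skip
                      rcases Nat.lt_or_ge i 81300 with h11 | h11
                      · skip
                        exact allRange_sound _ 81200 100 chkP_81200 i (by omega) (by omega)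
                      · skip
                        exact allRange_sound _ 81300 100 chkP_81300 i (by omega) (by omega)
              · skip
                rcases Nat.lt_or_ge i 81900 with h8 | h8
                · skip
                  rcases Nat.lt_or_ge i 81600 with h9 | h9
                  · skip
                    rcases Nat.lt_or_ge i 81500 with h10 | h10
                    · skip
                      exact allRange_sound _ 81400 100 chkP_81400 i (by omega) (by omega)
                    · skip
                      exact allRange_sound _ 81500 100 chkP_81500 i (by omega) (by omega)
                  · skip
                    rcases Nat.lt_or_ge i 81700 with h10 | h10
                    · skip
                      exact allRange_sound _ 81600 100 chkP_81600 i (by omega) (by omega)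
                    · skip
                      rcases Nat.lt_or_ge i 81800 with h11 | h11
                      · skip
                        exact allRange_sound _ 81700 100 chkP_81700 i (by omega) (by omega)
                      · skip
                        exact allRange_sound _ 81800 100 chkP_81800 i (by omega) (by omega)
                · skip
                  rcases Nat.lt_or_ge i 82100 with h9 | h9
                  · skip
                    rcases Nat.lt_or_ge i 82000 with h10 | h10
                    · skip
                      exact allRange_sound _ 81900 100 chkP_81900 i (by omega) (by omega)
                    · skip
                      exact allRange_sound _ 82000 100 chkP_82000 i (by omega) (by omega)
                  · skip
                    rcases Nat.lt_or_ge i 82200 with h10 | h10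
                    · skip
                      exact allRange_sound _ 82100 100 chkP_82100 i (by omega) (by omega)
                    · skip
                      rcases Nat.lt_or_ge i 82300 with h11 | h11
                      · skip
                        exact allRange_sound _ 82200 100 chkP_82200 i (by omega) (by omega)
                      · skip
                        exact allRange_sound _ 82300 100 chkP_82300 i (by omega) (by omega)
            · skip
              rcases Nat.lt_or_ge i 83400 with h7 | h7
              · skip
                rcases Nat.lt_or_ge i 82900 with h8 | h8
                · skip
                  rcases Nat.lt_or_ge i 82600 with h9 | h9
                  · skip
                    rcases Nat.lt_or_ge i 82500 with h10 | h10
                    · skip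
                      exact allRange_sound _ 82400 100 chkP_82400 i (by omega) (by omega)
                    · skip
                      exact allRange_sound _ 82500 100 chkP_82500 i (by omega) (by omega)
                  · skip
                    rcases Nat.lt_or_ge i 82700 with h10 | h10
                    · skip
                      exact allRange_sound _ 82600 100 chkP_82600 i (by omega) (by omega)
                    · skip
                      rcases Nat.lt_or_ge i 82800 with h11 | h11
                      · skip
                        exact allRange_sound _ 82700 100 chkP_82700 i (by omega) (by omega)
                      · skip
                        exact allRange_sound _ 82800 100 chkP_82800 i (by omega) (by omega)
                · skip
                  rcases Nat.lt_or_ge i 83100 with h9 | h9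
                  · skip
                    rcases Nat.lt_or_ge i 83000 with h10 | h10
                    · skip
                      exact allRange_sound _ 82900 100 chkP_82900 i (by omega) (by omega)
                    · skip
                      exact allRange_sound _ 83000 100 chkP_83000 i (by omega) (by omega)
                  · skip
                    rcases Nat.lt_or_ge i 83200 with h10 | h10
                    · skip
                      exact allRange_sound _ 83100 100 chkP_83100 i (by omega) (by omega)
                    · skip
                      rcases Nat.lt_or_ge i 83300 with h11 | h11
                      · skip
                        exact allRange_sound _ 83200 100 chkP_83200 i (by omega) (by omega)
                      · skip
                        exact allRange_sound _ 83300 100 chkP_83300 i (by omega) (by omega)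
              · skip
                rcases Nat.lt_or_ge i 83900 with h8 | h8
                · skip
                  rcases Nat.lt_or_ge i 83600 with h9 | h9
                  · skip
                    rcases Nat.lt_or_ge i 83500 with h10 | h10
                    · skip
                      exact allRange_sound _ 83400 100 chkP_83400 i (by omega) (by omega)
                    · skip
                      exact allRange_sound _ 83500 100 chkP_83500 i (by omega) (by omega)
                  · skip
                    rcases Nat.lt_or_ge i 83700 with h10 | h10
                    · skip
                      exact allRange_sound _ 83600 100 chkP_83600 i (by omega) (by omega)
                    · skip
                      rcases Nat.lt_or_ge i 83800 with h11 | h11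
                      · skip
                        exact allRange_sound _ 83700 100 chkP_83700 i (by omega) (by omega)
                      · skip
                        exact allRange_sound _ 83800 100 chkP_83800 i (by omega) (by omega)
                · skip
                  rcases Nat.lt_or_ge i 84100 with h9 | h9
                  · skip
                    rcases Nat.lt_or_ge i 84000 with h10 | h10
                    · skip
                      exact allRange_sound _ 83900 100 chkP_83900 i (by omega) (by omega)
                    · skip
                      exact allRange_sound _ 84000 100 chkP_84000 i (by omega) (by omega)
                  · skip
                    rcases Nat.lt_or_ge i 84200 with h10 | h10
                    · skip
                      exact allRange_sound _ 84100 100 chkP_84100 i (by omega) (by omega)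
                    · skip
                      rcases Nat.lt_or_ge i 84300 with h11 | h11
                      · skip
                        exact allRange_sound _ 84200 100 chkP_84200 i (by omega) (by omega)
                      · skip
                        exact allRange_sound _ 84300 100 chkP_84300 i (by omega) (by omega)
        · skip
          rcases Nat.lt_or_ge i 88200 with h5 | h5
          · skip
            rcases Nat.lt_or_ge i 86300 with h6 | h6
            · skip
              rcases Nat.lt_or_ge i 85300 with h7 | h7
              · skip
                rcases Nat.lt_or_ge i 84800 with h8 | h8
                · skip
                  rcases Nat.lt_or_ge i 84600 with h9 | h9
                  · skip
                    rcases Nat.lt_or_ge i 84500 with h10 | h10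
                    · skip
                      exact allRange_sound _ 84400 100 chkP_84400 i (by omega) (by omega)
                    · skip
                      exact allRange_sound _ 84500 100 chkP_84500 i (by omega) (by omega)
                  · skip
                    rcases Nat.lt_or_ge i 84700 with h10 | h10
                    · skip
                      exact allRange_sound _ 84600 100 chkP_84600 i (by omega) (by omega)
                    · skip
                      exact allRange_sound _ 84700 100 chkP_84700 i (by omega) (by omega)
                · skip
                  rcases Nat.lt_or_ge i 85000 with h9 | h9
                  · skip
                    rcases Nat.lt_or_ge i 84900 with h10 | h10
                    · skip
                      exact allRange_sound _ 84800 100 chkP_84800 i (by omega) (by omega)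
                    · skip
                      exact allRange_sound _ 84900 100 chkP_84900 i (by omega) (by omega)
                  · skip
                    rcases Nat.lt_or_ge i 85100 with h10 | h10
                    · skip
                      exact allRange_sound _ 85000 100 chkP_85000 i (by omega) (by omega)
                    · skip
                      rcases Nat.lt_or_ge i 85200 with h11 | h11
                      · skip
                        exact allRange_sound _ 85100 100 chkP_85100 i (by omega) (by omega)
                      · skip
                        exact allRange_sound _ 85200 100 chkP_85200 i (by omega) (by omega)
              · skip
                rcases Nat.lt_or_ge i 85800 with h8 | h8
                · skip
                  rcases Nat.lt_or_ge i 85500 with h9 | h9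
                  · skip
                    rcases Nat.lt_or_ge i 85400 with h10 | h10
                    · skip
                      exact allRange_sound _ 85300 100 chkP_85300 i (by omega) (by omega)
                    · skip
                      exact allRange_sound _ 85400 100 chkP_85400 i (by omega) (by omega)
                  · skip
                    rcases Nat.lt_or_ge i 85600 with h10 | h10
                    · skip
                      exact allRange_sound _ 85500 100 chkP_85500 i (by omega) (by omega)
                    · skip
                      rcases Nat.lt_or_ge i 85700 with h11 | h11
                      · skip
                        exact allRange_sound _ 85600 100 chkP_85600 i (by omega) (by omega)
                      · skip
                        exact allRange_sound _ 85700 100 chkP_85700 i (by omega) (by omega)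
                · skip
                  rcases Nat.lt_or_ge i 86000 with h9 | h9
                  · skip
                    rcases Nat.lt_or_ge i 85900 with h10 | h10
                    · skip
                      exact allRange_sound _ 85800 100 chkP_85800 i (by omega) (by omega)
                    · skip
                      exact allRange_sound _ 85900 100 chkP_85900 i (by omega) (by omega)
                  · skip
                    rcases Nat.lt_or_ge i 86100 with h10 | h10
                    · skip
                      exact allRange_sound _ 86000 100 chkP_86000 i (by omega) (by omega)
                    · skip
                      rcases Nat.lt_or_ge i 86200 with h11 | h11
                      · skip
                        exact allRange_sound _ 86100 100 chkP_86100 i (by omega) (by omega)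
                      · skip
                        exact allRange_sound _ 86200 100 chkP_86200 i (by omega) (by omega)
            · skip
              rcases Nat.lt_or_ge i 87200 with h7 | h7
              · skip
                rcases Nat.lt_or_ge i 86700 with h8 | h8
                · skip
                  rcases Nat.lt_or_ge i 86500 with h9 | h9
                  · skip
                    rcases Nat.lt_or_ge i 86400 with h10 | h10
                    · skip
                      exact allRange_sound _ 86300 100 chkP_86300 i (by omega) (by omega)
                    · skip
                      exact allRange_sound _ 86400 100 chkP_86400 i (by omega) (by omega)
                  · skip
                    rcases Nat.lt_or_ge i 86600 with h10 | h10
                    · skip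
                      exact allRange_sound _ 86500 100 chkP_86500 i (by omega) (by omega)
                    · skip
                      exact allRange_sound _ 86600 100 chkP_86600 i (by omega) (by omega)
                · skip
                  rcases Nat.lt_or_ge i 86900 with h9 | h9
                  · skip
                    rcases Nat.lt_or_ge i 86800 with h10 | h10
                    · skip
                      exact allRange_sound _ 86700 100 chkP_86700 i (by omega) (by omega)
                    · skip
                      exact allRange_sound _ 86800 100 chkP_86800 i (by omega) (by omega)
                  · skip
                    rcases Nat.lt_or_ge i 87000 with h10 | h10
                    · skip
                      exact allRange_sound _ 86900 100 chkP_86900 i (by omega) (by omega)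
                    · skip
                      rcases Nat.lt_or_ge i 87100 with h11 | h11
                      · skip
                        exact allRange_sound _ 87000 100 chkP_87000 i (by omega) (by omega)
                      · skip
                        exact allRange_sound _ 87100 100 chkP_87100 i (by omega) (by omega)
              · skip
                rcases Nat.lt_or_ge i 87700 with h8 | h8
                · skip
                  rcases Nat.lt_or_ge i 87400 with h9 | h9
                  · skip
                    rcases Nat.lt_or_ge i 87300 with h10 | h10
                    · skip
                      exact allRange_sound _ 87200 100 chkP_87200 i (by omega) (by omega)
                    · skip
                      exact allRange_sound _ 87300 100 chkP_87300 i (by omega) (by omega)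
                  · skip
                    rcases Nat.lt_or_ge i 87500 with h10 | h10
                    · skip
                      exact allRange_sound _ 87400 100 chkP_87400 i (by omega) (by omega)
                    · skip
                      rcases Nat.lt_or_ge i 87600 with h11 | h11
                      · skip
                        exact allRange_sound _ 87500 100 chkP_87500 i (by omega) (by omega)
                      · skip
                        exact allRange_sound _ 87600 100 chkP_87600 i (by omega) (by omega)
                · skip
                  rcases Nat.lt_or_ge i 87900 with h9 | h9
                  · skip
                    rcases Nat.lt_or_ge i 87800 with h10 | h10
                    · skip
                      exact allRange_sound _ 87700 100 chkP_87700 i (by omega) (by omega)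
                    · skip
                      exact allRange_sound _ 87800 100 chkP_87800 i (by omega) (by omega)
                  · skip
                    rcases Nat.lt_or_ge i 88000 with h10 | h10
                    · skip
                      exact allRange_sound _ 87900 100 chkP_87900 i (by omega) (by omega)
                    · skip
                      rcases Nat.lt_or_ge i 88100 with h11 | h11
                      · skip
                        exact allRange_sound _ 88000 100 chkP_88000 i (by omega) (by omega)
                      · skip
                        exact allRange_sound _ 88100 100 chkP_88100 i (by omega) (by omega)
          · skip
            rcases Nat.lt_or_ge i 90100 with h6 | h6
            · skip
              rcases Nat.lt_or_ge i 89100 with h7 | h7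
              · skip
                rcases Nat.lt_or_ge i 88600 with h8 | h8
                · skip
                  rcases Nat.lt_or_ge i 88400 with h9 | h9
                  · skip
                    rcases Nat.lt_or_ge i 88300 with h10 | h10
                    · skip
                      exact allRange_sound _ 88200 100 chkP_88200 i (by omega) (by omega)
                    · skip
                      exact allRange_sound _ 88300 100 chkP_88300 i (by omega) (by omega)
                  · skip
                    rcases Nat.lt_or_ge i 88500 with h10 | h10
                    · skip
                      exact allRange_sound _ 88400 100 chkP_88400 i (by omega) (by omega)
                    · skip
                      exact allRange_sound _ 88500 100 chkP_88500 i (by omega) (by omega)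
                · skip
                  rcases Nat.lt_or_ge i 88800 with h9 | h9
                  · skip
                    rcases Nat.lt_or_ge i 88700 with h10 | h10
                    · skip
                      exact allRange_sound _ 88600 100 chkP_88600 i (by omega) (by omega)
                    · skip
                      exact allRange_sound _ 88700 100 chkP_88700 i (by omega) (by omega)
                  · skip
                    rcases Nat.lt_or_ge i 88900 with h10 | h10
                    · skip
                      exact allRange_sound _ 88800 100 chkP_88800 i (by omega) (by omega)
                    · skip
                      rcases Nat.lt_or_ge i 89000 with h11 | h11
                      · skip
                        exact allRange_sound _ 88900 100 chkP_88900 i (by omega) (by omega)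
                      · skip
                        exact allRange_sound _ 89000 100 chkP_89000 i (by omega) (by omega)
              · skip
                rcases Nat.lt_or_ge i 89600 with h8 | h8
                · skip
                  rcases Nat.lt_or_ge i 89300 with h9 | h9
                  · skip
                    rcases Nat.lt_or_ge i 89200 with h10 | h10
                    · skip
                      exact allRange_sound _ 89100 100 chkP_89100 i (by omega) (by omega)
                    · skip
                      exact allRange_sound _ 89200 100 chkP_89200 i (by omega) (by omega)
                  · skip
                    rcases Nat.lt_or_ge i 89400 with h10 | h10
                    · skip
                      exact allRange_sound _ 89300 100 chkP_89300 i (by omega) (by omega)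
                    · skip
                      rcases Nat.lt_or_ge i 89500 with h11 | h11
                      · skip
                        exact allRange_sound _ 89400 100 chkP_89400 i (by omega) (by omega)
                      · skip
                        exact allRange_sound _ 89500 100 chkP_89500 i (by omega) (by omega)
                · skip
                  rcases Nat.lt_or_ge i 89800 with h9 | h9
                  · skip
                    rcases Nat.lt_or_ge i 89700 with h10 | h10
                    · skip
                      exact allRange_sound _ 89600 100 chkP_89600 i (by omega) (by omega)
                    · skip
                      exact allRange_sound _ 89700 100 chkP_89700 i (by omega) (by omega)
                  · skip
                    rcases Nat.lt_or_ge i 89900 with h10 | h10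
                    · skip
                      exact allRange_sound _ 89800 100 chkP_89800 i (by omega) (by omega)
                    · skip
                      rcases Nat.lt_or_ge i 90000 with h11 | h11
                      · skip
                        exact allRange_sound _ 89900 100 chkP_89900 i (by omega) (by omega)
                      · skip
                        exact allRange_sound _ 90000 100 chkP_90000 i (by omega) (by omega)
            · skip
              rcases Nat.lt_or_ge i 91100 with h7 | h7
              · skip
                rcases Nat.lt_or_ge i 90600 with h8 | h8
                · skip
                  rcases Nat.lt_or_ge i 90300 with h9 | h9
                  · skip
                    rcases Nat.lt_or_ge i 90200 with h10 | h10
                    · skip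
                      exact allRange_sound _ 90100 100 chkP_90100 i (by omega) (by omega)
                    · skip
                      exact allRange_sound _ 90200 100 chkP_90200 i (by omega) (by omega)
                  · skip
                    rcases Nat.lt_or_ge i 90400 with h10 | h10
                    · skip
                      exact allRange_sound _ 90300 100 chkP_90300 i (by omega) (by omega)
                    · skip
                      rcases Nat.lt_or_ge i 90500 with h11 | h11
                      · skip
                        exact allRange_sound _ 90400 100 chkP_90400 i (by omega) (by omega)
                      · skip
                        exact allRange_sound _ 90500 100 chkP_90500 i (by omega) (by omega)
                · skip
                  rcases Nat.lt_or_ge i 90800 with h9 | h9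
                  · skip
                    rcases Nat.lt_or_ge i 90700 with h10 | h10
                    · skip
                      exact allRange_sound _ 90600 100 chkP_90600 i (by omega) (by omega)
                    · skip
                      exact allRange_sound _ 90700 100 chkP_90700 i (by omega) (by omega)
                  · skip
                    rcases Nat.lt_or_ge i 90900 with h10 | h10
                    · skip
                      exact allRange_sound _ 90800 100 chkP_90800 i (by omega) (by omega)
                    · skip
                      rcases Nat.lt_or_ge i 91000 with h11 | h11
                      · skip
                        exact allRange_sound _ 90900 100 chkP_90900 i (by omega) (by omega)
                      · skip
                        exact allRange_sound _ 91000 100 chkP_91000 i (by omega) (by omega)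
              · skip
                rcases Nat.lt_or_ge i 91600 with h8 | h8
                · skip
                  rcases Nat.lt_or_ge i 91300 with h9 | h9
                  · skip
                    rcases Nat.lt_or_ge i 91200 with h10 | h10
                    · skip
                      exact allRange_sound _ 91100 100 chkP_91100 i (by omega) (by omega)
                    · skip
                      exact allRange_sound _ 91200 100 chkP_91200 i (by omega) (by omega)
                  · skip
                    rcases Nat.lt_or_ge i 91400 with h10 | h10
                    · skip
                      exact allRange_sound _ 91300 100 chkP_91300 i (by omega) (by omega)
                    · skip
                      rcases Nat.lt_or_ge i 91500 with h11 | h11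
                      · skip
                        exact allRange_sound _ 91400 100 chkP_91400 i (by omega) (by omega)
                      · skip
                        exact allRange_sound _ 91500 100 chkP_91500 i (by omega) (by omega)
                · skip
                  rcases Nat.lt_or_ge i 91800 with h9 | h9
                  · skip
                    rcases Nat.lt_or_ge i 91700 with h10 | h10
                    · skip
                      exact allRange_sound _ 91600 100 chkP_91600 i (by omega) (by omega)
                    · skip
                      exact allRange_sound _ 91700 100 chkP_91700 i (by omega) (by omega)
                  · skip
                    rcases Nat.lt_or_ge i 91900 with h10 | h10
                    · skip
                      exact allRange_sound _ 91800 100 chkP_91800 i (by omega) (by omega)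
                    · skip
                      rcases Nat.lt_or_ge i 92000 with h11 | h11
                      · skip
                        exact allRange_sound _ 91900 100 chkP_91900 i (by omega) (by omega)
                      · skip
                        exact allRange_sound _ 92000 100 chkP_92000 i (by omega) (by omega)
    · skip
      rcases Nat.lt_or_ge i 107400 with h3 | h3
      · skip
        rcases Nat.lt_or_ge i 99700 with h4 | h4
        · skip
          rcases Nat.lt_or_ge i 95900 with h5 | h5
          · skip
            rcases Nat.lt_or_ge i 94000 with h6 | h6
            · skip
              rcases Nat.lt_or_ge i 93000 with h7 | h7
              · skip
                rcases Nat.lt_or_ge i 92500 with h8 | h8
                · skip
                  rcases Nat.lt_or_ge i 92300 with h9 | h9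
                  · skip
                    rcases Nat.lt_or_ge i 92200 with h10 | h10
                    · skip
                      exact allRange_sound _ 92100 100 chkP_92100 i (by omega) (by omega)
                    · skip
                      exact allRange_sound _ 92200 100 chkP_92200 i (by omega) (by omega)
                  · skip
                    rcases Nat.lt_or_ge i 92400 with h10 | h10
                    · skip
                      exact allRange_sound _ 92300 100 chkP_92300 i (by omega) (by omega)
                    · skip
                      exact allRange_sound _ 92400 100 chkP_92400 i (by omega) (by omega)
                · skip
                  rcases Nat.lt_or_ge i 92700 with h9 | h9
                  · skip
                    rcases Nat.lt_or_ge i 92600 with h10 | h10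
                    · skip
                      exact allRange_sound _ 92500 100 chkP_92500 i (by omega) (by omega)
                    · skip
                      exact allRange_sound _ 92600 100 chkP_92600 i (by omega) (by omega)
                  · skip
                    rcases Nat.lt_or_ge i 92800 with h10 | h10
                    · skip
                      exact allRange_sound _ 92700 100 chkP_92700 i (by omega) (by omega)
                    · skip
                      rcases Nat.lt_or_ge i 92900 with h11 | h11
                      · skip
                        exact allRange_sound _ 92800 100 chkP_92800 i (by omega) (by omega)
                      · skip
                        exact allRange_sound _ 92900 100 chkP_92900 i (by omega) (by omega)
              · skip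
                rcases Nat.lt_or_ge i 93500 with h8 | h8
                · skip
                  rcases Nat.lt_or_ge i 93200 with h9 | h9
                  · skip
                    rcases Nat.lt_or_ge i 93100 with h10 | h10
                    · skip
                      exact allRange_sound _ 93000 100 chkP_93000 i (by omega) (by omega)
                    · skip
                      exact allRange_sound _ 93100 100 chkP_93100 i (by omega) (by omega)
                  · skip
                    rcases Nat.lt_or_ge i 93300 with h10 | h10
                    · skip
                      exact allRange_sound _ 93200 100 chkP_93200 i (by omega) (by omega)
                    · skip
                      rcases Nat.lt_or_ge i 93400 with h11 | h11
                      · skip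
                        exact allRange_sound _ 93300 100 chkP_93300 i (by omega) (by omega)
                      · skip
                        exact allRange_sound _ 93400 100 chkP_93400 i (by omega) (by omega)
                · skip
                  rcases Nat.lt_or_ge i 93700 with h9 | h9
                  · skip
                    rcases Nat.lt_or_ge i 93600 with h10 | h10
                    · skip
                      exact allRange_sound _ 93500 100 chkP_93500 i (by omega) (by omega)
                    · skip
                      exact allRange_sound _ 93600 100 chkP_93600 i (by omega) (by omega)
                  · skip
                    rcases Nat.lt_or_ge i 93800 with h10 | h10
                    · skip
                      exact allRange_sound _ 93700 100 chkP_93700 i (by omega) (by omega)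
                    · skip
                      rcases Nat.lt_or_ge i 93900 with h11 | h11
                      · skip
                        exact allRange_sound _ 93800 100 chkP_93800 i (by omega) (by omega)
                      · skip
                        exact allRange_sound _ 93900 100 chkP_93900 i (by omega) (by omega)
            · skip
              rcases Nat.lt_or_ge i 94900 with h7 | h7
              · skip
                rcases Nat.lt_or_ge i 94400 with h8 | h8
                · skip
                  rcases Nat.lt_or_ge i 94200 with h9 | h9
                  · skip
                    rcases Nat.lt_or_ge i 94100 with h10 | h10
                    · skip
                      exact allRange_sound _ 94000 100 chkP_94000 i (by omega) (by omega)
                    · skip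
                      exact allRange_sound _ 94100 100 chkP_94100 i (by omega) (by omega)
                  · skip
                    rcases Nat.lt_or_ge i 94300 with h10 | h10
                    · skip
                      exact allRange_sound _ 94200 100 chkP_94200 i (by omega) (by omega)
                    · skip
                      exact allRange_sound _ 94300 100 chkP_94300 i (by omega) (by omega)
                · skip
                  rcases Nat.lt_or_ge i 94600 with h9 | h9
                  · skip
                    rcases Nat.lt_or_ge i 94500 with h10 | h10
                    · skip
                      exact allRange_sound _ 94400 100 chkP_94400 i (by omega) (by omega)
                    · skip
                      exact allRange_sound _ 94500 100 chkP_94500 i (by omega) (by omega)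
                  · skip
                    rcases Nat.lt_or_ge i 94700 with h10 | h10
                    · skip
                      exact allRange_sound _ 94600 100 chkP_94600 i (by omega) (by omega)
                    · skip
                      rcases Nat.lt_or_ge i 94800 with h11 | h11
                      · skip
                        exact allRange_sound _ 94700 100 chkP_94700 i (by omega) (by omega)
                      · skip
                        exact allRange_sound _ 94800 100 chkP_94800 i (by omega) (by omega)
              · skip
                rcases Nat.lt_or_ge i 95400 with h8 | h8
                · skip
                  rcases Nat.lt_or_ge i 95100 with h9 | h9
                  · skip
                    rcases Nat.lt_or_ge i 95000 with h10 | h10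
                    · skip
                      exact allRange_sound _ 94900 100 chkP_94900 i (by omega) (by omega)
                    · skip
                      exact allRange_sound _ 95000 100 chkP_95000 i (by omega) (by omega)
                  · skip
                    rcases Nat.lt_or_ge i 95200 with h10 | h10
                    · skip
                      exact allRange_sound _ 95100 100 chkP_95100 i (by omega) (by omega)
                    · skip
                      rcases Nat.lt_or_ge i 95300 with h11 | h11
                      · skip
                        exact allRange_sound _ 95200 100 chkP_95200 i (by omega) (by omega)
                      · skip
                        exact allRange_sound _ 95300 100 chkP_95300 i (by omega) (by omega)
                · skip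
                  rcases Nat.lt_or_ge i 95600 with h9 | h9
                  · skip
                    rcases Nat.lt_or_ge i 95500 with h10 | h10
                    · skip
                      exact allRange_sound _ 95400 100 chkP_95400 i (by omega) (by omega)
                    · skip
                      exact allRange_sound _ 95500 100 chkP_95500 i (by omega) (by omega)
                  · skip
                    rcases Nat.lt_or_ge i 95700 with h10 | h10
                    · skip
                      exact allRange_sound _ 95600 100 chkP_95600 i (by omega) (by omega)
                    · skip
                      rcases Nat.lt_or_ge i 95800 with h11 | h11
                      · skip
                        exact allRange_sound _ 95700 100 chkP_95700 i (by omega) (by omega)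
                      · skip
                        exact allRange_sound _ 95800 100 chkP_95800 i (by omega) (by omega)
          · skip
            rcases Nat.lt_or_ge i 97800 with h6 | h6
            · skip
              rcases Nat.lt_or_ge i 96800 with h7 | h7
              · skip
                rcases Nat.lt_or_ge i 96300 with h8 | h8
                · skip
                  rcases Nat.lt_or_ge i 96100 with h9 | h9
                  · skip
                    rcases Nat.lt_or_ge i 96000 with h10 | h10
                    · skip
                      exact allRange_sound _ 95900 100 chkP_95900 i (by omega) (by omega)
                    · skip
                      exact allRange_sound _ 96000 100 chkP_96000 i (by omega) (by omega)
                  · skip
                    rcases Nat.lt_or_ge i 96200 with h10 | h10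
                    · skip
                      exact allRange_sound _ 96100 100 chkP_96100 i (by omega) (by omega)
                    · skip
                      exact allRange_sound _ 96200 100 chkP_96200 i (by omega) (by omega)
                · skip
                  rcases Nat.lt_or_ge i 96500 with h9 | h9
                  · skip
                    rcases Nat.lt_or_ge i 96400 with h10 | h10
                    · skip
                      exact allRange_sound _ 96300 100 chkP_96300 i (by omega) (by omega)
                    · skip
                      exact allRange_sound _ 96400 100 chkP_96400 i (by omega) (by omega)
                  · skip
                    rcases Nat.lt_or_ge i 96600 with h10 | h10
                    · skip
                      exact allRange_sound _ 96500 100 chkP_96500 i (by omega) (by omega)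
                    · skip
                      rcases Nat.lt_or_ge i 96700 with h11 | h11
                      · skip
                        exact allRange_sound _ 96600 100 chkP_96600 i (by omega) (by omega)
                      · skip
                        exact allRange_sound _ 96700 100 chkP_96700 i (by omega) (by omega)
              · skip
                rcases Nat.lt_or_ge i 97300 with h8 | h8
                · skip
                  rcases Nat.lt_or_ge i 97000 with h9 | h9
                  · skip
                    rcases Nat.lt_or_ge i 96900 with h10 | h10
                    · skip
                      exact allRange_sound _ 96800 100 chkP_96800 i (by omega) (by omega)
                    · skip
                      exact allRange_sound _ 96900 100 chkP_96900 i (by omega) (by omega)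
                  · skip
                    rcases Nat.lt_or_ge i 97100 with h10 | h10
                    · skip
                      exact allRange_sound _ 97000 100 chkP_97000 i (by omega) (by omega)
                    · skip
                      rcases Nat.lt_or_ge i 97200 with h11 | h11
                      · skip
                        exact allRange_sound _ 97100 100 chkP_97100 i (by omega) (by omega)
                      · skip
                        exact allRange_sound _ 97200 100 chkP_97200 i (by omega) (by omega)
                · skip
                  rcases Nat.lt_or_ge i 97500 with h9 | h9
                  · skip
                    rcases Nat.lt_or_ge i 97400 with h10 | h10
                    · skip
                      exact allRange_sound _ 97300 100 chkP_97300 i (by omega) (by omega)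
                    · skip
                      exact allRange_sound _ 97400 100 chkP_97400 i (by omega) (by omega)
                  · skip
                    rcases Nat.lt_or_ge i 97600 with h10 | h10
                    · skip
                      exact allRange_sound _ 97500 100 chkP_97500 i (by omega) (by omega)
                    · skip
                      rcases Nat.lt_or_ge i 97700 with h11 | h11
                      · skip
                        exact allRange_sound _ 97600 100 chkP_97600 i (by omega) (by omega)
                      · skip
                        exact allRange_sound _ 97700 100 chkP_97700 i (by omega) (by omega)
            · skip
              rcases Nat.lt_or_ge i 98700 with h7 | h7
              · skip
                rcases Nat.lt_or_ge i 98200 with h8 | h8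
                · skip
                  rcases Nat.lt_or_ge i 98000 with h9 | h9
                  · skip
                    rcases Nat.lt_or_ge i 97900 with h10 | h10
                    · skip
                      exact allRange_sound _ 97800 100 chkP_97800 i (by omega) (by omega)
                    · skip
                      exact allRange_sound _ 97900 100 chkP_97900 i (by omega) (by omega)
                  · skip
                    rcases Nat.lt_or_ge i 98100 with h10 | h10
                    · skip
                      exact allRange_sound _ 98000 100 chkP_98000 i (by omega) (by omega)
                    · skip
                      exact allRange_sound _ 98100 100 chkP_98100 i (by omega) (by omega)
                · skip
                  rcases Nat.lt_or_ge i 98400 with h9 | h9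
                  · skip
                    rcases Nat.lt_or_ge i 98300 with h10 | h10
                    · skip
                      exact allRange_sound _ 98200 100 chkP_98200 i (by omega) (by omega)
                    · skip
                      exact allRange_sound _ 98300 100 chkP_98300 i (by omega) (by omega)
                  · skip
                    rcases Nat.lt_or_ge i 98500 with h10 | h10
                    · skip
                      exact allRange_sound _ 98400 100 chkP_98400 i (by omega) (by omega)
                    · skip
                      rcases Nat.lt_or_ge i 98600 with h11 | h11
                      · skip
                        exact allRange_sound _ 98500 100 chkP_98500 i (by omega) (by omega)
                      · skip
                        exact allRange_sound _ 98600 100 chkP_98600 i (by omega) (by omega)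
              · skip
                rcases Nat.lt_or_ge i 99200 with h8 | h8
                · skip
                  rcases Nat.lt_or_ge i 98900 with h9 | h9
                  · skip
                    rcases Nat.lt_or_ge i 98800 with h10 | h10
                    · skip
                      exact allRange_sound _ 98700 100 chkP_98700 i (by omega) (by omega)
                    · skip
                      exact allRange_sound _ 98800 100 chkP_98800 i (by omega) (by omega)
                  · skip
                    rcases Nat.lt_or_ge i 99000 with h10 | h10
                    · skip
                      exact allRange_sound _ 98900 100 chkP_98900 i (by omega) (by omega)
                    · skip
                      rcases Nat.lt_or_ge i 99100 with h11 | h11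
                      · skip
                        exact allRange_sound _ 99000 100 chkP_99000 i (by omega) (by omega)
                      · skip
                        exact allRange_sound _ 99100 100 chkP_99100 i (by omega) (by omega)
                · skip
                  rcases Nat.lt_or_ge i 99400 with h9 | h9
                  · skip
                    rcases Nat.lt_or_ge i 99300 with h10 | h10
                    · skip
                      exact allRange_sound _ 99200 100 chkP_99200 i (by omega) (by omega)
                    · skip
                      exact allRange_sound _ 99300 100 chkP_99300 i (by omega) (by omega)
                  · skip
                    rcases Nat.lt_or_ge i 99500 with h10 | h10
                    · skip
                      exact allRange_sound _ 99400 100 chkP_99400 i (by omega) (by omega)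
                    · skip
                      rcases Nat.lt_or_ge i 99600 with h11 | h11
                      · skip
                        exact allRange_sound _ 99500 100 chkP_99500 i (by omega) (by omega)
                      · skip
                        exact allRange_sound _ 99600 100 chkP_99600 i (by omega) (by omega)
        · skip
          rcases Nat.lt_or_ge i 103500 with h5 | h5
          · skip
            rcases Nat.lt_or_ge i 101600 with h6 | h6
            · skip
              rcases Nat.lt_or_ge i 100600 with h7 | h7
              · skip
                rcases Nat.lt_or_ge i 100100 with h8 | h8
                · skip
                  rcases Nat.lt_or_ge i 99900 with h9 | h9
                  · skip
                    rcases Nat.lt_or_ge i 99800 with h10 | h10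
                    · skip
                      exact allRange_sound _ 99700 100 chkP_99700 i (by omega) (by omega)
                    · skip
                      exact allRange_sound _ 99800 100 chkP_99800 i (by omega) (by omega)
                  · skip
                    rcases Nat.lt_or_ge i 100000 with h10 | h10
                    · skip
                      exact allRange_sound _ 99900 100 chkP_99900 i (by omega) (by omega)
                    · skip
                      exact allRange_sound _ 100000 100 chkP_100000 i (by omega) (by omega)
                · skip
                  rcases Nat.lt_or_ge i 100300 with h9 | h9
                  · skip
                    rcases Nat.lt_or_ge i 100200 with h10 | h10
                    · skip
                      exact allRange_sound _ 100100 100 chkP_100100 i (by omega) (by omega)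
                    · skip
                      exact allRange_sound _ 100200 100 chkP_100200 i (by omega) (by omega)
                  · skip
                    rcases Nat.lt_or_ge i 100400 with h10 | h10
                    · skip
                      exact allRange_sound _ 100300 100 chkP_100300 i (by omega) (by omega)
                    · skip
                      rcases Nat.lt_or_ge i 100500 with h11 | h11
                      · skip
                        exact allRange_sound _ 100400 100 chkP_100400 i (by omega) (by omega)
                      · skip
                        exact allRange_sound _ 100500 100 chkP_100500 i (by omega) (by omega)
              · skip
                rcases Nat.lt_or_ge i 101100 with h8 | h8
                · skip
                  rcases Nat.lt_or_ge i 100800 with h9 | h9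
                  · skip
                    rcases Nat.lt_or_ge i 100700 with h10 | h10
                    · skip
                      exact allRange_sound _ 100600 100 chkP_100600 i (by omega) (by omega)
                    · skip
                      exact allRange_sound _ 100700 100 chkP_100700 i (by omega) (by omega)
                  · skip
                    rcases Nat.lt_or_ge i 100900 with h10 | h10
                    · skip
                      exact allRange_sound _ 100800 100 chkP_100800 i (by omega) (by omega)
                    · skip
                      rcases Nat.lt_or_ge i 101000 with h11 | h11
                      · skip
                        exact allRange_sound _ 100900 100 chkP_100900 i (by omega) (by omega)
                      · skip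
                        exact allRange_sound _ 101000 100 chkP_101000 i (by omega) (by omega)
                · skip
                  rcases Nat.lt_or_ge i 101300 with h9 | h9
                  · skip
                    rcases Nat.lt_or_ge i 101200 with h10 | h10
                    · skip
                      exact allRange_sound _ 101100 100 chkP_101100 i (by omega) (by omega)
                    · skip
                      exact allRange_sound _ 101200 100 chkP_101200 i (by omega) (by omega)
                  · skip
                    rcases Nat.lt_or_ge i 101400 with h10 | h10
                    · skip
                      exact allRange_sound _ 101300 100 chkP_101300 i (by omega) (by omega)
                    · skip
                      rcases Nat.lt_or_ge i 101500 with h11 | h11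
                      · skip
                        exact allRange_sound _ 101400 100 chkP_101400 i (by omega) (by omega)
                      · skip
                        exact allRange_sound _ 101500 100 chkP_101500 i (by omega) (by omega)
            · skip
              rcases Nat.lt_or_ge i 102500 with h7 | h7
              · skip
                rcases Nat.lt_or_ge i 102000 with h8 | h8
                · skip
                  rcases Nat.lt_or_ge i 101800 with h9 | h9
                  · skip
                    rcases Nat.lt_or_ge i 101700 with h10 | h10
                    · skip
                      exact allRange_sound _ 101600 100 chkP_101600 i (by omega) (by omega)
                    · skip
                      exact allRange_sound _ 101700 100 chkP_101700 i (by omega) (by omega)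
                  · skip
                    rcases Nat.lt_or_ge i 101900 with h10 | h10
                    · skip
                      exact allRange_sound _ 101800 100 chkP_101800 i (by omega) (by omega)
                    · skip
                      exact allRange_sound _ 101900 100 chkP_101900 i (by omega) (by omega)
                · skip
                  rcases Nat.lt_or_ge i 102200 with h9 | h9
                  · skip
                    rcases Nat.lt_or_ge i 102100 with h10 | h10
                    · skip
                      exact allRange_sound _ 102000 100 chkP_102000 i (by omega) (by omega)
                    · skip
                      exact allRange_sound _ 102100 100 chkP_102100 i (by omega) (by omega)
                  · skip
                    rcases Nat.lt_or_ge i 102300 with h10 | h10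
                    · skip
                      exact allRange_sound _ 102200 100 chkP_102200 i (by omega) (by omega)
                    · skip
                      rcases Nat.lt_or_ge i 102400 with h11 | h11
                      · skip
                        exact allRange_sound _ 102300 100 chkP_102300 i (by omega) (by omega)
                      · skip
                        exact allRange_sound _ 102400 100 chkP_102400 i (by omega) (by omega)
              · skip
                rcases Nat.lt_or_ge i 103000 with h8 | h8
                · skip
                  rcases Nat.lt_or_ge i 102700 with h9 | h9
                  · skip
                    rcases Nat.lt_or_ge i 102600 with h10 | h10
                    · skip
                      exact allRange_sound _ 102500 100 chkP_102500 i (by omega) (by omega)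
                    · skip
                      exact allRange_sound _ 102600 100 chkP_102600 i (by omega) (by omega)
                  · skip
                    rcases Nat.lt_or_ge i 102800 with h10 | h10
                    · skip
                      exact allRange_sound _ 102700 100 chkP_102700 i (by omega) (by omega)
                    · skip
                      rcases Nat.lt_or_ge i 102900 with h11 | h11
                      · skip
                        exact allRange_sound _ 102800 100 chkP_102800 i (by omega) (by omega)
                      · skip
                        exact allRange_sound _ 102900 100 chkP_102900 i (by omega) (by omega)
                · skip
                  rcases Nat.lt_or_ge i 103200 with h9 | h9
                  · skip
                    rcases Nat.lt_or_ge i 103100 with h10 | h10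
                    · skip
                      exact allRange_sound _ 103000 100 chkP_103000 i (by omega) (by omega)
                    · skip
                      exact allRange_sound _ 103100 100 chkP_103100 i (by omega) (by omega)
                  · skip
                    rcases Nat.lt_or_ge i 103300 with h10 | h10
                    · skip
                      exact allRange_sound _ 103200 100 chkP_103200 i (by omega) (by omega)
                    · skip
                      rcases Nat.lt_or_ge i 103400 with h11 | h11
                      · skip
                        exact allRange_sound _ 103300 100 chkP_103300 i (by omega) (by omega)
                      · skip
                        exact allRange_sound _ 103400 100 chkP_103400 i (by omega) (by omega)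
          · skip
            rcases Nat.lt_or_ge i 105400 with h6 | h6
            · skip
              rcases Nat.lt_or_ge i 104400 with h7 | h7
              · skip
                rcases Nat.lt_or_ge i 103900 with h8 | h8
                · skip
                  rcases Nat.lt_or_ge i 103700 with h9 | h9
                  · skip
                    rcases Nat.lt_or_ge i 103600 with h10 | h10
                    · skip
                      exact allRange_sound _ 103500 100 chkP_103500 i (by omega) (by omega)
                    · skip
                      exact allRange_sound _ 103600 100 chkP_103600 i (by omega) (by omega)
                  · skip
                    rcases Nat.lt_or_ge i 103800 with h10 | h10
                    · skip
                      exact allRange_sound _ 103700 100 chkP_103700 i (by omega) (by omega)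
                    · skip
                      exact allRange_sound _ 103800 100 chkP_103800 i (by omega) (by omega)
                · skip
                  rcases Nat.lt_or_ge i 104100 with h9 | h9
                  · skip
                    rcases Nat.lt_or_ge i 104000 with h10 | h10
                    · skip
                      exact allRange_sound _ 103900 100 chkP_103900 i (by omega) (by omega)
                    · skip
                      exact allRange_sound _ 104000 100 chkP_104000 i (by omega) (by omega)
                  · skip
                    rcases Nat.lt_or_ge i 104200 with h10 | h10
                    · skip
                      exact allRange_sound _ 104100 100 chkP_104100 i (by omega) (by omega)
                    · skip
                      rcases Nat.lt_or_ge i 104300 with h11 | h11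
                      · skip
                        exact allRange_sound _ 104200 100 chkP_104200 i (by omega) (by omega)
                      · skip
                        exact allRange_sound _ 104300 100 chkP_104300 i (by omega) (by omega)
              · skip
                rcases Nat.lt_or_ge i 104900 with h8 | h8
                · skip
                  rcases Nat.lt_or_ge i 104600 with h9 | h9
                  · skip
                    rcases Nat.lt_or_ge i 104500 with h10 | h10
                    · skip
                      exact allRange_sound _ 104400 100 chkP_104400 i (by omega) (by omega)
                    · skip
                      exact allRange_sound _ 104500 100 chkP_104500 i (by omega) (by omega)
                  · skip
                    rcases Nat.lt_or_ge i 104700 with h10 | h10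
                    · skip
                      exact allRange_sound _ 104600 100 chkP_104600 i (by omega) (by omega)
                    · skip
                      rcases Nat.lt_or_ge i 104800 with h11 | h11
                      · skip
                        exact allRange_sound _ 104700 100 chkP_104700 i (by omega) (by omega)
                      · skip
                        exact allRange_sound _ 104800 100 chkP_104800 i (by omega) (by omega)
                · skip
                  rcases Nat.lt_or_ge i 105100 with h9 | h9
                  · skip
                    rcases Nat.lt_or_ge i 105000 with h10 | h10
                    · skip
                      exact allRange_sound _ 104900 100 chkP_104900 i (by omega) (by omega)
                    · skip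
                      exact allRange_sound _ 105000 100 chkP_105000 i (by omega) (by omega)
                  · skip
                    rcases Nat.lt_or_ge i 105200 with h10 | h10
                    · skip
                      exact allRange_sound _ 105100 100 chkP_105100 i (by omega) (by omega)
                    · skip
                      rcases Nat.lt_or_ge i 105300 with h11 | h11
                      · skip
                        exact allRange_sound _ 105200 100 chkP_105200 i (by omega) (by omega)
                      · skip
                        exact allRange_sound _ 105300 100 chkP_105300 i (by omega) (by omega)
            · skip
              rcases Nat.lt_or_ge i 106400 with h7 | h7
              · skip
                rcases Nat.lt_or_ge i 105900 with h8 | h8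
                · skip
                  rcases Nat.lt_or_ge i 105600 with h9 | h9
                  · skip
                    rcases Nat.lt_or_ge i 105500 with h10 | h10
                    · skip
                      exact allRange_sound _ 105400 100 chkP_105400 i (by omega) (by omega)
                    · skip
                      exact allRange_sound _ 105500 100 chkP_105500 i (by omega) (by omega)
                  · skip
                    rcases Nat.lt_or_ge i 105700 with h10 | h10
                    · skip
                      exact allRange_sound _ 105600 100 chkP_105600 i (by omega) (by omega)
                    · skip
                      rcases Nat.lt_or_ge i 105800 with h11 | h11
                      · skip
                        exact allRange_sound _ 105700 100 chkP_105700 i (by omega) (by omega)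
                      · skip
                        exact allRange_sound _ 105800 100 chkP_105800 i (by omega) (by omega)
                · skip
                  rcases Nat.lt_or_ge i 106100 with h9 | h9
                  · skip
                    rcases Nat.lt_or_ge i 106000 with h10 | h10
                    · skip
                      exact allRange_sound _ 105900 100 chkP_105900 i (by omega) (by omega)
                    · skip
                      exact allRange_sound _ 106000 100 chkP_106000 i (by omega) (by omega)
                  · skip
                    rcases Nat.lt_or_ge i 106200 with h10 | h10
                    · skip
                      exact allRange_sound _ 106100 100 chkP_106100 i (by omega) (by omega)
                    · skip
                      rcases Nat.lt_or_ge i 106300 with h11 | h11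
                      · skip
                        exact allRange_sound _ 106200 100 chkP_106200 i (by omega) (by omega)
                      · skip
                        exact allRange_sound _ 106300 100 chkP_106300 i (by omega) (by omega)
              · skip
                rcases Nat.lt_or_ge i 106900 with h8 | h8
                · skip
                  rcases Nat.lt_or_ge i 106600 with h9 | h9
                  · skip
                    rcases Nat.lt_or_ge i 106500 with h10 | h10
                    · skip
                      exact allRange_sound _ 106400 100 chkP_106400 i (by omega) (by omega)
                    · skip
                      exact allRange_sound _ 106500 100 chkP_106500 i (by omega) (by omega)
                  · skip
                    rcases Nat.lt_or_ge i 106700 with h10 | h10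
                    · skip
                      exact allRange_sound _ 106600 100 chkP_106600 i (by omega) (by omega)
                    · skip
                      rcases Nat.lt_or_ge i 106800 with h11 | h11
                      · skip
                        exact allRange_sound _ 106700 100 chkP_106700 i (by omega) (by omega)
                      · skip
                        exact allRange_sound _ 106800 100 chkP_106800 i (by omega) (by omega)
                · skip
                  rcases Nat.lt_or_ge i 107100 with h9 | h9
                  · skip
                    rcases Nat.lt_or_ge i 107000 with h10 | h10
                    · skip
                      exact allRange_sound _ 106900 100 chkP_106900 i (by omega) (by omega)
                    · skip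
                      exact allRange_sound _ 107000 100 chkP_107000 i (by omega) (by omega)
                  · skip
                    rcases Nat.lt_or_ge i 107200 with h10 | h10
                    · skip
                      exact allRange_sound _ 107100 100 chkP_107100 i (by omega) (by omega)
                    · skip
                      rcases Nat.lt_or_ge i 107300 with h11 | h11
                      · skip
                        exact allRange_sound _ 107200 100 chkP_107200 i (by omega) (by omega)
                      · skip
                        exact allRange_sound _ 107300 100 chkP_107300 i (by omega) (by omega)
      · skip
        rcases Nat.lt_or_ge i 115100 with h4 | h4
        · skip
          rcases Nat.lt_or_ge i 111200 with h5 | h5
          · skip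
            rcases Nat.lt_or_ge i 109300 with h6 | h6
            · skip
              rcases Nat.lt_or_ge i 108300 with h7 | h7
              · skip
                rcases Nat.lt_or_ge i 107800 with h8 | h8
                · skip
                  rcases Nat.lt_or_ge i 107600 with h9 | h9
                  · skip
                    rcases Nat.lt_or_ge i 107500 with h10 | h10
                    · skip
                      exact allRange_sound _ 107400 100 chkP_107400 i (by omega) (by omega)
                    · skip
                      exact allRange_sound _ 107500 100 chkP_107500 i (by omega) (by omega)
                  · skip
                    rcases Nat.lt_or_ge i 107700 with h10 | h10
                    · skip
                      exact allRange_sound _ 107600 100 chkP_107600 i (by omega) (by omega)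
                    · skip
                      exact allRange_sound _ 107700 100 chkP_107700 i (by omega) (by omega)
                · skip
                  rcases Nat.lt_or_ge i 108000 with h9 | h9
                  · skip
                    rcases Nat.lt_or_ge i 107900 with h10 | h10
                    · skip
                      exact allRange_sound _ 107800 100 chkP_107800 i (by omega) (by omega)
                    · skip
                      exact allRange_sound _ 107900 100 chkP_107900 i (by omega) (by omega)
                  · skip
                    rcases Nat.lt_or_ge i 108100 with h10 | h10
                    · skip
                      exact allRange_sound _ 108000 100 chkP_108000 i (by omega) (by omega)
                    · skip
                      rcases Nat.lt_or_ge i 108200 with h11 | h11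
                      · skip
                        exact allRange_sound _ 108100 100 chkP_108100 i (by omega) (by omega)
                      · skip
                        exact allRange_sound _ 108200 100 chkP_108200 i (by omega) (by omega)
              · skip
                rcases Nat.lt_or_ge i 108800 with h8 | h8
                · skip
                  rcases Nat.lt_or_ge i 108500 with h9 | h9
                  · skip
                    rcases Nat.lt_or_ge i 108400 with h10 | h10
                    · skip
                      exact allRange_sound _ 108300 100 chkP_108300 i (by omega) (by omega)
                    · skip
                      exact allRange_sound _ 108400 100 chkP_108400 i (by omega) (by omega)
                  · skip
                    rcases Nat.lt_or_ge i 108600 with h10 | h10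
                    · skip
                      exact allRange_sound _ 108500 100 chkP_108500 i (by omega) (by omega)
                    · skip
                      rcases Nat.lt_or_ge i 108700 with h11 | h11
                      · skip
                        exact allRange_sound _ 108600 100 chkP_108600 i (by omega) (by omega)
                      · skip
                        exact allRange_sound _ 108700 100 chkP_108700 i (by omega) (by omega)
                · skip
                  rcases Nat.lt_or_ge i 109000 with h9 | h9
                  · skip
                    rcases Nat.lt_or_ge i 108900 with h10 | h10
                    · skip
                      exact allRange_sound _ 108800 100 chkP_108800 i (by omega) (by omega)
                    · skip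
                      exact allRange_sound _ 108900 100 chkP_108900 i (by omega) (by omega)
                  · skip
                    rcases Nat.lt_or_ge i 109100 with h10 | h10
                    · skip
                      exact allRange_sound _ 109000 100 chkP_109000 i (by omega) (by omega)
                    · skip
                      rcases Nat.lt_or_ge i 109200 with h11 | h11
                      · skip
                        exact allRange_sound _ 109100 100 chkP_109100 i (by omega) (by omega)
                      · skip
                        exact allRange_sound _ 109200 100 chkP_109200 i (by omega) (by omega)
            · skip
              rcases Nat.lt_or_ge i 110200 with h7 | h7
              · skip
                rcases Nat.lt_or_ge i 109700 with h8 | h8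
                · skip
                  rcases Nat.lt_or_ge i 109500 with h9 | h9
                  · skip
                    rcases Nat.lt_or_ge i 109400 with h10 | h10
                    · skip
                      exact allRange_sound _ 109300 100 chkP_109300 i (by omega) (by omega)
                    · skip
                      exact allRange_sound _ 109400 100 chkP_109400 i (by omega) (by omega)
                  · skip
                    rcases Nat.lt_or_ge i 109600 with h10 | h10
                    · skip
                      exact allRange_sound _ 109500 100 chkP_109500 i (by omega) (by omega)
                    · skip
                      exact allRange_sound _ 109600 100 chkP_109600 i (by omega) (by omega)
                · skip
                  rcases Nat.lt_or_ge i 109900 with h9 | h9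
                  · skip
                    rcases Nat.lt_or_ge i 109800 with h10 | h10
                    · skip
                      exact allRange_sound _ 109700 100 chkP_109700 i (by omega) (by omega)
                    · skip
                      exact allRange_sound _ 109800 100 chkP_109800 i (by omega) (by omega)
                  · skip
                    rcases Nat.lt_or_ge i 110000 with h10 | h10
                    · skip
                      exact allRange_sound _ 109900 100 chkP_109900 i (by omega) (by omega)
                    · skip
                      rcases Nat.lt_or_ge i 110100 with h11 | h11
                      · skip
                        exact allRange_sound _ 110000 100 chkP_110000 i (by omega) (by omega)
                      · skip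
                        exact allRange_sound _ 110100 100 chkP_110100 i (by omega) (by omega)
              · skip
                rcases Nat.lt_or_ge i 110700 with h8 | h8
                · skip
                  rcases Nat.lt_or_ge i 110400 with h9 | h9
                  · skip
                    rcases Nat.lt_or_ge i 110300 with h10 | h10
                    · skip
                      exact allRange_sound _ 110200 100 chkP_110200 i (by omega) (by omega)
                    · skip
                      exact allRange_sound _ 110300 100 chkP_110300 i (by omega) (by omega)
                  · skip
                    rcases Nat.lt_or_ge i 110500 with h10 | h10
                    · skip
                      exact allRange_sound _ 110400 100 chkP_110400 i (by omega) (by omega)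
                    · skip
                      rcases Nat.lt_or_ge i 110600 with h11 | h11
                      · skip
                        exact allRange_sound _ 110500 100 chkP_110500 i (by omega) (by omega)
                      · skip
                        exact allRange_sound _ 110600 100 chkP_110600 i (by omega) (by omega)
                · skip
                  rcases Nat.lt_or_ge i 110900 with h9 | h9
                  · skip
                    rcases Nat.lt_or_ge i 110800 with h10 | h10
                    · skip
                      exact allRange_sound _ 110700 100 chkP_110700 i (by omega) (by omega)
                    · skip
                      exact allRange_sound _ 110800 100 chkP_110800 i (by omega) (by omega)
                  · skip
                    rcases Nat.lt_or_ge i 111000 with h10 | h10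
                    · skip
                      exact allRange_sound _ 110900 100 chkP_110900 i (by omega) (by omega)
                    · skip
                      rcases Nat.lt_or_ge i 111100 with h11 | h11
                      · skip
                        exact allRange_sound _ 111000 100 chkP_111000 i (by omega) (by omega)
                      · skip
                        exact allRange_sound _ 111100 100 chkP_111100 i (by omega) (by omega)
          · skip
            rcases Nat.lt_or_ge i 113100 with h6 | h6
            · skip
              rcases Nat.lt_or_ge i 112100 with h7 | h7
              · skip
                rcases Nat.lt_or_ge i 111600 with h8 | h8
                · skip
                  rcases Nat.lt_or_ge i 111400 with h9 | h9
                  · skip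
                    rcases Nat.lt_or_ge i 111300 with h10 | h10
                    · skip
                      exact allRange_sound _ 111200 100 chkP_111200 i (by omega) (by omega)
                    · skip
                      exact allRange_sound _ 111300 100 chkP_111300 i (by omega) (by omega)
                  · skip
                    rcases Nat.lt_or_ge i 111500 with h10 | h10
                    · skip
                      exact allRange_sound _ 111400 100 chkP_111400 i (by omega) (by omega)
                    · skip
                      exact allRange_sound _ 111500 100 chkP_111500 i (by omega) (by omega)
                · skip
                  rcases Nat.lt_or_ge i 111800 with h9 | h9
                  · skip
                    rcases Nat.lt_or_ge i 111700 with h10 | h10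
                    · skip
                      exact allRange_sound _ 111600 100 chkP_111600 i (by omega) (by omega)
                    · skip
                      exact allRange_sound _ 111700 100 chkP_111700 i (by omega) (by omega)
                  · skip
                    rcases Nat.lt_or_ge i 111900 with h10 | h10
                    · skip
                      exact allRange_sound _ 111800 100 chkP_111800 i (by omega) (by omega)
                    · skip
                      rcases Nat.lt_or_ge i 112000 with h11 | h11
                      · skip
                        exact allRange_sound _ 111900 100 chkP_111900 i (by omega) (by omega)
                      · skip
                        exact allRange_sound _ 112000 100 chkP_112000 i (by omega) (by omega)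
              · skip
                rcases Nat.lt_or_ge i 112600 with h8 | h8
                · skip
                  rcases Nat.lt_or_ge i 112300 with h9 | h9
                  · skip
                    rcases Nat.lt_or_ge i 112200 with h10 | h10
                    · skip
                      exact allRange_sound _ 112100 100 chkP_112100 i (by omega) (by omega)
                    · skip
                      exact allRange_sound _ 112200 100 chkP_112200 i (by omega) (by omega)
                  · skip
                    rcases Nat.lt_or_ge i 112400 with h10 | h10
                    · skip
                      exact allRange_sound _ 112300 100 chkP_112300 i (by omega) (by omega)
                    · skip
                      rcases Nat.lt_or_ge i 112500 with h11 | h11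
                      · skip
                        exact allRange_sound _ 112400 100 chkP_112400 i (by omega) (by omega)
                      · skip
                        exact allRange_sound _ 112500 100 chkP_112500 i (by omega) (by omega)
                · skip
                  rcases Nat.lt_or_ge i 112800 with h9 | h9
                  · skip
                    rcases Nat.lt_or_ge i 112700 with h10 | h10
                    · skip
                      exact allRange_sound _ 112600 100 chkP_112600 i (by omega) (by omega)
                    · skip
                      exact allRange_sound _ 112700 100 chkP_112700 i (by omega) (by omega)
                  · skip
                    rcases Nat.lt_or_ge i 112900 with h10 | h10
                    · skip
                      exact allRange_sound _ 112800 100 chkP_112800 i (by omega) (by omega)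
                    · skip
                      rcases Nat.lt_or_ge i 113000 with h11 | h11
                      · skip
                        exact allRange_sound _ 112900 100 chkP_112900 i (by omega) (by omega)
                      · skip
                        exact allRange_sound _ 113000 100 chkP_113000 i (by omega) (by omega)
            · skip
              rcases Nat.lt_or_ge i 114100 with h7 | h7
              · skip
                rcases Nat.lt_or_ge i 113600 with h8 | h8
                · skip
                  rcases Nat.lt_or_ge i 113300 with h9 | h9
                  · skip
                    rcases Nat.lt_or_ge i 113200 with h10 | h10
                    · skip
                      exact allRange_sound _ 113100 100 chkP_113100 i (by omega) (by omega)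
                    · skip
                      exact allRange_sound _ 113200 100 chkP_113200 i (by omega) (by omega)
                  · skip
                    rcases Nat.lt_or_ge i 113400 with h10 | h10
                    · skip
                      exact allRange_sound _ 113300 100 chkP_113300 i (by omega) (by omega)
                    · skip
                      rcases Nat.lt_or_ge i 113500 with h11 | h11
                      · skip
                        exact allRange_sound _ 113400 100 chkP_113400 i (by omega) (by omega)
                      · skip
                        exact allRange_sound _ 113500 100 chkP_113500 i (by omega) (by omega)
                · skip
                  rcases Nat.lt_or_ge i 113800 with h9 | h9
                  · skip
                    rcases Nat.lt_or_ge i 113700 with h10 | h10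
                    · skip
                      exact allRange_sound _ 113600 100 chkP_113600 i (by omega) (by omega)
                    · skip
                      exact allRange_sound _ 113700 100 chkP_113700 i (by omega) (by omega)
                  · skip
                    rcases Nat.lt_or_ge i 113900 with h10 | h10
                    · skip
                      exact allRange_sound _ 113800 100 chkP_113800 i (by omega) (by omega)
                    · skip
                      rcases Nat.lt_or_ge i 114000 with h11 | h11
                      · skip
                        exact allRange_sound _ 113900 100 chkP_113900 i (by omega) (by omega)
                      · skip
                        exact allRange_sound _ 114000 100 chkP_114000 i (by omega) (by omega)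
              · skip
                rcases Nat.lt_or_ge i 114600 with h8 | h8
                · skip
                  rcases Nat.lt_or_ge i 114300 with h9 | h9
                  · skip
                    rcases Nat.lt_or_ge i 114200 with h10 | h10
                    · skip
                      exact allRange_sound _ 114100 100 chkP_114100 i (by omega) (by omega)
                    · skip
                      exact allRange_sound _ 114200 100 chkP_114200 i (by omega) (by omega)
                  · skip
                    rcases Nat.lt_or_ge i 114400 with h10 | h10
                    · skip
                      exact allRange_sound _ 114300 100 chkP_114300 i (by omega) (by omega)
                    · skip
                      rcases Nat.lt_or_ge i 114500 with h11 | h11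
                      · skip
                        exact allRange_sound _ 114400 100 chkP_114400 i (by omega) (by omega)
                      · skip
                        exact allRange_sound _ 114500 100 chkP_114500 i (by omega) (by omega)
                · skip
                  rcases Nat.lt_or_ge i 114800 with h9 | h9
                  · skip
                    rcases Nat.lt_or_ge i 114700 with h10 | h10
                    · skip
                      exact allRange_sound _ 114600 100 chkP_114600 i (by omega) (by omega)
                    · skip
                      exact allRange_sound _ 114700 100 chkP_114700 i (by omega) (by omega)
                  · skip
                    rcases Nat.lt_or_ge i 114900 with h10 | h10
                    · skip
                      exact allRange_sound _ 114800 100 chkP_114800 i (by omega) (by omega)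
                    · skip
                      rcases Nat.lt_or_ge i 115000 with h11 | h11
                      · skip
                        exact allRange_sound _ 114900 100 chkP_114900 i (by omega) (by omega)
                      · skip
                        exact allRange_sound _ 115000 100 chkP_115000 i (by omega) (by omega)
        · skip
          rcases Nat.lt_or_ge i 118900 with h5 | h5
          · skip
            rcases Nat.lt_or_ge i 117000 with h6 | h6
            · skip
              rcases Nat.lt_or_ge i 116000 with h7 | h7
              · skip
                rcases Nat.lt_or_ge i 115500 with h8 | h8
                · skip
                  rcases Nat.lt_or_ge i 115300 with h9 | h9
                  · skip
                    rcases Nat.lt_or_ge i 115200 with h10 | h10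
                    · skip
                      exact allRange_sound _ 115100 100 chkP_115100 i (by omega) (by omega)
                    · skip
                      exact allRange_sound _ 115200 100 chkP_115200 i (by omega) (by omega)
                  · skip
                    rcases Nat.lt_or_ge i 115400 with h10 | h10
                    · skip
                      exact allRange_sound _ 115300 100 chkP_115300 i (by omega) (by omega)
                    · skip
                      exact allRange_sound _ 115400 100 chkP_115400 i (by omega) (by omega)
                · skip
                  rcases Nat.lt_or_ge i 115700 with h9 | h9
                  · skip
                    rcases Nat.lt_or_ge i 115600 with h10 | h10
                    · skip
                      exact allRange_sound _ 115500 100 chkP_115500 i (by omega) (by omega)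
                    · skip
                      exact allRange_sound _ 115600 100 chkP_115600 i (by omega) (by omega)
                  · skip
                    rcases Nat.lt_or_ge i 115800 with h10 | h10
                    · skip
                      exact allRange_sound _ 115700 100 chkP_115700 i (by omega) (by omega)
                    · skip
                      rcases Nat.lt_or_ge i 115900 with h11 | h11
                      · skip
                        exact allRange_sound _ 115800 100 chkP_115800 i (by omega) (by omega)
                      · skip
                        exact allRange_sound _ 115900 100 chkP_115900 i (by omega) (by omega)
              · skip
                rcases Nat.lt_or_ge i 116500 with h8 | h8
                · skip
                  rcases Nat.lt_or_ge i 116200 with h9 | h9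
                  · skip
                    rcases Nat.lt_or_ge i 116100 with h10 | h10
                    · skip
                      exact allRange_sound _ 116000 100 chkP_116000 i (by omega) (by omega)
                    · skip
                      exact allRange_sound _ 116100 100 chkP_116100 i (by omega) (by omega)
                  · skip
                    rcases Nat.lt_or_ge i 116300 with h10 | h10
                    · skip
                      exact allRange_sound _ 116200 100 chkP_116200 i (by omega) (by omega)
                    · skip
                      rcases Nat.lt_or_ge i 116400 with h11 | h11
                      · skip
                        exact allRange_sound _ 116300 100 chkP_116300 i (by omega) (by omega)
                      · skip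
                        exact allRange_sound _ 116400 100 chkP_116400 i (by omega) (by omega)
                · skip
                  rcases Nat.lt_or_ge i 116700 with h9 | h9
                  · skip
                    rcases Nat.lt_or_ge i 116600 with h10 | h10
                    · skip
                      exact allRange_sound _ 116500 100 chkP_116500 i (by omega) (by omega)
                    · skip
                      exact allRange_sound _ 116600 100 chkP_116600 i (by omega) (by omega)
                  · skip
                    rcases Nat.lt_or_ge i 116800 with h10 | h10
                    · skip
                      exact allRange_sound _ 116700 100 chkP_116700 i (by omega) (by omega)
                    · skip
                      rcases Nat.lt_or_ge i 116900 with h11 | h11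
                      · skip
                        exact allRange_sound _ 116800 100 chkP_116800 i (by omega) (by omega)
                      · skip
                        exact allRange_sound _ 116900 100 chkP_116900 i (by omega) (by omega)
            · skip
              rcases Nat.lt_or_ge i 117900 with h7 | h7
              · skip
                rcases Nat.lt_or_ge i 117400 with h8 | h8
                · skip
                  rcases Nat.lt_or_ge i 117200 with h9 | h9
                  · skip
                    rcases Nat.lt_or_ge i 117100 with h10 | h10
                    · skip
                      exact allRange_sound _ 117000 100 chkP_117000 i (by omega) (by omega)
                    · skip
                      exact allRange_sound _ 117100 100 chkP_117100 i (by omega) (by omega)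
                  · skip
                    rcases Nat.lt_or_ge i 117300 with h10 | h10
                    · skip
                      exact allRange_sound _ 117200 100 chkP_117200 i (by omega) (by omega)
                    · skip
                      exact allRange_sound _ 117300 100 chkP_117300 i (by omega) (by omega)
                · skip
                  rcases Nat.lt_or_ge i 117600 with h9 | h9
                  · skip
                    rcases Nat.lt_or_ge i 117500 with h10 | h10
                    · skip
                      exact allRange_sound _ 117400 100 chkP_117400 i (by omega) (by omega)
                    · skip
                      exact allRange_sound _ 117500 100 chkP_117500 i (by omega) (by omega)
                  · skip
                    rcases Nat.lt_or_ge i 117700 with h10 | h10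
                    · skip
                      exact allRange_sound _ 117600 100 chkP_117600 i (by omega) (by omega)
                    · skip
                      rcases Nat.lt_or_ge i 117800 with h11 | h11
                      · skip
                        exact allRange_sound _ 117700 100 chkP_117700 i (by omega) (by omega)
                      · skip
                        exact allRange_sound _ 117800 100 chkP_117800 i (by omega) (by omega)
              · skip
                rcases Nat.lt_or_ge i 118400 with h8 | h8
                · skip
                  rcases Nat.lt_or_ge i 118100 with h9 | h9
                  · skip
                    rcases Nat.lt_or_ge i 118000 with h10 | h10
                    · skip
                      exact allRange_sound _ 117900 100 chkP_117900 i (by omega) (by omega)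
                    · skip
                      exact allRange_sound _ 118000 100 chkP_118000 i (by omega) (by omega)
                  · skip
                    rcases Nat.lt_or_ge i 118200 with h10 | h10
                    · skip
                      exact allRange_sound _ 118100 100 chkP_118100 i (by omega) (by omega)
                    · skip
                      rcases Nat.lt_or_ge i 118300 with h11 | h11
                      · skip
                        exact allRange_sound _ 118200 100 chkP_118200 i (by omega) (by omega)
                      · skip
                        exact allRange_sound _ 118300 100 chkP_118300 i (by omega) (by omega)
                · skip
                  rcases Nat.lt_or_ge i 118600 with h9 | h9
                  · skip
                    rcases Nat.lt_or_ge i 118500 with h10 | h10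
                    · skip
                      exact allRange_sound _ 118400 100 chkP_118400 i (by omega) (by omega)
                    · skip
                      exact allRange_sound _ 118500 100 chkP_118500 i (by omega) (by omega)
                  · skip
                    rcases Nat.lt_or_ge i 118700 with h10 | h10
                    · skip
                      exact allRange_sound _ 118600 100 chkP_118600 i (by omega) (by omega)
                    · skip
                      rcases Nat.lt_or_ge i 118800 with h11 | h11
                      · skip
                        exact allRange_sound _ 118700 100 chkP_118700 i (by omega) (by omega)
                      · skip
                        exact allRange_sound _ 118800 100 chkP_118800 i (by omega) (by omega)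
          · skip
            rcases Nat.lt_or_ge i 120800 with h6 | h6
            · skip
              rcases Nat.lt_or_ge i 119800 with h7 | h7
              · skip
                rcases Nat.lt_or_ge i 119300 with h8 | h8
                · skip
                  rcases Nat.lt_or_ge i 119100 with h9 | h9
                  · skip
                    rcases Nat.lt_or_ge i 119000 with h10 | h10
                    · skip
                      exact allRange_sound _ 118900 100 chkP_118900 i (by omega) (by omega)
                    · skip
                      exact allRange_sound _ 119000 100 chkP_119000 i (by omega) (by omega)
                  · skip
                    rcases Nat.lt_or_ge i 119200 with h10 | h10
                    · skip
                      exact allRange_sound _ 119100 100 chkP_119100 i (by omega) (by omega)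
                    · skip
                      exact allRange_sound _ 119200 100 chkP_119200 i (by omega) (by omega)
                · skip
                  rcases Nat.lt_or_ge i 119500 with h9 | h9
                  · skip
                    rcases Nat.lt_or_ge i 119400 with h10 | h10
                    · skip
                      exact allRange_sound _ 119300 100 chkP_119300 i (by omega) (by omega)
                    · skip
                      exact allRange_sound _ 119400 100 chkP_119400 i (by omega) (by omega)
                  · skip
                    rcases Nat.lt_or_ge i 119600 with h10 | h10
                    · skip
                      exact allRange_sound _ 119500 100 chkP_119500 i (by omega) (by omega)
                    · skip
                      rcases Nat.lt_or_ge i 119700 with h11 | h11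
                      · skip
                        exact allRange_sound _ 119600 100 chkP_119600 i (by omega) (by omega)
                      · skip
                        exact allRange_sound _ 119700 100 chkP_119700 i (by omega) (by omega)
              · skip
                rcases Nat.lt_or_ge i 120300 with h8 | h8
                · skip
                  rcases Nat.lt_or_ge i 120000 with h9 | h9
                  · skip
                    rcases Nat.lt_or_ge i 119900 with h10 | h10
                    · skip
                      exact allRange_sound _ 119800 100 chkP_119800 i (by omega) (by omega)
                    · skip
                      exact allRange_sound _ 119900 100 chkP_119900 i (by omega) (by omega)
                  · skip
                    rcases Nat.lt_or_ge i 120100 with h10 | h10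
                    · skip
                      exact allRange_sound _ 120000 100 chkP_120000 i (by omega) (by omega)
                    · skip
                      rcases Nat.lt_or_ge i 120200 with h11 | h11
                      · skip
                        exact allRange_sound _ 120100 100 chkP_120100 i (by omega) (by omega)
                      · skip
                        exact allRange_sound _ 120200 100 chkP_120200 i (by omega) (by omega)
                · skip
                  rcases Nat.lt_or_ge i 120500 with h9 | h9
                  · skip
                    rcases Nat.lt_or_ge i 120400 with h10 | h10
                    · skip
                      exact allRange_sound _ 120300 100 chkP_120300 i (by omega) (by omega)
                    · skip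
                      exact allRange_sound _ 120400 100 chkP_120400 i (by omega) (by omega)
                  · skip
                    rcases Nat.lt_or_ge i 120600 with h10 | h10
                    · skip
                      exact allRange_sound _ 120500 100 chkP_120500 i (by omega) (by omega)
                    · skip
                      rcases Nat.lt_or_ge i 120700 with h11 | h11
                      · skip
                        exact allRange_sound _ 120600 100 chkP_120600 i (by omega) (by omega)
                      · skip
                        exact allRange_sound _ 120700 100 chkP_120700 i (by omega) (by omega)
            · skip
              rcases Nat.lt_or_ge i 121800 with h7 | h7
              · skip
                rcases Nat.lt_or_ge i 121300 with h8 | h8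
                · skip
                  rcases Nat.lt_or_ge i 121000 with h9 | h9
                  · skip
                    rcases Nat.lt_or_ge i 120900 with h10 | h10
                    · skip
                      exact allRange_sound _ 120800 100 chkP_120800 i (by omega) (by omega)
                    · skip
                      exact allRange_sound _ 120900 100 chkP_120900 i (by omega) (by omega)
                  · skip
                    rcases Nat.lt_or_ge i 121100 with h10 | h10
                    · skip
                      exact allRange_sound _ 121000 100 chkP_121000 i (by omega) (by omega)
                    · skip
                      rcases Nat.lt_or_ge i 121200 with h11 | h11
                      · skip
                        exact allRange_sound _ 121100 100 chkP_121100 i (by omega) (by omega)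
                      · skip
                        exact allRange_sound _ 121200 100 chkP_121200 i (by omega) (by omega)
                · skip
                  rcases Nat.lt_or_ge i 121500 with h9 | h9
                  · skip
                    rcases Nat.lt_or_ge i 121400 with h10 | h10
                    · skip
                      exact allRange_sound _ 121300 100 chkP_121300 i (by omega) (by omega)
                    · skip
                      exact allRange_sound _ 121400 100 chkP_121400 i (by omega) (by omega)
                  · skip
                    rcases Nat.lt_or_ge i 121600 with h10 | h10
                    · skip
                      exact allRange_sound _ 121500 100 chkP_121500 i (by omega) (by omega)
                    · skip
                      rcases Nat.lt_or_ge i 121700 with h11 | h11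
                      · skip
                        exact allRange_sound _ 121600 100 chkP_121600 i (by omega) (by omega)
                      · skip
                        exact allRange_sound _ 121700 100 chkP_121700 i (by omega) (by omega)
              · skip
                rcases Nat.lt_or_ge i 122300 with h8 | h8
                · skip
                  rcases Nat.lt_or_ge i 122000 with h9 | h9
                  · skip
                    rcases Nat.lt_or_ge i 121900 with h10 | h10
                    · skip
                      exact allRange_sound _ 121800 100 chkP_121800 i (by omega) (by omega)
                    · skip
                      exact allRange_sound _ 121900 100 chkP_121900 i (by omega) (by omega)
                  · skip
                    rcases Nat.lt_or_ge i 122100 with h10 | h10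
                    · skip
                      exact allRange_sound _ 122000 100 chkP_122000 i (by omega) (by omega)
                    · skip
                      rcases Nat.lt_or_ge i 122200 with h11 | h11
                      · skip
                        exact allRange_sound _ 122100 100 chkP_122100 i (by omega) (by omega)
                      · skip
                        exact allRange_sound _ 122200 100 chkP_122200 i (by omega) (by omega)
                · skip
                  rcases Nat.lt_or_ge i 122500 with h9 | h9
                  · skip
                    rcases Nat.lt_or_ge i 122400 with h10 | h10
                    · skip
                      exact allRange_sound _ 122300 100 chkP_122300 i (by omega) (by omega)
                    · skip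
                      exact allRange_sound _ 122400 100 chkP_122400 i (by omega) (by omega)
                  · skip
                    rcases Nat.lt_or_ge i 122600 with h10 | h10
                    · skip
                      exact allRange_sound _ 122500 100 chkP_122500 i (by omega) (by omega)
                    · skip
                      rcases Nat.lt_or_ge i 122700 with h11 | h11
                      · skip
                        exact allRange_sound _ 122600 100 chkP_122600 i (by omega) (by omega)
                      · skip
                        exact allRange_sound _ 122700 60 chkP_122700 i (by omega) (by omega)

theorem pts_ok : ∀ p, p < cert.n → checkPoint cert p = true := by
  intro p hp
  have := pts_both p hp
  simp only [Bool.and_eq_true] at this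
  exact this.1

theorem orb_ok : ∀ p, p < cert.n → checkOrb cert p = true := by
  intro p hp
  have := pts_both p hp
  simp only [Bool.and_eq_true] at this
  exact this.2

end Cfsg.Agent.Lib.Helper28.ONData
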