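import Cfsg.Agent.Lib.Helper28.ONData
import Cfsg.Agent.Lib.Helper28.TCSound

set_option autoImplicit false
set_option maxRecDepth 1000000
set_option linter.all false
set_option Elab.async false

namespace Cfsg.Agent.Lib.Helper28.ONData

open Cfsg.Agent.Lib.Helper28

theorem chkF_0 : allRange (checkFact cert) 0 2000 = true := by decide +kernel
theorem chkF_64000 : allRange (checkFact cert) 64000 2000 = true := by decide +kernel
theorem chkF_128000 : allRange (checkFact cert) 128000 2000 = true := by decide +kernel
theorem chkF_192000 : allRange (checkFact cert) 192000 2000 = true := by decide +kernel
theorem chkF_256000 : allRange (checkFact cert) 256000 2000 = true := by decide +kernel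
theorem chkF_320000 : allRange (checkFact cert) 320000 2000 = true := by decide +kernel
theorem chkF_384000 : allRange (checkFact cert) 384000 2000 = true := by decide +kernel
theorem chkF_448000 : allRange (checkFact cert) 448000 2000 = true := by decide +kernel
theorem chkF_512000 : allRange (checkFact cert) 512000 2000 = true := by decide +kernel
theorem chkF_576000 : allRange (checkFact cert) 576000 2000 = true := by decide +kernel
theorem chkF_640000 : allRange (checkFact cert) 640000 2000 = true := by decide +kernel
theorem chkF_704000 : allRange (checkFact cert) 704000 2000 = true := by decide +kernel
theorem chkF_768000 : allRange (checkFact cert) 768000 2000 = true := by decide +kernel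
theorem chkF_832000 : allRange (checkFact cert) 832000 2000 = true := by decide +kernel
theorem chkF_896000 : allRange (checkFact cert) 896000 2000 = true := by decide +kernel
theorem chkF_960000 : allRange (checkFact cert) 960000 2000 = true := by decide +kernel
theorem chkF_1024000 : allRange (checkFact cert) 1024000 2000 = true := by decide +kernel
theorem chkF_1088000 : allRange (checkFact cert) 1088000 2000 = true := by decide +kernel
theorem chkF_1152000 : allRange (checkFact cert) 1152000 2000 = true := by decide +kernel
theorem chkP_300 : allRange (fun p => checkPoint cert p && checkOrb cert p) 300 100 = true := by decide +kernel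
theorem chkP_3500 : allRange (fun p => checkPoint cert p && checkOrb cert p) 3500 100 = true := by decide +kernel
theorem chkP_6700 : allRange (fun p => checkPoint cert p && checkOrb cert p) 6700 100 = true := by decide +kernel
theorem chkP_9900 : allRange (fun p => checkPoint cert p && checkOrb cert p) 9900 100 = true := by decide +kernel
theorem chkP_13100 : allRange (fun p => checkPoint cert p && checkOrb cert p) 13100 100 = true := by decide +kernel
theorem chkP_16300 : allRange (fun p => checkPoint cert p && checkOrb cert p) 16300 100 = true := by decide +kernel
theorem chkP_19500 : allRange (fun p => checkPoint cert p && checkOrb cert p) 19500 100 = true := by decide +kernel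
theorem chkP_22700 : allRange (fun p => checkPoint cert p && checkOrb cert p) 22700 100 = true := by decide +kernel
theorem chkP_25900 : allRange (fun p => checkPoint cert p && checkOrb cert p) 25900 100 = true := by decide +kernel
theorem chkP_29100 : allRange (fun p => checkPoint cert p && checkOrb cert p) 29100 100 = true := by decide +kernel
theorem chkP_32300 : allRange (fun p => checkPoint cert p && checkOrb cert p) 32300 100 = true := by decide +kernel
theorem chkP_35500 : allRange (fun p => checkPoint cert p && checkOrb cert p) 35500 100 = true := by decide +kernel
theorem chkP_38700 : allRange (fun p => checkPoint cert p && checkOrb cert p) 38700 100 = true := by decide +kernel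
theorem chkP_41900 : allRange (fun p => checkPoint cert p && checkOrb cert p) 41900 100 = true := by decide +kernel
theorem chkP_45100 : allRange (fun p => checkPoint cert p && checkOrb cert p) 45100 100 = true := by decide +kernel
theorem chkP_48300 : allRange (fun p => checkPoint cert p && checkOrb cert p) 48300 100 = true := by decide +kernel
theorem chkP_51500 : allRange (fun p => checkPoint cert p && checkOrb cert p) 51500 100 = true := by decide +kernel
theorem chkP_54700 : allRange (fun p => checkPoint cert p && checkOrb cert p) 54700 100 = true := by decide +kernel
theorem chkP_57900 : allRange (fun p => checkPoint cert p && checkOrb cert p) 57900 100 = true := by decide +kernel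
theorem chkP_61100 : allRange (fun p => checkPoint cert p && checkOrb cert p) 61100 100 = true := by decide +kernel
theorem chkP_64300 : allRange (fun p => checkPoint cert p && checkOrb cert p) 64300 100 = true := by decide +kernel
theorem chkP_67500 : allRange (fun p => checkPoint cert p && checkOrb cert p) 67500 100 = true := by decide +kernel
theorem chkP_70700 : allRange (fun p => checkPoint cert p && checkOrb cert p) 70700 100 = true := by decide +kernel
theorem chkP_73900 : allRange (fun p => checkPoint cert p && checkOrb cert p) 73900 100 = true := by decide +kernel
theorem chkP_77100 : allRange (fun p => checkPoint cert p && checkOrb cert p) 77100 100 = true := by decide +kernel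
theorem chkP_80300 : allRange (fun p => checkPoint cert p && checkOrb cert p) 80300 100 = true := by decide +kernel
theorem chkP_83500 : allRange (fun p => checkPoint cert p && checkOrb cert p) 83500 100 = true := by decide +kernel
theorem chkP_86700 : allRange (fun p => checkPoint cert p && checkOrb cert p) 86700 100 = true := by decide +kernel
theorem chkP_89900 : allRange (fun p => checkPoint cert p && checkOrb cert p) 89900 100 = true := by decide +kernel
theorem chkP_93100 : allRange (fun p => checkPoint cert p && checkOrb cert p) 93100 100 = true := by decide +kernel
theorem chkP_96300 : allRange (fun p => checkPoint cert p && checkOrb cert p) 96300 100 = true := by decide +kernel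
theorem chkP_99500 : allRange (fun p => checkPoint cert p && checkOrb cert p) 99500 100 = true := by decide +kernel
theorem chkP_102700 : allRange (fun p => checkPoint cert p && checkOrb cert p) 102700 100 = true := by decide +kernel
theorem chkP_105900 : allRange (fun p => checkPoint cert p && checkOrb cert p) 105900 100 = true := by decide +kernel
theorem chkP_109100 : allRange (fun p => checkPoint cert p && checkOrb cert p) 109100 100 = true := by decide +kernel
theorem chkP_112300 : allRange (fun p => checkPoint cert p && checkOrb cert p) 112300 100 = true := by decide +kernel
theorem chkP_115500 : allRange (fun p => checkPoint cert p && checkOrb cert p) 115500 100 = true := by decide +kernel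
theorem chkP_118700 : allRange (fun p => checkPoint cert p && checkOrb cert p) 118700 100 = true := by decide +kernel
theorem chkP_121900 : allRange (fun p => checkPoint cert p && checkOrb cert p) 121900 100 = true := by decide +kernel

end Cfsg.Agent.Lib.Helper28.ONData
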