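import Cfsg.Agent.Lib.Helper28.ONData
import Cfsg.Agent.Lib.Helper28.TCSound

set_option autoImplicit false
set_option maxRecDepth 1000000
set_option linter.all false
set_option Elab.async false

namespace Cfsg.Agent.Lib.Helper28.ONData

open Cfsg.Agent.Lib.Helper28

theorem chkF_40000 : allRange (checkFact cert) 40000 2000 = true := by decide +kernel
theorem chkF_104000 : allRange (checkFact cert) 104000 2000 = true := by decide +kernel
theorem chkF_168000 : allRange (checkFact cert) 168000 2000 = true := by decide +kernel
theorem chkF_232000 : allRange (checkFact cert) 232000 2000 = true := by decide +kernel
theorem chkF_296000 : allRange (checkFact cert) 296000 2000 = true := by decide +kernel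
theorem chkF_360000 : allRange (checkFact cert) 360000 2000 = true := by decide +kernel
theorem chkF_424000 : allRange (checkFact cert) 424000 2000 = true := by decide +kernel
theorem chkF_488000 : allRange (checkFact cert) 488000 2000 = true := by decide +kernel
theorem chkF_552000 : allRange (checkFact cert) 552000 2000 = true := by decide +kernel
theorem chkF_616000 : allRange (checkFact cert) 616000 2000 = true := by decide +kernel
theorem chkF_680000 : allRange (checkFact cert) 680000 2000 = true := by decide +kernel
theorem chkF_744000 : allRange (checkFact cert) 744000 2000 = true := by decide +kernel
theorem chkF_808000 : allRange (checkFact cert) 808000 2000 = true := by decide +kernel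
theorem chkF_872000 : allRange (checkFact cert) 872000 2000 = true := by decide +kernel
theorem chkF_936000 : allRange (checkFact cert) 936000 2000 = true := by decide +kernel
theorem chkF_1000000 : allRange (checkFact cert) 1000000 2000 = true := by decide +kernel
theorem chkF_1064000 : allRange (checkFact cert) 1064000 2000 = true := by decide +kernel
theorem chkF_1128000 : allRange (checkFact cert) 1128000 2000 = true := by decide +kernel
theorem chkF_1192000 : allRange (checkFact cert) 1192000 2000 = true := by decide +kernel
theorem chkP_2300 : allRange (fun p => checkPoint cert p && checkOrb cert p) 2300 100 = true := by decide +kernel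
theorem chkP_5500 : allRange (fun p => checkPoint cert p && checkOrb cert p) 5500 100 = true := by decide +kernel
theorem chkP_8700 : allRange (fun p => checkPoint cert p && checkOrb cert p) 8700 100 = true := by decide +kernel
theorem chkP_11900 : allRange (fun p => checkPoint cert p && checkOrb cert p) 11900 100 = true := by decide +kernel
theorem chkP_15100 : allRange (fun p => checkPoint cert p && checkOrb cert p) 15100 100 = true := by decide +kernel
theorem chkP_18300 : allRange (fun p => checkPoint cert p && checkOrb cert p) 18300 100 = true := by decide +kernel
theorem chkP_21500 : allRange (fun p => checkPoint cert p && checkOrb cert p) 21500 100 = true := by decide +kernel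
theorem chkP_24700 : allRange (fun p => checkPoint cert p && checkOrb cert p) 24700 100 = true := by decide +kernel
theorem chkP_27900 : allRange (fun p => checkPoint cert p && checkOrb cert p) 27900 100 = true := by decide +kernel
theorem chkP_31100 : allRange (fun p => checkPoint cert p && checkOrb cert p) 31100 100 = true := by decide +kernel
theorem chkP_34300 : allRange (fun p => checkPoint cert p && checkOrb cert p) 34300 100 = true := by decide +kernel
theorem chkP_37500 : allRange (fun p => checkPoint cert p && checkOrb cert p) 37500 100 = true := by decide +kernel
theorem chkP_40700 : allRange (fun p => checkPoint cert p && checkOrb cert p) 40700 100 = true := by decide +kernel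
theorem chkP_43900 : allRange (fun p => checkPoint cert p && checkOrb cert p) 43900 100 = true := by decide +kernel
theorem chkP_47100 : allRange (fun p => checkPoint cert p && checkOrb cert p) 47100 100 = true := by decide +kernel
theorem chkP_50300 : allRange (fun p => checkPoint cert p && checkOrb cert p) 50300 100 = true := by decide +kernel
theorem chkP_53500 : allRange (fun p => checkPoint cert p && checkOrb cert p) 53500 100 = true := by decide +kernel
theorem chkP_56700 : allRange (fun p => checkPoint cert p && checkOrb cert p) 56700 100 = true := by decide +kernel
theorem chkP_59900 : allRange (fun p => checkPoint cert p && checkOrb cert p) 59900 100 = true := by decide +kernel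
theorem chkP_63100 : allRange (fun p => checkPoint cert p && checkOrb cert p) 63100 100 = true := by decide +kernel
theorem chkP_66300 : allRange (fun p => checkPoint cert p && checkOrb cert p) 66300 100 = true := by decide +kernel
theorem chkP_69500 : allRange (fun p => checkPoint cert p && checkOrb cert p) 69500 100 = true := by decide +kernel
theorem chkP_72700 : allRange (fun p => checkPoint cert p && checkOrb cert p) 72700 100 = true := by decide +kernel
theorem chkP_75900 : allRange (fun p => checkPoint cert p && checkOrb cert p) 75900 100 = true := by decide +kernel
theorem chkP_79100 : allRange (fun p => checkPoint cert p && checkOrb cert p) 79100 100 = true := by decide +kernel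
theorem chkP_82300 : allRange (fun p => checkPoint cert p && checkOrb cert p) 82300 100 = true := by decide +kernel
theorem chkP_85500 : allRange (fun p => checkPoint cert p && checkOrb cert p) 85500 100 = true := by decide +kernel
theorem chkP_88700 : allRange (fun p => checkPoint cert p && checkOrb cert p) 88700 100 = true := by decide +kernel
theorem chkP_91900 : allRange (fun p => checkPoint cert p && checkOrb cert p) 91900 100 = true := by decide +kernel
theorem chkP_95100 : allRange (fun p => checkPoint cert p && checkOrb cert p) 95100 100 = true := by decide +kernel
theorem chkP_98300 : allRange (fun p => checkPoint cert p && checkOrb cert p) 98300 100 = true := by decide +kernel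
theorem chkP_101500 : allRange (fun p => checkPoint cert p && checkOrb cert p) 101500 100 = true := by decide +kernel
theorem chkP_104700 : allRange (fun p => checkPoint cert p && checkOrb cert p) 104700 100 = true := by decide +kernel
theorem chkP_107900 : allRange (fun p => checkPoint cert p && checkOrb cert p) 107900 100 = true := by decide +kernel
theorem chkP_111100 : allRange (fun p => checkPoint cert p && checkOrb cert p) 111100 100 = true := by decide +kernel
theorem chkP_114300 : allRange (fun p => checkPoint cert p && checkOrb cert p) 114300 100 = true := by decide +kernel
theorem chkP_117500 : allRange (fun p => checkPoint cert p && checkOrb cert p) 117500 100 = true := by decide +kernel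
theorem chkP_120700 : allRange (fun p => checkPoint cert p && checkOrb cert p) 120700 100 = true := by decide +kernel

end Cfsg.Agent.Lib.Helper28.ONData
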