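import Cfsg.Agent.Lib.Helper28.TCDefs
import Cfsg.Agent.Lib.Helper28.ONDataP0
import Cfsg.Agent.Lib.Helper28.ONDataP1
import Cfsg.Agent.Lib.Helper28.ONDataP2
import Cfsg.Agent.Lib.Helper28.ONDataP3
import Cfsg.Agent.Lib.Helper28.ONDataP4
import Cfsg.Agent.Lib.Helper28.ONDataP5
import Cfsg.Agent.Lib.Helper28.ONDataP6
import Cfsg.Agent.Lib.Helper28.ONDataP7

set_option autoImplicit false
set_option maxRecDepth 100000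
set_option linter.all false

namespace Cfsg.Agent.Lib.Helper28.ONData

open Cfsg.Agent.Lib.Helper28

noncomputable def tF_sel (j : Nat) : Nat := (@Bool.rec (fun _ => Nat) (@Bool.rec (fun _ => Nat) (@Bool.rec (fun _ => Nat) (@Bool.rec (fun _ => Nat) (@Bool.rec (fun _ => Nat) (@Bool.rec (fun _ => Nat) tF_L0
 tF_L1 (Nat.ble (nat_lit 1) j))
 (@Bool.rec (fun _ => Nat) tF_L2
 tF_L3 (Nat.ble (nat_lit 3) j)) (Nat.ble (nat_lit 2) j))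
 (@Bool.rec (fun _ => Nat) (@Bool.rec (fun _ => Nat) tF_L4
 tF_L5 (Nat.ble (nat_lit 5) j))
 (@Bool.rec (fun _ => Nat) tF_L6
 tF_L7 (Nat.ble (nat_lit 7) j)) (Nat.ble (nat_lit 6) j)) (Nat.ble (nat_lit 4) j))
 (@Bool.rec (fun _ => Nat) (@Bool.rec (fun _ => Nat) (@Bool.rec (fun _ => Nat) tF_L8
 tF_L9 (Nat.ble (nat_lit 9) j))
 (@Bool.rec (fun _ => Nat) tF_L10
 tF_L11 (Nat.ble (nat_lit 11) j)) (Nat.ble (nat_lit 10) j))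
 (@Bool.rec (fun _ => Nat) (@Bool.rec (fun _ => Nat) tF_L12
 tF_L13 (Nat.ble (nat_lit 13) j))
 (@Bool.rec (fun _ => Nat) tF_L14
 tF_L15 (Nat.ble (nat_lit 15) j)) (Nat.ble (nat_lit 14) j)) (Nat.ble (nat_lit 12) j)) (Nat.ble (nat_lit 8) j))
 (@Bool.rec (fun _ => Nat) (@Bool.rec (fun _ => Nat) (@Bool.rec (fun _ => Nat) (@Bool.rec (fun _ => Nat) tF_L16
 tF_L17 (Nat.ble (nat_lit 17) j))
 (@Bool.rec (fun _ => Nat) tF_L18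
 tF_L19 (Nat.ble (nat_lit 19) j)) (Nat.ble (nat_lit 18) j))
 (@Bool.rec (fun _ => Nat) (@Bool.rec (fun _ => Nat) tF_L20
 tF_L21 (Nat.ble (nat_lit 21) j))
 (@Bool.rec (fun _ => Nat) tF_L22
 tF_L23 (Nat.ble (nat_lit 23) j)) (Nat.ble (nat_lit 22) j)) (Nat.ble (nat_lit 20) j))
 (@Bool.rec (fun _ => Nat) (@Bool.rec (fun _ => Nat) (@Bool.rec (fun _ => Nat) tF_L24
 tF_L25 (Nat.ble (nat_lit 25) j))
 (@Bool.rec (fun _ => Nat) tF_L26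
 tF_L27 (Nat.ble (nat_lit 27) j)) (Nat.ble (nat_lit 26) j))
 (@Bool.rec (fun _ => Nat) (@Bool.rec (fun _ => Nat) tF_L28
 tF_L29 (Nat.ble (nat_lit 29) j))
 (@Bool.rec (fun _ => Nat) tF_L30
 (@Bool.rec (fun _ => Nat) tF_L31
 tF_L32 (Nat.ble (nat_lit 32) j)) (Nat.ble (nat_lit 31) j)) (Nat.ble (nat_lit 30) j)) (Nat.ble (nat_lit 28) j)) (Nat.ble (nat_lit 24) j)) (Nat.ble (nat_lit 16) j))
 (@Bool.rec (fun _ => Nat) (@Bool.rec (fun _ => Nat) (@Bool.rec (fun _ => Nat) (@Bool.rec (fun _ => Nat) (@Bool.rec (fun _ => Nat) tF_L33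
 tF_L34 (Nat.ble (nat_lit 34) j))
 (@Bool.rec (fun _ => Nat) tF_L35
 tF_L36 (Nat.ble (nat_lit 36) j)) (Nat.ble (nat_lit 35) j))
 (@Bool.rec (fun _ => Nat) (@Bool.rec (fun _ => Nat) tF_L37
 tF_L38 (Nat.ble (nat_lit 38) j))
 (@Bool.rec (fun _ => Nat) tF_L39
 tF_L40 (Nat.ble (nat_lit 40) j)) (Nat.ble (nat_lit 39) j)) (Nat.ble (nat_lit 37) j))
 (@Bool.rec (fun _ => Nat) (@Bool.rec (fun _ => Nat) (@Bool.rec (fun _ => Nat) tF_L41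
 tF_L42 (Nat.ble (nat_lit 42) j))
 (@Bool.rec (fun _ => Nat) tF_L43
 tF_L44 (Nat.ble (nat_lit 44) j)) (Nat.ble (nat_lit 43) j))
 (@Bool.rec (fun _ => Nat) (@Bool.rec (fun _ => Nat) tF_L45
 tF_L46 (Nat.ble (nat_lit 46) j))
 (@Bool.rec (fun _ => Nat) tF_L47
 (@Bool.rec (fun _ => Nat) tF_L48
 tF_L49 (Nat.ble (nat_lit 49) j)) (Nat.ble (nat_lit 48) j)) (Nat.ble (nat_lit 47) j)) (Nat.ble (nat_lit 45) j)) (Nat.ble (nat_lit 41) j))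
 (@Bool.rec (fun _ => Nat) (@Bool.rec (fun _ => Nat) (@Bool.rec (fun _ => Nat) (@Bool.rec (fun _ => Nat) tF_L50
 tF_L51 (Nat.ble (nat_lit 51) j))
 (@Bool.rec (fun _ => Nat) tF_L52
 tF_L53 (Nat.ble (nat_lit 53) j)) (Nat.ble (nat_lit 52) j))
 (@Bool.rec (fun _ => Nat) (@Bool.rec (fun _ => Nat) tF_L54
 tF_L55 (Nat.ble (nat_lit 55) j))
 (@Bool.rec (fun _ => Nat) tF_L56
 tF_L57 (Nat.ble (nat_lit 57) j)) (Nat.ble (nat_lit 56) j)) (Nat.ble (nat_lit 54) j))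
 (@Bool.rec (fun _ => Nat) (@Bool.rec (fun _ => Nat) (@Bool.rec (fun _ => Nat) tF_L58
 tF_L59 (Nat.ble (nat_lit 59) j))
 (@Bool.rec (fun _ => Nat) tF_L60
 tF_L61 (Nat.ble (nat_lit 61) j)) (Nat.ble (nat_lit 60) j))
 (@Bool.rec (fun _ => Nat) (@Bool.rec (fun _ => Nat) tF_L62
 tF_L63 (Nat.ble (nat_lit 63) j))
 (@Bool.rec (fun _ => Nat) tF_L64
 (@Bool.rec (fun _ => Nat) tF_L65
 tF_L66 (Nat.ble (nat_lit 66) j)) (Nat.ble (nat_lit 65) j)) (Nat.ble (nat_lit 64) j)) (Nat.ble (nat_lit 62) j)) (Nat.ble (nat_lit 58) j)) (Nat.ble (nat_lit 50) j)) (Nat.ble (nat_lit 33) j))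
noncomputable def tF (i : Nat) : Nat := Nat.land (Nat.shiftRight (tF_sel (Nat.div i (nat_lit 18181))) (Nat.mul (nat_lit 44) (Nat.mod i (nat_lit 18181)))) (nat_lit 17592186044415)
noncomputable def tD_sel (j : Nat) : Nat := (@Bool.rec (fun _ => Nat) (@Bool.rec (fun _ => Nat) tD_L0
 (@Bool.rec (fun _ => Nat) tD_L1
 tD_L2 (Nat.ble (nat_lit 2) j)) (Nat.ble (nat_lit 1) j))
 (@Bool.rec (fun _ => Nat) tD_L3
 (@Bool.rec (fun _ => Nat) tD_L4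
 tD_L5 (Nat.ble (nat_lit 5) j)) (Nat.ble (nat_lit 4) j)) (Nat.ble (nat_lit 3) j))
noncomputable def tD (i : Nat) : Nat := Nat.land (Nat.shiftRight (tD_sel (Nat.div i (nat_lit 33333))) (Nat.mul (nat_lit 24) (Nat.mod i (nat_lit 33333)))) (nat_lit 16777215)
noncomputable def tT_sel (j : Nat) : Nat := (@Bool.rec (fun _ => Nat) (@Bool.rec (fun _ => Nat) (@Bool.rec (fun _ => Nat) (@Bool.rec (fun _ => Nat) (@Bool.rec (fun _ => Nat) tT_L0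
 tT_L1 (Nat.ble (nat_lit 1) j))
 (@Bool.rec (fun _ => Nat) tT_L2
 tT_L3 (Nat.ble (nat_lit 3) j)) (Nat.ble (nat_lit 2) j))
 (@Bool.rec (fun _ => Nat) (@Bool.rec (fun _ => Nat) tT_L4
 tT_L5 (Nat.ble (nat_lit 5) j))
 (@Bool.rec (fun _ => Nat) tT_L6
 (@Bool.rec (fun _ => Nat) tT_L7
 tT_L8 (Nat.ble (nat_lit 8) j)) (Nat.ble (nat_lit 7) j)) (Nat.ble (nat_lit 6) j)) (Nat.ble (nat_lit 4) j))
 (@Bool.rec (fun _ => Nat) (@Bool.rec (fun _ => Nat) (@Bool.rec (fun _ => Nat) tT_L9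
 tT_L10 (Nat.ble (nat_lit 10) j))
 (@Bool.rec (fun _ => Nat) tT_L11
 tT_L12 (Nat.ble (nat_lit 12) j)) (Nat.ble (nat_lit 11) j))
 (@Bool.rec (fun _ => Nat) (@Bool.rec (fun _ => Nat) tT_L13
 tT_L14 (Nat.ble (nat_lit 14) j))
 (@Bool.rec (fun _ => Nat) tT_L15
 (@Bool.rec (fun _ => Nat) tT_L16
 tT_L17 (Nat.ble (nat_lit 17) j)) (Nat.ble (nat_lit 16) j)) (Nat.ble (nat_lit 15) j)) (Nat.ble (nat_lit 13) j)) (Nat.ble (nat_lit 9) j))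
 (@Bool.rec (fun _ => Nat) (@Bool.rec (fun _ => Nat) (@Bool.rec (fun _ => Nat) (@Bool.rec (fun _ => Nat) tT_L18
 tT_L19 (Nat.ble (nat_lit 19) j))
 (@Bool.rec (fun _ => Nat) tT_L20
 tT_L21 (Nat.ble (nat_lit 21) j)) (Nat.ble (nat_lit 20) j))
 (@Bool.rec (fun _ => Nat) (@Bool.rec (fun _ => Nat) tT_L22
 tT_L23 (Nat.ble (nat_lit 23) j))
 (@Bool.rec (fun _ => Nat) tT_L24
 (@Bool.rec (fun _ => Nat) tT_L25
 tT_L26 (Nat.ble (nat_lit 26) j)) (Nat.ble (nat_lit 25) j)) (Nat.ble (nat_lit 24) j)) (Nat.ble (nat_lit 22) j))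
 (@Bool.rec (fun _ => Nat) (@Bool.rec (fun _ => Nat) (@Bool.rec (fun _ => Nat) tT_L27
 tT_L28 (Nat.ble (nat_lit 28) j))
 (@Bool.rec (fun _ => Nat) tT_L29
 (@Bool.rec (fun _ => Nat) tT_L30
 tT_L31 (Nat.ble (nat_lit 31) j)) (Nat.ble (nat_lit 30) j)) (Nat.ble (nat_lit 29) j))
 (@Bool.rec (fun _ => Nat) (@Bool.rec (fun _ => Nat) tT_L32
 tT_L33 (Nat.ble (nat_lit 33) j))
 (@Bool.rec (fun _ => Nat) tT_L34
 (@Bool.rec (fun _ => Nat) tT_L35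
 tT_L36 (Nat.ble (nat_lit 36) j)) (Nat.ble (nat_lit 35) j)) (Nat.ble (nat_lit 34) j)) (Nat.ble (nat_lit 32) j)) (Nat.ble (nat_lit 27) j)) (Nat.ble (nat_lit 18) j))
noncomputable def tT (i : Nat) : Nat := Nat.land (Nat.shiftRight (tT_sel (Nat.div i (nat_lit 47058))) (Nat.mul (nat_lit 17) (Nat.mod i (nat_lit 47058)))) (nat_lit 131071)
noncomputable def tPP_sel (j : Nat) : Nat := (@Bool.rec (fun _ => Nat) (@Bool.rec (fun _ => Nat) tPP_L0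
 tPP_L1 (Nat.ble (nat_lit 1) j))
 (@Bool.rec (fun _ => Nat) tPP_L2
 tPP_L3 (Nat.ble (nat_lit 3) j)) (Nat.ble (nat_lit 2) j))
noncomputable def tPP (i : Nat) : Nat := Nat.land (Nat.shiftRight (tPP_sel (Nat.div i (nat_lit 38095))) (Nat.mul (nat_lit 21) (Nat.mod i (nat_lit 38095)))) (nat_lit 2097151)
noncomputable def tNO_sel (j : Nat) : Nat := (@Bool.rec (fun _ => Nat) tNO_L0
 (@Bool.rec (fun _ => Nat) tNO_L1
 tNO_L2 (Nat.ble (nat_lit 2) j)) (Nat.ble (nat_lit 1) j))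
noncomputable def tNO (i : Nat) : Nat := Nat.land (Nat.shiftRight (tNO_sel (Nat.div i (nat_lit 44444))) (Nat.mul (nat_lit 18) (Nat.mod i (nat_lit 44444)))) (nat_lit 262143)
noncomputable def tTAB_sel (j : Nat) : Nat := (@Bool.rec (fun _ => Nat) (@Bool.rec (fun _ => Nat) (@Bool.rec (fun _ => Nat) (@Bool.rec (fun _ => Nat) tTAB_L0
 tTAB_L1 (Nat.ble (nat_lit 1) j))
 (@Bool.rec (fun _ => Nat) tTAB_L2
 (@Bool.rec (fun _ => Nat) tTAB_L3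
 tTAB_L4 (Nat.ble (nat_lit 4) j)) (Nat.ble (nat_lit 3) j)) (Nat.ble (nat_lit 2) j))
 (@Bool.rec (fun _ => Nat) (@Bool.rec (fun _ => Nat) tTAB_L5
 (@Bool.rec (fun _ => Nat) tTAB_L6
 tTAB_L7 (Nat.ble (nat_lit 7) j)) (Nat.ble (nat_lit 6) j))
 (@Bool.rec (fun _ => Nat) tTAB_L8
 (@Bool.rec (fun _ => Nat) tTAB_L9
 tTAB_L10 (Nat.ble (nat_lit 10) j)) (Nat.ble (nat_lit 9) j)) (Nat.ble (nat_lit 8) j)) (Nat.ble (nat_lit 5) j))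
 (@Bool.rec (fun _ => Nat) (@Bool.rec (fun _ => Nat) (@Bool.rec (fun _ => Nat) tTAB_L11
 (@Bool.rec (fun _ => Nat) tTAB_L12
 tTAB_L13 (Nat.ble (nat_lit 13) j)) (Nat.ble (nat_lit 12) j))
 (@Bool.rec (fun _ => Nat) tTAB_L14
 (@Bool.rec (fun _ => Nat) tTAB_L15
 tTAB_L16 (Nat.ble (nat_lit 16) j)) (Nat.ble (nat_lit 15) j)) (Nat.ble (nat_lit 14) j))
 (@Bool.rec (fun _ => Nat) (@Bool.rec (fun _ => Nat) tTAB_L17
 (@Bool.rec (fun _ => Nat) tTAB_L18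
 tTAB_L19 (Nat.ble (nat_lit 19) j)) (Nat.ble (nat_lit 18) j))
 (@Bool.rec (fun _ => Nat) tTAB_L20
 (@Bool.rec (fun _ => Nat) tTAB_L21
 tTAB_L22 (Nat.ble (nat_lit 22) j)) (Nat.ble (nat_lit 21) j)) (Nat.ble (nat_lit 20) j)) (Nat.ble (nat_lit 17) j)) (Nat.ble (nat_lit 11) j))
noncomputable def tTAB (i : Nat) : Nat := Nat.land (Nat.shiftRight (tTAB_sel (Nat.div i (nat_lit 38095))) (Nat.mul (nat_lit 21) (Nat.mod i (nat_lit 38095)))) (nat_lit 2097151)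
noncomputable def tORB (i : Nat) : Nat := Nat.land (Nat.shiftRight tORB_L0 (Nat.mul (nat_lit 3) i)) (nat_lit 7)
noncomputable def tORK (i : Nat) : Nat := Nat.land (Nat.shiftRight tORK_L0 (Nat.mul (nat_lit 6) i)) (nat_lit 63)
noncomputable def tOPAR_sel (j : Nat) : Nat := (@Bool.rec (fun _ => Nat) (@Bool.rec (fun _ => Nat) tOPAR_L0
 tOPAR_L1 (Nat.ble (nat_lit 1) j))
 (@Bool.rec (fun _ => Nat) tOPAR_L2
 (@Bool.rec (fun _ => Nat) tOPAR_L3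
 tOPAR_L4 (Nat.ble (nat_lit 4) j)) (Nat.ble (nat_lit 3) j)) (Nat.ble (nat_lit 2) j))
noncomputable def tOPAR (i : Nat) : Nat := Nat.land (Nat.shiftRight (tOPAR_sel (Nat.div i (nat_lit 29629))) (Nat.mul (nat_lit 27) (Nat.mod i (nat_lit 29629)))) (nat_lit 134217727)
noncomputable def tROOT (i : Nat) : Nat := Nat.land (Nat.shiftRight tROOT_L0 (Nat.mul (nat_lit 6) i)) (nat_lit 63)
noncomputable def tJ_O_sel (j : Nat) : Nat := (@Bool.rec (fun _ => Nat) (@Bool.rec (fun _ => Nat) (@Bool.rec (fun _ => Nat) (@Bool.rec (fun _ => Nat) tJ_O_L0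
 (@Bool.rec (fun _ => Nat) tJ_O_L1
 tJ_O_L2 (Nat.ble (nat_lit 2) j)) (Nat.ble (nat_lit 1) j))
 (@Bool.rec (fun _ => Nat) (@Bool.rec (fun _ => Nat) tJ_O_L3
 tJ_O_L4 (Nat.ble (nat_lit 4) j))
 (@Bool.rec (fun _ => Nat) tJ_O_L5
 tJ_O_L6 (Nat.ble (nat_lit 6) j)) (Nat.ble (nat_lit 5) j)) (Nat.ble (nat_lit 3) j))
 (@Bool.rec (fun _ => Nat) (@Bool.rec (fun _ => Nat) tJ_O_L7
 (@Bool.rec (fun _ => Nat) tJ_O_L8
 tJ_O_L9 (Nat.ble (nat_lit 9) j)) (Nat.ble (nat_lit 8) j))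
 (@Bool.rec (fun _ => Nat) (@Bool.rec (fun _ => Nat) tJ_O_L10
 tJ_O_L11 (Nat.ble (nat_lit 11) j))
 (@Bool.rec (fun _ => Nat) tJ_O_L12
 tJ_O_L13 (Nat.ble (nat_lit 13) j)) (Nat.ble (nat_lit 12) j)) (Nat.ble (nat_lit 10) j)) (Nat.ble (nat_lit 7) j))
 (@Bool.rec (fun _ => Nat) (@Bool.rec (fun _ => Nat) (@Bool.rec (fun _ => Nat) tJ_O_L14
 (@Bool.rec (fun _ => Nat) tJ_O_L15
 tJ_O_L16 (Nat.ble (nat_lit 16) j)) (Nat.ble (nat_lit 15) j))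
 (@Bool.rec (fun _ => Nat) (@Bool.rec (fun _ => Nat) tJ_O_L17
 tJ_O_L18 (Nat.ble (nat_lit 18) j))
 (@Bool.rec (fun _ => Nat) tJ_O_L19
 tJ_O_L20 (Nat.ble (nat_lit 20) j)) (Nat.ble (nat_lit 19) j)) (Nat.ble (nat_lit 17) j))
 (@Bool.rec (fun _ => Nat) (@Bool.rec (fun _ => Nat) (@Bool.rec (fun _ => Nat) tJ_O_L21
 tJ_O_L22 (Nat.ble (nat_lit 22) j))
 (@Bool.rec (fun _ => Nat) tJ_O_L23
 tJ_O_L24 (Nat.ble (nat_lit 24) j)) (Nat.ble (nat_lit 23) j))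
 (@Bool.rec (fun _ => Nat) (@Bool.rec (fun _ => Nat) tJ_O_L25
 tJ_O_L26 (Nat.ble (nat_lit 26) j))
 (@Bool.rec (fun _ => Nat) tJ_O_L27
 tJ_O_L28 (Nat.ble (nat_lit 28) j)) (Nat.ble (nat_lit 27) j)) (Nat.ble (nat_lit 25) j)) (Nat.ble (nat_lit 21) j)) (Nat.ble (nat_lit 14) j))
noncomputable def tJ_O (i : Nat) : Nat := Nat.land (Nat.shiftRight (tJ_O_sel (Nat.div i (nat_lit 42105))) (Nat.mul (nat_lit 19) (Nat.mod i (nat_lit 42105)))) (nat_lit 524287)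
noncomputable def tJ_sel (j : Nat) : Nat := (@Bool.rec (fun _ => Nat) (@Bool.rec (fun _ => Nat) (@Bool.rec (fun _ => Nat) (@Bool.rec (fun _ => Nat) (@Bool.rec (fun _ => Nat) (@Bool.rec (fun _ => Nat) (@Bool.rec (fun _ => Nat) (@Bool.rec (fun _ => Nat) (@Bool.rec (fun _ => Nat) tJ_P0
 tJ_P1 (Nat.ble (nat_lit 1) j))
 (@Bool.rec (fun _ => Nat) tJ_P2
 tJ_P3 (Nat.ble (nat_lit 3) j)) (Nat.ble (nat_lit 2) j))
 (@Bool.rec (fun _ => Nat) (@Bool.rec (fun _ => Nat) tJ_P4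
 tJ_P5 (Nat.ble (nat_lit 5) j))
 (@Bool.rec (fun _ => Nat) tJ_P6
 (@Bool.rec (fun _ => Nat) tJ_P7
 tJ_P8 (Nat.ble (nat_lit 8) j)) (Nat.ble (nat_lit 7) j)) (Nat.ble (nat_lit 6) j)) (Nat.ble (nat_lit 4) j))
 (@Bool.rec (fun _ => Nat) (@Bool.rec (fun _ => Nat) (@Bool.rec (fun _ => Nat) tJ_P9
 tJ_P10 (Nat.ble (nat_lit 10) j))
 (@Bool.rec (fun _ => Nat) tJ_P11
 tJ_P12 (Nat.ble (nat_lit 12) j)) (Nat.ble (nat_lit 11) j))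
 (@Bool.rec (fun _ => Nat) (@Bool.rec (fun _ => Nat) tJ_P13
 tJ_P14 (Nat.ble (nat_lit 14) j))
 (@Bool.rec (fun _ => Nat) tJ_P15
 (@Bool.rec (fun _ => Nat) tJ_P16
 tJ_P17 (Nat.ble (nat_lit 17) j)) (Nat.ble (nat_lit 16) j)) (Nat.ble (nat_lit 15) j)) (Nat.ble (nat_lit 13) j)) (Nat.ble (nat_lit 9) j))
 (@Bool.rec (fun _ => Nat) (@Bool.rec (fun _ => Nat) (@Bool.rec (fun _ => Nat) (@Bool.rec (fun _ => Nat) tJ_P18
 tJ_P19 (Nat.ble (nat_lit 19) j))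
 (@Bool.rec (fun _ => Nat) tJ_P20
 tJ_P21 (Nat.ble (nat_lit 21) j)) (Nat.ble (nat_lit 20) j))
 (@Bool.rec (fun _ => Nat) (@Bool.rec (fun _ => Nat) tJ_P22
 tJ_P23 (Nat.ble (nat_lit 23) j))
 (@Bool.rec (fun _ => Nat) tJ_P24
 (@Bool.rec (fun _ => Nat) tJ_P25
 tJ_P26 (Nat.ble (nat_lit 26) j)) (Nat.ble (nat_lit 25) j)) (Nat.ble (nat_lit 24) j)) (Nat.ble (nat_lit 22) j))
 (@Bool.rec (fun _ => Nat) (@Bool.rec (fun _ => Nat) (@Bool.rec (fun _ => Nat) tJ_P27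
 tJ_P28 (Nat.ble (nat_lit 28) j))
 (@Bool.rec (fun _ => Nat) tJ_P29
 tJ_P30 (Nat.ble (nat_lit 30) j)) (Nat.ble (nat_lit 29) j))
 (@Bool.rec (fun _ => Nat) (@Bool.rec (fun _ => Nat) tJ_P31
 tJ_P32 (Nat.ble (nat_lit 32) j))
 (@Bool.rec (fun _ => Nat) tJ_P33
 (@Bool.rec (fun _ => Nat) tJ_P34
 tJ_P35 (Nat.ble (nat_lit 35) j)) (Nat.ble (nat_lit 34) j)) (Nat.ble (nat_lit 33) j)) (Nat.ble (nat_lit 31) j)) (Nat.ble (nat_lit 27) j)) (Nat.ble (nat_lit 18) j))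
 (@Bool.rec (fun _ => Nat) (@Bool.rec (fun _ => Nat) (@Bool.rec (fun _ => Nat) (@Bool.rec (fun _ => Nat) (@Bool.rec (fun _ => Nat) tJ_P36
 tJ_P37 (Nat.ble (nat_lit 37) j))
 (@Bool.rec (fun _ => Nat) tJ_P38
 tJ_P39 (Nat.ble (nat_lit 39) j)) (Nat.ble (nat_lit 38) j))
 (@Bool.rec (fun _ => Nat) (@Bool.rec (fun _ => Nat) tJ_P40
 tJ_P41 (Nat.ble (nat_lit 41) j))
 (@Bool.rec (fun _ => Nat) tJ_P42
 (@Bool.rec (fun _ => Nat) tJ_P43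
 tJ_P44 (Nat.ble (nat_lit 44) j)) (Nat.ble (nat_lit 43) j)) (Nat.ble (nat_lit 42) j)) (Nat.ble (nat_lit 40) j))
 (@Bool.rec (fun _ => Nat) (@Bool.rec (fun _ => Nat) (@Bool.rec (fun _ => Nat) tJ_P45
 tJ_P46 (Nat.ble (nat_lit 46) j))
 (@Bool.rec (fun _ => Nat) tJ_P47
 tJ_P48 (Nat.ble (nat_lit 48) j)) (Nat.ble (nat_lit 47) j))
 (@Bool.rec (fun _ => Nat) (@Bool.rec (fun _ => Nat) tJ_P49
 tJ_P50 (Nat.ble (nat_lit 50) j))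
 (@Bool.rec (fun _ => Nat) tJ_P51
 (@Bool.rec (fun _ => Nat) tJ_P52
 tJ_P53 (Nat.ble (nat_lit 53) j)) (Nat.ble (nat_lit 52) j)) (Nat.ble (nat_lit 51) j)) (Nat.ble (nat_lit 49) j)) (Nat.ble (nat_lit 45) j))
 (@Bool.rec (fun _ => Nat) (@Bool.rec (fun _ => Nat) (@Bool.rec (fun _ => Nat) (@Bool.rec (fun _ => Nat) tJ_P54
 tJ_P55 (Nat.ble (nat_lit 55) j))
 (@Bool.rec (fun _ => Nat) tJ_P56
 tJ_P57 (Nat.ble (nat_lit 57) j)) (Nat.ble (nat_lit 56) j))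
 (@Bool.rec (fun _ => Nat) (@Bool.rec (fun _ => Nat) tJ_P58
 tJ_P59 (Nat.ble (nat_lit 59) j))
 (@Bool.rec (fun _ => Nat) tJ_P60
 (@Bool.rec (fun _ => Nat) tJ_P61
 tJ_P62 (Nat.ble (nat_lit 62) j)) (Nat.ble (nat_lit 61) j)) (Nat.ble (nat_lit 60) j)) (Nat.ble (nat_lit 58) j))
 (@Bool.rec (fun _ => Nat) (@Bool.rec (fun _ => Nat) (@Bool.rec (fun _ => Nat) tJ_P63
 tJ_P64 (Nat.ble (nat_lit 64) j))
 (@Bool.rec (fun _ => Nat) tJ_P65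
 (@Bool.rec (fun _ => Nat) tJ_P66
 tJ_P67 (Nat.ble (nat_lit 67) j)) (Nat.ble (nat_lit 66) j)) (Nat.ble (nat_lit 65) j))
 (@Bool.rec (fun _ => Nat) (@Bool.rec (fun _ => Nat) tJ_P68
 tJ_P69 (Nat.ble (nat_lit 69) j))
 (@Bool.rec (fun _ => Nat) tJ_P70
 (@Bool.rec (fun _ => Nat) tJ_P71
 tJ_P72 (Nat.ble (nat_lit 72) j)) (Nat.ble (nat_lit 71) j)) (Nat.ble (nat_lit 70) j)) (Nat.ble (nat_lit 68) j)) (Nat.ble (nat_lit 63) j)) (Nat.ble (nat_lit 54) j)) (Nat.ble (nat_lit 36) j))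
 (@Bool.rec (fun _ => Nat) (@Bool.rec (fun _ => Nat) (@Bool.rec (fun _ => Nat) (@Bool.rec (fun _ => Nat) (@Bool.rec (fun _ => Nat) (@Bool.rec (fun _ => Nat) tJ_P73
 tJ_P74 (Nat.ble (nat_lit 74) j))
 (@Bool.rec (fun _ => Nat) tJ_P75
 tJ_P76 (Nat.ble (nat_lit 76) j)) (Nat.ble (nat_lit 75) j))
 (@Bool.rec (fun _ => Nat) (@Bool.rec (fun _ => Nat) tJ_P77
 tJ_P78 (Nat.ble (nat_lit 78) j))
 (@Bool.rec (fun _ => Nat) tJ_P79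
 (@Bool.rec (fun _ => Nat) tJ_P80
 tJ_P81 (Nat.ble (nat_lit 81) j)) (Nat.ble (nat_lit 80) j)) (Nat.ble (nat_lit 79) j)) (Nat.ble (nat_lit 77) j))
 (@Bool.rec (fun _ => Nat) (@Bool.rec (fun _ => Nat) (@Bool.rec (fun _ => Nat) tJ_P82
 tJ_P83 (Nat.ble (nat_lit 83) j))
 (@Bool.rec (fun _ => Nat) tJ_P84
 tJ_P85 (Nat.ble (nat_lit 85) j)) (Nat.ble (nat_lit 84) j))
 (@Bool.rec (fun _ => Nat) (@Bool.rec (fun _ => Nat) tJ_P86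
 tJ_P87 (Nat.ble (nat_lit 87) j))
 (@Bool.rec (fun _ => Nat) tJ_P88
 (@Bool.rec (fun _ => Nat) tJ_P89
 tJ_P90 (Nat.ble (nat_lit 90) j)) (Nat.ble (nat_lit 89) j)) (Nat.ble (nat_lit 88) j)) (Nat.ble (nat_lit 86) j)) (Nat.ble (nat_lit 82) j))
 (@Bool.rec (fun _ => Nat) (@Bool.rec (fun _ => Nat) (@Bool.rec (fun _ => Nat) (@Bool.rec (fun _ => Nat) tJ_P91
 tJ_P92 (Nat.ble (nat_lit 92) j))
 (@Bool.rec (fun _ => Nat) tJ_P93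
 tJ_P94 (Nat.ble (nat_lit 94) j)) (Nat.ble (nat_lit 93) j))
 (@Bool.rec (fun _ => Nat) (@Bool.rec (fun _ => Nat) tJ_P95
 tJ_P96 (Nat.ble (nat_lit 96) j))
 (@Bool.rec (fun _ => Nat) tJ_P97
 (@Bool.rec (fun _ => Nat) tJ_P98
 tJ_P99 (Nat.ble (nat_lit 99) j)) (Nat.ble (nat_lit 98) j)) (Nat.ble (nat_lit 97) j)) (Nat.ble (nat_lit 95) j))
 (@Bool.rec (fun _ => Nat) (@Bool.rec (fun _ => Nat) (@Bool.rec (fun _ => Nat) tJ_P100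
 tJ_P101 (Nat.ble (nat_lit 101) j))
 (@Bool.rec (fun _ => Nat) tJ_P102
 (@Bool.rec (fun _ => Nat) tJ_P103
 tJ_P104 (Nat.ble (nat_lit 104) j)) (Nat.ble (nat_lit 103) j)) (Nat.ble (nat_lit 102) j))
 (@Bool.rec (fun _ => Nat) (@Bool.rec (fun _ => Nat) tJ_P105
 tJ_P106 (Nat.ble (nat_lit 106) j))
 (@Bool.rec (fun _ => Nat) tJ_P107
 (@Bool.rec (fun _ => Nat) tJ_P108
 tJ_P109 (Nat.ble (nat_lit 109) j)) (Nat.ble (nat_lit 108) j)) (Nat.ble (nat_lit 107) j)) (Nat.ble (nat_lit 105) j)) (Nat.ble (nat_lit 100) j)) (Nat.ble (nat_lit 91) j))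
 (@Bool.rec (fun _ => Nat) (@Bool.rec (fun _ => Nat) (@Bool.rec (fun _ => Nat) (@Bool.rec (fun _ => Nat) (@Bool.rec (fun _ => Nat) tJ_P110
 tJ_P111 (Nat.ble (nat_lit 111) j))
 (@Bool.rec (fun _ => Nat) tJ_P112
 tJ_P113 (Nat.ble (nat_lit 113) j)) (Nat.ble (nat_lit 112) j))
 (@Bool.rec (fun _ => Nat) (@Bool.rec (fun _ => Nat) tJ_P114
 tJ_P115 (Nat.ble (nat_lit 115) j))
 (@Bool.rec (fun _ => Nat) tJ_P116
 (@Bool.rec (fun _ => Nat) tJ_P117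
 tJ_P118 (Nat.ble (nat_lit 118) j)) (Nat.ble (nat_lit 117) j)) (Nat.ble (nat_lit 116) j)) (Nat.ble (nat_lit 114) j))
 (@Bool.rec (fun _ => Nat) (@Bool.rec (fun _ => Nat) (@Bool.rec (fun _ => Nat) tJ_P119
 tJ_P120 (Nat.ble (nat_lit 120) j))
 (@Bool.rec (fun _ => Nat) tJ_P121
 tJ_P122 (Nat.ble (nat_lit 122) j)) (Nat.ble (nat_lit 121) j))
 (@Bool.rec (fun _ => Nat) (@Bool.rec (fun _ => Nat) tJ_P123
 tJ_P124 (Nat.ble (nat_lit 124) j))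
 (@Bool.rec (fun _ => Nat) tJ_P125
 (@Bool.rec (fun _ => Nat) tJ_P126
 tJ_P127 (Nat.ble (nat_lit 127) j)) (Nat.ble (nat_lit 126) j)) (Nat.ble (nat_lit 125) j)) (Nat.ble (nat_lit 123) j)) (Nat.ble (nat_lit 119) j))
 (@Bool.rec (fun _ => Nat) (@Bool.rec (fun _ => Nat) (@Bool.rec (fun _ => Nat) (@Bool.rec (fun _ => Nat) tJ_P128
 tJ_P129 (Nat.ble (nat_lit 129) j))
 (@Bool.rec (fun _ => Nat) tJ_P130
 tJ_P131 (Nat.ble (nat_lit 131) j)) (Nat.ble (nat_lit 130) j))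
 (@Bool.rec (fun _ => Nat) (@Bool.rec (fun _ => Nat) tJ_P132
 tJ_P133 (Nat.ble (nat_lit 133) j))
 (@Bool.rec (fun _ => Nat) tJ_P134
 (@Bool.rec (fun _ => Nat) tJ_P135
 tJ_P136 (Nat.ble (nat_lit 136) j)) (Nat.ble (nat_lit 135) j)) (Nat.ble (nat_lit 134) j)) (Nat.ble (nat_lit 132) j))
 (@Bool.rec (fun _ => Nat) (@Bool.rec (fun _ => Nat) (@Bool.rec (fun _ => Nat) tJ_P137
 tJ_P138 (Nat.ble (nat_lit 138) j))
 (@Bool.rec (fun _ => Nat) tJ_P139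
 (@Bool.rec (fun _ => Nat) tJ_P140
 tJ_P141 (Nat.ble (nat_lit 141) j)) (Nat.ble (nat_lit 140) j)) (Nat.ble (nat_lit 139) j))
 (@Bool.rec (fun _ => Nat) (@Bool.rec (fun _ => Nat) tJ_P142
 tJ_P143 (Nat.ble (nat_lit 143) j))
 (@Bool.rec (fun _ => Nat) tJ_P144
 (@Bool.rec (fun _ => Nat) tJ_P145
 tJ_P146 (Nat.ble (nat_lit 146) j)) (Nat.ble (nat_lit 145) j)) (Nat.ble (nat_lit 144) j)) (Nat.ble (nat_lit 142) j)) (Nat.ble (nat_lit 137) j)) (Nat.ble (nat_lit 128) j)) (Nat.ble (nat_lit 110) j)) (Nat.ble (nat_lit 73) j))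
 (@Bool.rec (fun _ => Nat) (@Bool.rec (fun _ => Nat) (@Bool.rec (fun _ => Nat) (@Bool.rec (fun _ => Nat) (@Bool.rec (fun _ => Nat) (@Bool.rec (fun _ => Nat) (@Bool.rec (fun _ => Nat) tJ_P147
 tJ_P148 (Nat.ble (nat_lit 148) j))
 (@Bool.rec (fun _ => Nat) tJ_P149
 tJ_P150 (Nat.ble (nat_lit 150) j)) (Nat.ble (nat_lit 149) j))
 (@Bool.rec (fun _ => Nat) (@Bool.rec (fun _ => Nat) tJ_P151
 tJ_P152 (Nat.ble (nat_lit 152) j))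
 (@Bool.rec (fun _ => Nat) tJ_P153
 (@Bool.rec (fun _ => Nat) tJ_P154
 tJ_P155 (Nat.ble (nat_lit 155) j)) (Nat.ble (nat_lit 154) j)) (Nat.ble (nat_lit 153) j)) (Nat.ble (nat_lit 151) j))
 (@Bool.rec (fun _ => Nat) (@Bool.rec (fun _ => Nat) (@Bool.rec (fun _ => Nat) tJ_P156
 tJ_P157 (Nat.ble (nat_lit 157) j))
 (@Bool.rec (fun _ => Nat) tJ_P158
 tJ_P159 (Nat.ble (nat_lit 159) j)) (Nat.ble (nat_lit 158) j))
 (@Bool.rec (fun _ => Nat) (@Bool.rec (fun _ => Nat) tJ_P160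
 tJ_P161 (Nat.ble (nat_lit 161) j))
 (@Bool.rec (fun _ => Nat) tJ_P162
 (@Bool.rec (fun _ => Nat) tJ_P163
 tJ_P164 (Nat.ble (nat_lit 164) j)) (Nat.ble (nat_lit 163) j)) (Nat.ble (nat_lit 162) j)) (Nat.ble (nat_lit 160) j)) (Nat.ble (nat_lit 156) j))
 (@Bool.rec (fun _ => Nat) (@Bool.rec (fun _ => Nat) (@Bool.rec (fun _ => Nat) (@Bool.rec (fun _ => Nat) tJ_P165
 tJ_P166 (Nat.ble (nat_lit 166) j))
 (@Bool.rec (fun _ => Nat) tJ_P167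
 tJ_P168 (Nat.ble (nat_lit 168) j)) (Nat.ble (nat_lit 167) j))
 (@Bool.rec (fun _ => Nat) (@Bool.rec (fun _ => Nat) tJ_P169
 tJ_P170 (Nat.ble (nat_lit 170) j))
 (@Bool.rec (fun _ => Nat) tJ_P171
 (@Bool.rec (fun _ => Nat) tJ_P172
 tJ_P173 (Nat.ble (nat_lit 173) j)) (Nat.ble (nat_lit 172) j)) (Nat.ble (nat_lit 171) j)) (Nat.ble (nat_lit 169) j))
 (@Bool.rec (fun _ => Nat) (@Bool.rec (fun _ => Nat) (@Bool.rec (fun _ => Nat) tJ_P174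
 tJ_P175 (Nat.ble (nat_lit 175) j))
 (@Bool.rec (fun _ => Nat) tJ_P176
 (@Bool.rec (fun _ => Nat) tJ_P177
 tJ_P178 (Nat.ble (nat_lit 178) j)) (Nat.ble (nat_lit 177) j)) (Nat.ble (nat_lit 176) j))
 (@Bool.rec (fun _ => Nat) (@Bool.rec (fun _ => Nat) tJ_P179
 tJ_P180 (Nat.ble (nat_lit 180) j))
 (@Bool.rec (fun _ => Nat) tJ_P181
 (@Bool.rec (fun _ => Nat) tJ_P182
 tJ_P183 (Nat.ble (nat_lit 183) j)) (Nat.ble (nat_lit 182) j)) (Nat.ble (nat_lit 181) j)) (Nat.ble (nat_lit 179) j)) (Nat.ble (nat_lit 174) j)) (Nat.ble (nat_lit 165) j))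
 (@Bool.rec (fun _ => Nat) (@Bool.rec (fun _ => Nat) (@Bool.rec (fun _ => Nat) (@Bool.rec (fun _ => Nat) (@Bool.rec (fun _ => Nat) tJ_P184
 tJ_P185 (Nat.ble (nat_lit 185) j))
 (@Bool.rec (fun _ => Nat) tJ_P186
 tJ_P187 (Nat.ble (nat_lit 187) j)) (Nat.ble (nat_lit 186) j))
 (@Bool.rec (fun _ => Nat) (@Bool.rec (fun _ => Nat) tJ_P188
 tJ_P189 (Nat.ble (nat_lit 189) j))
 (@Bool.rec (fun _ => Nat) tJ_P190
 (@Bool.rec (fun _ => Nat) tJ_P191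
 tJ_P192 (Nat.ble (nat_lit 192) j)) (Nat.ble (nat_lit 191) j)) (Nat.ble (nat_lit 190) j)) (Nat.ble (nat_lit 188) j))
 (@Bool.rec (fun _ => Nat) (@Bool.rec (fun _ => Nat) (@Bool.rec (fun _ => Nat) tJ_P193
 tJ_P194 (Nat.ble (nat_lit 194) j))
 (@Bool.rec (fun _ => Nat) tJ_P195
 tJ_P196 (Nat.ble (nat_lit 196) j)) (Nat.ble (nat_lit 195) j))
 (@Bool.rec (fun _ => Nat) (@Bool.rec (fun _ => Nat) tJ_P197
 tJ_P198 (Nat.ble (nat_lit 198) j))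
 (@Bool.rec (fun _ => Nat) tJ_P199
 (@Bool.rec (fun _ => Nat) tJ_P200
 tJ_P201 (Nat.ble (nat_lit 201) j)) (Nat.ble (nat_lit 200) j)) (Nat.ble (nat_lit 199) j)) (Nat.ble (nat_lit 197) j)) (Nat.ble (nat_lit 193) j))
 (@Bool.rec (fun _ => Nat) (@Bool.rec (fun _ => Nat) (@Bool.rec (fun _ => Nat) (@Bool.rec (fun _ => Nat) tJ_P202
 tJ_P203 (Nat.ble (nat_lit 203) j))
 (@Bool.rec (fun _ => Nat) tJ_P204
 tJ_P205 (Nat.ble (nat_lit 205) j)) (Nat.ble (nat_lit 204) j))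
 (@Bool.rec (fun _ => Nat) (@Bool.rec (fun _ => Nat) tJ_P206
 tJ_P207 (Nat.ble (nat_lit 207) j))
 (@Bool.rec (fun _ => Nat) tJ_P208
 (@Bool.rec (fun _ => Nat) tJ_P209
 tJ_P210 (Nat.ble (nat_lit 210) j)) (Nat.ble (nat_lit 209) j)) (Nat.ble (nat_lit 208) j)) (Nat.ble (nat_lit 206) j))
 (@Bool.rec (fun _ => Nat) (@Bool.rec (fun _ => Nat) (@Bool.rec (fun _ => Nat) tJ_P211
 tJ_P212 (Nat.ble (nat_lit 212) j))
 (@Bool.rec (fun _ => Nat) tJ_P213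
 (@Bool.rec (fun _ => Nat) tJ_P214
 tJ_P215 (Nat.ble (nat_lit 215) j)) (Nat.ble (nat_lit 214) j)) (Nat.ble (nat_lit 213) j))
 (@Bool.rec (fun _ => Nat) (@Bool.rec (fun _ => Nat) tJ_P216
 tJ_P217 (Nat.ble (nat_lit 217) j))
 (@Bool.rec (fun _ => Nat) tJ_P218
 (@Bool.rec (fun _ => Nat) tJ_P219
 tJ_P220 (Nat.ble (nat_lit 220) j)) (Nat.ble (nat_lit 219) j)) (Nat.ble (nat_lit 218) j)) (Nat.ble (nat_lit 216) j)) (Nat.ble (nat_lit 211) j)) (Nat.ble (nat_lit 202) j)) (Nat.ble (nat_lit 184) j))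
 (@Bool.rec (fun _ => Nat) (@Bool.rec (fun _ => Nat) (@Bool.rec (fun _ => Nat) (@Bool.rec (fun _ => Nat) (@Bool.rec (fun _ => Nat) (@Bool.rec (fun _ => Nat) tJ_P221
 tJ_P222 (Nat.ble (nat_lit 222) j))
 (@Bool.rec (fun _ => Nat) tJ_P223
 tJ_P224 (Nat.ble (nat_lit 224) j)) (Nat.ble (nat_lit 223) j))
 (@Bool.rec (fun _ => Nat) (@Bool.rec (fun _ => Nat) tJ_P225
 tJ_P226 (Nat.ble (nat_lit 226) j))
 (@Bool.rec (fun _ => Nat) tJ_P227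
 (@Bool.rec (fun _ => Nat) tJ_P228
 tJ_P229 (Nat.ble (nat_lit 229) j)) (Nat.ble (nat_lit 228) j)) (Nat.ble (nat_lit 227) j)) (Nat.ble (nat_lit 225) j))
 (@Bool.rec (fun _ => Nat) (@Bool.rec (fun _ => Nat) (@Bool.rec (fun _ => Nat) tJ_P230
 tJ_P231 (Nat.ble (nat_lit 231) j))
 (@Bool.rec (fun _ => Nat) tJ_P232
 tJ_P233 (Nat.ble (nat_lit 233) j)) (Nat.ble (nat_lit 232) j))
 (@Bool.rec (fun _ => Nat) (@Bool.rec (fun _ => Nat) tJ_P234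
 tJ_P235 (Nat.ble (nat_lit 235) j))
 (@Bool.rec (fun _ => Nat) tJ_P236
 (@Bool.rec (fun _ => Nat) tJ_P237
 tJ_P238 (Nat.ble (nat_lit 238) j)) (Nat.ble (nat_lit 237) j)) (Nat.ble (nat_lit 236) j)) (Nat.ble (nat_lit 234) j)) (Nat.ble (nat_lit 230) j))
 (@Bool.rec (fun _ => Nat) (@Bool.rec (fun _ => Nat) (@Bool.rec (fun _ => Nat) (@Bool.rec (fun _ => Nat) tJ_P239
 tJ_P240 (Nat.ble (nat_lit 240) j))
 (@Bool.rec (fun _ => Nat) tJ_P241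
 tJ_P242 (Nat.ble (nat_lit 242) j)) (Nat.ble (nat_lit 241) j))
 (@Bool.rec (fun _ => Nat) (@Bool.rec (fun _ => Nat) tJ_P243
 tJ_P244 (Nat.ble (nat_lit 244) j))
 (@Bool.rec (fun _ => Nat) tJ_P245
 (@Bool.rec (fun _ => Nat) tJ_P246
 tJ_P247 (Nat.ble (nat_lit 247) j)) (Nat.ble (nat_lit 246) j)) (Nat.ble (nat_lit 245) j)) (Nat.ble (nat_lit 243) j))
 (@Bool.rec (fun _ => Nat) (@Bool.rec (fun _ => Nat) (@Bool.rec (fun _ => Nat) tJ_P248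
 tJ_P249 (Nat.ble (nat_lit 249) j))
 (@Bool.rec (fun _ => Nat) tJ_P250
 (@Bool.rec (fun _ => Nat) tJ_P251
 tJ_P252 (Nat.ble (nat_lit 252) j)) (Nat.ble (nat_lit 251) j)) (Nat.ble (nat_lit 250) j))
 (@Bool.rec (fun _ => Nat) (@Bool.rec (fun _ => Nat) tJ_P253
 tJ_P254 (Nat.ble (nat_lit 254) j))
 (@Bool.rec (fun _ => Nat) tJ_P255
 (@Bool.rec (fun _ => Nat) tJ_P256
 tJ_P257 (Nat.ble (nat_lit 257) j)) (Nat.ble (nat_lit 256) j)) (Nat.ble (nat_lit 255) j)) (Nat.ble (nat_lit 253) j)) (Nat.ble (nat_lit 248) j)) (Nat.ble (nat_lit 239) j))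
 (@Bool.rec (fun _ => Nat) (@Bool.rec (fun _ => Nat) (@Bool.rec (fun _ => Nat) (@Bool.rec (fun _ => Nat) (@Bool.rec (fun _ => Nat) tJ_P258
 tJ_P259 (Nat.ble (nat_lit 259) j))
 (@Bool.rec (fun _ => Nat) tJ_P260
 tJ_P261 (Nat.ble (nat_lit 261) j)) (Nat.ble (nat_lit 260) j))
 (@Bool.rec (fun _ => Nat) (@Bool.rec (fun _ => Nat) tJ_P262
 tJ_P263 (Nat.ble (nat_lit 263) j))
 (@Bool.rec (fun _ => Nat) tJ_P264
 (@Bool.rec (fun _ => Nat) tJ_P265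
 tJ_P266 (Nat.ble (nat_lit 266) j)) (Nat.ble (nat_lit 265) j)) (Nat.ble (nat_lit 264) j)) (Nat.ble (nat_lit 262) j))
 (@Bool.rec (fun _ => Nat) (@Bool.rec (fun _ => Nat) (@Bool.rec (fun _ => Nat) tJ_P267
 tJ_P268 (Nat.ble (nat_lit 268) j))
 (@Bool.rec (fun _ => Nat) tJ_P269
 tJ_P270 (Nat.ble (nat_lit 270) j)) (Nat.ble (nat_lit 269) j))
 (@Bool.rec (fun _ => Nat) (@Bool.rec (fun _ => Nat) tJ_P271
 tJ_P272 (Nat.ble (nat_lit 272) j))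
 (@Bool.rec (fun _ => Nat) tJ_P273
 (@Bool.rec (fun _ => Nat) tJ_P274
 tJ_P275 (Nat.ble (nat_lit 275) j)) (Nat.ble (nat_lit 274) j)) (Nat.ble (nat_lit 273) j)) (Nat.ble (nat_lit 271) j)) (Nat.ble (nat_lit 267) j))
 (@Bool.rec (fun _ => Nat) (@Bool.rec (fun _ => Nat) (@Bool.rec (fun _ => Nat) (@Bool.rec (fun _ => Nat) tJ_P276
 tJ_P277 (Nat.ble (nat_lit 277) j))
 (@Bool.rec (fun _ => Nat) tJ_P278
 tJ_P279 (Nat.ble (nat_lit 279) j)) (Nat.ble (nat_lit 278) j))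
 (@Bool.rec (fun _ => Nat) (@Bool.rec (fun _ => Nat) tJ_P280
 tJ_P281 (Nat.ble (nat_lit 281) j))
 (@Bool.rec (fun _ => Nat) tJ_P282
 (@Bool.rec (fun _ => Nat) tJ_P283
 tJ_P284 (Nat.ble (nat_lit 284) j)) (Nat.ble (nat_lit 283) j)) (Nat.ble (nat_lit 282) j)) (Nat.ble (nat_lit 280) j))
 (@Bool.rec (fun _ => Nat) (@Bool.rec (fun _ => Nat) (@Bool.rec (fun _ => Nat) tJ_P285
 tJ_P286 (Nat.ble (nat_lit 286) j))
 (@Bool.rec (fun _ => Nat) tJ_P287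
 (@Bool.rec (fun _ => Nat) tJ_P288
 tJ_P289 (Nat.ble (nat_lit 289) j)) (Nat.ble (nat_lit 288) j)) (Nat.ble (nat_lit 287) j))
 (@Bool.rec (fun _ => Nat) (@Bool.rec (fun _ => Nat) tJ_P290
 tJ_P291 (Nat.ble (nat_lit 291) j))
 (@Bool.rec (fun _ => Nat) tJ_P292
 (@Bool.rec (fun _ => Nat) tJ_P293
 tJ_P294 (Nat.ble (nat_lit 294) j)) (Nat.ble (nat_lit 293) j)) (Nat.ble (nat_lit 292) j)) (Nat.ble (nat_lit 290) j)) (Nat.ble (nat_lit 285) j)) (Nat.ble (nat_lit 276) j)) (Nat.ble (nat_lit 258) j)) (Nat.ble (nat_lit 221) j)) (Nat.ble (nat_lit 147) j))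
 (@Bool.rec (fun _ => Nat) (@Bool.rec (fun _ => Nat) (@Bool.rec (fun _ => Nat) (@Bool.rec (fun _ => Nat) (@Bool.rec (fun _ => Nat) (@Bool.rec (fun _ => Nat) (@Bool.rec (fun _ => Nat) (@Bool.rec (fun _ => Nat) tJ_P295
 tJ_P296 (Nat.ble (nat_lit 296) j))
 (@Bool.rec (fun _ => Nat) tJ_P297
 tJ_P298 (Nat.ble (nat_lit 298) j)) (Nat.ble (nat_lit 297) j))
 (@Bool.rec (fun _ => Nat) (@Bool.rec (fun _ => Nat) tJ_P299
 tJ_P300 (Nat.ble (nat_lit 300) j))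
 (@Bool.rec (fun _ => Nat) tJ_P301
 (@Bool.rec (fun _ => Nat) tJ_P302
 tJ_P303 (Nat.ble (nat_lit 303) j)) (Nat.ble (nat_lit 302) j)) (Nat.ble (nat_lit 301) j)) (Nat.ble (nat_lit 299) j))
 (@Bool.rec (fun _ => Nat) (@Bool.rec (fun _ => Nat) (@Bool.rec (fun _ => Nat) tJ_P304
 tJ_P305 (Nat.ble (nat_lit 305) j))
 (@Bool.rec (fun _ => Nat) tJ_P306
 tJ_P307 (Nat.ble (nat_lit 307) j)) (Nat.ble (nat_lit 306) j))
 (@Bool.rec (fun _ => Nat) (@Bool.rec (fun _ => Nat) tJ_P308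
 tJ_P309 (Nat.ble (nat_lit 309) j))
 (@Bool.rec (fun _ => Nat) tJ_P310
 (@Bool.rec (fun _ => Nat) tJ_P311
 tJ_P312 (Nat.ble (nat_lit 312) j)) (Nat.ble (nat_lit 311) j)) (Nat.ble (nat_lit 310) j)) (Nat.ble (nat_lit 308) j)) (Nat.ble (nat_lit 304) j))
 (@Bool.rec (fun _ => Nat) (@Bool.rec (fun _ => Nat) (@Bool.rec (fun _ => Nat) (@Bool.rec (fun _ => Nat) tJ_P313
 tJ_P314 (Nat.ble (nat_lit 314) j))
 (@Bool.rec (fun _ => Nat) tJ_P315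
 tJ_P316 (Nat.ble (nat_lit 316) j)) (Nat.ble (nat_lit 315) j))
 (@Bool.rec (fun _ => Nat) (@Bool.rec (fun _ => Nat) tJ_P317
 tJ_P318 (Nat.ble (nat_lit 318) j))
 (@Bool.rec (fun _ => Nat) tJ_P319
 (@Bool.rec (fun _ => Nat) tJ_P320
 tJ_P321 (Nat.ble (nat_lit 321) j)) (Nat.ble (nat_lit 320) j)) (Nat.ble (nat_lit 319) j)) (Nat.ble (nat_lit 317) j))
 (@Bool.rec (fun _ => Nat) (@Bool.rec (fun _ => Nat) (@Bool.rec (fun _ => Nat) tJ_P322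
 tJ_P323 (Nat.ble (nat_lit 323) j))
 (@Bool.rec (fun _ => Nat) tJ_P324
 tJ_P325 (Nat.ble (nat_lit 325) j)) (Nat.ble (nat_lit 324) j))
 (@Bool.rec (fun _ => Nat) (@Bool.rec (fun _ => Nat) tJ_P326
 tJ_P327 (Nat.ble (nat_lit 327) j))
 (@Bool.rec (fun _ => Nat) tJ_P328
 (@Bool.rec (fun _ => Nat) tJ_P329
 tJ_P330 (Nat.ble (nat_lit 330) j)) (Nat.ble (nat_lit 329) j)) (Nat.ble (nat_lit 328) j)) (Nat.ble (nat_lit 326) j)) (Nat.ble (nat_lit 322) j)) (Nat.ble (nat_lit 313) j))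
 (@Bool.rec (fun _ => Nat) (@Bool.rec (fun _ => Nat) (@Bool.rec (fun _ => Nat) (@Bool.rec (fun _ => Nat) (@Bool.rec (fun _ => Nat) tJ_P331
 tJ_P332 (Nat.ble (nat_lit 332) j))
 (@Bool.rec (fun _ => Nat) tJ_P333
 tJ_P334 (Nat.ble (nat_lit 334) j)) (Nat.ble (nat_lit 333) j))
 (@Bool.rec (fun _ => Nat) (@Bool.rec (fun _ => Nat) tJ_P335
 tJ_P336 (Nat.ble (nat_lit 336) j))
 (@Bool.rec (fun _ => Nat) tJ_P337
 (@Bool.rec (fun _ => Nat) tJ_P338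
 tJ_P339 (Nat.ble (nat_lit 339) j)) (Nat.ble (nat_lit 338) j)) (Nat.ble (nat_lit 337) j)) (Nat.ble (nat_lit 335) j))
 (@Bool.rec (fun _ => Nat) (@Bool.rec (fun _ => Nat) (@Bool.rec (fun _ => Nat) tJ_P340
 tJ_P341 (Nat.ble (nat_lit 341) j))
 (@Bool.rec (fun _ => Nat) tJ_P342
 tJ_P343 (Nat.ble (nat_lit 343) j)) (Nat.ble (nat_lit 342) j))
 (@Bool.rec (fun _ => Nat) (@Bool.rec (fun _ => Nat) tJ_P344
 tJ_P345 (Nat.ble (nat_lit 345) j))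
 (@Bool.rec (fun _ => Nat) tJ_P346
 (@Bool.rec (fun _ => Nat) tJ_P347
 tJ_P348 (Nat.ble (nat_lit 348) j)) (Nat.ble (nat_lit 347) j)) (Nat.ble (nat_lit 346) j)) (Nat.ble (nat_lit 344) j)) (Nat.ble (nat_lit 340) j))
 (@Bool.rec (fun _ => Nat) (@Bool.rec (fun _ => Nat) (@Bool.rec (fun _ => Nat) (@Bool.rec (fun _ => Nat) tJ_P349
 tJ_P350 (Nat.ble (nat_lit 350) j))
 (@Bool.rec (fun _ => Nat) tJ_P351
 tJ_P352 (Nat.ble (nat_lit 352) j)) (Nat.ble (nat_lit 351) j))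
 (@Bool.rec (fun _ => Nat) (@Bool.rec (fun _ => Nat) tJ_P353
 tJ_P354 (Nat.ble (nat_lit 354) j))
 (@Bool.rec (fun _ => Nat) tJ_P355
 (@Bool.rec (fun _ => Nat) tJ_P356
 tJ_P357 (Nat.ble (nat_lit 357) j)) (Nat.ble (nat_lit 356) j)) (Nat.ble (nat_lit 355) j)) (Nat.ble (nat_lit 353) j))
 (@Bool.rec (fun _ => Nat) (@Bool.rec (fun _ => Nat) (@Bool.rec (fun _ => Nat) tJ_P358
 tJ_P359 (Nat.ble (nat_lit 359) j))
 (@Bool.rec (fun _ => Nat) tJ_P360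
 (@Bool.rec (fun _ => Nat) tJ_P361
 tJ_P362 (Nat.ble (nat_lit 362) j)) (Nat.ble (nat_lit 361) j)) (Nat.ble (nat_lit 360) j))
 (@Bool.rec (fun _ => Nat) (@Bool.rec (fun _ => Nat) tJ_P363
 tJ_P364 (Nat.ble (nat_lit 364) j))
 (@Bool.rec (fun _ => Nat) tJ_P365
 (@Bool.rec (fun _ => Nat) tJ_P366
 tJ_P367 (Nat.ble (nat_lit 367) j)) (Nat.ble (nat_lit 366) j)) (Nat.ble (nat_lit 365) j)) (Nat.ble (nat_lit 363) j)) (Nat.ble (nat_lit 358) j)) (Nat.ble (nat_lit 349) j)) (Nat.ble (nat_lit 331) j))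
 (@Bool.rec (fun _ => Nat) (@Bool.rec (fun _ => Nat) (@Bool.rec (fun _ => Nat) (@Bool.rec (fun _ => Nat) (@Bool.rec (fun _ => Nat) (@Bool.rec (fun _ => Nat) tJ_P368
 tJ_P369 (Nat.ble (nat_lit 369) j))
 (@Bool.rec (fun _ => Nat) tJ_P370
 tJ_P371 (Nat.ble (nat_lit 371) j)) (Nat.ble (nat_lit 370) j))
 (@Bool.rec (fun _ => Nat) (@Bool.rec (fun _ => Nat) tJ_P372
 tJ_P373 (Nat.ble (nat_lit 373) j))
 (@Bool.rec (fun _ => Nat) tJ_P374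
 (@Bool.rec (fun _ => Nat) tJ_P375
 tJ_P376 (Nat.ble (nat_lit 376) j)) (Nat.ble (nat_lit 375) j)) (Nat.ble (nat_lit 374) j)) (Nat.ble (nat_lit 372) j))
 (@Bool.rec (fun _ => Nat) (@Bool.rec (fun _ => Nat) (@Bool.rec (fun _ => Nat) tJ_P377
 tJ_P378 (Nat.ble (nat_lit 378) j))
 (@Bool.rec (fun _ => Nat) tJ_P379
 tJ_P380 (Nat.ble (nat_lit 380) j)) (Nat.ble (nat_lit 379) j))
 (@Bool.rec (fun _ => Nat) (@Bool.rec (fun _ => Nat) tJ_P381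
 tJ_P382 (Nat.ble (nat_lit 382) j))
 (@Bool.rec (fun _ => Nat) tJ_P383
 (@Bool.rec (fun _ => Nat) tJ_P384
 tJ_P385 (Nat.ble (nat_lit 385) j)) (Nat.ble (nat_lit 384) j)) (Nat.ble (nat_lit 383) j)) (Nat.ble (nat_lit 381) j)) (Nat.ble (nat_lit 377) j))
 (@Bool.rec (fun _ => Nat) (@Bool.rec (fun _ => Nat) (@Bool.rec (fun _ => Nat) (@Bool.rec (fun _ => Nat) tJ_P386
 tJ_P387 (Nat.ble (nat_lit 387) j))
 (@Bool.rec (fun _ => Nat) tJ_P388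
 tJ_P389 (Nat.ble (nat_lit 389) j)) (Nat.ble (nat_lit 388) j))
 (@Bool.rec (fun _ => Nat) (@Bool.rec (fun _ => Nat) tJ_P390
 tJ_P391 (Nat.ble (nat_lit 391) j))
 (@Bool.rec (fun _ => Nat) tJ_P392
 (@Bool.rec (fun _ => Nat) tJ_P393
 tJ_P394 (Nat.ble (nat_lit 394) j)) (Nat.ble (nat_lit 393) j)) (Nat.ble (nat_lit 392) j)) (Nat.ble (nat_lit 390) j))
 (@Bool.rec (fun _ => Nat) (@Bool.rec (fun _ => Nat) (@Bool.rec (fun _ => Nat) tJ_P395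
 tJ_P396 (Nat.ble (nat_lit 396) j))
 (@Bool.rec (fun _ => Nat) tJ_P397
 (@Bool.rec (fun _ => Nat) tJ_P398
 tJ_P399 (Nat.ble (nat_lit 399) j)) (Nat.ble (nat_lit 398) j)) (Nat.ble (nat_lit 397) j))
 (@Bool.rec (fun _ => Nat) (@Bool.rec (fun _ => Nat) tJ_P400
 tJ_P401 (Nat.ble (nat_lit 401) j))
 (@Bool.rec (fun _ => Nat) tJ_P402
 (@Bool.rec (fun _ => Nat) tJ_P403
 tJ_P404 (Nat.ble (nat_lit 404) j)) (Nat.ble (nat_lit 403) j)) (Nat.ble (nat_lit 402) j)) (Nat.ble (nat_lit 400) j)) (Nat.ble (nat_lit 395) j)) (Nat.ble (nat_lit 386) j))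
 (@Bool.rec (fun _ => Nat) (@Bool.rec (fun _ => Nat) (@Bool.rec (fun _ => Nat) (@Bool.rec (fun _ => Nat) (@Bool.rec (fun _ => Nat) tJ_P405
 tJ_P406 (Nat.ble (nat_lit 406) j))
 (@Bool.rec (fun _ => Nat) tJ_P407
 tJ_P408 (Nat.ble (nat_lit 408) j)) (Nat.ble (nat_lit 407) j))
 (@Bool.rec (fun _ => Nat) (@Bool.rec (fun _ => Nat) tJ_P409
 tJ_P410 (Nat.ble (nat_lit 410) j))
 (@Bool.rec (fun _ => Nat) tJ_P411
 (@Bool.rec (fun _ => Nat) tJ_P412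
 tJ_P413 (Nat.ble (nat_lit 413) j)) (Nat.ble (nat_lit 412) j)) (Nat.ble (nat_lit 411) j)) (Nat.ble (nat_lit 409) j))
 (@Bool.rec (fun _ => Nat) (@Bool.rec (fun _ => Nat) (@Bool.rec (fun _ => Nat) tJ_P414
 tJ_P415 (Nat.ble (nat_lit 415) j))
 (@Bool.rec (fun _ => Nat) tJ_P416
 tJ_P417 (Nat.ble (nat_lit 417) j)) (Nat.ble (nat_lit 416) j))
 (@Bool.rec (fun _ => Nat) (@Bool.rec (fun _ => Nat) tJ_P418
 tJ_P419 (Nat.ble (nat_lit 419) j))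
 (@Bool.rec (fun _ => Nat) tJ_P420
 (@Bool.rec (fun _ => Nat) tJ_P421
 tJ_P422 (Nat.ble (nat_lit 422) j)) (Nat.ble (nat_lit 421) j)) (Nat.ble (nat_lit 420) j)) (Nat.ble (nat_lit 418) j)) (Nat.ble (nat_lit 414) j))
 (@Bool.rec (fun _ => Nat) (@Bool.rec (fun _ => Nat) (@Bool.rec (fun _ => Nat) (@Bool.rec (fun _ => Nat) tJ_P423
 tJ_P424 (Nat.ble (nat_lit 424) j))
 (@Bool.rec (fun _ => Nat) tJ_P425
 tJ_P426 (Nat.ble (nat_lit 426) j)) (Nat.ble (nat_lit 425) j))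
 (@Bool.rec (fun _ => Nat) (@Bool.rec (fun _ => Nat) tJ_P427
 tJ_P428 (Nat.ble (nat_lit 428) j))
 (@Bool.rec (fun _ => Nat) tJ_P429
 (@Bool.rec (fun _ => Nat) tJ_P430
 tJ_P431 (Nat.ble (nat_lit 431) j)) (Nat.ble (nat_lit 430) j)) (Nat.ble (nat_lit 429) j)) (Nat.ble (nat_lit 427) j))
 (@Bool.rec (fun _ => Nat) (@Bool.rec (fun _ => Nat) (@Bool.rec (fun _ => Nat) tJ_P432
 tJ_P433 (Nat.ble (nat_lit 433) j))
 (@Bool.rec (fun _ => Nat) tJ_P434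
 (@Bool.rec (fun _ => Nat) tJ_P435
 tJ_P436 (Nat.ble (nat_lit 436) j)) (Nat.ble (nat_lit 435) j)) (Nat.ble (nat_lit 434) j))
 (@Bool.rec (fun _ => Nat) (@Bool.rec (fun _ => Nat) tJ_P437
 tJ_P438 (Nat.ble (nat_lit 438) j))
 (@Bool.rec (fun _ => Nat) tJ_P439
 (@Bool.rec (fun _ => Nat) tJ_P440
 tJ_P441 (Nat.ble (nat_lit 441) j)) (Nat.ble (nat_lit 440) j)) (Nat.ble (nat_lit 439) j)) (Nat.ble (nat_lit 437) j)) (Nat.ble (nat_lit 432) j)) (Nat.ble (nat_lit 423) j)) (Nat.ble (nat_lit 405) j)) (Nat.ble (nat_lit 368) j))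
 (@Bool.rec (fun _ => Nat) (@Bool.rec (fun _ => Nat) (@Bool.rec (fun _ => Nat) (@Bool.rec (fun _ => Nat) (@Bool.rec (fun _ => Nat) (@Bool.rec (fun _ => Nat) (@Bool.rec (fun _ => Nat) tJ_P442
 tJ_P443 (Nat.ble (nat_lit 443) j))
 (@Bool.rec (fun _ => Nat) tJ_P444
 tJ_P445 (Nat.ble (nat_lit 445) j)) (Nat.ble (nat_lit 444) j))
 (@Bool.rec (fun _ => Nat) (@Bool.rec (fun _ => Nat) tJ_P446
 tJ_P447 (Nat.ble (nat_lit 447) j))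
 (@Bool.rec (fun _ => Nat) tJ_P448
 (@Bool.rec (fun _ => Nat) tJ_P449
 tJ_P450 (Nat.ble (nat_lit 450) j)) (Nat.ble (nat_lit 449) j)) (Nat.ble (nat_lit 448) j)) (Nat.ble (nat_lit 446) j))
 (@Bool.rec (fun _ => Nat) (@Bool.rec (fun _ => Nat) (@Bool.rec (fun _ => Nat) tJ_P451
 tJ_P452 (Nat.ble (nat_lit 452) j))
 (@Bool.rec (fun _ => Nat) tJ_P453
 tJ_P454 (Nat.ble (nat_lit 454) j)) (Nat.ble (nat_lit 453) j))
 (@Bool.rec (fun _ => Nat) (@Bool.rec (fun _ => Nat) tJ_P455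
 tJ_P456 (Nat.ble (nat_lit 456) j))
 (@Bool.rec (fun _ => Nat) tJ_P457
 (@Bool.rec (fun _ => Nat) tJ_P458
 tJ_P459 (Nat.ble (nat_lit 459) j)) (Nat.ble (nat_lit 458) j)) (Nat.ble (nat_lit 457) j)) (Nat.ble (nat_lit 455) j)) (Nat.ble (nat_lit 451) j))
 (@Bool.rec (fun _ => Nat) (@Bool.rec (fun _ => Nat) (@Bool.rec (fun _ => Nat) (@Bool.rec (fun _ => Nat) tJ_P460
 tJ_P461 (Nat.ble (nat_lit 461) j))
 (@Bool.rec (fun _ => Nat) tJ_P462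
 tJ_P463 (Nat.ble (nat_lit 463) j)) (Nat.ble (nat_lit 462) j))
 (@Bool.rec (fun _ => Nat) (@Bool.rec (fun _ => Nat) tJ_P464
 tJ_P465 (Nat.ble (nat_lit 465) j))
 (@Bool.rec (fun _ => Nat) tJ_P466
 (@Bool.rec (fun _ => Nat) tJ_P467
 tJ_P468 (Nat.ble (nat_lit 468) j)) (Nat.ble (nat_lit 467) j)) (Nat.ble (nat_lit 466) j)) (Nat.ble (nat_lit 464) j))
 (@Bool.rec (fun _ => Nat) (@Bool.rec (fun _ => Nat) (@Bool.rec (fun _ => Nat) tJ_P469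
 tJ_P470 (Nat.ble (nat_lit 470) j))
 (@Bool.rec (fun _ => Nat) tJ_P471
 (@Bool.rec (fun _ => Nat) tJ_P472
 tJ_P473 (Nat.ble (nat_lit 473) j)) (Nat.ble (nat_lit 472) j)) (Nat.ble (nat_lit 471) j))
 (@Bool.rec (fun _ => Nat) (@Bool.rec (fun _ => Nat) tJ_P474
 tJ_P475 (Nat.ble (nat_lit 475) j))
 (@Bool.rec (fun _ => Nat) tJ_P476
 (@Bool.rec (fun _ => Nat) tJ_P477
 tJ_P478 (Nat.ble (nat_lit 478) j)) (Nat.ble (nat_lit 477) j)) (Nat.ble (nat_lit 476) j)) (Nat.ble (nat_lit 474) j)) (Nat.ble (nat_lit 469) j)) (Nat.ble (nat_lit 460) j))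
 (@Bool.rec (fun _ => Nat) (@Bool.rec (fun _ => Nat) (@Bool.rec (fun _ => Nat) (@Bool.rec (fun _ => Nat) (@Bool.rec (fun _ => Nat) tJ_P479
 tJ_P480 (Nat.ble (nat_lit 480) j))
 (@Bool.rec (fun _ => Nat) tJ_P481
 tJ_P482 (Nat.ble (nat_lit 482) j)) (Nat.ble (nat_lit 481) j))
 (@Bool.rec (fun _ => Nat) (@Bool.rec (fun _ => Nat) tJ_P483
 tJ_P484 (Nat.ble (nat_lit 484) j))
 (@Bool.rec (fun _ => Nat) tJ_P485
 (@Bool.rec (fun _ => Nat) tJ_P486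
 tJ_P487 (Nat.ble (nat_lit 487) j)) (Nat.ble (nat_lit 486) j)) (Nat.ble (nat_lit 485) j)) (Nat.ble (nat_lit 483) j))
 (@Bool.rec (fun _ => Nat) (@Bool.rec (fun _ => Nat) (@Bool.rec (fun _ => Nat) tJ_P488
 tJ_P489 (Nat.ble (nat_lit 489) j))
 (@Bool.rec (fun _ => Nat) tJ_P490
 tJ_P491 (Nat.ble (nat_lit 491) j)) (Nat.ble (nat_lit 490) j))
 (@Bool.rec (fun _ => Nat) (@Bool.rec (fun _ => Nat) tJ_P492
 tJ_P493 (Nat.ble (nat_lit 493) j))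
 (@Bool.rec (fun _ => Nat) tJ_P494
 (@Bool.rec (fun _ => Nat) tJ_P495
 tJ_P496 (Nat.ble (nat_lit 496) j)) (Nat.ble (nat_lit 495) j)) (Nat.ble (nat_lit 494) j)) (Nat.ble (nat_lit 492) j)) (Nat.ble (nat_lit 488) j))
 (@Bool.rec (fun _ => Nat) (@Bool.rec (fun _ => Nat) (@Bool.rec (fun _ => Nat) (@Bool.rec (fun _ => Nat) tJ_P497
 tJ_P498 (Nat.ble (nat_lit 498) j))
 (@Bool.rec (fun _ => Nat) tJ_P499
 tJ_P500 (Nat.ble (nat_lit 500) j)) (Nat.ble (nat_lit 499) j))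
 (@Bool.rec (fun _ => Nat) (@Bool.rec (fun _ => Nat) tJ_P501
 tJ_P502 (Nat.ble (nat_lit 502) j))
 (@Bool.rec (fun _ => Nat) tJ_P503
 (@Bool.rec (fun _ => Nat) tJ_P504
 tJ_P505 (Nat.ble (nat_lit 505) j)) (Nat.ble (nat_lit 504) j)) (Nat.ble (nat_lit 503) j)) (Nat.ble (nat_lit 501) j))
 (@Bool.rec (fun _ => Nat) (@Bool.rec (fun _ => Nat) (@Bool.rec (fun _ => Nat) tJ_P506
 tJ_P507 (Nat.ble (nat_lit 507) j))
 (@Bool.rec (fun _ => Nat) tJ_P508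
 (@Bool.rec (fun _ => Nat) tJ_P509
 tJ_P510 (Nat.ble (nat_lit 510) j)) (Nat.ble (nat_lit 509) j)) (Nat.ble (nat_lit 508) j))
 (@Bool.rec (fun _ => Nat) (@Bool.rec (fun _ => Nat) tJ_P511
 tJ_P512 (Nat.ble (nat_lit 512) j))
 (@Bool.rec (fun _ => Nat) tJ_P513
 (@Bool.rec (fun _ => Nat) tJ_P514
 tJ_P515 (Nat.ble (nat_lit 515) j)) (Nat.ble (nat_lit 514) j)) (Nat.ble (nat_lit 513) j)) (Nat.ble (nat_lit 511) j)) (Nat.ble (nat_lit 506) j)) (Nat.ble (nat_lit 497) j)) (Nat.ble (nat_lit 479) j))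
 (@Bool.rec (fun _ => Nat) (@Bool.rec (fun _ => Nat) (@Bool.rec (fun _ => Nat) (@Bool.rec (fun _ => Nat) (@Bool.rec (fun _ => Nat) (@Bool.rec (fun _ => Nat) tJ_P516
 tJ_P517 (Nat.ble (nat_lit 517) j))
 (@Bool.rec (fun _ => Nat) tJ_P518
 tJ_P519 (Nat.ble (nat_lit 519) j)) (Nat.ble (nat_lit 518) j))
 (@Bool.rec (fun _ => Nat) (@Bool.rec (fun _ => Nat) tJ_P520
 tJ_P521 (Nat.ble (nat_lit 521) j))
 (@Bool.rec (fun _ => Nat) tJ_P522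
 (@Bool.rec (fun _ => Nat) tJ_P523
 tJ_P524 (Nat.ble (nat_lit 524) j)) (Nat.ble (nat_lit 523) j)) (Nat.ble (nat_lit 522) j)) (Nat.ble (nat_lit 520) j))
 (@Bool.rec (fun _ => Nat) (@Bool.rec (fun _ => Nat) (@Bool.rec (fun _ => Nat) tJ_P525
 tJ_P526 (Nat.ble (nat_lit 526) j))
 (@Bool.rec (fun _ => Nat) tJ_P527
 tJ_P528 (Nat.ble (nat_lit 528) j)) (Nat.ble (nat_lit 527) j))
 (@Bool.rec (fun _ => Nat) (@Bool.rec (fun _ => Nat) tJ_P529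
 tJ_P530 (Nat.ble (nat_lit 530) j))
 (@Bool.rec (fun _ => Nat) tJ_P531
 (@Bool.rec (fun _ => Nat) tJ_P532
 tJ_P533 (Nat.ble (nat_lit 533) j)) (Nat.ble (nat_lit 532) j)) (Nat.ble (nat_lit 531) j)) (Nat.ble (nat_lit 529) j)) (Nat.ble (nat_lit 525) j))
 (@Bool.rec (fun _ => Nat) (@Bool.rec (fun _ => Nat) (@Bool.rec (fun _ => Nat) (@Bool.rec (fun _ => Nat) tJ_P534
 tJ_P535 (Nat.ble (nat_lit 535) j))
 (@Bool.rec (fun _ => Nat) tJ_P536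
 tJ_P537 (Nat.ble (nat_lit 537) j)) (Nat.ble (nat_lit 536) j))
 (@Bool.rec (fun _ => Nat) (@Bool.rec (fun _ => Nat) tJ_P538
 tJ_P539 (Nat.ble (nat_lit 539) j))
 (@Bool.rec (fun _ => Nat) tJ_P540
 (@Bool.rec (fun _ => Nat) tJ_P541
 tJ_P542 (Nat.ble (nat_lit 542) j)) (Nat.ble (nat_lit 541) j)) (Nat.ble (nat_lit 540) j)) (Nat.ble (nat_lit 538) j))
 (@Bool.rec (fun _ => Nat) (@Bool.rec (fun _ => Nat) (@Bool.rec (fun _ => Nat) tJ_P543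
 tJ_P544 (Nat.ble (nat_lit 544) j))
 (@Bool.rec (fun _ => Nat) tJ_P545
 (@Bool.rec (fun _ => Nat) tJ_P546
 tJ_P547 (Nat.ble (nat_lit 547) j)) (Nat.ble (nat_lit 546) j)) (Nat.ble (nat_lit 545) j))
 (@Bool.rec (fun _ => Nat) (@Bool.rec (fun _ => Nat) tJ_P548
 tJ_P549 (Nat.ble (nat_lit 549) j))
 (@Bool.rec (fun _ => Nat) tJ_P550
 (@Bool.rec (fun _ => Nat) tJ_P551
 tJ_P552 (Nat.ble (nat_lit 552) j)) (Nat.ble (nat_lit 551) j)) (Nat.ble (nat_lit 550) j)) (Nat.ble (nat_lit 548) j)) (Nat.ble (nat_lit 543) j)) (Nat.ble (nat_lit 534) j))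
 (@Bool.rec (fun _ => Nat) (@Bool.rec (fun _ => Nat) (@Bool.rec (fun _ => Nat) (@Bool.rec (fun _ => Nat) (@Bool.rec (fun _ => Nat) tJ_P553
 tJ_P554 (Nat.ble (nat_lit 554) j))
 (@Bool.rec (fun _ => Nat) tJ_P555
 tJ_P556 (Nat.ble (nat_lit 556) j)) (Nat.ble (nat_lit 555) j))
 (@Bool.rec (fun _ => Nat) (@Bool.rec (fun _ => Nat) tJ_P557
 tJ_P558 (Nat.ble (nat_lit 558) j))
 (@Bool.rec (fun _ => Nat) tJ_P559
 (@Bool.rec (fun _ => Nat) tJ_P560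
 tJ_P561 (Nat.ble (nat_lit 561) j)) (Nat.ble (nat_lit 560) j)) (Nat.ble (nat_lit 559) j)) (Nat.ble (nat_lit 557) j))
 (@Bool.rec (fun _ => Nat) (@Bool.rec (fun _ => Nat) (@Bool.rec (fun _ => Nat) tJ_P562
 tJ_P563 (Nat.ble (nat_lit 563) j))
 (@Bool.rec (fun _ => Nat) tJ_P564
 tJ_P565 (Nat.ble (nat_lit 565) j)) (Nat.ble (nat_lit 564) j))
 (@Bool.rec (fun _ => Nat) (@Bool.rec (fun _ => Nat) tJ_P566
 tJ_P567 (Nat.ble (nat_lit 567) j))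
 (@Bool.rec (fun _ => Nat) tJ_P568
 (@Bool.rec (fun _ => Nat) tJ_P569
 tJ_P570 (Nat.ble (nat_lit 570) j)) (Nat.ble (nat_lit 569) j)) (Nat.ble (nat_lit 568) j)) (Nat.ble (nat_lit 566) j)) (Nat.ble (nat_lit 562) j))
 (@Bool.rec (fun _ => Nat) (@Bool.rec (fun _ => Nat) (@Bool.rec (fun _ => Nat) (@Bool.rec (fun _ => Nat) tJ_P571
 tJ_P572 (Nat.ble (nat_lit 572) j))
 (@Bool.rec (fun _ => Nat) tJ_P573
 tJ_P574 (Nat.ble (nat_lit 574) j)) (Nat.ble (nat_lit 573) j))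
 (@Bool.rec (fun _ => Nat) (@Bool.rec (fun _ => Nat) tJ_P575
 tJ_P576 (Nat.ble (nat_lit 576) j))
 (@Bool.rec (fun _ => Nat) tJ_P577
 (@Bool.rec (fun _ => Nat) tJ_P578
 tJ_P579 (Nat.ble (nat_lit 579) j)) (Nat.ble (nat_lit 578) j)) (Nat.ble (nat_lit 577) j)) (Nat.ble (nat_lit 575) j))
 (@Bool.rec (fun _ => Nat) (@Bool.rec (fun _ => Nat) (@Bool.rec (fun _ => Nat) tJ_P580
 tJ_P581 (Nat.ble (nat_lit 581) j))
 (@Bool.rec (fun _ => Nat) tJ_P582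
 (@Bool.rec (fun _ => Nat) tJ_P583
 tJ_P584 (Nat.ble (nat_lit 584) j)) (Nat.ble (nat_lit 583) j)) (Nat.ble (nat_lit 582) j))
 (@Bool.rec (fun _ => Nat) (@Bool.rec (fun _ => Nat) tJ_P585
 tJ_P586 (Nat.ble (nat_lit 586) j))
 (@Bool.rec (fun _ => Nat) tJ_P587
 (@Bool.rec (fun _ => Nat) tJ_P588
 tJ_P589 (Nat.ble (nat_lit 589) j)) (Nat.ble (nat_lit 588) j)) (Nat.ble (nat_lit 587) j)) (Nat.ble (nat_lit 585) j)) (Nat.ble (nat_lit 580) j)) (Nat.ble (nat_lit 571) j)) (Nat.ble (nat_lit 553) j)) (Nat.ble (nat_lit 516) j)) (Nat.ble (nat_lit 442) j)) (Nat.ble (nat_lit 295) j))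
noncomputable def tJ (i : Nat) : Nat := Nat.land (Nat.shiftRight (tJ_sel (Nat.div i (nat_lit 2048))) (tJ_O i)) (nat_lit 102293456496754433437912178025862473506770063938845774671352855253004181137646079840102190385184504910965208878986252219038039267058918532916516487167)

noncomputable def rels : List (List Nat) := [[], [], [], [], [], [], [], [], [2, 2], [2, 4, 2, 4, 2, 4], [2, 6, 2, 6], [2, 8, 2, 8], [2, 10, 2, 10], [2, 12, 2, 12], [], [], [4, 4], [4, 6, 4, 6, 4, 6], [4, 8, 4, 8], [4, 10, 4, 10], [4, 12, 4, 12], [], [], [], [6, 6], [6, 8, 6, 8, 6, 8, 6, 8, 6, 8, 6, 8, 6, 8, 6, 8], [6, 10, 6, 10], [6, 12, 6, 12], [], [], [], [], [8, 8], [8, 10, 8, 10, 8, 10], [8, 12, 8, 12], [], [], [], [], [], [10, 10], [10, 12, 10, 12, 10, 12], [], [], [], [], [], [], [12, 12], [2, 12, 1, 1], [2, 12, 9, 7, 9, 7, 9, 7, 9, 7], [6,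 1, 9, 1, 9, 6, 8, 0, 8, 0], [8, 1, 7, 1, 7, 8, 6, 0, 6, 0], [4, 6, 8, 0, 4, 6, 8, 0, 4, 6, 8, 0, 4, 6, 8, 0, 4, 6, 8, 0], [0, 4, 7, 0, 6, 5, 0, 4, 7, 0, 6], [0, 10, 9, 0, 8, 11, 0, 10, 9, 0, 8]]
noncomputable def subs : List (List Nat) := [[2], [4], [6], [8], [10], [12]]
noncomputable def rels2 : List (List (List Nat)) := [[[], [], [], [], [], [], [], []], [[2, 2], [2, 4, 2, 4, 2, 4], [2, 6, 2, 6], [2, 8, 2, 8], [2, 10, 2, 10], [2, 12, 2, 12], [], []], [[4, 4], [4, 6, 4, 6, 4, 6], [4, 8, 4, 8], [4, 10, 4, 10], [4, 12, 4, 12], [], [], []], [[6, 6], [6, 8, 6, 8, 6, 8, 6, 8, 6, 8, 6, 8, 6, 8, 6, 8], [6, 10, 6, 10], [6, 12, 6, 12], [], [], [], []], [[8, 8], [8, 10, 8, 10, 8, 10], [8, 12, 8, 12], [], [], [], [], []], [[10, 10], [10, 12, 10, 12, 10, 12], [], [], [], [], [], []], [[12, 12], [2, 12, 1, 1], [2, 12, 9, 7, 9,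 7, 9, 7, 9, 7], [6, 1, 9, 1, 9, 6, 8, 0, 8, 0], [8, 1, 7, 1, 7, 8, 6, 0, 6, 0], [4, 6, 8, 0, 4, 6, 8, 0, 4, 6, 8, 0, 4, 6, 8, 0, 4, 6, 8, 0], [0, 4, 7, 0, 6, 5, 0, 4, 7, 0, 6], [0, 10, 9, 0, 8, 11, 0, 10, 9, 0, 8]]]
noncomputable def cert : Cert := ⟨7, 122760, 1208137, tF, tJ, tD, rels, subs, tT, tPP, tNO, tTAB, rels2, tORB, tORK, tOPAR, tROOT⟩

end Cfsg.Agent.Lib.Helper28.ONData
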