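import Cfsg.Prelude.Def_Spor_ON
import Cfsg.Agent.Lib.Helper28.TCPresented
import Cfsg.Agent.Lib.Helper28.TCOrbit

set_option autoImplicit false
set_option linter.all false

namespace Cfsg.Agent.Lib.Helper28.ONGlueR

open Cfsg Cfsg.Spor Cfsg.Agent.Lib.Helper28

def genOf : Nat → ON.Gen
  | 0 => .g | 1 => .a | 2 => .b | 3 => .c | 4 => .d | 5 => .e | _ => .f

def idx : ON.Gen → Nat
  | .g => 0 | .a => 1 | .b => 2 | .c => 3 | .d => 4 | .e => 5 | .f => 6

/-- is the generator with this index a node of the graph -/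
def isNode : Nat → Bool := fun i => i == 1 || i == 2 || i == 3 || i == 4 || i == 5 || i == 6

def relsL : List (List Nat) := [[], [], [], [], [], [], [], [], [2, 2], [2, 4, 2, 4, 2, 4], [2, 6, 2, 6], [2, 8, 2, 8], [2, 10, 2, 10], [2, 12, 2, 12], [], [], [4, 4], [4, 6, 4, 6, 4, 6], [4, 8, 4, 8], [4, 10, 4, 10], [4, 12, 4, 12], [], [], [], [6, 6], [6, 8, 6, 8, 6, 8, 6, 8, 6, 8, 6, 8, 6, 8, 6, 8], [6, 10, 6, 10], [6, 12, 6, 12], [], [], [], [], [8, 8], [8, 10, 8, 10, 8, 10], [8, 12, 8, 12], [], [], [], [], [], [10, 10], [10, 12, 10, 12, 10, 12], [], [], [], [], [], [], [12, 12], [2, 12, 1, 1], [2, 12, 9, 7, 9, 7, 9, 7, 9, 7], [6, 1, 9, 1, 9, 6, 8, 0, 8, 0], [8, 1, 7, 1, 7, 8, 6, 0, 6, 0], [4, 6, 8, 0, 4, 6, 8, 0, 4, 6, 8, 0, 4, 6, 8, 0, 4, 6, 8, 0], [0, 4, 7, 0, 6, 5, 0, 4, 7, 0, 6], [0, 10, 9, 0, 8, 11, 0, 10, 9, 0, 8]]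

abbrev relSet : Set (FreeGroup ON.Gen) := coxRelators ON.edges ∪ {r | r ∈ ON.extra}

theorem hidx : ∀ x : ON.Gen, idx x < 7 ∧ genOf (idx x) = x := by
  intro x; cases x <;> exact ⟨by decide, rfl⟩

theorem hgi : ∀ i, i < 7 → idx (genOf i) = i := by
  intro i hi
  interval_cases i <;> rfl

theorem node_mem (x : ON.Gen) (h : isNode (idx x) = true) : x ∈ coxNodes ON.edges := by
  cases x <;> first | decide | exact absurd h (by decide)

theorem node_isNode (x : ON.Gen) (h : x ∈ coxNodes ON.edges) : isNode (idx x) = true := by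
  cases x <;> first | rfl | exact absurd h (by decide)

theorem cox_word (x y : ON.Gen) (hx : isNode (idx x) = true) (hy : isNode (idx y) = true)
    (h : idx x ≤ idx y) :
    (FreeGroup.of x * FreeGroup.of y) ^ coxLabel ON.edges x y
      = wordF genOf (relsL.getD (7 * idx x + idx y) []) := by
  cases x <;> cases y <;> first | rfl | exact absurd h (by decide) | exact absurd hx (by decide) | exact absurd hy (by decide)

theorem label_symm (x y : ON.Gen) : coxLabel ON.edges x y = coxLabel ON.edges y x := by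
  cases x <;> cases y <;> rfl

theorem idx_lt (x : ON.Gen) : idx x < 7 := (hidx x).1

set_option maxRecDepth 100000 in
theorem extra_word (j : Nat) (hj : j < 7) :
    ON.extra.getD j 1 = wordF genOf (relsL.getD (49 + j) []) := by
  interval_cases j <;> rfl

theorem rels_empty (j : Nat) (hj : j < 49)
    (h : ¬ (isNode (j / 7) = true ∧ isNode (j % 7) = true ∧ j / 7 ≤ j % 7)) :
    relsL.getD j [] = [] := by
  interval_cases j <;> first | rfl | exact absurd (by decide) h

theorem conj_pow_swap {G : Type*} [Group G] (a b : G) (m : ℕ) :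
    (a * b) ^ m = b⁻¹ * (b * a) ^ m * b := by
  have h : a * b = b⁻¹ * (b * a) * (b⁻¹)⁻¹ := by group
  rw [h, conj_pow, inv_inv]

theorem hrel1 : ∀ r ∈ relSet, ∃ w ∈ relsL, ∃ g : FreeGroup ON.Gen, r = g⁻¹ * wordF genOf w * g := by
  intro r hr
  rcases hr with ⟨x, hx, y, hy, rfl⟩ | hr
  · have hx' := node_isNode x hx
    have hy' := node_isNode y hy
    by_cases hxy : idx x ≤ idx y
    · refine ⟨relsL.getD (7 * idx x + idx y) [], ?_, 1, ?_⟩
      · apply getD_mem_of_lt
        have := idx_lt x; have := idx_lt y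
        show 7 * idx x + idx y < 56
        omega
      · rw [← cox_word x y hx' hy' hxy]; simp
    · refine ⟨relsL.getD (7 * idx y + idx x) [], ?_, FreeGroup.of y, ?_⟩
      · apply getD_mem_of_lt
        have := idx_lt x; have := idx_lt y
        show 7 * idx y + idx x < 56
        omega
      · rw [← cox_word y x hy' hx' (by omega), label_symm x y]
        exact conj_pow_swap _ _ _
  · have hr' : r ∈ ON.extra := hr
    obtain ⟨j, hj, rfl⟩ := List.mem_iff_getElem.mp hr'
    have hj' : j < 7 := hj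
    refine ⟨relsL.getD (49 + j) [], ?_, 1, ?_⟩
    · apply getD_mem_of_lt
      show 49 + j < 56
      omega
    · rw [← extra_word j hj', List.getD_eq_getElem _ _ hj]; simp

theorem hrel2 : ∀ w ∈ relsL, PresentedGroup.mk relSet (wordF genOf w) = 1 := by
  intro w hw
  obtain ⟨j, hj, rfl⟩ := List.mem_iff_getElem.mp hw
  have hj' : j < 56 := hj
  rw [← List.getD_eq_getElem relsL [] hj]
  by_cases hc : j < 49
  · by_cases hle : isNode (j / 7) = true ∧ isNode (j % 7) = true ∧ j / 7 ≤ j % 7
    · obtain ⟨hn1, hn2, hle'⟩ := hle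
      apply PresentedGroup.one_of_mem
      left
      have h1 := hgi (j / 7) (by omega)
      have h2 := hgi (j % 7) (Nat.mod_lt _ (by omega))
      refine ⟨genOf (j / 7), node_mem _ (by rw [h1]; exact hn1), genOf (j % 7), node_mem _ (by rw [h2]; exact hn2), ?_⟩
      rw [cox_word _ _ (by rw [h1]; exact hn1) (by rw [h2]; exact hn2) (by rw [h1, h2]; exact hle'), h1, h2]
      congr 2
      omega
    · rw [rels_empty j hc hle]
      simp [wordF, evw]
  · apply PresentedGroup.one_of_mem
    right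
    have h5 : j - 49 < 7 := by omega
    have := extra_word (j - 49) h5
    have hjj : 49 + (j - 49) = j := by omega
    rw [hjj] at this
    rw [← this, List.getD_eq_getElem _ _ (by exact h5)]
    exact List.getElem_mem _

end Cfsg.Agent.Lib.Helper28.ONGlueR
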