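import Cfsg.Agent.Lib.Helper28.ONOrderC

set_option autoImplicit false
set_option linter.all false

namespace Cfsg.Agent.Lib.Helper28.ONMax

open Cfsg Cfsg.Spor Cfsg.Agent.Lib.Helper28 Cfsg.Agent.Lib.Helper28.ONSub
open Cfsg.Agent.Lib.Helper28.ONOrderC Cfsg.Agent.Lib.Helper28.ONOrbChk

set_option maxRecDepth 100000

/-- the sizes of the five orbits of `⟨a, …, f⟩` on its 122760 cosets -/
def sz : ℕ → ℕ := fun j => [1, 58653, 52136, 5586, 6384].getD j 0

theorem arith : ∀ J ∈ (Finset.range 5).powerset, 0 ∈ J → (∑ j ∈ J, sz j) ∣ 122760 →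
    J = {0} ∨ J = Finset.range 5 := by decide

theorem cnt_all (j : ℕ) (hj : j < 5) : countLab cert.ORB j 122760 = sz j := by
  interval_cases j
  · exact cnt0
  · exact cnt1
  · exact cnt2
  · exact cnt3
  · exact cnt4

section WithSetup

variable {φ : G →* Equiv.Perm ℕ} (hS : Setup cert H gam φ)

include hS

theorem surj (x : G ⧸ H) : ∃ p, p < 122760 ∧ psi cert H gam p = x := by
  have h := image_univ cert H gam hS.facts hS.hpts hS.hglob hS.hgen
  have hx : x ∈ psi cert H gam '' {p | p < cert.n} := by rw [h]; trivial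
  obtain ⟨p, hp, rfl⟩ := hx
  exact ⟨p, hp, rfl⟩

theorem maximal (K : Subgroup G) (hK : H ≤ K) : K = H ∨ K = ⊤ := by
  haveI := hS.finite
  have hn : cert.n = 122760 := rfl
  choose pinv hpinv using surj hS
  have hpp : ∀ p, p < 122760 → pinv (psi cert H gam p) = p :=
    fun p hp => hS.psi_injOn (hpinv _).1 hp (hpinv _).2
  have hinvr : ∀ (g : G) (p : ℕ), p < 122760 → rN φ p g < 122760 :=
    fun g p hp => (rN_invariant cert gam φ hS.hφ hS.hpts hS.hgen g).1 p hp
  apply Cfsg.Agent.Lib.Helper76.SubOrbit.maximal_of_suborbits H 5 (fun x => cert.ORB (pinv x))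
    ?hlab ?hinv ?htrans sz ?hsz ?hbase rfl ?harith K hK
  case hlab =>
    intro x
    have := allRange_sound _ 0 122760 orb_lt (pinv x) (by omega) (by have := (hpinv x).1; omega)
    simpa [Nat.blt] using this
  case hinv =>
    intro h x
    show cert.ORB (pinv (h • x)) = cert.ORB (pinv x)
    obtain ⟨hp, hx⟩ := hpinv x
    have h1 := (hS.psi_equiv ((h : G)⁻¹)).1 (pinv x) hp
    have h2 : ract (psi cert H gam (pinv x)) ((h : G)⁻¹) = h • x := by
      unfold ract
      rw [inv_inv, hx]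
      rfl
    rw [h2] at h1
    rw [← h1, hpp _ (hinvr _ _ hp)]
    exact (hS.orb_pres ONData.orb_ok (h : G) (hS.hH h.2)).2 (pinv x) hp
  case htrans =>
    intro x y hxy
    have hxy' : cert.ORB (pinv x) = cert.ORB (pinv y) := hxy
    obtain ⟨hp, hx⟩ := hpinv x
    obtain ⟨hq, hy⟩ := hpinv y
    obtain ⟨h1, hh1, e1⟩ := hS.reach_root ONData.orb_ok _ (pinv x) rfl hp
    obtain ⟨h2, hh2, e2⟩ := hS.reach_root ONData.orb_ok _ (pinv y) rfl hq
    rw [← hxy'] at e2
    have e3 : rN φ (pinv x) h1⁻¹ = cert.ROOT (cert.ORB (pinv x)) := by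
      conv_lhs => rw [e1]
      exact rN_inv_cancel φ _ _
    have e4 : pinv y = rN φ (pinv x) (h1⁻¹ * h2) := by
      rw [rN_mul, e3]; exact e2
    have h5 := (hS.psi_equiv (h1⁻¹ * h2)).1 (pinv x) hp
    rw [← e4, hx, hy] at h5
    refine ⟨⟨(h1⁻¹ * h2)⁻¹, H.inv_mem (H.mul_mem (H.inv_mem hh1) hh2)⟩, ?_⟩
    rw [h5]
    rfl
  case hsz =>
    intro j hj
    have hset : {x : G ⧸ H | cert.ORB (pinv x) = j} = psi cert H gam '' Lab cert j := by
      ext x
      constructor
      · intro hx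
        exact ⟨pinv x, ⟨(hpinv x).1, hx⟩, (hpinv x).2⟩
      · rintro ⟨p, ⟨hp, hl⟩, rfl⟩
        show cert.ORB (pinv (psi cert H gam p)) = j
        rw [hpp p hp]; exact hl
    rw [hset, (hS.psi_injOn.mono (fun p hp => hp.1)).ncard_image, Lab_ncard, hn]
    exact cnt_all j hj
  case hbase =>
    show cert.ORB (pinv ((1 : G) : G ⧸ H)) = 0
    have h0 : ((1 : G) : G ⧸ H) = psi cert H gam 0 := (psi_zero cert H gam hS.hglob).symm
    rw [h0, hpp 0 (by decide)]
    exact root0.2
  case harith =>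
    intro J hJ h0 hdvd
    rw [hS.index_eq, hn] at hdvd
    exact arith J (Finset.mem_powerset.mpr hJ) h0 hdvd

end WithSetup

end Cfsg.Agent.Lib.Helper28.ONMax
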