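import Cfsg.Agent.Lib.Helper28.ONSub
import Cfsg.Agent.Lib.Helper28.ONWChk

set_option autoImplicit false
set_option linter.all false

namespace Cfsg.Agent.Lib.Helper28.ONOrderA

open Cfsg Cfsg.Spor Cfsg.Agent.Lib.Helper28 Cfsg.Agent.Lib.Helper28.ONSub

set_option maxRecDepth 100000

/-- relators of the Coxeter group `A₃ × A₂` on `a, b, c, e, f` (with `g = d = 1`) -/
noncomputable abbrev RW : List (List Nat) := ONWData.rels

theorem setupW : ∃ φ : PG RW →* Equiv.Perm ℕ,
    Setup ONWData.cert ((Subgroup.closure (∅ : Set (FreeGroup ON.Gen))).map (PresentedGroup.mk (wordsSet RW)))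
      (fun i => PresentedGroup.of (ONGlueR.genOf i)) φ :=
  setup_of RW ∅ ONWData.cert rfl rfl
    (by intro s hs; exact absurd hs (Set.notMem_empty s))
    (by
      intro w hw
      have h0 : ONWData.cert.subs = [] := rfl
      rw [h0] at hw
      exact absurd hw (List.not_mem_nil))
    ONWData.chkR2 ONWData.facts_ok ONWData.pts_ok ONWData.chkG

theorem cardW : Finite (PG RW) ∧ Nat.card (PG RW) = 144 := by
  obtain ⟨φ, hS⟩ := setupW
  have h1 := hS.index_eq
  rw [Subgroup.closure_empty, Subgroup.map_bot, Subgroup.index_bot] at h1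
  have h2 : ONWData.cert.n = 144 := rfl
  rw [h2] at h1
  exact ⟨Nat.finite_of_card_ne_zero (by rw [h1]; decide), h1⟩

end Cfsg.Agent.Lib.Helper28.ONOrderA
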