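import Cfsg.Agent.Lib.Helper28.ONOrderA
import Cfsg.Agent.Lib.Helper28.ON6Chk

set_option autoImplicit false
set_option linter.all false

namespace Cfsg.Agent.Lib.Helper28.ONOrderB

open Cfsg Cfsg.Spor Cfsg.Agent.Lib.Helper28 Cfsg.Agent.Lib.Helper28.ONSub
open Cfsg.Agent.Lib.Helper28.ONOrderA

set_option maxRecDepth 100000

/-- relators of the group `P6` on `a, …, f` (with `g = 1`): the Coxeter path and `a f = (c d)^4` -/
noncomputable abbrev R6 : List (List Nat) := ON6Data.rels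

abbrev S6 : Set (FreeGroup ON.Gen) := {ON.a, ON.b, ON.c, ON.e, ON.f}

theorem hsub1 : ∀ s ∈ S6, ∃ w ∈ ON6Data.cert.subs, s = wordF ONGlueR.genOf w := by
  intro s hs
  simp only [S6, Set.mem_insert_iff, Set.mem_singleton_iff] at hs
  rcases hs with rfl | rfl | rfl | rfl | rfl
  · exact ⟨[2], by decide, rfl⟩
  · exact ⟨[4], by decide, rfl⟩
  · exact ⟨[6], by decide, rfl⟩
  · exact ⟨[10], by decide, rfl⟩
  · exact ⟨[12], by decide, rfl⟩

theorem hsub2 : ∀ w ∈ ON6Data.cert.subs, wordF ONGlueR.genOf w ∈ S6 := by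
  intro w hw
  have hw' : w ∈ [[2], [4], [6], [10], [12]] := hw
  simp only [List.mem_cons, List.not_mem_nil, or_false] at hw'
  rcases hw' with rfl | rfl | rfl | rfl | rfl
  · exact Or.inl rfl
  · exact Or.inr (Or.inl rfl)
  · exact Or.inr (Or.inr (Or.inl rfl))
  · exact Or.inr (Or.inr (Or.inr (Or.inl rfl)))
  · exact Or.inr (Or.inr (Or.inr (Or.inr rfl)))

/-- the subgroup `⟨a, b, c, e, f⟩` of `P6` -/
noncomputable abbrev K6 : Subgroup (PG R6) :=
  (Subgroup.closure S6).map (PresentedGroup.mk (wordsSet R6))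

theorem setup6 : ∃ φ : PG R6 →* Equiv.Perm ℕ,
    Setup ON6Data.cert K6 (fun i => PresentedGroup.of (ONGlueR.genOf i)) φ :=
  setup_of R6 S6 ON6Data.cert rfl rfl hsub1 hsub2
    ON6Data.chkR2 ON6Data.facts_ok ON6Data.pts_ok ON6Data.chkG

/-- images of the generators of `W` in `P6` (`d` is sent to 1) -/
noncomputable def fW : ON.Gen → PG R6 := fun x => if x = ON.Gen.d then 1 else PresentedGroup.of x

theorem keyW : ∀ w ∈ RW, w = [8] ∨ (w ∈ R6 ∧ ∀ l ∈ w, l / 2 ≠ 4) := by decide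

theorem hW : ∀ w ∈ RW, evw (fun i => fW (ONGlueR.genOf i)) w = 1 := by
  intro w hw
  rcases keyW w hw with rfl | ⟨h6, hl⟩
  · simp [evw, letG, fW, ONGlueR.genOf]
  · rw [evw_congr _ (fun i => (PresentedGroup.of (ONGlueR.genOf i) : PG R6)) w]
    · exact rel_one R6 w h6
    · intro l hlw
      show fW _ = _
      unfold fW
      rw [if_neg (genOf_ne_d _ (hl l hlw))]

theorem hK6 : K6 ≤ Subgroup.closure (Set.range fW) := by
  show (Subgroup.closure S6).map (PresentedGroup.mk (wordsSet R6)) ≤ _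
  rw [MonoidHom.map_closure]
  apply Subgroup.closure_mono
  rintro _ ⟨s, hs, rfl⟩
  simp only [S6, Set.mem_insert_iff, Set.mem_singleton_iff] at hs
  rcases hs with rfl | rfl | rfl | rfl | rfl
  · exact ⟨ON.Gen.a, by unfold fW; rw [if_neg (by decide)]; rfl⟩
  · exact ⟨ON.Gen.b, by unfold fW; rw [if_neg (by decide)]; rfl⟩
  · exact ⟨ON.Gen.c, by unfold fW; rw [if_neg (by decide)]; rfl⟩
  · exact ⟨ON.Gen.e, by unfold fW; rw [if_neg (by decide)]; rfl⟩
  · exact ⟨ON.Gen.f, by unfold fW; rw [if_neg (by decide)]; rfl⟩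

theorem cardK6 : Finite K6 ∧ Nat.card K6 ≤ 144 := by
  haveI := cardW.1
  have h := card_le_of_lift RW fW hW K6 hK6
  rw [cardW.2] at h
  exact h

theorem card6 : Finite (PG R6) ∧ Nat.card (PG R6) ≤ 3753792 := by
  obtain ⟨φ, hS⟩ := setup6
  haveI := cardK6.1
  obtain ⟨hfin, hcard⟩ := card_of_setup hS
  refine ⟨hfin, ?_⟩
  have hn : ON6Data.cert.n = 26068 := rfl
  rw [hcard, hn]
  have := cardK6.2
  omega

end Cfsg.Agent.Lib.Helper28.ONOrderB
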