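import Cfsg.Agent.Lib.Helper28.ONOrderB
import Cfsg.Agent.Lib.Helper28.ONOrbChk
import Cfsg.Agent.Lib.Helper76.SubOrbit
import Cfsg.Agent.S1692

set_option autoImplicit false
set_option linter.all false

namespace Cfsg.Agent.Lib.Helper28.ONOrderC

open Cfsg Cfsg.Spor Cfsg.Agent.Lib.Helper28 Cfsg.Agent.Lib.Helper28.ONSub
open Cfsg.Agent.Lib.Helper28.ONOrderA Cfsg.Agent.Lib.Helper28.ONOrderB
open Cfsg.Agent.Lib.Helper28.ONOrbChk

set_option maxRecDepth 100000

/-- the presented O'Nan group -/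
abbrev G : Type := PresentedGroup ONGlueR.relSet

/-- the subgroup `⟨a, …, f⟩` -/
noncomputable abbrev H : Subgroup G :=
  (Subgroup.closure Cfsg.Agent.S1692.subS).map (PresentedGroup.mk ONGlueR.relSet)

noncomputable abbrev gam : ℕ → G := fun i => PresentedGroup.of (ONGlueR.genOf i)

noncomputable abbrev cert : Cert := ONData.cert

/-- images of the generators of `P6` in `G` (`g` is sent to 1) -/
noncomputable def f6 : ON.Gen → G := fun x => if x = ON.Gen.g then 1 else PresentedGroup.of x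

theorem key6 : ∀ w ∈ R6, w = [0] ∨ (w ∈ ONGlueR.relsL ∧ ∀ l ∈ w, l / 2 ≠ 0) := by decide

theorem h6 : ∀ w ∈ R6, evw (fun i => f6 (ONGlueR.genOf i)) w = 1 := by
  intro w hw
  rcases key6 w hw with rfl | ⟨hr, hl⟩
  · simp [evw, letG, f6, ONGlueR.genOf]
  · rw [evw_congr _ gam w]
    · rw [mk_wordF']
      exact ONGlueR.hrel2 w hr
    · intro l hlw
      show f6 _ = _
      unfold f6
      rw [if_neg (genOf_ne_g _ (hl l hlw))]

theorem hH6 : H ≤ Subgroup.closure (Set.range f6) := by
  show (Subgroup.closure Cfsg.Agent.S1692.subS).map (PresentedGroup.mk ONGlueR.relSet) ≤ _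
  rw [MonoidHom.map_closure]
  apply Subgroup.closure_mono
  rintro _ ⟨s, hs, rfl⟩
  simp only [Cfsg.Agent.S1692.subS, Set.mem_insert_iff, Set.mem_singleton_iff] at hs
  rcases hs with rfl | rfl | rfl | rfl | rfl | rfl
  · exact ⟨ON.Gen.a, by unfold f6; rw [if_neg (by decide)]; rfl⟩
  · exact ⟨ON.Gen.b, by unfold f6; rw [if_neg (by decide)]; rfl⟩
  · exact ⟨ON.Gen.c, by unfold f6; rw [if_neg (by decide)]; rfl⟩
  · exact ⟨ON.Gen.d, by unfold f6; rw [if_neg (by decide)]; rfl⟩
  · exact ⟨ON.Gen.e, by unfold f6; rw [if_neg (by decide)]; rfl⟩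
  · exact ⟨ON.Gen.f, by unfold f6; rw [if_neg (by decide)]; rfl⟩

theorem cardH_le : Finite H ∧ Nat.card H ≤ 3753792 := by
  haveI := card6.1
  have h := card_le_of_lift R6 f6 h6 H hH6
  exact ⟨h.1, h.2.trans card6.2⟩

theorem gam_mem (i : ℕ) (h1 : 1 ≤ i) (h2 : i ≤ 6) : gam i ∈ H := by
  have key : ∀ x : ON.Gen, x ≠ ON.Gen.g → (PresentedGroup.of x : G) ∈ H := by
    intro x hx
    apply Subgroup.mem_map_of_mem _ (Subgroup.subset_closure _)
    cases x <;> first | exact absurd rfl hx | simp [Cfsg.Agent.S1692.subS]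
  exact key _ (genOf_ne_g i (by omega))

theorem evw_mem (w : List ℕ) (hw : ∀ l ∈ w, 2 ≤ l ∧ l < 14) : evw gam w ∈ H := by
  induction w with
  | nil => exact H.one_mem
  | cons l w ih =>
    have hl := hw l (by simp)
    have h2 := ih (fun l' hl' => hw l' (by simp [hl']))
    simp only [evw]
    apply H.mul_mem _ h2
    unfold letG
    have hg := gam_mem (l / 2) (by omega) (by omega)
    cases Nat.beq (l % 2) 0
    · exact H.inv_mem hg
    · exact hg

/-- the list of 64 elements of the stabiliser of the point 1 -/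
noncomputable def L : List G := ws.map (fun w => (evw gam w)⁻¹)

theorem L_mem : ∀ g ∈ L, g ∈ H := by
  intro g hg
  obtain ⟨w, hw, rfl⟩ := List.mem_map.mp hg
  exact H.inv_mem (evw_mem w (ws_letters w hw))

theorem imgs_lt : ∀ x ∈ imgs, x < 122760 := by decide

theorem L_length : L.length = 64 := by
  unfold L
  rw [List.length_map, ws_length]

section WithSetup

variable {φ : G →* Equiv.Perm ℕ} (hS : Setup cert H gam φ)

include hS

theorem act_word (w : List ℕ) (hw : ∀ l ∈ w, 2 ≤ l ∧ l < 14) (p : ℕ) (hp : p < 122760) :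
    (evw gam w)⁻¹ • psi cert H gam p = psi cert H gam (walkT cert p w) ∧ walkT cert p w < 122760 := by
  have hk : cert.k = 7 := rfl
  have hlt : ∀ l ∈ w, l < 2 * cert.k := by
    intro l hl; rw [hk]; have := hw l hl; omega
  have h1 := rN_word cert gam φ hS.hφ hS.hpts w hlt p hp
  have h2 := (hS.psi_equiv (evw gam w)).1 p hp
  rw [h1.1] at h2
  exact ⟨h2.symm, h1.2⟩

theorem orbit1 : (MulAction.orbit H (psi cert H gam 1)).ncard = 58653 := by
  have h := hS.orbit_ncard ONData.orb_ok 1 (by decide) root1.1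
  rw [root1.2] at h
  rw [h]
  exact cnt1

theorem L_fix : ∀ g ∈ L, g • psi cert H gam 1 = psi cert H gam 1 := by
  intro g hg
  obtain ⟨w, hw, rfl⟩ := List.mem_map.mp hg
  rw [(act_word hS w (ws_letters w hw) 1 (by decide)).1]
  have := allList_sound _ _ ws_fix w hw
  rw [Nat.eq_of_beq_eq_true this]

theorem L_nodup : (L.map (fun g => g • psi cert H gam 95603)).Nodup := by
  have h1 : L.map (fun g => g • psi cert H gam 95603) = imgs.map (psi cert H gam) := by
    unfold L
    rw [List.map_map, ← eqList_eq _ _ ws_imgs, List.map_map]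
    apply List.map_congr_left
    intro w hw
    exact (act_word hS w (ws_letters w hw) 95603 (by decide)).1
  rw [h1]
  apply List.Nodup.map_on _ imgs_nodup
  intro x hx y hy hxy
  exact hS.psi_injOn (imgs_lt x hx) (imgs_lt y hy) hxy

theorem chain : Nat.card H = 3753792 ∧
    (∀ g ∈ H, g • psi cert H gam 1 = psi cert H gam 1 →
      g • psi cert H gam 95603 = psi cert H gam 95603 → g = 1) := by
  haveI := cardH_le.1
  have h := Cfsg.Agent.Lib.Helper76.SubOrbit.chain_bound H (psi cert H gam 1) (psi cert H gam 95603)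
    58653 (orbit1 hS) L L_mem (L_fix hS) (L_nodup hS)
  rw [L_length] at h
  have hle := cardH_le.2
  have heq : Nat.card H = 3753792 := by omega
  exact ⟨heq, h.2 (by omega)⟩

theorem cardG : Finite G ∧ Nat.card G = 460815505920 := by
  haveI := cardH_le.1
  obtain ⟨hfin, hcard⟩ := card_of_setup hS
  refine ⟨hfin, ?_⟩
  have hn : cert.n = 122760 := rfl
  rw [hcard, hn, (chain hS).1]

end WithSetup

end Cfsg.Agent.Lib.Helper28.ONOrderC
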