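import Cfsg.Agent.Lib.Helper28.ONMax
import Cfsg.Agent.Lib.Helper28.ONQChk

set_option autoImplicit false
set_option linter.all false

namespace Cfsg.Agent.Lib.Helper28.ONSimple

open Cfsg Cfsg.Spor Cfsg.Agent.Lib.Helper28 Cfsg.Agent.Lib.Helper28.ONSub
open Cfsg.Agent.Lib.Helper28.ONOrderC Cfsg.Agent.Lib.Helper28.ONOrbChk Cfsg.Agent.Lib.Helper28.ONMax

set_option maxRecDepth 100000

/-- relators of the O'Nan group together with the word `b c d g` -/
noncomputable abbrev RQ : List (List Nat) := ONQData.rels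

theorem setupQ : ∃ φ : PG RQ →* Equiv.Perm ℕ,
    Setup ONQData.cert ((Subgroup.closure (∅ : Set (FreeGroup ON.Gen))).map (PresentedGroup.mk (wordsSet RQ)))
      (fun i => PresentedGroup.of (ONGlueR.genOf i)) φ :=
  setup_of RQ ∅ ONQData.cert rfl rfl
    (by intro s hs; exact absurd hs (Set.notMem_empty s))
    (by
      intro w hw
      have h0 : ONQData.cert.subs = [] := rfl
      rw [h0] at hw
      exact absurd hw (List.not_mem_nil))
    ONQData.chkR2 ONQData.facts_ok ONQData.pts_ok ONQData.chkG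

theorem cardQ : Finite (PG RQ) ∧ Nat.card (PG RQ) = 1 := by
  obtain ⟨φ, hS⟩ := setupQ
  have h1 := hS.index_eq
  rw [Subgroup.closure_empty, Subgroup.map_bot, Subgroup.index_bot] at h1
  have h2 : ONQData.cert.n = 1 := rfl
  rw [h2] at h1
  exact ⟨Nat.finite_of_card_ne_zero (by rw [h1]; decide), h1⟩

theorem keyQ : ∀ w ∈ RQ, w = [4, 6, 8, 0] ∨ w ∈ ONGlueR.relsL := by decide

/-- the element `b c d g` -/
noncomputable def u : G := evw gam [4, 6, 8, 0]

theorem rel_G (w : List ℕ) (hw : w ∈ ONGlueR.relsL) : evw gam w = 1 := by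
  show evw (fun i => (PresentedGroup.of (ONGlueR.genOf i) : PresentedGroup ONGlueR.relSet)) w = 1
  rw [mk_wordF']
  exact ONGlueR.hrel2 w hw

theorem u_pow : u ^ 5 = 1 := by
  have h := rel_G [4, 6, 8, 0, 4, 6, 8, 0, 4, 6, 8, 0, 4, 6, 8, 0, 4, 6, 8, 0] (by decide)
  have e : evw gam [4, 6, 8, 0, 4, 6, 8, 0, 4, 6, 8, 0, 4, 6, 8, 0, 4, 6, 8, 0] = u ^ 5 := by
    have happ : ([4, 6, 8, 0, 4, 6, 8, 0, 4, 6, 8, 0, 4, 6, 8, 0, 4, 6, 8, 0] : List ℕ)
        = [4, 6, 8, 0] ++ ([4, 6, 8, 0] ++ ([4, 6, 8, 0] ++ ([4, 6, 8, 0] ++ [4, 6, 8, 0]))) := rfl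
    rw [happ, evw_append, evw_append, evw_append, evw_append]
    show u * (u * (u * (u * u))) = u ^ 5
    simp only [pow_succ, pow_zero, one_mul, mul_assoc]
  rw [← e]; exact h

/-- a normal subgroup containing `b c d g` is everything -/
theorem top_of_u_mem [Finite G] (N : Subgroup G) [hN : N.Normal] (hu : u ∈ N) : N = ⊤ := by
  let fQ : ON.Gen → G ⧸ N := fun x => QuotientGroup.mk' N (PresentedGroup.of x)
  have hfun : (fun i => fQ (ONGlueR.genOf i)) = fun i => QuotientGroup.mk' N (gam i) := rfl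
  have hQ : ∀ w ∈ RQ, evw (fun i => fQ (ONGlueR.genOf i)) w = 1 := by
    intro w hw
    rw [hfun, ← map_evw]
    rcases keyQ w hw with rfl | hr
    · exact (QuotientGroup.eq_one_iff _).mpr hu
    · rw [rel_G w hr, map_one]
  haveI := cardQ.1
  have htop : (⊤ : Subgroup (G ⧸ N)) ≤ Subgroup.closure (Set.range fQ) := by
    have h1 : Set.range fQ = QuotientGroup.mk' N '' Set.range (PresentedGroup.of (rels := ONGlueR.relSet)) := by
      ext y
      constructor
      · rintro ⟨x, rfl⟩
        exact ⟨_, ⟨x, rfl⟩, rfl⟩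
      · rintro ⟨_, ⟨x, rfl⟩, rfl⟩
        exact ⟨x, rfl⟩
    rw [h1, ← MonoidHom.map_closure, PresentedGroup.closure_range_of, ← MonoidHom.range_eq_map,
      MonoidHom.range_eq_top.mpr (QuotientGroup.mk'_surjective N)]
  have h := (card_le_of_lift RQ fQ hQ ⊤ htop).2
  rw [cardQ.2, Subgroup.card_top] at h
  have hidx : N.index = Nat.card (G ⧸ N) := Subgroup.index_eq_card N
  have hpos : 0 < Nat.card (G ⧸ N) := Nat.card_pos
  exact Subgroup.index_eq_one.mp (by omega)

section WithSetup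

variable {φ : G →* Equiv.Perm ℕ} (hS : Setup cert H gam φ)

include hS

/-- a normal subgroup contained in `⟨a, …, f⟩` is trivial -/
theorem bot_of_le (N : Subgroup G) [hN : N.Normal] (hle : N ≤ H) : N = ⊥ := by
  rw [eq_bot_iff]
  intro n hn
  have hfix : ∀ x : G ⧸ H, n • x = x := by
    intro x
    induction x using QuotientGroup.induction_on with
    | H g =>
      show ((n * g : G) : G ⧸ H) = (g : G ⧸ H)
      rw [QuotientGroup.eq]
      apply hle
      have := hN.conj_mem n⁻¹ (N.inv_mem hn) g⁻¹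
      simpa [mul_assoc] using this
  exact (chain hS).2 n (hle hn) (hfix _) (hfix _)

theorem simple : IsSimpleGroup G := by
  obtain ⟨hfin, hcard⟩ := cardG hS
  haveI := hfin
  have hnt : Nontrivial G := Finite.one_lt_card_iff_nontrivial.mp (by rw [hcard]; decide)
  refine { toNontrivial := hnt, eq_bot_or_eq_top_of_normal := ?_ }
  intro N hN
  rcases maximal hS (N ⊔ H) le_sup_right with hK | hK
  · left
    exact bot_of_le hS N (by rw [← hK]; exact le_sup_left)
  · right
    apply top_of_u_mem N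
    -- the quotient G ⧸ N is an image of H
    have hsurj : Function.Surjective ((QuotientGroup.mk' N).comp H.subtype) := by
      intro y
      obtain ⟨g, rfl⟩ := QuotientGroup.mk'_surjective N y
      have hg : g ∈ N ⊔ H := by rw [hK]; trivial
      have hg' : g ∈ (↑(N ⊔ H) : Set G) := hg
      rw [Subgroup.normal_mul] at hg'
      obtain ⟨n, hn, h, hh, rfl⟩ := Set.mem_mul.mp hg'
      refine ⟨⟨h, hh⟩, ?_⟩
      show (QuotientGroup.mk' N) h = (QuotientGroup.mk' N) (n * h)
      have hn1 : (QuotientGroup.mk' N) n = 1 := (QuotientGroup.eq_one_iff n).mpr hn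
      rw [map_mul, hn1, one_mul]
    have hdvd : Nat.card (G ⧸ N) ∣ Nat.card H := Subgroup.card_dvd_of_surjective _ hsurj
    rw [(chain hS).1] at hdvd
    have ho1 : orderOf (QuotientGroup.mk' N u) ∣ 5 := by
      apply orderOf_dvd_of_pow_eq_one
      rw [← map_pow, u_pow, map_one]
    have ho2 : orderOf (QuotientGroup.mk' N u) ∣ 3753792 :=
      (orderOf_dvd_natCard _).trans hdvd
    have ho3 : orderOf (QuotientGroup.mk' N u) ∣ Nat.gcd 5 3753792 := Nat.dvd_gcd ho1 ho2
    have hg : Nat.gcd 5 3753792 = 1 := by decide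
    rw [hg, Nat.dvd_one, orderOf_eq_one_iff] at ho3
    exact (QuotientGroup.eq_one_iff u).mp ho3

end WithSetup

end Cfsg.Agent.Lib.Helper28.ONSimple
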