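import Cfsg.Prelude.Def_Spor_ON
import Cfsg.Agent.Lib.Helper28.TCPresented
import Cfsg.Agent.Lib.Helper28.TCOrbit
import Cfsg.Agent.Lib.Helper28.ONGlueR

set_option autoImplicit false
set_option linter.all false

namespace Cfsg.Agent.Lib.Helper28.ONSub

open Cfsg Cfsg.Spor Cfsg.Agent.Lib.Helper28

/-- the set of relators given by a list of words in the seven generators -/
def wordsSet (R : List (List Nat)) : Set (FreeGroup ON.Gen) :=
  {r | ∃ w ∈ R, r = wordF ONGlueR.genOf w}

/-- the group presented by a list of relator words -/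
abbrev PG (R : List (List Nat)) : Type := PresentedGroup (wordsSet R)

theorem evw_congr {K : Type*} [Group K] (g1 g2 : ℕ → K) (w : List ℕ)
    (h : ∀ l ∈ w, g1 (l / 2) = g2 (l / 2)) : evw g1 w = evw g2 w := by
  induction w with
  | nil => rfl
  | cons l w ih =>
    have h1 := h l (by simp)
    have h2 := ih (fun l' hl' => h l' (by simp [hl']))
    simp only [evw, h2]
    congr 1
    unfold letG
    rw [h1]

/-- homomorphism out of `PG R` given images of the generators satisfying the relator words -/
noncomputable def liftP (R : List (List Nat)) {K : Type*} [Group K] (f : ON.Gen → K)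
    (h : ∀ w ∈ R, evw (fun i => f (ONGlueR.genOf i)) w = 1) : PG R →* K :=
  PresentedGroup.toGroup (f := f) (by
    rintro r ⟨w, hw, rfl⟩
    unfold wordF
    rw [map_evw]
    simpa using h w hw)

theorem liftP_of (R : List (List Nat)) {K : Type*} [Group K] (f : ON.Gen → K)
    (h : ∀ w ∈ R, evw (fun i => f (ONGlueR.genOf i)) w = 1) (x : ON.Gen) :
    liftP R f h (PresentedGroup.of x) = f x :=
  PresentedGroup.toGroup.of _

theorem liftP_range (R : List (List Nat)) {K : Type*} [Group K] (f : ON.Gen → K)
    (h : ∀ w ∈ R, evw (fun i => f (ONGlueR.genOf i)) w = 1) :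
    (liftP R f h).range = Subgroup.closure (Set.range f) := by
  rw [MonoidHom.range_eq_map, ← PresentedGroup.closure_range_of, MonoidHom.map_closure]
  congr 1
  ext y
  constructor
  · rintro ⟨_, ⟨x, rfl⟩, rfl⟩
    exact ⟨x, (liftP_of R f h x).symm⟩
  · rintro ⟨x, rfl⟩
    exact ⟨_, ⟨x, rfl⟩, liftP_of R f h x⟩

/-- a subgroup generated by images of the generators is no larger than the presented group -/
theorem card_le_of_lift (R : List (List Nat)) [Finite (PG R)] {K : Type*} [Group K] (f : ON.Gen → K)
    (h : ∀ w ∈ R, evw (fun i => f (ONGlueR.genOf i)) w = 1) (H : Subgroup K)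
    (hH : H ≤ Subgroup.closure (Set.range f)) : Finite H ∧ Nat.card H ≤ Nat.card (PG R) := by
  have hfin : Finite (liftP R f h).range := by
    have : Finite (Set.range (liftP R f h)) := Set.finite_range _
    exact this
  rw [← liftP_range R f h] at hH
  have hfH : Finite H := Finite.of_injective (Subgroup.inclusion hH) (Subgroup.inclusion_injective hH)
  refine ⟨hfH, ?_⟩
  calc Nat.card H ≤ Nat.card (liftP R f h).range := Subgroup.card_le_of_le hH
    _ ≤ Nat.card (PG R) :=
      Nat.card_le_card_of_surjective (liftP R f h).rangeRestrict (liftP R f h).rangeRestrict_surjective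

/-- the coset enumeration set-up of a presented group `PG R` -/
theorem setup_of (R : List (List Nat)) (S : Set (FreeGroup ON.Gen)) (C : Cert)
    (hk : C.k = 7) (hrels : C.rels = R)
    (hsub1 : ∀ s ∈ S, ∃ w ∈ C.subs, s = wordF ONGlueR.genOf w)
    (hsub2 : ∀ w ∈ C.subs, wordF ONGlueR.genOf w ∈ S)
    (hr2 : checkRels2 C = true)
    (hfacts : ∀ i, i < C.nF → checkFact C i = true)
    (hpts : ∀ p, p < C.n → checkPoint C p = true)
    (hglob : checkGlobal C = true) :
    ∃ φ : PG R →* Equiv.Perm ℕ,
      Setup C ((Subgroup.closure S).map (PresentedGroup.mk (wordsSet R)))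
        (fun i => PresentedGroup.of (ONGlueR.genOf i)) φ := by
  apply presented_setup (wordsSet R) S C ONGlueR.genOf ONGlueR.idx
    (by rw [hk]; exact ONGlueR.hidx) (by rw [hk]; exact ONGlueR.hgi)
    (by
      rintro r ⟨w, hw, rfl⟩
      exact ⟨w, by rw [hrels]; exact hw, rfl⟩)
    (by
      intro w hw
      exact ⟨w, by rw [← hrels]; exact hw, rfl⟩)
    hsub1 hsub2 hr2 hfacts hpts hglob

/-- if `H` is finite of the enumerated index then the whole group is finite, of order `n * |H|` -/
theorem card_of_setup {C : Cert} {G : Type*} [Group G] {H : Subgroup G} {gam : ℕ → G}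
    {φ : G →* Equiv.Perm ℕ} (S : Setup C H gam φ) [Finite H] :
    Finite G ∧ Nat.card G = C.n * Nat.card H := by
  have hidx := S.index_eq
  have hn : 0 < C.n := by
    have hglob := S.hglob
    simp only [checkGlobal, Bool.and_eq_true] at hglob
    have := hglob.2.1
    simp [Nat.blt] at this
    omega
  have hcard : Nat.card H * H.index = Nat.card G := Subgroup.card_mul_index H
  have hpos : 0 < Nat.card H := Nat.card_pos
  have hne : Nat.card G ≠ 0 := by
    rw [← hcard, hidx]
    exact Nat.mul_ne_zero (by omega) (by omega)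
  refine ⟨Nat.finite_of_card_ne_zero hne, ?_⟩
  rw [← hcard, hidx, Nat.mul_comm]

theorem mk_wordF (R : List (List Nat)) (w : List Nat) :
    evw (fun i => (PresentedGroup.of (ONGlueR.genOf i) : PG R)) w
      = PresentedGroup.mk (wordsSet R) (wordF ONGlueR.genOf w) := by
  unfold wordF
  rw [map_evw]
  rfl

theorem rel_one (R : List (List Nat)) (w : List Nat) (hw : w ∈ R) :
    evw (fun i => (PresentedGroup.of (ONGlueR.genOf i) : PG R)) w = 1 := by
  rw [mk_wordF]
  exact PresentedGroup.one_of_mem ⟨w, hw, rfl⟩

theorem mk_wordF' (rels : Set (FreeGroup ON.Gen)) (w : List Nat) :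
    evw (fun i => (PresentedGroup.of (ONGlueR.genOf i) : PresentedGroup rels)) w
      = PresentedGroup.mk rels (wordF ONGlueR.genOf w) := by
  unfold wordF
  rw [map_evw]
  rfl

theorem genOf_ne_g (i : ℕ) (hi : i ≠ 0) : ONGlueR.genOf i ≠ ON.Gen.g := by
  rcases i with _ | _ | _ | _ | _ | _ | _ | i <;> simp [ONGlueR.genOf] at *

theorem genOf_ne_d (i : ℕ) (hi : i ≠ 4) : ONGlueR.genOf i ≠ ON.Gen.d := by
  rcases i with _ | _ | _ | _ | _ | _ | _ | i <;> simp [ONGlueR.genOf] at *

end Cfsg.Agent.Lib.Helper28.ONSub
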