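import Cfsg.Agent.Lib.Helper28.TCDefs
import Cfsg.Agent.Lib.Helper28.ONWDataP0

set_option autoImplicit false
set_option maxRecDepth 100000
set_option linter.all false

namespace Cfsg.Agent.Lib.Helper28.ONWData

open Cfsg.Agent.Lib.Helper28

noncomputable def tF (i : Nat) : Nat := Nat.land (Nat.shiftRight tF_L0 (Nat.mul (nat_lit 44) i)) (nat_lit 17592186044415)
noncomputable def tD (i : Nat) : Nat := Nat.land (Nat.shiftRight tD_L0 (Nat.mul (nat_lit 24) i)) (nat_lit 16777215)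
noncomputable def tT (i : Nat) : Nat := Nat.land (Nat.shiftRight tT_L0 (Nat.mul (nat_lit 8) i)) (nat_lit 255)
noncomputable def tPP (i : Nat) : Nat := Nat.land (Nat.shiftRight tPP_L0 (Nat.mul (nat_lit 11) i)) (nat_lit 2047)
noncomputable def tNO (i : Nat) : Nat := Nat.land (Nat.shiftRight tNO_L0 (Nat.mul (nat_lit 9) i)) (nat_lit 511)
noncomputable def tTAB (i : Nat) : Nat := Nat.land (Nat.shiftRight tTAB_L0 (Nat.mul (nat_lit 11) i)) (nat_lit 2047)
noncomputable def tORB (i : Nat) : Nat := Nat.land (Nat.shiftRight tORB_L0 (Nat.mul (nat_lit 8) i)) (nat_lit 255)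
noncomputable def tORK (i : Nat) : Nat := Nat.land (Nat.shiftRight tORK_L0 (Nat.mul (nat_lit 1) i)) (nat_lit 1)
noncomputable def tOPAR (i : Nat) : Nat := Nat.land (Nat.shiftRight tOPAR_L0 (Nat.mul (nat_lit 1) i)) (nat_lit 1)
noncomputable def tROOT (i : Nat) : Nat := Nat.land (Nat.shiftRight tROOT_L0 (Nat.mul (nat_lit 8) i)) (nat_lit 255)
noncomputable def tJ_O (i : Nat) : Nat := Nat.land (Nat.shiftRight tJ_O_L0 (Nat.mul (nat_lit 17) i)) (nat_lit 131071)
noncomputable def tJ (i : Nat) : Nat := Nat.land (Nat.shiftRight tJ_P0 (tJ_O i)) (nat_lit 46768052394588893382517914646921056628989841375231)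

noncomputable def rels : List (List Nat) := [[2, 2], [2, 4, 2, 4, 2, 4], [2, 6, 2, 6], [2, 10, 2, 10], [2, 12, 2, 12], [4, 4], [4, 6, 4, 6, 4, 6], [4, 10, 4, 10], [4, 12, 4, 12], [6, 6], [6, 10, 6, 10], [6, 12, 6, 12], [10, 10], [10, 12, 10, 12, 10, 12], [12, 12], [0], [8]]
noncomputable def subs : List (List Nat) := []
noncomputable def rels2 : List (List (List Nat)) := [[[2, 2], [2, 4, 2, 4, 2, 4], [2, 6, 2, 6], [2, 10, 2, 10], [2, 12, 2, 12], [4, 4], [4, 6, 4, 6, 4, 6], [4, 10, 4, 10]], [[4, 12, 4, 12], [6, 6], [6, 10, 6, 10], [6, 12, 6, 12], [10, 10], [10, 12, 10, 12, 10, 12], [12, 12], [0]], [[8]]]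
noncomputable def cert : Cert := ⟨7, 144, 1584, tF, tJ, tD, rels, subs, tT, tPP, tNO, tTAB, rels2, tORB, tORK, tOPAR, tROOT⟩

end Cfsg.Agent.Lib.Helper28.ONWData
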