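import Cfsg.Agent.Lib.Helper28.TCPresented
import Cfsg.Agent.Lib.Helper28.TCOrbit

set_option autoImplicit false
set_option linter.all false

/-! Generic tools for groups presented by lists of relator words over a generator type `α`
(with an enumeration `genOf : ℕ → α`). -/

namespace Cfsg.Agent.Lib.Helper28.PGen

open Cfsg.Agent.Lib.Helper28

variable {α : Type*} (genOf : ℕ → α)

/-- the set of relators given by a list of words -/
def wordsSet (R : List (List Nat)) : Set (FreeGroup α) :=
  {r | ∃ w ∈ R, r = wordF genOf w}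

/-- the group presented by a list of relator words -/
abbrev PG (R : List (List Nat)) : Type _ := PresentedGroup (wordsSet genOf R)

theorem evw_congr' {K : Type*} [Group K] (g1 g2 : ℕ → K) (w : List ℕ)
    (h : ∀ l ∈ w, g1 (l / 2) = g2 (l / 2)) : evw g1 w = evw g2 w := by
  induction w with
  | nil => rfl
  | cons l w ih =>
    have h1 := h l (by simp)
    have h2 := ih (fun l' hl' => h l' (by simp [hl']))
    simp only [evw, h2]
    congr 1
    unfold letG
    rw [h1]

/-- homomorphism out of `PG R` given images of the generators satisfying the relator words -/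
noncomputable def liftP (R : List (List Nat)) {K : Type*} [Group K] (f : α → K)
    (h : ∀ w ∈ R, evw (fun i => f (genOf i)) w = 1) : PG genOf R →* K :=
  PresentedGroup.toGroup (f := f) (by
    rintro r ⟨w, hw, rfl⟩
    unfold wordF
    rw [map_evw]
    simpa using h w hw)

theorem liftP_of (R : List (List Nat)) {K : Type*} [Group K] (f : α → K)
    (h : ∀ w ∈ R, evw (fun i => f (genOf i)) w = 1) (x : α) :
    liftP genOf R f h (PresentedGroup.of x) = f x :=
  PresentedGroup.toGroup.of _

theorem liftP_range (R : List (List Nat)) {K : Type*} [Group K] (f : α → K)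
    (h : ∀ w ∈ R, evw (fun i => f (genOf i)) w = 1) :
    (liftP genOf R f h).range = Subgroup.closure (Set.range f) := by
  rw [MonoidHom.range_eq_map, ← PresentedGroup.closure_range_of, MonoidHom.map_closure]
  congr 1
  ext y
  constructor
  · rintro ⟨_, ⟨x, rfl⟩, rfl⟩
    exact ⟨x, (liftP_of genOf R f h x).symm⟩
  · rintro ⟨x, rfl⟩
    exact ⟨_, ⟨x, rfl⟩, liftP_of genOf R f h x⟩

/-- a subgroup generated by images of the generators is no larger than the presented group -/
theorem card_le_of_lift (R : List (List Nat)) [Finite (PG genOf R)] {K : Type*} [Group K] (f : α → K)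
    (h : ∀ w ∈ R, evw (fun i => f (genOf i)) w = 1) (H : Subgroup K)
    (hH : H ≤ Subgroup.closure (Set.range f)) : Finite H ∧ Nat.card H ≤ Nat.card (PG genOf R) := by
  have hfin : Finite (liftP genOf R f h).range := by
    have : Finite (Set.range (liftP genOf R f h)) := Set.finite_range _
    exact this
  rw [← liftP_range genOf R f h] at hH
  have hfH : Finite H := Finite.of_injective (Subgroup.inclusion hH) (Subgroup.inclusion_injective hH)
  refine ⟨hfH, ?_⟩
  calc Nat.card H ≤ Nat.card (liftP genOf R f h).range := Subgroup.card_le_of_le hH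
    _ ≤ Nat.card (PG genOf R) :=
      Nat.card_le_card_of_surjective (liftP genOf R f h).rangeRestrict
        (liftP genOf R f h).rangeRestrict_surjective

/-- the coset enumeration set-up of a presented group `PG R` -/
theorem setup_of (idx : α → ℕ) (R : List (List Nat)) (S : Set (FreeGroup α)) (C : Cert)
    (hidx : ∀ a, idx a < C.k ∧ genOf (idx a) = a) (hgi : ∀ i, i < C.k → idx (genOf i) = i)
    (hrels : C.rels = R)
    (hsub1 : ∀ s ∈ S, ∃ w ∈ C.subs, s = wordF genOf w)
    (hsub2 : ∀ w ∈ C.subs, wordF genOf w ∈ S)
    (hr2 : checkRels2 C = true)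
    (hfacts : ∀ i, i < C.nF → checkFact C i = true)
    (hpts : ∀ p, p < C.n → checkPoint C p = true)
    (hglob : checkGlobal C = true) :
    ∃ φ : PG genOf R →* Equiv.Perm ℕ,
      Setup C ((Subgroup.closure S).map (PresentedGroup.mk (wordsSet genOf R)))
        (fun i => PresentedGroup.of (genOf i)) φ := by
  apply presented_setup (wordsSet genOf R) S C genOf idx hidx hgi
    (by
      rintro r ⟨w, hw, rfl⟩
      exact ⟨w, by rw [hrels]; exact hw, rfl⟩)
    (by
      intro w hw
      exact ⟨w, by rw [← hrels]; exact hw, rfl⟩)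
    hsub1 hsub2 hr2 hfacts hpts hglob

/-- a presented group whose enumeration over the trivial subgroup closes has that order -/
theorem card_of_trivial (idx : α → ℕ) (R : List (List Nat)) (C : Cert)
    (hidx : ∀ a, idx a < C.k ∧ genOf (idx a) = a) (hgi : ∀ i, i < C.k → idx (genOf i) = i)
    (hrels : C.rels = R) (hsubs : C.subs = [])
    (hr2 : checkRels2 C = true)
    (hfacts : ∀ i, i < C.nF → checkFact C i = true)
    (hpts : ∀ p, p < C.n → checkPoint C p = true)
    (hglob : checkGlobal C = true) :
    Finite (PG genOf R) ∧ Nat.card (PG genOf R) = C.n := by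
  obtain ⟨φ, hS⟩ := setup_of genOf idx R ∅ C hidx hgi hrels
    (by intro s hs; exact absurd hs (Set.notMem_empty s))
    (by intro w hw; rw [hsubs] at hw; exact absurd hw (List.not_mem_nil))
    hr2 hfacts hpts hglob
  have h1 := hS.index_eq
  rw [Subgroup.closure_empty, Subgroup.map_bot, Subgroup.index_bot] at h1
  have hn : 0 < C.n := by
    simp only [checkGlobal, Bool.and_eq_true] at hglob
    have := hglob.2.1
    simp [Nat.blt] at this
    omega
  exact ⟨Nat.finite_of_card_ne_zero (by rw [h1]; omega), h1⟩

/-- if `H` is finite of the enumerated index then the whole group is finite, of order `n * |H|` -/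
theorem card_of_setup' {C : Cert} {G : Type*} [Group G] {H : Subgroup G} {gam : ℕ → G}
    {φ : G →* Equiv.Perm ℕ} (S : Setup C H gam φ) [Finite H] :
    Finite G ∧ Nat.card G = C.n * Nat.card H := by
  have hidx := S.index_eq
  have hn : 0 < C.n := by
    have hglob := S.hglob
    simp only [checkGlobal, Bool.and_eq_true] at hglob
    have := hglob.2.1
    simp [Nat.blt] at this
    omega
  have hcard : Nat.card H * H.index = Nat.card G := Subgroup.card_mul_index H
  have hpos : 0 < Nat.card H := Nat.card_pos
  have hne : Nat.card G ≠ 0 := by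
    rw [← hcard, hidx]
    exact Nat.mul_ne_zero (by omega) (by omega)
  refine ⟨Nat.finite_of_card_ne_zero hne, ?_⟩
  rw [← hcard, hidx, Nat.mul_comm]

theorem mk_wordF (R : List (List Nat)) (w : List Nat) :
    evw (fun i => (PresentedGroup.of (genOf i) : PG genOf R)) w
      = PresentedGroup.mk (wordsSet genOf R) (wordF genOf w) := by
  unfold wordF
  rw [map_evw]
  rfl

theorem rel_one (R : List (List Nat)) (w : List Nat) (hw : w ∈ R) :
    evw (fun i => (PresentedGroup.of (genOf i) : PG genOf R)) w = 1 := by
  rw [mk_wordF]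
  exact PresentedGroup.one_of_mem ⟨w, hw, rfl⟩

theorem mk_wordF' (rels : Set (FreeGroup α)) (w : List Nat) :
    evw (fun i => (PresentedGroup.of (genOf i) : PresentedGroup rels)) w
      = PresentedGroup.mk rels (wordF genOf w) := by
  unfold wordF
  rw [map_evw]
  rfl

/-- a normal subgroup of a presented group `G = ⟨α | rels⟩` that contains the element `evw gam wu` is
everything, provided the presentation with the extra relator `wu` collapses to the trivial group -/
theorem top_of_collapse (rels : Set (FreeGroup α)) [Finite (PresentedGroup rels)]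
    (RL : List (List Nat)) (hRL : ∀ w ∈ RL, PresentedGroup.mk rels (wordF genOf w) = 1)
    (wu : List Nat) (RQ : List (List Nat)) (hkey : ∀ w ∈ RQ, w = wu ∨ w ∈ RL)
    (hQ : Finite (PG genOf RQ) ∧ Nat.card (PG genOf RQ) = 1)
    (N : Subgroup (PresentedGroup rels)) [hN : N.Normal]
    (hu : evw (fun i => (PresentedGroup.of (genOf i) : PresentedGroup rels)) wu ∈ N) : N = ⊤ := by
  let fQ : α → PresentedGroup rels ⧸ N := fun x => QuotientGroup.mk' N (PresentedGroup.of x)
  have hfun : (fun i => fQ (genOf i)) =
      fun i => QuotientGroup.mk' N ((PresentedGroup.of (genOf i) : PresentedGroup rels)) := rfl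
  have hQr : ∀ w ∈ RQ, evw (fun i => fQ (genOf i)) w = 1 := by
    intro w hw
    rw [hfun, ← map_evw]
    rcases hkey w hw with rfl | hr
    · exact (QuotientGroup.eq_one_iff _).mpr hu
    · rw [mk_wordF', hRL w hr, map_one]
  haveI := hQ.1
  have htop : (⊤ : Subgroup (PresentedGroup rels ⧸ N)) ≤ Subgroup.closure (Set.range fQ) := by
    have h1 : Set.range fQ = QuotientGroup.mk' N '' Set.range (PresentedGroup.of (rels := rels)) := by
      ext y
      constructor
      · rintro ⟨x, rfl⟩
        exact ⟨_, ⟨x, rfl⟩, rfl⟩
      · rintro ⟨_, ⟨x, rfl⟩, rfl⟩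
        exact ⟨x, rfl⟩
    rw [h1, ← MonoidHom.map_closure, PresentedGroup.closure_range_of, ← MonoidHom.range_eq_map,
      MonoidHom.range_eq_top.mpr (QuotientGroup.mk'_surjective N)]
  have h := (card_le_of_lift genOf RQ fQ hQr ⊤ htop).2
  rw [hQ.2, Subgroup.card_top] at h
  have hidx : N.index = Nat.card (PresentedGroup rels ⧸ N) := Subgroup.index_eq_card N
  have hpos : 0 < Nat.card (PresentedGroup rels ⧸ N) := Nat.card_pos
  exact Subgroup.index_eq_one.mp (by omega)

/-- a normal subgroup contained in `H` acts trivially on `G ⧸ H` -/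
theorem normal_le_fix {G : Type*} [Group G] (H N : Subgroup G) [hN : N.Normal] (hle : N ≤ H)
    (n : G) (hn : n ∈ N) (x : G ⧸ H) : n • x = x := by
  induction x using QuotientGroup.induction_on with
  | H g =>
    show ((n * g : G) : G ⧸ H) = (g : G ⧸ H)
    rw [QuotientGroup.eq]
    apply hle
    have := hN.conj_mem n⁻¹ (N.inv_mem hn) g⁻¹
    simpa [mul_assoc] using this

/-- simplicity from: a maximal subgroup `H` with trivial core, an element `u` of prime order `p`
not dividing `|H|`, whose normal closure is everything -/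
theorem simple_of_data {G : Type*} [Group G] [Finite G] (hnt : Nontrivial G) (H : Subgroup G)
    (hmax : ∀ K : Subgroup G, H ≤ K → K = H ∨ K = ⊤)
    (hcore : ∀ N : Subgroup G, N.Normal → N ≤ H → N = ⊥)
    (u : G) (p : ℕ) (hup : u ^ p = 1) (hcop : Nat.gcd p (Nat.card H) = 1)
    (hu : ∀ N : Subgroup G, N.Normal → u ∈ N → N = ⊤) : IsSimpleGroup G := by
  refine { toNontrivial := hnt, eq_bot_or_eq_top_of_normal := ?_ }
  intro N hN
  rcases hmax (N ⊔ H) le_sup_right with hK | hK
  · left
    exact hcore N hN (by rw [← hK]; exact le_sup_left)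
  · right
    apply hu N hN
    have hsurj : Function.Surjective ((QuotientGroup.mk' N).comp H.subtype) := by
      intro y
      obtain ⟨g, rfl⟩ := QuotientGroup.mk'_surjective N y
      have hg : g ∈ N ⊔ H := by rw [hK]; trivial
      have hg' : g ∈ (↑(N ⊔ H) : Set G) := hg
      rw [Subgroup.normal_mul] at hg'
      obtain ⟨n, hn, h, hh, rfl⟩ := Set.mem_mul.mp hg'
      refine ⟨⟨h, hh⟩, ?_⟩
      show (QuotientGroup.mk' N) h = (QuotientGroup.mk' N) (n * h)
      have hn1 : (QuotientGroup.mk' N) n = 1 := (QuotientGroup.eq_one_iff n).mpr hn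
      rw [map_mul, hn1, one_mul]
    have hdvd : Nat.card (G ⧸ N) ∣ Nat.card H := Subgroup.card_dvd_of_surjective _ hsurj
    have ho1 : orderOf (QuotientGroup.mk' N u) ∣ p := by
      apply orderOf_dvd_of_pow_eq_one
      rw [← map_pow, hup, map_one]
    have ho2 : orderOf (QuotientGroup.mk' N u) ∣ Nat.card H :=
      (orderOf_dvd_natCard _).trans hdvd
    have ho3 : orderOf (QuotientGroup.mk' N u) ∣ Nat.gcd p (Nat.card H) := Nat.dvd_gcd ho1 ho2
    rw [hcop, Nat.dvd_one, orderOf_eq_one_iff] at ho3
    exact (QuotientGroup.eq_one_iff u).mp ho3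

end Cfsg.Agent.Lib.Helper28.PGen
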