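import Cfsg.Agent.Lib.Helper28.TCOrbit
import Cfsg.Agent.Lib.Helper76.SubOrbit

set_option autoImplicit false
set_option linter.all false

/-! Generic consequences of a coset-enumeration `Setup`: action of words on the cosets, membership in
the subgroup, maximality from suborbit sizes. -/

namespace Cfsg.Agent.Lib.Helper28.PSetup

open Cfsg.Agent.Lib.Helper28

variable {C : Cert} {G : Type*} [Group G] {H : Subgroup G} {gam : ℕ → G}
  {φ : G →* Equiv.Perm ℕ}

theorem act_word (hS : Setup C H gam φ) (w : List ℕ) (hw : ∀ l ∈ w, l < 2 * C.k) (p : ℕ)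
    (hp : p < C.n) :
    (evw gam w)⁻¹ • psi C H gam p = psi C H gam (walkT C p w) ∧ walkT C p w < C.n := by
  have h1 := rN_word C gam φ hS.hφ hS.hpts w hw p hp
  have h2 := (hS.psi_equiv (evw gam w)).1 p hp
  rw [h1.1] at h2
  exact ⟨h2.symm, h1.2⟩

theorem act_word' (hS : Setup C H gam φ) (w : List ℕ) (hw : ∀ l ∈ w, l < 2 * C.k) (p : ℕ)
    (hp : p < C.n) (hfix : walkT C p w = p) : evw gam w • psi C H gam p = psi C H gam p := by
  have h := (act_word hS w hw p hp).1
  rw [hfix] at h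
  calc evw gam w • psi C H gam p = evw gam w • ((evw gam w)⁻¹ • psi C H gam p) := by rw [h]
    _ = psi C H gam p := smul_inv_smul _ _

theorem pos_n (hS : Setup C H gam φ) : 0 < C.n := by
  have hglob := hS.hglob
  simp only [checkGlobal, Bool.and_eq_true] at hglob
  have := hglob.2.1
  simp [Nat.blt] at this
  omega

/-- membership in `H` is detected by fixing the base point 0 -/
theorem mem_of_fix0 (hS : Setup C H gam φ) (w : List ℕ) (hw : ∀ l ∈ w, l < 2 * C.k)
    (hfix : walkT C 0 w = 0) : evw gam w ∈ H := by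
  have h := act_word' hS w hw 0 (pos_n hS) hfix
  rw [psi_zero C H gam hS.hglob] at h
  unfold basePt at h
  have h2 : ((evw gam w * 1 : G) : G ⧸ H) = ((1 : G) : G ⧸ H) := h
  rw [QuotientGroup.eq] at h2
  have h3 := H.inv_mem h2
  simpa using h3

theorem surj (hS : Setup C H gam φ) (x : G ⧸ H) : ∃ p, p < C.n ∧ psi C H gam p = x := by
  have h := image_univ C H gam hS.facts hS.hpts hS.hglob hS.hgen
  have hx : x ∈ psi C H gam '' {p | p < C.n} := by rw [h]; trivial
  obtain ⟨p, hp, rfl⟩ := hx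
  exact ⟨p, hp, rfl⟩

/-- a word fixing every point acts trivially on the cosets -/
theorem fix_all (hS : Setup C H gam φ) (w : List ℕ) (hw : ∀ l ∈ w, l < 2 * C.k)
    (hfix : ∀ p, p < C.n → walkT C p w = p) (x : G ⧸ H) : evw gam w • x = x := by
  obtain ⟨p, hp, rfl⟩ := surj hS x
  exact act_word' hS w hw p hp (hfix p hp)

/-- maximality of `H` from the sizes of its orbits on the cosets -/
theorem maximal (hS : Setup C H gam φ) (horb : ∀ p, p < C.n → checkOrb C p = true)
    (m : ℕ) (hm : ∀ p, p < C.n → C.ORB p < m) (sz : ℕ → ℕ)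
    (hcnt : ∀ j, j < m → countLab C.ORB j C.n = sz j) (h0 : C.ORB 0 = 0) (hsz0 : sz 0 = 1)
    (harith : ∀ J ∈ (Finset.range m).powerset, 0 ∈ J → (∑ j ∈ J, sz j) ∣ C.n →
      J = {0} ∨ J = Finset.range m)
    (K : Subgroup G) (hK : H ≤ K) : K = H ∨ K = ⊤ := by
  haveI := hS.finite
  choose pinv hpinv using surj hS
  have hpp : ∀ p, p < C.n → pinv (psi C H gam p) = p :=
    fun p hp => hS.psi_injOn (hpinv _).1 hp (hpinv _).2
  have hinvr : ∀ (g : G) (p : ℕ), p < C.n → rN φ p g < C.n :=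
    fun g p hp => (rN_invariant C gam φ hS.hφ hS.hpts hS.hgen g).1 p hp
  apply Cfsg.Agent.Lib.Helper76.SubOrbit.maximal_of_suborbits H m (fun x => C.ORB (pinv x))
    ?hlab ?hinv ?htrans sz ?hsz ?hbase hsz0 ?harith K hK
  case hlab =>
    intro x
    exact hm _ (hpinv x).1
  case hinv =>
    intro h x
    show C.ORB (pinv (h • x)) = C.ORB (pinv x)
    obtain ⟨hp, hx⟩ := hpinv x
    have h1 := (hS.psi_equiv ((h : G)⁻¹)).1 (pinv x) hp
    have h2 : ract (psi C H gam (pinv x)) ((h : G)⁻¹) = h • x := by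
      unfold ract
      rw [inv_inv, hx]
      rfl
    rw [h2] at h1
    rw [← h1, hpp _ (hinvr _ _ hp)]
    exact (hS.orb_pres horb (h : G) (hS.hH h.2)).2 (pinv x) hp
  case htrans =>
    intro x y hxy
    have hxy' : C.ORB (pinv x) = C.ORB (pinv y) := hxy
    obtain ⟨hp, hx⟩ := hpinv x
    obtain ⟨hq, hy⟩ := hpinv y
    obtain ⟨h1, hh1, e1⟩ := hS.reach_root horb _ (pinv x) rfl hp
    obtain ⟨h2, hh2, e2⟩ := hS.reach_root horb _ (pinv y) rfl hq
    rw [← hxy'] at e2
    have e3 : rN φ (pinv x) h1⁻¹ = C.ROOT (C.ORB (pinv x)) := by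
      conv_lhs => rw [e1]
      exact rN_inv_cancel φ _ _
    have e4 : pinv y = rN φ (pinv x) (h1⁻¹ * h2) := by
      rw [rN_mul, e3]; exact e2
    have h5 := (hS.psi_equiv (h1⁻¹ * h2)).1 (pinv x) hp
    rw [← e4, hx, hy] at h5
    refine ⟨⟨(h1⁻¹ * h2)⁻¹, H.inv_mem (H.mul_mem (H.inv_mem hh1) hh2)⟩, ?_⟩
    rw [h5]
    rfl
  case hsz =>
    intro j hj
    have hset : {x : G ⧸ H | C.ORB (pinv x) = j} = psi C H gam '' Lab C j := by
      ext x
      constructor
      · intro hx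
        exact ⟨pinv x, ⟨(hpinv x).1, hx⟩, (hpinv x).2⟩
      · rintro ⟨p, ⟨hp, hl⟩, rfl⟩
        show C.ORB (pinv (psi C H gam p)) = j
        rw [hpp p hp]; exact hl
    rw [hset, (hS.psi_injOn.mono (fun p hp => hp.1)).ncard_image, Lab_ncard]
    exact hcnt j hj
  case hbase =>
    show C.ORB (pinv ((1 : G) : G ⧸ H)) = 0
    have h00 : ((1 : G) : G ⧸ H) = psi C H gam 0 := (psi_zero C H gam hS.hglob).symm
    rw [h00, hpp 0 (pos_n hS)]
    exact h0
  case harith =>
    intro J hJ h0J hdvd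
    rw [hS.index_eq] at hdvd
    exact harith J (Finset.mem_powerset.mpr hJ) h0J hdvd

end Cfsg.Agent.Lib.Helper28.PSetup
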