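import Cfsg.Agent.Lib.Helper28.Sp44MatData
import Cfsg.Agent.Lib.Helper28.TCSound

set_option autoImplicit false
set_option linter.all false
set_option maxRecDepth 1000000

/-! Six explicit symplectic matrices over the field with four elements and the action of words in
them on row vectors, computed through a table. -/

namespace Cfsg.Agent.Lib.Helper28.Sp44Mat

open Cfsg.Agent.Lib.Helper28 Cfsg.Agent.Lib.Helper28.Sp44F4 Cfsg.Agent.Lib.Helper28.Sp44MatData
open Matrix

abbrev I4 : Type := Fin 2 ⊕ Fin 2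

abbrev M4 : Type := Matrix I4 I4 F4

/-- the symplectic group of dimension four over the field with four elements -/
abbrev S : Type := Matrix.symplecticGroup (Fin 2) F4

/-- position of an index -/
def pos : I4 → ℕ
  | Sum.inl x => x.val
  | Sum.inr x => 2 + x.val

/-- field element coded by a number -/
def ofN (n : ℕ) : F4 :=
  match n % 4 with
  | 0 => F4.o
  | 1 => F4.i
  | 2 => F4.w
  | _ => F4.v

/-- row vector coded by a number (base 4 digits) -/
def dec (n : ℕ) : I4 → F4 := fun s => ofN (n / 4 ^ pos s)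

/-- the matrix with the given coded rows -/
def mkM (r : List ℕ) : M4 := Matrix.of fun s t => ofN (r.getD (pos s) 0 / 4 ^ pos t)

/-- the six generator matrices -/
def Bmat (i : ℕ) : M4 := mkM (rowsL.getD i [])

theorem Bmat_mem : ∀ i : Fin 6, Bmat i.val ∈ Matrix.symplecticGroup (Fin 2) F4 := by
  intro i
  rw [SymplecticGroup.mem_iff]
  revert i
  decide +kernel

theorem letters_ok : ∀ i : Fin 6, ∀ n : Fin 256,
    dec n.val ᵥ* Bmat i.val = dec (vT (n.val * 12 + 2 * i.val)) := by
  decide +kernel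


theorem range_ok : ∀ i : Fin 3072, vT i.val < 256 := by decide +kernel

theorem inv_ok : ∀ i : Fin 6, ∀ n : Fin 256,
    vT (vT (n.val * 12 + (2 * i.val + 1)) * 12 + 2 * i.val) = n.val := by decide +kernel

/-- the six generators as elements of the symplectic group -/
def B (x : Fin 6) : S := ⟨Bmat x.val, Bmat_mem x⟩

/-- walking in the vector table -/
noncomputable def vwalk : ℕ → List ℕ → ℕ
  | p, [] => p
  | p, l :: w => vwalk (vT (p * 12 + l)) w

theorem vT_lt (n l : ℕ) (hn : n < 256) (hl : l < 12) : vT (n * 12 + l) < 256 := by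
  have h : n * 12 + l < 3072 := by omega
  exact range_ok ⟨n * 12 + l, h⟩

theorem act_mul (A C : S) (v : I4 → F4) : v ᵥ* (↑(A * C) : M4) = (v ᵥ* (↑A : M4)) ᵥ* (↑C : M4) := by
  rw [Matrix.vecMul_vecMul]
  rfl

theorem act_one (v : I4 → F4) : v ᵥ* (↑(1 : S) : M4) = v := by
  show v ᵥ* (1 : M4) = v
  exact Matrix.vecMul_one v

theorem act_inv (A : S) (v v' : I4 → F4) (h : v' ᵥ* (↑A : M4) = v) : v ᵥ* (↑(A⁻¹) : M4) = v' := by
  rw [← h, ← act_mul, mul_inv_cancel, act_one]

theorem act_letter (g : ℕ → S) (hg : ∀ i, g i = B (Fin.ofNat 6 i)) (l n : ℕ) (hl : l < 12)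
    (hn : n < 256) : dec n ᵥ* (↑(letG g l) : M4) = dec (vT (n * 12 + l)) := by
  have hi : l / 2 < 6 := by omega
  have hB : (↑(g (l / 2)) : M4) = Bmat (l / 2) := by
    rw [hg]
    show Bmat ((Fin.ofNat 6 (l / 2)).val) = _
    congr 1
    exact Nat.mod_eq_of_lt hi
  rcases Nat.mod_two_eq_zero_or_one l with h | h
  · have e : letG g l = g (l / 2) := by simp [letG, h]
    rw [e, hB]
    have := letters_ok ⟨l / 2, hi⟩ ⟨n, hn⟩
    have e2 : 2 * (l / 2) = l := by omega
    simp only [e2] at this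
    exact this
  · have e : letG g l = (g (l / 2))⁻¹ := by simp [letG, h, beq_one_zero]
    rw [e]
    apply act_inv
    rw [hB]
    have hm : vT (n * 12 + l) < 256 := vT_lt n l hn hl
    have := letters_ok ⟨l / 2, hi⟩ ⟨vT (n * 12 + l), hm⟩
    have e2 : 2 * (l / 2) + 1 = l := by omega
    have hinv := inv_ok ⟨l / 2, hi⟩ ⟨n, hn⟩
    simp only [e2] at hinv
    simp only [hinv] at this
    exact this

theorem act_word (g : ℕ → S) (hg : ∀ i, g i = B (Fin.ofNat 6 i)) (w : List ℕ)
    (hw : ∀ l ∈ w, l < 12) : ∀ n, n < 256 →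
    dec n ᵥ* (↑(evw g w) : M4) = dec (vwalk n w) := by
  induction w with
  | nil =>
    intro n hn
    exact act_one _
  | cons l w ih =>
    intro n hn
    have hl : l < 12 := hw l (by simp)
    show dec n ᵥ* (↑(letG g l * evw g w) : M4) = dec (vwalk (vT (n * 12 + l)) w)
    rw [act_mul, act_letter g hg l n hl hn]
    exact ih (fun l' hl' => hw l' (by simp [hl'])) _ (vT_lt n l hn hl)

theorem dec_single : ∀ s : I4, dec (4 ^ pos s) = Pi.single s 1 := by decide +kernel

/-- a word whose walks fix the four basis vectors evaluates to the identity -/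
theorem word_one (g : ℕ → S) (hg : ∀ i, g i = B (Fin.ofNat 6 i)) (w : List ℕ)
    (hw : ∀ l ∈ w, l < 12) (h : ∀ s : I4, vwalk (4 ^ pos s) w = 4 ^ pos s) : evw g w = 1 := by
  apply Subtype.ext
  show (↑(evw g w) : M4) = 1
  ext s t
  have h1 := act_word g hg w hw (4 ^ pos s) (by revert s; decide)
  rw [h s, dec_single, Matrix.single_one_vecMul] at h1
  have h2 : (↑(evw g w) : M4) s t = (Pi.single s 1 : I4 → F4) t := congrFun h1 t
  rw [h2, Matrix.one_apply, Pi.single_apply]
  by_cases hst : s = t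
  · simp [hst]
  · have hts : ¬ t = s := fun h => hst h.symm
    simp [hst, hts]

noncomputable def fixB (w : List ℕ) : Bool :=
  Nat.beq (vwalk 1 w) 1 && Nat.beq (vwalk 4 w) 4 && Nat.beq (vwalk 16 w) 16 &&
    Nat.beq (vwalk 64 w) 64

theorem fixB_sound (w : List ℕ) (h : fixB w = true) : ∀ s : I4, vwalk (4 ^ pos s) w = 4 ^ pos s := by
  simp only [fixB, Bool.and_eq_true] at h
  obtain ⟨⟨⟨h1, h2⟩, h3⟩, h4⟩ := h
  intro s
  rcases s with x | x <;> fin_cases x
  · exact Nat.eq_of_beq_eq_true h1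
  · exact Nat.eq_of_beq_eq_true h2
  · exact Nat.eq_of_beq_eq_true h3
  · exact Nat.eq_of_beq_eq_true h4

end Cfsg.Agent.Lib.Helper28.Sp44Mat
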