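import Cfsg.Agent.Lib.Helper28.Sp44Q
import Cfsg.Agent.Lib.Helper28.Sp44Mat
import Cfsg.Agent.Lib.Helper5.SympCard

set_option autoImplicit false
set_option linter.all false
set_option maxRecDepth 1000000

/-! The presented group `Q` is isomorphic to the symplectic group `Sp(4, 4)`. -/

namespace Cfsg.Agent.Lib.Helper28.Sp44Beta

open Cfsg.Agent.Lib.Helper28 Cfsg.Agent.Lib.Helper28.PGen Cfsg.Agent.Lib.Helper28.Sp44F4
open Cfsg.Agent.Lib.Helper28.Sp44Q Cfsg.Agent.Lib.Helper28.Sp44Mat

theorem rel_letters : allList (allLetters (fun l => Nat.blt l 12)) SpQData.rels = true := by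
  decide +kernel

theorem rel_fix : allList fixB SpQData.rels = true := by decide +kernel

theorem hβ : ∀ w ∈ RQ, evw (fun i => B (genOf i)) w = 1 := by
  intro w hw
  apply word_one _ (fun i => rfl) w
  · intro l hl
    have := allLetters_sound _ _ (allList_sound _ _ rel_letters w hw) l hl
    simpa [Nat.blt] using this
  · exact fixB_sound w (allList_sound _ _ rel_fix w hw)

/-- the homomorphism from `Q` to the symplectic group -/
noncomputable def β : Q →* S := liftP genOf RQ B hβ

theorem β_of (x : Gen) : β (PresentedGroup.of x) = B x := liftP_of genOf RQ B hβ x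

theorem B0_ne : B 0 ≠ 1 := by
  intro h
  have h1 : (↑(B 0) : M4) = 1 := congrArg Subtype.val h
  have h2 : Bmat 0 = 1 := h1
  revert h2
  decide +kernel

theorem card_S : Nat.card S = 979200 := by
  have h := Cfsg.Agent.Lib.Helper5.card_symplecticGroup_fin (F := F4) 2
  rw [h, F4.card_eq]
  decide

theorem β_bijective (hs : IsSimpleGroup Q) (hc : Nat.card Q = 979200) [Finite Q] :
    Function.Bijective β := by
  have hinj : Function.Injective β := by
    rw [← MonoidHom.ker_eq_bot_iff]
    rcases hs.eq_bot_or_eq_top_of_normal β.ker (MonoidHom.normal_ker β) with h | h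
    · exact h
    · exfalso
      have : (PresentedGroup.of (0 : Gen) : Q) ∈ β.ker := by rw [h]; trivial
      rw [MonoidHom.mem_ker, β_of] at this
      exact B0_ne this
  haveI : Finite S := Nat.finite_of_card_ne_zero (by rw [card_S]; decide)
  refine (Nat.bijective_iff_injective_and_card β).mpr ⟨hinj, ?_⟩
  rw [hc, card_S]

end Cfsg.Agent.Lib.Helper28.Sp44Beta
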