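import Mathlib

set_option autoImplicit false
set_option linter.all false

/-! A concrete model of the field with four elements. -/

namespace Cfsg.Agent.Lib.Helper28.Sp44F4

/-- concrete field with four elements: `0, 1, ω, ω²` -/
inductive F4 : Type
  | o | i | w | v
  deriving DecidableEq

namespace F4

instance : Fintype F4 := ⟨{o, i, w, v}, by intro x; cases x <;> decide⟩

/-- addition -/
def add : F4 → F4 → F4
  | o, x => x
  | x, o => x
  | i, i => o
  | i, w => v
  | i, v => w
  | w, i => v
  | w, w => o
  | w, v => i
  | v, i => w
  | v, w => i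
  | v, v => o

/-- multiplication -/
def mul : F4 → F4 → F4
  | o, _ => o
  | _, o => o
  | i, x => x
  | x, i => x
  | w, w => v
  | w, v => i
  | v, w => i
  | v, v => w

/-- inverse -/
def inv : F4 → F4
  | o => o
  | i => i
  | w => v
  | v => w

instance : Add F4 := ⟨add⟩
instance : Mul F4 := ⟨mul⟩
instance : Zero F4 := ⟨o⟩
instance : One F4 := ⟨i⟩
instance : Neg F4 := ⟨id⟩
instance : Inv F4 := ⟨inv⟩

instance : Field F4 where
  add_assoc := by decide
  zero_add := by decide
  add_zero := by decide
  add_comm := by decide
  neg_add_cancel := by decide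
  mul_assoc := by decide
  one_mul := by decide
  mul_one := by decide
  left_distrib := by decide
  right_distrib := by decide
  zero_mul := by decide
  mul_zero := by decide
  mul_comm := by decide
  exists_pair_ne := ⟨o, i, by decide⟩
  mul_inv_cancel := by decide
  inv_zero := rfl
  nsmul := nsmulRec
  zsmul := zsmulRec
  nnqsmul := _
  qsmul := _

theorem card_eq : Fintype.card F4 = 4 := rfl

end F4

end Cfsg.Agent.Lib.Helper28.Sp44F4
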