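import Cfsg.Agent.Lib.Helper28.SpQChk

set_option autoImplicit false
set_option linter.all false
set_option maxRecDepth 1000000
set_option Elab.async false

namespace Cfsg.Agent.Lib.Helper28.SpOrbChk

open Cfsg.Agent.Lib.Helper28

/-- 15 words fixing the points 0 and 1, moving the point 13 to distinct points -/
def ws2 : List (List Nat) := [[2, 4, 2, 0, 2],
  [0],
  [2, 4, 0],
  [],
  [2, 4],
  [4, 2, 0, 2, 4],
  [0, 2, 4, 0],
  [4, 2, 0],
  [4, 2],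
  [0, 2, 0, 2, 4, 2],
  [0, 2, 0, 2],
  [0, 2, 4],
  [4, 0, 2],
  [2, 4, 0, 2, 4],
  [2, 0, 2]]

/-- 12 words fixing the points 0, 1 and 13, moving the point 3 to distinct points -/
def ws3 : List (List Nat) := [[],
  [4, 2, 0, 2, 0, 2, 4, 0, 2, 0],
  [2, 6, 11, 6, 2, 4, 6, 2, 0, 2, 6, 10, 6, 2, 0, 2, 4, 6, 2, 4, 11, 6],
  [4, 2, 6, 2, 0, 2, 10, 6, 0, 2, 4, 0, 2, 6, 11, 6, 2, 0, 2, 6, 11],
  [6, 11, 6, 2, 0, 6, 2, 0, 6, 4, 2, 0, 11, 6, 2, 0, 2, 6, 11, 6],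
  [6, 10, 6, 2, 0, 2, 0, 6, 2, 4, 0, 2, 6, 10, 6, 2, 0, 2, 6, 11],
  [2, 0, 2, 0, 2, 0, 2],
  [10, 6, 2, 0, 2, 6, 10, 6, 2, 0, 4, 2, 0, 6, 2, 0, 2, 11, 6, 2, 4],
  [4, 2, 6, 2, 11, 6, 4, 2, 0, 2, 6, 10, 6, 2, 0, 2, 6, 4, 2, 6, 11, 6],
  [6, 2, 0, 2, 10, 6, 0, 2, 4, 0, 2, 6, 11, 6, 2, 0, 2, 4, 6, 2, 11],
  [4, 0, 2, 0, 2, 0, 4],
  [2, 11, 6, 4, 2, 0, 2, 6, 10, 6, 2, 0, 4, 2, 0, 6, 2, 0, 2, 11, 6]]

def imgs2 : List Nat := [3, 4, 5, 13, 18, 23, 29, 35, 39, 41, 42, 49, 51, 59, 61]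

def imgs3 : List Nat := [3, 4, 5, 23, 29, 35, 41, 42, 49, 51, 59, 61]

/-- the 17th power of the word `d u f c` -/
def w17 : List Nat := [2, 10, 6, 0, 2, 10, 6, 0, 2, 10, 6, 0, 2, 10, 6, 0, 2, 10, 6, 0, 2, 10, 6, 0, 2, 10, 6, 0, 2, 10, 6, 0, 2, 10, 6, 0, 2, 10, 6, 0, 2, 10, 6, 0, 2, 10, 6, 0, 2, 10, 6, 0, 2, 10, 6, 0, 2, 10, 6, 0, 2, 10, 6, 0, 2, 10, 6, 0]

theorem ws2_length : ws2.length = 15 := by decide
theorem ws3_length : ws3.length = 12 := by decide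

theorem ws_letters : allList (allLetters (fun l => Nat.blt l 12)) (ws2 ++ ws3) = true := by decide +kernel

theorem imgs2_nodup : imgs2.Nodup := by decide
theorem imgs3_nodup : imgs3.Nodup := by decide

theorem ws_fix01 : allList (fun w => Nat.beq (walkT SpQData.cert 0 w) 0 && Nat.beq (walkT SpQData.cert 1 w) 1) (ws2 ++ ws3) = true := by decide +kernel

theorem ws3_fix2 : allList (fun w => Nat.beq (walkT SpQData.cert 13 w) 13) ws3 = true := by decide +kernel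

theorem ws2_imgs : eqList (ws2.map (walkT SpQData.cert 13)) imgs2 = true := by decide +kernel

theorem ws3_imgs : eqList (ws3.map (walkT SpQData.cert 3)) imgs3 = true := by decide +kernel

theorem w17_fix : allRange (fun p => Nat.beq (walkT SpQData.cert p w17) p) 0 85 = true := by decide +kernel

theorem orb_lt : allRange (fun p => Nat.blt (SpQData.cert.ORB p) 3) 0 85 = true := by decide +kernel

theorem cnt0 : countLab SpQData.cert.ORB 0 85 = 1 := by decide +kernel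
theorem cnt1 : countLab SpQData.cert.ORB 1 85 = 64 := by decide +kernel
theorem cnt2 : countLab SpQData.cert.ORB 2 85 = 20 := by decide +kernel

theorem root0 : SpQData.cert.ORK 0 = 0 ∧ SpQData.cert.ORB 0 = 0 := by decide +kernel
theorem root1 : SpQData.cert.ORK 1 = 0 ∧ SpQData.cert.ORB 1 = 1 := by decide +kernel

end Cfsg.Agent.Lib.Helper28.SpOrbChk
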