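import Cfsg.Agent.Lib.Helper28.PGen
import Cfsg.Agent.Lib.Helper28.PChain
import Cfsg.Agent.Lib.Helper28.SpPChk
import Cfsg.Agent.Lib.Helper28.SpZChk
import Cfsg.Agent.Lib.Helper28.SpOrbChk

set_option autoImplicit false
set_option linter.all false

/-! A presentation `Q` on six generators `c, d, e, f, h, u` (34 relators) of a simple group of order
979200 (the symplectic group of dimension four over the field with four elements). -/

namespace Cfsg.Agent.Lib.Helper28.Sp44Q

open Cfsg.Agent.Lib.Helper28 Cfsg.Agent.Lib.Helper28.PGen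
open Cfsg.Agent.Lib.Helper28.SpOrbChk

set_option maxRecDepth 100000

/-- the six generators -/
abbrev Gen : Type := Fin 6

def genOf : ℕ → Gen := fun i => Fin.ofNat 6 i

def idx : Gen → ℕ := fun x => x.val

theorem hidx : ∀ x : Gen, idx x < 6 ∧ genOf (idx x) = x := by decide

theorem hgi : ∀ i, i < 6 → idx (genOf i) = i := by
  intro i hi
  interval_cases i <;> rfl

/-- the 34 relators -/
noncomputable abbrev RQ : List (List Nat) := SpQData.rels

/-- the presented group -/
abbrev Q : Type := PG genOf RQ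

noncomputable abbrev gamQ : ℕ → Q := fun i => PresentedGroup.of (genOf i)

/-- generators of the subgroup `⟨c, d, e, f, h⟩` -/
abbrev SA : Set (FreeGroup Gen) :=
  {FreeGroup.of 0, FreeGroup.of 1, FreeGroup.of 2, FreeGroup.of 3, FreeGroup.of 4}

noncomputable abbrev KA : Subgroup Q :=
  (Subgroup.closure SA).map (PresentedGroup.mk (wordsSet genOf RQ))

theorem hsub1 : ∀ s ∈ SA, ∃ w ∈ SpQData.cert.subs, s = wordF genOf w := by
  intro s hs
  simp only [SA, Set.mem_insert_iff, Set.mem_singleton_iff] at hs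
  rcases hs with rfl | rfl | rfl | rfl | rfl
  · exact ⟨[0], by decide, rfl⟩
  · exact ⟨[2], by decide, rfl⟩
  · exact ⟨[4], by decide, rfl⟩
  · exact ⟨[6], by decide, rfl⟩
  · exact ⟨[8], by decide, rfl⟩

theorem hsub2 : ∀ w ∈ SpQData.cert.subs, wordF genOf w ∈ SA := by
  intro w hw
  have hw' : w ∈ [[0], [2], [4], [6], [8]] := hw
  simp only [List.mem_cons, List.not_mem_nil, or_false] at hw'
  rcases hw' with rfl | rfl | rfl | rfl | rfl
  · exact Or.inl rfl
  · exact Or.inr (Or.inl rfl)
  · exact Or.inr (Or.inr (Or.inl rfl))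
  · exact Or.inr (Or.inr (Or.inr (Or.inl rfl)))
  · exact Or.inr (Or.inr (Or.inr (Or.inr rfl)))

theorem setupQ : ∃ φ : Q →* Equiv.Perm ℕ, Setup SpQData.cert KA gamQ φ :=
  setup_of genOf idx RQ SA SpQData.cert hidx hgi rfl hsub1 hsub2
    SpQData.chkR2 SpQData.facts_ok SpQData.pts_ok SpQData.chkG

/-- relators of the sub-presentation on `c, d, e, f, h` (with `u = 1`) -/
noncomputable abbrev RP : List (List Nat) := SpPData.rels

theorem cardP : Finite (PG genOf RP) ∧ Nat.card (PG genOf RP) = 11520 :=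
  card_of_trivial genOf idx RP SpPData.cert hidx hgi rfl rfl
    SpPData.chkR2 SpPData.facts_ok SpPData.pts_ok SpPData.chkG

/-- images of the generators of the sub-presentation (`u` is sent to 1) -/
noncomputable def fP : Gen → Q :=
  fun x => if x = 5 then 1 else PresentedGroup.of x

theorem keyP : ∀ w ∈ RP, w = [10] ∨ (w ∈ RQ ∧ ∀ l ∈ w, l / 2 < 5) := by decide

theorem genOf_lt5 (i : ℕ) (hi : i < 5) : ¬ (genOf i = 5) := by
  interval_cases i <;> decide

theorem hP : ∀ w ∈ RP, evw (fun i => fP (genOf i)) w = 1 := by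
  intro w hw
  rcases keyP w hw with rfl | ⟨hr, hl⟩
  · simp [evw, letG, fP, genOf]
  · rw [evw_congr' _ gamQ w]
    · exact rel_one genOf RQ w hr
    · intro l hlw
      show fP _ = _
      unfold fP
      rw [if_neg (genOf_lt5 _ (hl l hlw))]

theorem hKA : KA ≤ Subgroup.closure (Set.range fP) := by
  show (Subgroup.closure SA).map (PresentedGroup.mk (wordsSet genOf RQ)) ≤ _
  rw [MonoidHom.map_closure]
  apply Subgroup.closure_mono
  rintro _ ⟨s, hs, rfl⟩
  simp only [SA, Set.mem_insert_iff, Set.mem_singleton_iff] at hs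
  rcases hs with rfl | rfl | rfl | rfl | rfl
  · exact ⟨0, by unfold fP; rw [if_neg (by decide)]; rfl⟩
  · exact ⟨1, by unfold fP; rw [if_neg (by decide)]; rfl⟩
  · exact ⟨2, by unfold fP; rw [if_neg (by decide)]; rfl⟩
  · exact ⟨3, by unfold fP; rw [if_neg (by decide)]; rfl⟩
  · exact ⟨4, by unfold fP; rw [if_neg (by decide)]; rfl⟩

theorem cardKA_le : Finite KA ∧ Nat.card KA ≤ 11520 := by
  haveI := cardP.1
  have h := card_le_of_lift genOf RP fP hP KA hKA
  rw [cardP.2] at h
  exact h

theorem cardQ_le : Finite Q ∧ Nat.card Q ≤ 979200 := by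
  obtain ⟨φ, hS⟩ := setupQ
  haveI := cardKA_le.1
  obtain ⟨hfin, hcard⟩ := card_of_setup' hS
  refine ⟨hfin, ?_⟩
  have hn : SpQData.cert.n = 85 := rfl
  rw [hcard, hn]
  have := cardKA_le.2
  omega

/-- the sizes of the three orbits of `KA` on its 85 cosets -/
def sz : ℕ → ℕ := fun j => [1, 64, 20].getD j 0

theorem arith : ∀ J ∈ (Finset.range 3).powerset, 0 ∈ J → (∑ j ∈ J, sz j) ∣ 85 →
    J = {0} ∨ J = Finset.range 3 := by decide

theorem cnt_all (j : ℕ) (hj : j < 3) : countLab SpQData.cert.ORB j 85 = sz j := by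
  interval_cases j
  · exact cnt0
  · exact cnt1
  · exact cnt2

/-- relators of `Q` together with the word `d u f c` -/
noncomputable abbrev RZ : List (List Nat) := SpZData.rels

theorem cardZ : Finite (PG genOf RZ) ∧ Nat.card (PG genOf RZ) = 1 :=
  card_of_trivial genOf idx RZ SpZData.cert hidx hgi rfl rfl
    SpZData.chkR2 SpZData.facts_ok SpZData.pts_ok SpZData.chkG

theorem keyZ : ∀ w ∈ RZ, w = [2, 10, 6, 0] ∨ w ∈ RQ := by decide

/-- the element `d u f c` (of order 17) -/
noncomputable def zel : Q := evw gamQ [2, 10, 6, 0]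

section WithSetup

variable {φ : Q →* Equiv.Perm ℕ} (hS : Setup SpQData.cert KA gamQ φ)

include hS

theorem chainA : 11520 ≤ Nat.card KA ∧
    (Nat.card KA ≤ 11520 →
      ∀ g ∈ KA, g • psi SpQData.cert KA gamQ 1 = psi SpQData.cert KA gamQ 1 →
        g • psi SpQData.cert KA gamQ 13 = psi SpQData.cert KA gamQ 13 →
        g • psi SpQData.cert KA gamQ 3 = psi SpQData.cert KA gamQ 3 → g = 1) := by
  haveI := cardKA_le.1
  have hk : SpQData.cert.k = 6 := rfl
  have hall := fun w hw => allList_sound _ _ ws_fix01 w hw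
  have h := PChain.chain3 hS SpQData.orb_ok 1 (by decide) root1.1 64
    (by rw [root1.2]; exact cnt1) 13 3 (by decide) (by decide) ws2 ws3 imgs2 imgs3
    (by
      intro w hw l hl
      have := allLetters_sound _ _ (allList_sound _ _ ws_letters w hw) l hl
      rw [hk]
      simpa [Nat.blt] using this)
    (by
      intro w hw
      have := hall w hw
      simp only [Bool.and_eq_true] at this
      exact Nat.eq_of_beq_eq_true this.1)
    (by
      intro w hw
      have := hall w hw
      simp only [Bool.and_eq_true] at this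
      exact Nat.eq_of_beq_eq_true this.2)
    (by
      intro w hw
      exact Nat.eq_of_beq_eq_true (allList_sound _ _ ws3_fix2 w hw))
    (eqList_eq _ _ ws2_imgs) imgs2_nodup (eqList_eq _ _ ws3_imgs) imgs3_nodup
  rw [ws2_length, ws3_length] at h
  exact h

theorem cardQ : Nat.card Q = 979200 ∧ Nat.card KA = 11520 := by
  haveI := cardQ_le.1
  have h1 : Nat.card KA * KA.index = Nat.card Q := Subgroup.card_mul_index KA
  have h2 : KA.index = 85 := hS.index_eq
  have h3 := (chainA hS).1
  have h4 := cardQ_le.2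
  rw [h2] at h1
  constructor <;> omega

/-- an element of `KA` fixing three suitable cosets is trivial -/
theorem trivial3 : ∀ g ∈ KA, g • psi SpQData.cert KA gamQ 1 = psi SpQData.cert KA gamQ 1 →
    g • psi SpQData.cert KA gamQ 13 = psi SpQData.cert KA gamQ 13 →
    g • psi SpQData.cert KA gamQ 3 = psi SpQData.cert KA gamQ 3 → g = 1 :=
  (chainA hS).2 (by rw [(cardQ hS).2])

theorem maximalA (K : Subgroup Q) (hK : KA ≤ K) : K = KA ∨ K = ⊤ := by
  have hn : SpQData.cert.n = 85 := rfl
  apply PSetup.maximal hS SpQData.orb_ok 3 ?_ sz ?_ root0.2 rfl ?_ K hK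
  · intro p hp
    rw [hn] at hp
    have := allRange_sound _ 0 85 orb_lt p (by omega) (by omega)
    simpa [Nat.blt] using this
  · intro j hj
    rw [hn]; exact cnt_all j hj
  · rw [hn]; exact arith

theorem coreA (N : Subgroup Q) (hN : N.Normal) (hle : N ≤ KA) : N = ⊥ := by
  rw [eq_bot_iff]
  intro n hn
  exact trivial3 hS n (hle hn) (normal_le_fix KA N hle n hn _) (normal_le_fix KA N hle n hn _)
    (normal_le_fix KA N hle n hn _)

theorem zel_pow : zel ^ 17 = 1 := by
  have hn : SpQData.cert.n = 85 := rfl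
  have hlet : ∀ l ∈ w17, l < 2 * SpQData.cert.k := by decide
  have hfix : ∀ p, p < SpQData.cert.n → walkT SpQData.cert p w17 = p := by
    intro p hp
    rw [hn] at hp
    exact Nat.eq_of_beq_eq_true (allRange_sound _ 0 85 w17_fix p (by omega) (by omega))
  have h1 : ∀ x : Q ⧸ KA, evw gamQ w17 • x = x := PSetup.fix_all hS w17 hlet hfix
  have hmem : evw gamQ w17 ∈ KA := PSetup.mem_of_fix0 hS w17 hlet (hfix 0 (by decide))
  have h2 : evw gamQ w17 = 1 := trivial3 hS _ hmem (h1 _) (h1 _) (h1 _)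
  have e : evw gamQ w17 = zel ^ 17 := by
    have hz : evw gamQ [2, 10, 6, 0] = zel := rfl
    have happ : w17 = [2, 10, 6, 0] ++ ([2, 10, 6, 0] ++ ([2, 10, 6, 0] ++ ([2, 10, 6, 0] ++
        ([2, 10, 6, 0] ++ ([2, 10, 6, 0] ++ ([2, 10, 6, 0] ++ ([2, 10, 6, 0] ++ ([2, 10, 6, 0] ++
        ([2, 10, 6, 0] ++ ([2, 10, 6, 0] ++ ([2, 10, 6, 0] ++ ([2, 10, 6, 0] ++ ([2, 10, 6, 0] ++
        ([2, 10, 6, 0] ++ ([2, 10, 6, 0] ++ [2, 10, 6, 0]))))))))))))))) := rfl
    rw [happ]
    simp only [evw_append, hz]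
    simp only [pow_succ, pow_zero, one_mul, mul_assoc]
  rw [← e]; exact h2

theorem simple : IsSimpleGroup Q := by
  haveI := cardQ_le.1
  have hcard := (cardQ hS).1
  have hnt : Nontrivial Q := Finite.one_lt_card_iff_nontrivial.mp (by rw [hcard]; decide)
  apply simple_of_data hnt KA (maximalA hS) (coreA hS) zel 17 (zel_pow hS)
    (by rw [(cardQ hS).2]; decide)
  intro N hN hu
  exact top_of_collapse genOf (wordsSet genOf RQ) RQ
    (fun w hw => by rw [← mk_wordF]; exact rel_one genOf RQ w hw) [2, 10, 6, 0] RZ keyZ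
    cardZ N hu

end WithSetup

/-- the presented group `Q` is simple of order 979200 -/
theorem main : IsSimpleGroup Q ∧ Nat.card Q = 979200 ∧ Finite Q := by
  obtain ⟨φ, hS⟩ := setupQ
  exact ⟨simple hS, (cardQ hS).1, cardQ_le.1⟩

end Cfsg.Agent.Lib.Helper28.Sp44Q
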