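import Cfsg.Agent.Lib.Helper28.TCDefs
import Cfsg.Agent.Lib.Helper28.SpPDataP0

set_option autoImplicit false
set_option maxRecDepth 100000
set_option linter.all false

namespace Cfsg.Agent.Lib.Helper28.SpPData

open Cfsg.Agent.Lib.Helper28

noncomputable def tF_s0_6 (j : Nat) : Nat := @Bool.rec (fun _ => Nat) (@Bool.rec (fun _ => Nat) tF_L0 (@Bool.rec (fun _ => Nat) tF_L1 tF_L2 (Nat.ble (nat_lit 2) j)) (Nat.ble (nat_lit 1) j)) (@Bool.rec (fun _ => Nat) tF_L3 (@Bool.rec (fun _ => Nat) tF_L4 tF_L5 (Nat.ble (nat_lit 5) j)) (Nat.ble (nat_lit 4) j)) (Nat.ble (nat_lit 3) j)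
noncomputable def tF (i : Nat) : Nat := Nat.land (Nat.shiftRight (tF_s0_6 (Nat.div i (nat_lit 18181))) (Nat.mul (nat_lit 44) (Nat.mod i (nat_lit 18181)))) (nat_lit 17592186044415)
noncomputable def tD (i : Nat) : Nat := Nat.land (Nat.shiftRight tD_L0 (Nat.mul (nat_lit 24) i)) (nat_lit 16777215)
noncomputable def tT_s0_3 (j : Nat) : Nat := @Bool.rec (fun _ => Nat) tT_L0 (@Bool.rec (fun _ => Nat) tT_L1 tT_L2 (Nat.ble (nat_lit 2) j)) (Nat.ble (nat_lit 1) j)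
noncomputable def tT (i : Nat) : Nat := Nat.land (Nat.shiftRight (tT_s0_3 (Nat.div i (nat_lit 57142))) (Nat.mul (nat_lit 14) (Nat.mod i (nat_lit 57142)))) (nat_lit 16383)
noncomputable def tPP (i : Nat) : Nat := Nat.land (Nat.shiftRight tPP_L0 (Nat.mul (nat_lit 18) i)) (nat_lit 262143)
noncomputable def tNO (i : Nat) : Nat := Nat.land (Nat.shiftRight tNO_L0 (Nat.mul (nat_lit 15) i)) (nat_lit 32767)
noncomputable def tTAB_s0_2 (j : Nat) : Nat := @Bool.rec (fun _ => Nat) tTAB_L0 tTAB_L1 (Nat.ble (nat_lit 1) j)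
noncomputable def tTAB (i : Nat) : Nat := Nat.land (Nat.shiftRight (tTAB_s0_2 (Nat.div i (nat_lit 47058))) (Nat.mul (nat_lit 17) (Nat.mod i (nat_lit 47058)))) (nat_lit 131071)
noncomputable def tORB (i : Nat) : Nat := Nat.land (Nat.shiftRight tORB_L0 (Nat.mul (nat_lit 14) i)) (nat_lit 16383)
noncomputable def tORK (i : Nat) : Nat := Nat.land (Nat.shiftRight tORK_L0 (Nat.mul (nat_lit 1) i)) (nat_lit 1)
noncomputable def tOPAR (i : Nat) : Nat := Nat.land (Nat.shiftRight tOPAR_L0 (Nat.mul (nat_lit 1) i)) (nat_lit 1)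
noncomputable def tROOT (i : Nat) : Nat := Nat.land (Nat.shiftRight tROOT_L0 (Nat.mul (nat_lit 14) i)) (nat_lit 16383)
noncomputable def tJ_O_s0_3 (j : Nat) : Nat := @Bool.rec (fun _ => Nat) tJ_O_L0 (@Bool.rec (fun _ => Nat) tJ_O_L1 tJ_O_L2 (Nat.ble (nat_lit 2) j)) (Nat.ble (nat_lit 1) j)
noncomputable def tJ_O (i : Nat) : Nat := Nat.land (Nat.shiftRight (tJ_O_s0_3 (Nat.div i (nat_lit 44444))) (Nat.mul (nat_lit 18) (Nat.mod i (nat_lit 44444)))) (nat_lit 262143)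
noncomputable def tJ_s0_5 (j : Nat) : Nat := @Bool.rec (fun _ => Nat) (@Bool.rec (fun _ => Nat) tJ_P0 tJ_P1 (Nat.ble (nat_lit 1) j)) (@Bool.rec (fun _ => Nat) tJ_P2 (@Bool.rec (fun _ => Nat) tJ_P3 tJ_P4 (Nat.ble (nat_lit 4) j)) (Nat.ble (nat_lit 3) j)) (Nat.ble (nat_lit 2) j)
noncomputable def tJ_s5_11 (j : Nat) : Nat := @Bool.rec (fun _ => Nat) (@Bool.rec (fun _ => Nat) tJ_P5 (@Bool.rec (fun _ => Nat) tJ_P6 tJ_P7 (Nat.ble (nat_lit 7) j)) (Nat.ble (nat_lit 6) j)) (@Bool.rec (fun _ => Nat) tJ_P8 (@Bool.rec (fun _ => Nat) tJ_P9 tJ_P10 (Nat.ble (nat_lit 10) j)) (Nat.ble (nat_lit 9) j)) (Nat.ble (nat_lit 8) j)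
noncomputable def tJ_s11_16 (j : Nat) : Nat := @Bool.rec (fun _ => Nat) (@Bool.rec (fun _ => Nat) tJ_P11 tJ_P12 (Nat.ble (nat_lit 12) j)) (@Bool.rec (fun _ => Nat) tJ_P13 (@Bool.rec (fun _ => Nat) tJ_P14 tJ_P15 (Nat.ble (nat_lit 15) j)) (Nat.ble (nat_lit 14) j)) (Nat.ble (nat_lit 13) j)
noncomputable def tJ_s16_22 (j : Nat) : Nat := @Bool.rec (fun _ => Nat) (@Bool.rec (fun _ => Nat) tJ_P16 (@Bool.rec (fun _ => Nat) tJ_P17 tJ_P18 (Nat.ble (nat_lit 18) j)) (Nat.ble (nat_lit 17) j)) (@Bool.rec (fun _ => Nat) tJ_P19 (@Bool.rec (fun _ => Nat) tJ_P20 tJ_P21 (Nat.ble (nat_lit 21) j)) (Nat.ble (nat_lit 20) j)) (Nat.ble (nat_lit 19) j)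
noncomputable def tJ_s22_27 (j : Nat) : Nat := @Bool.rec (fun _ => Nat) (@Bool.rec (fun _ => Nat) tJ_P22 tJ_P23 (Nat.ble (nat_lit 23) j)) (@Bool.rec (fun _ => Nat) tJ_P24 (@Bool.rec (fun _ => Nat) tJ_P25 tJ_P26 (Nat.ble (nat_lit 26) j)) (Nat.ble (nat_lit 25) j)) (Nat.ble (nat_lit 24) j)
noncomputable def tJ_s27_33 (j : Nat) : Nat := @Bool.rec (fun _ => Nat) (@Bool.rec (fun _ => Nat) tJ_P27 (@Bool.rec (fun _ => Nat) tJ_P28 tJ_P29 (Nat.ble (nat_lit 29) j)) (Nat.ble (nat_lit 28) j)) (@Bool.rec (fun _ => Nat) tJ_P30 (@Bool.rec (fun _ => Nat) tJ_P31 tJ_P32 (Nat.ble (nat_lit 32) j)) (Nat.ble (nat_lit 31) j)) (Nat.ble (nat_lit 30) j)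
noncomputable def tJ_s33_39 (j : Nat) : Nat := @Bool.rec (fun _ => Nat) (@Bool.rec (fun _ => Nat) tJ_P33 (@Bool.rec (fun _ => Nat) tJ_P34 tJ_P35 (Nat.ble (nat_lit 35) j)) (Nat.ble (nat_lit 34) j)) (@Bool.rec (fun _ => Nat) tJ_P36 (@Bool.rec (fun _ => Nat) tJ_P37 tJ_P38 (Nat.ble (nat_lit 38) j)) (Nat.ble (nat_lit 37) j)) (Nat.ble (nat_lit 36) j)
noncomputable def tJ_s39_45 (j : Nat) : Nat := @Bool.rec (fun _ => Nat) (@Bool.rec (fun _ => Nat) tJ_P39 (@Bool.rec (fun _ => Nat) tJ_P40 tJ_P41 (Nat.ble (nat_lit 41) j)) (Nat.ble (nat_lit 40) j)) (@Bool.rec (fun _ => Nat) tJ_P42 (@Bool.rec (fun _ => Nat) tJ_P43 tJ_P44 (Nat.ble (nat_lit 44) j)) (Nat.ble (nat_lit 43) j)) (Nat.ble (nat_lit 42) j)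
noncomputable def tJ_s0_45 (j : Nat) : Nat := @Bool.rec (fun _ => Nat) (@Bool.rec (fun _ => Nat) (@Bool.rec (fun _ => Nat) (tJ_s0_5 j) (tJ_s5_11 j) (Nat.ble (nat_lit 5) j)) (@Bool.rec (fun _ => Nat) (tJ_s11_16 j) (tJ_s16_22 j) (Nat.ble (nat_lit 16) j)) (Nat.ble (nat_lit 11) j)) (@Bool.rec (fun _ => Nat) (@Bool.rec (fun _ => Nat) (tJ_s22_27 j) (tJ_s27_33 j) (Nat.ble (nat_lit 27) j)) (@Bool.rec (fun _ => Nat) (tJ_s33_39 j) (tJ_s39_45 j) (Nat.ble (nat_lit 39) j)) (Nat.ble (nat_lit 33) j)) (Nat.ble (nat_lit 22) j)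
noncomputable def tJ (i : Nat) : Nat := Nat.land (Nat.shiftRight (tJ_s0_45 (Nat.div i (nat_lit 2048))) (tJ_O i)) (nat_lit 18788340662190665823115844774314696219005460391266558965658327772257672200916867547709591987078149624255479807)

noncomputable def rels : List (List Nat) := [[0, 0], [2, 2], [4, 4], [6, 6], [8, 8, 8], [4, 0, 4, 0], [6, 0, 6, 0], [6, 4, 6, 4], [4, 2, 4, 2, 4, 2], [4, 9, 0, 6, 8, 0], [6, 2, 6, 2, 6, 2], [6, 8, 6, 2, 9, 2], [8, 0, 9, 0, 8, 0, 9, 0], [8, 0, 9, 4, 8, 0, 9, 4], [8, 2, 9, 2, 8, 2, 9, 2], [8, 6, 9, 4, 8, 6, 9, 4], [9, 0, 8, 6, 9, 0, 8, 6], [8, 2, 8, 4, 6, 9, 4, 9, 4, 2], [2, 4, 8, 4, 2, 0, 2, 4, 9, 4, 2, 0], [8, 0, 2, 4, 9, 2, 8, 4, 9, 2, 6, 0], [2, 0, 2, 0, 2, 0, 8, 2, 9, 0, 9, 2, 8, 0], [2, 0, 2, 0, 8, 0, 8, 2, 0, 2, 9, 0, 9, 0], [2, 0, 8, 2, 0, 2, 8, 0, 2, 9, 0, 2, 9, 0], [2, 8, 0, 2,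 6, 9, 4, 2, 9, 0, 2, 0, 8, 0], [0, 2, 0, 2, 4, 2, 0, 2, 4, 0, 2, 0, 2, 4, 2], [10]]
noncomputable def subs : List (List Nat) := []
noncomputable def rels2 : List (List (List Nat)) := [[[0, 0], [2, 2], [4, 4], [6, 6], [8, 8, 8], [4, 0, 4, 0], [6, 0, 6, 0], [6, 4, 6, 4]], [[4, 2, 4, 2, 4, 2], [4, 9, 0, 6, 8, 0], [6, 2, 6, 2, 6, 2], [6, 8, 6, 2, 9, 2], [8, 0, 9, 0, 8, 0, 9, 0], [8, 0, 9, 4, 8, 0, 9, 4], [8, 2, 9, 2, 8, 2, 9, 2], [8, 6, 9, 4, 8, 6, 9, 4]], [[9, 0, 8, 6, 9, 0, 8, 6], [8, 2, 8, 4, 6, 9, 4, 9, 4, 2], [2, 4, 8, 4, 2, 0, 2, 4, 9, 4, 2, 0], [8, 0, 2, 4, 9, 2, 8, 4, 9, 2, 6, 0], [2, 0, 2, 0, 2, 0, 8, 2, 9, 0, 9, 2, 8, 0], [2, 0, 2, 0, 8, 0, 8, 2, 0, 2, 9, 0, 9, 0], [2, 0, 8, 2, 0, 2, 8, 0, 2, 9, 0, 2, 9, 0], [2, 8, 0, 2, 6, 9, 4, 2, 9, 0, 2, 0, 8, 0]], [[0, 2, 0, 2, 4, 2, 0, 2, 4, 0, 2, 0, 2, 4, 2], [10]]]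
noncomputable def cert : Cert := ⟨6, 11520, 92160, tF, tJ, tD, rels, subs, tT, tPP, tNO, tTAB, rels2, tORB, tORK, tOPAR, tROOT⟩

end Cfsg.Agent.Lib.Helper28.SpPData
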