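import Cfsg.Agent.Lib.Helper28.TCDefs
import Cfsg.Agent.Lib.Helper28.SpQDataP0

set_option autoImplicit false
set_option maxRecDepth 100000
set_option linter.all false

namespace Cfsg.Agent.Lib.Helper28.SpQData

open Cfsg.Agent.Lib.Helper28

noncomputable def tF (i : Nat) : Nat := Nat.land (Nat.shiftRight tF_L0 (Nat.mul (nat_lit 44) i)) (nat_lit 17592186044415)
noncomputable def tD (i : Nat) : Nat := Nat.land (Nat.shiftRight tD_L0 (Nat.mul (nat_lit 24) i)) (nat_lit 16777215)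
noncomputable def tT (i : Nat) : Nat := Nat.land (Nat.shiftRight tT_L0 (Nat.mul (nat_lit 7) i)) (nat_lit 127)
noncomputable def tPP (i : Nat) : Nat := Nat.land (Nat.shiftRight tPP_L0 (Nat.mul (nat_lit 10) i)) (nat_lit 1023)
noncomputable def tNO (i : Nat) : Nat := Nat.land (Nat.shiftRight tNO_L0 (Nat.mul (nat_lit 7) i)) (nat_lit 127)
noncomputable def tTAB (i : Nat) : Nat := Nat.land (Nat.shiftRight tTAB_L0 (Nat.mul (nat_lit 9) i)) (nat_lit 511)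
noncomputable def tORB (i : Nat) : Nat := Nat.land (Nat.shiftRight tORB_L0 (Nat.mul (nat_lit 2) i)) (nat_lit 3)
noncomputable def tORK (i : Nat) : Nat := Nat.land (Nat.shiftRight tORK_L0 (Nat.mul (nat_lit 3) i)) (nat_lit 7)
noncomputable def tOPAR (i : Nat) : Nat := Nat.land (Nat.shiftRight tOPAR_L0 (Nat.mul (nat_lit 17) i)) (nat_lit 131071)
noncomputable def tROOT (i : Nat) : Nat := Nat.land (Nat.shiftRight tROOT_L0 (Nat.mul (nat_lit 4) i)) (nat_lit 15)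
noncomputable def tJ_O (i : Nat) : Nat := Nat.land (Nat.shiftRight tJ_O_L0 (Nat.mul (nat_lit 17) i)) (nat_lit 131071)
noncomputable def tJ (i : Nat) : Nat := Nat.land (Nat.shiftRight tJ_P0 (tJ_O i)) (nat_lit 18788340662190665823115844774314696219005460391266558965658327772257672200916867547709591987078149624255479807)

noncomputable def rels : List (List Nat) := [[0, 0], [2, 2], [4, 4], [6, 6], [8, 8, 8], [4, 0, 4, 0], [6, 0, 6, 0], [6, 4, 6, 4], [4, 2, 4, 2, 4, 2], [4, 9, 0, 6, 8, 0], [6, 2, 6, 2, 6, 2], [6, 8, 6, 2, 9, 2], [8, 0, 9, 0, 8, 0, 9, 0], [8, 0, 9, 4, 8, 0, 9, 4], [8, 2, 9, 2, 8, 2, 9, 2], [8, 6, 9, 4, 8, 6, 9, 4], [9, 0, 8, 6, 9, 0, 8, 6], [8, 2, 8, 4, 6, 9, 4, 9, 4, 2], [2, 4, 8, 4, 2, 0, 2, 4, 9, 4, 2, 0], [8, 0, 2, 4, 9, 2, 8, 4, 9, 2, 6, 0], [2, 0, 2, 0, 2, 0, 8, 2, 9, 0, 9, 2, 8, 0],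 [2, 0, 2, 0, 8, 0, 8, 2, 0, 2, 9, 0, 9, 0], [2, 0, 8, 2, 0, 2, 8, 0, 2, 9, 0, 2, 9, 0], [2, 8, 0, 2, 6, 9, 4, 2, 9, 0, 2, 0, 8, 0], [0, 2, 0, 2, 4, 2, 0, 2, 4, 0, 2, 0, 2, 4, 2], [10, 10, 10], [0, 10, 0, 11], [2, 10, 2, 10], [4, 10, 4, 10], [6, 10, 6, 10, 6, 10], [4, 8, 2, 9, 6, 0, 2, 4, 10, 8, 10, 2, 9, 11], [4, 9, 2, 0, 9, 2, 9, 4, 10, 9, 10, 2, 8, 11], [2, 9, 2, 11, 9, 2, 11, 9, 10], [2, 0, 2, 6, 2, 4, 0, 2, 10, 6, 11, 8, 10, 6, 11]]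
noncomputable def subs : List (List Nat) := [[0], [2], [4], [6], [8]]
noncomputable def rels2 : List (List (List Nat)) := [[[0, 0], [2, 2], [4, 4], [6, 6], [8, 8, 8], [4, 0, 4, 0], [6, 0, 6, 0], [6, 4, 6, 4]], [[4, 2, 4, 2, 4, 2], [4, 9, 0, 6, 8, 0], [6, 2, 6, 2, 6, 2], [6, 8, 6, 2, 9, 2], [8, 0, 9, 0, 8, 0, 9, 0], [8, 0, 9, 4, 8, 0, 9, 4], [8, 2, 9, 2, 8, 2, 9, 2], [8, 6, 9, 4, 8, 6, 9, 4]], [[9, 0, 8, 6, 9, 0, 8, 6], [8, 2, 8, 4, 6, 9, 4, 9, 4, 2], [2, 4, 8, 4, 2, 0, 2, 4, 9, 4, 2, 0], [8, 0, 2, 4, 9, 2, 8, 4, 9, 2, 6, 0], [2, 0, 2, 0, 2, 0, 8, 2, 9, 0, 9, 2, 8, 0], [2, 0, 2, 0, 8, 0, 8, 2, 0, 2, 9, 0, 9, 0], [2, 0, 8, 2, 0, 2, 8, 0, 2, 9, 0, 2, 9, 0], [2, 8, 0, 2, 6, 9, 4, 2, 9, 0, 2, 0, 8, 0]], [[0, 2, 0, 2, 4, 2, 0, 2, 4, 0, 2, 0, 2, 4, 2], [10, 10, 10], [0, 10, 0, 11], [2, 10, 2, 10], [4, 10, 4,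 10], [6, 10, 6, 10, 6, 10], [4, 8, 2, 9, 6, 0, 2, 4, 10, 8, 10, 2, 9, 11], [4, 9, 2, 0, 9, 2, 9, 4, 10, 9, 10, 2, 8, 11]], [[2, 9, 2, 11, 9, 2, 11, 9, 10], [2, 0, 2, 6, 2, 4, 0, 2, 10, 6, 11, 8, 10, 6, 11]]]
noncomputable def cert : Cert := ⟨6, 85, 510, tF, tJ, tD, rels, subs, tT, tPP, tNO, tTAB, rels2, tORB, tORK, tOPAR, tROOT⟩

end Cfsg.Agent.Lib.Helper28.SpQData
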