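import Cfsg.Agent.Lib.Helper28.TCDefs

set_option autoImplicit false
set_option maxRecDepth 100000
set_option linter.all false

namespace Cfsg.Agent.Lib.Helper28.SpZData

open Cfsg.Agent.Lib.Helper28

noncomputable def tF_L0 : Nat := nat_lit 0x90000000000000006000000000050000060000000000000003000003000030000370000300003b00003000032000030000300000a000034000000000020000000000c0000000000800000000000000010000000000b00000000004000000000080000000000c0000170000c000087000080000c3000040000c30000c000041000080000cc0000c00001b0000b000014000000000130000000001b000040000000000200001b000080000400000900000000007000047000090000710000200009b0000b0000230000b000083000080000b10000b000041000040000b7000010000b70000b0000110000a000031000030000a50000a00001b000040000930000900001b0000800007c0000800000b000070000090000600005a0000600000900005000007000000000470000400000500000000035000030000030000000002300002000001000000000110000100000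
noncomputable def tD_L0 : Nat := nat_lit 0xb00001600001400001200001b00000a00000900000800000600000400000200000000000000000
noncomputable def tT_L0 : Nat := nat_lit 0x0
noncomputable def tPP_L0 : Nat := nat_lit 0x0
noncomputable def tNO_L0 : Nat := nat_lit 0x0
noncomputable def tTAB_L0 : Nat := nat_lit 0xc3cbf9cb1
noncomputable def tORB_L0 : Nat := nat_lit 0x0
noncomputable def tORK_L0 : Nat := nat_lit 0x0
noncomputable def tOPAR_L0 : Nat := nat_lit 0x0
noncomputable def tROOT_L0 : Nat := nat_lit 0x0
noncomputable def tJ_P0 : Nat := nat_lit 0x98000ec0000400000011c000750000400007500005400010000180258000c00002f0000c2000080000c00002f8000c2000328000c6000398000ca0002f8000ca000318000ca01818000000434000090001c000008000000178000de000058000c8000048000de0000500a008000180410001ac0006d0001a0030000000c088800016000040000be008040000000e4000080001840000a000030000301c2000128000cc0000400006003c0000800017400021000030000a0056000220000b80000400000007c0000100017000008000000078000820002c0000100000005f000034000580000200000007e0002d80008c0002a8000900000800002016c0002600015400051000158000100000001f8000840002a80009e0000600008006c000020001540004b00003000080016000248000a40001e0000180000c8000a00000c0001803a400050000010000c0032000188000520002180009800006006010000000510001300000400010004800090000218000820180000008036400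0180000040004900c000000c01a20000640001f000010000080570000140003e0000200001003e0000300007c0000400002005c0001e0000e8000080000002b8000000001d80006a0000600004002c0001a0000e0000080001002b80001c0001c80006e000060001200ec0001e0000d8000160000380001e0000d8000180001c07480006a0000b00000c00804000040444000330000ac0001e00c000000901a20000200003200017000018000580d90000b8000040002c0048000300000680005a018000001604440002a000010000b0002000078000020001300400800008031000098000040000400c8000110000080005000100002c0000100008002004000040148000078000020000e004008000081110000160000640000800020064800002000009800010000300210000030000040000000c800004000008000000110000040000100000001200000000002000000004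
noncomputable def tJ_O_L0 : Nat := nat_lit 0x162eacfd07a777300943c83a32b13285cc159fe6f90796ba79c1ed9668eb18982ab70591aaa9462a2f4e625a520c8a34151f1ce9c69330d1684a504db231105473834f1a68c0050e285106082834e1a50d1850027c13c07783b414009e028813c004000

end Cfsg.Agent.Lib.Helper28.SpZData
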