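import Cfsg.Agent.Lib.Helper28.Suz1Chk0
import Cfsg.Agent.Lib.Helper28.Suz1Chk1
import Cfsg.Agent.Lib.Helper28.Suz1Chk2
import Cfsg.Agent.Lib.Helper28.TCOrbit

set_option autoImplicit false
set_option linter.all false

namespace Cfsg.Agent.Lib.Helper28.Suz1Data

open Cfsg.Agent.Lib.Helper28

theorem chkG : checkGlobal cert = true := by decide +kernel

theorem chkR2 : checkRels2 cert = true := by decide +kernel

theorem facts_ok : ∀ i, i < cert.nF → checkFact cert i = true := by
  intro i hi
  have hn : cert.nF = 38860 := rfl
  rw [hn] at hi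
  rcases Nat.lt_or_ge i 2000 with h | h
  · exact allRange_sound _ 0 2000 chkF_0 i (by omega) (by omega)
  rcases Nat.lt_or_ge i 4000 with h | h
  · exact allRange_sound _ 2000 2000 chkF_2000 i (by omega) (by omega)
  rcases Nat.lt_or_ge i 6000 with h | h
  · exact allRange_sound _ 4000 2000 chkF_4000 i (by omega) (by omega)
  rcases Nat.lt_or_ge i 8000 with h | h
  · exact allRange_sound _ 6000 2000 chkF_6000 i (by omega) (by omega)
  rcases Nat.lt_or_ge i 10000 with h | h
  · exact allRange_sound _ 8000 2000 chkF_8000 i (by omega) (by omega)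
  rcases Nat.lt_or_ge i 12000 with h | h
  · exact allRange_sound _ 10000 2000 chkF_10000 i (by omega) (by omega)
  rcases Nat.lt_or_ge i 14000 with h | h
  · exact allRange_sound _ 12000 2000 chkF_12000 i (by omega) (by omega)
  rcases Nat.lt_or_ge i 16000 with h | h
  · exact allRange_sound _ 14000 2000 chkF_14000 i (by omega) (by omega)
  rcases Nat.lt_or_ge i 18000 with h | h
  · exact allRange_sound _ 16000 2000 chkF_16000 i (by omega) (by omega)
  rcases Nat.lt_or_ge i 20000 with h | h
  · exact allRange_sound _ 18000 2000 chkF_18000 i (by omega) (by omega)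
  rcases Nat.lt_or_ge i 22000 with h | h
  · exact allRange_sound _ 20000 2000 chkF_20000 i (by omega) (by omega)
  rcases Nat.lt_or_ge i 24000 with h | h
  · exact allRange_sound _ 22000 2000 chkF_22000 i (by omega) (by omega)
  rcases Nat.lt_or_ge i 26000 with h | h
  · exact allRange_sound _ 24000 2000 chkF_24000 i (by omega) (by omega)
  rcases Nat.lt_or_ge i 28000 with h | h
  · exact allRange_sound _ 26000 2000 chkF_26000 i (by omega) (by omega)
  rcases Nat.lt_or_ge i 30000 with h | h
  · exact allRange_sound _ 28000 2000 chkF_28000 i (by omega) (by omega)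
  rcases Nat.lt_or_ge i 32000 with h | h
  · exact allRange_sound _ 30000 2000 chkF_30000 i (by omega) (by omega)
  rcases Nat.lt_or_ge i 34000 with h | h
  · exact allRange_sound _ 32000 2000 chkF_32000 i (by omega) (by omega)
  rcases Nat.lt_or_ge i 36000 with h | h
  · exact allRange_sound _ 34000 2000 chkF_34000 i (by omega) (by omega)
  rcases Nat.lt_or_ge i 38000 with h | h
  · exact allRange_sound _ 36000 2000 chkF_36000 i (by omega) (by omega)
  exact allRange_sound _ 38000 860 chkF_38000 i (by omega) (by omega)

theorem pts_both : ∀ p, p < cert.n → (checkPoint cert p && checkOrb cert p) = true := by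
  intro i hi
  have hn : cert.n = 1782 := rfl
  rw [hn] at hi
  rcases Nat.lt_or_ge i 100 with h | h
  · exact allRange_sound _ 0 100 chkP_0 i (by omega) (by omega)
  rcases Nat.lt_or_ge i 200 with h | h
  · exact allRange_sound _ 100 100 chkP_100 i (by omega) (by omega)
  rcases Nat.lt_or_ge i 300 with h | h
  · exact allRange_sound _ 200 100 chkP_200 i (by omega) (by omega)
  rcases Nat.lt_or_ge i 400 with h | h
  · exact allRange_sound _ 300 100 chkP_300 i (by omega) (by omega)
  rcases Nat.lt_or_ge i 500 with h | h
  · exact allRange_sound _ 400 100 chkP_400 i (by omega) (by omega)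
  rcases Nat.lt_or_ge i 600 with h | h
  · exact allRange_sound _ 500 100 chkP_500 i (by omega) (by omega)
  rcases Nat.lt_or_ge i 700 with h | h
  · exact allRange_sound _ 600 100 chkP_600 i (by omega) (by omega)
  rcases Nat.lt_or_ge i 800 with h | h
  · exact allRange_sound _ 700 100 chkP_700 i (by omega) (by omega)
  rcases Nat.lt_or_ge i 900 with h | h
  · exact allRange_sound _ 800 100 chkP_800 i (by omega) (by omega)
  rcases Nat.lt_or_ge i 1000 with h | h
  · exact allRange_sound _ 900 100 chkP_900 i (by omega) (by omega)
  rcases Nat.lt_or_ge i 1100 with h | h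
  · exact allRange_sound _ 1000 100 chkP_1000 i (by omega) (by omega)
  rcases Nat.lt_or_ge i 1200 with h | h
  · exact allRange_sound _ 1100 100 chkP_1100 i (by omega) (by omega)
  rcases Nat.lt_or_ge i 1300 with h | h
  · exact allRange_sound _ 1200 100 chkP_1200 i (by omega) (by omega)
  rcases Nat.lt_or_ge i 1400 with h | h
  · exact allRange_sound _ 1300 100 chkP_1300 i (by omega) (by omega)
  rcases Nat.lt_or_ge i 1500 with h | h
  · exact allRange_sound _ 1400 100 chkP_1400 i (by omega) (by omega)
  rcases Nat.lt_or_ge i 1600 with h | h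
  · exact allRange_sound _ 1500 100 chkP_1500 i (by omega) (by omega)
  rcases Nat.lt_or_ge i 1700 with h | h
  · exact allRange_sound _ 1600 100 chkP_1600 i (by omega) (by omega)
  exact allRange_sound _ 1700 82 chkP_1700 i (by omega) (by omega)

theorem pts_ok : ∀ p, p < cert.n → checkPoint cert p = true := by
  intro p hp
  have := pts_both p hp
  simp only [Bool.and_eq_true] at this
  exact this.1

theorem orb_ok : ∀ p, p < cert.n → checkOrb cert p = true := by
  intro p hp
  have := pts_both p hp
  simp only [Bool.and_eq_true] at this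
  exact this.2

end Cfsg.Agent.Lib.Helper28.Suz1Data
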