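import Cfsg.Agent.Lib.Helper28.Suz2Data
import Cfsg.Agent.Lib.Helper28.TCSound

set_option autoImplicit false
set_option maxRecDepth 1000000
set_option linter.all false
set_option Elab.async false

namespace Cfsg.Agent.Lib.Helper28.Suz2Data

open Cfsg.Agent.Lib.Helper28

theorem chkF_2000 : allRange (checkFact cert) 2000 2000 = true := by decide +kernel
theorem chkF_14000 : allRange (checkFact cert) 14000 2000 = true := by decide +kernel
theorem chkF_26000 : allRange (checkFact cert) 26000 2000 = true := by decide +kernel
theorem chkF_38000 : allRange (checkFact cert) 38000 2000 = true := by decide +kernel
theorem chkF_50000 : allRange (checkFact cert) 50000 2000 = true := by decide +kernel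
theorem chkF_62000 : allRange (checkFact cert) 62000 2000 = true := by decide +kernel
theorem chkF_74000 : allRange (checkFact cert) 74000 2000 = true := by decide +kernel
theorem chkF_86000 : allRange (checkFact cert) 86000 2000 = true := by decide +kernel
theorem chkF_98000 : allRange (checkFact cert) 98000 2000 = true := by decide +kernel
theorem chkF_110000 : allRange (checkFact cert) 110000 2000 = true := by decide +kernel
theorem chkF_122000 : allRange (checkFact cert) 122000 2000 = true := by decide +kernel
theorem chkF_134000 : allRange (checkFact cert) 134000 2000 = true := by decide +kernel
theorem chkF_146000 : allRange (checkFact cert) 146000 2000 = true := by decide +kernel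
theorem chkF_158000 : allRange (checkFact cert) 158000 2000 = true := by decide +kernel
theorem chkF_170000 : allRange (checkFact cert) 170000 2000 = true := by decide +kernel
theorem chkF_182000 : allRange (checkFact cert) 182000 715 = true := by decide +kernel
theorem chkP_500 : allRange (fun p => checkPoint cert p && checkOrb cert p) 500 100 = true := by decide +kernel
theorem chkP_1100 : allRange (fun p => checkPoint cert p && checkOrb cert p) 1100 100 = true := by decide +kernel
theorem chkP_1700 : allRange (fun p => checkPoint cert p && checkOrb cert p) 1700 100 = true := by decide +kernel
theorem chkP_2300 : allRange (fun p => checkPoint cert p && checkOrb cert p) 2300 100 = true := by decide +kernel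
theorem chkP_2900 : allRange (fun p => checkPoint cert p && checkOrb cert p) 2900 100 = true := by decide +kernel
theorem chkP_3500 : allRange (fun p => checkPoint cert p && checkOrb cert p) 3500 100 = true := by decide +kernel
theorem chkP_4100 : allRange (fun p => checkPoint cert p && checkOrb cert p) 4100 100 = true := by decide +kernel
theorem chkP_4700 : allRange (fun p => checkPoint cert p && checkOrb cert p) 4700 100 = true := by decide +kernel
theorem chkP_5300 : allRange (fun p => checkPoint cert p && checkOrb cert p) 5300 100 = true := by decide +kernel
theorem chkP_5900 : allRange (fun p => checkPoint cert p && checkOrb cert p) 5900 100 = true := by decide +kernel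
theorem chkP_6500 : allRange (fun p => checkPoint cert p && checkOrb cert p) 6500 100 = true := by decide +kernel
theorem chkP_7100 : allRange (fun p => checkPoint cert p && checkOrb cert p) 7100 100 = true := by decide +kernel
theorem chkP_7700 : allRange (fun p => checkPoint cert p && checkOrb cert p) 7700 100 = true := by decide +kernel
theorem chkP_8300 : allRange (fun p => checkPoint cert p && checkOrb cert p) 8300 100 = true := by decide +kernel
theorem chkP_8900 : allRange (fun p => checkPoint cert p && checkOrb cert p) 8900 100 = true := by decide +kernel
theorem chkP_9500 : allRange (fun p => checkPoint cert p && checkOrb cert p) 9500 100 = true := by decide +kernel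
theorem chkP_10100 : allRange (fun p => checkPoint cert p && checkOrb cert p) 10100 100 = true := by decide +kernel
theorem chkP_10700 : allRange (fun p => checkPoint cert p && checkOrb cert p) 10700 100 = true := by decide +kernel
theorem chkP_11300 : allRange (fun p => checkPoint cert p && checkOrb cert p) 11300 100 = true := by decide +kernel
theorem chkP_11900 : allRange (fun p => checkPoint cert p && checkOrb cert p) 11900 100 = true := by decide +kernel
theorem chkP_12500 : allRange (fun p => checkPoint cert p && checkOrb cert p) 12500 100 = true := by decide +kernel
theorem chkP_13100 : allRange (fun p => checkPoint cert p && checkOrb cert p) 13100 100 = true := by decide +kernel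
theorem chkP_13700 : allRange (fun p => checkPoint cert p && checkOrb cert p) 13700 100 = true := by decide +kernel
theorem chkP_14300 : allRange (fun p => checkPoint cert p && checkOrb cert p) 14300 100 = true := by decide +kernel
theorem chkP_14900 : allRange (fun p => checkPoint cert p && checkOrb cert p) 14900 100 = true := by decide +kernel
theorem chkP_15500 : allRange (fun p => checkPoint cert p && checkOrb cert p) 15500 100 = true := by decide +kernel
theorem chkP_16100 : allRange (fun p => checkPoint cert p && checkOrb cert p) 16100 100 = true := by decide +kernel
theorem chkP_16700 : allRange (fun p => checkPoint cert p && checkOrb cert p) 16700 100 = true := by decide +kernel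
theorem chkP_17300 : allRange (fun p => checkPoint cert p && checkOrb cert p) 17300 100 = true := by decide +kernel
theorem chkP_17900 : allRange (fun p => checkPoint cert p && checkOrb cert p) 17900 100 = true := by decide +kernel
theorem chkP_18500 : allRange (fun p => checkPoint cert p && checkOrb cert p) 18500 100 = true := by decide +kernel
theorem chkP_19100 : allRange (fun p => checkPoint cert p && checkOrb cert p) 19100 100 = true := by decide +kernel
theorem chkP_19700 : allRange (fun p => checkPoint cert p && checkOrb cert p) 19700 100 = true := by decide +kernel
theorem chkP_20300 : allRange (fun p => checkPoint cert p && checkOrb cert p) 20300 100 = true := by decide +kernel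
theorem chkP_20900 : allRange (fun p => checkPoint cert p && checkOrb cert p) 20900 100 = true := by decide +kernel
theorem chkP_21500 : allRange (fun p => checkPoint cert p && checkOrb cert p) 21500 100 = true := by decide +kernel
theorem chkP_22100 : allRange (fun p => checkPoint cert p && checkOrb cert p) 22100 100 = true := by decide +kernel
theorem chkP_22700 : allRange (fun p => checkPoint cert p && checkOrb cert p) 22700 100 = true := by decide +kernel

end Cfsg.Agent.Lib.Helper28.Suz2Data
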