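import Cfsg.Agent.Lib.Helper28.Suz2Data
import Cfsg.Agent.Lib.Helper28.TCSound

set_option autoImplicit false
set_option maxRecDepth 1000000
set_option linter.all false
set_option Elab.async false

namespace Cfsg.Agent.Lib.Helper28.Suz2Data

open Cfsg.Agent.Lib.Helper28

theorem chkF_4000 : allRange (checkFact cert) 4000 2000 = true := by decide +kernel
theorem chkF_16000 : allRange (checkFact cert) 16000 2000 = true := by decide +kernel
theorem chkF_28000 : allRange (checkFact cert) 28000 2000 = true := by decide +kernel
theorem chkF_40000 : allRange (checkFact cert) 40000 2000 = true := by decide +kernel
theorem chkF_52000 : allRange (checkFact cert) 52000 2000 = true := by decide +kernel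
theorem chkF_64000 : allRange (checkFact cert) 64000 2000 = true := by decide +kernel
theorem chkF_76000 : allRange (checkFact cert) 76000 2000 = true := by decide +kernel
theorem chkF_88000 : allRange (checkFact cert) 88000 2000 = true := by decide +kernel
theorem chkF_100000 : allRange (checkFact cert) 100000 2000 = true := by decide +kernel
theorem chkF_112000 : allRange (checkFact cert) 112000 2000 = true := by decide +kernel
theorem chkF_124000 : allRange (checkFact cert) 124000 2000 = true := by decide +kernel
theorem chkF_136000 : allRange (checkFact cert) 136000 2000 = true := by decide +kernel
theorem chkF_148000 : allRange (checkFact cert) 148000 2000 = true := by decide +kernel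
theorem chkF_160000 : allRange (checkFact cert) 160000 2000 = true := by decide +kernel
theorem chkF_172000 : allRange (checkFact cert) 172000 2000 = true := by decide +kernel
theorem chkP_0 : allRange (fun p => checkPoint cert p && checkOrb cert p) 0 100 = true := by decide +kernel
theorem chkP_600 : allRange (fun p => checkPoint cert p && checkOrb cert p) 600 100 = true := by decide +kernel
theorem chkP_1200 : allRange (fun p => checkPoint cert p && checkOrb cert p) 1200 100 = true := by decide +kernel
theorem chkP_1800 : allRange (fun p => checkPoint cert p && checkOrb cert p) 1800 100 = true := by decide +kernel
theorem chkP_2400 : allRange (fun p => checkPoint cert p && checkOrb cert p) 2400 100 = true := by decide +kernel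
theorem chkP_3000 : allRange (fun p => checkPoint cert p && checkOrb cert p) 3000 100 = true := by decide +kernel
theorem chkP_3600 : allRange (fun p => checkPoint cert p && checkOrb cert p) 3600 100 = true := by decide +kernel
theorem chkP_4200 : allRange (fun p => checkPoint cert p && checkOrb cert p) 4200 100 = true := by decide +kernel
theorem chkP_4800 : allRange (fun p => checkPoint cert p && checkOrb cert p) 4800 100 = true := by decide +kernel
theorem chkP_5400 : allRange (fun p => checkPoint cert p && checkOrb cert p) 5400 100 = true := by decide +kernel
theorem chkP_6000 : allRange (fun p => checkPoint cert p && checkOrb cert p) 6000 100 = true := by decide +kernel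
theorem chkP_6600 : allRange (fun p => checkPoint cert p && checkOrb cert p) 6600 100 = true := by decide +kernel
theorem chkP_7200 : allRange (fun p => checkPoint cert p && checkOrb cert p) 7200 100 = true := by decide +kernel
theorem chkP_7800 : allRange (fun p => checkPoint cert p && checkOrb cert p) 7800 100 = true := by decide +kernel
theorem chkP_8400 : allRange (fun p => checkPoint cert p && checkOrb cert p) 8400 100 = true := by decide +kernel
theorem chkP_9000 : allRange (fun p => checkPoint cert p && checkOrb cert p) 9000 100 = true := by decide +kernel
theorem chkP_9600 : allRange (fun p => checkPoint cert p && checkOrb cert p) 9600 100 = true := by decide +kernel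
theorem chkP_10200 : allRange (fun p => checkPoint cert p && checkOrb cert p) 10200 100 = true := by decide +kernel
theorem chkP_10800 : allRange (fun p => checkPoint cert p && checkOrb cert p) 10800 100 = true := by decide +kernel
theorem chkP_11400 : allRange (fun p => checkPoint cert p && checkOrb cert p) 11400 100 = true := by decide +kernel
theorem chkP_12000 : allRange (fun p => checkPoint cert p && checkOrb cert p) 12000 100 = true := by decide +kernel
theorem chkP_12600 : allRange (fun p => checkPoint cert p && checkOrb cert p) 12600 100 = true := by decide +kernel
theorem chkP_13200 : allRange (fun p => checkPoint cert p && checkOrb cert p) 13200 100 = true := by decide +kernel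
theorem chkP_13800 : allRange (fun p => checkPoint cert p && checkOrb cert p) 13800 100 = true := by decide +kernel
theorem chkP_14400 : allRange (fun p => checkPoint cert p && checkOrb cert p) 14400 100 = true := by decide +kernel
theorem chkP_15000 : allRange (fun p => checkPoint cert p && checkOrb cert p) 15000 100 = true := by decide +kernel
theorem chkP_15600 : allRange (fun p => checkPoint cert p && checkOrb cert p) 15600 100 = true := by decide +kernel
theorem chkP_16200 : allRange (fun p => checkPoint cert p && checkOrb cert p) 16200 100 = true := by decide +kernel
theorem chkP_16800 : allRange (fun p => checkPoint cert p && checkOrb cert p) 16800 100 = true := by decide +kernel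
theorem chkP_17400 : allRange (fun p => checkPoint cert p && checkOrb cert p) 17400 100 = true := by decide +kernel
theorem chkP_18000 : allRange (fun p => checkPoint cert p && checkOrb cert p) 18000 100 = true := by decide +kernel
theorem chkP_18600 : allRange (fun p => checkPoint cert p && checkOrb cert p) 18600 100 = true := by decide +kernel
theorem chkP_19200 : allRange (fun p => checkPoint cert p && checkOrb cert p) 19200 100 = true := by decide +kernel
theorem chkP_19800 : allRange (fun p => checkPoint cert p && checkOrb cert p) 19800 100 = true := by decide +kernel
theorem chkP_20400 : allRange (fun p => checkPoint cert p && checkOrb cert p) 20400 100 = true := by decide +kernel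
theorem chkP_21000 : allRange (fun p => checkPoint cert p && checkOrb cert p) 21000 100 = true := by decide +kernel
theorem chkP_21600 : allRange (fun p => checkPoint cert p && checkOrb cert p) 21600 100 = true := by decide +kernel
theorem chkP_22200 : allRange (fun p => checkPoint cert p && checkOrb cert p) 22200 100 = true := by decide +kernel
theorem chkP_22800 : allRange (fun p => checkPoint cert p && checkOrb cert p) 22800 80 = true := by decide +kernel

end Cfsg.Agent.Lib.Helper28.Suz2Data
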