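import Cfsg.Agent.Lib.Helper28.Suz2Data
import Cfsg.Agent.Lib.Helper28.TCSound

set_option autoImplicit false
set_option maxRecDepth 1000000
set_option linter.all false
set_option Elab.async false

namespace Cfsg.Agent.Lib.Helper28.Suz2Data

open Cfsg.Agent.Lib.Helper28

theorem chkF_6000 : allRange (checkFact cert) 6000 2000 = true := by decide +kernel
theorem chkF_18000 : allRange (checkFact cert) 18000 2000 = true := by decide +kernel
theorem chkF_30000 : allRange (checkFact cert) 30000 2000 = true := by decide +kernel
theorem chkF_42000 : allRange (checkFact cert) 42000 2000 = true := by decide +kernel
theorem chkF_54000 : allRange (checkFact cert) 54000 2000 = true := by decide +kernel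
theorem chkF_66000 : allRange (checkFact cert) 66000 2000 = true := by decide +kernel
theorem chkF_78000 : allRange (checkFact cert) 78000 2000 = true := by decide +kernel
theorem chkF_90000 : allRange (checkFact cert) 90000 2000 = true := by decide +kernel
theorem chkF_102000 : allRange (checkFact cert) 102000 2000 = true := by decide +kernel
theorem chkF_114000 : allRange (checkFact cert) 114000 2000 = true := by decide +kernel
theorem chkF_126000 : allRange (checkFact cert) 126000 2000 = true := by decide +kernel
theorem chkF_138000 : allRange (checkFact cert) 138000 2000 = true := by decide +kernel
theorem chkF_150000 : allRange (checkFact cert) 150000 2000 = true := by decide +kernel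
theorem chkF_162000 : allRange (checkFact cert) 162000 2000 = true := by decide +kernel
theorem chkF_174000 : allRange (checkFact cert) 174000 2000 = true := by decide +kernel
theorem chkP_100 : allRange (fun p => checkPoint cert p && checkOrb cert p) 100 100 = true := by decide +kernel
theorem chkP_700 : allRange (fun p => checkPoint cert p && checkOrb cert p) 700 100 = true := by decide +kernel
theorem chkP_1300 : allRange (fun p => checkPoint cert p && checkOrb cert p) 1300 100 = true := by decide +kernel
theorem chkP_1900 : allRange (fun p => checkPoint cert p && checkOrb cert p) 1900 100 = true := by decide +kernel
theorem chkP_2500 : allRange (fun p => checkPoint cert p && checkOrb cert p) 2500 100 = true := by decide +kernel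
theorem chkP_3100 : allRange (fun p => checkPoint cert p && checkOrb cert p) 3100 100 = true := by decide +kernel
theorem chkP_3700 : allRange (fun p => checkPoint cert p && checkOrb cert p) 3700 100 = true := by decide +kernel
theorem chkP_4300 : allRange (fun p => checkPoint cert p && checkOrb cert p) 4300 100 = true := by decide +kernel
theorem chkP_4900 : allRange (fun p => checkPoint cert p && checkOrb cert p) 4900 100 = true := by decide +kernel
theorem chkP_5500 : allRange (fun p => checkPoint cert p && checkOrb cert p) 5500 100 = true := by decide +kernel
theorem chkP_6100 : allRange (fun p => checkPoint cert p && checkOrb cert p) 6100 100 = true := by decide +kernel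
theorem chkP_6700 : allRange (fun p => checkPoint cert p && checkOrb cert p) 6700 100 = true := by decide +kernel
theorem chkP_7300 : allRange (fun p => checkPoint cert p && checkOrb cert p) 7300 100 = true := by decide +kernel
theorem chkP_7900 : allRange (fun p => checkPoint cert p && checkOrb cert p) 7900 100 = true := by decide +kernel
theorem chkP_8500 : allRange (fun p => checkPoint cert p && checkOrb cert p) 8500 100 = true := by decide +kernel
theorem chkP_9100 : allRange (fun p => checkPoint cert p && checkOrb cert p) 9100 100 = true := by decide +kernel
theorem chkP_9700 : allRange (fun p => checkPoint cert p && checkOrb cert p) 9700 100 = true := by decide +kernel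
theorem chkP_10300 : allRange (fun p => checkPoint cert p && checkOrb cert p) 10300 100 = true := by decide +kernel
theorem chkP_10900 : allRange (fun p => checkPoint cert p && checkOrb cert p) 10900 100 = true := by decide +kernel
theorem chkP_11500 : allRange (fun p => checkPoint cert p && checkOrb cert p) 11500 100 = true := by decide +kernel
theorem chkP_12100 : allRange (fun p => checkPoint cert p && checkOrb cert p) 12100 100 = true := by decide +kernel
theorem chkP_12700 : allRange (fun p => checkPoint cert p && checkOrb cert p) 12700 100 = true := by decide +kernel
theorem chkP_13300 : allRange (fun p => checkPoint cert p && checkOrb cert p) 13300 100 = true := by decide +kernel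
theorem chkP_13900 : allRange (fun p => checkPoint cert p && checkOrb cert p) 13900 100 = true := by decide +kernel
theorem chkP_14500 : allRange (fun p => checkPoint cert p && checkOrb cert p) 14500 100 = true := by decide +kernel
theorem chkP_15100 : allRange (fun p => checkPoint cert p && checkOrb cert p) 15100 100 = true := by decide +kernel
theorem chkP_15700 : allRange (fun p => checkPoint cert p && checkOrb cert p) 15700 100 = true := by decide +kernel
theorem chkP_16300 : allRange (fun p => checkPoint cert p && checkOrb cert p) 16300 100 = true := by decide +kernel
theorem chkP_16900 : allRange (fun p => checkPoint cert p && checkOrb cert p) 16900 100 = true := by decide +kernel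
theorem chkP_17500 : allRange (fun p => checkPoint cert p && checkOrb cert p) 17500 100 = true := by decide +kernel
theorem chkP_18100 : allRange (fun p => checkPoint cert p && checkOrb cert p) 18100 100 = true := by decide +kernel
theorem chkP_18700 : allRange (fun p => checkPoint cert p && checkOrb cert p) 18700 100 = true := by decide +kernel
theorem chkP_19300 : allRange (fun p => checkPoint cert p && checkOrb cert p) 19300 100 = true := by decide +kernel
theorem chkP_19900 : allRange (fun p => checkPoint cert p && checkOrb cert p) 19900 100 = true := by decide +kernel
theorem chkP_20500 : allRange (fun p => checkPoint cert p && checkOrb cert p) 20500 100 = true := by decide +kernel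
theorem chkP_21100 : allRange (fun p => checkPoint cert p && checkOrb cert p) 21100 100 = true := by decide +kernel
theorem chkP_21700 : allRange (fun p => checkPoint cert p && checkOrb cert p) 21700 100 = true := by decide +kernel
theorem chkP_22300 : allRange (fun p => checkPoint cert p && checkOrb cert p) 22300 100 = true := by decide +kernel

end Cfsg.Agent.Lib.Helper28.Suz2Data
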