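import Cfsg.Agent.Lib.Helper28.Suz2Data
import Cfsg.Agent.Lib.Helper28.TCSound

set_option autoImplicit false
set_option maxRecDepth 1000000
set_option linter.all false
set_option Elab.async false

namespace Cfsg.Agent.Lib.Helper28.Suz2Data

open Cfsg.Agent.Lib.Helper28

theorem chkF_8000 : allRange (checkFact cert) 8000 2000 = true := by decide +kernel
theorem chkF_20000 : allRange (checkFact cert) 20000 2000 = true := by decide +kernel
theorem chkF_32000 : allRange (checkFact cert) 32000 2000 = true := by decide +kernel
theorem chkF_44000 : allRange (checkFact cert) 44000 2000 = true := by decide +kernel
theorem chkF_56000 : allRange (checkFact cert) 56000 2000 = true := by decide +kernel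
theorem chkF_68000 : allRange (checkFact cert) 68000 2000 = true := by decide +kernel
theorem chkF_80000 : allRange (checkFact cert) 80000 2000 = true := by decide +kernel
theorem chkF_92000 : allRange (checkFact cert) 92000 2000 = true := by decide +kernel
theorem chkF_104000 : allRange (checkFact cert) 104000 2000 = true := by decide +kernel
theorem chkF_116000 : allRange (checkFact cert) 116000 2000 = true := by decide +kernel
theorem chkF_128000 : allRange (checkFact cert) 128000 2000 = true := by decide +kernel
theorem chkF_140000 : allRange (checkFact cert) 140000 2000 = true := by decide +kernel
theorem chkF_152000 : allRange (checkFact cert) 152000 2000 = true := by decide +kernel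
theorem chkF_164000 : allRange (checkFact cert) 164000 2000 = true := by decide +kernel
theorem chkF_176000 : allRange (checkFact cert) 176000 2000 = true := by decide +kernel
theorem chkP_200 : allRange (fun p => checkPoint cert p && checkOrb cert p) 200 100 = true := by decide +kernel
theorem chkP_800 : allRange (fun p => checkPoint cert p && checkOrb cert p) 800 100 = true := by decide +kernel
theorem chkP_1400 : allRange (fun p => checkPoint cert p && checkOrb cert p) 1400 100 = true := by decide +kernel
theorem chkP_2000 : allRange (fun p => checkPoint cert p && checkOrb cert p) 2000 100 = true := by decide +kernel
theorem chkP_2600 : allRange (fun p => checkPoint cert p && checkOrb cert p) 2600 100 = true := by decide +kernel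
theorem chkP_3200 : allRange (fun p => checkPoint cert p && checkOrb cert p) 3200 100 = true := by decide +kernel
theorem chkP_3800 : allRange (fun p => checkPoint cert p && checkOrb cert p) 3800 100 = true := by decide +kernel
theorem chkP_4400 : allRange (fun p => checkPoint cert p && checkOrb cert p) 4400 100 = true := by decide +kernel
theorem chkP_5000 : allRange (fun p => checkPoint cert p && checkOrb cert p) 5000 100 = true := by decide +kernel
theorem chkP_5600 : allRange (fun p => checkPoint cert p && checkOrb cert p) 5600 100 = true := by decide +kernel
theorem chkP_6200 : allRange (fun p => checkPoint cert p && checkOrb cert p) 6200 100 = true := by decide +kernel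
theorem chkP_6800 : allRange (fun p => checkPoint cert p && checkOrb cert p) 6800 100 = true := by decide +kernel
theorem chkP_7400 : allRange (fun p => checkPoint cert p && checkOrb cert p) 7400 100 = true := by decide +kernel
theorem chkP_8000 : allRange (fun p => checkPoint cert p && checkOrb cert p) 8000 100 = true := by decide +kernel
theorem chkP_8600 : allRange (fun p => checkPoint cert p && checkOrb cert p) 8600 100 = true := by decide +kernel
theorem chkP_9200 : allRange (fun p => checkPoint cert p && checkOrb cert p) 9200 100 = true := by decide +kernel
theorem chkP_9800 : allRange (fun p => checkPoint cert p && checkOrb cert p) 9800 100 = true := by decide +kernel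
theorem chkP_10400 : allRange (fun p => checkPoint cert p && checkOrb cert p) 10400 100 = true := by decide +kernel
theorem chkP_11000 : allRange (fun p => checkPoint cert p && checkOrb cert p) 11000 100 = true := by decide +kernel
theorem chkP_11600 : allRange (fun p => checkPoint cert p && checkOrb cert p) 11600 100 = true := by decide +kernel
theorem chkP_12200 : allRange (fun p => checkPoint cert p && checkOrb cert p) 12200 100 = true := by decide +kernel
theorem chkP_12800 : allRange (fun p => checkPoint cert p && checkOrb cert p) 12800 100 = true := by decide +kernel
theorem chkP_13400 : allRange (fun p => checkPoint cert p && checkOrb cert p) 13400 100 = true := by decide +kernel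
theorem chkP_14000 : allRange (fun p => checkPoint cert p && checkOrb cert p) 14000 100 = true := by decide +kernel
theorem chkP_14600 : allRange (fun p => checkPoint cert p && checkOrb cert p) 14600 100 = true := by decide +kernel
theorem chkP_15200 : allRange (fun p => checkPoint cert p && checkOrb cert p) 15200 100 = true := by decide +kernel
theorem chkP_15800 : allRange (fun p => checkPoint cert p && checkOrb cert p) 15800 100 = true := by decide +kernel
theorem chkP_16400 : allRange (fun p => checkPoint cert p && checkOrb cert p) 16400 100 = true := by decide +kernel
theorem chkP_17000 : allRange (fun p => checkPoint cert p && checkOrb cert p) 17000 100 = true := by decide +kernel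
theorem chkP_17600 : allRange (fun p => checkPoint cert p && checkOrb cert p) 17600 100 = true := by decide +kernel
theorem chkP_18200 : allRange (fun p => checkPoint cert p && checkOrb cert p) 18200 100 = true := by decide +kernel
theorem chkP_18800 : allRange (fun p => checkPoint cert p && checkOrb cert p) 18800 100 = true := by decide +kernel
theorem chkP_19400 : allRange (fun p => checkPoint cert p && checkOrb cert p) 19400 100 = true := by decide +kernel
theorem chkP_20000 : allRange (fun p => checkPoint cert p && checkOrb cert p) 20000 100 = true := by decide +kernel
theorem chkP_20600 : allRange (fun p => checkPoint cert p && checkOrb cert p) 20600 100 = true := by decide +kernel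
theorem chkP_21200 : allRange (fun p => checkPoint cert p && checkOrb cert p) 21200 100 = true := by decide +kernel
theorem chkP_21800 : allRange (fun p => checkPoint cert p && checkOrb cert p) 21800 100 = true := by decide +kernel
theorem chkP_22400 : allRange (fun p => checkPoint cert p && checkOrb cert p) 22400 100 = true := by decide +kernel

end Cfsg.Agent.Lib.Helper28.Suz2Data
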