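import Cfsg.Agent.Lib.Helper28.Suz2Data
import Cfsg.Agent.Lib.Helper28.TCSound

set_option autoImplicit false
set_option maxRecDepth 1000000
set_option linter.all false
set_option Elab.async false

namespace Cfsg.Agent.Lib.Helper28.Suz2Data

open Cfsg.Agent.Lib.Helper28

theorem chkF_10000 : allRange (checkFact cert) 10000 2000 = true := by decide +kernel
theorem chkF_22000 : allRange (checkFact cert) 22000 2000 = true := by decide +kernel
theorem chkF_34000 : allRange (checkFact cert) 34000 2000 = true := by decide +kernel
theorem chkF_46000 : allRange (checkFact cert) 46000 2000 = true := by decide +kernel
theorem chkF_58000 : allRange (checkFact cert) 58000 2000 = true := by decide +kernel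
theorem chkF_70000 : allRange (checkFact cert) 70000 2000 = true := by decide +kernel
theorem chkF_82000 : allRange (checkFact cert) 82000 2000 = true := by decide +kernel
theorem chkF_94000 : allRange (checkFact cert) 94000 2000 = true := by decide +kernel
theorem chkF_106000 : allRange (checkFact cert) 106000 2000 = true := by decide +kernel
theorem chkF_118000 : allRange (checkFact cert) 118000 2000 = true := by decide +kernel
theorem chkF_130000 : allRange (checkFact cert) 130000 2000 = true := by decide +kernel
theorem chkF_142000 : allRange (checkFact cert) 142000 2000 = true := by decide +kernel
theorem chkF_154000 : allRange (checkFact cert) 154000 2000 = true := by decide +kernel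
theorem chkF_166000 : allRange (checkFact cert) 166000 2000 = true := by decide +kernel
theorem chkF_178000 : allRange (checkFact cert) 178000 2000 = true := by decide +kernel
theorem chkP_300 : allRange (fun p => checkPoint cert p && checkOrb cert p) 300 100 = true := by decide +kernel
theorem chkP_900 : allRange (fun p => checkPoint cert p && checkOrb cert p) 900 100 = true := by decide +kernel
theorem chkP_1500 : allRange (fun p => checkPoint cert p && checkOrb cert p) 1500 100 = true := by decide +kernel
theorem chkP_2100 : allRange (fun p => checkPoint cert p && checkOrb cert p) 2100 100 = true := by decide +kernel
theorem chkP_2700 : allRange (fun p => checkPoint cert p && checkOrb cert p) 2700 100 = true := by decide +kernel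
theorem chkP_3300 : allRange (fun p => checkPoint cert p && checkOrb cert p) 3300 100 = true := by decide +kernel
theorem chkP_3900 : allRange (fun p => checkPoint cert p && checkOrb cert p) 3900 100 = true := by decide +kernel
theorem chkP_4500 : allRange (fun p => checkPoint cert p && checkOrb cert p) 4500 100 = true := by decide +kernel
theorem chkP_5100 : allRange (fun p => checkPoint cert p && checkOrb cert p) 5100 100 = true := by decide +kernel
theorem chkP_5700 : allRange (fun p => checkPoint cert p && checkOrb cert p) 5700 100 = true := by decide +kernel
theorem chkP_6300 : allRange (fun p => checkPoint cert p && checkOrb cert p) 6300 100 = true := by decide +kernel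
theorem chkP_6900 : allRange (fun p => checkPoint cert p && checkOrb cert p) 6900 100 = true := by decide +kernel
theorem chkP_7500 : allRange (fun p => checkPoint cert p && checkOrb cert p) 7500 100 = true := by decide +kernel
theorem chkP_8100 : allRange (fun p => checkPoint cert p && checkOrb cert p) 8100 100 = true := by decide +kernel
theorem chkP_8700 : allRange (fun p => checkPoint cert p && checkOrb cert p) 8700 100 = true := by decide +kernel
theorem chkP_9300 : allRange (fun p => checkPoint cert p && checkOrb cert p) 9300 100 = true := by decide +kernel
theorem chkP_9900 : allRange (fun p => checkPoint cert p && checkOrb cert p) 9900 100 = true := by decide +kernel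
theorem chkP_10500 : allRange (fun p => checkPoint cert p && checkOrb cert p) 10500 100 = true := by decide +kernel
theorem chkP_11100 : allRange (fun p => checkPoint cert p && checkOrb cert p) 11100 100 = true := by decide +kernel
theorem chkP_11700 : allRange (fun p => checkPoint cert p && checkOrb cert p) 11700 100 = true := by decide +kernel
theorem chkP_12300 : allRange (fun p => checkPoint cert p && checkOrb cert p) 12300 100 = true := by decide +kernel
theorem chkP_12900 : allRange (fun p => checkPoint cert p && checkOrb cert p) 12900 100 = true := by decide +kernel
theorem chkP_13500 : allRange (fun p => checkPoint cert p && checkOrb cert p) 13500 100 = true := by decide +kernel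
theorem chkP_14100 : allRange (fun p => checkPoint cert p && checkOrb cert p) 14100 100 = true := by decide +kernel
theorem chkP_14700 : allRange (fun p => checkPoint cert p && checkOrb cert p) 14700 100 = true := by decide +kernel
theorem chkP_15300 : allRange (fun p => checkPoint cert p && checkOrb cert p) 15300 100 = true := by decide +kernel
theorem chkP_15900 : allRange (fun p => checkPoint cert p && checkOrb cert p) 15900 100 = true := by decide +kernel
theorem chkP_16500 : allRange (fun p => checkPoint cert p && checkOrb cert p) 16500 100 = true := by decide +kernel
theorem chkP_17100 : allRange (fun p => checkPoint cert p && checkOrb cert p) 17100 100 = true := by decide +kernel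
theorem chkP_17700 : allRange (fun p => checkPoint cert p && checkOrb cert p) 17700 100 = true := by decide +kernel
theorem chkP_18300 : allRange (fun p => checkPoint cert p && checkOrb cert p) 18300 100 = true := by decide +kernel
theorem chkP_18900 : allRange (fun p => checkPoint cert p && checkOrb cert p) 18900 100 = true := by decide +kernel
theorem chkP_19500 : allRange (fun p => checkPoint cert p && checkOrb cert p) 19500 100 = true := by decide +kernel
theorem chkP_20100 : allRange (fun p => checkPoint cert p && checkOrb cert p) 20100 100 = true := by decide +kernel
theorem chkP_20700 : allRange (fun p => checkPoint cert p && checkOrb cert p) 20700 100 = true := by decide +kernel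
theorem chkP_21300 : allRange (fun p => checkPoint cert p && checkOrb cert p) 21300 100 = true := by decide +kernel
theorem chkP_21900 : allRange (fun p => checkPoint cert p && checkOrb cert p) 21900 100 = true := by decide +kernel
theorem chkP_22500 : allRange (fun p => checkPoint cert p && checkOrb cert p) 22500 100 = true := by decide +kernel

end Cfsg.Agent.Lib.Helper28.Suz2Data
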