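import Cfsg.Agent.Lib.Helper28.Suz2Chk0
import Cfsg.Agent.Lib.Helper28.Suz2Chk1
import Cfsg.Agent.Lib.Helper28.Suz2Chk2
import Cfsg.Agent.Lib.Helper28.Suz2Chk3
import Cfsg.Agent.Lib.Helper28.Suz2Chk4
import Cfsg.Agent.Lib.Helper28.Suz2Chk5
import Cfsg.Agent.Lib.Helper28.TCOrbit

set_option autoImplicit false
set_option linter.all false
set_option Elab.async false

namespace Cfsg.Agent.Lib.Helper28.Suz2Data

open Cfsg.Agent.Lib.Helper28

theorem chkG : checkGlobal cert = true := by decide +kernel

theorem chkR2 : checkRels2 cert = true := by decide +kernel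

theorem facts_ok : ∀ i, i < cert.nF → checkFact cert i = true := by
  intro i hi
  have hn : cert.nF = 182715 := rfl
  rw [hn] at hi
  rcases Nat.lt_or_ge i 2000 with h | h
  · exact allRange_sound _ 0 2000 chkF_0 i (by omega) (by omega)
  rcases Nat.lt_or_ge i 4000 with h | h
  · exact allRange_sound _ 2000 2000 chkF_2000 i (by omega) (by omega)
  rcases Nat.lt_or_ge i 6000 with h | h
  · exact allRange_sound _ 4000 2000 chkF_4000 i (by omega) (by omega)
  rcases Nat.lt_or_ge i 8000 with h | h
  · exact allRange_sound _ 6000 2000 chkF_6000 i (by omega) (by omega)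
  rcases Nat.lt_or_ge i 10000 with h | h
  · exact allRange_sound _ 8000 2000 chkF_8000 i (by omega) (by omega)
  rcases Nat.lt_or_ge i 12000 with h | h
  · exact allRange_sound _ 10000 2000 chkF_10000 i (by omega) (by omega)
  rcases Nat.lt_or_ge i 14000 with h | h
  · exact allRange_sound _ 12000 2000 chkF_12000 i (by omega) (by omega)
  rcases Nat.lt_or_ge i 16000 with h | h
  · exact allRange_sound _ 14000 2000 chkF_14000 i (by omega) (by omega)
  rcases Nat.lt_or_ge i 18000 with h | h
  · exact allRange_sound _ 16000 2000 chkF_16000 i (by omega) (by omega)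
  rcases Nat.lt_or_ge i 20000 with h | h
  · exact allRange_sound _ 18000 2000 chkF_18000 i (by omega) (by omega)
  rcases Nat.lt_or_ge i 22000 with h | h
  · exact allRange_sound _ 20000 2000 chkF_20000 i (by omega) (by omega)
  rcases Nat.lt_or_ge i 24000 with h | h
  · exact allRange_sound _ 22000 2000 chkF_22000 i (by omega) (by omega)
  rcases Nat.lt_or_ge i 26000 with h | h
  · exact allRange_sound _ 24000 2000 chkF_24000 i (by omega) (by omega)
  rcases Nat.lt_or_ge i 28000 with h | h
  · exact allRange_sound _ 26000 2000 chkF_26000 i (by omega) (by omega)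
  rcases Nat.lt_or_ge i 30000 with h | h
  · exact allRange_sound _ 28000 2000 chkF_28000 i (by omega) (by omega)
  rcases Nat.lt_or_ge i 32000 with h | h
  · exact allRange_sound _ 30000 2000 chkF_30000 i (by omega) (by omega)
  rcases Nat.lt_or_ge i 34000 with h | h
  · exact allRange_sound _ 32000 2000 chkF_32000 i (by omega) (by omega)
  rcases Nat.lt_or_ge i 36000 with h | h
  · exact allRange_sound _ 34000 2000 chkF_34000 i (by omega) (by omega)
  rcases Nat.lt_or_ge i 38000 with h | h
  · exact allRange_sound _ 36000 2000 chkF_36000 i (by omega) (by omega)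
  rcases Nat.lt_or_ge i 40000 with h | h
  · exact allRange_sound _ 38000 2000 chkF_38000 i (by omega) (by omega)
  rcases Nat.lt_or_ge i 42000 with h | h
  · exact allRange_sound _ 40000 2000 chkF_40000 i (by omega) (by omega)
  rcases Nat.lt_or_ge i 44000 with h | h
  · exact allRange_sound _ 42000 2000 chkF_42000 i (by omega) (by omega)
  rcases Nat.lt_or_ge i 46000 with h | h
  · exact allRange_sound _ 44000 2000 chkF_44000 i (by omega) (by omega)
  rcases Nat.lt_or_ge i 48000 with h | h
  · exact allRange_sound _ 46000 2000 chkF_46000 i (by omega) (by omega)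
  rcases Nat.lt_or_ge i 50000 with h | h
  · exact allRange_sound _ 48000 2000 chkF_48000 i (by omega) (by omega)
  rcases Nat.lt_or_ge i 52000 with h | h
  · exact allRange_sound _ 50000 2000 chkF_50000 i (by omega) (by omega)
  rcases Nat.lt_or_ge i 54000 with h | h
  · exact allRange_sound _ 52000 2000 chkF_52000 i (by omega) (by omega)
  rcases Nat.lt_or_ge i 56000 with h | h
  · exact allRange_sound _ 54000 2000 chkF_54000 i (by omega) (by omega)
  rcases Nat.lt_or_ge i 58000 with h | h
  · exact allRange_sound _ 56000 2000 chkF_56000 i (by omega) (by omega)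
  rcases Nat.lt_or_ge i 60000 with h | h
  · exact allRange_sound _ 58000 2000 chkF_58000 i (by omega) (by omega)
  rcases Nat.lt_or_ge i 62000 with h | h
  · exact allRange_sound _ 60000 2000 chkF_60000 i (by omega) (by omega)
  rcases Nat.lt_or_ge i 64000 with h | h
  · exact allRange_sound _ 62000 2000 chkF_62000 i (by omega) (by omega)
  rcases Nat.lt_or_ge i 66000 with h | h
  · exact allRange_sound _ 64000 2000 chkF_64000 i (by omega) (by omega)
  rcases Nat.lt_or_ge i 68000 with h | h
  · exact allRange_sound _ 66000 2000 chkF_66000 i (by omega) (by omega)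
  rcases Nat.lt_or_ge i 70000 with h | h
  · exact allRange_sound _ 68000 2000 chkF_68000 i (by omega) (by omega)
  rcases Nat.lt_or_ge i 72000 with h | h
  · exact allRange_sound _ 70000 2000 chkF_70000 i (by omega) (by omega)
  rcases Nat.lt_or_ge i 74000 with h | h
  · exact allRange_sound _ 72000 2000 chkF_72000 i (by omega) (by omega)
  rcases Nat.lt_or_ge i 76000 with h | h
  · exact allRange_sound _ 74000 2000 chkF_74000 i (by omega) (by omega)
  rcases Nat.lt_or_ge i 78000 with h | h
  · exact allRange_sound _ 76000 2000 chkF_76000 i (by omega) (by omega)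
  rcases Nat.lt_or_ge i 80000 with h | h
  · exact allRange_sound _ 78000 2000 chkF_78000 i (by omega) (by omega)
  rcases Nat.lt_or_ge i 82000 with h | h
  · exact allRange_sound _ 80000 2000 chkF_80000 i (by omega) (by omega)
  rcases Nat.lt_or_ge i 84000 with h | h
  · exact allRange_sound _ 82000 2000 chkF_82000 i (by omega) (by omega)
  rcases Nat.lt_or_ge i 86000 with h | h
  · exact allRange_sound _ 84000 2000 chkF_84000 i (by omega) (by omega)
  rcases Nat.lt_or_ge i 88000 with h | h
  · exact allRange_sound _ 86000 2000 chkF_86000 i (by omega) (by omega)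
  rcases Nat.lt_or_ge i 90000 with h | h
  · exact allRange_sound _ 88000 2000 chkF_88000 i (by omega) (by omega)
  rcases Nat.lt_or_ge i 92000 with h | h
  · exact allRange_sound _ 90000 2000 chkF_90000 i (by omega) (by omega)
  rcases Nat.lt_or_ge i 94000 with h | h
  · exact allRange_sound _ 92000 2000 chkF_92000 i (by omega) (by omega)
  rcases Nat.lt_or_ge i 96000 with h | h
  · exact allRange_sound _ 94000 2000 chkF_94000 i (by omega) (by omega)
  rcases Nat.lt_or_ge i 98000 with h | h
  · exact allRange_sound _ 96000 2000 chkF_96000 i (by omega) (by omega)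
  rcases Nat.lt_or_ge i 100000 with h | h
  · exact allRange_sound _ 98000 2000 chkF_98000 i (by omega) (by omega)
  rcases Nat.lt_or_ge i 102000 with h | h
  · exact allRange_sound _ 100000 2000 chkF_100000 i (by omega) (by omega)
  rcases Nat.lt_or_ge i 104000 with h | h
  · exact allRange_sound _ 102000 2000 chkF_102000 i (by omega) (by omega)
  rcases Nat.lt_or_ge i 106000 with h | h
  · exact allRange_sound _ 104000 2000 chkF_104000 i (by omega) (by omega)
  rcases Nat.lt_or_ge i 108000 with h | h
  · exact allRange_sound _ 106000 2000 chkF_106000 i (by omega) (by omega)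
  rcases Nat.lt_or_ge i 110000 with h | h
  · exact allRange_sound _ 108000 2000 chkF_108000 i (by omega) (by omega)
  rcases Nat.lt_or_ge i 112000 with h | h
  · exact allRange_sound _ 110000 2000 chkF_110000 i (by omega) (by omega)
  rcases Nat.lt_or_ge i 114000 with h | h
  · exact allRange_sound _ 112000 2000 chkF_112000 i (by omega) (by omega)
  rcases Nat.lt_or_ge i 116000 with h | h
  · exact allRange_sound _ 114000 2000 chkF_114000 i (by omega) (by omega)
  rcases Nat.lt_or_ge i 118000 with h | h
  · exact allRange_sound _ 116000 2000 chkF_116000 i (by omega) (by omega)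
  rcases Nat.lt_or_ge i 120000 with h | h
  · exact allRange_sound _ 118000 2000 chkF_118000 i (by omega) (by omega)
  rcases Nat.lt_or_ge i 122000 with h | h
  · exact allRange_sound _ 120000 2000 chkF_120000 i (by omega) (by omega)
  rcases Nat.lt_or_ge i 124000 with h | h
  · exact allRange_sound _ 122000 2000 chkF_122000 i (by omega) (by omega)
  rcases Nat.lt_or_ge i 126000 with h | h
  · exact allRange_sound _ 124000 2000 chkF_124000 i (by omega) (by omega)
  rcases Nat.lt_or_ge i 128000 with h | h
  · exact allRange_sound _ 126000 2000 chkF_126000 i (by omega) (by omega)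
  rcases Nat.lt_or_ge i 130000 with h | h
  · exact allRange_sound _ 128000 2000 chkF_128000 i (by omega) (by omega)
  rcases Nat.lt_or_ge i 132000 with h | h
  · exact allRange_sound _ 130000 2000 chkF_130000 i (by omega) (by omega)
  rcases Nat.lt_or_ge i 134000 with h | h
  · exact allRange_sound _ 132000 2000 chkF_132000 i (by omega) (by omega)
  rcases Nat.lt_or_ge i 136000 with h | h
  · exact allRange_sound _ 134000 2000 chkF_134000 i (by omega) (by omega)
  rcases Nat.lt_or_ge i 138000 with h | h
  · exact allRange_sound _ 136000 2000 chkF_136000 i (by omega) (by omega)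
  rcases Nat.lt_or_ge i 140000 with h | h
  · exact allRange_sound _ 138000 2000 chkF_138000 i (by omega) (by omega)
  rcases Nat.lt_or_ge i 142000 with h | h
  · exact allRange_sound _ 140000 2000 chkF_140000 i (by omega) (by omega)
  rcases Nat.lt_or_ge i 144000 with h | h
  · exact allRange_sound _ 142000 2000 chkF_142000 i (by omega) (by omega)
  rcases Nat.lt_or_ge i 146000 with h | h
  · exact allRange_sound _ 144000 2000 chkF_144000 i (by omega) (by omega)
  rcases Nat.lt_or_ge i 148000 with h | h
  · exact allRange_sound _ 146000 2000 chkF_146000 i (by omega) (by omega)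
  rcases Nat.lt_or_ge i 150000 with h | h
  · exact allRange_sound _ 148000 2000 chkF_148000 i (by omega) (by omega)
  rcases Nat.lt_or_ge i 152000 with h | h
  · exact allRange_sound _ 150000 2000 chkF_150000 i (by omega) (by omega)
  rcases Nat.lt_or_ge i 154000 with h | h
  · exact allRange_sound _ 152000 2000 chkF_152000 i (by omega) (by omega)
  rcases Nat.lt_or_ge i 156000 with h | h
  · exact allRange_sound _ 154000 2000 chkF_154000 i (by omega) (by omega)
  rcases Nat.lt_or_ge i 158000 with h | h
  · exact allRange_sound _ 156000 2000 chkF_156000 i (by omega) (by omega)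
  rcases Nat.lt_or_ge i 160000 with h | h
  · exact allRange_sound _ 158000 2000 chkF_158000 i (by omega) (by omega)
  rcases Nat.lt_or_ge i 162000 with h | h
  · exact allRange_sound _ 160000 2000 chkF_160000 i (by omega) (by omega)
  rcases Nat.lt_or_ge i 164000 with h | h
  · exact allRange_sound _ 162000 2000 chkF_162000 i (by omega) (by omega)
  rcases Nat.lt_or_ge i 166000 with h | h
  · exact allRange_sound _ 164000 2000 chkF_164000 i (by omega) (by omega)
  rcases Nat.lt_or_ge i 168000 with h | h
  · exact allRange_sound _ 166000 2000 chkF_166000 i (by omega) (by omega)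
  rcases Nat.lt_or_ge i 170000 with h | h
  · exact allRange_sound _ 168000 2000 chkF_168000 i (by omega) (by omega)
  rcases Nat.lt_or_ge i 172000 with h | h
  · exact allRange_sound _ 170000 2000 chkF_170000 i (by omega) (by omega)
  rcases Nat.lt_or_ge i 174000 with h | h
  · exact allRange_sound _ 172000 2000 chkF_172000 i (by omega) (by omega)
  rcases Nat.lt_or_ge i 176000 with h | h
  · exact allRange_sound _ 174000 2000 chkF_174000 i (by omega) (by omega)
  rcases Nat.lt_or_ge i 178000 with h | h
  · exact allRange_sound _ 176000 2000 chkF_176000 i (by omega) (by omega)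
  rcases Nat.lt_or_ge i 180000 with h | h
  · exact allRange_sound _ 178000 2000 chkF_178000 i (by omega) (by omega)
  rcases Nat.lt_or_ge i 182000 with h | h
  · exact allRange_sound _ 180000 2000 chkF_180000 i (by omega) (by omega)
  exact allRange_sound _ 182000 715 chkF_182000 i (by omega) (by omega)

theorem pts_both : ∀ p, p < cert.n → (checkPoint cert p && checkOrb cert p) = true := by
  intro i hi
  have hn : cert.n = 22880 := rfl
  rw [hn] at hi
  rcases Nat.lt_or_ge i 100 with h | h
  · exact allRange_sound _ 0 100 chkP_0 i (by omega) (by omega)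
  rcases Nat.lt_or_ge i 200 with h | h
  · exact allRange_sound _ 100 100 chkP_100 i (by omega) (by omega)
  rcases Nat.lt_or_ge i 300 with h | h
  · exact allRange_sound _ 200 100 chkP_200 i (by omega) (by omega)
  rcases Nat.lt_or_ge i 400 with h | h
  · exact allRange_sound _ 300 100 chkP_300 i (by omega) (by omega)
  rcases Nat.lt_or_ge i 500 with h | h
  · exact allRange_sound _ 400 100 chkP_400 i (by omega) (by omega)
  rcases Nat.lt_or_ge i 600 with h | h
  · exact allRange_sound _ 500 100 chkP_500 i (by omega) (by omega)
  rcases Nat.lt_or_ge i 700 with h | h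
  · exact allRange_sound _ 600 100 chkP_600 i (by omega) (by omega)
  rcases Nat.lt_or_ge i 800 with h | h
  · exact allRange_sound _ 700 100 chkP_700 i (by omega) (by omega)
  rcases Nat.lt_or_ge i 900 with h | h
  · exact allRange_sound _ 800 100 chkP_800 i (by omega) (by omega)
  rcases Nat.lt_or_ge i 1000 with h | h
  · exact allRange_sound _ 900 100 chkP_900 i (by omega) (by omega)
  rcases Nat.lt_or_ge i 1100 with h | h
  · exact allRange_sound _ 1000 100 chkP_1000 i (by omega) (by omega)
  rcases Nat.lt_or_ge i 1200 with h | h
  · exact allRange_sound _ 1100 100 chkP_1100 i (by omega) (by omega)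
  rcases Nat.lt_or_ge i 1300 with h | h
  · exact allRange_sound _ 1200 100 chkP_1200 i (by omega) (by omega)
  rcases Nat.lt_or_ge i 1400 with h | h
  · exact allRange_sound _ 1300 100 chkP_1300 i (by omega) (by omega)
  rcases Nat.lt_or_ge i 1500 with h | h
  · exact allRange_sound _ 1400 100 chkP_1400 i (by omega) (by omega)
  rcases Nat.lt_or_ge i 1600 with h | h
  · exact allRange_sound _ 1500 100 chkP_1500 i (by omega) (by omega)
  rcases Nat.lt_or_ge i 1700 with h | h
  · exact allRange_sound _ 1600 100 chkP_1600 i (by omega) (by omega)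
  rcases Nat.lt_or_ge i 1800 with h | h
  · exact allRange_sound _ 1700 100 chkP_1700 i (by omega) (by omega)
  rcases Nat.lt_or_ge i 1900 with h | h
  · exact allRange_sound _ 1800 100 chkP_1800 i (by omega) (by omega)
  rcases Nat.lt_or_ge i 2000 with h | h
  · exact allRange_sound _ 1900 100 chkP_1900 i (by omega) (by omega)
  rcases Nat.lt_or_ge i 2100 with h | h
  · exact allRange_sound _ 2000 100 chkP_2000 i (by omega) (by omega)
  rcases Nat.lt_or_ge i 2200 with h | h
  · exact allRange_sound _ 2100 100 chkP_2100 i (by omega) (by omega)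
  rcases Nat.lt_or_ge i 2300 with h | h
  · exact allRange_sound _ 2200 100 chkP_2200 i (by omega) (by omega)
  rcases Nat.lt_or_ge i 2400 with h | h
  · exact allRange_sound _ 2300 100 chkP_2300 i (by omega) (by omega)
  rcases Nat.lt_or_ge i 2500 with h | h
  · exact allRange_sound _ 2400 100 chkP_2400 i (by omega) (by omega)
  rcases Nat.lt_or_ge i 2600 with h | h
  · exact allRange_sound _ 2500 100 chkP_2500 i (by omega) (by omega)
  rcases Nat.lt_or_ge i 2700 with h | h
  · exact allRange_sound _ 2600 100 chkP_2600 i (by omega) (by omega)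
  rcases Nat.lt_or_ge i 2800 with h | h
  · exact allRange_sound _ 2700 100 chkP_2700 i (by omega) (by omega)
  rcases Nat.lt_or_ge i 2900 with h | h
  · exact allRange_sound _ 2800 100 chkP_2800 i (by omega) (by omega)
  rcases Nat.lt_or_ge i 3000 with h | h
  · exact allRange_sound _ 2900 100 chkP_2900 i (by omega) (by omega)
  rcases Nat.lt_or_ge i 3100 with h | h
  · exact allRange_sound _ 3000 100 chkP_3000 i (by omega) (by omega)
  rcases Nat.lt_or_ge i 3200 with h | h
  · exact allRange_sound _ 3100 100 chkP_3100 i (by omega) (by omega)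
  rcases Nat.lt_or_ge i 3300 with h | h
  · exact allRange_sound _ 3200 100 chkP_3200 i (by omega) (by omega)
  rcases Nat.lt_or_ge i 3400 with h | h
  · exact allRange_sound _ 3300 100 chkP_3300 i (by omega) (by omega)
  rcases Nat.lt_or_ge i 3500 with h | h
  · exact allRange_sound _ 3400 100 chkP_3400 i (by omega) (by omega)
  rcases Nat.lt_or_ge i 3600 with h | h
  · exact allRange_sound _ 3500 100 chkP_3500 i (by omega) (by omega)
  rcases Nat.lt_or_ge i 3700 with h | h
  · exact allRange_sound _ 3600 100 chkP_3600 i (by omega) (by omega)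
  rcases Nat.lt_or_ge i 3800 with h | h
  · exact allRange_sound _ 3700 100 chkP_3700 i (by omega) (by omega)
  rcases Nat.lt_or_ge i 3900 with h | h
  · exact allRange_sound _ 3800 100 chkP_3800 i (by omega) (by omega)
  rcases Nat.lt_or_ge i 4000 with h | h
  · exact allRange_sound _ 3900 100 chkP_3900 i (by omega) (by omega)
  rcases Nat.lt_or_ge i 4100 with h | h
  · exact allRange_sound _ 4000 100 chkP_4000 i (by omega) (by omega)
  rcases Nat.lt_or_ge i 4200 with h | h
  · exact allRange_sound _ 4100 100 chkP_4100 i (by omega) (by omega)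
  rcases Nat.lt_or_ge i 4300 with h | h
  · exact allRange_sound _ 4200 100 chkP_4200 i (by omega) (by omega)
  rcases Nat.lt_or_ge i 4400 with h | h
  · exact allRange_sound _ 4300 100 chkP_4300 i (by omega) (by omega)
  rcases Nat.lt_or_ge i 4500 with h | h
  · exact allRange_sound _ 4400 100 chkP_4400 i (by omega) (by omega)
  rcases Nat.lt_or_ge i 4600 with h | h
  · exact allRange_sound _ 4500 100 chkP_4500 i (by omega) (by omega)
  rcases Nat.lt_or_ge i 4700 with h | h
  · exact allRange_sound _ 4600 100 chkP_4600 i (by omega) (by omega)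
  rcases Nat.lt_or_ge i 4800 with h | h
  · exact allRange_sound _ 4700 100 chkP_4700 i (by omega) (by omega)
  rcases Nat.lt_or_ge i 4900 with h | h
  · exact allRange_sound _ 4800 100 chkP_4800 i (by omega) (by omega)
  rcases Nat.lt_or_ge i 5000 with h | h
  · exact allRange_sound _ 4900 100 chkP_4900 i (by omega) (by omega)
  rcases Nat.lt_or_ge i 5100 with h | h
  · exact allRange_sound _ 5000 100 chkP_5000 i (by omega) (by omega)
  rcases Nat.lt_or_ge i 5200 with h | h
  · exact allRange_sound _ 5100 100 chkP_5100 i (by omega) (by omega)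
  rcases Nat.lt_or_ge i 5300 with h | h
  · exact allRange_sound _ 5200 100 chkP_5200 i (by omega) (by omega)
  rcases Nat.lt_or_ge i 5400 with h | h
  · exact allRange_sound _ 5300 100 chkP_5300 i (by omega) (by omega)
  rcases Nat.lt_or_ge i 5500 with h | h
  · exact allRange_sound _ 5400 100 chkP_5400 i (by omega) (by omega)
  rcases Nat.lt_or_ge i 5600 with h | h
  · exact allRange_sound _ 5500 100 chkP_5500 i (by omega) (by omega)
  rcases Nat.lt_or_ge i 5700 with h | h
  · exact allRange_sound _ 5600 100 chkP_5600 i (by omega) (by omega)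
  rcases Nat.lt_or_ge i 5800 with h | h
  · exact allRange_sound _ 5700 100 chkP_5700 i (by omega) (by omega)
  rcases Nat.lt_or_ge i 5900 with h | h
  · exact allRange_sound _ 5800 100 chkP_5800 i (by omega) (by omega)
  rcases Nat.lt_or_ge i 6000 with h | h
  · exact allRange_sound _ 5900 100 chkP_5900 i (by omega) (by omega)
  rcases Nat.lt_or_ge i 6100 with h | h
  · exact allRange_sound _ 6000 100 chkP_6000 i (by omega) (by omega)
  rcases Nat.lt_or_ge i 6200 with h | h
  · exact allRange_sound _ 6100 100 chkP_6100 i (by omega) (by omega)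
  rcases Nat.lt_or_ge i 6300 with h | h
  · exact allRange_sound _ 6200 100 chkP_6200 i (by omega) (by omega)
  rcases Nat.lt_or_ge i 6400 with h | h
  · exact allRange_sound _ 6300 100 chkP_6300 i (by omega) (by omega)
  rcases Nat.lt_or_ge i 6500 with h | h
  · exact allRange_sound _ 6400 100 chkP_6400 i (by omega) (by omega)
  rcases Nat.lt_or_ge i 6600 with h | h
  · exact allRange_sound _ 6500 100 chkP_6500 i (by omega) (by omega)
  rcases Nat.lt_or_ge i 6700 with h | h
  · exact allRange_sound _ 6600 100 chkP_6600 i (by omega) (by omega)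
  rcases Nat.lt_or_ge i 6800 with h | h
  · exact allRange_sound _ 6700 100 chkP_6700 i (by omega) (by omega)
  rcases Nat.lt_or_ge i 6900 with h | h
  · exact allRange_sound _ 6800 100 chkP_6800 i (by omega) (by omega)
  rcases Nat.lt_or_ge i 7000 with h | h
  · exact allRange_sound _ 6900 100 chkP_6900 i (by omega) (by omega)
  rcases Nat.lt_or_ge i 7100 with h | h
  · exact allRange_sound _ 7000 100 chkP_7000 i (by omega) (by omega)
  rcases Nat.lt_or_ge i 7200 with h | h
  · exact allRange_sound _ 7100 100 chkP_7100 i (by omega) (by omega)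
  rcases Nat.lt_or_ge i 7300 with h | h
  · exact allRange_sound _ 7200 100 chkP_7200 i (by omega) (by omega)
  rcases Nat.lt_or_ge i 7400 with h | h
  · exact allRange_sound _ 7300 100 chkP_7300 i (by omega) (by omega)
  rcases Nat.lt_or_ge i 7500 with h | h
  · exact allRange_sound _ 7400 100 chkP_7400 i (by omega) (by omega)
  rcases Nat.lt_or_ge i 7600 with h | h
  · exact allRange_sound _ 7500 100 chkP_7500 i (by omega) (by omega)
  rcases Nat.lt_or_ge i 7700 with h | h
  · exact allRange_sound _ 7600 100 chkP_7600 i (by omega) (by omega)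
  rcases Nat.lt_or_ge i 7800 with h | h
  · exact allRange_sound _ 7700 100 chkP_7700 i (by omega) (by omega)
  rcases Nat.lt_or_ge i 7900 with h | h
  · exact allRange_sound _ 7800 100 chkP_7800 i (by omega) (by omega)
  rcases Nat.lt_or_ge i 8000 with h | h
  · exact allRange_sound _ 7900 100 chkP_7900 i (by omega) (by omega)
  rcases Nat.lt_or_ge i 8100 with h | h
  · exact allRange_sound _ 8000 100 chkP_8000 i (by omega) (by omega)
  rcases Nat.lt_or_ge i 8200 with h | h
  · exact allRange_sound _ 8100 100 chkP_8100 i (by omega) (by omega)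
  rcases Nat.lt_or_ge i 8300 with h | h
  · exact allRange_sound _ 8200 100 chkP_8200 i (by omega) (by omega)
  rcases Nat.lt_or_ge i 8400 with h | h
  · exact allRange_sound _ 8300 100 chkP_8300 i (by omega) (by omega)
  rcases Nat.lt_or_ge i 8500 with h | h
  · exact allRange_sound _ 8400 100 chkP_8400 i (by omega) (by omega)
  rcases Nat.lt_or_ge i 8600 with h | h
  · exact allRange_sound _ 8500 100 chkP_8500 i (by omega) (by omega)
  rcases Nat.lt_or_ge i 8700 with h | h
  · exact allRange_sound _ 8600 100 chkP_8600 i (by omega) (by omega)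
  rcases Nat.lt_or_ge i 8800 with h | h
  · exact allRange_sound _ 8700 100 chkP_8700 i (by omega) (by omega)
  rcases Nat.lt_or_ge i 8900 with h | h
  · exact allRange_sound _ 8800 100 chkP_8800 i (by omega) (by omega)
  rcases Nat.lt_or_ge i 9000 with h | h
  · exact allRange_sound _ 8900 100 chkP_8900 i (by omega) (by omega)
  rcases Nat.lt_or_ge i 9100 with h | h
  · exact allRange_sound _ 9000 100 chkP_9000 i (by omega) (by omega)
  rcases Nat.lt_or_ge i 9200 with h | h
  · exact allRange_sound _ 9100 100 chkP_9100 i (by omega) (by omega)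
  rcases Nat.lt_or_ge i 9300 with h | h
  · exact allRange_sound _ 9200 100 chkP_9200 i (by omega) (by omega)
  rcases Nat.lt_or_ge i 9400 with h | h
  · exact allRange_sound _ 9300 100 chkP_9300 i (by omega) (by omega)
  rcases Nat.lt_or_ge i 9500 with h | h
  · exact allRange_sound _ 9400 100 chkP_9400 i (by omega) (by omega)
  rcases Nat.lt_or_ge i 9600 with h | h
  · exact allRange_sound _ 9500 100 chkP_9500 i (by omega) (by omega)
  rcases Nat.lt_or_ge i 9700 with h | h
  · exact allRange_sound _ 9600 100 chkP_9600 i (by omega) (by omega)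
  rcases Nat.lt_or_ge i 9800 with h | h
  · exact allRange_sound _ 9700 100 chkP_9700 i (by omega) (by omega)
  rcases Nat.lt_or_ge i 9900 with h | h
  · exact allRange_sound _ 9800 100 chkP_9800 i (by omega) (by omega)
  rcases Nat.lt_or_ge i 10000 with h | h
  · exact allRange_sound _ 9900 100 chkP_9900 i (by omega) (by omega)
  rcases Nat.lt_or_ge i 10100 with h | h
  · exact allRange_sound _ 10000 100 chkP_10000 i (by omega) (by omega)
  rcases Nat.lt_or_ge i 10200 with h | h
  · exact allRange_sound _ 10100 100 chkP_10100 i (by omega) (by omega)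
  rcases Nat.lt_or_ge i 10300 with h | h
  · exact allRange_sound _ 10200 100 chkP_10200 i (by omega) (by omega)
  rcases Nat.lt_or_ge i 10400 with h | h
  · exact allRange_sound _ 10300 100 chkP_10300 i (by omega) (by omega)
  rcases Nat.lt_or_ge i 10500 with h | h
  · exact allRange_sound _ 10400 100 chkP_10400 i (by omega) (by omega)
  rcases Nat.lt_or_ge i 10600 with h | h
  · exact allRange_sound _ 10500 100 chkP_10500 i (by omega) (by omega)
  rcases Nat.lt_or_ge i 10700 with h | h
  · exact allRange_sound _ 10600 100 chkP_10600 i (by omega) (by omega)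
  rcases Nat.lt_or_ge i 10800 with h | h
  · exact allRange_sound _ 10700 100 chkP_10700 i (by omega) (by omega)
  rcases Nat.lt_or_ge i 10900 with h | h
  · exact allRange_sound _ 10800 100 chkP_10800 i (by omega) (by omega)
  rcases Nat.lt_or_ge i 11000 with h | h
  · exact allRange_sound _ 10900 100 chkP_10900 i (by omega) (by omega)
  rcases Nat.lt_or_ge i 11100 with h | h
  · exact allRange_sound _ 11000 100 chkP_11000 i (by omega) (by omega)
  rcases Nat.lt_or_ge i 11200 with h | h
  · exact allRange_sound _ 11100 100 chkP_11100 i (by omega) (by omega)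
  rcases Nat.lt_or_ge i 11300 with h | h
  · exact allRange_sound _ 11200 100 chkP_11200 i (by omega) (by omega)
  rcases Nat.lt_or_ge i 11400 with h | h
  · exact allRange_sound _ 11300 100 chkP_11300 i (by omega) (by omega)
  rcases Nat.lt_or_ge i 11500 with h | h
  · exact allRange_sound _ 11400 100 chkP_11400 i (by omega) (by omega)
  rcases Nat.lt_or_ge i 11600 with h | h
  · exact allRange_sound _ 11500 100 chkP_11500 i (by omega) (by omega)
  rcases Nat.lt_or_ge i 11700 with h | h
  · exact allRange_sound _ 11600 100 chkP_11600 i (by omega) (by omega)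
  rcases Nat.lt_or_ge i 11800 with h | h
  · exact allRange_sound _ 11700 100 chkP_11700 i (by omega) (by omega)
  rcases Nat.lt_or_ge i 11900 with h | h
  · exact allRange_sound _ 11800 100 chkP_11800 i (by omega) (by omega)
  rcases Nat.lt_or_ge i 12000 with h | h
  · exact allRange_sound _ 11900 100 chkP_11900 i (by omega) (by omega)
  rcases Nat.lt_or_ge i 12100 with h | h
  · exact allRange_sound _ 12000 100 chkP_12000 i (by omega) (by omega)
  rcases Nat.lt_or_ge i 12200 with h | h
  · exact allRange_sound _ 12100 100 chkP_12100 i (by omega) (by omega)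
  rcases Nat.lt_or_ge i 12300 with h | h
  · exact allRange_sound _ 12200 100 chkP_12200 i (by omega) (by omega)
  rcases Nat.lt_or_ge i 12400 with h | h
  · exact allRange_sound _ 12300 100 chkP_12300 i (by omega) (by omega)
  rcases Nat.lt_or_ge i 12500 with h | h
  · exact allRange_sound _ 12400 100 chkP_12400 i (by omega) (by omega)
  rcases Nat.lt_or_ge i 12600 with h | h
  · exact allRange_sound _ 12500 100 chkP_12500 i (by omega) (by omega)
  rcases Nat.lt_or_ge i 12700 with h | h
  · exact allRange_sound _ 12600 100 chkP_12600 i (by omega) (by omega)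
  rcases Nat.lt_or_ge i 12800 with h | h
  · exact allRange_sound _ 12700 100 chkP_12700 i (by omega) (by omega)
  rcases Nat.lt_or_ge i 12900 with h | h
  · exact allRange_sound _ 12800 100 chkP_12800 i (by omega) (by omega)
  rcases Nat.lt_or_ge i 13000 with h | h
  · exact allRange_sound _ 12900 100 chkP_12900 i (by omega) (by omega)
  rcases Nat.lt_or_ge i 13100 with h | h
  · exact allRange_sound _ 13000 100 chkP_13000 i (by omega) (by omega)
  rcases Nat.lt_or_ge i 13200 with h | h
  · exact allRange_sound _ 13100 100 chkP_13100 i (by omega) (by omega)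
  rcases Nat.lt_or_ge i 13300 with h | h
  · exact allRange_sound _ 13200 100 chkP_13200 i (by omega) (by omega)
  rcases Nat.lt_or_ge i 13400 with h | h
  · exact allRange_sound _ 13300 100 chkP_13300 i (by omega) (by omega)
  rcases Nat.lt_or_ge i 13500 with h | h
  · exact allRange_sound _ 13400 100 chkP_13400 i (by omega) (by omega)
  rcases Nat.lt_or_ge i 13600 with h | h
  · exact allRange_sound _ 13500 100 chkP_13500 i (by omega) (by omega)
  rcases Nat.lt_or_ge i 13700 with h | h
  · exact allRange_sound _ 13600 100 chkP_13600 i (by omega) (by omega)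
  rcases Nat.lt_or_ge i 13800 with h | h
  · exact allRange_sound _ 13700 100 chkP_13700 i (by omega) (by omega)
  rcases Nat.lt_or_ge i 13900 with h | h
  · exact allRange_sound _ 13800 100 chkP_13800 i (by omega) (by omega)
  rcases Nat.lt_or_ge i 14000 with h | h
  · exact allRange_sound _ 13900 100 chkP_13900 i (by omega) (by omega)
  rcases Nat.lt_or_ge i 14100 with h | h
  · exact allRange_sound _ 14000 100 chkP_14000 i (by omega) (by omega)
  rcases Nat.lt_or_ge i 14200 with h | h
  · exact allRange_sound _ 14100 100 chkP_14100 i (by omega) (by omega)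
  rcases Nat.lt_or_ge i 14300 with h | h
  · exact allRange_sound _ 14200 100 chkP_14200 i (by omega) (by omega)
  rcases Nat.lt_or_ge i 14400 with h | h
  · exact allRange_sound _ 14300 100 chkP_14300 i (by omega) (by omega)
  rcases Nat.lt_or_ge i 14500 with h | h
  · exact allRange_sound _ 14400 100 chkP_14400 i (by omega) (by omega)
  rcases Nat.lt_or_ge i 14600 with h | h
  · exact allRange_sound _ 14500 100 chkP_14500 i (by omega) (by omega)
  rcases Nat.lt_or_ge i 14700 with h | h
  · exact allRange_sound _ 14600 100 chkP_14600 i (by omega) (by omega)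
  rcases Nat.lt_or_ge i 14800 with h | h
  · exact allRange_sound _ 14700 100 chkP_14700 i (by omega) (by omega)
  rcases Nat.lt_or_ge i 14900 with h | h
  · exact allRange_sound _ 14800 100 chkP_14800 i (by omega) (by omega)
  rcases Nat.lt_or_ge i 15000 with h | h
  · exact allRange_sound _ 14900 100 chkP_14900 i (by omega) (by omega)
  rcases Nat.lt_or_ge i 15100 with h | h
  · exact allRange_sound _ 15000 100 chkP_15000 i (by omega) (by omega)
  rcases Nat.lt_or_ge i 15200 with h | h
  · exact allRange_sound _ 15100 100 chkP_15100 i (by omega) (by omega)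
  rcases Nat.lt_or_ge i 15300 with h | h
  · exact allRange_sound _ 15200 100 chkP_15200 i (by omega) (by omega)
  rcases Nat.lt_or_ge i 15400 with h | h
  · exact allRange_sound _ 15300 100 chkP_15300 i (by omega) (by omega)
  rcases Nat.lt_or_ge i 15500 with h | h
  · exact allRange_sound _ 15400 100 chkP_15400 i (by omega) (by omega)
  rcases Nat.lt_or_ge i 15600 with h | h
  · exact allRange_sound _ 15500 100 chkP_15500 i (by omega) (by omega)
  rcases Nat.lt_or_ge i 15700 with h | h
  · exact allRange_sound _ 15600 100 chkP_15600 i (by omega) (by omega)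
  rcases Nat.lt_or_ge i 15800 with h | h
  · exact allRange_sound _ 15700 100 chkP_15700 i (by omega) (by omega)
  rcases Nat.lt_or_ge i 15900 with h | h
  · exact allRange_sound _ 15800 100 chkP_15800 i (by omega) (by omega)
  rcases Nat.lt_or_ge i 16000 with h | h
  · exact allRange_sound _ 15900 100 chkP_15900 i (by omega) (by omega)
  rcases Nat.lt_or_ge i 16100 with h | h
  · exact allRange_sound _ 16000 100 chkP_16000 i (by omega) (by omega)
  rcases Nat.lt_or_ge i 16200 with h | h
  · exact allRange_sound _ 16100 100 chkP_16100 i (by omega) (by omega)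
  rcases Nat.lt_or_ge i 16300 with h | h
  · exact allRange_sound _ 16200 100 chkP_16200 i (by omega) (by omega)
  rcases Nat.lt_or_ge i 16400 with h | h
  · exact allRange_sound _ 16300 100 chkP_16300 i (by omega) (by omega)
  rcases Nat.lt_or_ge i 16500 with h | h
  · exact allRange_sound _ 16400 100 chkP_16400 i (by omega) (by omega)
  rcases Nat.lt_or_ge i 16600 with h | h
  · exact allRange_sound _ 16500 100 chkP_16500 i (by omega) (by omega)
  rcases Nat.lt_or_ge i 16700 with h | h
  · exact allRange_sound _ 16600 100 chkP_16600 i (by omega) (by omega)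
  rcases Nat.lt_or_ge i 16800 with h | h
  · exact allRange_sound _ 16700 100 chkP_16700 i (by omega) (by omega)
  rcases Nat.lt_or_ge i 16900 with h | h
  · exact allRange_sound _ 16800 100 chkP_16800 i (by omega) (by omega)
  rcases Nat.lt_or_ge i 17000 with h | h
  · exact allRange_sound _ 16900 100 chkP_16900 i (by omega) (by omega)
  rcases Nat.lt_or_ge i 17100 with h | h
  · exact allRange_sound _ 17000 100 chkP_17000 i (by omega) (by omega)
  rcases Nat.lt_or_ge i 17200 with h | h
  · exact allRange_sound _ 17100 100 chkP_17100 i (by omega) (by omega)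
  rcases Nat.lt_or_ge i 17300 with h | h
  · exact allRange_sound _ 17200 100 chkP_17200 i (by omega) (by omega)
  rcases Nat.lt_or_ge i 17400 with h | h
  · exact allRange_sound _ 17300 100 chkP_17300 i (by omega) (by omega)
  rcases Nat.lt_or_ge i 17500 with h | h
  · exact allRange_sound _ 17400 100 chkP_17400 i (by omega) (by omega)
  rcases Nat.lt_or_ge i 17600 with h | h
  · exact allRange_sound _ 17500 100 chkP_17500 i (by omega) (by omega)
  rcases Nat.lt_or_ge i 17700 with h | h
  · exact allRange_sound _ 17600 100 chkP_17600 i (by omega) (by omega)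
  rcases Nat.lt_or_ge i 17800 with h | h
  · exact allRange_sound _ 17700 100 chkP_17700 i (by omega) (by omega)
  rcases Nat.lt_or_ge i 17900 with h | h
  · exact allRange_sound _ 17800 100 chkP_17800 i (by omega) (by omega)
  rcases Nat.lt_or_ge i 18000 with h | h
  · exact allRange_sound _ 17900 100 chkP_17900 i (by omega) (by omega)
  rcases Nat.lt_or_ge i 18100 with h | h
  · exact allRange_sound _ 18000 100 chkP_18000 i (by omega) (by omega)
  rcases Nat.lt_or_ge i 18200 with h | h
  · exact allRange_sound _ 18100 100 chkP_18100 i (by omega) (by omega)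
  rcases Nat.lt_or_ge i 18300 with h | h
  · exact allRange_sound _ 18200 100 chkP_18200 i (by omega) (by omega)
  rcases Nat.lt_or_ge i 18400 with h | h
  · exact allRange_sound _ 18300 100 chkP_18300 i (by omega) (by omega)
  rcases Nat.lt_or_ge i 18500 with h | h
  · exact allRange_sound _ 18400 100 chkP_18400 i (by omega) (by omega)
  rcases Nat.lt_or_ge i 18600 with h | h
  · exact allRange_sound _ 18500 100 chkP_18500 i (by omega) (by omega)
  rcases Nat.lt_or_ge i 18700 with h | h
  · exact allRange_sound _ 18600 100 chkP_18600 i (by omega) (by omega)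
  rcases Nat.lt_or_ge i 18800 with h | h
  · exact allRange_sound _ 18700 100 chkP_18700 i (by omega) (by omega)
  rcases Nat.lt_or_ge i 18900 with h | h
  · exact allRange_sound _ 18800 100 chkP_18800 i (by omega) (by omega)
  rcases Nat.lt_or_ge i 19000 with h | h
  · exact allRange_sound _ 18900 100 chkP_18900 i (by omega) (by omega)
  rcases Nat.lt_or_ge i 19100 with h | h
  · exact allRange_sound _ 19000 100 chkP_19000 i (by omega) (by omega)
  rcases Nat.lt_or_ge i 19200 with h | h
  · exact allRange_sound _ 19100 100 chkP_19100 i (by omega) (by omega)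
  rcases Nat.lt_or_ge i 19300 with h | h
  · exact allRange_sound _ 19200 100 chkP_19200 i (by omega) (by omega)
  rcases Nat.lt_or_ge i 19400 with h | h
  · exact allRange_sound _ 19300 100 chkP_19300 i (by omega) (by omega)
  rcases Nat.lt_or_ge i 19500 with h | h
  · exact allRange_sound _ 19400 100 chkP_19400 i (by omega) (by omega)
  rcases Nat.lt_or_ge i 19600 with h | h
  · exact allRange_sound _ 19500 100 chkP_19500 i (by omega) (by omega)
  rcases Nat.lt_or_ge i 19700 with h | h
  · exact allRange_sound _ 19600 100 chkP_19600 i (by omega) (by omega)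
  rcases Nat.lt_or_ge i 19800 with h | h
  · exact allRange_sound _ 19700 100 chkP_19700 i (by omega) (by omega)
  rcases Nat.lt_or_ge i 19900 with h | h
  · exact allRange_sound _ 19800 100 chkP_19800 i (by omega) (by omega)
  rcases Nat.lt_or_ge i 20000 with h | h
  · exact allRange_sound _ 19900 100 chkP_19900 i (by omega) (by omega)
  rcases Nat.lt_or_ge i 20100 with h | h
  · exact allRange_sound _ 20000 100 chkP_20000 i (by omega) (by omega)
  rcases Nat.lt_or_ge i 20200 with h | h
  · exact allRange_sound _ 20100 100 chkP_20100 i (by omega) (by omega)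
  rcases Nat.lt_or_ge i 20300 with h | h
  · exact allRange_sound _ 20200 100 chkP_20200 i (by omega) (by omega)
  rcases Nat.lt_or_ge i 20400 with h | h
  · exact allRange_sound _ 20300 100 chkP_20300 i (by omega) (by omega)
  rcases Nat.lt_or_ge i 20500 with h | h
  · exact allRange_sound _ 20400 100 chkP_20400 i (by omega) (by omega)
  rcases Nat.lt_or_ge i 20600 with h | h
  · exact allRange_sound _ 20500 100 chkP_20500 i (by omega) (by omega)
  rcases Nat.lt_or_ge i 20700 with h | h
  · exact allRange_sound _ 20600 100 chkP_20600 i (by omega) (by omega)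
  rcases Nat.lt_or_ge i 20800 with h | h
  · exact allRange_sound _ 20700 100 chkP_20700 i (by omega) (by omega)
  rcases Nat.lt_or_ge i 20900 with h | h
  · exact allRange_sound _ 20800 100 chkP_20800 i (by omega) (by omega)
  rcases Nat.lt_or_ge i 21000 with h | h
  · exact allRange_sound _ 20900 100 chkP_20900 i (by omega) (by omega)
  rcases Nat.lt_or_ge i 21100 with h | h
  · exact allRange_sound _ 21000 100 chkP_21000 i (by omega) (by omega)
  rcases Nat.lt_or_ge i 21200 with h | h
  · exact allRange_sound _ 21100 100 chkP_21100 i (by omega) (by omega)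
  rcases Nat.lt_or_ge i 21300 with h | h
  · exact allRange_sound _ 21200 100 chkP_21200 i (by omega) (by omega)
  rcases Nat.lt_or_ge i 21400 with h | h
  · exact allRange_sound _ 21300 100 chkP_21300 i (by omega) (by omega)
  rcases Nat.lt_or_ge i 21500 with h | h
  · exact allRange_sound _ 21400 100 chkP_21400 i (by omega) (by omega)
  rcases Nat.lt_or_ge i 21600 with h | h
  · exact allRange_sound _ 21500 100 chkP_21500 i (by omega) (by omega)
  rcases Nat.lt_or_ge i 21700 with h | h
  · exact allRange_sound _ 21600 100 chkP_21600 i (by omega) (by omega)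
  rcases Nat.lt_or_ge i 21800 with h | h
  · exact allRange_sound _ 21700 100 chkP_21700 i (by omega) (by omega)
  rcases Nat.lt_or_ge i 21900 with h | h
  · exact allRange_sound _ 21800 100 chkP_21800 i (by omega) (by omega)
  rcases Nat.lt_or_ge i 22000 with h | h
  · exact allRange_sound _ 21900 100 chkP_21900 i (by omega) (by omega)
  rcases Nat.lt_or_ge i 22100 with h | h
  · exact allRange_sound _ 22000 100 chkP_22000 i (by omega) (by omega)
  rcases Nat.lt_or_ge i 22200 with h | h
  · exact allRange_sound _ 22100 100 chkP_22100 i (by omega) (by omega)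
  rcases Nat.lt_or_ge i 22300 with h | h
  · exact allRange_sound _ 22200 100 chkP_22200 i (by omega) (by omega)
  rcases Nat.lt_or_ge i 22400 with h | h
  · exact allRange_sound _ 22300 100 chkP_22300 i (by omega) (by omega)
  rcases Nat.lt_or_ge i 22500 with h | h
  · exact allRange_sound _ 22400 100 chkP_22400 i (by omega) (by omega)
  rcases Nat.lt_or_ge i 22600 with h | h
  · exact allRange_sound _ 22500 100 chkP_22500 i (by omega) (by omega)
  rcases Nat.lt_or_ge i 22700 with h | h
  · exact allRange_sound _ 22600 100 chkP_22600 i (by omega) (by omega)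
  rcases Nat.lt_or_ge i 22800 with h | h
  · exact allRange_sound _ 22700 100 chkP_22700 i (by omega) (by omega)
  exact allRange_sound _ 22800 80 chkP_22800 i (by omega) (by omega)

theorem pts_ok : ∀ p, p < cert.n → checkPoint cert p = true := by
  intro p hp
  have := pts_both p hp
  simp only [Bool.and_eq_true] at this
  exact this.1

theorem orb_ok : ∀ p, p < cert.n → checkOrb cert p = true := by
  intro p hp
  have := pts_both p hp
  simp only [Bool.and_eq_true] at this
  exact this.2

end Cfsg.Agent.Lib.Helper28.Suz2Data
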