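import Cfsg.Agent.Lib.Helper28.Suz2Data
import Cfsg.Agent.Lib.Helper28.TCSound

set_option autoImplicit false
set_option maxRecDepth 1000000
set_option linter.all false
set_option Elab.async false

namespace Cfsg.Agent.Lib.Helper28.Suz2Data

open Cfsg.Agent.Lib.Helper28

theorem chkF_0 : allRange (checkFact cert) 0 2000 = true := by decide +kernel
theorem chkF_12000 : allRange (checkFact cert) 12000 2000 = true := by decide +kernel
theorem chkF_24000 : allRange (checkFact cert) 24000 2000 = true := by decide +kernel
theorem chkF_36000 : allRange (checkFact cert) 36000 2000 = true := by decide +kernel
theorem chkF_48000 : allRange (checkFact cert) 48000 2000 = true := by decide +kernel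
theorem chkF_60000 : allRange (checkFact cert) 60000 2000 = true := by decide +kernel
theorem chkF_72000 : allRange (checkFact cert) 72000 2000 = true := by decide +kernel
theorem chkF_84000 : allRange (checkFact cert) 84000 2000 = true := by decide +kernel
theorem chkF_96000 : allRange (checkFact cert) 96000 2000 = true := by decide +kernel
theorem chkF_108000 : allRange (checkFact cert) 108000 2000 = true := by decide +kernel
theorem chkF_120000 : allRange (checkFact cert) 120000 2000 = true := by decide +kernel
theorem chkF_132000 : allRange (checkFact cert) 132000 2000 = true := by decide +kernel
theorem chkF_144000 : allRange (checkFact cert) 144000 2000 = true := by decide +kernel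
theorem chkF_156000 : allRange (checkFact cert) 156000 2000 = true := by decide +kernel
theorem chkF_168000 : allRange (checkFact cert) 168000 2000 = true := by decide +kernel
theorem chkF_180000 : allRange (checkFact cert) 180000 2000 = true := by decide +kernel
theorem chkP_400 : allRange (fun p => checkPoint cert p && checkOrb cert p) 400 100 = true := by decide +kernel
theorem chkP_1000 : allRange (fun p => checkPoint cert p && checkOrb cert p) 1000 100 = true := by decide +kernel
theorem chkP_1600 : allRange (fun p => checkPoint cert p && checkOrb cert p) 1600 100 = true := by decide +kernel
theorem chkP_2200 : allRange (fun p => checkPoint cert p && checkOrb cert p) 2200 100 = true := by decide +kernel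
theorem chkP_2800 : allRange (fun p => checkPoint cert p && checkOrb cert p) 2800 100 = true := by decide +kernel
theorem chkP_3400 : allRange (fun p => checkPoint cert p && checkOrb cert p) 3400 100 = true := by decide +kernel
theorem chkP_4000 : allRange (fun p => checkPoint cert p && checkOrb cert p) 4000 100 = true := by decide +kernel
theorem chkP_4600 : allRange (fun p => checkPoint cert p && checkOrb cert p) 4600 100 = true := by decide +kernel
theorem chkP_5200 : allRange (fun p => checkPoint cert p && checkOrb cert p) 5200 100 = true := by decide +kernel
theorem chkP_5800 : allRange (fun p => checkPoint cert p && checkOrb cert p) 5800 100 = true := by decide +kernel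
theorem chkP_6400 : allRange (fun p => checkPoint cert p && checkOrb cert p) 6400 100 = true := by decide +kernel
theorem chkP_7000 : allRange (fun p => checkPoint cert p && checkOrb cert p) 7000 100 = true := by decide +kernel
theorem chkP_7600 : allRange (fun p => checkPoint cert p && checkOrb cert p) 7600 100 = true := by decide +kernel
theorem chkP_8200 : allRange (fun p => checkPoint cert p && checkOrb cert p) 8200 100 = true := by decide +kernel
theorem chkP_8800 : allRange (fun p => checkPoint cert p && checkOrb cert p) 8800 100 = true := by decide +kernel
theorem chkP_9400 : allRange (fun p => checkPoint cert p && checkOrb cert p) 9400 100 = true := by decide +kernel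
theorem chkP_10000 : allRange (fun p => checkPoint cert p && checkOrb cert p) 10000 100 = true := by decide +kernel
theorem chkP_10600 : allRange (fun p => checkPoint cert p && checkOrb cert p) 10600 100 = true := by decide +kernel
theorem chkP_11200 : allRange (fun p => checkPoint cert p && checkOrb cert p) 11200 100 = true := by decide +kernel
theorem chkP_11800 : allRange (fun p => checkPoint cert p && checkOrb cert p) 11800 100 = true := by decide +kernel
theorem chkP_12400 : allRange (fun p => checkPoint cert p && checkOrb cert p) 12400 100 = true := by decide +kernel
theorem chkP_13000 : allRange (fun p => checkPoint cert p && checkOrb cert p) 13000 100 = true := by decide +kernel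
theorem chkP_13600 : allRange (fun p => checkPoint cert p && checkOrb cert p) 13600 100 = true := by decide +kernel
theorem chkP_14200 : allRange (fun p => checkPoint cert p && checkOrb cert p) 14200 100 = true := by decide +kernel
theorem chkP_14800 : allRange (fun p => checkPoint cert p && checkOrb cert p) 14800 100 = true := by decide +kernel
theorem chkP_15400 : allRange (fun p => checkPoint cert p && checkOrb cert p) 15400 100 = true := by decide +kernel
theorem chkP_16000 : allRange (fun p => checkPoint cert p && checkOrb cert p) 16000 100 = true := by decide +kernel
theorem chkP_16600 : allRange (fun p => checkPoint cert p && checkOrb cert p) 16600 100 = true := by decide +kernel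
theorem chkP_17200 : allRange (fun p => checkPoint cert p && checkOrb cert p) 17200 100 = true := by decide +kernel
theorem chkP_17800 : allRange (fun p => checkPoint cert p && checkOrb cert p) 17800 100 = true := by decide +kernel
theorem chkP_18400 : allRange (fun p => checkPoint cert p && checkOrb cert p) 18400 100 = true := by decide +kernel
theorem chkP_19000 : allRange (fun p => checkPoint cert p && checkOrb cert p) 19000 100 = true := by decide +kernel
theorem chkP_19600 : allRange (fun p => checkPoint cert p && checkOrb cert p) 19600 100 = true := by decide +kernel
theorem chkP_20200 : allRange (fun p => checkPoint cert p && checkOrb cert p) 20200 100 = true := by decide +kernel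
theorem chkP_20800 : allRange (fun p => checkPoint cert p && checkOrb cert p) 20800 100 = true := by decide +kernel
theorem chkP_21400 : allRange (fun p => checkPoint cert p && checkOrb cert p) 21400 100 = true := by decide +kernel
theorem chkP_22000 : allRange (fun p => checkPoint cert p && checkOrb cert p) 22000 100 = true := by decide +kernel
theorem chkP_22600 : allRange (fun p => checkPoint cert p && checkOrb cert p) 22600 100 = true := by decide +kernel

end Cfsg.Agent.Lib.Helper28.Suz2Data
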