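import Cfsg.Prelude.Def_Spor_Suz
import Cfsg.Agent.Lib.Helper28.TCPresented
import Cfsg.Agent.Lib.Helper28.TCOrbit

set_option autoImplicit false
set_option linter.all false

namespace Cfsg.Agent.Lib.Helper28.SuzGlueR

open Cfsg Cfsg.Spor Cfsg.Agent.Lib.Helper28

def genOf : Nat → Suz.Gen
  | 0 => .a | 1 => .b | 2 => .c | 3 => .d | 4 => .e | 5 => .f | _ => .g

def idx : Suz.Gen → Nat
  | .a => 0 | .b => 1 | .c => 2 | .d => 3 | .e => 4 | .f => 5 | .g => 6

def relsL : List (List Nat) := [[0, 0], [0, 2, 0, 2, 0, 2, 0, 2, 0, 2], [0, 4, 0, 4], [0, 6, 0, 6], [0, 8, 0, 8], [0, 10, 0, 10], [0, 12, 0, 12], [], [2, 2], [2, 4, 2, 4, 2, 4], [2, 6, 2, 6], [2, 8, 2, 8], [2, 10, 2, 10, 2, 10], [2, 12, 2, 12, 2, 12], [], [], [4, 4], [4, 6, 4, 6, 4, 6, 4, 6, 4, 6, 4, 6, 4, 6, 4, 6], [4, 8, 4, 8], [4, 10, 4, 10], [4, 12, 4, 12], [], [], [], [6, 6], [6, 8, 6, 8, 6, 8], [6, 10, 6, 10], [6, 12, 6, 12], [], [], [], [], [8, 8], [8, 10, 8, 10], [8, 12,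 8, 12], [], [], [], [], [], [10, 10], [10, 12, 10, 12, 10, 12, 10, 12], [], [], [], [], [], [], [12, 12], [0, 7, 5, 7, 5, 7, 5, 7, 5], [0, 13, 11, 13, 11], [0, 2, 4, 10, 0, 2, 4, 10, 0, 2, 4, 10, 0, 2, 4, 10, 0, 2, 4, 10], [2, 10, 12, 2, 10, 12, 2, 10, 12, 2, 10, 12, 2, 10, 12], [2, 4, 6, 4, 6, 2, 4, 6, 4, 6, 2, 4, 6, 4, 6, 2, 4, 6, 4, 6, 2, 4, 6, 4, 6, 8, 2, 4, 6, 4, 6, 2, 4, 6, 4, 6, 2, 4, 6, 4, 6, 2, 4, 6, 4, 6, 2, 4, 6, 4, 6, 8, 2, 4, 6, 4, 6, 2, 4, 6, 4, 6, 2, 4, 6, 4, 6, 2, 4, 6, 4, 6, 2, 4, 6, 4, 6, 8]]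

abbrev relSet : Set (FreeGroup Suz.Gen) := coxRelators Suz.edges ∪ {r | r ∈ Suz.extra}

theorem hidx : ∀ x : Suz.Gen, idx x < 7 ∧ genOf (idx x) = x := by
  intro x; cases x <;> exact ⟨by decide, rfl⟩

theorem hgi : ∀ i, i < 7 → idx (genOf i) = i := by
  intro i hi
  interval_cases i <;> rfl

theorem node_mem (x : Suz.Gen) : x ∈ coxNodes Suz.edges := by
  cases x <;> decide

theorem cox_word (x y : Suz.Gen) (h : idx x ≤ idx y) :
    (FreeGroup.of x * FreeGroup.of y) ^ coxLabel Suz.edges x y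
      = wordF genOf (relsL.getD (7 * idx x + idx y) []) := by
  cases x <;> cases y <;> first | rfl | exact absurd h (by decide)

theorem label_symm (x y : Suz.Gen) : coxLabel Suz.edges x y = coxLabel Suz.edges y x := by
  cases x <;> cases y <;> rfl

theorem idx_lt (x : Suz.Gen) : idx x < 7 := (hidx x).1

set_option maxRecDepth 100000 in
theorem extra_word (j : Nat) (hj : j < 5) :
    Suz.extra.getD j 1 = wordF genOf (relsL.getD (49 + j) []) := by
  interval_cases j <;> rfl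

theorem rels_empty (j : Nat) (hj : j < 49) (h : j % 7 < j / 7) : relsL.getD j [] = [] := by
  interval_cases j <;> first | rfl | exact absurd h (by decide)

theorem conj_pow_swap {G : Type*} [Group G] (a b : G) (m : ℕ) :
    (a * b) ^ m = b⁻¹ * (b * a) ^ m * b := by
  have h : a * b = b⁻¹ * (b * a) * (b⁻¹)⁻¹ := by group
  rw [h, conj_pow, inv_inv]

theorem hrel1 : ∀ r ∈ relSet, ∃ w ∈ relsL, ∃ g : FreeGroup Suz.Gen, r = g⁻¹ * wordF genOf w * g := by
  intro r hr
  rcases hr with ⟨x, _, y, _, rfl⟩ | hr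
  · by_cases hxy : idx x ≤ idx y
    · refine ⟨relsL.getD (7 * idx x + idx y) [], ?_, 1, ?_⟩
      · apply getD_mem_of_lt
        have := idx_lt x; have := idx_lt y
        show 7 * idx x + idx y < 54
        omega
      · rw [← cox_word x y hxy]; simp
    · refine ⟨relsL.getD (7 * idx y + idx x) [], ?_, FreeGroup.of y, ?_⟩
      · apply getD_mem_of_lt
        have := idx_lt x; have := idx_lt y
        show 7 * idx y + idx x < 54
        omega
      · rw [← cox_word y x (by omega), label_symm x y]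
        exact conj_pow_swap _ _ _
  · have hr' : r ∈ Suz.extra := hr
    obtain ⟨j, hj, rfl⟩ := List.mem_iff_getElem.mp hr'
    have hj' : j < 5 := hj
    refine ⟨relsL.getD (49 + j) [], ?_, 1, ?_⟩
    · apply getD_mem_of_lt
      show 49 + j < 54
      omega
    · rw [← extra_word j hj', List.getD_eq_getElem _ _ hj]; simp

theorem hrel2 : ∀ w ∈ relsL, PresentedGroup.mk relSet (wordF genOf w) = 1 := by
  intro w hw
  obtain ⟨j, hj, rfl⟩ := List.mem_iff_getElem.mp hw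
  have hj' : j < 54 := hj
  rw [← List.getD_eq_getElem relsL [] hj]
  by_cases hc : j < 49
  · by_cases hle : j / 7 ≤ j % 7
    · apply PresentedGroup.one_of_mem
      left
      refine ⟨genOf (j / 7), node_mem _, genOf (j % 7), node_mem _, ?_⟩
      have h1 := hgi (j / 7) (by omega)
      have h2 := hgi (j % 7) (Nat.mod_lt _ (by omega))
      rw [cox_word _ _ (by rw [h1, h2]; exact hle), h1, h2]
      congr 2
      omega
    · rw [rels_empty j hc (by omega)]
      simp [wordF, evw]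
  · apply PresentedGroup.one_of_mem
    right
    have h5 : j - 49 < 5 := by omega
    have := extra_word (j - 49) h5
    have hjj : 49 + (j - 49) = j := by omega
    rw [hjj] at this
    rw [← this, List.getD_eq_getElem _ _ (by exact h5)]
    exact List.getElem_mem _

end Cfsg.Agent.Lib.Helper28.SuzGlueR
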