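import Mathlib

set_option autoImplicit false

namespace Cfsg.Agent.Lib.Helper28

/-- binary trie of naturals, index bits consumed from the least significant end -/
inductive NTrie where
  | lf (v : Nat) : NTrie
  | nd (l r : NTrie) : NTrie

def NTrie.get : NTrie → Nat → Nat
  | .lf v, _ => v
  | .nd l r, i => cond (Nat.beq (i % 2) 0) (l.get (i / 2)) (r.get (i / 2))

/-- packed access: each leaf packs 64 entries, with a table of 65 offsets of 24 bits each -/
def NTrie.getP (t : NTrie) (i : Nat) : Nat :=
  let leaf := t.get (i / 64)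
  let e := i % 64
  let o1 := (leaf >>> (24 * e)) % 16777216
  let o2 := (leaf >>> (24 * (e + 1))) % 16777216
  (leaf >>> (1560 + o1)) % 2 ^ (o2 - o1)

/-- fixed-width field extraction -/
def fixGet (leaf w e : Nat) : Nat := (leaf >>> (w * e)) % 2 ^ w

/-- variable offset window extraction -/
def winGet (leaf off w : Nat) : Nat := (leaf >>> off) % 2 ^ w

def allBelow (f : Nat → Bool) : Nat → Bool
  | 0 => true
  | n + 1 => cond (f n) (allBelow f n) false

/-- check `f lo, f (lo+1), ..., f (lo+len-1)` -/
def allRange (f : Nat → Bool) (lo : Nat) : Nat → Bool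
  | 0 => true
  | n + 1 => cond (f (lo + n)) (allRange f lo n) false

def eqList : List Nat → List Nat → Bool
  | [], [] => true
  | a :: as, b :: bs => cond (Nat.beq a b) (eqList as bs) false
  | _, _ => false

def flipL (l : Nat) : Nat := cond (Nat.beq (l % 2) 0) (l + 1) (l - 1)

def invw : List Nat → List Nat
  | [] => []
  | l :: w => invw w ++ [flipL l]

def pieceF (lbl : Nat) : List Nat := cond (Nat.beq lbl 0) [] [lbl - 1]
def pieceB (lbl : Nat) : List Nat := cond (Nat.beq lbl 0) [] [flipL (lbl - 1)]

def BB : Nat := 1048576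
def SS : Nat := 4194304

def fU (f : Nat) : Nat := f % BB
def fV (f : Nat) : Nat := (f / BB) % BB
def fL (f : Nat) : Nat := f / BB / BB

/-- decode `n` base-`SS` digits -/
def digits : Nat → Nat → List Nat
  | 0, _ => []
  | n + 1, x => (x % SS) :: digits n (x / SS)

structure Cert where
  k : Nat
  n : Nat
  nF : Nat
  F : Nat → Nat
  J : Nat → Nat
  D : Nat → Nat
  rels : List (List Nat)
  subs : List (List Nat)
  T : Nat → Nat
  PP : Nat → Nat
  NO : Nat → Nat
  TAB : Nat → Nat
  rels2 : List (List (List Nat))
  ORB : Nat → Nat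
  ORK : Nat → Nat
  OPAR : Nat → Nat
  ROOT : Nat → Nat

/-- walk along steps (each `2*fid + dir`) from node `cur`, using only facts with index `< lim`. -/
def walk (F : Nat → Nat) (lim : Nat) : Nat → List Nat → Option (Nat × List Nat)
  | cur, [] => some (cur, [])
  | cur, s :: rest =>
    let fid := s / 2
    cond (Nat.blt fid lim)
      (let f := F fid
       cond (Nat.beq (s % 2) 0)
        (cond (Nat.beq (fU f) cur)
          (match walk F lim (fV f) rest with
            | some (e, W) => some (e, pieceF (fL f) ++ W)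
            | none => none)
          none)
        (cond (Nat.beq (fV f) cur)
          (match walk F lim (fU f) rest with
            | some (e, W) => some (e, pieceB (fL f) ++ W)
            | none => none)
          none))
      none

def relWord (C : Cert) (kind idx : Nat) : List Nat :=
  cond (Nat.beq kind 1) ((C.rels2.getD (idx / 8) []).getD (idx % 8) [])
    (cond (Nat.beq kind 2) (C.subs.getD idx []) [idx, flipL idx])

def checkDef (C : Cert) (f : Nat) : Bool :=
  let d := C.D (fV f)
  Nat.blt (fU f) (fV f) && (Nat.beq (d % BB) (fU f) && Nat.beq (d / BB + 1) (fL f))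

def checkCyc (C : Cert) (i f kind dir idx start : Nat) (pre post : List Nat) : Bool :=
  match walk C.F i start pre, walk C.F i start post with
  | some (P, A), some (Q, Dw) =>
    cond (Nat.beq dir 0)
      (Nat.beq (fU f) P && (Nat.beq (fV f) Q &&
        eqList (A ++ (pieceF (fL f) ++ invw Dw)) (relWord C kind idx)))
      (Nat.beq (fU f) Q && (Nat.beq (fV f) P &&
        eqList (A ++ (pieceB (fL f) ++ invw Dw)) (relWord C kind idx)))
    && (cond (Nat.beq kind 2) (Nat.beq start 0) true)
  | _, _ => false

def checkFact (C : Cert) (i : Nat) : Bool :=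
  let f := C.F i
  let j := C.J i
  let kind := j % 4
  cond (Nat.beq kind 0)
    (checkDef C f)
    (let j1 := j / 4
     let dir := j1 % 2
     let j2 := j1 / 2
     let idx := j2 % 4096
     let j3 := j2 / 4096
     let start := j3 % BB
     let j4 := j3 / BB
     let npre := j4 % 1024
     let j5 := j4 / 1024
     let npost := j5 % 1024
     let j6 := j5 / 1024
     let ds := digits (npre + npost) j6
     checkCyc C i f kind dir idx start (ds.take npre) (ds.drop npre))

def tstep (C : Cert) (p l : Nat) : Nat := C.T (p * (2 * C.k) + l)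

def walkT (C : Cert) : Nat → List Nat → Nat
  | p, [] => p
  | p, l :: w => walkT C (tstep C p l) w

def allList (f : List Nat → Bool) : List (List Nat) → Bool
  | [] => true
  | w :: ws => cond (f w) (allList f ws) false

def allLetters (f : Nat → Bool) : List Nat → Bool
  | [] => true
  | l :: w => cond (f l) (allLetters f w) false

def checkP1 (C : Cert) (p : Nat) : Bool :=
  allBelow (fun l => Nat.blt (tstep C p l) C.n && Nat.beq (tstep C (tstep C p l) (flipL l)) p) (2 * C.k)

def checkP2 (C : Cert) (p : Nat) : Bool :=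
  allList (fun w => Nat.beq (walkT C p w) p) C.rels

def checkP4 (C : Cert) (p : Nat) : Bool :=
  Nat.beq p 0 || (Nat.blt (C.PP p / (2 * C.k)) p &&
    Nat.beq (tstep C (C.PP p / (2 * C.k)) (C.PP p % (2 * C.k))) p)

def checkP5 (C : Cert) (p : Nat) : Bool :=
  allBelow (fun i =>
    Nat.blt (C.TAB (p * C.k + i)) C.nF &&
      ((Nat.beq (fU (C.F (C.TAB (p * C.k + i)))) (C.NO p) &&
        (Nat.beq (fL (C.F (C.TAB (p * C.k + i)))) (2 * i + 1) &&
         Nat.beq (fV (C.F (C.TAB (p * C.k + i)))) (C.NO (tstep C p (2 * i))))) ||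
       (Nat.beq (fU (C.F (C.TAB (p * C.k + i)))) (C.NO (tstep C p (2 * i))) &&
        (Nat.beq (fL (C.F (C.TAB (p * C.k + i)))) (2 * i + 2) &&
         Nat.beq (fV (C.F (C.TAB (p * C.k + i)))) (C.NO p))))) C.k

def checkPoint (C : Cert) (p : Nat) : Bool :=
  checkP1 C p && (checkP2 C p && (checkP4 C p && checkP5 C p))

def eqLL : List (List Nat) → List (List Nat) → Bool
  | [], [] => true
  | a :: as, b :: bs => cond (eqList a b) (eqLL as bs) false
  | _, _ => false

def checkRels2 (C : Cert) : Bool := eqLL C.rels2.flatten C.rels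

def checkGlobal (C : Cert) : Bool :=
  Nat.beq (C.NO 0) 0 && (Nat.blt 0 C.n && (Nat.blt 0 C.k &&
    (allList (fun w => Nat.beq (walkT C 0 w) 0) C.subs &&
      allList (allLetters (fun l => Nat.blt l (2 * C.k))) (C.rels ++ C.subs))))

def checkOrb (C : Cert) (p : Nat) : Bool :=
  allList (fun w => Nat.beq (C.ORB (walkT C p w)) (C.ORB p)) C.subs &&
  cond (Nat.beq (C.ORK p) 0) (Nat.beq p (C.ROOT (C.ORB p)))
    (Nat.blt (C.OPAR p / 1024) C.n && (Nat.blt (C.ORK (C.OPAR p / 1024)) (C.ORK p) &&
      (Nat.blt (C.OPAR p % 1024 / 2) C.subs.length &&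
        cond (Nat.beq (C.OPAR p % 2) 0)
          (Nat.beq (walkT C (C.OPAR p / 1024) (C.subs.getD (C.OPAR p % 1024 / 2) [])) p)
          (Nat.beq (walkT C p (C.subs.getD (C.OPAR p % 1024 / 2) [])) (C.OPAR p / 1024)))))

def countLab (ORB : Nat → Nat) (lam : Nat) : Nat → Nat
  | 0 => 0
  | n + 1 => countLab ORB lam n + cond (Nat.beq (ORB n) lam) 1 0

end Cfsg.Agent.Lib.Helper28
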