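import Cfsg.Agent.Lib.Helper28.TCSoundB

set_option autoImplicit false

namespace Cfsg.Agent.Lib.Helper28B

theorem allBelow_sound (f : Nat → Bool) : ∀ n, allBelow f n = true → ∀ i, i < n → f i = true := by
  intro n
  induction n with
  | zero => intro _ i hi; omega
  | succ n ih =>
    intro h i hi
    simp only [allBelow] at h
    by_cases hf : f n = true
    · rw [hf] at h
      simp only [cond_true] at h
      by_cases hin : i = n
      · rw [hin]; exact hf
      · exact ih h i (by omega)
    · have : f n = false := Bool.eq_false_iff.mpr hf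
      rw [this] at h
      simp at h

theorem allList_sound (f : List Nat → Bool) :
    ∀ ws, allList f ws = true → ∀ w ∈ ws, f w = true := by
  intro ws
  induction ws with
  | nil => intro _ w hw; simp at hw
  | cons a as ih =>
    intro h w hw
    simp only [allList] at h
    by_cases hf : f a = true
    · rw [hf] at h
      simp only [cond_true] at h
      rcases List.mem_cons.mp hw with rfl | hw'
      · exact hf
      · exact ih h w hw'
    · have : f a = false := Bool.eq_false_iff.mpr hf
      rw [this] at h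
      simp at h

theorem allLetters_sound (f : Nat → Bool) :
    ∀ w, allLetters f w = true → ∀ l ∈ w, f l = true := by
  intro w
  induction w with
  | nil => intro _ l hl; simp at hl
  | cons a as ih =>
    intro h l hl
    simp only [allLetters] at h
    by_cases hf : f a = true
    · rw [hf] at h
      simp only [cond_true] at h
      rcases List.mem_cons.mp hl with rfl | hl'
      · exact hf
      · exact ih h l hl'
    · have : f a = false := Bool.eq_false_iff.mpr hf
      rw [this] at h
      simp at h

theorem letG_even {G : Type*} [Group G] (gam : Nat → G) (i : Nat) : letG gam (2 * i) = gam i := by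
  have h1 : (2 * i) % 2 = 0 := by omega
  have h2 : (2 * i) / 2 = i := by omega
  simp [letG, h1, h2]

theorem letG_odd {G : Type*} [Group G] (gam : Nat → G) (i : Nat) :
    letG gam (2 * i + 1) = (gam i)⁻¹ := by
  have h1 : (2 * i + 1) % 2 = 1 := by omega
  have h2 : (2 * i + 1) / 2 = i := by omega
  simp [letG, h1, h2, beq_one_zero]

section PartA

variable (C : Cert) {G : Type*} [Group G] (H : Subgroup G) (gam : Nat → G)

/-- base point of the coset space -/
def basePt : G ⧸ H := ((1 : G) : G ⧸ H)

def psi (p : Nat) : G ⧸ H := cval C gam (basePt H) (C.NO p)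

theorem hrels_of (hrels : ∀ w ∈ C.rels, evw gam w = 1) :
    ∀ w ∈ C.rels, ∀ x : G ⧸ H, ract x (evw gam w) = x := by
  intro w hw x
  rw [hrels w hw, ract_one]

theorem hsubs_of (hsubs : ∀ w ∈ C.subs, evw gam w ∈ H) :
    ∀ w ∈ C.subs, ract (basePt H) (evw gam w) = basePt H := by
  intro w hw
  unfold ract basePt
  show (((evw gam w)⁻¹ * 1 : G) : G ⧸ H) = ((1 : G) : G ⧸ H)
  rw [QuotientGroup.eq]
  simpa using hsubs w hw

theorem gen_equiv
    (hfacts : ∀ i, i < C.nF → factHolds C gam (basePt H) (C.F i))
    (p i : Nat) (hi : i < C.k) (h5 : checkP5 C p = true) :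
    ract (psi C H gam p) (gam i) = psi C H gam (tstep C p (2 * i)) := by
  have h := allBelow_sound _ _ h5 i hi
  simp only [Bool.and_eq_true, Bool.or_eq_true] at h
  obtain ⟨ht, hcase⟩ := h
  have ht' : C.TAB (p * C.k + i) < C.nF := by simpa [Nat.blt] using ht
  have hf := hfacts _ ht'
  unfold factHolds at hf
  unfold psi
  rcases hcase with ⟨hu, hl, hv⟩ | ⟨hu, hl, hv⟩
  · have hu' := Nat.eq_of_beq_eq_true hu
    have hl' := Nat.eq_of_beq_eq_true hl
    have hv' := Nat.eq_of_beq_eq_true hv
    rw [hu', hl', hv'] at hf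
    have hb : Nat.beq (2 * i + 1) 0 = false := rfl
    simp only [pieceF, hb, cond_false, Nat.add_sub_cancel, evw, mul_one, letG_even] at hf
    exact hf
  · have hu' := Nat.eq_of_beq_eq_true hu
    have hl' := Nat.eq_of_beq_eq_true hl
    have hv' := Nat.eq_of_beq_eq_true hv
    rw [hu', hl', hv'] at hf
    have hb : Nat.beq (2 * i + 2) 0 = false := rfl
    have hsub : 2 * i + 2 - 1 = 2 * i + 1 := by omega
    simp only [pieceF, hb, cond_false, hsub, evw, mul_one, letG_odd] at hf
    rw [← hf, ract_cancel_inv]

theorem p1_lt (p l : Nat) (hl : l < 2 * C.k) (h1 : checkP1 C p = true) : tstep C p l < C.n := by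
  have h := allBelow_sound _ _ h1 l hl
  simp only [Bool.and_eq_true] at h
  simpa [Nat.blt] using h.1

theorem p1_inv (p l : Nat) (hl : l < 2 * C.k) (h1 : checkP1 C p = true) :
    tstep C (tstep C p l) (flipL l) = p := by
  have h := allBelow_sound _ _ h1 l hl
  simp only [Bool.and_eq_true] at h
  exact Nat.eq_of_beq_eq_true h.2

theorem flipL_odd' (i : Nat) : flipL (2 * i + 1) = 2 * i := by
  rw [flipL_odd _ (by omega)]; omega

theorem flipL_even' (i : Nat) : flipL (2 * i) = 2 * i + 1 := by
  rw [flipL_even _ (by omega)]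

theorem gen_equiv_inv
    (hfacts : ∀ i, i < C.nF → factHolds C gam (basePt H) (C.F i))
    (hpts : ∀ p, p < C.n → checkPoint C p = true)
    (p i : Nat) (hp : p < C.n) (hi : i < C.k) :
    ract (psi C H gam p) (gam i)⁻¹ = psi C H gam (tstep C p (2 * i + 1)) := by
  have hcp := hpts p hp
  simp only [checkPoint, Bool.and_eq_true] at hcp
  obtain ⟨h1, -, -, -⟩ := hcp
  have hq : tstep C p (2 * i + 1) < C.n := p1_lt C p _ (by omega) h1
  have hback : tstep C (tstep C p (2 * i + 1)) (2 * i) = p := by
    have := p1_inv C p (2 * i + 1) (by omega) h1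
    rwa [flipL_odd'] at this
  have hcq := hpts _ hq
  simp only [checkPoint, Bool.and_eq_true] at hcq
  obtain ⟨-, -, -, h5q⟩ := hcq
  have := gen_equiv C H gam hfacts (tstep C p (2 * i + 1)) i hi h5q
  rw [hback] at this
  rw [← this, ract_inv_cancel]

theorem image_closed
    (hfacts : ∀ i, i < C.nF → factHolds C gam (basePt H) (C.F i))
    (hpts : ∀ p, p < C.n → checkPoint C p = true)
    (hgen : Subgroup.closure (gam '' {i | i < C.k}) = ⊤) (g : G) :
    (∀ x ∈ psi C H gam '' {p | p < C.n}, ract x g ∈ psi C H gam '' {p | p < C.n}) ∧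
    (∀ x ∈ psi C H gam '' {p | p < C.n}, ract x g⁻¹ ∈ psi C H gam '' {p | p < C.n}) := by
  have hg : g ∈ Subgroup.closure (gam '' {i | i < C.k}) := by rw [hgen]; trivial
  induction hg using Subgroup.closure_induction with
  | mem y hy =>
    obtain ⟨i, hi, rfl⟩ := hy
    have hi' : i < C.k := hi
    constructor
    · rintro x ⟨p, hp, rfl⟩
      have hp' : p < C.n := hp
      have hcp := hpts p hp'
      simp only [checkPoint, Bool.and_eq_true] at hcp
      obtain ⟨h1, -, -, h5⟩ := hcp
      refine ⟨tstep C p (2 * i), p1_lt C p _ (by omega) h1, ?_⟩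
      exact (gen_equiv C H gam hfacts p i hi' h5).symm
    · rintro x ⟨p, hp, rfl⟩
      have hp' : p < C.n := hp
      have hcp := hpts p hp'
      simp only [checkPoint, Bool.and_eq_true] at hcp
      obtain ⟨h1, -, -, -⟩ := hcp
      refine ⟨tstep C p (2 * i + 1), p1_lt C p _ (by omega) h1, ?_⟩
      exact (gen_equiv_inv C H gam hfacts hpts p i hp' hi').symm
  | one =>
    constructor
    · intro x hx; rw [ract_one]; exact hx
    · intro x hx; rw [inv_one, ract_one]; exact hx
  | mul a b _ _ ha hb =>
    constructor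
    · intro x hx; rw [ract_mul]; exact hb.1 _ (ha.1 _ hx)
    · intro x hx; rw [mul_inv_rev, ract_mul]; exact ha.2 _ (hb.2 _ hx)
  | inv a _ ha =>
    constructor
    · exact ha.2
    · intro x hx; rw [inv_inv]; exact ha.1 x hx

theorem psi_zero (hglob : checkGlobal C = true) : psi C H gam 0 = basePt H := by
  simp only [checkGlobal, Bool.and_eq_true] at hglob
  have h0 : C.NO 0 = 0 := Nat.eq_of_beq_eq_true hglob.1
  unfold psi
  rw [h0, cval_zero]

theorem image_univ
    (hfacts : ∀ i, i < C.nF → factHolds C gam (basePt H) (C.F i))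
    (hpts : ∀ p, p < C.n → checkPoint C p = true)
    (hglob : checkGlobal C = true)
    (hgen : Subgroup.closure (gam '' {i | i < C.k}) = ⊤) :
    psi C H gam '' {p | p < C.n} = Set.univ := by
  rw [Set.eq_univ_iff_forall]
  intro x
  obtain ⟨a, rfl⟩ := QuotientGroup.mk_surjective x
  have hn : 0 < C.n := by
    simp only [checkGlobal, Bool.and_eq_true] at hglob
    have := hglob.2.1
    simp [Nat.blt] at this
    omega
  have h0 : basePt H ∈ psi C H gam '' {p | p < C.n} := ⟨0, hn, psi_zero C H gam hglob⟩
  have := (image_closed C H gam hfacts hpts hgen a⁻¹).1 _ h0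
  have he : ract (basePt H) a⁻¹ = ((a : G) : G ⧸ H) := by
    unfold ract basePt
    rw [inv_inv]
    show ((a * 1 : G) : G ⧸ H) = _
    rw [mul_one]
  rwa [he] at this

theorem ncard_lt (n : Nat) : ({p | p < n} : Set Nat).ncard = n := by
  have : ({p | p < n} : Set Nat) = ↑(Finset.range n) := by
    ext p; simp
  rw [this, Set.ncard_coe_finset, Finset.card_range]

theorem finite_lt (n : Nat) : ({p | p < n} : Set Nat).Finite := by
  have : ({p | p < n} : Set Nat) = ↑(Finset.range n) := by
    ext p; simp
  rw [this]; exact Finset.finite_toSet _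

theorem index_le
    (hfacts : ∀ i, i < C.nF → factHolds C gam (basePt H) (C.F i))
    (hpts : ∀ p, p < C.n → checkPoint C p = true)
    (hglob : checkGlobal C = true)
    (hgen : Subgroup.closure (gam '' {i | i < C.k}) = ⊤) :
    Finite (G ⧸ H) ∧ H.index ≤ C.n := by
  have hu := image_univ C H gam hfacts hpts hglob hgen
  have hfin : (Set.univ : Set (G ⧸ H)).Finite := by
    rw [← hu]; exact (finite_lt C.n).image _
  constructor
  · exact Set.finite_univ_iff.mp hfin
  · rw [Subgroup.index_eq_card, ← Set.ncard_univ, ← hu]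
    calc (psi C H gam '' {p | p < C.n}).ncard ≤ ({p | p < C.n} : Set Nat).ncard :=
          Set.ncard_image_le (finite_lt C.n)
      _ = C.n := ncard_lt C.n

end PartA

section PartB

variable (C : Cert) {G : Type*} [Group G] (H : Subgroup G) (gam : Nat → G)
  (φ : G →* Equiv.Perm ℕ)

/-- right action on naturals induced by `φ` -/
def rN (p : ℕ) (g : G) : ℕ := (φ g)⁻¹ p

theorem rN_one (p : ℕ) : rN φ p 1 = p := by simp [rN]

theorem rN_mul (p : ℕ) (g h : G) : rN φ p (g * h) = rN φ (rN φ p g) h := by
  simp [rN, mul_inv_rev]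

theorem rN_inv_cancel (p : ℕ) (g : G) : rN φ (rN φ p g) g⁻¹ = p := by
  simp [rN]

theorem rN_cancel_inv (p : ℕ) (g : G) : rN φ (rN φ p g⁻¹) g = p := by
  simp [rN]

theorem rN_letter
    (hφ : ∀ i, i < C.k → ∀ p, p < C.n → rN φ p (gam i) = tstep C p (2 * i))
    (hpts : ∀ p, p < C.n → checkPoint C p = true)
    (l p : Nat) (hl : l < 2 * C.k) (hp : p < C.n) :
    rN φ p (letG gam l) = tstep C p l := by
  have hcp := hpts p hp
  simp only [checkPoint, Bool.and_eq_true] at hcp
  obtain ⟨h1, -, -, -⟩ := hcp
  rcases Nat.even_or_odd' l with ⟨i, hi | hi⟩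
  · subst hi
    rw [letG_even]
    exact hφ i (by omega) p hp
  · subst hi
    rw [letG_odd]
    have hq : tstep C p (2 * i + 1) < C.n := p1_lt C p _ hl h1
    have hback : tstep C (tstep C p (2 * i + 1)) (2 * i) = p := by
      have := p1_inv C p (2 * i + 1) hl h1
      rwa [flipL_odd'] at this
    have := hφ i (by omega) _ hq
    rw [hback] at this
    calc rN φ p (gam i)⁻¹ = rN φ (rN φ (tstep C p (2 * i + 1)) (gam i)) (gam i)⁻¹ := by rw [this]
      _ = tstep C p (2 * i + 1) := rN_inv_cancel φ _ _

theorem rN_word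
    (hφ : ∀ i, i < C.k → ∀ p, p < C.n → rN φ p (gam i) = tstep C p (2 * i))
    (hpts : ∀ p, p < C.n → checkPoint C p = true) :
    ∀ (w : List Nat), (∀ l ∈ w, l < 2 * C.k) → ∀ p, p < C.n →
      rN φ p (evw gam w) = walkT C p w ∧ walkT C p w < C.n := by
  intro w
  induction w with
  | nil => intro _ p hp; simp [evw, walkT, rN_one, hp]
  | cons l w ih =>
    intro hw p hp
    have hl : l < 2 * C.k := hw l (by simp)
    have hcp := hpts p hp
    simp only [checkPoint, Bool.and_eq_true] at hcp
    obtain ⟨h1, -, -, -⟩ := hcp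
    have hq : tstep C p l < C.n := p1_lt C p _ hl h1
    have := ih (fun l' hl' => hw l' (by simp [hl'])) _ hq
    simp only [evw, walkT, rN_mul, rN_letter C gam φ hφ hpts l p hl hp]
    exact this

theorem rN_invariant
    (hφ : ∀ i, i < C.k → ∀ p, p < C.n → rN φ p (gam i) = tstep C p (2 * i))
    (hpts : ∀ p, p < C.n → checkPoint C p = true)
    (hgen : Subgroup.closure (gam '' {i | i < C.k}) = ⊤) (g : G) :
    (∀ p, p < C.n → rN φ p g < C.n) ∧ (∀ p, p < C.n → rN φ p g⁻¹ < C.n) := by
  have hg : g ∈ Subgroup.closure (gam '' {i | i < C.k}) := by rw [hgen]; trivial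
  induction hg using Subgroup.closure_induction with
  | mem y hy =>
    obtain ⟨i, hi, rfl⟩ := hy
    have hi' : i < C.k := hi
    constructor
    · intro p hp
      have hcp := hpts p hp
      simp only [checkPoint, Bool.and_eq_true] at hcp
      obtain ⟨h1, -, -, -⟩ := hcp
      have := rN_letter C gam φ hφ hpts (2 * i) p (by omega) hp
      rw [letG_even] at this
      rw [this]
      exact p1_lt C p _ (by omega) h1
    · intro p hp
      have hcp := hpts p hp
      simp only [checkPoint, Bool.and_eq_true] at hcp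
      obtain ⟨h1, -, -, -⟩ := hcp
      have := rN_letter C gam φ hφ hpts (2 * i + 1) p (by omega) hp
      rw [letG_odd] at this
      rw [this]
      exact p1_lt C p _ (by omega) h1
  | one =>
    constructor
    · intro p hp; rw [rN_one]; exact hp
    · intro p hp; rw [inv_one, rN_one]; exact hp
  | mul a b _ _ ha hb =>
    constructor
    · intro p hp; rw [rN_mul]; exact hb.1 _ (ha.1 _ hp)
    · intro p hp; rw [mul_inv_rev, rN_mul]; exact ha.2 _ (hb.2 _ hp)
  | inv a _ ha =>
    constructor
    · exact ha.2
    · intro p hp; rw [inv_inv]; exact ha.1 p hp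

theorem index_ge
    (hφ : ∀ i, i < C.k → ∀ p, p < C.n → rN φ p (gam i) = tstep C p (2 * i))
    (hpts : ∀ p, p < C.n → checkPoint C p = true)
    (hglob : checkGlobal C = true)
    (hgen : Subgroup.closure (gam '' {i | i < C.k}) = ⊤)
    (hH : H ≤ Subgroup.closure {g | ∃ w ∈ C.subs, g = evw gam w})
    (hfin : Finite (G ⧸ H)) : C.n ≤ H.index := by
  let _inst : MulAction G ℕ := MulAction.compHom ℕ φ
  have hsmul : ∀ (g : G) (p : ℕ), g • p = φ g p := fun _ _ => rfl
  simp only [checkGlobal, Bool.and_eq_true] at hglob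
  obtain ⟨-, hn, hk, hsub0, hlet⟩ := hglob
  have hk' : 0 < C.k := by simp [Nat.blt] at hk; omega
  have hletters : ∀ w ∈ C.rels ++ C.subs, ∀ l ∈ w, l < 2 * C.k := by
    intro w hw l hl
    have := allLetters_sound _ _ (allList_sound _ _ hlet w hw) l hl
    simpa [Nat.blt] using this
  have hn' : 0 < C.n := by simp [Nat.blt] at hn; omega
  -- orbit of 0
  have horb : MulAction.orbit G (0 : ℕ) = {p | p < C.n} := by
    ext p
    constructor
    · rintro ⟨g, rfl⟩
      have := (rN_invariant C gam φ hφ hpts hgen g).2 0 hn'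
      simp only [rN, map_inv, inv_inv] at this
      exact this
    · intro hp
      have hp' : p < C.n := hp
      induction p using Nat.strong_induction_on with
      | _ p ih =>
        by_cases h0 : p = 0
        · subst h0; exact MulAction.mem_orbit_self _
        · have hcp := hpts p hp'
          simp only [checkPoint, Bool.and_eq_true] at hcp
          obtain ⟨-, -, h4, -⟩ := hcp
          simp only [checkP4, Bool.or_eq_true, Bool.and_eq_true] at h4
          rcases h4 with h4 | ⟨h4a, h4b⟩
          · exact absurd (Nat.eq_of_beq_eq_true h4) h0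
          · have hq : C.PP p / (2 * C.k) < p := by simpa [Nat.blt] using h4a
            have hst : tstep C (C.PP p / (2 * C.k)) (C.PP p % (2 * C.k)) = p :=
              Nat.eq_of_beq_eq_true h4b
            have hqn : C.PP p / (2 * C.k) < C.n := by omega
            obtain ⟨g, hg⟩ := ih _ hq hqn hqn
            have hl : C.PP p % (2 * C.k) < 2 * C.k := Nat.mod_lt _ (by omega)
            have := rN_letter C gam φ hφ hpts _ _ hl hqn
            rw [hst] at this
            refine ⟨(letG gam (C.PP p % (2 * C.k)))⁻¹ * g, ?_⟩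
            show ((letG gam (C.PP p % (2 * C.k)))⁻¹ * g) • (0 : ℕ) = p
            rw [mul_smul]
            have hg' : g • (0 : ℕ) = C.PP p / (2 * C.k) := hg
            rw [hg', hsmul, map_inv]
            exact this
  -- H ≤ stabilizer
  have hstab : H ≤ MulAction.stabilizer G (0 : ℕ) := by
    refine hH.trans ?_
    rw [Subgroup.closure_le]
    rintro g ⟨w, hw, rfl⟩
    have hw0 := allList_sound _ _ hsub0 w hw
    have hw0' : walkT C 0 w = 0 := Nat.eq_of_beq_eq_true hw0
    have := (rN_word C gam φ hφ hpts w (hletters w (by simp [hw])) 0 hn').1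
    rw [hw0'] at this
    show evw gam w • (0 : ℕ) = 0
    rw [hsmul]
    simp only [rN] at this
    have h2 := congrArg (φ (evw gam w)) this
    simpa using h2.symm
  have hfi : H.FiniteIndex := Subgroup.finiteIndex_iff_finite_quotient.mpr hfin
  calc C.n = ({p | p < C.n} : Set ℕ).ncard := (ncard_lt C.n).symm
    _ = (MulAction.orbit G (0 : ℕ)).ncard := by rw [horb]
    _ = (MulAction.stabilizer G (0 : ℕ)).index := (MulAction.index_stabilizer G (0 : ℕ)).symm
    _ ≤ H.index := Subgroup.index_antitone hstab

/-- all the data and checks needed by the final theorems -/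
structure Setup : Prop where
  hφ : ∀ i, i < C.k → ∀ p, p < C.n → rN φ p (gam i) = tstep C p (2 * i)
  hgen : Subgroup.closure (gam '' {i | i < C.k}) = ⊤
  hrels : ∀ w ∈ C.rels, evw gam w = 1
  hsubs : ∀ w ∈ C.subs, evw gam w ∈ H
  hH : H ≤ Subgroup.closure {g | ∃ w ∈ C.subs, g = evw gam w}
  hr2 : checkRels2 C = true
  hfacts : ∀ i, i < C.nF → checkFact C i = true
  hpts : ∀ p, p < C.n → checkPoint C p = true
  hglob : checkGlobal C = true

variable {C H gam φ}

theorem Setup.facts (S : Setup C H gam φ) :
    ∀ i, i < C.nF → factHolds C gam (basePt H) (C.F i) :=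
  all_facts C gam (basePt H) S.hr2 (hrels_of C H gam S.hrels) (hsubs_of C H gam S.hsubs) S.hfacts

theorem Setup.index_eq (S : Setup C H gam φ) : H.index = C.n := by
  obtain ⟨hfin, hle⟩ := index_le C H gam S.facts S.hpts S.hglob S.hgen
  have hge := index_ge C H gam φ S.hφ S.hpts S.hglob S.hgen S.hH hfin
  omega

theorem Setup.finite (S : Setup C H gam φ) : Finite (G ⧸ H) :=
  (index_le C H gam S.facts S.hpts S.hglob S.hgen).1

end PartB

end Cfsg.Agent.Lib.Helper28B
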